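import Cfsg.Agent.Helper17.ONTC.Fin15

set_option autoImplicit false
set_option linter.all false
set_option maxRecDepth 100000

noncomputable section

namespace Cfsg.Agent.Helper17.ONTC

theorem Q27242 : ∀ i, i < 27242 → P i := stepQ 27241 Q27241 (allL N27241 (tt N50713 F294678) (tt N27101 F157568) (tt N13613 (iv2 D44078)) (tt N50717 F294679) (tt N26094 F69421) (tt N51522 D94288) (tt N51523 D94289) (tt N50714 F294680))
theorem Q27243 : ∀ i, i < 27243 → P i := stepQ 27242 Q27242 (allL N27242 (tt N51524 D94290) (tt N51525 D94291) (tt N51522 (iv2 F145422)) (tt N13614 F69422) (tt N51526 D94292) (tt N13613 (iv5 D44079)) (tt N51527 D94293) (tt N49854 F292782))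
theorem Q27244 : ∀ i, i < 27244 → P i := stepQ 27243 Q27243 (allL N27243 (tt N51528 D94294) (tt N51529 D94295) (tt N51523 (iv2 F145423)) (tt N13615 F69423) (tt N48790 (iv4 F134455)) (tt N50123 (iv5 F138934)) (tt N13613 (iv6 D44080)) (tt N50363 (iv7 F139597)))
theorem Q27245 : ∀ i, i < 27245 → P i := stepQ 27244 Q27244 (allL N27244 (tt N51530 D94306) (tt N51531 D94307) (tt N49857 F292786) (tt N51527 (iv3 F145425)) (tt N47634 F292787) (tt N50125 (iv5 F138939)) (tt N13614 (iv6 D44084)) (tt N51532 D94308))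
theorem Q27246 : ∀ i, i < 27246 → P i := stepQ 27245 Q27245 (allL N27245 (tt N13616 (iv1 D44087)) (tt N50717 (iv0 F294538)) (tt N50716 (iv2 F294532)) (tt N27130 F144799) (tt N27523 F144800) (tt N51533 D94314) (tt N27137 F157581) (tt N23253 F157271))
theorem Q27247 : ∀ i, i < 27247 → P i := stepQ 27246 Q27246 (allL N27246 (tt N23253 F157273) (tt N50716 (iv0 F294531)) (tt N13616 (iv2 D44088)) (tt N50714 (iv3 F294242)) (tt N49984 (iv4 F294945)) (tt N51534 D94317) (tt N51535 D94318) (tt N50717 (iv7 F294540)))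
theorem Q27248 : ∀ i, i < 27248 → P i := stepQ 27247 Q27247 (allL N27247 (tt N51536 D94320) (tt N51537 D94321) (tt N51534 (iv2 F145461)) (tt N13617 F69438) (tt N51538 D94322) (tt N13616 (iv5 D44090)) (tt N51539 D94323) (tt N49856 F292788))
theorem Q27249 : ∀ i, i < 27249 → P i := stepQ 27248 Q27248 (allL N27248 (tt N51540 D94324) (tt N51541 D94325) (tt N51535 (iv2 F145462)) (tt N13618 F69439) (tt N49966 (iv4 F138098)) (tt N49265 (iv5 F135579)) (tt N13616 (iv6 D44091)) (tt N51542 D94326))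
theorem Q27250 : ∀ i, i < 27250 → P i := stepQ 27249 Q27249 (allL N27249 (tt N51543 D94330) (tt N51544 D94331) (tt N49855 F292789) (tt N51539 (iv3 F145465)) (tt N47633 F292790) (tt N49266 (iv5 F135586)) (tt N13617 (iv6 D44093)) (tt N51545 D94332))
theorem Q27251 : ∀ i, i < 27251 → P i := stepQ 27250 Q27250 (allL N27250 (tt N25569 (iv1 F69442)) (tt N26808 F69443) (tt N48624 F133607) (tt N51542 (iv3 F145466)) (tt N26269 F69440) (tt N25933 F69441) (tt N29329 (iv6 F292147)) (tt N13618 (iv7 D44094)))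
theorem Q27252 : ∀ i, i < 27252 → P i := stepQ 27251 Q27251 (allL N27251 (tt N51521 (iv1 F331368)) (tt N51482 (iv0 F151791)) (tt N51546 D94335) (tt N13619 (iv3 D44095)) (tt N51547 D94336) (tt N26295 F292544) (tt N51548 D94337) (tt N29081 (iv7 F292772)))
theorem Q27253 : ∀ i, i < 27253 → P i := stepQ 27252 Q27252 (allL N27252 (tt N47628 F292546) (tt N28138 F74901) (tt N22942 (iv2 F292778)) (tt N51549 D94339) (tt N13619 (iv4 D44096)) (tt N22933 (iv5 F293609)) (tt N51550 D94341) (tt N24898 (iv7 F292775)))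
theorem Q27254 : ∀ i, i < 27254 → P i := stepQ 27253 Q27253 (allL N27253 (tt N51551 D94342) (tt N51552 D94343) (tt N29088 (iv2 F292780)) (tt N51548 (iv3 F145471)) (tt N51550 (iv4 F145476)) (tt N51553 D94344) (tt N13619 (iv6 D44097)) (tt N51554 D94345))
theorem Q27255 : ∀ i, i < 27255 → P i := stepQ 27254 Q27254 (allL N27254 (tt N38216 (iv1 F177448)) (tt N51533 (iv0 F177449)) (tt N51555 D94348) (tt N13620 (iv3 D44098)) (tt N51556 D94349) (tt N26296 F292529) (tt N51557 D94350) (tt N29086 (iv7 F292777)))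
theorem Q27256 : ∀ i, i < 27256 → P i := stepQ 27255 Q27255 (allL N27255 (tt N28138 (iv1 F72756)) (tt N47628 F292533) (tt N24898 (iv2 F292774)) (tt N51558 D94351) (tt N13620 (iv4 D44099)) (tt N22943 (iv5 F293606)) (tt N51559 D94353) (tt N22942 (iv7 F292779)))
theorem Q27257 : ∀ i, i < 27257 → P i := stepQ 27256 Q27256 (allL N27256 (tt N51560 D94354) (tt N51561 D94355) (tt N29082 (iv2 F292776)) (tt N51557 (iv3 F145479)) (tt N51559 (iv4 F145481)) (tt N50818 (iv5 F142642)) (tt N13620 (iv6 D44100)) (tt N51562 D94356))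
theorem Q27258 : ∀ i, i < 27258 → P i := stepQ 27257 Q27257 (allL N27257 (tt N26761 (iv1 F292431)) (tt N13621 (iv0 D44101)) (tt N24900 F291532) (tt N51563 D94357) (tt N26000 F291533) (tt N23049 (iv5 F292457)) (tt N51564 D94359) (tt N24903 F291534))
theorem Q27259 : ∀ i, i < 27259 → P i := stepQ 27258 Q27258 (allL N27258 (tt N13621 (iv1 D44102)) (tt N26761 (iv0 F292430)) (tt N24903 F291528) (tt N51565 D94360) (tt N25969 F291529) (tt N23048 (iv5 F292434)) (tt N51566 D94362) (tt N24900 F291530))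
theorem Q27260 : ∀ i, i < 27260 → P i := stepQ 27259 Q27259 (allL N27259 (tt N51567 D94363) (tt N51568 D94364) (tt N51569 D94365) (tt N13621 (iv3 D44103)) (tt N27155 F69444) (tt N45961 (iv5 F293691)) (tt N51517 (iv6 F145405)) (tt N50718 F293460))
theorem Q27261 : ∀ i, i < 27261 → P i := stepQ 27260 Q27260 (allL N27260 (tt N13622 (iv1 D44114)) (tt N48612 F133577) (tt N14600 (iv2 F292061)) (tt N28467 F291572) (tt N27901 (iv4 F71754)) (tt N26610 F69455) (tt N49829 F291573) (tt N26779 F71755))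
theorem Q27262 : ∀ i, i < 27262 → P i := stepQ 27261 Q27261 (allL N27261 (tt N49844 F292632) (tt N13623 (iv0 D44117)) (tt N49843 F292633) (tt N27164 (iv3 F144763)) (tt N51347 F144762) (tt N51570 D94393) (tt N27164 (iv6 F178327)) (tt N26783 (iv7 F178352)))
theorem Q27263 : ∀ i, i < 27263 → P i := stepQ 27262 Q27262 (allL N27262 (tt N49843 F292628) (tt N26783 (iv0 F205487)) (tt N13623 (iv2 D44119)) (tt N26014 (iv3 F293482)) (tt N50677 (iv4 F293677)) (tt N51571 D94399) (tt N51572 D94400) (tt N49844 F292629))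
theorem Q27264 : ∀ i, i < 27264 → P i := stepQ 27263 Q27263 (allL N27263 (tt N49324 F292570) (tt N49329 F292571) (tt N51571 (iv2 F145561)) (tt N13624 F69460) (tt N51573 D94403) (tt N13623 (iv5 D44120)) (tt N51574 D94404) (tt N49845 (iv7 F291541)))
theorem Q27265 : ∀ i, i < 27265 → P i := stepQ 27264 Q27264 (allL N27264 (tt N51575 D94405) (tt N51576 D94406) (tt N51572 (iv2 F145562)) (tt N13625 F69461) (tt N49963 (iv4 F138090)) (tt N51577 D94407) (tt N13623 (iv6 D44121)) (tt N50468 (iv7 F139844)))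
theorem Q27266 : ∀ i, i < 27266 → P i := stepQ 27265 Q27265 (allL N27265 (tt N51578 D94416) (tt N51579 D94417) (tt N26019 (iv2 F291539)) (tt N51574 (iv3 F145563)) (tt N47666 (iv4 F291635)) (tt N51580 D94418) (tt N13624 (iv6 D44125)) (tt N51581 D94419))
theorem Q27267 : ∀ i, i < 27267 → P i := stepQ 27266 Q27266 (allL N27266 (tt N13625 (iv1 D44126)) (tt N14252 F291311) (tt N14249 F291312) (tt N51582 D94420) (tt N27004 (iv4 F291670)) (tt N26619 F69468) (tt N27183 (iv6 F69467)) (tt N14248 F291313))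
theorem Q27268 : ∀ i, i < 27268 → P i := stepQ 27267 Q27267 (allL N27267 (tt N26872 F69469) (tt N50131 (iv0 F138954)) (tt N14251 (iv2 F291452)) (tt N51577 (iv3 F145564)) (tt N50127 F138941) (tt N13625 (iv5 D44127)) (tt N51580 (iv6 F145582)) (tt N50169 F139148))
theorem Q27269 : ∀ i, i < 27269 → P i := stepQ 27268 Q27268 (allL N27268 (tt N13627 (iv1 D44139)) (tt N26014 (iv0 F293480)) (tt N26012 (iv2 F293475)) (tt N26011 F291700) (tt N27040 (iv4 F293698)) (tt N51583 D94442) (tt N26010 (iv6 F292088)) (tt N26013 (iv7 F293479)))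
theorem Q27270 : ∀ i, i < 27270 → P i := stepQ 27269 Q27269 (allL N27269 (tt N26013 (iv1 F293477)) (tt N26012 (iv0 F293474)) (tt N13627 (iv2 D44140)) (tt N49844 F292643) (tt N28185 (iv4 F72973)) (tt N51584 D94443) (tt N51585 D94444) (tt N26014 (iv7 F293483)))
theorem Q27271 : ∀ i, i < 27271 → P i := stepQ 27270 Q27270 (allL N27270 (tt N51586 D94445) (tt N51587 D94446) (tt N51584 (iv2 F145621)) (tt N13628 F69481) (tt N51588 D94447) (tt N13627 (iv5 D44141)) (tt N51589 D94448) (tt N26015 (iv7 F291535)))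
theorem Q27272 : ∀ i, i < 27272 → P i := stepQ 27271 Q27271 (allL N27271 (tt N51590 D94449) (tt N50074 (iv0 F138819)) (tt N51585 (iv2 F145622)) (tt N13629 F69482) (tt N28187 (iv4 F72976)) (tt N51591 D94450) (tt N13627 (iv6 D44142)) (tt N51094 (iv7 F143483)))
theorem Q27273 : ∀ i, i < 27273 → P i := stepQ 27272 Q27272 (allL N27272 (tt N51592 D94453) (tt N51593 D94454) (tt N49847 (iv2 F291542)) (tt N51589 (iv3 F145628)) (tt N47664 (iv4 F291652)) (tt N51594 D94455) (tt N13628 (iv6 D44144)) (tt N51595 D94456))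
theorem Q27274 : ∀ i, i < 27274 → P i := stepQ 27273 Q27273 (allL N27273 (tt N48623 (iv1 F133603)) (tt N13629 (iv0 D44145)) (tt N49421 (iv2 F136281)) (tt N51596 D94457) (tt N26780 F69484) (tt N26518 F69483) (tt N27172 F69486) (tt N26822 (iv7 F69485)))
theorem Q27275 : ∀ i, i < 27275 → P i := stepQ 27274 Q27274 (allL N27274 (tt N26884 F69489) (tt N26882 F69488) (tt N29016 F74820) (tt N51591 (iv3 F145633)) (tt N49268 (iv4 F135589)) (tt N13629 (iv5 D44146)) (tt N51594 (iv6 F145637)) (tt N29015 F74817))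
theorem Q27276 : ∀ i, i < 27276 → P i := stepQ 27275 Q27275 (allL N27275 (tt N25594 (iv1 F292472)) (tt N13630 (iv0 D44292)) (tt N25582 (iv2 F292469)) (tt N51597 D94801) (tt N48406 (iv4 F292475)) (tt N14679 F291552) (tt N38450 (iv6 F328768)) (tt N25580 (iv7 F292477)))
theorem Q27277 : ∀ i, i < 27277 → P i := stepQ 27276 Q27276 (allL N27276 (tt N27339 (iv1 F294371)) (tt N27294 (iv0 F294452)) (tt N25305 (iv2 F294430)) (tt N51598 D94809) (tt N13630 (iv4 D44294)) (tt N24242 (iv5 F294456)) (tt N51599 D94811) (tt N25601 (iv7 F294428)))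
theorem Q27278 : ∀ i, i < 27278 → P i := stepQ 27277 Q27277 (allL N27277 (tt N51600 D94812) (tt N51601 D94813) (tt N48806 (iv2 F134472)) (tt N27581 (iv3 F70513)) (tt N51599 (iv4 F146158)) (tt N51602 D94814) (tt N13630 (iv6 D44295)) (tt N51603 D94815))
theorem Q27279 : ∀ i, i < 27279 → P i := stepQ 27278 Q27278 (allL N27278 (tt N25693 (iv1 F69720)) (tt N14421 F69719) (tt N25843 F69717) (tt N27582 (iv3 F70514)) (tt N51604 D94816) (tt N13631 (iv5 D44296)) (tt N51602 (iv6 F146160)) (tt N25844 F69718))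
theorem Q27280 : ∀ i, i < 27280 → P i := stepQ 27279 Q27279 (allL N27279 (tt N43152 F304054) (tt N37449 F304055) (tt N43154 F304056) (tt N13632 (iv3 D44474)) (tt N24063 F69988) (tt N44597 (iv5 F306168)) (tt N21434 F315597) (tt N24261 F69989))
theorem Q27281 : ∀ i, i < 27281 → P i := stepQ 27280 Q27280 (allL N27280 (tt N21420 (iv1 F309410)) (tt N46105 F120276) (tt N46104 F120268) (tt N13633 (iv3 D44479)) (tt N17683 F69994) (tt N45296 (iv5 F115057)) (tt N48486 (iv6 F299095)) (tt N17750 F69995))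
theorem Q27282 : ∀ i, i < 27282 → P i := stepQ 27281 Q27281 (allL N27281 (tt N37374 F308218) (tt N19024 F308219) (tt N37373 F308220) (tt N13634 (iv3 D44485)) (tt N23444 F70000) (tt N46571 (iv5 F125481)) (tt N20766 F312562) (tt N24225 F70001))
theorem Q27283 : ∀ i, i < 27283 → P i := stepQ 27282 Q27282 (allL N27282 (tt N24920 F121264) (tt N24922 F121265) (tt N24229 F70002) (tt N20766 F312561) (tt N13635 F70003) (tt N51605 D95241) (tt N13634 (iv6 D44486)) (tt N24951 F121266))
theorem Q27284 : ∀ i, i < 27284 → P i := stepQ 27283 Q27283 (allL N27283 (tt N17577 F297417) (tt N13636 (iv0 D44501)) (tt N23962 F297418) (tt N45635 F133775) (tt N51606 D95261) (tt N24167 F297419) (tt N51607 D95263) (tt N23963 F297420))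
theorem Q27285 : ∀ i, i < 27285 → P i := stepQ 27284 Q27284 (allL N27284 (tt N13636 (iv1 D44502)) (tt N17577 F297421) (tt N23963 F297422) (tt N23637 F120372) (tt N51608 D95264) (tt N45499 F297423) (tt N45500 F297424) (tt N23962 F297425))
theorem Q27286 : ∀ i, i < 27286 → P i := stepQ 27285 Q27285 (allL N27285 (tt N46535 (iv1 F126196)) (tt N35512 F126195) (tt N23964 F296378) (tt N51609 D95266) (tt N13636 (iv4 D44503)) (tt N51610 D95267) (tt N13642 F70009) (tt N48258 F132001))
theorem Q27287 : ∀ i, i < 27287 → P i := stepQ 27286 Q27286 (allL N27286 (tt N25298 F70011) (tt N25301 F70012) (tt N27632 (iv2 F70721)) (tt N51611 D95268) (tt N13637 (iv4 D44505)) (tt N51612 D95269) (tt N48488 (iv6 F296077)) (tt N27633 (iv7 F70726)))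
theorem Q27288 : ∀ i, i < 27288 → P i := stepQ 27287 Q27287 (allL N27287 (tt N25301 F70013) (tt N25298 F70014) (tt N27633 (iv2 F70725)) (tt N51613 D95270) (tt N13638 (iv4 D44506)) (tt N51614 D95271) (tt N51615 D95272) (tt N27632 (iv7 F70722)))
theorem Q27289 : ∀ i, i < 27289 → P i := stepQ 27288 Q27288 (allL N27288 (tt N51616 D95273) (tt N24000 (iv0 F296830)) (tt N27634 (iv2 F70729)) (tt N23718 F70015) (tt N51615 (iv4 F146899)) (tt N27292 (iv5 F70027)) (tt N13638 (iv6 D44507)) (tt N48485 (iv7 F296834)))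
theorem Q27290 : ∀ i, i < 27290 → P i := stepQ 27289 Q27289 (allL N27289 (tt N22896 F70018) (tt N13835 F70019) (tt N24243 F70016) (tt N51617 D95276) (tt N13640 (iv4 D44508)) (tt N48798 F294527) (tt N47752 (iv6 F129665)) (tt N24244 F70017))
theorem Q27291 : ∀ i, i < 27291 → P i := stepQ 27290 Q27290 (allL N27290 (tt N24037 (iv1 F296351)) (tt N24024 (iv0 F296249)) (tt N24035 F296060) (tt N31972 (iv3 F326970)) (tt N47752 F129663) (tt N13767 F70021) (tt N13640 (iv6 D44509)) (tt N24036 (iv7 F296350)))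
theorem Q27292 : ∀ i, i < 27292 → P i := stepQ 27291 Q27291 (allL N27291 (tt N13835 F70024) (tt N22896 F70025) (tt N24244 F70022) (tt N51618 D95280) (tt N13641 (iv4 D44510)) (tt N48801 F294528) (tt N35717 F325278) (tt N24243 F70023))
theorem Q27293 : ∀ i, i < 27293 → P i := stepQ 27292 Q27292 (allL N27292 (tt N31962 (iv1 F323934)) (tt N31955 F323909) (tt N27635 (iv2 F70730)) (tt N24048 F70026) (tt N35717 (iv4 F324004)) (tt N27288 F70027) (tt N13641 (iv6 D44511)) (tt N31963 (iv7 F323940)))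
theorem Q27294 : ∀ i, i < 27294 → P i := stepQ 27293 Q27293 (allL N27293 (tt N51619 D95286) (tt N51620 D95287) (tt N51621 D95288) (tt N13642 (iv3 D44512)) (tt N27963 (iv4 F72388)) (tt N51622 D95289) (tt N51609 (iv6 F146886)) (tt N44628 (iv7 F112725)))
theorem Q27295 : ∀ i, i < 27295 → P i := stepQ 27294 Q27294 (allL N27294 (tt N27276 F294452) (tt N29465 (iv0 F76348)) (tt N27638 (iv2 F70737)) (tt N51622 (iv3 F146937)) (tt N25592 F70028) (tt N13642 (iv5 D44513)) (tt N51623 D95290) (tt N27677 (iv7 F70909)))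
theorem Q27296 : ∀ i, i < 27296 → P i := stepQ 27295 Q27295 (allL N27295 (tt N51624 D95291) (tt N36298 (iv0 F317102)) (tt N27398 (iv2 F70195)) (tt N28585 (iv3 F74213)) (tt N41956 F314846) (tt N51625 D95293) (tt N13643 (iv6 D44514)) (tt N51626 D95294))
theorem Q27297 : ∀ i, i < 27297 → P i := stepQ 27296 Q27296 (allL N27296 (tt N49973 (iv1 F138130)) (tt N25780 (iv0 F293875)) (tt N27593 (iv2 F70589)) (tt N28588 (iv3 F74216)) (tt N44066 F329937) (tt N13644 (iv5 D44515)) (tt N51625 (iv6 F146939)) (tt N51627 D95296))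
theorem Q27298 : ∀ i, i < 27298 → P i := stepQ 27297 Q27297 (allL N27297 (tt N14507 (iv1 F70031)) (tt N14506 F70032) (tt N14538 F70029) (tt N28589 (iv3 F74217)) (tt N26377 F70030) (tt N51627 (iv5 F146941)) (tt N27596 (iv6 F70596)) (tt N13644 (iv7 D44516)))
theorem Q27299 : ∀ i, i < 27299 → P i := stepQ 27298 Q27298 (allL N27298 (tt N29301 (iv1 F205441)) (tt N26956 (iv0 F205442)) (tt N27599 (iv2 F70605)) (tt N27597 (iv3 F70600)) (tt N23261 F70033) (tt N41181 F331283) (tt N13645 (iv6 D44517)) (tt N29300 F176034))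
theorem Q27300 : ∀ i, i < 27300 → P i := stepQ 27299 Q27299 (allL N27299 (tt N29099 F75023) (tt N29099 (iv0 F75022)) (tt N27598 (iv2 F70602)) (tt N13646 (iv3 D44518)) (tt N27598 (iv4 F70603)) (tt N42589 (iv5 F106457)) (tt N51628 D95301) (tt N27598 (iv7 F70604)))
theorem Q27301 : ∀ i, i < 27301 → P i := stepQ 27300 Q27300 (allL N27300 (tt N13862 F70037) (tt N23256 F70038) (tt N23158 F70034) (tt N42589 F106459) (tt N16397 F70035) (tt N13646 (iv5 D44519)) (tt N51629 D95302) (tt N23866 F70036))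
theorem Q27302 : ∀ i, i < 27302 → P i := stepQ 27301 Q27301 (allL N27301 (tt N14539 (iv1 F176021)) (tt N50343 (iv0 F176020)) (tt N27597 (iv2 F70599)) (tt N51628 (iv3 F146944)) (tt N23258 F70039) (tt N41097 F331280) (tt N13646 (iv6 D44520)) (tt N41185 (iv7 F331299)))
theorem Q27303 : ∀ i, i < 27303 → P i := stepQ 27302 Q27302 (allL N27302 (tt N27603 (iv1 F70622)) (tt N27602 F70619) (tt N13648 F70040) (tt N27640 (iv3 F70745)) (tt N21750 F70041) (tt N13647 (iv5 D44521)) (tt N51630 D95307) (tt N27600 (iv7 F70610)))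
theorem Q27304 : ∀ i, i < 27304 → P i := stepQ 27303 Q27303 (allL N27303 (tt N50876 (iv1 F146954)) (tt N50880 F142881) (tt N13649 F70042) (tt N27641 (iv3 F70750)) (tt N26927 F70043) (tt N51631 D95309) (tt N13647 (iv6 D44522)) (tt N51632 D95310))
theorem Q27305 : ∀ i, i < 27305 → P i := stepQ 27304 Q27304 (allL N27304 (tt N51633 D95311) (tt N51634 D95312) (tt N51630 (iv2 F146948)) (tt N13651 F70044) (tt N46114 (iv4 F120349)) (tt N51635 D95313) (tt N13648 (iv6 D44523)) (tt N51636 D95314))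
theorem Q27306 : ∀ i, i < 27306 → P i := stepQ 27305 Q27305 (allL N27305 (tt N51632 F146956) (tt N13649 (iv0 D44524)) (tt N50876 (iv2 F160269)) (tt N27605 (iv3 F135439)) (tt N49223 F135438) (tt N51637 D95316) (tt N51638 D95317) (tt N50880 (iv7 F160266)))
theorem Q27307 : ∀ i, i < 27307 → P i := stepQ 27306 Q27306 (allL N27306 (tt N13649 (iv1 D44525)) (tt N51632 F146955) (tt N50880 (iv2 F160265)) (tt N51639 D95319) (tt N49222 (iv4 F135436)) (tt N51640 D95320) (tt N49988 (iv6 F292555)) (tt N50876 (iv7 F160270)))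
theorem Q27308 : ∀ i, i < 27308 → P i := stepQ 27307 Q27307 (allL N27307 (tt N51641 D95322) (tt N51642 D95323) (tt N51631 (iv2 F146950)) (tt N13654 F70045) (tt N51643 D95324) (tt N13649 (iv5 D44526)) (tt N51635 (iv6 F146958)) (tt N51644 D95325))
theorem Q27309 : ∀ i, i < 27309 → P i := stepQ 27308 Q27308 (allL N27308 (tt N50880 F142878) (tt N50876 (iv0 F142871)) (tt N51632 (iv2 F146951)) (tt N13655 F70046) (tt N26930 F70047) (tt N51644 (iv5 F146963)) (tt N14639 F70048) (tt N13649 (iv7 D44527)))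
theorem Q27310 : ∀ i, i < 27310 → P i := stepQ 27309 Q27309 (allL N27309 (tt N13671 F70051) (tt N27640 (iv0 F70747)) (tt N27642 F70752) (tt N13650 (iv3 D44528)) (tt N51645 D95326) (tt N13685 F70049) (tt N51646 D95327) (tt N26122 F70050))
theorem Q27311 : ∀ i, i < 27311 → P i := stepQ 27310 Q27310 (allL N27310 (tt N51647 D95328) (tt N51648 D95329) (tt N27609 (iv2 F70631)) (tt N51646 (iv3 F146968)) (tt N48415 (iv4 F296545)) (tt N51649 D95330) (tt N13650 (iv6 D44529)) (tt N51650 D95331))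
theorem Q27312 : ∀ i, i < 27312 → P i := stepQ 27311 Q27311 (allL N27311 (tt N18445 (iv1 F317867)) (tt N13651 (iv0 D44530)) (tt N27648 F320992) (tt N51651 D95333) (tt N21142 (iv4 F318885)) (tt N51652 D95335) (tt N51653 D95336) (tt N27649 F320993))
theorem Q27313 : ∀ i, i < 27313 → P i := stepQ 27312 Q27312 (allL N27312 (tt N13651 (iv1 D44531)) (tt N18445 (iv0 F317866)) (tt N27649 F320994) (tt N51654 D95338) (tt N21234 F316568) (tt N51655 D95340) (tt N51656 D95341) (tt N27648 F320995))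
theorem Q27314 : ∀ i, i < 27314 → P i := stepQ 27313 Q27313 (allL N27313 (tt N44585 (iv1 F318905)) (tt N51657 D95343) (tt N27650 (iv2 F70764)) (tt N51635 (iv3 F146957)) (tt N21359 (iv4 F318909)) (tt N13651 (iv5 D44532)) (tt N13654 F70052) (tt N51658 D95345))
theorem Q27315 : ∀ i, i < 27315 → P i := stepQ 27314 Q27314 (allL N27314 (tt N27649 (iv1 F70763)) (tt N27648 F70768) (tt N18445 (iv2 F317868)) (tt N51636 (iv3 F146959)) (tt N18440 F316569) (tt N51658 (iv5 F146973)) (tt N27616 (iv6 F70642)) (tt N13651 (iv7 D44533)))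
theorem Q27316 : ∀ i, i < 27316 → P i := stepQ 27315 Q27315 (allL N27315 (tt N51659 D95346) (tt N48904 F289637) (tt N51660 D95348) (tt N13652 (iv3 D44534)) (tt N28391 (iv4 F73785)) (tt N51661 D95349) (tt N51662 D95350) (tt N27654 (iv7 F70779)))
theorem Q27317 : ∀ i, i < 27317 → P i := stepQ 27316 Q27316 (allL N27316 (tt N27568 (iv1 F70457)) (tt N49872 (iv0 F293442)) (tt N27652 (iv2 F70775)) (tt N51661 (iv3 F146975)) (tt N51663 D95352) (tt N13652 (iv5 D44535)) (tt N51664 D95353) (tt N27655 (iv7 F70781)))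
theorem Q27318 : ∀ i, i < 27318 → P i := stepQ 27317 Q27317 (allL N27317 (tt N14549 (iv1 F75068)) (tt N14632 (iv0 F290957)) (tt N27653 (iv2 F70777)) (tt N51662 (iv3 F146976)) (tt N26472 F70053) (tt N27438 F70267) (tt N13652 (iv6 D44536)) (tt N27626 (iv7 F291125)))
theorem Q27319 : ∀ i, i < 27319 → P i := stepQ 27318 Q27318 (allL N27318 (tt N13672 F70054) (tt N29430 F76175) (tt N29429 F76168) (tt N13653 (iv3 D44537)) (tt N26684 F292383) (tt N51665 D95355) (tt N26682 (iv6 F292817)) (tt N27651 (iv7 F70772)))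
theorem Q27320 : ∀ i, i < 27320 → P i := stepQ 27319 Q27319 (allL N27319 (tt N49872 (iv1 F293443)) (tt N27568 F70782) (tt N27655 (iv2 F70780)) (tt N51665 (iv3 F146988)) (tt N51666 D95357) (tt N13653 (iv5 D44538)) (tt N51667 D95358) (tt N27652 (iv7 F70776)))
theorem Q27321 : ∀ i, i < 27321 → P i := stepQ 27320 Q27320 (allL N27320 (tt N27658 (iv1 F70794)) (tt N13654 (iv0 D44540)) (tt N27656 (iv2 F71541)) (tt N51668 D95360) (tt N51669 D95361) (tt N48957 F293160) (tt N51670 D95362) (tt N27657 F71540))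
theorem Q27322 : ∀ i, i < 27322 → P i := stepQ 27321 Q27321 (allL N27321 (tt N13654 (iv1 D44541)) (tt N27658 F70792) (tt N27657 F71536) (tt N51671 D95363) (tt N51672 D95364) (tt N27796 (iv5 F71535)) (tt N45798 F344663) (tt N27656 (iv7 F71539)))
theorem Q27323 : ∀ i, i < 27323 → P i := stepQ 27322 Q27322 (allL N27322 (tt N46251 (iv1 F321870)) (tt N45806 F340627) (tt N25045 (iv2 F321798)) (tt N46247 (iv3 F321872)) (tt N13654 (iv4 D44542)) (tt N49634 (iv5 F292807)) (tt N21359 F320998) (tt N46252 (iv7 F321873)))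
theorem Q27324 : ∀ i, i < 27324 → P i := stepQ 27323 Q27323 (allL N27323 (tt N27657 (iv1 F70786)) (tt N27656 F70791) (tt N27658 (iv2 F70789)) (tt N51644 (iv3 F146962)) (tt N46252 F323554) (tt N13655 F70056) (tt N51673 D95370) (tt N13654 (iv7 D44543)))
theorem Q27325 : ∀ i, i < 27325 → P i := stepQ 27324 Q27324 (allL N27324 (tt N29434 (iv1 F76184)) (tt N29216 F289626) (tt N14641 F70057) (tt N13656 (iv3 D44544)) (tt N27324 F70058) (tt N51674 D95371) (tt N51675 D95372) (tt N27659 (iv7 F70797)))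
theorem Q27326 : ∀ i, i < 27326 → P i := stepQ 27325 Q27325 (allL N27325 (tt N27529 F70379) (tt N29444 F76208) (tt N14648 F70059) (tt N51674 (iv3 F147002)) (tt N49636 (iv4 F293497)) (tt N13656 (iv5 D44545)) (tt N51676 D95374) (tt N27660 (iv7 F70799)))
theorem Q27327 : ∀ i, i < 27327 → P i := stepQ 27326 Q27326 (allL N27326 (tt N14532 F75126) (tt N14633 F290643) (tt N14635 F290644) (tt N51675 (iv3 F147004)) (tt N13657 F70061) (tt N27482 F70339) (tt N13656 (iv6 D44546)) (tt N14623 F290645))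
theorem Q27328 : ∀ i, i < 27328 → P i := stepQ 27327 Q27327 (allL N27327 (tt N26737 (iv1 F291368)) (tt N26736 F291001) (tt N14676 F70065) (tt N51677 D95378) (tt N13658 (iv4 D44549)) (tt N51678 D95379) (tt N25646 (iv6 F291549)) (tt N26728 (iv7 F291459)))
theorem Q27329 : ∀ i, i < 27329 → P i := stepQ 27328 Q27328 (allL N27328 (tt N26742 F291463) (tt N13659 (iv0 D44551)) (tt N27661 F70834) (tt N51679 D95381) (tt N26473 F70829) (tt N51680 D95382) (tt N26753 F294369) (tt N27662 F70832))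
theorem Q27330 : ∀ i, i < 27330 → P i := stepQ 27329 Q27329 (allL N27329 (tt N51681 D95386) (tt N48867 (iv0 F293413)) (tt N51682 D95388) (tt N13659 (iv3 D44553)) (tt N26691 F70069) (tt N51683 D95389) (tt N13662 F70070) (tt N29359 (iv7 F292499)))
theorem Q27331 : ∀ i, i < 27331 → P i := stepQ 27330 Q27330 (allL N27330 (tt N43486 F309576) (tt N25617 F292362) (tt N27664 (iv2 F70822)) (tt N51683 (iv3 F147019)) (tt N46253 F325887) (tt N13659 (iv5 D44554)) (tt N51684 D95394) (tt N29364 (iv7 F292500)))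
theorem Q27332 : ∀ i, i < 27332 → P i := stepQ 27331 Q27331 (allL N27331 (tt N51685 D95396) (tt N51686 D95397) (tt N51687 D95398) (tt N13660 (iv3 D44556)) (tt N26364 F70072) (tt N48800 (iv5 F294500)) (tt N29337 (iv6 F293905)) (tt N27671 (iv7 F70890)))
theorem Q27333 : ∀ i, i < 27333 → P i := stepQ 27332 Q27332 (allL N27332 (tt N29030 (iv1 F293527)) (tt N29023 (iv0 F293611)) (tt N29028 (iv2 F293615)) (tt N13661 (iv3 D44559)) (tt N26295 F70076) (tt N48797 (iv5 F293619)) (tt N49151 (iv6 F293620)) (tt N27669 (iv7 F70881)))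
theorem Q27334 : ∀ i, i < 27334 → P i := stepQ 27333 Q27333 (allL N27333 (tt N39749 F328552) (tt N13662 (iv0 D44562)) (tt N48628 (iv2 F254756)) (tt N28406 F294980) (tt N50684 F141496) (tt N51688 D95411) (tt N28403 (iv6 F295346)) (tt N48627 (iv7 F254755)))
theorem Q27335 : ∀ i, i < 27335 → P i := stepQ 27334 Q27334 (allL N27334 (tt N13662 (iv1 D44563)) (tt N39749 F328551) (tt N48627 (iv2 F254754)) (tt N51689 D95414) (tt N50058 (iv4 F138789)) (tt N51690 D95415) (tt N49144 (iv6 F295345)) (tt N48628 (iv7 F254757)))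
theorem Q27336 : ∀ i, i < 27336 → P i := stepQ 27335 Q27335 (allL N27335 (tt N48628 (iv1 F133637)) (tt N48627 F133634) (tt N13662 (iv2 D44564)) (tt N27675 (iv3 F70897)) (tt N26689 F70080) (tt N39750 (iv5 F328980)) (tt N51682 (iv6 F147018)) (tt N39749 F328553))
theorem Q27337 : ∀ i, i < 27337 → P i := stepQ 27336 Q27336 (allL N27336 (tt N39748 (iv1 F328977)) (tt N39747 (iv0 F328976)) (tt N39750 (iv2 F328979)) (tt N13663 F70081) (tt N51691 D95420) (tt N13662 (iv5 D44565)) (tt N39725 (iv6 F328987)) (tt N39187 F328567))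
theorem Q27338 : ∀ i, i < 27338 → P i := stepQ 27337 Q27337 (allL N27337 (tt N25592 (iv1 F70083)) (tt N13663 (iv0 D44566)) (tt N25676 (iv2 F294459)) (tt N51692 D95422) (tt N51614 (iv4 F146895)) (tt N25509 F70082) (tt N51693 D95423) (tt N25679 (iv7 F294466)))
theorem Q27339 : ∀ i, i < 27339 → P i := stepQ 27338 Q27338 (allL N27338 (tt N13663 (iv1 D44567)) (tt N25592 F70084) (tt N25679 (iv2 F294464)) (tt N49500 (iv3 F294941)) (tt N51612 (iv4 F146890)) (tt N25526 F294176) (tt N51694 D95425) (tt N25676 (iv7 F294461)))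
theorem Q27340 : ∀ i, i < 27340 → P i := stepQ 27339 Q27339 (allL N27339 (tt N29465 (iv1 F76349)) (tt N27276 F294371) (tt N27677 (iv2 F70907)) (tt N51695 D95426) (tt N13663 (iv4 D44568)) (tt N23942 F70086) (tt N51696 D95427) (tt N27638 (iv7 F70738)))
theorem Q27341 : ∀ i, i < 27341 → P i := stepQ 27340 Q27340 (allL N27340 (tt N43663 F345945) (tt N51697 D95429) (tt N27678 (iv2 F70912)) (tt N39725 F329357) (tt N51696 (iv4 F147042)) (tt N51684 (iv5 F147024)) (tt N13663 (iv6 D44569)) (tt N39716 (iv7 F329590)))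
theorem Q27342 : ∀ i, i < 27342 → P i := stepQ 27341 Q27341 (allL N27341 (tt N14215 (iv1 F70095)) (tt N13664 (iv0 D44573)) (tt N25709 F72108) (tt N27912 (iv3 F72103)) (tt N29237 (iv4 F75414)) (tt N44757 (iv5 F113363)) (tt N51698 D95431) (tt N25708 F72106))
theorem Q27343 : ∀ i, i < 27343 → P i := stepQ 27342 Q27342 (allL N27342 (tt N13664 (iv1 D44574)) (tt N14215 (iv0 F70097)) (tt N25708 (iv2 F72107)) (tt N14157 (iv3 F70096)) (tt N29245 (iv4 F75429)) (tt N44755 (iv5 F113355)) (tt N51699 D95432) (tt N25709 (iv7 F72110)))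
theorem Q27344 : ∀ i, i < 27344 → P i := stepQ 27343 Q27343 (allL N27343 (tt N25709 (iv1 F70102)) (tt N25708 F70101) (tt N13664 (iv2 D44575)) (tt N14073 F70098) (tt N13670 F70099) (tt N47835 (iv5 F129888)) (tt N51700 D95433) (tt N14215 F70100))
theorem Q27345 : ∀ i, i < 27345 → P i := stepQ 27344 Q27344 (allL N27344 (tt N24694 F70105) (tt N24690 F71634) (tt N47835 (iv2 F129887)) (tt N13665 F70103) (tt N28761 (iv4 F74488)) (tt N13664 (iv5 D44576)) (tt N43627 (iv6 F305616)) (tt N25628 F70104))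
theorem Q27346 : ∀ i, i < 27346 → P i := stepQ 27345 Q27345 (allL N27345 (tt N51701 D95435) (tt N51702 D95436) (tt N51700 (iv2 F147046)) (tt N13666 F70106) (tt N13672 F70107) (tt N51703 D95437) (tt N13664 (iv6 D44577)) (tt N25874 (iv7 F70108)))
theorem Q27347 : ∀ i, i < 27347 → P i := stepQ 27346 Q27346 (allL N27346 (tt N51704 D95442) (tt N49870 (iv0 F137686)) (tt N25712 F70110) (tt N51703 (iv3 F147055)) (tt N49102 F135180) (tt N13666 (iv5 D44579)) (tt N43628 F308465) (tt N25875 F70111))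
theorem Q27348 : ∀ i, i < 27348 → P i := stepQ 27347 Q27347 (allL N27347 (tt N23554 (iv1 F91150)) (tt N23558 F91416) (tt N17798 F90443) (tt N13667 (iv3 D44586)) (tt N17693 F70115) (tt N25399 F297090) (tt N46413 (iv6 F299018)) (tt N17794 (iv7 F90439)))
theorem Q27349 : ∀ i, i < 27349 → P i := stepQ 27348 Q27348 (allL N27348 (tt N27419 (iv1 F70246)) (tt N13874 F70117) (tt N27399 (iv2 F70199)) (tt N48905 (iv3 F134836)) (tt N28031 F304504) (tt N13669 (iv5 D44590)) (tt N28034 (iv6 F306525)) (tt N27421 (iv7 F70250)))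
theorem Q27350 : ∀ i, i < 27350 → P i := stepQ 27349 Q27349 (allL N27349 (tt N51705 D95450) (tt N14547 F75213) (tt N27594 (iv2 F70590)) (tt N48906 (iv3 F134840)) (tt N28249 (iv4 F73484)) (tt N51706 D95451) (tt N13669 (iv6 D44591)) (tt N51707 D95452))
theorem Q27351 : ∀ i, i < 27351 → P i := stepQ 27350 Q27350 (allL N27350 (tt N26122 F70119) (tt N27642 F70753) (tt N13671 F70118) (tt N27600 (iv3 F70608)) (tt N43732 (iv4 F109575)) (tt N13670 (iv5 D44592)) (tt N51708 D95453) (tt N27640 (iv7 F70746)))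
theorem Q27352 : ∀ i, i < 27352 → P i := stepQ 27351 Q27351 (allL N27351 (tt N27651 (iv1 F76171)) (tt N29429 F76169) (tt N13672 F70120) (tt N27601 (iv3 F70614)) (tt N51700 (iv4 F147048)) (tt N51709 D95454) (tt N13670 (iv6 D44593)) (tt N29430 (iv7 F76173)))
theorem Q27353 : ∀ i, i < 27353 → P i := stepQ 27352 Q27352 (allL N27352 (tt N27640 (iv1 F70748)) (tt N13671 (iv0 D44594)) (tt N26122 (iv2 F70122)) (tt N48753 (iv3 F134276)) (tt N51710 D95455) (tt N13702 F70121) (tt N51711 D95456) (tt N27642 (iv7 F70754)))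
theorem Q27354 : ∀ i, i < 27354 → P i := stepQ 27353 Q27353 (allL N27353 (tt N51712 D95459) (tt N51654 (iv0 F348020)) (tt N51708 (iv2 F147096)) (tt N13673 F70123) (tt N49648 (iv4 F307587)) (tt N51713 D95461) (tt N13671 (iv6 D44596)) (tt N51714 D95462))
theorem Q27355 : ∀ i, i < 27355 → P i := stepQ 27354 Q27354 (allL N27354 (tt N29430 (iv1 F76174)) (tt N13672 (iv0 D44597)) (tt N27651 (iv2 F70774)) (tt N51660 (iv3 F146974)) (tt N28569 F289667) (tt N51715 D95463) (tt N51716 D95464) (tt N29429 (iv7 F76170)))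
theorem Q27356 : ∀ i, i < 27356 → P i := stepQ 27355 Q27355 (allL N27355 (tt N51717 D95465) (tt N51671 (iv0 F146996)) (tt N51709 (iv2 F147097)) (tt N13675 F70124) (tt N51718 D95466) (tt N13672 (iv5 D44598)) (tt N51713 (iv6 F147109)) (tt N29431 (iv7 F76177)))
theorem Q27357 : ∀ i, i < 27357 → P i := stepQ 27356 Q27356 (allL N27356 (tt N27616 (iv1 F70645)) (tt N13673 (iv0 D44599)) (tt N27613 (iv2 F337302)) (tt N51719 D95468) (tt N51720 D95469) (tt N51721 D95470) (tt N51722 D95471) (tt N27614 (iv7 F337303)))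
theorem Q27358 : ∀ i, i < 27358 → P i := stepQ 27357 Q27357 (allL N27357 (tt N13673 (iv1 D44600)) (tt N27616 F70644) (tt N27614 F337304) (tt N31881 (iv3 F337309)) (tt N51723 D95474) (tt N31880 (iv5 F337310)) (tt N51724 D95476) (tt N27613 F337305))
theorem Q27359 : ∀ i, i < 27359 → P i := stepQ 27358 Q27358 (allL N27358 (tt N51725 D95477) (tt N31077 F340712) (tt N27615 (iv2 F70639)) (tt N51713 (iv3 F147108)) (tt N51726 D95479) (tt N13673 (iv5 D44601)) (tt N13675 F70125) (tt N51727 D95480))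
theorem Q27360 : ∀ i, i < 27360 → P i := stepQ 27359 Q27359 (allL N27359 (tt N27614 (iv1 F70638)) (tt N27613 F70643) (tt N27616 (iv2 F70641)) (tt N51714 (iv3 F147110)) (tt N18446 F317483) (tt N51727 (iv5 F147114)) (tt N18445 (iv6 F317869)) (tt N13673 (iv7 D44602)))
theorem Q27361 : ∀ i, i < 27361 → P i := stepQ 27360 Q27360 (allL N27360 (tt N49171 (iv1 F135300)) (tt N49170 F135294) (tt N27618 (iv2 F70648)) (tt N28864 (iv3 F74563)) (tt N51728 D95481) (tt N13674 (iv5 D44603)) (tt N51728 (iv6 F327920)) (tt N27620 (iv7 F70654)))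
theorem Q27362 : ∀ i, i < 27362 → P i := stepQ 27361 Q27361 (allL N27361 (tt N14659 (iv1 F70129)) (tt N14660 (iv0 F70128)) (tt N25898 F70126) (tt N28865 (iv3 F74564)) (tt N25891 F70127) (tt N27411 (iv5 F70209)) (tt N13674 (iv6 D44604)) (tt N29311 (iv7 F75585)))
theorem Q27363 : ∀ i, i < 27363 → P i := stepQ 27362 Q27362 (allL N27362 (tt N14640 (iv1 F70130)) (tt N13675 (iv0 D44605)) (tt N27621 (iv2 F71455)) (tt N24879 F325905) (tt N51729 D95484) (tt N27909 (iv5 F71798)) (tt N51730 D95485) (tt N27622 F71454))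
theorem Q27364 : ∀ i, i < 27364 → P i := stepQ 27363 Q27363 (allL N27363 (tt N13675 (iv1 D44606)) (tt N14640 F70131) (tt N27622 F71450) (tt N51731 D95486) (tt N51732 D95487) (tt N27771 (iv5 F71449)) (tt N51733 D95488) (tt N27621 (iv7 F71453)))
theorem Q27365 : ∀ i, i < 27365 → P i := stepQ 27364 Q27364 (allL N27364 (tt N49923 (iv1 F137944)) (tt N49913 (iv0 F137918)) (tt N27623 (iv2 F70658)) (tt N51734 D95489) (tt N13675 (iv4 D44607)) (tt N49885 (iv5 F137858)) (tt N51726 (iv6 F147113)) (tt N29432 (iv7 F76179)))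
theorem Q27366 : ∀ i, i < 27366 → P i := stepQ 27365 Q27365 (allL N27365 (tt N27391 F70292) (tt N27391 (iv0 F70189)) (tt N27683 (iv2 F70959)) (tt N25650 F70133) (tt N13676 (iv4 D44609)) (tt N37553 (iv5 F96256)) (tt N51735 D95490) (tt N27683 (iv7 F70960)))
theorem Q27367 : ∀ i, i < 27367 → P i := stepQ 27366 Q27366 (allL N27366 (tt N14556 F70136) (tt N14556 F70134) (tt N21624 (iv2 F70958)) (tt N49543 (iv3 F136803)) (tt N23345 F70135) (tt N13676 (iv5 D44610)) (tt N51736 D95491) (tt N21624 F70957))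
theorem Q27368 : ∀ i, i < 27368 → P i := stepQ 27367 Q27367 (allL N27367 (tt N27779 (iv1 F289534)) (tt N26341 (iv0 F289535)) (tt N27684 (iv2 F70962)) (tt N49544 (iv3 F136807)) (tt N51735 (iv4 F147122)) (tt N51737 D95494) (tt N13676 (iv6 D44611)) (tt N49887 (iv7 F289569)))
theorem Q27369 : ∀ i, i < 27369 → P i := stepQ 27368 Q27368 (allL N27368 (tt N13677 (iv1 F70139)) (tt N13677 (iv0 D44612)) (tt N27685 F70966) (tt N51738 D95496) (tt N21617 F70138) (tt N14500 F70137) (tt N51739 D95497) (tt N27685 F70967))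
theorem Q27370 : ∀ i, i < 27370 → P i := stepQ 27369 Q27369 (allL N27369 (tt N51740 D95498) (tt N51741 D95499) (tt N27686 (iv2 F70970)) (tt N13679 F70140) (tt N42583 (iv4 F106444)) (tt N51742 D95500) (tt N13677 (iv6 D44613)) (tt N51743 D95501))
theorem Q27371 : ∀ i, i < 27371 → P i := stepQ 27370 Q27370 (allL N27370 (tt N26746 F294337) (tt N13678 (iv0 D44614)) (tt N27687 F270449) (tt N51744 D95503) (tt N51745 D95504) (tt N51746 D95505) (tt N51747 D95506) (tt N27688 (iv7 F270452)))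
theorem Q27372 : ∀ i, i < 27372 → P i := stepQ 27371 Q27371 (allL N27371 (tt N13678 (iv1 D44615)) (tt N26746 F294336) (tt N27688 (iv2 F270451)) (tt N47623 (iv3 F335315)) (tt N51748 D95508) (tt N47662 (iv5 F335316)) (tt N47619 F335314) (tt N27687 F270450))
theorem Q27373 : ∀ i, i < 27373 → P i := stepQ 27372 Q27372 (allL N27372 (tt N51749 D95511) (tt N51750 D95512) (tt N27689 (iv2 F70973)) (tt N13681 F70141) (tt N51751 D95513) (tt N13678 (iv5 D44616)) (tt N51742 (iv6 F147132)) (tt N51752 D95514))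
theorem Q27374 : ∀ i, i < 27374 → P i := stepQ 27373 Q27373 (allL N27373 (tt N27688 (iv1 F70972)) (tt N27687 F70979) (tt N26746 F294338) (tt N13682 F70142) (tt N27373 F70143) (tt N51752 (iv5 F147138)) (tt N26746 (iv6 F293334)) (tt N13678 (iv7 D44617)))
theorem Q27375 : ∀ i, i < 27375 → P i := stepQ 27374 Q27374 (allL N27374 (tt N13736 (iv1 F70148)) (tt N13679 (iv0 D44618)) (tt N13733 F315582) (tt N51753 D95516) (tt N51754 D95517) (tt N51755 D95518) (tt N51756 D95519) (tt N13734 F315583))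
theorem Q27376 : ∀ i, i < 27376 → P i := stepQ 27375 Q27375 (allL N27375 (tt N13679 (iv1 D44619)) (tt N13736 F70144) (tt N13734 F315579) (tt N51757 D95521) (tt N42157 F315580) (tt N51758 D95523) (tt N42155 (iv6 F313190)) (tt N13733 F315581))
theorem Q27377 : ∀ i, i < 27377 → P i := stepQ 27376 Q27376 (allL N27376 (tt N51759 D95525) (tt N51760 D95526) (tt N13735 F70145) (tt N51742 (iv3 F147131)) (tt N51761 D95527) (tt N13679 (iv5 D44620)) (tt N13681 F70146) (tt N51762 D95528))
theorem Q27378 : ∀ i, i < 27378 → P i := stepQ 27377 Q27377 (allL N27377 (tt N13734 (iv1 F70149)) (tt N13733 F70150) (tt N13736 F70147) (tt N51743 (iv3 F147133)) (tt N27747 (iv4 F71300)) (tt N51762 (iv5 F147147)) (tt N27693 (iv6 F70987)) (tt N13679 (iv7 D44621)))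
theorem Q27379 : ∀ i, i < 27379 → P i := stepQ 27378 Q27378 (allL N27378 (tt N27805 F157623) (tt N51763 D95530) (tt N51764 D95531) (tt N13680 (iv3 D44622)) (tt N14020 F70151) (tt N51765 D95532) (tt N49918 (iv6 F137923)) (tt N13737 F70152))
theorem Q27380 : ∀ i, i < 27380 → P i := stepQ 27379 Q27379 (allL N27379 (tt N49214 F294001) (tt N14675 F70155) (tt N13741 F70153) (tt N51765 (iv3 F147159)) (tt N51766 D95533) (tt N13680 (iv5 D44623)) (tt N51767 D95534) (tt N13738 F70154))
theorem Q27381 : ∀ i, i < 27381 → P i := stepQ 27380 Q27380 (allL N27380 (tt N13746 (iv1 F70160)) (tt N13681 (iv0 D44625)) (tt N13743 (iv2 F70158)) (tt N51768 D95535) (tt N51769 D95536) (tt N25919 F293036) (tt N51770 D95537) (tt N13744 (iv7 F70159)))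
theorem Q27382 : ∀ i, i < 27382 → P i := stepQ 27381 Q27381 (allL N27381 (tt N13681 (iv1 D44626)) (tt N13746 F70161) (tt N13744 (iv2 F70164)) (tt N51771 D95538) (tt N51772 D95539) (tt N14529 F70163) (tt N51773 D95540) (tt N13743 F70162))
theorem Q27383 : ∀ i, i < 27383 → P i := stepQ 27382 Q27382 (allL N27382 (tt N51774 D95541) (tt N51775 D95542) (tt N13745 F70165) (tt N51776 D95543) (tt N13681 (iv4 D44627)) (tt N27540 (iv5 F70387)) (tt N51761 (iv6 F147145)) (tt N27539 (iv7 F70383)))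
theorem Q27384 : ∀ i, i < 27384 → P i := stepQ 27383 Q27383 (allL N27383 (tt N13744 (iv1 F70168)) (tt N13743 F70169) (tt N13746 F70166) (tt N51752 (iv3 F147137)) (tt N27539 (iv4 F70382)) (tt N13682 F70167) (tt N51777 D95544) (tt N13681 (iv7 D44628)))
theorem Q27385 : ∀ i, i < 27385 → P i := stepQ 27384 Q27384 (allL N27384 (tt N13684 (iv1 F70172)) (tt N13683 (iv0 D44629)) (tt N13749 (iv2 F70171)) (tt N27903 F71791) (tt N24430 F70170) (tt N51778 D95545) (tt N25511 (iv6 F293846)) (tt N13686 F70173))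
theorem Q27386 : ∀ i, i < 27386 → P i := stepQ 27385 Q27385 (allL N27385 (tt N51138 (iv1 F295193)) (tt N26123 (iv0 F70176)) (tt N51141 (iv2 F295188)) (tt N13683 (iv3 D44630)) (tt N25634 F70174) (tt N51779 D95548) (tt N50625 F294034) (tt N13758 F70175))
theorem Q27387 : ∀ i, i < 27387 → P i := stepQ 27386 Q27386 (allL N27386 (tt N51780 D95550) (tt N50690 F295306) (tt N13751 F70177) (tt N51779 (iv3 F147197)) (tt N51781 D95552) (tt N13683 (iv5 D44631)) (tt N51782 D95553) (tt N13759 F70178))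
theorem Q27388 : ∀ i, i < 27388 → P i := stepQ 27387 Q27387 (allL N27387 (tt N50690 F295304) (tt N51780 F147202) (tt N13759 F70184) (tt N51348 (iv3 F144764)) (tt N51783 D95557) (tt N13684 (iv5 D44634)) (tt N51784 D95558) (tt N13751 F70185))
theorem Q27389 : ∀ i, i < 27389 → P i := stepQ 27388 Q27388 (allL N27388 (tt N25512 F295217) (tt N27904 (iv0 F136693)) (tt N27785 (iv2 F71512)) (tt N13686 F70186) (tt N24436 F70187) (tt N51785 D95559) (tt N13685 (iv6 D44635)) (tt N27903 (iv7 F71794)))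
theorem Q27390 : ∀ i, i < 27390 → P i := stepQ 27389 Q27389 (allL N27389 (tt N27556 (iv1 F70429)) (tt N27570 (iv0 F70458)) (tt N27753 (iv2 F71407)) (tt N51785 (iv3 F147231)) (tt N51786 D95560) (tt N13686 (iv5 D44636)) (tt N51649 (iv6 F146969)) (tt N51778 (iv7 F147186)))
theorem Q27391 : ∀ i, i < 27391 → P i := stepQ 27390 Q27390 (allL N27390 (tt N27894 F178355) (tt N26368 F294586) (tt N27757 (iv2 F71419)) (tt N27755 (iv3 F71411)) (tt N26785 F70188) (tt N51787 D95563) (tt N13687 (iv6 D44637)) (tt N27893 F205505))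
theorem Q27392 : ∀ i, i < 27392 → P i := stepQ 27391 Q27391 (allL N27391 (tt N27365 F70189) (tt N27365 (iv0 F70292)) (tt N27756 (iv2 F71413)) (tt N13688 (iv3 D44638)) (tt N27756 (iv4 F71414)) (tt N42002 (iv5 F105249)) (tt N51788 D95565) (tt N27756 (iv7 F71415)))
theorem Q27393 : ∀ i, i < 27393 → P i := stepQ 27392 Q27392 (allL N27392 (tt N13750 (iv1 F205492)) (tt N51344 (iv0 F205491)) (tt N27755 (iv2 F71410)) (tt N51788 (iv3 F147235)) (tt N26783 F70190) (tt N51789 D95568) (tt N13688 (iv6 D44639)) (tt N51347 (iv7 F178346)))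
theorem Q27394 : ∀ i, i < 27394 → P i := stepQ 27393 Q27393 (allL N27393 (tt N51790 D95570) (tt N51791 D95571) (tt N45167 (iv2 F114669)) (tt N13693 F70191) (tt N34701 (iv4 F88601)) (tt N51792 D95572) (tt N13689 (iv6 D44640)) (tt N51793 D95573))
theorem Q27395 : ∀ i, i < 27395 → P i := stepQ 27394 Q27394 (allL N27394 (tt N45153 F114634) (tt N13690 (iv0 D44641)) (tt N45150 (iv2 F178251)) (tt N27761 (iv3 F83216)) (tt N32610 F83215) (tt N51794 D95575) (tt N51795 D95576) (tt N45151 (iv7 F178239)))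
theorem Q27396 : ∀ i, i < 27396 → P i := stepQ 27395 Q27395 (allL N27395 (tt N13690 (iv1 D44642)) (tt N45153 F114624) (tt N45151 (iv2 F178238)) (tt N51796 D95578) (tt N32611 (iv4 F83204)) (tt N51797 D95579) (tt N51798 D95580) (tt N45150 (iv7 F178252)))
theorem Q27397 : ∀ i, i < 27397 → P i := stepQ 27396 Q27396 (allL N27396 (tt N51799 D95581) (tt N51800 D95582) (tt N45152 (iv2 F114620)) (tt N13696 F70192) (tt N51801 D95583) (tt N13690 (iv5 D44643)) (tt N51792 (iv6 F147240)) (tt N49884 (iv7 F137857)))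
theorem Q27398 : ∀ i, i < 27398 → P i := stepQ 27397 Q27397 (allL N27397 (tt N48749 (iv1 F134271)) (tt N48751 (iv0 F134274)) (tt N51802 D95584) (tt N13691 (iv3 D44644)) (tt N51803 D95585) (tt N13773 F70193) (tt N51804 D95586) (tt N25743 F70194))
theorem Q27399 : ∀ i, i < 27399 → P i := stepQ 27398 Q27398 (allL N27398 (tt N51805 D95587) (tt N51806 D95588) (tt N27295 F70195) (tt N51804 (iv3 F147252)) (tt N41963 F312494) (tt N51807 D95589) (tt N13691 (iv6 D44645)) (tt N51808 D95590))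
theorem Q27400 : ∀ i, i < 27400 → P i := stepQ 27399 Q27399 (allL N27399 (tt N13704 F70198) (tt N27786 F71516) (tt N27348 F70199) (tt N13692 (iv3 D44646)) (tt N28420 F305515) (tt N13775 F70196) (tt N49447 (iv6 F307545)) (tt N14262 F70197))
theorem Q27401 : ∀ i, i < 27401 → P i := stepQ 27400 Q27400 (allL N27400 (tt N51809 D95593) (tt N51810 D95594) (tt N25745 F70200) (tt N49447 (iv3 F307544)) (tt N46523 (iv4 F125269)) (tt N51811 D95595) (tt N13692 (iv6 D44647)) (tt N51812 D95596))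
theorem Q27402 : ∀ i, i < 27402 → P i := stepQ 27401 Q27401 (allL N27401 (tt N27794 (iv1 F71531)) (tt N13693 (iv0 D44648)) (tt N27791 (iv2 F348955)) (tt N51813 D95598) (tt N51814 D95599) (tt N51815 D95600) (tt N51816 D95601) (tt N27792 (iv7 F348956)))
theorem Q27403 : ∀ i, i < 27403 → P i := stepQ 27402 Q27402 (allL N27402 (tt N13693 (iv1 D44649)) (tt N27794 F71530) (tt N27792 F348957) (tt N51817 D95603) (tt N51818 D95604) (tt N51819 D95605) (tt N51820 D95606) (tt N27791 F348958))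
theorem Q27404 : ∀ i, i < 27404 → P i := stepQ 27403 Q27403 (allL N27403 (tt N51821 D95607) (tt N51822 D95608) (tt N27793 (iv2 F71525)) (tt N51792 (iv3 F147239)) (tt N51823 D95609) (tt N13693 (iv5 D44650)) (tt N13696 F70201) (tt N51824 D95610))
theorem Q27405 : ∀ i, i < 27405 → P i := stepQ 27404 Q27404 (allL N27404 (tt N27792 (iv1 F71524)) (tt N27791 F71529) (tt N27794 (iv2 F71527)) (tt N51793 (iv3 F147241)) (tt N18598 F316756) (tt N51824 (iv5 F147279)) (tt N27768 (iv6 F71440)) (tt N13693 (iv7 D44651)))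
theorem Q27406 : ∀ i, i < 27406 → P i := stepQ 27405 Q27405 (allL N27405 (tt N51825 D95611) (tt N48752 F289556) (tt N51826 D95613) (tt N13694 (iv3 D44652)) (tt N28039 (iv4 F72592)) (tt N51827 D95614) (tt N51828 D95615) (tt N27797 (iv7 F71544)))
theorem Q27407 : ∀ i, i < 27407 → P i := stepQ 27406 Q27406 (allL N27406 (tt N29312 (iv1 F75586)) (tt N29419 (iv0 F76084)) (tt N27795 (iv2 F71532)) (tt N51827 (iv3 F147281)) (tt N51829 D95616) (tt N13694 (iv5 D44653)) (tt N51830 D95617) (tt N27798 (iv7 F71546)))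
theorem Q27408 : ∀ i, i < 27408 → P i := stepQ 27407 Q27407 (allL N27407 (tt N13760 F76086) (tt N26307 (iv0 F292505)) (tt N27796 (iv2 F71534)) (tt N51828 (iv3 F147282)) (tt N26777 F70202) (tt N27657 F70787) (tt N13694 (iv6 D44654)) (tt N48957 (iv7 F292060)))
theorem Q27409 : ∀ i, i < 27409 → P i := stepQ 27408 Q27408 (allL N27408 (tt N13705 F70205) (tt N51831 D95618) (tt N51832 D95619) (tt N13695 (iv3 D44655)) (tt N26040 F70203) (tt N51833 D95620) (tt N48955 (iv6 F294156)) (tt N26191 F70204))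
theorem Q27410 : ∀ i, i < 27410 → P i := stepQ 27409 Q27409 (allL N27409 (tt N29419 (iv1 F76085)) (tt N29312 F75587) (tt N27798 (iv2 F71545)) (tt N51833 (iv3 F147294)) (tt N51834 D95622) (tt N13695 (iv5 D44656)) (tt N51835 D95623) (tt N27795 (iv7 F71533)))
theorem Q27411 : ∀ i, i < 27411 → P i := stepQ 27410 Q27410 (allL N27410 (tt N26340 (iv1 F70207)) (tt N13696 (iv0 D44658)) (tt N27800 (iv2 F71556)) (tt N51836 D95625) (tt N51837 D95626) (tt N29424 (iv5 F76126)) (tt N51838 D95627) (tt N27801 F71555))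
theorem Q27412 : ∀ i, i < 27412 → P i := stepQ 27411 Q27411 (allL N27411 (tt N13696 (iv1 D44659)) (tt N26340 F70208) (tt N27801 F71553) (tt N51839 D95628) (tt N51840 D95629) (tt N27361 F70209) (tt N51841 D95630) (tt N27800 (iv7 F71554)))
theorem Q27413 : ∀ i, i < 27413 → P i := stepQ 27412 Q27412 (allL N27412 (tt N29454 F76235) (tt N29414 F340375) (tt N27802 (iv2 F71557)) (tt N51842 D95631) (tt N13696 (iv4 D44660)) (tt N29432 (iv5 F76180)) (tt N51823 (iv6 F147278)) (tt N49885 (iv7 F137859)))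
theorem Q27414 : ∀ i, i < 27414 → P i := stepQ 27413 Q27413 (allL N27413 (tt N14044 (iv1 F70211)) (tt N13697 (iv0 D44661)) (tt N25612 F71572) (tt N26021 F70210) (tt N27806 (iv4 F71569)) (tt N24694 (iv5 F71577)) (tt N51843 D95632) (tt N25611 (iv7 F71571)))
theorem Q27415 : ∀ i, i < 27415 → P i := stepQ 27414 Q27414 (allL N27414 (tt N13697 (iv1 D44662)) (tt N14044 F70212) (tt N25611 (iv2 F71573)) (tt N13989 (iv3 F71575)) (tt N27827 (iv4 F71629)) (tt N24690 (iv5 F71633)) (tt N51844 D95633) (tt N25612 F71574))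
theorem Q27416 : ∀ i, i < 27416 → P i := stepQ 27415 Q27415 (allL N27415 (tt N51845 D95634) (tt N51846 D95635) (tt N49486 (iv2 F136663)) (tt N13698 F70213) (tt N13705 F70214) (tt N43480 F306631) (tt N13697 (iv6 D44663)) (tt N49864 (iv7 F137666)))
theorem Q27417 : ∀ i, i < 27417 → P i := stepQ 27416 Q27416 (allL N27416 (tt N28374 F73736) (tt N29316 (iv0 F75616)) (tt N26284 F70216) (tt N26382 F70217) (tt N49892 (iv4 F291284)) (tt N13699 (iv5 D44665)) (tt N28370 F73720) (tt N27942 (iv7 F72278)))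
theorem Q27418 : ∀ i, i < 27418 → P i := stepQ 27417 Q27417 (allL N27417 (tt N26055 (iv1 F70223)) (tt N26240 F70224) (tt N26052 F70218) (tt N26263 F70219) (tt N26162 F70220) (tt N25970 F70221) (tt N13699 (iv6 D44666)) (tt N26235 (iv7 F70222)))
theorem Q27419 : ∀ i, i < 27419 → P i := stepQ 27418 Q27418 (allL N27418 (tt N51141 (iv1 F295187)) (tt N13758 F70453) (tt N26123 F70242) (tt N48754 (iv3 F134278)) (tt N26121 F70243) (tt N51847 D95643) (tt N13702 (iv6 D44673)) (tt N51138 (iv7 F295195)))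
theorem Q27420 : ∀ i, i < 27420 → P i := stepQ 27419 Q27419 (allL N27419 (tt N14262 F70245) (tt N27348 F70246) (tt N13704 F70244) (tt N27758 (iv3 F71422)) (tt N26181 (iv4 F306543)) (tt N13703 (iv5 D44674)) (tt N51848 D95644) (tt N27786 (iv7 F71515)))
theorem Q27421 : ∀ i, i < 27421 → P i := stepQ 27420 Q27420 (allL N27420 (tt N26191 F136666) (tt N51832 F147293) (tt N13705 F70247) (tt N27759 (iv3 F71428)) (tt N49486 (iv4 F136665)) (tt N51849 D95645) (tt N13703 (iv6 D44675)) (tt N51831 (iv7 F147286)))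
theorem Q27422 : ∀ i, i < 27422 → P i := stepQ 27421 Q27421 (allL N27421 (tt N27786 (iv1 F71517)) (tt N13704 (iv0 D44676)) (tt N14262 (iv2 F70249)) (tt N51802 (iv3 F147244)) (tt N51850 D95646) (tt N13800 F70248) (tt N51851 D95647) (tt N27348 F70250))
theorem Q27423 : ∀ i, i < 27423 → P i := stepQ 27422 Q27422 (allL N27422 (tt N26184 F305471) (tt N26035 F305472) (tt N26181 (iv2 F306542)) (tt N46595 (iv3 F125586)) (tt N13704 (iv4 D44677)) (tt N35075 (iv5 F90810)) (tt N51852 D95648) (tt N26182 (iv7 F306545)))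
theorem Q27424 : ∀ i, i < 27424 → P i := stepQ 27423 Q27423 (allL N27423 (tt N51853 D95649) (tt N51817 (iv0 F361105)) (tt N51848 (iv2 F147338)) (tt N13706 F70251) (tt N51852 (iv4 F147346)) (tt N51854 D95651) (tt N13704 (iv6 D44678)) (tt N51855 D95652))
theorem Q27425 : ∀ i, i < 27425 → P i := stepQ 27424 Q27424 (allL N27424 (tt N51831 (iv1 F147289)) (tt N13705 (iv0 D44679)) (tt N26191 (iv2 F70252)) (tt N51826 (iv3 F147280)) (tt N26190 F70253) (tt N51856 D95653) (tt N51857 D95654) (tt N51832 (iv7 F147291)))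
theorem Q27426 : ∀ i, i < 27426 → P i := stepQ 27425 Q27425 (allL N27425 (tt N51858 D95655) (tt N51839 (iv0 F147307)) (tt N51849 (iv2 F147340)) (tt N13709 F70254) (tt N51859 D95656) (tt N13705 (iv5 D44680)) (tt N51854 (iv6 F147348)) (tt N51860 D95657))
theorem Q27427 : ∀ i, i < 27427 → P i := stepQ 27426 Q27426 (allL N27426 (tt N51832 (iv1 F147292)) (tt N26191 (iv0 F70257)) (tt N51831 F147287) (tt N13710 F70255) (tt N49864 (iv4 F137664)) (tt N51860 (iv5 F147354)) (tt N26339 F70256) (tt N13705 (iv7 D44681)))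
theorem Q27428 : ∀ i, i < 27428 → P i := stepQ 27427 Q27427 (allL N27427 (tt N27768 (iv1 F71443)) (tt N13706 (iv0 D44682)) (tt N27765 (iv2 F321367)) (tt N51861 D95659) (tt N41961 (iv4 F321366)) (tt N51862 D95661) (tt N41960 (iv6 F320997)) (tt N27766 (iv7 F321368)))
theorem Q27429 : ∀ i, i < 27429 → P i := stepQ 27428 Q27428 (allL N27428 (tt N13706 (iv1 D44683)) (tt N27768 F71442) (tt N27766 F322991) (tt N51863 D95664) (tt N51864 D95665) (tt N51865 D95666) (tt N51866 D95667) (tt N27765 F322992))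
theorem Q27430 : ∀ i, i < 27430 → P i := stepQ 27429 Q27429 (allL N27429 (tt N51867 D95668) (tt N51868 D95669) (tt N27767 (iv2 F71437)) (tt N51854 (iv3 F147347)) (tt N51869 D95670) (tt N13706 (iv5 D44684)) (tt N13709 F70258) (tt N51870 D95671))
theorem Q27431 : ∀ i, i < 27431 → P i := stepQ 27430 Q27430 (allL N27430 (tt N27766 (iv1 F71436)) (tt N27765 F71441) (tt N27768 (iv2 F71439)) (tt N51855 (iv3 F147349)) (tt N41332 F317478) (tt N51870 (iv5 F147359)) (tt N27794 (iv6 F71528)) (tt N13706 (iv7 D44685)))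
theorem Q27432 : ∀ i, i < 27432 → P i := stepQ 27431 Q27431 (allL N27431 (tt N26339 F70260) (tt N27787 (iv0 F136448)) (tt N27789 F71522) (tt N13707 (iv3 D44686)) (tt N26226 F70259) (tt N51871 D95672) (tt N51872 D95673) (tt N27772 (iv7 F71456)))
theorem Q27433 : ∀ i, i < 27433 → P i := stepQ 27432 Q27432 (allL N27432 (tt N51873 D95674) (tt N51874 D95675) (tt N27770 (iv2 F71445)) (tt N51871 (iv3 F147360)) (tt N51875 D95676) (tt N13707 (iv5 D44687)) (tt N51876 D95677) (tt N27773 (iv7 F71459)))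
theorem Q27434 : ∀ i, i < 27434 → P i := stepQ 27433 Q27433 (allL N27433 (tt N26355 (iv1 F70263)) (tt N26356 (iv0 F70262)) (tt N27771 (iv2 F71447)) (tt N51872 (iv3 F147361)) (tt N26778 F70261) (tt N27622 (iv5 F70657)) (tt N13707 (iv6 D44688)) (tt N27909 (iv7 F71800)))
theorem Q27435 : ∀ i, i < 27435 → P i := stepQ 27434 Q27434 (allL N27434 (tt N48750 F289533) (tt N51877 D95679) (tt N51878 D95680) (tt N13708 (iv3 D44689)) (tt N26308 F70264) (tt N51879 D95681) (tt N51880 D95682) (tt N27769 (iv7 F71444)))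
theorem Q27436 : ∀ i, i < 27436 → P i := stepQ 27435 Q27435 (allL N27435 (tt N51874 (iv1 F147367)) (tt N51873 F147365) (tt N27773 (iv2 F71458)) (tt N51879 (iv3 F147373)) (tt N51881 D95683) (tt N13708 (iv5 D44690)) (tt N51882 D95684) (tt N27770 (iv7 F71446)))
theorem Q27437 : ∀ i, i < 27437 → P i := stepQ 27436 Q27436 (allL N27436 (tt N26739 (iv1 F292165)) (tt N13752 (iv0 F70266)) (tt N27774 (iv2 F71460)) (tt N51880 (iv3 F147374)) (tt N14152 F291365) (tt N29303 (iv5 F75555)) (tt N13708 (iv6 D44691)) (tt N29199 (iv7 F292167)))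
theorem Q27438 : ∀ i, i < 27438 → P i := stepQ 27437 Q27437 (allL N27437 (tt N27778 (iv1 F71478)) (tt N13709 (iv0 D44692)) (tt N27775 (iv2 F71476)) (tt N51883 D95685) (tt N51884 D95686) (tt N29206 (iv5 F75216)) (tt N51885 D95687) (tt N27776 F71477))
theorem Q27439 : ∀ i, i < 27439 → P i := stepQ 27438 Q27438 (allL N27438 (tt N13709 (iv1 D44693)) (tt N27778 F71474) (tt N27776 (iv2 F71469)) (tt N51886 D95688) (tt N51887 D95689) (tt N27317 (iv5 F70267)) (tt N51888 D95690) (tt N27775 (iv7 F71475)))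
theorem Q27440 : ∀ i, i < 27440 → P i := stepQ 27439 Q27439 (allL N27439 (tt N29372 F291903) (tt N28757 F291904) (tt N27777 (iv2 F71470)) (tt N51889 D95693) (tt N13709 (iv4 D44694)) (tt N29362 (iv5 F293013)) (tt N51869 (iv6 F147358)) (tt N51890 D95695))
theorem Q27441 : ∀ i, i < 27441 → P i := stepQ 27440 Q27440 (allL N27440 (tt N27776 (iv1 F71467)) (tt N27775 F71473) (tt N27778 (iv2 F71471)) (tt N51860 (iv3 F147353)) (tt N51890 (iv4 F147383)) (tt N13710 F70268) (tt N51891 D95696) (tt N13709 (iv7 D44695)))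
theorem Q27442 : ∀ i, i < 27442 → P i := stepQ 27441 Q27441 (allL N27441 (tt N27684 F289566) (tt N49887 F137862) (tt N26341 F70269) (tt N13711 (iv3 D44696)) (tt N27441 F70270) (tt N51892 D95697) (tt N48900 (iv6 F291395)) (tt N27779 (iv7 F71481)))
theorem Q27443 : ∀ i, i < 27443 → P i := stepQ 27442 Q27442 (allL N27442 (tt N49901 (iv1 F137905)) (tt N49900 F137903) (tt N26347 F70271) (tt N51892 (iv3 F147386)) (tt N51893 D95699) (tt N13711 (iv5 D44697)) (tt N51894 D95700) (tt N27780 (iv7 F71483)))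
theorem Q27444 : ∀ i, i < 27444 → P i := stepQ 27443 Q27443 (allL N27443 (tt N27943 F72301) (tt N26117 (iv0 F70285)) (tt N26020 F70283) (tt N27209 F70284) (tt N13712 (iv4 D44707)) (tt N46679 (iv5 F125784)) (tt N51895 D95724) (tt N27803 (iv7 F71560)))
theorem Q27445 : ∀ i, i < 27445 → P i := stepQ 27444 Q27444 (allL N27444 (tt N27840 (iv1 F71664)) (tt N13727 (iv0 F70287)) (tt N27807 (iv2 F71580)) (tt N21751 F70286) (tt N43254 (iv4 F108420)) (tt N13712 (iv5 D44708)) (tt N51896 D95725) (tt N27804 (iv7 F71563)))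
theorem Q27446 : ∀ i, i < 27446 → P i := stepQ 27445 Q27445 (allL N27445 (tt N27870 (iv1 F157284)) (tt N26748 F294106) (tt N27808 (iv2 F71584)) (tt N27829 (iv3 F71642)) (tt N51895 (iv4 F147420)) (tt N51897 D95728) (tt N13712 (iv6 D44709)) (tt N27869 (iv7 F157283)))
theorem Q27447 : ∀ i, i < 27447 → P i := stepQ 27446 Q27446 (allL N27446 (tt N46797 (iv1 F127110)) (tt N27682 (iv0 F71417)) (tt N27827 (iv2 F71628)) (tt N13713 (iv3 D44710)) (tt N25611 F70288) (tt N43733 (iv5 F109577)) (tt N51898 D95730) (tt N27806 (iv7 F71570)))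
theorem Q27448 : ∀ i, i < 27448 → P i := stepQ 27447 Q27447 (allL N27447 (tt N26117 (iv1 F70291)) (tt N27943 (iv0 F72300)) (tt N27803 (iv2 F71558)) (tt N25957 F70290) (tt N13713 (iv4 D44711)) (tt N28282 F74224) (tt N51899 D95731) (tt N26020 F70289))
theorem Q27449 : ∀ i, i < 27449 → P i := stepQ 27448 Q27448 (allL N27448 (tt N13727 F70293) (tt N27840 F71665) (tt N27804 (iv2 F71561)) (tt N43733 (iv3 F109576)) (tt N36549 F94791) (tt N13713 (iv5 D44712)) (tt N51900 D95732) (tt N27807 (iv7 F71581)))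
theorem Q27450 : ∀ i, i < 27450 → P i := stepQ 27449 Q27449 (allL N27449 (tt N13737 F157624) (tt N51764 F157625) (tt N27805 (iv2 F71566)) (tt N51898 (iv3 F147422)) (tt N51899 (iv4 F147425)) (tt N51901 D95735) (tt N13713 (iv6 D44713)) (tt N51763 F157626))
theorem Q27451 : ∀ i, i < 27451 → P i := stepQ 27450 Q27450 (allL N27450 (tt N27812 (iv1 F71598)) (tt N27811 F71593) (tt N13715 F70294) (tt N16398 F70295) (tt N51902 D95737) (tt N13714 (iv5 D44714)) (tt N51903 D95738) (tt N27809 (iv7 F71587)))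
theorem Q27452 : ∀ i, i < 27452 → P i := stepQ 27451 Q27451 (allL N27451 (tt N49895 F137893) (tt N49894 F137891) (tt N13716 F70296) (tt N27830 (iv3 F71645)) (tt N25664 F70297) (tt N51904 D95739) (tt N13714 (iv6 D44715)) (tt N49896 (iv7 F137895)))
theorem Q27453 : ∀ i, i < 27453 → P i := stepQ 27452 Q27452 (allL N27452 (tt N27809 (iv1 F71588)) (tt N13715 (iv0 D44716)) (tt N27812 F71601) (tt N23869 F70298) (tt N51905 D95740) (tt N14566 (iv5 F70299)) (tt N51906 D95741) (tt N27811 F71595))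
theorem Q27454 : ∀ i, i < 27454 → P i := stepQ 27453 Q27453 (allL N27453 (tt N13715 (iv1 D44717)) (tt N27809 F71589) (tt N27811 (iv2 F71596)) (tt N26183 F308366) (tt N36484 F94695) (tt N14567 F71597) (tt N26221 (iv6 F310448)) (tt N27812 (iv7 F71599)))
theorem Q27455 : ∀ i, i < 27455 → P i := stepQ 27454 Q27454 (allL N27454 (tt N34108 (iv1 F301494)) (tt N51907 D95743) (tt N51902 (iv2 F147426)) (tt N43838 F306816) (tt N13715 (iv4 D44718)) (tt N47968 (iv5 F301505)) (tt N43836 (iv6 F308644)) (tt N27813 (iv7 F71602)))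
theorem Q27456 : ∀ i, i < 27456 → P i := stepQ 27455 Q27455 (allL N27455 (tt N51908 D95746) (tt N51909 D95747) (tt N51903 (iv2 F147429)) (tt N13717 F70300) (tt N43836 F310752) (tt N51910 D95748) (tt N13715 (iv6 D44719)) (tt N51911 D95749))
theorem Q27457 : ∀ i, i < 27457 → P i := stepQ 27456 Q27456 (allL N27456 (tt N49896 (iv1 F137896)) (tt N13716 (iv0 D44720)) (tt N49895 F145365) (tt N45144 F114613) (tt N51912 D95750) (tt N51913 D95751) (tt N51914 D95752) (tt N49894 (iv7 F145361)))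
theorem Q27458 : ∀ i, i < 27458 → P i := stepQ 27457 Q27457 (allL N27457 (tt N13716 (iv1 D44721)) (tt N49896 F137897) (tt N49894 (iv2 F145366)) (tt N51915 D95753) (tt N51916 D95754) (tt N51917 D95755) (tt N51918 D95756) (tt N49895 F145367))
theorem Q27459 : ∀ i, i < 27459 → P i := stepQ 27458 Q27458 (allL N27458 (tt N51919 D95757) (tt N51920 D95758) (tt N51904 (iv2 F147431)) (tt N13718 F70301) (tt N51921 D95759) (tt N13716 (iv5 D44722)) (tt N51910 (iv6 F147443)) (tt N49897 (iv7 F137899)))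
theorem Q27460 : ∀ i, i < 27460 → P i := stepQ 27459 Q27459 (allL N27459 (tt N27837 (iv1 F71655)) (tt N13717 (iv0 D44723)) (tt N27834 F319389) (tt N51922 D95761) (tt N42900 (iv4 F317108)) (tt N51923 D95763) (tt N51924 D95764) (tt N27835 F319390))
theorem Q27461 : ∀ i, i < 27461 → P i := stepQ 27460 Q27460 (allL N27460 (tt N13717 (iv1 D44724)) (tt N27837 F71654) (tt N27835 F319391) (tt N27820 (iv3 F319119)) (tt N46604 (iv4 F319120)) (tt N51925 D95768) (tt N51926 D95769) (tt N27834 F319392))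
theorem Q27462 : ∀ i, i < 27462 → P i := stepQ 27461 Q27461 (allL N27461 (tt N51927 D95770) (tt N51928 D95771) (tt N27836 (iv2 F71649)) (tt N51910 (iv3 F147442)) (tt N51929 D95772) (tt N13717 (iv5 D44725)) (tt N13718 F70302) (tt N51930 D95773))
theorem Q27463 : ∀ i, i < 27463 → P i := stepQ 27462 Q27462 (allL N27462 (tt N27835 (iv1 F71648)) (tt N27834 F71653) (tt N27837 (iv2 F71651)) (tt N51911 (iv3 F147444)) (tt N43625 F314847) (tt N51930 (iv5 F147458)) (tt N27822 (iv6 F71611)) (tt N13717 (iv7 D44726)))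
theorem Q27464 : ∀ i, i < 27464 → P i := stepQ 27463 Q27463 (allL N27463 (tt N26346 (iv1 F70305)) (tt N13718 (iv0 D44727)) (tt N14658 (iv2 F70304)) (tt N51931 D95774) (tt N29454 (iv4 F76233)) (tt N14644 F70303) (tt N51932 D95775) (tt N27838 (iv7 F71657)))
theorem Q27465 : ∀ i, i < 27465 → P i := stepQ 27464 Q27464 (allL N27464 (tt N51933 D95776) (tt N51841 (iv0 F328307)) (tt N27839 (iv2 F71660)) (tt N51934 D95778) (tt N13718 (iv4 D44728)) (tt N29442 (iv5 F76205)) (tt N51929 (iv6 F147457)) (tt N49898 (iv7 F137901)))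
theorem Q27466 : ∀ i, i < 27466 → P i := stepQ 27465 Q27465 (allL N27465 (tt N27682 F70954) (tt N46797 (iv0 F127109)) (tt N27806 (iv2 F71568)) (tt N13719 (iv3 D44729)) (tt N25612 F70306) (tt N46115 (iv5 F120352)) (tt N51935 D95779) (tt N27827 (iv7 F71630)))
theorem Q27467 : ∀ i, i < 27467 → P i := stepQ 27466 Q27466 (allL N27466 (tt N41167 F305033) (tt N13740 (iv0 F157268)) (tt N27829 (iv2 F71641)) (tt N51935 (iv3 F147471)) (tt N27223 F70308) (tt N51936 D95782) (tt N13719 (iv6 D44730)) (tt N51394 (iv7 F157270)))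
theorem Q27468 : ∀ i, i < 27468 → P i := stepQ 27467 Q27467 (allL N27467 (tt N13729 F70312) (tt N27847 F71681) (tt N23871 F70309) (tt N27804 (iv3 F71562)) (tt N16400 F70310) (tt N13720 (iv5 D44731)) (tt N51937 D95784) (tt N21751 F70311))
theorem Q27469 : ∀ i, i < 27469 → P i := stepQ 27468 Q27468 (allL N27468 (tt N26749 F293690) (tt N27877 (iv0 F157607)) (tt N27828 (iv2 F71639)) (tt N27805 (iv3 F71567)) (tt N27224 F70313) (tt N51938 D95787) (tt N13720 (iv6 D44732)) (tt N27876 F157587))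
theorem Q27470 : ∀ i, i < 27470 → P i := stepQ 27469 Q27469 (allL N27469 (tt N23869 F70317) (tt N23868 F70318) (tt N13722 F70314) (tt N27809 (iv3 F71586)) (tt N16399 F70315) (tt N13721 (iv5 D44733)) (tt N50740 (iv6 F142189)) (tt N16398 F70316))
theorem Q27471 : ∀ i, i < 27471 → P i := stepQ 27470 Q27470 (allL N27470 (tt N45144 F114612) (tt N45148 (iv0 F136440)) (tt N13723 F70319) (tt N27810 (iv3 F71591)) (tt N16374 F70320) (tt N51939 D95789) (tt N13721 (iv6 D44734)) (tt N51940 D95790))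
theorem Q27472 : ∀ i, i < 27472 → P i := stepQ 27471 Q27471 (allL N27471 (tt N16398 (iv1 F70322)) (tt N13722 (iv0 D44735)) (tt N23869 (iv2 F70323)) (tt N51941 D95791) (tt N29892 (iv4 F77549)) (tt N14571 F70321) (tt N51942 D95792) (tt N23868 (iv7 F70324)))
theorem Q27473 : ∀ i, i < 27473 → P i := stepQ 27472 Q27472 (allL N27472 (tt N13722 (iv1 D44736)) (tt N16398 F70325) (tt N23868 (iv2 F70329)) (tt N27811 (iv3 F71592)) (tt N21679 F70328) (tt N14572 F70327) (tt N51943 D95793) (tt N23869 F70326))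
theorem Q27474 : ∀ i, i < 27474 → P i := stepQ 27473 Q27473 (allL N27473 (tt N51944 D95794) (tt N51945 D95795) (tt N50740 (iv2 F142188)) (tt N13724 F70330) (tt N23870 F70331) (tt N51946 D95796) (tt N13722 (iv6 D44737)) (tt N51947 D95797))
theorem Q27475 : ∀ i, i < 27475 → P i := stepQ 27474 Q27474 (allL N27474 (tt N51940 (iv1 F147482)) (tt N13723 (iv0 D44738)) (tt N45144 (iv2 F145363)) (tt N51948 D95798) (tt N27225 F137982) (tt N51949 D95799) (tt N51950 D95800) (tt N45148 F145364))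
theorem Q27476 : ∀ i, i < 27476 → P i := stepQ 27475 Q27475 (allL N27475 (tt N13723 (iv1 D44739)) (tt N51940 F147481) (tt N45148 F145362) (tt N49894 (iv3 F137890)) (tt N27226 (iv4 F136673)) (tt N51951 D95801) (tt N41174 F340050) (tt N45144 (iv7 F145359)))
theorem Q27477 : ∀ i, i < 27477 → P i := stepQ 27476 Q27476 (allL N27476 (tt N51952 D95803) (tt N51953 D95804) (tt N51939 (iv2 F147477)) (tt N13725 F70332) (tt N51954 D95805) (tt N13723 (iv5 D44740)) (tt N51946 (iv6 F147491)) (tt N51955 D95806))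
theorem Q27478 : ∀ i, i < 27478 → P i := stepQ 27477 Q27477 (allL N27477 (tt N45148 (iv1 F136447)) (tt N45144 (iv0 F136450)) (tt N51940 (iv2 F147478)) (tt N13726 F70333) (tt N26391 F70334) (tt N51955 (iv5 F147498)) (tt N26345 F70335) (tt N13723 (iv7 D44741)))
theorem Q27479 : ∀ i, i < 27479 → P i := stepQ 27478 Q27478 (allL N27478 (tt N27822 (iv1 F71614)) (tt N13724 (iv0 D44742)) (tt N27819 (iv2 F322038)) (tt N27834 F320368) (tt N41330 (iv4 F322039)) (tt N51956 D95810) (tt N41329 F320369) (tt N27820 (iv7 F322040)))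
theorem Q27480 : ∀ i, i < 27480 → P i := stepQ 27479 Q27479 (allL N27479 (tt N13724 (iv1 D44743)) (tt N27822 F71613) (tt N27820 F323697) (tt N51957 D95813) (tt N41333 (iv4 F324997)) (tt N51958 D95815) (tt N51959 D95816) (tt N27819 F323698))
theorem Q27481 : ∀ i, i < 27481 → P i := stepQ 27480 Q27480 (allL N27480 (tt N51960 D95817) (tt N51961 D95818) (tt N27821 (iv2 F71608)) (tt N51946 (iv3 F147490)) (tt N51962 D95819) (tt N13724 (iv5 D44744)) (tt N13725 F70336) (tt N51963 D95820))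
theorem Q27482 : ∀ i, i < 27482 → P i := stepQ 27481 Q27481 (allL N27481 (tt N27820 (iv1 F71607)) (tt N27819 F71612) (tt N27822 (iv2 F71610)) (tt N51947 (iv3 F147492)) (tt N46574 (iv4 F125488)) (tt N51963 (iv5 F147502)) (tt N27837 (iv6 F71652)) (tt N13724 (iv7 D44745)))
theorem Q27483 : ∀ i, i < 27483 → P i := stepQ 27482 Q27482 (allL N27482 (tt N13725 (iv1 D44747)) (tt N27826 F71626) (tt N27824 (iv2 F71617)) (tt N51964 D95822) (tt N28757 (iv4 F291198)) (tt N27326 (iv5 F70339)) (tt N51965 D95823) (tt N27823 F71621))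
theorem Q27484 : ∀ i, i < 27484 → P i := stepQ 27483 Q27483 (allL N27483 (tt N51966 D95824) (tt N51967 D95825) (tt N27825 (iv2 F71623)) (tt N51968 D95826) (tt N13725 (iv4 D44748)) (tt N28740 (iv5 F291433)) (tt N51962 (iv6 F147501)) (tt N51969 D95828))
theorem Q27485 : ∀ i, i < 27485 → P i := stepQ 27484 Q27484 (allL N27484 (tt N27824 (iv1 F71615)) (tt N27823 F71622) (tt N27826 (iv2 F71624)) (tt N51955 (iv3 F147497)) (tt N51969 (iv4 F147512)) (tt N13726 F70340) (tt N51970 D95829) (tt N13725 (iv7 D44749)))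
theorem Q27486 : ∀ i, i < 27486 → P i := stepQ 27485 Q27485 (allL N27485 (tt N27807 (iv1 F71583)) (tt N27804 (iv0 F71564)) (tt N13727 (iv2 D44750)) (tt N27847 (iv3 F71676)) (tt N51971 D95830) (tt N14512 F70341) (tt N31803 (iv6 F314292)) (tt N27840 (iv7 F71663)))
theorem Q27487 : ∀ i, i < 27487 → P i := stepQ 27486 Q27486 (allL N27486 (tt N51972 D95832) (tt N51973 D95833) (tt N51971 (iv2 F147516)) (tt N42036 F307684) (tt N13727 (iv4 D44751)) (tt N51974 D95834) (tt N31338 (iv6 F309693)) (tt N27841 (iv7 F71666)))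
theorem Q27488 : ∀ i, i < 27488 → P i := stepQ 27487 Q27487 (allL N27487 (tt N35827 (iv1 F314293)) (tt N39596 (iv0 F314294)) (tt N31803 (iv2 F314291)) (tt N13728 F70342) (tt N31338 F311871) (tt N15542 (iv5 F314295)) (tt N13727 (iv6 D44752)) (tt N31796 (iv7 F314296)))
theorem Q27489 : ∀ i, i < 27489 → P i := stepQ 27488 Q27488 (allL N27488 (tt N13728 (iv1 D44754)) (tt N18448 (iv0 F316565)) (tt N18452 F319393) (tt N27844 (iv3 F316808)) (tt N18415 (iv4 F317116)) (tt N21372 (iv5 F317117)) (tt N51975 D95849) (tt N18442 F319394))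
theorem Q27490 : ∀ i, i < 27490 → P i := stepQ 27489 Q27489 (allL N27489 (tt N41657 (iv1 F317120)) (tt N51976 D95851) (tt N27849 (iv2 F71684)) (tt N15542 F314851) (tt N21344 (iv4 F317124)) (tt N13728 (iv5 D44755)) (tt N14514 F70343) (tt N31795 (iv7 F317125)))
theorem Q27491 : ∀ i, i < 27491 → P i := stepQ 27490 Q27490 (allL N27490 (tt N21751 (iv1 F70347)) (tt N23871 F70346) (tt N13729 (iv2 D44757)) (tt N27840 (iv3 F71661)) (tt N14888 F70344) (tt N14518 F70345) (tt N51977 D95854) (tt N27847 (iv7 F71679)))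
theorem Q27492 : ∀ i, i < 27492 → P i := stepQ 27491 Q27491 (allL N27491 (tt N51978 D95855) (tt N51979 D95856) (tt N51977 (iv2 F147535)) (tt N13730 F70348) (tt N34127 (iv4 F86797)) (tt N51980 D95857) (tt N13729 (iv6 D44758)) (tt N51981 D95858))
theorem Q27493 : ∀ i, i < 27493 → P i := stepQ 27492 Q27492 (allL N27492 (tt N27846 (iv1 F71675)) (tt N13730 (iv0 D44759)) (tt N27843 (iv2 F290426)) (tt N18442 F319396) (tt N46609 F318670) (tt N51982 D95862) (tt N51983 D95863) (tt N27844 F290425))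
theorem Q27494 : ∀ i, i < 27494 → P i := stepQ 27493 Q27493 (allL N27493 (tt N13730 (iv1 D44760)) (tt N27846 F71674) (tt N27844 F290424) (tt N51984 D95865) (tt N20985 F314854) (tt N51985 D95867) (tt N51986 D95868) (tt N27843 (iv7 F290427)))
theorem Q27495 : ∀ i, i < 27495 → P i := stepQ 27494 Q27494 (allL N27494 (tt N51987 D95869) (tt N51988 D95870) (tt N27845 (iv2 F71669)) (tt N51980 (iv3 F147537)) (tt N51989 D95871) (tt N13730 (iv5 D44761)) (tt N14520 F70349) (tt N51990 D95872))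
theorem Q27496 : ∀ i, i < 27496 → P i := stepQ 27495 Q27495 (allL N27495 (tt N27844 (iv1 F71668)) (tt N27843 F71673) (tt N27846 (iv2 F71671)) (tt N51981 (iv3 F147539)) (tt N42062 F314855) (tt N51990 (iv5 F147544)) (tt N18448 (iv6 F316566)) (tt N13730 (iv7 D44762)))
theorem Q27497 : ∀ i, i < 27497 → P i := stepQ 27496 Q27496 (allL N27496 (tt N21094 F309268) (tt N13731 (iv0 D44763)) (tt N27851 F74245) (tt N51991 D95873) (tt N51992 D95874) (tt N28286 (iv5 F74246)) (tt N14825 (iv6 F311490)) (tt N27850 F74243))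
theorem Q27498 : ∀ i, i < 27498 → P i := stepQ 27497 Q27497 (allL N27497 (tt N13731 (iv1 D44764)) (tt N21094 F309270) (tt N27850 (iv2 F74240)) (tt N51993 D95876) (tt N42402 (iv4 F311491)) (tt N28283 F73551) (tt N42401 (iv6 F311492)) (tt N27851 (iv7 F74244)))
theorem Q27499 : ∀ i, i < 27499 → P i := stepQ 27498 Q27498 (allL N27498 (tt N27851 (iv1 F71692)) (tt N27850 F71691) (tt N13731 (iv2 D44765)) (tt N16848 F305316) (tt N21094 F309273) (tt N27681 (iv5 F70916)) (tt N51994 D95879) (tt N21094 F309274))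
theorem Q27500 : ∀ i, i < 27500 → P i := stepQ 27499 Q27499 (allL N27499 (tt N51995 D95880) (tt N51996 D95881) (tt N51994 (iv2 F147549)) (tt N13732 F70355) (tt N27852 (iv4 F71694)) (tt N21921 (iv5 F300081)) (tt N13731 (iv6 D44766)) (tt N51997 D95883))
theorem Q27501 : ∀ i, i < 27501 → P i := stepQ 27500 Q27500 (allL N27500 (tt N27747 (iv1 F71304)) (tt N13732 (iv0 D44767)) (tt N27744 F310995) (tt N42825 (iv3 F308813)) (tt N51647 (iv4 F352646)) (tt N42824 (iv5 F308814)) (tt N51998 D95888) (tt N27745 F310996))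
theorem Q27502 : ∀ i, i < 27502 → P i := stepQ 27501 Q27501 (allL N27501 (tt N13732 (iv1 D44768)) (tt N27747 F71303) (tt N27745 F310993) (tt N51999 D95890) (tt N51648 (iv4 F310158)) (tt N52000 D95892) (tt N18453 (iv6 F308812)) (tt N27744 F310994))
theorem Q27503 : ∀ i, i < 27503 → P i := stepQ 27502 Q27502 (allL N27502 (tt N27745 (iv1 F71296)) (tt N27744 F71302) (tt N27747 (iv2 F71299)) (tt N51997 (iv3 F147553)) (tt N13736 F70356) (tt N48471 (iv5 F300084)) (tt N27856 (iv6 F71700)) (tt N13732 (iv7 D44770)))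
theorem Q27504 : ∀ i, i < 27504 → P i := stepQ 27503 Q27503 (allL N27503 (tt N52001 D95904) (tt N51900 (iv0 F361783)) (tt N52002 D95906) (tt N13733 (iv3 D44772)) (tt N52003 D95907) (tt N52004 D95908) (tt N52005 D95909) (tt N51757 (iv7 F317851)))
theorem Q27505 : ∀ i, i < 27505 → P i := stepQ 27504 Q27504 (allL N27504 (tt N52006 D95911) (tt N46529 (iv0 F312747)) (tt N51754 (iv2 F317857)) (tt N42167 F310544) (tt N13733 (iv4 D44773)) (tt N17411 (iv5 F312754)) (tt N52007 D95915) (tt N42157 (iv7 F312763)))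
theorem Q27506 : ∀ i, i < 27506 → P i := stepQ 27505 Q27505 (allL N27505 (tt N52008 D95917) (tt N52009 D95918) (tt N51755 (iv2 F317862)) (tt N52004 (iv3 F147566)) (tt N52010 D95919) (tt N13733 (iv5 D44774)) (tt N52011 D95920) (tt N51758 (iv7 F317853)))
theorem Q27507 : ∀ i, i < 27507 → P i := stepQ 27506 Q27506 (allL N27506 (tt N51986 (iv1 F290441)) (tt N52012 D95923) (tt N51756 (iv2 F317864)) (tt N52005 (iv3 F147567)) (tt N52007 (iv4 F147570)) (tt N52013 D95924) (tt N13733 (iv6 D44775)) (tt N52014 D95925))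
theorem Q27508 : ∀ i, i < 27508 → P i := stepQ 27507 Q27507 (allL N27507 (tt N46116 (iv1 F347579)) (tt N52015 D95928) (tt N52016 D95929) (tt N13734 (iv3 D44777)) (tt N52017 D95930) (tt N52018 D95931) (tt N52019 D95932) (tt N51753 (iv7 F317854)))
theorem Q27509 : ∀ i, i < 27509 → P i := stepQ 27508 Q27508 (allL N27508 (tt N46529 (iv1 F312748)) (tt N52006 F147573) (tt N42157 (iv2 F312761)) (tt N52020 D95933) (tt N13734 (iv4 D44778)) (tt N17412 (iv5 F315069)) (tt N42154 (iv6 F315070)) (tt N51754 (iv7 F317861)))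
theorem Q27510 : ∀ i, i < 27510 → P i := stepQ 27509 Q27509 (allL N27509 (tt N52009 (iv1 F147575)) (tt N52008 F147578) (tt N51758 (iv2 F317852)) (tt N52018 (iv3 F147582)) (tt N52021 D95936) (tt N13734 (iv5 D44779)) (tt N52022 D95937) (tt N51755 (iv7 F317863)))
theorem Q27511 : ∀ i, i < 27511 → P i := stepQ 27510 Q27510 (allL N27510 (tt N52023 D95938) (tt N18451 (iv0 F317844)) (tt N42155 (iv2 F317845)) (tt N52019 (iv3 F147583)) (tt N42154 F315578) (tt N52024 D95940) (tt N13734 (iv6 D44780)) (tt N52025 D95941))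
theorem Q27512 : ∀ i, i < 27512 → P i := stepQ 27511 Q27511 (allL N27511 (tt N51762 (iv1 F147150)) (tt N13735 (iv0 D44781)) (tt N51759 (iv2 F335104)) (tt N52026 D95943) (tt N52027 D95944) (tt N52028 D95945) (tt N52029 D95946) (tt N51760 (iv7 F335102)))
theorem Q27513 : ∀ i, i < 27513 → P i := stepQ 27512 Q27512 (allL N27512 (tt N13735 (iv1 D44782)) (tt N51762 F147149) (tt N51760 (iv2 F335101)) (tt N52030 D95948) (tt N52031 D95949) (tt N52032 D95950) (tt N52033 D95951) (tt N51759 (iv7 F335106)))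
theorem Q27514 : ∀ i, i < 27514 → P i := stepQ 27513 Q27513 (allL N27513 (tt N52034 D95952) (tt N52035 D95953) (tt N51761 (iv2 F147144)) (tt N52036 D95954) (tt N13735 (iv4 D44783)) (tt N52037 D95955) (tt N13745 F70359) (tt N52038 D95956))
theorem Q27515 : ∀ i, i < 27515 → P i := stepQ 27514 Q27514 (allL N27514 (tt N51760 (iv1 F147142)) (tt N51759 F147148) (tt N51762 (iv2 F147146)) (tt N27868 (iv3 F71707)) (tt N52038 (iv4 F147590)) (tt N13736 F70360) (tt N52039 D95957) (tt N13735 (iv7 D44784)))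
theorem Q27516 : ∀ i, i < 27516 → P i := stepQ 27515 Q27515 (allL N27515 (tt N51764 (iv1 F147156)) (tt N13737 (iv0 D44785)) (tt N51763 (iv2 F151954)) (tt N27876 F144587) (tt N52040 D95959) (tt N52041 D95960) (tt N27869 (iv6 F157620)) (tt N27805 (iv7 F157608)))
theorem Q27517 : ∀ i, i < 27517 → P i := stepQ 27516 Q27516 (allL N27516 (tt N51763 (iv1 F147157)) (tt N27805 F157622) (tt N13737 (iv2 D44787)) (tt N41167 F305034) (tt N25670 F70361) (tt N41155 (iv5 F306977)) (tt N41158 (iv6 F306954)) (tt N51764 (iv7 F147155)))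
theorem Q27518 : ∀ i, i < 27518 → P i := stepQ 27517 Q27517 (allL N27517 (tt N52042 D95969) (tt N52043 D95970) (tt N41155 F308759) (tt N13738 F70362) (tt N52044 D95971) (tt N13737 (iv5 D44788)) (tt N41153 F308760) (tt N51765 (iv7 F147160)))
theorem Q27519 : ∀ i, i < 27519 → P i := stepQ 27518 Q27518 (allL N27518 (tt N52045 D95973) (tt N52046 D95974) (tt N41158 (iv2 F306953)) (tt N13739 F70363) (tt N49515 (iv4 F136737)) (tt N34152 F323188) (tt N13737 (iv6 D44789)) (tt N50627 F292224))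
theorem Q27520 : ∀ i, i < 27520 → P i := stepQ 27519 Q27519 (allL N27519 (tt N13741 (iv1 F70366)) (tt N13738 (iv0 D44790)) (tt N14675 (iv2 F70368)) (tt N52047 D95977) (tt N52048 D95978) (tt N14665 F70364) (tt N52049 D95979) (tt N49214 F294002))
theorem Q27521 : ∀ i, i < 27521 → P i := stepQ 27520 Q27520 (allL N27520 (tt N52050 D95982) (tt N52051 D95983) (tt N51395 (iv2 F144811)) (tt N52052 D95984) (tt N13738 (iv4 D44792)) (tt N27534 (iv5 F70381)) (tt N52053 D95985) (tt N51766 (iv7 F147162)))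
theorem Q27522 : ∀ i, i < 27522 → P i := stepQ 27521 Q27521 (allL N27521 (tt N52054 D95986) (tt N52055 D95987) (tt N41092 F305025) (tt N41153 (iv3 F306966)) (tt N52053 (iv4 F147620)) (tt N41091 F305026) (tt N13738 (iv6 D44793)) (tt N52056 D95989))
theorem Q27523 : ∀ i, i < 27523 → P i := stepQ 27522 Q27522 (allL N27522 (tt N14560 F70374) (tt N14591 (iv0 F70375)) (tt N14589 F70373) (tt N34152 F323187) (tt N43582 (iv4 F323710)) (tt N13739 (iv5 D44794)) (tt N41091 (iv6 F302682)) (tt N14588 (iv7 F75383)))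
theorem Q27524 : ∀ i, i < 27524 → P i := stepQ 27523 Q27523 (allL N27523 (tt N13740 (iv1 D44797)) (tt N41167 F305032) (tt N51394 (iv2 F152531)) (tt N27869 (iv3 F144801)) (tt N27245 (iv4 F144800)) (tt N52057 D95996) (tt N27876 F157602) (tt N27829 F157279))
theorem Q27525 : ∀ i, i < 27525 → P i := stepQ 27524 Q27524 (allL N27524 (tt N27829 F157281) (tt N51394 F144791) (tt N13740 (iv2 D44798)) (tt N51764 (iv3 F147153)) (tt N50725 (iv4 F178331)) (tt N41168 (iv5 F306979)) (tt N52058 D95999) (tt N41167 F305035))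
theorem Q27526 : ∀ i, i < 27526 → P i := stepQ 27525 Q27525 (allL N27525 (tt N41166 (iv1 F306980)) (tt N41165 (iv0 F306981)) (tt N41168 (iv2 F306978)) (tt N13741 F70376) (tt N52059 D96002) (tt N13740 (iv5 D44799)) (tt N52060 D96003) (tt N41093 F305036))
theorem Q27527 : ∀ i, i < 27527 → P i := stepQ 27526 Q27526 (allL N27526 (tt N52061 D96004) (tt N52062 D96005) (tt N52058 (iv2 F147634)) (tt N13742 F70377) (tt N51274 (iv4 F144649)) (tt N52063 D96006) (tt N13740 (iv6 D44800)) (tt N49919 (iv7 F137924)))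
theorem Q27528 : ∀ i, i < 27528 → P i := stepQ 27527 Q27527 (allL N27527 (tt N52051 (iv1 F147618)) (tt N52050 F147617) (tt N51766 (iv2 F147161)) (tt N52064 D96007) (tt N13741 (iv4 D44801)) (tt N27531 (iv5 F70380)) (tt N52065 D96008) (tt N51395 (iv7 F144812)))
theorem Q27529 : ∀ i, i < 27529 → P i := stepQ 27528 Q27528 (allL N27528 (tt N52066 D96009) (tt N52067 D96010) (tt N51767 (iv2 F147163)) (tt N52060 (iv3 F147635)) (tt N52065 (iv4 F147637)) (tt N52068 D96011) (tt N13741 (iv6 D44802)) (tt N52069 D96012))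
theorem Q27530 : ∀ i, i < 27530 → P i := stepQ 27529 Q27529 (allL N27529 (tt N14668 F70378) (tt N27325 (iv0 F70379)) (tt N29398 (iv2 F76062)) (tt N52063 (iv3 F147636)) (tt N52070 D96013) (tt N13742 (iv5 D44803)) (tt N52068 (iv6 F147638)) (tt N29399 (iv7 F76065)))
theorem Q27531 : ∀ i, i < 27531 → P i := stepQ 27530 Q27530 (allL N27530 (tt N52041 (iv1 F365036)) (tt N51901 (iv0 F157629)) (tt N52071 D96016) (tt N13743 (iv3 D44805)) (tt N52072 D96017) (tt N29460 (iv5 F76240)) (tt N52073 D96018) (tt N51771 (iv7 F147171)))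
theorem Q27532 : ∀ i, i < 27532 → P i := stepQ 27531 Q27531 (allL N27531 (tt N52074 D96019) (tt N52075 D96020) (tt N51769 (iv2 F147166)) (tt N52076 D96021) (tt N13743 (iv4 D44806)) (tt N27527 F70380) (tt N52077 D96022) (tt N51772 (iv7 F147174)))
theorem Q27533 : ∀ i, i < 27533 → P i := stepQ 27532 Q27532 (allL N27532 (tt N52078 D96023) (tt N52079 D96024) (tt N51770 (iv2 F147169)) (tt N52073 (iv3 F147639)) (tt N52077 (iv4 F147648)) (tt N52080 D96025) (tt N13743 (iv6 D44807)) (tt N52081 D96026))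
theorem Q27534 : ∀ i, i < 27534 → P i := stepQ 27533 Q27533 (allL N27533 (tt N51936 (iv1 F177441)) (tt N52057 (iv0 F177442)) (tt N52082 D96029) (tt N13744 (iv3 D44808)) (tt N52083 D96030) (tt N29461 (iv5 F76243)) (tt N52084 D96031) (tt N51768 (iv7 F147165)))
theorem Q27535 : ∀ i, i < 27535 → P i := stepQ 27534 Q27534 (allL N27534 (tt N52075 (iv1 F147643)) (tt N52074 F147641) (tt N51772 (iv2 F147172)) (tt N52085 D96032) (tt N13744 (iv4 D44809)) (tt N27520 F70381) (tt N52086 D96033) (tt N51769 (iv7 F147167)))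
theorem Q27536 : ∀ i, i < 27536 → P i := stepQ 27535 Q27535 (allL N27535 (tt N52087 D96034) (tt N52088 D96035) (tt N51773 (iv2 F147175)) (tt N52084 (iv3 F147650)) (tt N52086 (iv4 F147652)) (tt N50401 (iv5 F139652)) (tt N13744 (iv6 D44810)) (tt N52089 D96036))
theorem Q27537 : ∀ i, i < 27537 → P i := stepQ 27536 Q27536 (allL N27536 (tt N27539 (iv1 F70388)) (tt N13745 (iv0 D44811)) (tt N51774 F147182) (tt N52090 D96037) (tt N27556 (iv4 F70430)) (tt N27565 (iv5 F70456)) (tt N52091 D96038) (tt N51775 (iv7 F147181)))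
theorem Q27538 : ∀ i, i < 27538 → P i := stepQ 27537 Q27537 (allL N27537 (tt N13745 (iv1 D44812)) (tt N27539 F70384) (tt N51775 (iv2 F147180)) (tt N52092 D96039) (tt N27570 (iv4 F70460)) (tt N27550 (iv5 F70461)) (tt N52093 D96040) (tt N51774 F147183))
theorem Q27539 : ∀ i, i < 27539 → P i := stepQ 27538 Q27538 (allL N27538 (tt N52094 D96041) (tt N52095 D96042) (tt N52096 D96043) (tt N13745 (iv3 D44813)) (tt N27890 (iv4 F71724)) (tt N52097 D96044) (tt N52036 (iv6 F147589)) (tt N52098 D96045))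
theorem Q27540 : ∀ i, i < 27540 → P i := stepQ 27539 Q27539 (allL N27539 (tt N27537 (iv1 F70384)) (tt N27536 F70388) (tt N27540 (iv2 F70385)) (tt N52097 (iv3 F147653)) (tt N27383 F70382) (tt N13745 (iv5 D44814)) (tt N52099 D96046) (tt N27382 F70383))
theorem Q27541 : ∀ i, i < 27541 → P i := stepQ 27540 Q27540 (allL N27540 (tt N51775 (iv1 F147178)) (tt N51774 F147177) (tt N27539 F70385) (tt N52098 (iv3 F147655)) (tt N13746 F70386) (tt N27382 F70387) (tt N52100 D96047) (tt N13745 (iv7 D44815)))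
theorem Q27542 : ∀ i, i < 27542 → P i := stepQ 27541 Q27541 (allL N27541 (tt N52101 D96048) (tt N52102 D96049) (tt N51777 (iv2 F147184)) (tt N26751 F293105) (tt N52100 (iv4 F147659)) (tt N26751 (iv5 F291971)) (tt N13746 (iv6 D44816)) (tt N52039 (iv7 F147591)))
theorem Q27543 : ∀ i, i < 27543 → P i := stepQ 27542 Q27542 (allL N27542 (tt N52103 D96051) (tt N52104 D96052) (tt N52105 D96053) (tt N13749 (iv3 D44822)) (tt N27188 F70407) (tt N52106 D96054) (tt N27891 (iv6 F71743)) (tt N27752 F71406))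
theorem Q27544 : ∀ i, i < 27544 → P i := stepQ 27543 Q27543 (allL N27543 (tt N27570 (iv1 F70459)) (tt N27556 (iv0 F70428)) (tt N51778 (iv2 F147185)) (tt N52106 (iv3 F147667)) (tt N52107 D96055) (tt N13749 (iv5 D44823)) (tt N52108 D96056) (tt N27753 (iv7 F71408)))
theorem Q27545 : ∀ i, i < 27545 → P i := stepQ 27544 Q27544 (allL N27544 (tt N51344 (iv1 F144756)) (tt N13750 (iv0 D44824)) (tt N51347 (iv2 F205493)) (tt N27893 F144639) (tt N49843 F293176) (tt N49332 (iv5 F294192)) (tt N27893 F205506) (tt N27755 (iv7 F205494)))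
theorem Q27546 : ∀ i, i < 27546 → P i := stepQ 27545 Q27545 (allL N27545 (tt N51347 (iv1 F144761)) (tt N27755 (iv0 F178360)) (tt N13750 (iv2 D44826)) (tt N51141 (iv3 F295189)) (tt N45165 (iv4 F157578)) (tt N52109 D96064) (tt N52110 D96065) (tt N51344 (iv7 F144753)))
theorem Q27547 : ∀ i, i < 27547 → P i := stepQ 27546 Q27546 (allL N27546 (tt N51573 (iv1 F292630)) (tt N52111 D96067) (tt N52109 (iv2 F147676)) (tt N13751 F70408) (tt N52112 D96068) (tt N13750 (iv5 D44827)) (tt N52113 D96069) (tt N51348 (iv7 F144765)))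
theorem Q27548 : ∀ i, i < 27548 → P i := stepQ 27547 Q27547 (allL N27547 (tt N52114 D96070) (tt N52115 D96071) (tt N52110 (iv2 F147677)) (tt N13752 F70409) (tt N51026 F143278) (tt N52116 D96072) (tt N13750 (iv6 D44828)) (tt N50623 (iv7 F293309)))
theorem Q27549 : ∀ i, i < 27549 → P i := stepQ 27548 Q27548 (allL N27548 (tt N13759 (iv1 F70411)) (tt N13751 (iv0 D44829)) (tt N51780 F147203) (tt N52117 D96074) (tt N52118 D96075) (tt N25895 F70410) (tt N52119 D96076) (tt N50690 F295178))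
theorem Q27550 : ∀ i, i < 27550 → P i := stepQ 27549 Q27549 (allL N27549 (tt N13751 (iv1 D44830)) (tt N13759 F70412) (tt N50690 F295301) (tt N52120 D96077) (tt N52121 D96078) (tt N29190 F75151) (tt N52122 D96079) (tt N51780 F147204))
theorem Q27551 : ∀ i, i < 27551 → P i := stepQ 27550 Q27550 (allL N27550 (tt N52048 (iv1 F147609)) (tt N49215 F294019) (tt N51781 (iv2 F147209)) (tt N52123 D96080) (tt N13751 (iv4 D44831)) (tt N27537 F70461) (tt N52124 D96081) (tt N51783 (iv7 F147228)))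
theorem Q27552 : ∀ i, i < 27552 → P i := stepQ 27551 Q27551 (allL N27551 (tt N52125 D96082) (tt N52126 D96083) (tt N51782 (iv2 F147213)) (tt N52113 (iv3 F147678)) (tt N52124 (iv4 F147694)) (tt N52127 D96084) (tt N13751 (iv6 D44832)) (tt N52128 D96085))
theorem Q27553 : ∀ i, i < 27553 → P i := stepQ 27552 Q27552 (allL N27552 (tt N13752 (iv1 D44833)) (tt N26739 F292366) (tt N29199 F292367) (tt N48959 F295209) (tt N14154 F292368) (tt N29304 F75558) (tt N27909 F71801) (tt N27774 F71462))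
theorem Q27554 : ∀ i, i < 27554 → P i := stepQ 27553 Q27553 (allL N27553 (tt N25746 F70413) (tt N52129 D96087) (tt N50626 (iv2 F293318)) (tt N52116 (iv3 F147679)) (tt N52130 D96088) (tt N13752 (iv5 D44834)) (tt N52127 (iv6 F147695)) (tt N50624 (iv7 F293312)))
theorem Q27555 : ∀ i, i < 27555 → P i := stepQ 27554 Q27554 (allL N27554 (tt N13753 (iv1 D44838)) (tt N13761 F70424) (tt N25895 (iv2 F70426)) (tt N49199 F294543) (tt N25892 F70425) (tt N51780 (iv5 F147201)) (tt N13787 (iv6 F70427)) (tt N29190 (iv7 F75148)))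
theorem Q27556 : ∀ i, i < 27556 → P i := stepQ 27555 Q27555 (allL N27555 (tt N49328 F292561) (tt N49323 F292562) (tt N52131 D96095) (tt N13753 (iv3 D44839)) (tt N29090 (iv4 F292764)) (tt N52132 D96096) (tt N29368 F292374) (tt N29185 F75142))
theorem Q27557 : ∀ i, i < 27557 → P i := stepQ 27556 Q27556 (allL N27556 (tt N27543 F70428) (tt N27389 F70429) (tt N49279 (iv2 F294877)) (tt N52132 (iv3 F147720)) (tt N27536 F70430) (tt N13753 (iv5 D44840)) (tt N52133 D96098) (tt N29191 (iv7 F75153)))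
theorem Q27558 : ∀ i, i < 27558 → P i := stepQ 27557 Q27557 (allL N27557 (tt N25750 F70435) (tt N48617 F292375) (tt N14601 F70433) (tt N51109 (iv3 F143566)) (tt N13754 (iv4 D44842)) (tt N48883 (iv5 F293422)) (tt N27200 F292376) (tt N14599 F70434))
theorem Q27559 : ∀ i, i < 27559 → P i := stepQ 27558 Q27558 (allL N27558 (tt N51843 (iv1 F157243)) (tt N52134 D96103) (tt N50491 F295296) (tt N13755 (iv3 D44843)) (tt N13758 F70436) (tt N52135 D96105) (tt N52136 D96106) (tt N25634 F70437))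
theorem Q27560 : ∀ i, i < 27560 → P i := stepQ 27559 Q27559 (allL N27559 (tt N26759 F295227) (tt N26756 F295228) (tt N25637 F70438) (tt N52135 (iv3 F147742)) (tt N52137 D96107) (tt N13755 (iv5 D44844)) (tt N52138 D96108) (tt N25635 F70439))
theorem Q27561 : ∀ i, i < 27561 → P i := stepQ 27560 Q27560 (allL N27560 (tt N29319 (iv1 F291921)) (tt N25555 (iv0 F70443)) (tt N25638 F70441) (tt N52136 (iv3 F147744)) (tt N13757 F70442) (tt N29360 (iv5 F75831)) (tt N13755 (iv6 D44845)) (tt N49927 (iv7 F137962)))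
theorem Q27562 : ∀ i, i < 27562 → P i := stepQ 27561 Q27561 (allL N27561 (tt N26243 (iv1 F72336)) (tt N13757 (iv0 D44847)) (tt N26245 (iv2 F72330)) (tt N49863 (iv3 F291059)) (tt N27197 (iv4 F72337)) (tt N27625 F72331) (tt N48901 (iv6 F291137)) (tt N26236 F72332))
theorem Q27563 : ∀ i, i < 27563 → P i := stepQ 27562 Q27562 (allL N27562 (tt N26123 F145497) (tt N51138 (iv0 F295192)) (tt N13758 (iv2 D44852)) (tt N51344 F144755) (tt N50491 F294979) (tt N52139 D96111) (tt N52140 D96112) (tt N51141 (iv7 F295191)))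
theorem Q27564 : ∀ i, i < 27564 → P i := stepQ 27563 Q27563 (allL N27563 (tt N52141 D96113) (tt N50530 (iv0 F293830)) (tt N52139 (iv2 F147760)) (tt N13759 F70454) (tt N49314 (iv4 F329425)) (tt N13758 (iv5 D44853)) (tt N44708 F329089) (tt N51779 (iv7 F147198)))
theorem Q27565 : ∀ i, i < 27565 → P i := stepQ 27564 Q27564 (allL N27564 (tt N52142 D96117) (tt N51872 (iv0 F147363)) (tt N52140 (iv2 F147761)) (tt N13760 F70455) (tt N52136 (iv4 F147745)) (tt N34733 (iv5 F326735)) (tt N13758 (iv6 D44854)) (tt N46224 (iv7 F326736)))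
theorem Q27566 : ∀ i, i < 27566 → P i := stepQ 27565 Q27565 (allL N27565 (tt N49215 F294020) (tt N52048 (iv0 F147608)) (tt N51783 (iv2 F147226)) (tt N52143 D96119) (tt N13759 (iv4 D44855)) (tt N27536 F70456) (tt N52144 D96120) (tt N51781 (iv7 F147210)))
theorem Q27567 : ∀ i, i < 27567 → P i := stepQ 27566 Q27566 (allL N27566 (tt N52145 D96121) (tt N52146 D96122) (tt N51784 (iv2 F147230)) (tt N44708 (iv3 F328693)) (tt N52144 (iv4 F147766)) (tt N46158 F328296) (tt N13759 (iv6 D44856)) (tt N52147 D96124))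
theorem Q27568 : ∀ i, i < 27568 → P i := stepQ 27567 Q27567 (allL N27567 (tt N26307 (iv1 F292506)) (tt N13760 (iv0 D44857)) (tt N48957 (iv2 F292059)) (tt N52148 D96125) (tt N49829 F291571) (tt N27656 (iv5 F70793)) (tt N27901 F71752) (tt N27796 (iv7 F71542)))
theorem Q27569 : ∀ i, i < 27569 → P i := stepQ 27568 Q27568 (allL N27568 (tt N27319 (iv1 F70782)) (tt N27316 F70457) (tt N49926 (iv2 F137957)) (tt N34733 F327381) (tt N34736 (iv4 F327914)) (tt N13760 (iv5 D44859)) (tt N46158 (iv6 F327915)) (tt N46223 (iv7 F327917)))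
theorem Q27570 : ∀ i, i < 27570 → P i := stepQ 27569 Q27569 (allL N27569 (tt N50526 (iv1 F293827)) (tt N48518 F292815) (tt N50529 (iv2 F293402)) (tt N13761 (iv3 D44860)) (tt N48882 (iv4 F134774)) (tt N52149 D96130) (tt N29114 (iv6 F75049)) (tt N49278 (iv7 F293829)))
theorem Q27571 : ∀ i, i < 27571 → P i := stepQ 27570 Q27570 (allL N27570 (tt N27389 F70458) (tt N27543 F70459) (tt N29191 (iv2 F75152)) (tt N52149 (iv3 F147779)) (tt N27537 F70460) (tt N13761 (iv5 D44861)) (tt N52150 D96131) (tt N49279 (iv7 F294878)))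
theorem Q27572 : ∀ i, i < 27572 → P i := stepQ 27571 Q27571 (allL N27571 (tt N26113 (iv1 F70469)) (tt N13762 (iv0 D44865)) (tt N14393 (iv2 F70470)) (tt N52151 D96139) (tt N52152 D96140) (tt N14131 F70468) (tt N39673 F329628) (tt N27579 (iv7 F70510)))
theorem Q27573 : ∀ i, i < 27573 → P i := stepQ 27572 Q27572 (allL N27572 (tt N13762 (iv1 D44866)) (tt N26113 F70471) (tt N27579 F70508) (tt N39679 F329738) (tt N52153 D96143) (tt N14394 F70473) (tt N52154 D96144) (tt N14393 F70472))
theorem Q27574 : ∀ i, i < 27574 → P i := stepQ 27573 Q27573 (allL N27573 (tt N52155 D96145) (tt N52156 D96146) (tt N28123 (iv2 F72696)) (tt N52157 D96147) (tt N13762 (iv4 D44867)) (tt N49531 (iv5 F136781)) (tt N52158 D96148) (tt N27580 (iv7 F70512)))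
theorem Q27575 : ∀ i, i < 27575 → P i := stepQ 27574 Q27574 (allL N27574 (tt N52159 D96149) (tt N52160 D96150) (tt N28124 (iv2 F72698)) (tt N25602 F295048) (tt N52158 (iv4 F147818)) (tt N52161 D96151) (tt N13762 (iv6 D44868)) (tt N52162 D96152))
theorem Q27576 : ∀ i, i < 27576 → P i := stepQ 27575 Q27575 (allL N27575 (tt N26624 F291838) (tt N13763 (iv0 D44869)) (tt N26231 (iv2 F73005)) (tt N52163 D96153) (tt N26573 F291839) (tt N26652 (iv5 F292898)) (tt N25961 F73007) (tt N28125 (iv7 F73006)))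
theorem Q27577 : ∀ i, i < 27577 → P i := stepQ 27576 Q27576 (allL N27576 (tt N13763 (iv1 D44870)) (tt N26624 F291836) (tt N28125 F73003) (tt N52164 D96154) (tt N26585 F291837) (tt N26653 (iv5 F292897)) (tt N28195 (iv6 F73002)) (tt N26231 F73004))
theorem Q27578 : ∀ i, i < 27578 → P i := stepQ 27577 Q27577 (allL N27577 (tt N14102 F70478) (tt N14306 F70477) (tt N14304 F70475) (tt N14605 F293867) (tt N52165 D96155) (tt N13763 (iv5 D44871)) (tt N52161 (iv6 F147821)) (tt N14303 F70483))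
theorem Q27579 : ∀ i, i < 27579 → P i := stepQ 27578 Q27578 (allL N27578 (tt N14194 (iv1 F70487)) (tt N13764 (iv0 D44873)) (tt N14394 (iv2 F70486)) (tt N52166 D96156) (tt N28875 (iv4 F74579)) (tt N27579 (iv5 F70511)) (tt N14387 (iv6 F70489)) (tt N14131 F70488))
theorem Q27580 : ∀ i, i < 27580 → P i := stepQ 27579 Q27579 (allL N27579 (tt N14028 (iv1 F70509)) (tt N13765 (iv0 D44879)) (tt N27572 (iv2 F70508)) (tt N52167 D96159) (tt N52168 D96160) (tt N27578 F70511) (tt N49722 (iv6 F137103)) (tt N27571 F70510))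
theorem Q27581 : ∀ i, i < 27581 → P i := stepQ 27580 Q27580 (allL N27580 (tt N37679 F327926) (tt N29037 (iv0 F74851)) (tt N49535 (iv2 F136793)) (tt N52169 D96162) (tt N13765 (iv4 D44880)) (tt N28115 F72712) (tt N52170 D96163) (tt N27573 F70512))
theorem Q27582 : ∀ i, i < 27582 → P i := stepQ 27581 Q27581 (allL N27581 (tt N52171 D96164) (tt N52172 D96165) (tt N49536 (iv2 F136796)) (tt N27277 F70513) (tt N52170 (iv4 F147850)) (tt N52173 D96166) (tt N13765 (iv6 D44881)) (tt N52174 D96167))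
theorem Q27583 : ∀ i, i < 27583 → P i := stepQ 27582 Q27582 (allL N27582 (tt N26686 (iv1 F291508)) (tt N27923 (iv0 F72137)) (tt N28937 F74656) (tt N27278 F70514) (tt N52175 D96168) (tt N13766 (iv5 D44883)) (tt N52173 (iv6 F147852)) (tt N28938 (iv7 F74658)))
theorem Q27584 : ∀ i, i < 27584 → P i := stepQ 27583 Q27583 (allL N27583 (tt N46143 (iv1 F122169)) (tt N24198 (iv0 F296848)) (tt N25476 F296177) (tt N23480 F70552) (tt N52176 D96180) (tt N13768 (iv5 D44900)) (tt N13795 F70553) (tt N25473 (iv7 F296853)))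
theorem Q27585 : ∀ i, i < 27585 → P i := stepQ 27584 Q27584 (allL N27584 (tt N24928 (iv1 F70560)) (tt N13769 (iv0 D44902)) (tt N24927 (iv2 F126884)) (tt N47374 F128724) (tt N37608 F307272) (tt N46594 F125583) (tt N52177 D96181) (tt N24926 (iv7 F126886)))
theorem Q27586 : ∀ i, i < 27586 → P i := stepQ 27585 Q27585 (allL N27585 (tt N13769 (iv1 D44903)) (tt N24928 F70565) (tt N24926 F126885) (tt N52178 D96182) (tt N46761 (iv4 F126882)) (tt N34883 F90161) (tt N52179 D96183) (tt N24927 F126883))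
theorem Q27587 : ∀ i, i < 27587 → P i := stepQ 27586 Q27586 (allL N27586 (tt N24927 (iv1 F70566)) (tt N24926 F70564) (tt N13769 (iv2 D44904)) (tt N24934 F70561) (tt N24593 F70562) (tt N52180 D96184) (tt N37519 (iv6 F309684)) (tt N24928 F70563))
theorem Q27588 : ∀ i, i < 27588 → P i := stepQ 27587 Q27587 (allL N27587 (tt N52181 D96186) (tt N52182 D96187) (tt N52180 (iv2 F147889)) (tt N13770 F70567) (tt N33726 (iv4 F312208)) (tt N13769 (iv5 D44905)) (tt N33724 (iv6 F312210)) (tt N24302 F70568))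
theorem Q27589 : ∀ i, i < 27589 → P i := stepQ 27588 Q27588 (allL N27588 (tt N37538 F309971) (tt N37533 F309972) (tt N37519 F309973) (tt N13771 F70569) (tt N24594 F70570) (tt N15322 (iv5 F311338)) (tt N13769 (iv6 D44906)) (tt N25189 (iv7 F70571)))
theorem Q27590 : ∀ i, i < 27590 → P i := stepQ 27589 Q27589 (allL N27589 (tt N25742 (iv1 F70579)) (tt N13773 (iv0 D44915)) (tt N25741 F73476) (tt N29215 (iv3 F75343)) (tt N14256 F70578) (tt N52183 D96200) (tt N52184 D96201) (tt N25740 (iv7 F73475)))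
theorem Q27591 : ∀ i, i < 27591 → P i := stepQ 27590 Q27590 (allL N27590 (tt N13773 (iv1 D44916)) (tt N25742 (iv0 F70581)) (tt N25740 (iv2 F73474)) (tt N25741 F73513) (tt N25805 (iv4 F70580)) (tt N52185 D96202) (tt N52186 D96203) (tt N25741 F73477))
theorem Q27592 : ∀ i, i < 27592 → P i := stepQ 27591 Q27591 (allL N27591 (tt N25741 (iv1 F70586)) (tt N25740 F70585) (tt N13773 (iv2 D44917)) (tt N13800 F70582) (tt N14162 F70583) (tt N51802 (iv5 F147245)) (tt N52187 D96204) (tt N25742 F70584))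
theorem Q27593 : ∀ i, i < 27593 → P i := stepQ 27592 Q27592 (allL N27592 (tt N52188 D96205) (tt N52189 D96206) (tt N52187 (iv2 F147953)) (tt N13774 F70587) (tt N14617 F70588) (tt N17212 F329962) (tt N13773 (iv6 D44918)) (tt N29180 (iv7 F75138)))
theorem Q27594 : ∀ i, i < 27594 → P i := stepQ 27593 Q27593 (allL N27593 (tt N48964 (iv1 F293902)) (tt N27902 (iv0 F71753)) (tt N27296 F70589) (tt N17212 (iv3 F329939)) (tt N22542 F329906) (tt N13774 (iv5 D44919)) (tt N51807 (iv6 F147255)) (tt N29181 (iv7 F75139)))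
theorem Q27595 : ∀ i, i < 27595 → P i := stepQ 27594 Q27594 (allL N27594 (tt N29114 F75051) (tt N29201 (iv0 F143301)) (tt N27349 F70590) (tt N13776 F70591) (tt N14100 F70592) (tt N52190 D96210) (tt N13775 (iv6 D44920)) (tt N29200 (iv7 F75212)))
theorem Q27596 : ∀ i, i < 27596 → P i := stepQ 27595 Q27595 (allL N27595 (tt N50624 F294333) (tt N50626 F294334) (tt N25746 F70593) (tt N52190 (iv3 F147965)) (tt N52191 D96211) (tt N13776 (iv5 D44921)) (tt N51811 (iv6 F147269)) (tt N52129 (iv7 F147698)))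
theorem Q27597 : ∀ i, i < 27597 → P i := stepQ 27596 Q27596 (allL N27596 (tt N14563 (iv1 F70597)) (tt N14562 F70598) (tt N14592 F70594) (tt N29200 F75209) (tt N25739 F70595) (tt N52129 (iv5 F147699)) (tt N27297 F70596) (tt N13776 (iv7 D44922)))
theorem Q27598 : ∀ i, i < 27598 → P i := stepQ 27597 Q27597 (allL N27597 (tt N29183 (iv1 F205447)) (tt N26582 (iv0 F205448)) (tt N27301 F70599) (tt N27298 F70600) (tt N26877 F70601) (tt N20828 F331260) (tt N13777 (iv6 D44923)) (tt N29182 F176023))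
theorem Q27599 : ∀ i, i < 27599 → P i := stepQ 27598 Q27598 (allL N27598 (tt N29215 F75346) (tt N29215 (iv0 F75345)) (tt N27299 F70602) (tt N13778 (iv3 D44924)) (tt N27299 F70603) (tt N46060 (iv5 F120156)) (tt N52192 D96216) (tt N27299 F70604))
theorem Q27600 : ∀ i, i < 27600 → P i := stepQ 27599 Q27599 (allL N27599 (tt N14593 (iv1 F176029)) (tt N51000 (iv0 F176028)) (tt N27298 F70605) (tt N52192 (iv3 F147979)) (tt N26875 F70606) (tt N52193 D96219) (tt N13778 (iv6 D44925)) (tt N50408 (iv7 F205446)))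
theorem Q27601 : ∀ i, i < 27601 → P i := stepQ 27600 Q27600 (allL N27600 (tt N23864 F70611) (tt N23181 F70612) (tt N13780 F70607) (tt N27350 F70608) (tt N23902 F70609) (tt N13779 (iv5 D44926)) (tt N52194 D96221) (tt N27302 F70610))
theorem Q27602 : ∀ i, i < 27602 → P i := stepQ 27601 Q27601 (allL N27601 (tt N29383 (iv1 F76032)) (tt N29382 F76027) (tt N13781 F70613) (tt N27351 F70614) (tt N26539 F70615) (tt N52195 D96222) (tt N13779 (iv6 D44927)) (tt N29384 (iv7 F76030)))
theorem Q27603 : ∀ i, i < 27603 → P i := stepQ 27602 Q27602 (allL N27602 (tt N27302 (iv1 F70619)) (tt N13780 (iv0 D44928)) (tt N23864 (iv2 F70620)) (tt N23181 F70618) (tt N16358 F70617) (tt N13859 F70616) (tt N52196 D96223) (tt N23181 (iv7 F70621)))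
theorem Q27604 : ∀ i, i < 27604 → P i := stepQ 27603 Q27603 (allL N27603 (tt N13780 (iv1 D44929)) (tt N27302 F70622) (tt N23181 (iv2 F70626)) (tt N52197 D96224) (tt N16396 F70625) (tt N13860 F70624) (tt N52198 D96225) (tt N23864 F70623))
theorem Q27605 : ∀ i, i < 27605 → P i := stepQ 27604 Q27604 (allL N27604 (tt N52199 D96226) (tt N52200 D96227) (tt N52194 (iv2 F147989)) (tt N13785 F70627) (tt N42730 (iv4 F107025)) (tt N52201 D96228) (tt N13780 (iv6 D44930)) (tt N52202 D96229))
theorem Q27606 : ∀ i, i < 27606 → P i := stepQ 27605 Q27605 (allL N27605 (tt N29384 (iv1 F76031)) (tt N13781 (iv0 D44931)) (tt N29383 F160257) (tt N27305 F135439) (tt N50171 F139166) (tt N52203 D96231) (tt N52204 D96232) (tt N29382 (iv7 F160262)))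
theorem Q27607 : ∀ i, i < 27607 → P i := stepQ 27606 Q27606 (allL N27606 (tt N13781 (iv1 D44932)) (tt N29384 F76033) (tt N29382 (iv2 F160261)) (tt N52205 D96234) (tt N49325 F292565) (tt N52206 D96235) (tt N49323 F292566) (tt N29383 F160258))
theorem Q27608 : ∀ i, i < 27608 → P i := stepQ 27607 Q27607 (allL N27607 (tt N52207 D96237) (tt N52208 D96238) (tt N52195 (iv2 F147992)) (tt N13788 F70628) (tt N52209 D96239) (tt N13781 (iv5 D44933)) (tt N52201 (iv6 F148006)) (tt N29385 (iv7 F76035)))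
theorem Q27609 : ∀ i, i < 27609 → P i := stepQ 27608 Q27608 (allL N27608 (tt N52183 (iv1 F147941)) (tt N52185 (iv0 F147948)) (tt N52210 D96240) (tt N13782 (iv3 D44934)) (tt N51972 (iv4 F147519)) (tt N13856 F70629) (tt N52211 D96241) (tt N25653 F70630))
theorem Q27610 : ∀ i, i < 27610 → P i := stepQ 27609 Q27609 (allL N27609 (tt N52212 D96242) (tt N52213 D96243) (tt N27310 F70631) (tt N52211 (iv3 F148021)) (tt N46529 (iv4 F125279)) (tt N52214 D96244) (tt N13782 (iv6 D44935)) (tt N52215 D96245))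
theorem Q27611 : ∀ i, i < 27611 → P i := stepQ 27610 Q27610 (allL N27610 (tt N52216 D96246) (tt N52217 D96247) (tt N25656 F70632) (tt N49549 (iv3 F136820)) (tt N46530 (iv4 F125280)) (tt N52218 D96248) (tt N13783 (iv6 D44936)) (tt N52219 D96249))
theorem Q27612 : ∀ i, i < 27612 → P i := stepQ 27611 Q27611 (allL N27611 (tt N43246 (iv1 F108416)) (tt N41612 F307972) (tt N34064 (iv2 F86648)) (tt N13784 (iv3 D44937)) (tt N14746 F70633) (tt N13794 F70634) (tt N52220 D96251) (tt N24304 F70635))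
theorem Q27613 : ∀ i, i < 27613 → P i := stepQ 27612 Q27612 (allL N27612 (tt N33504 (iv1 F314498)) (tt N36325 (iv0 F314499)) (tt N24303 F70636) (tt N52220 (iv3 F148045)) (tt N13785 F70637) (tt N33323 F323352) (tt N13784 (iv6 D44938)) (tt N36316 (iv7 F314500)))
theorem Q27614 : ∀ i, i < 27614 → P i := stepQ 27613 Q27613 (allL N27613 (tt N27359 (iv1 F70643)) (tt N13785 (iv0 D44939)) (tt N27356 F337302) (tt N31156 (iv3 F337311)) (tt N42064 F337320) (tt N31155 (iv5 F337312)) (tt N52221 D96260) (tt N27357 (iv7 F337305)))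
theorem Q27615 : ∀ i, i < 27615 → P i := stepQ 27614 Q27614 (allL N27614 (tt N13785 (iv1 D44940)) (tt N27359 F70638) (tt N27357 (iv2 F337304)) (tt N52222 D96262) (tt N42063 (iv4 F321661)) (tt N52223 D96264) (tt N52224 D96265) (tt N27356 F337303))
theorem Q27616 : ∀ i, i < 27616 → P i := stepQ 27615 Q27615 (allL N27615 (tt N31789 F340721) (tt N52225 D96267) (tt N27358 F70639) (tt N52201 (iv3 F148005)) (tt N52226 D96268) (tt N13785 (iv5 D44941)) (tt N13788 F70640) (tt N52227 D96269))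
theorem Q27617 : ∀ i, i < 27617 → P i := stepQ 27616 Q27616 (allL N27616 (tt N27357 (iv1 F70644)) (tt N27356 F70645) (tt N27359 F70641) (tt N52202 (iv3 F148007)) (tt N36316 F316809) (tt N52227 (iv5 F148063)) (tt N27314 F70642) (tt N13785 (iv7 D44942)))
theorem Q27618 : ∀ i, i < 27618 → P i := stepQ 27617 Q27617 (allL N27617 (tt N52228 D96270) (tt N52186 (iv0 F289639)) (tt N52229 D96272) (tt N13786 (iv3 D44943)) (tt N25700 F70646) (tt N52230 D96273) (tt N49175 (iv6 F135314)) (tt N25893 F70647))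
theorem Q27619 : ∀ i, i < 27619 → P i := stepQ 27618 Q27618 (allL N27618 (tt N27910 (iv1 F71802)) (tt N49921 (iv0 F137940)) (tt N27360 F70648) (tt N52230 (iv3 F148075)) (tt N52231 D96274) (tt N13786 (iv5 D44944)) (tt N52231 (iv6 F328306)) (tt N25894 F70649))
theorem Q27620 : ∀ i, i < 27620 → P i := stepQ 27619 Q27619 (allL N27619 (tt N13803 F70652) (tt N52232 D96276) (tt N52233 D96277) (tt N13787 (iv3 D44945)) (tt N14128 F70650) (tt N24883 (iv5 F325914)) (tt N49199 F294697) (tt N14375 F70651))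
theorem Q27621 : ∀ i, i < 27621 → P i := stepQ 27620 Q27620 (allL N27620 (tt N49921 (iv1 F137941)) (tt N27910 (iv0 F71803)) (tt N25894 F70653) (tt N24883 F326743) (tt N52234 D96279) (tt N13787 (iv5 D44946)) (tt N52235 D96280) (tt N27360 F70654))
theorem Q27622 : ∀ i, i < 27622 → P i := stepQ 27621 Q27621 (allL N27621 (tt N14662 (iv1 F70655)) (tt N13788 (iv0 D44947)) (tt N27362 F71455) (tt N31846 (iv3 F328287)) (tt N52236 D96282) (tt N49965 (iv5 F138093)) (tt N31844 F327913) (tt N27363 F71453))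
theorem Q27623 : ∀ i, i < 27623 → P i := stepQ 27622 Q27622 (allL N27622 (tt N13788 (iv1 D44948)) (tt N14662 F70656) (tt N27363 (iv2 F71450)) (tt N46776 F324883) (tt N46941 (iv4 F325903)) (tt N27433 F70657) (tt N47624 (iv6 F325904)) (tt N27362 (iv7 F71454)))
theorem Q27624 : ∀ i, i < 27624 → P i := stepQ 27623 Q27623 (allL N27623 (tt N49956 (iv1 F138082)) (tt N49970 (iv0 F138111)) (tt N27364 F70658) (tt N52237 D96287) (tt N13788 (iv4 D44949)) (tt N49931 (iv5 F137986)) (tt N52226 (iv6 F148061)) (tt N29386 (iv7 F76036)))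
theorem Q27625 : ∀ i, i < 27625 → P i := stepQ 27624 Q27624 (allL N27624 (tt N14155 (iv1 F72348)) (tt N26473 (iv0 F290920)) (tt N14471 F70672) (tt N27069 F70673) (tt N14329 F70674) (tt N24224 (iv5 F290924)) (tt N13790 (iv6 D44952)) (tt N24223 F290689))
theorem Q27626 : ∀ i, i < 27626 → P i := stepQ 27625 Q27625 (allL N27625 (tt N46520 (iv1 F290756)) (tt N13791 (iv0 D44955)) (tt N14477 (iv2 F70684)) (tt N27070 F70685) (tt N14633 (iv4 F70686)) (tt N27561 (iv5 F72331)) (tt N25899 (iv6 F290763)) (tt N48845 (iv7 F290754)))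
theorem Q27627 : ∀ i, i < 27627 → P i := stepQ 27626 Q27626 (allL N27626 (tt N29208 (iv1 F291208)) (tt N29117 (iv0 F291205)) (tt N29206 F291124) (tt N52238 D96292) (tt N13791 (iv4 D44956)) (tt N27775 (iv5 F291778)) (tt N13793 F70687) (tt N27317 F291125))
theorem Q27628 : ∀ i, i < 27628 → P i := stepQ 27627 Q27627 (allL N27627 (tt N52239 D96294) (tt N52240 D96295) (tt N52241 D96296) (tt N13793 (iv3 D44958)) (tt N13815 F70691) (tt N52242 D96297) (tt N52238 (iv6 F148139)) (tt N48517 (iv7 F133277)))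
theorem Q27629 : ∀ i, i < 27629 → P i := stepQ 27628 Q27628 (allL N27628 (tt N25513 F70692) (tt N26369 F70693) (tt N27898 F292813) (tt N52242 (iv3 F148141)) (tt N52243 D96298) (tt N13793 (iv5 D44959)) (tt N52244 D96299) (tt N27897 (iv7 F293575)))
theorem Q27630 : ∀ i, i < 27630 → P i := stepQ 27629 Q27629 (allL N27629 (tt N24934 (iv1 F70694)) (tt N13794 (iv0 D44960)) (tt N24933 F129515) (tt N52245 D96300) (tt N42988 (iv4 F107857)) (tt N43232 (iv5 F108376)) (tt N52246 D96301) (tt N24932 (iv7 F129514)))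
theorem Q27631 : ∀ i, i < 27631 → P i := stepQ 27630 Q27630 (allL N27630 (tt N13794 (iv1 D44961)) (tt N24934 F70699) (tt N24932 F129516) (tt N37501 F308022) (tt N43907 (iv4 F110123)) (tt N42985 F107853) (tt N52247 D96303) (tt N24933 F129517))
theorem Q27632 : ∀ i, i < 27632 → P i := stepQ 27631 Q27631 (allL N27631 (tt N24933 (iv1 F70700)) (tt N24932 F70698) (tt N13794 (iv2 D44962)) (tt N24928 F70695) (tt N25448 F70696) (tt N34064 (iv5 F86649)) (tt N46179 (iv6 F298484)) (tt N24934 F70697))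
theorem Q27633 : ∀ i, i < 27633 → P i := stepQ 27632 Q27632 (allL N27632 (tt N22901 F70723) (tt N22898 F70724) (tt N27286 F70721) (tt N52248 D96334) (tt N13795 (iv4 D44982)) (tt N46547 (iv5 F125362)) (tt N52176 (iv6 F147882)) (tt N27287 F70722))
theorem Q27634 : ∀ i, i < 27634 → P i := stepQ 27633 Q27633 (allL N27633 (tt N22898 F70727) (tt N22901 F70728) (tt N27287 F70725) (tt N52249 D96335) (tt N13796 (iv4 D44983)) (tt N46548 (iv5 F125364)) (tt N41522 F325567) (tt N27286 F70726))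
theorem Q27635 : ∀ i, i < 27635 → P i := stepQ 27634 Q27634 (allL N27634 (tt N31353 F323041) (tt N46242 (iv0 F296343)) (tt N27288 F70729) (tt N31062 (iv3 F324447)) (tt N41522 (iv4 F324449)) (tt N27635 (iv5 F70731)) (tt N13796 (iv6 D44984)) (tt N31965 F323042))
theorem Q27636 : ∀ i, i < 27636 → P i := stepQ 27635 Q27635 (allL N27635 (tt N31186 F323941) (tt N52250 D96340) (tt N27292 F70730) (tt N15620 (iv3 F325224)) (tt N18098 (iv4 F324552)) (tt N27634 F70731) (tt N13798 (iv6 D44985)) (tt N16019 F323942))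
theorem Q27637 : ∀ i, i < 27637 → P i := stepQ 27636 Q27636 (allL N27636 (tt N13799 (iv1 D44986)) (tt N22903 F70732) (tt N18002 (iv2 F70735)) (tt N52251 D96342) (tt N13834 F70734) (tt N25586 (iv5 F70736)) (tt N35791 F324551) (tt N22897 F70733))
theorem Q27638 : ∀ i, i < 27638 → P i := stepQ 27637 Q27637 (allL N27637 (tt N52252 D96344) (tt N52253 D96345) (tt N52254 D96346) (tt N13799 (iv3 D44987)) (tt N34756 (iv4 F89011)) (tt N52255 D96347) (tt N46188 (iv6 F297441)) (tt N46151 (iv7 F122204)))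
theorem Q27639 : ∀ i, i < 27639 → P i := stepQ 27638 Q27638 (allL N27638 (tt N25305 F70740) (tt N25601 (iv0 F70741)) (tt N27294 F70737) (tt N52255 (iv3 F148286)) (tt N25572 F70739) (tt N13799 (iv5 D44988)) (tt N52256 D96348) (tt N27339 F70738))
theorem Q27640 : ∀ i, i < 27640 → P i := stepQ 27639 Q27639 (allL N27639 (tt N52257 D96349) (tt N14595 F74220) (tt N14263 F70742) (tt N52187 (iv3 F147954)) (tt N14261 F70743) (tt N52258 D96350) (tt N13800 (iv6 D44989)) (tt N52259 D96351))
theorem Q27641 : ∀ i, i < 27641 → P i := stepQ 27640 Q27640 (allL N27640 (tt N27309 F70747) (tt N27352 F70748) (tt N13802 F70744) (tt N27302 F70745) (tt N26175 F306310) (tt N13801 (iv5 D44990)) (tt N52260 D96353) (tt N27350 F70746))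
theorem Q27642 : ∀ i, i < 27642 → P i := stepQ 27641 Q27641 (allL N27641 (tt N14375 F74041) (tt N52233 F148092) (tt N13803 F70749) (tt N27303 F70750) (tt N28482 (iv4 F74040)) (tt N47605 F324887) (tt N13801 (iv6 D44991)) (tt N52232 (iv7 F148083)))
theorem Q27643 : ∀ i, i < 27643 → P i := stepQ 27642 Q27642 (allL N27642 (tt N27350 (iv1 F70753)) (tt N13802 (iv0 D44992)) (tt N27309 (iv2 F70752)) (tt N52210 (iv3 F148016)) (tt N52261 D96355) (tt N13872 F70751) (tt N52262 D96356) (tt N27352 F70754))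
theorem Q27644 : ∀ i, i < 27644 → P i := stepQ 27643 Q27643 (allL N27643 (tt N22351 F109563) (tt N43039 F109570) (tt N26175 F305469) (tt N33726 F314531) (tt N13802 (iv4 D44993)) (tt N26033 F305470) (tt N33723 (iv6 F316858)) (tt N26179 (iv7 F305560)))
theorem Q27645 : ∀ i, i < 27645 → P i := stepQ 27644 Q27644 (allL N27644 (tt N31166 (iv1 F320043)) (tt N52222 (iv0 F321660)) (tt N52260 (iv2 F148305)) (tt N13804 F70756) (tt N33723 F317865) (tt N31812 (iv5 F320053)) (tt N13802 (iv6 D44994)) (tt N36323 (iv7 F320055)))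
theorem Q27646 : ∀ i, i < 27646 → P i := stepQ 27645 Q27645 (allL N27645 (tt N52232 (iv1 F148087)) (tt N13803 (iv0 D44995)) (tt N14375 (iv2 F70757)) (tt N52229 (iv3 F148070)) (tt N14374 F70758) (tt N24886 (iv5 F325913)) (tt N52263 D96363) (tt N52233 (iv7 F148090)))
theorem Q27647 : ∀ i, i < 27647 → P i := stepQ 27646 Q27646 (allL N27646 (tt N31865 F324879) (tt N46776 (iv0 F323557)) (tt N47605 (iv2 F323558)) (tt N13807 F70759) (tt N17579 (iv4 F323559)) (tt N13803 (iv5 D44996)) (tt N31812 F321796) (tt N24004 (iv7 F323560)))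
theorem Q27648 : ∀ i, i < 27648 → P i := stepQ 27647 Q27647 (allL N27647 (tt N52233 (iv1 F148091)) (tt N14375 (iv0 F70762)) (tt N52232 (iv2 F148085)) (tt N13808 F70760) (tt N29355 (iv4 F75824)) (tt N24004 F324888) (tt N14661 F70761) (tt N13803 (iv7 D44997)))
theorem Q27649 : ∀ i, i < 27649 → P i := stepQ 27648 Q27648 (allL N27648 (tt N27314 (iv1 F70768)) (tt N13804 (iv0 D44998)) (tt N27311 (iv2 F320992)) (tt N52264 D96368) (tt N21286 (iv4 F320025)) (tt N52265 D96370) (tt N52266 D96371) (tt N27312 (iv7 F320995)))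
theorem Q27650 : ∀ i, i < 27650 → P i := stepQ 27649 Q27649 (allL N27649 (tt N13804 (iv1 D44999)) (tt N27314 F70763) (tt N27312 (iv2 F320994)) (tt N52267 D96373) (tt N21284 (iv4 F320037)) (tt N52268 D96375) (tt N52269 D96376) (tt N27311 (iv7 F320993)))
theorem Q27651 : ∀ i, i < 27651 → P i := stepQ 27650 Q27650 (allL N27650 (tt N52270 D96377) (tt N52271 D96378) (tt N27313 F70764) (tt N31812 (iv3 F320052)) (tt N42038 F321797) (tt N13804 (iv5 D45000)) (tt N13807 F70765) (tt N36324 (iv7 F320065)))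
theorem Q27652 : ∀ i, i < 27652 → P i := stepQ 27651 Q27651 (allL N27651 (tt N14661 F70773) (tt N27351 F76171) (tt N27354 F70774) (tt N13805 (iv3 D45002)) (tt N14410 F70771) (tt N52272 D96381) (tt N52273 D96382) (tt N27318 F70772))
theorem Q27653 : ∀ i, i < 27653 → P i := stepQ 27652 Q27652 (allL N27652 (tt N49926 (iv1 F137959)) (tt N46223 F328297) (tt N27316 F70775) (tt N52272 (iv3 F148339)) (tt N52274 D96383) (tt N13805 (iv5 D45003)) (tt N52275 D96384) (tt N27319 F70776))
theorem Q27654 : ∀ i, i < 27654 → P i := stepQ 27653 Q27653 (allL N27653 (tt N29117 (iv1 F75225)) (tt N29208 F75224) (tt N27317 F70777) (tt N52273 (iv3 F148342)) (tt N46520 (iv4 F125245)) (tt N27776 F71468) (tt N13805 (iv6 D45004)) (tt N29206 F75217))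
theorem Q27655 : ∀ i, i < 27655 → P i := stepQ 27654 Q27654 (allL N27654 (tt N52184 (iv1 F289591)) (tt N52276 D96386) (tt N52277 D96387) (tt N13806 (iv3 D45005)) (tt N14629 F70778) (tt N52278 D96388) (tt N48517 (iv6 F293571)) (tt N27315 F70779))
theorem Q27656 : ∀ i, i < 27656 → P i := stepQ 27655 Q27655 (allL N27655 (tt N46223 F328298) (tt N49926 (iv0 F137958)) (tt N27319 F70780) (tt N52278 (iv3 F148359)) (tt N52279 D96390) (tt N13806 (iv5 D45006)) (tt N52280 D96391) (tt N27316 F70781))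
theorem Q27657 : ∀ i, i < 27657 → P i := stepQ 27656 Q27656 (allL N27656 (tt N27323 (iv1 F70791)) (tt N13807 (iv0 D45008)) (tt N27320 F71541) (tt N52281 D96392) (tt N52282 D96393) (tt N27567 F70793) (tt N52283 D96394) (tt N27321 F71539))
theorem Q27658 : ∀ i, i < 27658 → P i := stepQ 27657 Q27657 (allL N27657 (tt N13807 (iv1 D45009)) (tt N27323 F70786) (tt N27321 (iv2 F71536)) (tt N52284 D96395) (tt N52285 D96396) (tt N27407 (iv5 F70787)) (tt N52286 D96397) (tt N27320 (iv7 F71540)))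
theorem Q27659 : ∀ i, i < 27659 → P i := stepQ 27658 Q27658 (allL N27658 (tt N27321 (iv1 F70792)) (tt N27320 F70794) (tt N27323 F70789) (tt N24004 F324799) (tt N24006 F324800) (tt N13808 F70790) (tt N52287 D96403) (tt N13807 (iv7 D45011)))
theorem Q27660 : ∀ i, i < 27660 → P i := stepQ 27659 Q27659 (allL N27659 (tt N29100 F289647) (tt N29388 F76038) (tt N14663 F70795) (tt N13809 (iv3 D45012)) (tt N27659 F70796) (tt N47617 F335303) (tt N26366 F291907) (tt N27324 F70797))
theorem Q27661 : ∀ i, i < 27661 → P i := stepQ 27660 Q27660 (allL N27660 (tt N29399 (iv1 F76064)) (tt N29398 F76058) (tt N14668 F70798) (tt N47617 F335302) (tt N46236 F329086) (tt N13809 (iv5 D45013)) (tt N52288 D96407) (tt N27325 F70799))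
theorem Q27662 : ∀ i, i < 27662 → P i := stepQ 27661 Q27661 (allL N27661 (tt N14628 (iv1 F291563)) (tt N13810 (iv0 D45019)) (tt N27328 (iv2 F70834)) (tt N29040 (iv3 F291566)) (tt N28375 F291022) (tt N49868 (iv5 F291569)) (tt N25906 (iv6 F291570)) (tt N25729 F291023))
theorem Q27663 : ∀ i, i < 27663 → P i := stepQ 27662 Q27662 (allL N27662 (tt N13810 (iv1 D45020)) (tt N14628 (iv0 F291562)) (tt N25729 F291026) (tt N52289 D96415) (tt N14546 F291027) (tt N49867 (iv5 F291576)) (tt N14544 (iv6 F291578)) (tt N27328 (iv7 F70832)))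
theorem Q27664 : ∀ i, i < 27664 → P i := stepQ 27663 Q27663 (allL N27663 (tt N52290 D96417) (tt N29002 (iv0 F293555)) (tt N52291 D96419) (tt N13810 (iv3 D45021)) (tt N52238 (iv4 F148138)) (tt N52292 D96420) (tt N13815 F70821) (tt N50665 F292501))
theorem Q27665 : ∀ i, i < 27665 → P i := stepQ 27664 Q27664 (allL N27664 (tt N48693 F292502) (tt N22220 F309397) (tt N27330 F70822) (tt N52292 (iv3 F148433)) (tt N52293 D96424) (tt N13810 (iv5 D45022)) (tt N52294 D96425) (tt N48691 F292504))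
theorem Q27666 : ∀ i, i < 27666 → P i := stepQ 27665 Q27665 (allL N27665 (tt N25303 F70839) (tt N25302 F70840) (tt N14677 F70836) (tt N52295 D96427) (tt N13811 (iv4 D45024)) (tt N25601 F70838) (tt N52296 D96428) (tt N24242 F70837))
theorem Q27667 : ∀ i, i < 27667 → P i := stepQ 27666 Q27666 (allL N27666 (tt N21074 F323113) (tt N15668 F323114) (tt N14678 F70841) (tt N24366 F70842) (tt N52296 (iv4 F148457)) (tt N18139 F323115) (tt N13811 (iv6 D45025)) (tt N18137 F323116))
theorem Q27668 : ∀ i, i < 27668 → P i := stepQ 27667 Q27667 (allL N27667 (tt N52297 D96441) (tt N52298 D96442) (tt N28126 (iv2 F294410)) (tt N13812 (iv3 D45031)) (tt N27667 F70863) (tt N52299 D96444) (tt N49154 (iv6 F294372)) (tt N25573 F70864))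
theorem Q27669 : ∀ i, i < 27669 → P i := stepQ 27668 Q27668 (allL N27668 (tt N25585 F70868) (tt N25536 (iv0 F294299)) (tt N14680 F70865) (tt N52299 (iv3 F148507)) (tt N22905 F70866) (tt N13812 (iv5 D45032)) (tt N52300 D96446) (tt N25574 F70867))
theorem Q27670 : ∀ i, i < 27670 → P i := stepQ 27669 Q27669 (allL N27669 (tt N14462 (iv1 F293542)) (tt N52301 D96455) (tt N52302 D96456) (tt N13813 (iv3 D45037)) (tt N14490 F70880) (tt N49503 (iv5 F293583)) (tt N25763 (iv6 F293584)) (tt N27332 F70881))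
theorem Q27671 : ∀ i, i < 27671 → P i := stepQ 27670 Q27670 (allL N27670 (tt N25527 (iv1 F293586)) (tt N25578 F70885) (tt N25682 (iv2 F293568)) (tt N49503 (iv3 F293582)) (tt N46543 (iv4 F125358)) (tt N13813 (iv5 D45038)) (tt N52303 D96459) (tt N25681 (iv7 F292537)))
theorem Q27672 : ∀ i, i < 27672 → P i := stepQ 27671 Q27671 (allL N27671 (tt N52304 D96462) (tt N52305 D96463) (tt N52306 D96464) (tt N13814 (iv3 D45040)) (tt N25913 F70889) (tt N52307 D96465) (tt N49156 (iv6 F293589)) (tt N27331 F70890))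
theorem Q27673 : ∀ i, i < 27673 → P i := stepQ 27672 Q27672 (allL N27672 (tt N25578 F70893) (tt N25527 (iv0 F293585)) (tt N25681 (iv2 F292535)) (tt N52307 (iv3 F148560)) (tt N46541 (iv4 F125355)) (tt N13814 (iv5 D45041)) (tt N52308 D96467) (tt N25682 (iv7 F293570)))
theorem Q27674 : ∀ i, i < 27674 → P i := stepQ 27673 Q27673 (allL N27673 (tt N48654 (iv1 F133784)) (tt N13815 (iv0 D45043)) (tt N48653 (iv2 F138349)) (tt N52309 D96471) (tt N52310 D96472) (tt N52311 D96473) (tt N25756 (iv6 F293521)) (tt N48652 (iv7 F138351)))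
theorem Q27675 : ∀ i, i < 27675 → P i := stepQ 27674 Q27674 (allL N27674 (tt N13815 (iv1 D45044)) (tt N48654 F133786) (tt N48652 F138350) (tt N14465 F294467) (tt N29460 F294468) (tt N49524 (iv5 F295064)) (tt N49192 (iv6 F295066)) (tt N48653 F138348))
theorem Q27676 : ∀ i, i < 27676 → P i := stepQ 27675 Q27675 (allL N27675 (tt N48653 (iv1 F133785)) (tt N48652 F133781) (tt N13815 (iv2 D45045)) (tt N27335 F70897) (tt N52241 (iv4 F148140)) (tt N52312 D96478) (tt N52291 (iv6 F148432)) (tt N48654 (iv7 F133783)))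
theorem Q27677 : ∀ i, i < 27677 → P i := stepQ 27676 Q27676 (allL N27676 (tt N48779 (iv1 F295068)) (tt N28102 (iv0 F295067)) (tt N52312 (iv2 F148579)) (tt N13816 F70898) (tt N52313 D96481) (tt N13815 (iv5 D45046)) (tt N52314 D96482) (tt N48655 (iv7 F133788)))
theorem Q27678 : ∀ i, i < 27678 → P i := stepQ 27677 Q27677 (allL N27677 (tt N25601 F70910) (tt N25305 F70911) (tt N27339 F70907) (tt N52315 D96487) (tt N13816 (iv4 D45049)) (tt N22903 F70908) (tt N52316 D96488) (tt N27294 F70909))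
theorem Q27679 : ∀ i, i < 27679 → P i := stepQ 27678 Q27678 (allL N27678 (tt N52317 D96489) (tt N52318 D96490) (tt N27340 F70912) (tt N52314 (iv3 F148581)) (tt N52316 (iv4 F148591)) (tt N52294 (iv5 F148447)) (tt N13816 (iv6 D45050)) (tt N52319 D96491))
theorem Q27680 : ∀ i, i < 27680 → P i := stepQ 27679 Q27679 (allL N27679 (tt N21825 (iv1 F70913)) (tt N13817 (iv0 D45051)) (tt N24253 F75465) (tt N52320 D96492) (tt N27916 (iv4 F75463)) (tt N29257 (iv5 F75460)) (tt N30552 F314252) (tt N24252 F75466))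
theorem Q27681 : ∀ i, i < 27681 → P i := stepQ 27680 Q27680 (allL N27680 (tt N13817 (iv1 D45052)) (tt N21825 F70919) (tt N24252 (iv2 F75470)) (tt N36454 F306822) (tt N27913 (iv4 F75474)) (tt N29258 (iv5 F75482)) (tt N36461 F310767) (tt N24253 (iv7 F75471)))
theorem Q27682 : ∀ i, i < 27682 → P i := stepQ 27681 Q27681 (allL N27681 (tt N24253 (iv1 F70921)) (tt N24252 F70918) (tt N13817 (iv2 D45053)) (tt N13851 F70914) (tt N21765 F70915) (tt N27498 F70916) (tt N25662 (iv6 F297838)) (tt N21825 F70917))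
theorem Q27683 : ∀ i, i < 27683 → P i := stepQ 27682 Q27682 (allL N27682 (tt N27446 F71417) (tt N27465 (iv0 F70954)) (tt N26115 (iv2 F70952)) (tt N13818 (iv3 D45073)) (tt N24434 F70951) (tt N42595 (iv5 F106463)) (tt N52321 D96524) (tt N26118 (iv7 F70953)))
theorem Q27684 : ∀ i, i < 27684 → P i := stepQ 27683 Q27683 (allL N27683 (tt N27756 (iv1 F71418)) (tt N27756 (iv0 F71416)) (tt N27365 F70959) (tt N27749 (iv3 F71391)) (tt N13818 (iv4 D45074)) (tt N21622 F70961) (tt N52322 D96525) (tt N27365 F70960))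
theorem Q27685 : ∀ i, i < 27685 → P i := stepQ 27684 Q27684 (allL N27684 (tt N26315 (iv1 F289565)) (tt N27441 (iv0 F289566)) (tt N27367 F70962) (tt N52321 (iv3 F148680)) (tt N52322 (iv4 F148683)) (tt N52323 D96528) (tt N13818 (iv6 D45075)) (tt N49933 (iv7 F289539)))
theorem Q27686 : ∀ i, i < 27686 → P i := stepQ 27685 Q27685 (allL N27685 (tt N13819 (iv1 F70965)) (tt N13819 (iv0 D45076)) (tt N27368 (iv2 F70966)) (tt N28574 (iv3 F74199)) (tt N23333 F70964) (tt N14555 F70963) (tt N36330 F321618) (tt N27368 (iv7 F70967)))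
theorem Q27687 : ∀ i, i < 27687 → P i := stepQ 27686 Q27686 (allL N27686 (tt N52324 D96531) (tt N52325 D96532) (tt N27369 F70970) (tt N13821 F70971) (tt N33591 F85213) (tt N52326 D96533) (tt N13819 (iv6 D45077)) (tt N52327 D96534))
theorem Q27688 : ∀ i, i < 27688 → P i := stepQ 27687 Q27687 (allL N27687 (tt N27373 (iv1 F70979)) (tt N13820 (iv0 D45078)) (tt N27370 (iv2 F270449)) (tt N51137 (iv3 F294342)) (tt N52328 D96537) (tt N52329 D96538) (tt N52330 D96539) (tt N27371 (iv7 F270450)))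
theorem Q27689 : ∀ i, i < 27689 → P i := stepQ 27688 Q27688 (allL N27688 (tt N13820 (iv1 D45079)) (tt N27373 F70972) (tt N27371 F270451) (tt N52331 D96541) (tt N52332 D96542) (tt N52333 D96543) (tt N52334 D96544) (tt N27370 F270452))
theorem Q27690 : ∀ i, i < 27690 → P i := stepQ 27689 Q27689 (allL N27689 (tt N52335 D96545) (tt N52336 D96546) (tt N27372 F70973) (tt N13822 F70974) (tt N52337 D96547) (tt N13820 (iv5 D45080)) (tt N52326 (iv6 F148696)) (tt N50672 F293337))
theorem Q27691 : ∀ i, i < 27691 → P i := stepQ 27690 Q27690 (allL N27690 (tt N13903 (iv1 F70988)) (tt N13821 (iv0 D45082)) (tt N13900 (iv2 F288181)) (tt N52338 D96550) (tt N52339 D96551) (tt N52340 D96552) (tt N52341 D96553) (tt N13901 (iv7 F288187)))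
theorem Q27692 : ∀ i, i < 27692 → P i := stepQ 27691 Q27691 (allL N27691 (tt N13821 (iv1 D45083)) (tt N13903 F70982) (tt N13901 F288188) (tt N52342 D96555) (tt N52343 D96556) (tt N52344 D96557) (tt N52345 D96558) (tt N13900 F288189))
theorem Q27693 : ∀ i, i < 27693 → P i := stepQ 27692 Q27692 (allL N27692 (tt N52346 D96559) (tt N52347 D96560) (tt N13902 F70983) (tt N52326 (iv3 F148695)) (tt N45837 (iv4 F294346)) (tt N13821 (iv5 D45084)) (tt N13822 F70984) (tt N52348 D96562))
theorem Q27694 : ∀ i, i < 27694 → P i := stepQ 27693 Q27693 (allL N27693 (tt N13901 (iv1 F70989)) (tt N13900 F70990) (tt N13903 F70985) (tt N52327 (iv3 F148698)) (tt N24308 F70986) (tt N52348 (iv5 F148724)) (tt N27377 F70987) (tt N13821 (iv7 D45085)))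
theorem Q27695 : ∀ i, i < 27695 → P i := stepQ 27694 Q27694 (allL N27694 (tt N24230 (iv1 F71079)) (tt N13824 (iv0 D45115)) (tt N17245 (iv2 F71078)) (tt N29594 (iv3 F76779)) (tt N17215 F71075) (tt N16513 F71076) (tt N52349 D96631) (tt N16511 F71080))
theorem Q27696 : ∀ i, i < 27696 → P i := stepQ 27695 Q27695 (allL N27695 (tt N17245 (iv1 F71086)) (tt N16511 F71085) (tt N13824 (iv2 D45116)) (tt N21355 F306830) (tt N17205 F71083) (tt N17172 (iv5 F71087)) (tt N37540 (iv6 F308662)) (tt N24230 F71084))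
theorem Q27697 : ∀ i, i < 27697 → P i := stepQ 27696 Q27696 (allL N27696 (tt N17334 F71092) (tt N42348 (iv0 F106036)) (tt N17172 F71088) (tt N13825 F71089) (tt N17150 F71091) (tt N13824 (iv5 D45117)) (tt N21350 (iv6 F313002)) (tt N17200 F71090))
theorem Q27698 : ∀ i, i < 27698 → P i := stepQ 27697 Q27697 (allL N27697 (tt N37543 (iv1 F312913)) (tt N21997 (iv0 F312912)) (tt N37540 F310650) (tt N13826 F71093) (tt N23577 F71094) (tt N19373 (iv5 F312922)) (tt N13824 (iv6 D45118)) (tt N25187 F116726))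
theorem Q27699 : ∀ i, i < 27699 → P i := stepQ 27698 Q27698 (allL N27698 (tt N25038 (iv1 F296490)) (tt N47755 (iv0 F296491)) (tt N17878 (iv2 F296405)) (tt N13832 F71111) (tt N52350 D96650) (tt N13827 (iv5 D45134)) (tt N13828 F71112) (tt N17880 (iv7 F296396)))
theorem Q27700 : ∀ i, i < 27700 → P i := stepQ 27699 Q27699 (allL N27699 (tt N24028 F71120) (tt N24025 F71121) (tt N25610 F71119) (tt N52351 D96652) (tt N13828 (iv4 D45136)) (tt N52352 D96653) (tt N52350 (iv6 F148931)) (tt N45490 (iv7 F116023)))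
theorem Q27701 : ∀ i, i < 27701 → P i := stepQ 27700 Q27700 (allL N27700 (tt N21355 (iv1 F304895)) (tt N13829 (iv0 D45137)) (tt N24251 (iv2 F71123)) (tt N45305 (iv3 F115107)) (tt N24219 F71122) (tt N34597 (iv5 F88019)) (tt N52353 D96654) (tt N24250 F71125))
theorem Q27702 : ∀ i, i < 27702 → P i := stepQ 27701 Q27701 (allL N27701 (tt N24251 (iv1 F71130)) (tt N24250 F71129) (tt N13829 (iv2 D45138)) (tt N24230 F71127) (tt N48425 (iv4 F132634)) (tt N21356 (iv5 F306564)) (tt N44518 (iv6 F307648)) (tt N21355 F305645))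
theorem Q27703 : ∀ i, i < 27703 → P i := stepQ 27702 Q27702 (allL N27702 (tt N21354 F306832) (tt N21273 (iv0 F71133)) (tt N21356 F306833) (tt N13830 F71131) (tt N46889 F298859) (tt N13829 (iv5 D45139)) (tt N21349 (iv6 F308663)) (tt N21329 F306834))
theorem Q27704 : ∀ i, i < 27704 → P i := stepQ 27703 Q27703 (allL N27703 (tt N44516 (iv1 F308537)) (tt N44510 (iv0 F308538)) (tt N44518 (iv2 F307647)) (tt N13831 F71134) (tt N48426 (iv4 F132640)) (tt N52354 D96662) (tt N13829 (iv6 D45140)) (tt N44512 (iv7 F308492)))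
theorem Q27705 : ∀ i, i < 27705 → P i := stepQ 27704 Q27704 (allL N27704 (tt N51720 (iv1 F337295)) (tt N51723 (iv0 F337313)) (tt N24234 F71135) (tt N21349 F310644) (tt N13895 F71136) (tt N52355 D96666) (tt N13830 (iv6 D45141)) (tt N21340 (iv7 F312911)))
theorem Q27706 : ∀ i, i < 27706 → P i := stepQ 27705 Q27705 (allL N27705 (tt N52356 D96668) (tt N52357 D96669) (tt N24235 F71138) (tt N52354 (iv3 F148965)) (tt N52358 D96670) (tt N13831 (iv5 D45144)) (tt N52355 (iv6 F148970)) (tt N22414 (iv7 F308494)))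
theorem Q27707 : ∀ i, i < 27707 → P i := stepQ 27706 Q27706 (allL N27706 (tt N13832 (iv1 D45157)) (tt N24241 F71151) (tt N17993 F116699) (tt N24363 (iv3 F117267)) (tt N46187 F297487) (tt N23083 F116701) (tt N47755 (iv6 F129680)) (tt N24239 (iv7 F116817)))
theorem Q27708 : ∀ i, i < 27708 → P i := stepQ 27707 Q27707 (allL N27707 (tt N51606 (iv1 F146878)) (tt N51608 (iv0 F146876)) (tt N24240 F71153) (tt N52359 D96673) (tt N13832 (iv4 D45158)) (tt N52360 D96674) (tt N13835 F71154) (tt N52361 D96675))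
theorem Q27709 : ∀ i, i < 27709 → P i := stepQ 27708 Q27708 (allL N27708 (tt N17993 F116784) (tt N24239 F71161) (tt N24241 F71155) (tt N17880 F297488) (tt N52361 (iv4 F148993)) (tt N13833 F71156) (tt N24286 F71157) (tt N13832 (iv7 D45159)))
theorem Q27710 : ∀ i, i < 27710 → P i := stepQ 27709 Q27709 (allL N27709 (tt N52362 D96676) (tt N52363 D96677) (tt N52364 D96678) (tt N13835 (iv3 D45161)) (tt N52351 (iv4 F148940)) (tt N52365 D96679) (tt N52359 (iv6 F148990)) (tt N48405 (iv7 F132352)))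
theorem Q27711 : ∀ i, i < 27711 → P i := stepQ 27710 Q27710 (allL N27710 (tt N51612 (iv1 F146892)) (tt N51614 (iv0 F146897)) (tt N24246 F71165) (tt N52365 (iv3 F148998)) (tt N25580 F71166) (tt N13835 (iv5 D45162)) (tt N52366 D96680) (tt N48406 (iv7 F132355)))
theorem Q27712 : ∀ i, i < 27712 → P i := stepQ 27711 Q27711 (allL N27711 (tt N24264 (iv1 F71169)) (tt N13836 (iv0 D45163)) (tt N22997 F71171) (tt N42684 (iv3 F106835)) (tt N22995 F71167) (tt N17334 F71168) (tt N52367 D96681) (tt N24263 (iv7 F71170)))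
theorem Q27713 : ∀ i, i < 27713 → P i := stepQ 27712 Q27712 (allL N27712 (tt N13836 (iv1 D45164)) (tt N24264 F71172) (tt N24263 (iv2 F71176)) (tt N26027 (iv3 F71175)) (tt N17358 F71174) (tt N42348 (iv5 F106034)) (tt N43096 F297872) (tt N22997 F71173))
theorem Q27714 : ∀ i, i < 27714 → P i := stepQ 27713 Q27713 (allL N27713 (tt N42505 F311822) (tt N52368 D96684) (tt N44533 F311823) (tt N13838 F71177) (tt N24117 F71178) (tt N52369 D96685) (tt N13836 (iv6 D45165)) (tt N52370 D96686))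
theorem Q27715 : ∀ i, i < 27715 → P i := stepQ 27714 Q27714 (allL N27714 (tt N51814 (iv1 F334069)) (tt N51818 (iv0 F348961)) (tt N22385 F312369) (tt N32860 (iv3 F83668)) (tt N13892 F71180) (tt N22383 F312370) (tt N13837 (iv6 D45166)) (tt N52371 D96690))
theorem Q27716 : ∀ i, i < 27716 → P i := stepQ 27715 Q27715 (allL N27715 (tt N13838 (iv1 D45168)) (tt N24281 F71181) (tt N24280 (iv2 F117062)) (tt N43316 F311970) (tt N24210 F117063) (tt N43303 F311971) (tt N43494 F311972) (tt N24279 F117064))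
theorem Q27717 : ∀ i, i < 27717 → P i := stepQ 27716 Q27716 (allL N27716 (tt N25410 F297912) (tt N45716 (iv0 F300243)) (tt N22386 F308077) (tt N52369 (iv3 F149006)) (tt N36585 (iv4 F310098)) (tt N13838 (iv5 D45169)) (tt N22383 (iv6 F310100)) (tt N52372 D96700))
theorem Q27718 : ∀ i, i < 27718 → P i := stepQ 27717 Q27717 (allL N27717 (tt N24280 (iv1 F71187)) (tt N24279 F71188) (tt N24281 F71183) (tt N52370 (iv3 F149007)) (tt N13841 F71184) (tt N52372 (iv5 F149052)) (tt N23082 F116723) (tt N13838 (iv7 D45170)))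
theorem Q27719 : ∀ i, i < 27719 → P i := stepQ 27718 Q27718 (allL N27718 (tt N24301 F116787) (tt N13848 F116788) (tt N15333 F309136) (tt N30541 (iv3 F311262)) (tt N13839 (iv4 D45173)) (tt N18512 (iv5 F311337)) (tt N15329 F309137) (tt N24282 (iv7 F116772)))
theorem Q27720 : ∀ i, i < 27720 → P i := stepQ 27719 Q27719 (allL N27719 (tt N24959 F298600) (tt N45385 F116790) (tt N23111 F116791) (tt N24383 (iv3 F117333)) (tt N45730 (iv4 F301255)) (tt N13839 (iv5 D45174)) (tt N24954 F71191) (tt N24283 (iv7 F116776)))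
theorem Q27721 : ∀ i, i < 27721 → P i := stepQ 27720 Q27720 (allL N27720 (tt N25415 F297281) (tt N45717 (iv0 F298910)) (tt N24285 F71196) (tt N32316 F326281) (tt N13840 (iv4 D45183)) (tt N52373 D96709) (tt N22896 F71197) (tt N52374 D96710))
theorem Q27722 : ∀ i, i < 27722 → P i := stepQ 27721 Q27721 (allL N27721 (tt N18206 (iv1 F327013)) (tt N23117 (iv0 F126092)) (tt N24286 F71198) (tt N15986 F325388) (tt N52374 (iv4 F149085)) (tt N13841 F71199) (tt N24241 F71200) (tt N13840 (iv7 D45184)))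
theorem Q27723 : ∀ i, i < 27723 → P i := stepQ 27722 Q27722 (allL N27722 (tt N24278 (iv1 F71212)) (tt N13842 (iv0 D45188)) (tt N24277 (iv2 F71216)) (tt N45569 (iv3 F116544)) (tt N19117 F303516) (tt N21354 (iv5 F305611)) (tt N43422 (iv6 F304555)) (tt N24276 (iv7 F71218)))
theorem Q27724 : ∀ i, i < 27724 → P i := stepQ 27723 Q27723 (allL N27723 (tt N13842 (iv1 D45189)) (tt N24278 F71219) (tt N24276 F71217) (tt N21274 (iv3 F71213)) (tt N38381 F304564) (tt N21273 F71214) (tt N52375 D96715) (tt N24277 F71215))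
theorem Q27725 : ∀ i, i < 27725 → P i := stepQ 27724 Q27724 (allL N27724 (tt N24277 (iv1 F71223)) (tt N24276 F71222) (tt N13842 (iv2 D45190)) (tt N24264 F71220) (tt N22195 F304562) (tt N32858 (iv5 F83666)) (tt N22199 (iv6 F306560)) (tt N24278 F71221))
theorem Q27726 : ∀ i, i < 27726 → P i := stepQ 27725 Q27725 (allL N27725 (tt N46551 (iv1 F125395)) (tt N17457 (iv0 F71226)) (tt N32858 (iv2 F83665)) (tt N13843 F71224) (tt N52376 D96717) (tt N13842 (iv5 D45191)) (tt N35308 F312546) (tt N22394 F307629))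
theorem Q27727 : ∀ i, i < 27727 → P i := stepQ 27726 Q27726 (allL N27726 (tt N41961 (iv1 F313008)) (tt N51864 (iv0 F338152)) (tt N24269 F71228) (tt N35308 F310782) (tt N13885 F71229) (tt N35307 (iv5 F313014)) (tt N13843 (iv6 D45193)) (tt N52377 D96726))
theorem Q27728 : ∀ i, i < 27728 → P i := stepQ 27727 Q27727 (allL N27727 (tt N23082 F116717) (tt N13844 (iv0 D45194)) (tt N24270 (iv2 F117100)) (tt N52378 D96727) (tt N25588 F116718) (tt N19506 F310630) (tt N52379 D96729) (tt N24271 F117103))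
theorem Q27729 : ∀ i, i < 27729 → P i := stepQ 27728 Q27728 (allL N27728 (tt N13844 (iv1 D45195)) (tt N23082 F116719) (tt N24271 F117102) (tt N43167 F308512) (tt N24149 F116720) (tt N36459 (iv5 F308533)) (tt N24162 F297852) (tt N24270 (iv7 F117101)))
theorem Q27730 : ∀ i, i < 27730 → P i := stepQ 27729 Q27729 (allL N27729 (tt N19039 F311828) (tt N25465 F297914) (tt N22810 F311829) (tt N25192 F311830) (tt N22806 (iv4 F312923)) (tt N13844 (iv5 D45196)) (tt N35307 (iv6 F313015)) (tt N22805 F311831))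
theorem Q27731 : ∀ i, i < 27731 → P i := stepQ 27730 Q27730 (allL N27730 (tt N24271 (iv1 F71236)) (tt N24270 F71237) (tt N23082 F116695) (tt N38363 F311832) (tt N13846 F71233) (tt N22805 F311833) (tt N24281 F71234) (tt N13844 (iv7 D45197)))
theorem Q27732 : ∀ i, i < 27732 → P i := stepQ 27731 Q27731 (allL N27731 (tt N13850 F116707) (tt N23084 F116708) (tt N17433 F116709) (tt N40031 (iv3 F311365)) (tt N13845 (iv4 D45205)) (tt N22822 F309202) (tt N45353 (iv6 F297120)) (tt N22820 (iv7 F311414)))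
theorem Q27733 : ∀ i, i < 27733 → P i := stepQ 27732 Q27732 (allL N27732 (tt N24289 (iv1 F71245)) (tt N13847 (iv0 D45207)) (tt N24288 F107440) (tt N42738 F107040) (tt N52380 D96740) (tt N52181 (iv5 F147902)) (tt N52381 D96741) (tt N24287 F107438))
theorem Q27734 : ∀ i, i < 27734 → P i := stepQ 27733 Q27733 (allL N27733 (tt N13847 (iv1 D45208)) (tt N24289 F71250) (tt N24287 (iv2 F107439)) (tt N52382 D96742) (tt N44710 (iv4 F112922)) (tt N52182 (iv5 F147908)) (tt N46446 (iv6 F298493)) (tt N24288 (iv7 F107441)))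
theorem Q27735 : ∀ i, i < 27735 → P i := stepQ 27734 Q27734 (allL N27734 (tt N24288 (iv1 F71251)) (tt N24287 F71249) (tt N13847 (iv2 D45209)) (tt N24296 F71246) (tt N24446 F71247) (tt N47706 (iv5 F129540)) (tt N52383 D96744) (tt N24289 F71248))
theorem Q27736 : ∀ i, i < 27736 → P i := stepQ 27735 Q27735 (allL N27735 (tt N42500 F312365) (tt N52384 D96746) (tt N52383 (iv2 F149202)) (tt N13848 F71252) (tt N24447 F71253) (tt N36597 (iv5 F312799)) (tt N13847 (iv6 D45210)) (tt N52385 D96748))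
theorem Q27737 : ∀ i, i < 27737 → P i := stepQ 27736 Q27736 (allL N27736 (tt N24282 (iv1 F116770)) (tt N15333 F309143) (tt N24301 F71261) (tt N52385 (iv3 F149206)) (tt N25570 F71262) (tt N36605 (iv5 F309389)) (tt N23084 F71263) (tt N13848 (iv7 D45213)))
theorem Q27738 : ∀ i, i < 27738 → P i := stepQ 27737 Q27737 (allL N27737 (tt N24296 (iv1 F71268)) (tt N13849 (iv0 D45214)) (tt N24295 (iv2 F114850)) (tt N52386 D96752) (tt N34062 (iv4 F298522)) (tt N43246 (iv5 F108414)) (tt N21806 (iv6 F298523)) (tt N24294 (iv7 F114852)))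
theorem Q27739 : ∀ i, i < 27739 → P i := stepQ 27738 Q27738 (allL N27738 (tt N13849 (iv1 D45215)) (tt N24296 F71273) (tt N24294 F114853) (tt N38379 F303999) (tt N34068 (iv4 F298524)) (tt N41612 (iv5 F306028)) (tt N46492 (iv6 F298525)) (tt N24295 F114851))
theorem Q27740 : ∀ i, i < 27740 → P i := stepQ 27739 Q27739 (allL N27739 (tt N24295 (iv1 F71274)) (tt N24294 F71272) (tt N13849 (iv2 D45216)) (tt N24289 F71269) (tt N21821 (iv4 F298511)) (tt N29591 (iv5 F76775)) (tt N44524 (iv6 F307822)) (tt N24296 F71271))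
theorem Q27741 : ∀ i, i < 27741 → P i := stepQ 27740 Q27740 (allL N27740 (tt N20291 (iv1 F309084)) (tt N44526 F308067) (tt N44524 F308068) (tt N13850 F71275) (tt N21822 (iv4 F298514)) (tt N48476 F312167) (tt N13849 (iv6 D45217)) (tt N44525 (iv7 F310079)))
theorem Q27742 : ∀ i, i < 27742 → P i := stepQ 27741 Q27741 (allL N27741 (tt N25194 F71282) (tt N35187 (iv0 F297762)) (tt N24293 F71281) (tt N48476 F311154) (tt N19482 (iv4 F312893)) (tt N13850 (iv5 D45219)) (tt N47709 (iv6 F129558)) (tt N37493 (iv7 F311420)))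
theorem Q27743 : ∀ i, i < 27743 → P i := stepQ 27742 Q27742 (allL N27742 (tt N17433 (iv1 F71286)) (tt N22820 (iv0 F311410)) (tt N23084 F71283) (tt N44525 (iv3 F310078)) (tt N23907 F71284) (tt N37493 (iv5 F311419)) (tt N24301 F71285) (tt N13850 (iv7 D45220)))
theorem Q27744 : ∀ i, i < 27744 → P i := stepQ 27743 Q27743 (allL N27743 (tt N25437 F302716) (tt N42994 (iv0 F299898)) (tt N33981 (iv2 F299897)) (tt N13854 F71292) (tt N48441 (iv4 F299899)) (tt N13852 (iv5 D45225)) (tt N25206 (iv6 F302717)) (tt N25454 (iv7 F297809)))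
theorem Q27745 : ∀ i, i < 27745 → P i := stepQ 27744 Q27744 (allL N27744 (tt N27502 (iv1 F71302)) (tt N13853 (iv0 D45227)) (tt N27500 (iv2 F310995)) (tt N52387 D96778) (tt N52212 (iv4 F352640)) (tt N42689 (iv5 F310948)) (tt N52388 D96781) (tt N27501 (iv7 F310994)))
theorem Q27746 : ∀ i, i < 27746 → P i := stepQ 27745 Q27745 (allL N27745 (tt N13853 (iv1 D45228)) (tt N27502 F71296) (tt N27501 (iv2 F310993)) (tt N45250 F312023) (tt N52213 (iv4 F334523)) (tt N42690 (iv5 F310949)) (tt N36319 (iv6 F310950)) (tt N27500 (iv7 F310996)))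
theorem Q27747 : ∀ i, i < 27747 → P i := stepQ 27746 Q27746 (allL N27746 (tt N52389 D96787) (tt N52390 D96788) (tt N25456 (iv2 F297810)) (tt N25206 F305061) (tt N25530 (iv4 F299900)) (tt N13853 (iv5 D45229)) (tt N13854 F71298) (tt N48164 F305062))
theorem Q27748 : ∀ i, i < 27748 → P i := stepQ 27747 Q27747 (allL N27747 (tt N27501 (iv1 F71303)) (tt N27500 F71304) (tt N27502 F71299) (tt N36371 (iv3 F307006)) (tt N27377 F71300) (tt N48164 F305064) (tt N24308 F71301) (tt N13853 (iv7 D45230)))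
theorem Q27749 : ∀ i, i < 27749 → P i := stepQ 27748 Q27748 (allL N27748 (tt N13855 (iv1 D45269)) (tt N24275 F297584) (tt N24274 (iv2 F297673)) (tt N17439 F116831) (tt N46448 F297585) (tt N24955 F71342) (tt N23091 F116832) (tt N17434 F116833))
theorem Q27750 : ∀ i, i < 27750 → P i := stepQ 27749 Q27749 (allL N27749 (tt N25652 (iv1 F71392)) (tt N13856 (iv0 D45322)) (tt N25651 F71401) (tt N27683 F71391) (tt N46799 (iv4 F127114)) (tt N42590 (iv5 F106460)) (tt N52391 D96946) (tt N25650 (iv7 F71393)))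
theorem Q27751 : ∀ i, i < 27751 → P i := stepQ 27750 Q27750 (allL N27750 (tt N13856 (iv1 D45323)) (tt N25652 F71398) (tt N25650 (iv2 F71399)) (tt N25651 (iv3 F71402)) (tt N48413 (iv4 F132439)) (tt N48907 (iv5 F134843)) (tt N52392 D96947) (tt N25651 (iv7 F71400)))
theorem Q27752 : ∀ i, i < 27752 → P i := stepQ 27751 Q27751 (allL N27751 (tt N25651 (iv1 F71403)) (tt N25650 F71397) (tt N13856 (iv2 D45324)) (tt N13872 F71394) (tt N13995 F71395) (tt N52210 (iv5 F148017)) (tt N52393 D96948) (tt N25652 F71396))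
theorem Q27753 : ∀ i, i < 27753 → P i := stepQ 27752 Q27752 (allL N27752 (tt N52394 D96949) (tt N52395 D96950) (tt N52393 (iv2 F149502)) (tt N13857 F71404) (tt N25529 F71405) (tt N52396 D96951) (tt N13856 (iv6 D45325)) (tt N27542 (iv7 F71406)))
theorem Q27754 : ∀ i, i < 27754 → P i := stepQ 27753 Q27753 (allL N27753 (tt N49279 F295302) (tt N29191 (iv0 F75154)) (tt N27389 F71407) (tt N52396 (iv3 F149511)) (tt N52075 (iv4 F147645)) (tt N13857 (iv5 D45326)) (tt N52214 (iv6 F148024)) (tt N27543 F71408))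
theorem Q27755 : ∀ i, i < 27755 → P i := stepQ 27754 Q27754 (allL N27754 (tt N26371 F294078) (tt N26365 F294079) (tt N25657 F71409) (tt N49550 (iv3 F136821)) (tt N52397 D96954) (tt N13858 (iv5 D45327)) (tt N52218 (iv6 F148032)) (tt N48523 F294080))
theorem Q27756 : ∀ i, i < 27756 → P i := stepQ 27755 Q27755 (allL N27755 (tt N27545 F178360) (tt N27139 F178361) (tt N27392 F71410) (tt N27390 F71411) (tt N26388 F71412) (tt N52398 D96957) (tt N13859 (iv6 D45328)) (tt N27544 F205494))
theorem Q27757 : ∀ i, i < 27757 → P i := stepQ 27756 Q27756 (allL N27756 (tt N27683 F71416) (tt N27683 F71418) (tt N27391 F71413) (tt N13860 (iv3 D45329)) (tt N27391 F71414) (tt N52197 (iv5 F147999)) (tt N52399 D96959) (tt N27391 F71415))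
theorem Q27758 : ∀ i, i < 27758 → P i := stepQ 27757 Q27757 (allL N27757 (tt N13915 (iv1 F205500)) (tt N49984 (iv0 F294943)) (tt N27390 F71419) (tt N52399 (iv3 F149541)) (tt N26386 F71420) (tt N52400 D96962) (tt N13860 (iv6 D45330)) (tt N49983 (iv7 F294585)))
theorem Q27759 : ∀ i, i < 27759 → P i := stepQ 27758 Q27758 (allL N27758 (tt N23866 F71425) (tt N23158 F71426) (tt N13862 F71421) (tt N27419 F71422) (tt N14918 F71423) (tt N13861 (iv5 D45331)) (tt N32902 (iv6 F83722)) (tt N23256 F71424))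
theorem Q27760 : ∀ i, i < 27760 → P i := stepQ 27759 Q27759 (allL N27759 (tt N50731 F147483) (tt N50735 F142185) (tt N13863 F71427) (tt N27420 F71428) (tt N23257 F71429) (tt N52401 D96964) (tt N13861 (iv6 D45332)) (tt N52402 D96965))
theorem Q27761 : ∀ i, i < 27761 → P i := stepQ 27760 Q27760 (allL N27760 (tt N52403 D96966) (tt N52404 D96967) (tt N32902 (iv2 F83721)) (tt N13864 F71430) (tt N17525 F71431) (tt N52405 D96968) (tt N13862 (iv6 D45333)) (tt N52406 D96969))
theorem Q27762 : ∀ i, i < 27762 → P i := stepQ 27761 Q27761 (allL N27761 (tt N52402 F149558) (tt N13863 (iv0 D45334)) (tt N50731 (iv2 F178270)) (tt N27394 F83216) (tt N50728 (iv4 F142162)) (tt N52407 D96971) (tt N52408 D96972) (tt N50735 (iv7 F178248)))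
theorem Q27763 : ∀ i, i < 27763 → P i := stepQ 27762 Q27762 (allL N27762 (tt N13863 (iv1 D45335)) (tt N52402 F149557) (tt N50735 (iv2 F178247)) (tt N52409 D96974) (tt N50729 (iv4 F142166)) (tt N52410 D96975) (tt N52411 D96976) (tt N50731 (iv7 F178271)))
theorem Q27764 : ∀ i, i < 27764 → P i := stepQ 27763 Q27763 (allL N27763 (tt N52412 D96977) (tt N52413 D96978) (tt N52401 (iv2 F149551)) (tt N13867 F71432) (tt N52414 D96979) (tt N13863 (iv5 D45336)) (tt N52405 (iv6 F149561)) (tt N52415 D96980))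
theorem Q27765 : ∀ i, i < 27765 → P i := stepQ 27764 Q27764 (allL N27764 (tt N50735 F142184) (tt N50731 (iv0 F142176)) (tt N52402 (iv2 F149553)) (tt N13868 F71433) (tt N27114 F71434) (tt N52415 (iv5 F149575)) (tt N26313 F71435) (tt N13863 (iv7 D45337)))
theorem Q27766 : ∀ i, i < 27766 → P i := stepQ 27765 Q27765 (allL N27765 (tt N27430 (iv1 F71441)) (tt N13864 (iv0 D45338)) (tt N27427 F321367) (tt N52416 D96982) (tt N41843 (iv4 F319343)) (tt N52417 D96984) (tt N36295 (iv6 F319344)) (tt N27428 (iv7 F322992)))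
theorem Q27767 : ∀ i, i < 27767 → P i := stepQ 27766 Q27766 (allL N27766 (tt N13864 (iv1 D45339)) (tt N27430 F71436) (tt N27428 (iv2 F322991)) (tt N52418 D96987) (tt N46573 (iv4 F338151)) (tt N52419 D96989) (tt N52420 D96990) (tt N27427 F321368))
theorem Q27768 : ∀ i, i < 27768 → P i := stepQ 27767 Q27767 (allL N27767 (tt N52421 D96991) (tt N52422 D96992) (tt N27429 F71437) (tt N52405 (iv3 F149560)) (tt N52423 D96993) (tt N13864 (iv5 D45340)) (tt N13867 F71438) (tt N52424 D96994))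
theorem Q27769 : ∀ i, i < 27769 → P i := stepQ 27768 Q27768 (allL N27768 (tt N27428 (iv1 F71442)) (tt N27427 F71443) (tt N27430 F71439) (tt N52406 (iv3 F149562)) (tt N36610 F317069) (tt N52424 (iv5 F149584)) (tt N27404 F71440) (tt N13864 (iv7 D45341)))
theorem Q27770 : ∀ i, i < 27770 → P i := stepQ 27769 Q27769 (allL N27769 (tt N52425 D96995) (tt N52392 (iv0 F289552)) (tt N52426 D96997) (tt N13865 (iv3 D45342)) (tt N49444 (iv4 F136473)) (tt N52427 D96998) (tt N52428 D96999) (tt N27434 F71444))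
theorem Q27771 : ∀ i, i < 27771 → P i := stepQ 27770 Q27770 (allL N27770 (tt N29207 (iv1 F75219)) (tt N29369 F292164) (tt N27432 F71445) (tt N52427 (iv3 F149595)) (tt N52429 D97000) (tt N13865 (iv5 D45343)) (tt N52430 D97001) (tt N27435 F71446))
theorem Q27772 : ∀ i, i < 27772 → P i := stepQ 27771 Q27771 (allL N27771 (tt N13921 (iv1 F71452)) (tt N26331 (iv0 F71451)) (tt N27433 F71447) (tt N52428 (iv3 F149597)) (tt N25558 F71448) (tt N27363 F71449) (tt N13865 (iv6 D45344)) (tt N49965 (iv7 F138097)))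
theorem Q27773 : ∀ i, i < 27773 → P i := stepQ 27772 Q27772 (allL N27772 (tt N13875 F71457) (tt N49929 F137981) (tt N49928 F137975) (tt N13866 (iv3 D45345)) (tt N49286 (iv4 F135757)) (tt N52431 D97002) (tt N52432 D97003) (tt N27431 F71456))
theorem Q27774 : ∀ i, i < 27774 → P i := stepQ 27773 Q27773 (allL N27773 (tt N29369 F292152) (tt N29207 F75220) (tt N27435 F71458) (tt N52431 (iv3 F149604)) (tt N52433 D97004) (tt N13866 (iv5 D45346)) (tt N52434 D97005) (tt N27432 F71459))
theorem Q27775 : ∀ i, i < 27775 → P i := stepQ 27774 Q27774 (allL N27774 (tt N26718 (iv1 F292247)) (tt N26719 (iv0 F292252)) (tt N27436 F71460) (tt N52432 (iv3 F149606)) (tt N26378 F71461) (tt N52435 D97006) (tt N13866 (iv6 D45347)) (tt N27552 (iv7 F71462)))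
theorem Q27776 : ∀ i, i < 27776 → P i := stepQ 27775 Q27775 (allL N27775 (tt N27440 (iv1 F71473)) (tt N13867 (iv0 D45348)) (tt N27437 F71476) (tt N52436 D97007) (tt N51966 (iv4 F147506)) (tt N27626 F291778) (tt N52437 D97008) (tt N27438 F71475))
theorem Q27777 : ∀ i, i < 27777 → P i := stepQ 27776 Q27776 (allL N27776 (tt N13867 (iv1 D45349)) (tt N27440 F71467) (tt N27438 F71469) (tt N52438 D97009) (tt N51967 (iv4 F147510)) (tt N27653 (iv5 F71468)) (tt N52439 D97010) (tt N27437 (iv7 F71477)))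
theorem Q27778 : ∀ i, i < 27778 → P i := stepQ 27777 Q27777 (allL N27777 (tt N52440 D97011) (tt N52441 D97012) (tt N27439 F71470) (tt N52442 D97013) (tt N13867 (iv4 D45350)) (tt N52443 D97014) (tt N52423 (iv6 F149582)) (tt N52444 D97015))
theorem Q27779 : ∀ i, i < 27779 → P i := stepQ 27778 Q27778 (allL N27778 (tt N27438 (iv1 F71474)) (tt N27437 F71478) (tt N27440 F71471) (tt N52415 (iv3 F149574)) (tt N52444 (iv4 F149635)) (tt N13868 F71472) (tt N52445 D97016) (tt N13867 (iv7 D45351)))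
theorem Q27780 : ∀ i, i < 27780 → P i := stepQ 27779 Q27779 (allL N27779 (tt N49933 (iv1 F137993)) (tt N27367 F289534) (tt N26315 F71479) (tt N13869 (iv3 D45352)) (tt N27779 F71480) (tt N52446 D97017) (tt N49938 (iv6 F138017)) (tt N27441 F71481))
theorem Q27781 : ∀ i, i < 27781 → P i := stepQ 27780 Q27780 (allL N27780 (tt N29167 F75124) (tt N29371 F290679) (tt N26322 F71482) (tt N52446 (iv3 F149642)) (tt N52447 D97018) (tt N13869 (iv5 D45353)) (tt N52448 D97019) (tt N27442 F71483))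
theorem Q27782 : ∀ i, i < 27782 → P i := stepQ 27781 Q27781 (allL N27781 (tt N26239 F291429) (tt N27197 F291430) (tt N26337 F71484) (tt N52449 D97020) (tt N13870 (iv4 D45354)) (tt N52450 D97021) (tt N29192 (iv6 F75156)) (tt N27192 F291431))
theorem Q27783 : ∀ i, i < 27783 → P i := stepQ 27782 Q27782 (allL N27782 (tt N13871 (iv1 D45358)) (tt N14622 (iv0 F291776)) (tt N14625 F291511) (tt N14459 (iv3 F292400)) (tt N26379 (iv4 F125248)) (tt N52451 D97029) (tt N25699 (iv6 F292406)) (tt N14610 F291512))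
theorem Q27784 : ∀ i, i < 27784 → P i := stepQ 27783 Q27783 (allL N27783 (tt N25713 (iv1 F293729)) (tt N49136 (iv0 F293730)) (tt N20159 (iv2 F327679)) (tt N13871 (iv3 D45359)) (tt N14413 F292731) (tt N19901 (iv5 F327685)) (tt N25571 F71496) (tt N14626 F292732))
theorem Q27785 : ∀ i, i < 27785 → P i := stepQ 27784 Q27784 (allL N27784 (tt N52452 D97036) (tt N48731 F292844) (tt N14630 F292845) (tt N19901 F328160) (tt N52453 D97038) (tt N13871 (iv5 D45360)) (tt N19898 (iv6 F328557)) (tt N14627 F292846))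
theorem Q27786 : ∀ i, i < 27786 → P i := stepQ 27785 Q27785 (allL N27785 (tt N48527 (iv1 F295219)) (tt N13919 F71795) (tt N27388 F71512) (tt N52393 (iv3 F149503)) (tt N46801 (iv4 F127122)) (tt N52454 D97041) (tt N13872 (iv6 D45362)) (tt N48526 (iv7 F295216)))
theorem Q27787 : ∀ i, i < 27787 → P i := stepQ 27786 Q27786 (allL N27786 (tt N27399 (iv1 F71516)) (tt N27421 F71517) (tt N13874 F71513) (tt N23256 F71514) (tt N49403 F307499) (tt N13873 (iv5 D45363)) (tt N52455 D97043) (tt N27419 F71515))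
theorem Q27788 : ∀ i, i < 27788 → P i := stepQ 27787 Q27787 (allL N27787 (tt N27431 F136448) (tt N49928 F137976) (tt N13875 F71518) (tt N23245 F71519) (tt N28144 (iv4 F72925)) (tt N52456 D97044) (tt N13873 (iv6 D45364)) (tt N49929 (iv7 F137979)))
theorem Q27789 : ∀ i, i < 27789 → P i := stepQ 27788 Q27788 (allL N27788 (tt N52457 D97047) (tt N52418 (iv0 F338150)) (tt N52455 (iv2 F149701)) (tt N13876 F71521) (tt N49654 (iv4 F308365)) (tt N52458 D97049) (tt N13874 (iv6 D45366)) (tt N52459 D97050))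
theorem Q27790 : ∀ i, i < 27790 → P i := stepQ 27789 Q27789 (allL N27789 (tt N49929 (iv1 F137980)) (tt N13875 (iv0 D45367)) (tt N27431 (iv2 F71522)) (tt N52426 (iv3 F149589)) (tt N49539 (iv4 F335743)) (tt N52460 D97051) (tt N47609 F326737) (tt N49928 (iv7 F137977)))
theorem Q27791 : ∀ i, i < 27791 → P i := stepQ 27790 Q27790 (allL N27790 (tt N52461 D97053) (tt N52438 (iv0 F149620)) (tt N52456 (iv2 F149704)) (tt N13879 F71523) (tt N52462 D97054) (tt N13875 (iv5 D45368)) (tt N52458 (iv6 F149715)) (tt N49930 (iv7 F137984)))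
theorem Q27792 : ∀ i, i < 27792 → P i := stepQ 27791 Q27791 (allL N27791 (tt N27404 (iv1 F71529)) (tt N13876 (iv0 D45369)) (tt N27401 F348955) (tt N52463 D97056) (tt N43814 (iv4 F320362)) (tt N52464 D97058) (tt N52465 D97059) (tt N27402 (iv7 F348958)))
theorem Q27793 : ∀ i, i < 27793 → P i := stepQ 27792 Q27792 (allL N27792 (tt N13876 (iv1 D45370)) (tt N27404 F71524) (tt N27402 (iv2 F348957)) (tt N52466 D97061) (tt N43815 (iv4 F320363)) (tt N52467 D97063) (tt N52468 D97064) (tt N27401 F348956))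
theorem Q27794 : ∀ i, i < 27794 → P i := stepQ 27793 Q27793 (allL N27793 (tt N52469 D97065) (tt N52470 D97066) (tt N27403 F71525) (tt N52458 (iv3 F149714)) (tt N52471 D97067) (tt N13876 (iv5 D45371)) (tt N13879 F71526) (tt N52472 D97068))
theorem Q27795 : ∀ i, i < 27795 → P i := stepQ 27794 Q27794 (allL N27794 (tt N27402 (iv1 F71530)) (tt N27401 F71531) (tt N27404 F71527) (tt N52459 (iv3 F149716)) (tt N36520 F318176) (tt N52472 (iv5 F149729)) (tt N27430 F71528) (tt N13876 (iv7 D45372)))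
theorem Q27796 : ∀ i, i < 27796 → P i := stepQ 27795 Q27795 (allL N27795 (tt N29426 (iv1 F76137)) (tt N29428 F76143) (tt N27406 F71532) (tt N49671 (iv3 F137035)) (tt N52473 D97069) (tt N13877 (iv5 D45373)) (tt N52474 D97070) (tt N27409 F71533))
theorem Q27797 : ∀ i, i < 27797 → P i := stepQ 27796 Q27796 (allL N27796 (tt N26334 (iv1 F71538)) (tt N26336 (iv0 F71537)) (tt N27407 F71534) (tt N49672 (iv3 F137036)) (tt N28374 F291483) (tt N27321 F71535) (tt N13877 (iv6 D45374)) (tt N27567 F71542))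
theorem Q27798 : ∀ i, i < 27798 → P i := stepQ 27797 Q27797 (allL N27797 (tt N52391 (iv1 F289564)) (tt N52475 D97072) (tt N52476 D97073) (tt N13878 (iv3 D45375)) (tt N25560 F71543) (tt N52477 D97074) (tt N52478 D97075) (tt N27405 F71544))
theorem Q27799 : ∀ i, i < 27799 → P i := stepQ 27798 Q27798 (allL N27798 (tt N29428 (iv1 F76142)) (tt N29426 F76138) (tt N27409 F71545) (tt N52477 (iv3 F149750)) (tt N52479 D97076) (tt N13878 (iv5 D45376)) (tt N52480 D97077) (tt N27406 F71546))
theorem Q27800 : ∀ i, i < 27800 → P i := stepQ 27799 Q27799 (allL N27799 (tt N25781 (iv1 F293240)) (tt N13917 (iv0 F71549)) (tt N25777 (iv2 F293144)) (tt N52478 (iv3 F149752)) (tt N25559 F71548) (tt N29186 (iv5 F75143)) (tt N13878 (iv6 D45377)) (tt N25778 (iv7 F293162)))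
theorem Q27801 : ∀ i, i < 27801 → P i := stepQ 27800 Q27800 (allL N27800 (tt N26314 (iv1 F71550)) (tt N13879 (iv0 D45378)) (tt N27410 F71556) (tt N52481 D97078) (tt N51933 (iv4 F147462)) (tt N29311 (iv5 F75581)) (tt N52482 D97079) (tt N27411 F71554))
theorem Q27802 : ∀ i, i < 27802 → P i := stepQ 27801 Q27801 (allL N27801 (tt N13879 (iv1 D45379)) (tt N26314 F71551) (tt N27411 (iv2 F71553)) (tt N52483 D97080) (tt N51841 (iv4 F328309)) (tt N25898 F71552) (tt N51840 (iv6 F328706)) (tt N27410 (iv7 F71555)))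
theorem Q27803 : ∀ i, i < 27803 → P i := stepQ 27802 Q27802 (allL N27802 (tt N29422 (iv1 F76125)) (tt N29411 F76069) (tt N27412 F71557) (tt N52484 D97082) (tt N13879 (iv4 D45380)) (tt N29386 (iv5 F76037)) (tt N52471 (iv6 F149727)) (tt N49931 (iv7 F137987)))
theorem Q27804 : ∀ i, i < 27804 → P i := stepQ 27803 Q27803 (allL N27803 (tt N48413 (iv1 F132438)) (tt N46799 (iv0 F127117)) (tt N27447 F71558) (tt N27100 F71559) (tt N13880 (iv4 D45381)) (tt N48437 (iv5 F132703)) (tt N52485 D97083) (tt N27443 F71560))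
theorem Q27805 : ∀ i, i < 27805 → P i := stepQ 27804 Q27804 (allL N27804 (tt N27485 F71564) (tt N13894 F71565) (tt N27448 F71561) (tt N27467 F71562) (tt N46077 (iv4 F120185)) (tt N13880 (iv5 D45382)) (tt N52486 D97084) (tt N27444 F71563))
theorem Q27806 : ∀ i, i < 27806 → P i := stepQ 27805 Q27805 (allL N27805 (tt N27516 (iv1 F157622)) (tt N27378 (iv0 F157623)) (tt N27449 F71566) (tt N27468 F71567) (tt N52485 (iv4 F149771)) (tt N52487 D97087) (tt N13880 (iv6 D45383)) (tt N27515 F157608))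
theorem Q27807 : ∀ i, i < 27807 → P i := stepQ 27806 Q27806 (allL N27806 (tt N26115 F71578) (tt N26118 (iv0 F71576)) (tt N27465 F71568) (tt N13881 (iv3 D45384)) (tt N27413 F71569) (tt N52488 D97089) (tt N52489 D97090) (tt N27446 F71570))
theorem Q27808 : ∀ i, i < 27808 → P i := stepQ 27807 Q27807 (allL N27807 (tt N13894 F71582) (tt N27485 F71583) (tt N27444 F71580) (tt N52488 (iv3 F149784)) (tt N52490 D97091) (tt N13881 (iv5 D45385)) (tt N52491 D97092) (tt N27448 F71581))
theorem Q27809 : ∀ i, i < 27809 → P i := stepQ 27808 Q27808 (allL N27808 (tt N13904 (iv1 F157275)) (tt N50675 F294892) (tt N27445 F71584) (tt N52489 (iv3 F149789)) (tt N49376 (iv4 F136177)) (tt N52492 D97095) (tt N13881 (iv6 D45386)) (tt N50674 (iv7 F294110)))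
theorem Q27810 : ∀ i, i < 27810 → P i := stepQ 27809 Q27809 (allL N27809 (tt N27453 (iv1 F71589)) (tt N27452 F71588) (tt N13883 F71585) (tt N27469 F71586) (tt N52493 D97097) (tt N13882 (iv5 D45387)) (tt N52494 D97098) (tt N27450 F71587))
theorem Q27811 : ∀ i, i < 27811 → P i := stepQ 27810 Q27810 (allL N27810 (tt N52495 D97099) (tt N52496 D97100) (tt N13884 F71590) (tt N27470 F71591) (tt N28036 (iv4 F72589)) (tt N52497 D97101) (tt N13882 (iv6 D45388)) (tt N52498 D97102))
theorem Q27812 : ∀ i, i < 27812 → P i := stepQ 27811 Q27811 (allL N27811 (tt N27450 (iv1 F71593)) (tt N13883 (iv0 D45389)) (tt N27453 F71596) (tt N27472 F71592) (tt N43172 (iv4 F108242)) (tt N14510 F71594) (tt N49732 (iv6 F312636)) (tt N27452 (iv7 F71595)))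
theorem Q27813 : ∀ i, i < 27813 → P i := stepQ 27812 Q27812 (allL N27812 (tt N13883 (iv1 D45390)) (tt N27450 F71598) (tt N27452 (iv2 F71601)) (tt N49656 (iv3 F305475)) (tt N44773 F303427) (tt N14511 F71600) (tt N52499 D97106) (tt N27453 F71599))
theorem Q27814 : ∀ i, i < 27814 → P i := stepQ 27813 Q27813 (allL N27813 (tt N51803 (iv1 F147251)) (tt N52500 D97107) (tt N52493 (iv2 F149804)) (tt N52376 (iv3 F149124)) (tt N13883 (iv4 D45391)) (tt N52501 D97108) (tt N52502 D97109) (tt N27454 F71602))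
theorem Q27815 : ∀ i, i < 27815 → P i := stepQ 27814 Q27814 (allL N27814 (tt N52503 D97110) (tt N52504 D97111) (tt N52494 (iv2 F149810)) (tt N13885 F71603) (tt N52502 (iv4 F149847)) (tt N52505 D97112) (tt N13883 (iv6 D45392)) (tt N52506 D97113))
theorem Q27816 : ∀ i, i < 27816 → P i := stepQ 27815 Q27815 (allL N27815 (tt N52498 F149822) (tt N13884 (iv0 D45393)) (tt N52495 (iv2 F283556)) (tt N49940 F138029) (tt N52507 D97115) (tt N52508 D97116) (tt N52509 D97117) (tt N52496 (iv7 F283555)))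
theorem Q27817 : ∀ i, i < 27817 → P i := stepQ 27816 Q27816 (allL N27816 (tt N13884 (iv1 D45394)) (tt N52498 F149821) (tt N52496 (iv2 F283554)) (tt N52510 D97119) (tt N52511 D97120) (tt N52512 D97121) (tt N52513 D97122) (tt N52495 (iv7 F283557)))
theorem Q27818 : ∀ i, i < 27818 → P i := stepQ 27817 Q27817 (allL N27817 (tt N52514 D97123) (tt N52515 D97124) (tt N52497 (iv2 F149815)) (tt N13886 F71604) (tt N52516 D97125) (tt N13884 (iv5 D45395)) (tt N52505 (iv6 F149849)) (tt N52517 D97126))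
theorem Q27819 : ∀ i, i < 27819 → P i := stepQ 27818 Q27818 (allL N27818 (tt N52496 (iv1 F149813)) (tt N52495 F149820) (tt N52498 (iv2 F149817)) (tt N13887 F71605) (tt N28042 (iv4 F72596)) (tt N52517 (iv5 F149857)) (tt N26319 F71606) (tt N13884 (iv7 D45396)))
theorem Q27820 : ∀ i, i < 27820 → P i := stepQ 27819 Q27819 (allL N27819 (tt N27481 (iv1 F71612)) (tt N13885 (iv0 D45397)) (tt N27478 F322038) (tt N52518 D97128) (tt N20926 (iv4 F317684)) (tt N52519 D97130) (tt N20925 (iv6 F317685)) (tt N27479 (iv7 F323698)))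
theorem Q27821 : ∀ i, i < 27821 → P i := stepQ 27820 Q27820 (allL N27820 (tt N13885 (iv1 D45398)) (tt N27481 F71607) (tt N27479 (iv2 F323697)) (tt N27460 F319119) (tt N47708 (iv4 F321177)) (tt N52520 D97135) (tt N52521 D97136) (tt N27478 F322040))
theorem Q27822 : ∀ i, i < 27822 → P i := stepQ 27821 Q27821 (allL N27821 (tt N52522 D97137) (tt N52523 D97138) (tt N27480 F71608) (tt N52505 (iv3 F149848)) (tt N52524 D97139) (tt N13885 (iv5 D45399)) (tt N13886 F71609) (tt N52525 D97140))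
theorem Q27823 : ∀ i, i < 27823 → P i := stepQ 27822 Q27822 (allL N27822 (tt N27479 (iv1 F71613)) (tt N27478 F71614) (tt N27481 F71610) (tt N52506 (iv3 F149850)) (tt N52377 (iv4 F149138)) (tt N52525 (iv5 F149866)) (tt N27462 F71611) (tt N13885 (iv7 D45400)))
theorem Q27824 : ∀ i, i < 27824 → P i := stepQ 27823 Q27823 (allL N27823 (tt N27484 (iv1 F71622)) (tt N13886 (iv0 D45401)) (tt N14634 (iv2 F290789)) (tt N52526 D97141) (tt N52440 (iv4 F149623)) (tt N14623 F290650) (tt N52527 D97142) (tt N27482 (iv7 F71621)))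
theorem Q27825 : ∀ i, i < 27825 → P i := stepQ 27824 Q27824 (allL N27824 (tt N13886 (iv1 D45402)) (tt N27484 F71615) (tt N27482 F71617) (tt N14655 F71618) (tt N52441 (iv4 F149629)) (tt N14635 F290647) (tt N52528 D97143) (tt N14634 (iv7 F290790)))
theorem Q27826 : ∀ i, i < 27826 → P i := stepQ 27825 Q27825 (allL N27825 (tt N51884 (iv1 F147376)) (tt N51887 (iv0 F147379)) (tt N27483 F71623) (tt N52529 D97144) (tt N13886 (iv4 D45403)) (tt N52530 D97145) (tt N52524 (iv6 F149864)) (tt N52531 D97146))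
theorem Q27827 : ∀ i, i < 27827 → P i := stepQ 27826 Q27826 (allL N27826 (tt N27482 (iv1 F71626)) (tt N14634 (iv0 F290787)) (tt N27484 F71624) (tt N52517 (iv3 F149856)) (tt N52531 (iv4 F149878)) (tt N13887 F71625) (tt N52532 D97147) (tt N13886 (iv7 D45404)))
theorem Q27828 : ∀ i, i < 27828 → P i := stepQ 27827 Q27827 (allL N27827 (tt N26118 F71631) (tt N26115 (iv0 F71632)) (tt N27446 F71628) (tt N13888 (iv3 D45405)) (tt N27414 F71629) (tt N46070 (iv5 F120176)) (tt N52533 D97148) (tt N27465 F71630))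
theorem Q27829 : ∀ i, i < 27829 → P i := stepQ 27828 Q27828 (allL N27828 (tt N50677 (iv1 F293676)) (tt N13907 F157604) (tt N27468 F71639) (tt N52533 (iv3 F149884)) (tt N23255 F71640) (tt N52534 D97151) (tt N13888 (iv6 D45406)) (tt N50676 (iv7 F293689)))
theorem Q27830 : ∀ i, i < 27830 → P i := stepQ 27829 Q27829 (allL N27829 (tt N27160 (iv1 F157280)) (tt N27524 (iv0 F157281)) (tt N27466 F71641) (tt N27445 F71642) (tt N23253 F71643) (tt N52535 D97155) (tt N13889 (iv6 D45407)) (tt N27523 (iv7 F157279)))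
theorem Q27831 : ∀ i, i < 27831 → P i := stepQ 27830 Q27830 (allL N27830 (tt N49940 F138028) (tt N49939 F138025) (tt N13891 F71644) (tt N27451 F71645) (tt N26786 F71646) (tt N52536 D97157) (tt N13890 (iv6 D45408)) (tt N49941 (iv7 F138031)))
theorem Q27832 : ∀ i, i < 27832 → P i := stepQ 27831 Q27831 (allL N27831 (tt N49941 (iv1 F138032)) (tt N13891 (iv0 D45409)) (tt N49940 (iv2 F283536)) (tt N52537 D97159) (tt N27111 (iv4 F142174)) (tt N52538 D97160) (tt N52539 D97161) (tt N49939 (iv7 F283542)))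
theorem Q27833 : ∀ i, i < 27833 → P i := stepQ 27832 Q27832 (allL N27832 (tt N13891 (iv1 D45410)) (tt N49941 F138033) (tt N49939 (iv2 F283541)) (tt N52496 F149814) (tt N27112 F138034) (tt N52540 D97163) (tt N52541 D97164) (tt N49940 (iv7 F283537)))
theorem Q27834 : ∀ i, i < 27834 → P i := stepQ 27833 Q27833 (allL N27833 (tt N52542 D97165) (tt N52543 D97166) (tt N52536 (iv2 F149904)) (tt N13893 F71647) (tt N52544 D97167) (tt N13891 (iv5 D45411)) (tt N46053 (iv6 F120149)) (tt N49942 (iv7 F138037)))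
theorem Q27835 : ∀ i, i < 27835 → P i := stepQ 27834 Q27834 (allL N27834 (tt N27462 (iv1 F71653)) (tt N13892 (iv0 D45412)) (tt N27459 (iv2 F319389)) (tt N27478 (iv3 F320368)) (tt N36602 (iv4 F319352)) (tt N49957 (iv5 F340382)) (tt N52545 D97172) (tt N27460 (iv7 F319392)))
theorem Q27836 : ∀ i, i < 27836 → P i := stepQ 27835 Q27835 (allL N27835 (tt N13892 (iv1 D45413)) (tt N27462 F71648) (tt N27460 (iv2 F319391)) (tt N52546 D97174) (tt N36603 (iv4 F319355)) (tt N52547 D97176) (tt N41710 (iv6 F319356)) (tt N27459 (iv7 F319390)))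
theorem Q27837 : ∀ i, i < 27837 → P i := stepQ 27836 Q27836 (allL N27836 (tt N52548 D97178) (tt N36339 (iv0 F319357)) (tt N27461 F71649) (tt N46053 (iv3 F120148)) (tt N52549 D97180) (tt N13892 (iv5 D45414)) (tt N13893 F71650) (tt N52550 D97181))
theorem Q27838 : ∀ i, i < 27838 → P i := stepQ 27837 Q27837 (allL N27837 (tt N27460 (iv1 F71654)) (tt N27459 F71655) (tt N27462 F71651) (tt N46054 (iv3 F120150)) (tt N52371 (iv4 F149014)) (tt N52550 (iv5 F149920)) (tt N27481 F71652) (tt N13892 (iv7 D45415)))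
theorem Q27839 : ∀ i, i < 27839 → P i := stepQ 27838 Q27838 (allL N27838 (tt N13893 (iv1 D45416)) (tt N26321 F71656) (tt N14655 F71659) (tt N52551 D97182) (tt N29411 (iv4 F76068)) (tt N14643 (iv5 F71658)) (tt N29411 F340373) (tt N27463 F71657))
theorem Q27840 : ∀ i, i < 27840 → P i := stepQ 27839 Q27839 (allL N27839 (tt N51837 (iv1 F147305)) (tt N51840 (iv0 F147308)) (tt N27464 F71660) (tt N52552 D97184) (tt N13893 (iv4 D45417)) (tt N29396 (iv5 F76056)) (tt N52549 (iv6 F149918)) (tt N49943 (iv7 F138040)))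
theorem Q27841 : ∀ i, i < 27841 → P i := stepQ 27840 Q27840 (allL N27840 (tt N27448 (iv1 F71665)) (tt N27444 F71664) (tt N13894 (iv2 D45418)) (tt N27490 F71661) (tt N52553 D97185) (tt N14568 F71662) (tt N52554 D97186) (tt N27485 F71663))
theorem Q27842 : ∀ i, i < 27842 → P i := stepQ 27841 Q27841 (allL N27841 (tt N48756 (iv1 F134282)) (tt N52555 D97187) (tt N52553 (iv2 F149930)) (tt N46889 F298855) (tt N13894 (iv4 D45419)) (tt N34107 F298856) (tt N52556 D97189) (tt N27486 F71666))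
theorem Q27843 : ∀ i, i < 27843 → P i := stepQ 27842 Q27842 (allL N27842 (tt N52557 D97190) (tt N52558 D97191) (tt N52554 (iv2 F149934)) (tt N13895 F71667) (tt N52556 (iv4 F149943)) (tt N52559 D97192) (tt N13894 (iv6 D45420)) (tt N52560 D97193))
theorem Q27844 : ∀ i, i < 27844 → P i := stepQ 27843 Q27843 (allL N27843 (tt N27495 (iv1 F71673)) (tt N13895 (iv0 D45421)) (tt N27492 F290426) (tt N36331 F320920) (tt N33504 (iv4 F315628)) (tt N52561 D97197) (tt N52562 D97198) (tt N27493 F290427))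
theorem Q27845 : ∀ i, i < 27845 → P i := stepQ 27844 Q27844 (allL N27844 (tt N13895 (iv1 D45422)) (tt N27495 F71668) (tt N27493 (iv2 F290424)) (tt N27488 F316808) (tt N36325 (iv4 F316024)) (tt N42132 (iv5 F319395)) (tt N52563 D97203) (tt N27492 (iv7 F290425)))
theorem Q27846 : ∀ i, i < 27846 → P i := stepQ 27845 Q27845 (allL N27845 (tt N52564 D97204) (tt N52565 D97205) (tt N27494 F71669) (tt N52559 (iv3 F149944)) (tt N52566 D97206) (tt N13895 (iv5 D45423)) (tt N14570 F71670) (tt N52567 D97207))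
theorem Q27847 : ∀ i, i < 27847 → P i := stepQ 27846 Q27846 (allL N27846 (tt N27493 (iv1 F71674)) (tt N27492 F71675) (tt N27495 F71671) (tt N52560 (iv3 F149946)) (tt N21340 F315275) (tt N52567 (iv5 F149956)) (tt N21339 F315276) (tt N13895 (iv7 D45424)))
theorem Q27848 : ∀ i, i < 27848 → P i := stepQ 27847 Q27847 (allL N27847 (tt N27467 (iv1 F71681)) (tt N23904 F71680) (tt N13896 (iv2 D45425)) (tt N27485 F71676) (tt N23157 F71677) (tt N14573 F71678) (tt N52568 D97208) (tt N27490 F71679))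
theorem Q27849 : ∀ i, i < 27849 → P i := stepQ 27848 Q27848 (allL N27848 (tt N52569 D97209) (tt N52570 D97210) (tt N52568 (iv2 F149960)) (tt N13897 F71682) (tt N29836 (iv4 F77435)) (tt N52571 D97211) (tt N13896 (iv6 D45426)) (tt N36327 (iv7 F318867)))
theorem Q27850 : ∀ i, i < 27850 → P i := stepQ 27849 Q27849 (allL N27849 (tt N52572 D97223) (tt N41331 (iv0 F318871)) (tt N27489 F71684) (tt N52571 (iv3 F149963)) (tt N42031 (iv4 F318872)) (tt N13897 (iv5 D45429)) (tt N14575 F71685) (tt N36328 (iv7 F318874)))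
theorem Q27851 : ∀ i, i < 27851 → P i := stepQ 27850 Q27850 (allL N27850 (tt N27498 (iv1 F71691)) (tt N13898 (iv0 D45431)) (tt N27497 F74240) (tt N52573 D97227) (tt N52574 D97228) (tt N24913 F74238) (tt N29736 (iv6 F313940)) (tt N27496 (iv7 F74243)))
theorem Q27852 : ∀ i, i < 27852 → P i := stepQ 27851 Q27851 (allL N27851 (tt N13898 (iv1 D45432)) (tt N27498 F71692) (tt N27496 (iv2 F74245)) (tt N42111 F307265) (tt N52575 D97231) (tt N24914 F72119) (tt N29728 (iv6 F309269)) (tt N27497 F74244))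
theorem Q27853 : ∀ i, i < 27853 → P i := stepQ 27852 Q27852 (allL N27852 (tt N52576 D97233) (tt N44881 F332446) (tt N41617 F311487) (tt N13899 F71693) (tt N27499 F71694) (tt N52577 D97235) (tt N13898 (iv6 D45433)) (tt N52578 D97236))
theorem Q27854 : ∀ i, i < 27854 → P i := stepQ 27853 Q27853 (allL N27853 (tt N24308 (iv1 F71701)) (tt N13899 (iv0 D45434)) (tt N24305 (iv2 F336826)) (tt N52579 D97238) (tt N52216 (iv4 F350619)) (tt N52580 D97240) (tt N36351 (iv6 F330073)) (tt N24306 (iv7 F336831)))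
theorem Q27855 : ∀ i, i < 27855 → P i := stepQ 27854 Q27854 (allL N27854 (tt N13899 (iv1 D45435)) (tt N24308 F71695) (tt N24306 F336832) (tt N52581 D97243) (tt N52217 (iv4 F335826)) (tt N52582 D97245) (tt N52583 D97246) (tt N24305 F336833))
theorem Q27856 : ∀ i, i < 27856 → P i := stepQ 27855 Q27855 (allL N27855 (tt N36314 F311001) (tt N52584 D97248) (tt N24307 F71696) (tt N52577 (iv3 F149993)) (tt N52585 D97249) (tt N13899 (iv5 D45436)) (tt N24256 F71697) (tt N52586 D97250))
theorem Q27857 : ∀ i, i < 27857 → P i := stepQ 27856 Q27856 (allL N27856 (tt N24306 (iv1 F71702)) (tt N24305 F71703) (tt N24308 F71698) (tt N52578 (iv3 F149995)) (tt N13903 F71699) (tt N52586 (iv5 F150005)) (tt N27502 F71700) (tt N13899 (iv7 D45437)))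
theorem Q27858 : ∀ i, i < 27858 → P i := stepQ 27857 Q27857 (allL N27857 (tt N52587 D97257) (tt N52491 (iv0 F350630)) (tt N52588 D97259) (tt N13900 (iv3 D45439)) (tt N48120 F347915) (tt N52589 D97261) (tt N52590 D97262) (tt N52342 (iv7 F288190)))
theorem Q27859 : ∀ i, i < 27859 → P i := stepQ 27858 Q27858 (allL N27858 (tt N52591 D97264) (tt N48761 F334457) (tt N52339 (iv2 F288182)) (tt N52592 D97266) (tt N13900 (iv4 D45440)) (tt N40872 (iv5 F334481)) (tt N52593 D97268) (tt N52343 (iv7 F288192)))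
theorem Q27860 : ∀ i, i < 27860 → P i := stepQ 27859 Q27859 (allL N27859 (tt N52594 D97270) (tt N52595 D97271) (tt N52340 (iv2 F288184)) (tt N52589 (iv3 F150017)) (tt N52596 D97272) (tt N13900 (iv5 D45441)) (tt N52597 D97273) (tt N52344 (iv7 F288194)))
theorem Q27861 : ∀ i, i < 27861 → P i := stepQ 27860 Q27860 (allL N27860 (tt N36341 (iv1 F334488)) (tt N52598 D97276) (tt N52341 (iv2 F288186)) (tt N52590 (iv3 F150018)) (tt N52593 (iv4 F150022)) (tt N52599 D97277) (tt N13900 (iv6 D45442)) (tt N52600 D97278))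
theorem Q27862 : ∀ i, i < 27862 → P i := stepQ 27861 Q27861 (allL N27861 (tt N46071 (iv1 F258977)) (tt N52601 D97281) (tt N52602 D97282) (tt N13901 (iv3 D45444)) (tt N46058 (iv4 F258976)) (tt N52603 D97284) (tt N52604 D97285) (tt N52338 (iv7 F288180)))
theorem Q27863 : ∀ i, i < 27863 → P i := stepQ 27862 Q27862 (allL N27862 (tt N48761 F334458) (tt N52591 F150025) (tt N52343 (iv2 F288191)) (tt N52605 D97286) (tt N13901 (iv4 D45445)) (tt N52606 D97287) (tt N52607 D97288) (tt N52339 (iv7 F288183)))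
theorem Q27864 : ∀ i, i < 27864 → P i := stepQ 27863 Q27863 (allL N27863 (tt N52595 (iv1 F150027)) (tt N52594 F150030) (tt N52344 (iv2 F288193)) (tt N52603 (iv3 F150035)) (tt N52608 D97289) (tt N13901 (iv5 D45446)) (tt N52609 D97290) (tt N52340 (iv7 F288185)))
theorem Q27865 : ∀ i, i < 27865 → P i := stepQ 27864 Q27864 (allL N27864 (tt N52610 D97291) (tt N52562 (iv0 F341058)) (tt N52345 (iv2 F288195)) (tt N52604 (iv3 F150036)) (tt N52607 (iv4 F150037)) (tt N52611 D97293) (tt N13901 (iv6 D45447)) (tt N52612 D97294))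
theorem Q27866 : ∀ i, i < 27866 → P i := stepQ 27865 Q27865 (allL N27865 (tt N52348 (iv1 F148727)) (tt N13902 (iv0 D45448)) (tt N52346 (iv2 F340406)) (tt N52613 D97296) (tt N52614 D97297) (tt N42003 (iv5 F340399)) (tt N52615 D97299) (tt N52347 (iv7 F340404)))
theorem Q27867 : ∀ i, i < 27867 → P i := stepQ 27866 Q27866 (allL N27866 (tt N13902 (iv1 D45449)) (tt N52348 F148726) (tt N52347 (iv2 F340403)) (tt N52616 D97301) (tt N52617 D97302) (tt N52618 D97303) (tt N52619 D97304) (tt N52346 (iv7 F340408)))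
theorem Q27868 : ∀ i, i < 27868 → P i := stepQ 27867 Q27867 (allL N27867 (tt N52620 D97305) (tt N52621 D97306) (tt N45837 (iv2 F294345)) (tt N52622 D97307) (tt N13902 (iv4 D45450)) (tt N52623 D97308) (tt N13912 F71706) (tt N52624 D97309))
theorem Q27869 : ∀ i, i < 27869 → P i := stepQ 27868 Q27868 (allL N27868 (tt N52347 (iv1 F148719)) (tt N52346 F148725) (tt N52348 (iv2 F148723)) (tt N27514 F71707) (tt N52624 (iv4 F150046)) (tt N13903 F71708) (tt N50682 F294093) (tt N13902 (iv7 D45451)))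
theorem Q27870 : ∀ i, i < 27870 → P i := stepQ 27869 Q27869 (allL N27869 (tt N50675 F294891) (tt N13904 (iv0 D45452)) (tt N50674 (iv2 F294107)) (tt N27523 F144801) (tt N52625 D97312) (tt N52626 D97313) (tt N27515 F157620) (tt N27445 F157283))
theorem Q27871 : ∀ i, i < 27871 → P i := stepQ 27870 Q27870 (allL N27870 (tt N50674 F294579) (tt N27445 F157284) (tt N13904 (iv2 D45454)) (tt N50677 F294580) (tt N28180 (iv4 F72953)) (tt N52627 D97320) (tt N52628 D97321) (tt N50675 F294581))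
theorem Q27872 : ∀ i, i < 27872 → P i := stepQ 27871 Q27871 (allL N27871 (tt N52629 D97322) (tt N52630 D97323) (tt N52627 (iv2 F150065)) (tt N13905 F71709) (tt N52631 D97324) (tt N13904 (iv5 D45455)) (tt N52632 D97325) (tt N49995 F293059))
theorem Q27873 : ∀ i, i < 27873 → P i := stepQ 27872 Q27872 (allL N27872 (tt N52633 D97326) (tt N52634 D97327) (tt N52628 (iv2 F150066)) (tt N13906 F71710) (tt N28182 (iv4 F72957)) (tt N52635 D97328) (tt N13904 (iv6 D45456)) (tt N49962 (iv7 F138089)))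
theorem Q27874 : ∀ i, i < 27874 → P i := stepQ 27873 Q27873 (allL N27873 (tt N48681 (iv1 F293834)) (tt N52243 (iv0 F293819)) (tt N45823 F293060) (tt N52636 D97336) (tt N13905 (iv4 D45459)) (tt N25478 (iv5 F294053)) (tt N52637 D97338) (tt N45497 F293061))
theorem Q27875 : ∀ i, i < 27875 → P i := stepQ 27874 Q27874 (allL N27874 (tt N52638 D97339) (tt N52639 D97340) (tt N49998 F293065) (tt N52632 (iv3 F150067)) (tt N52637 (iv4 F150086)) (tt N52640 D97341) (tt N13905 (iv6 D45460)) (tt N52641 D97342))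
theorem Q27876 : ∀ i, i < 27876 → P i := stepQ 27875 Q27875 (allL N27875 (tt N14504 F71715) (tt N14536 (iv0 F71717)) (tt N14534 F71714) (tt N52635 (iv3 F150068)) (tt N52642 D97343) (tt N13906 (iv5 D45463)) (tt N52640 (iv6 F150088)) (tt N14533 (iv7 F75045)))
theorem Q27877 : ∀ i, i < 27877 → P i := stepQ 27876 Q27876 (allL N27876 (tt N13907 (iv1 D45465)) (tt N50677 (iv0 F293675)) (tt N50676 (iv2 F293685)) (tt N27515 (iv3 F144587)) (tt N27137 (iv4 F144585)) (tt N52643 D97349) (tt N27523 (iv6 F157602)) (tt N27468 (iv7 F157587)))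
theorem Q27878 : ∀ i, i < 27878 → P i := stepQ 27877 Q27877 (allL N27877 (tt N27468 F157607) (tt N50676 (iv0 F293684)) (tt N13907 (iv2 D45466)) (tt N50675 (iv3 F294111)) (tt N49844 F293175) (tt N52644 D97351) (tt N52645 D97352) (tt N50677 (iv7 F293678)))
theorem Q27879 : ∀ i, i < 27879 → P i := stepQ 27878 Q27878 (allL N27878 (tt N51351 (iv1 F331395)) (tt N52646 D97354) (tt N52644 (iv2 F150103)) (tt N13908 F71719) (tt N49324 (iv4 F294059)) (tt N13907 (iv5 D45467)) (tt N52647 D97356) (tt N49997 F293066))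
theorem Q27880 : ∀ i, i < 27880 → P i := stepQ 27879 Q27879 (allL N27879 (tt N52648 D97357) (tt N52649 D97358) (tt N52645 (iv2 F150104)) (tt N13909 F71720) (tt N49846 F291300) (tt N29450 (iv5 F76222)) (tt N13907 (iv6 D45468)) (tt N49969 (iv7 F138107)))
theorem Q27881 : ∀ i, i < 27881 → P i := stepQ 27880 Q27880 (allL N27880 (tt N52243 (iv1 F293820)) (tt N48681 (iv0 F293833)) (tt N45497 F293067) (tt N52650 D97359) (tt N13908 (iv4 D45469)) (tt N25477 (iv5 F294064)) (tt N52651 D97361) (tt N45823 F293068))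
theorem Q27882 : ∀ i, i < 27882 → P i := stepQ 27881 Q27881 (allL N27881 (tt N52652 D97362) (tt N52653 D97363) (tt N49996 F293069) (tt N52647 (iv3 F150105)) (tt N52651 (iv4 F150107)) (tt N29452 (iv5 F76227)) (tt N13908 (iv6 D45470)) (tt N52654 D97364))
theorem Q27883 : ∀ i, i < 27883 → P i := stepQ 27882 Q27882 (allL N27882 (tt N52626 (iv1 F335370)) (tt N52492 (iv0 F284560)) (tt N52655 D97367) (tt N13910 (iv3 D45471)) (tt N52656 D97368) (tt N26372 F291955) (tt N52657 D97370) (tt N49206 (iv7 F293050)))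
theorem Q27884 : ∀ i, i < 27884 → P i := stepQ 27883 Q27883 (allL N27883 (tt N52658 D97371) (tt N48764 (iv0 F134291)) (tt N45492 (iv2 F293056)) (tt N46296 (iv3 F326386)) (tt N13910 (iv4 D45472)) (tt N24028 (iv5 F293098)) (tt N46294 F326271) (tt N45816 (iv7 F293054)))
theorem Q27885 : ∀ i, i < 27885 → P i := stepQ 27884 Q27884 (allL N27884 (tt N52659 D97375) (tt N52660 D97376) (tt N49212 (iv2 F293058)) (tt N52657 (iv3 F150111)) (tt N46294 F326270) (tt N49949 (iv5 F138059)) (tt N13910 (iv6 D45474)) (tt N52661 D97377))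
theorem Q27886 : ∀ i, i < 27886 → P i := stepQ 27885 Q27885 (allL N27885 (tt N52534 (iv1 F157802)) (tt N52643 (iv0 F157803)) (tt N52662 D97380) (tt N13911 (iv3 D45475)) (tt N32170 F294191) (tt N25973 F291603) (tt N31484 (iv6 F294946)) (tt N49211 (iv7 F292442)))
theorem Q27887 : ∀ i, i < 27887 → P i := stepQ 27886 Q27886 (allL N27886 (tt N48764 (iv1 F134292)) (tt N52658 F150113) (tt N45816 (iv2 F293053)) (tt N52663 D97383) (tt N13911 (iv4 D45476)) (tt N24025 (iv5 F293084)) (tt N52664 D97385) (tt N45492 (iv7 F293057)))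
theorem Q27888 : ∀ i, i < 27888 → P i := stepQ 27887 Q27887 (allL N27887 (tt N52665 D97386) (tt N52666 D97387) (tt N49207 (iv2 F293055)) (tt N31484 F295325) (tt N52664 (iv4 F150119)) (tt N31483 (iv5 F295476)) (tt N13911 (iv6 D45477)) (tt N52667 D97388))
theorem Q27889 : ∀ i, i < 27889 → P i := stepQ 27888 Q27888 (allL N27888 (tt N26745 F294087) (tt N13912 (iv0 D45478)) (tt N45835 F294088) (tt N52668 D97389) (tt N26371 F294089) (tt N24031 (iv5 F294902)) (tt N52669 D97391) (tt N45836 F294090))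
theorem Q27890 : ∀ i, i < 27890 → P i := stepQ 27889 Q27889 (allL N27889 (tt N13912 (iv1 D45479)) (tt N26745 F294081) (tt N45836 F294082) (tt N52670 D97392) (tt N26365 F294083) (tt N24030 (iv5 F294898)) (tt N52671 D97394) (tt N45835 F294084))
theorem Q27891 : ∀ i, i < 27891 → P i := stepQ 27890 Q27890 (allL N27890 (tt N52672 D97395) (tt N52673 D97396) (tt N52674 D97397) (tt N13912 (iv3 D45480)) (tt N27538 F71724) (tt N45818 (iv5 F294907)) (tt N52622 (iv6 F150045)) (tt N50678 (iv7 F294890)))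
theorem Q27892 : ∀ i, i < 27892 → P i := stepQ 27891 Q27891 (allL N27891 (tt N52675 D97408) (tt N52676 D97409) (tt N52677 D97410) (tt N13914 (iv3 D45490)) (tt N25577 (iv4 F294733)) (tt N52678 D97411) (tt N27542 F71743) (tt N25654 F71744))
theorem Q27893 : ∀ i, i < 27893 → P i := stepQ 27892 Q27892 (allL N27892 (tt N26365 F293896) (tt N26371 F293897) (tt N48523 F293898) (tt N52678 (iv3 F150150)) (tt N52679 D97412) (tt N13914 (iv5 D45491)) (tt N52680 D97413) (tt N25657 F71745))
theorem Q27894 : ∀ i, i < 27894 → P i := stepQ 27893 Q27893 (allL N27893 (tt N49984 (iv1 F294944)) (tt N13915 (iv0 D45492)) (tt N49983 (iv2 F294582)) (tt N27544 (iv3 F144639)) (tt N50727 (iv4 F205504)) (tt N52681 D97415) (tt N27544 (iv6 F205506)) (tt N27390 (iv7 F205505)))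
theorem Q27895 : ∀ i, i < 27895 → P i := stepQ 27894 Q27894 (allL N27894 (tt N49983 F295127) (tt N27390 (iv0 F178355)) (tt N13915 (iv2 D45494)) (tt N48527 (iv3 F295220)) (tt N50717 F295128) (tt N52682 D97421) (tt N52683 D97422) (tt N49984 F295129))
theorem Q27896 : ∀ i, i < 27896 → P i := stepQ 27895 Q27895 (allL N27895 (tt N52684 D97423) (tt N52685 D97424) (tt N52682 (iv2 F150167)) (tt N13916 F71746) (tt N52686 D97425) (tt N13915 (iv5 D45495)) (tt N36692 F331293) (tt N49985 (iv7 F294691)))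
theorem Q27897 : ∀ i, i < 27897 → P i := stepQ 27896 Q27896 (allL N27896 (tt N52687 D97427) (tt N52688 D97428) (tt N52683 (iv2 F150168)) (tt N13917 F71747) (tt N50374 F139608) (tt N39390 F331252) (tt N13915 (iv6 D45496)) (tt N49972 (iv7 F138127)))
theorem Q27898 : ∀ i, i < 27898 → P i := stepQ 27897 Q27897 (allL N27897 (tt N13920 (iv1 F71749)) (tt N13916 (iv0 D45497)) (tt N48529 F293572) (tt N52689 D97430) (tt N52352 F293573) (tt N25505 F293574) (tt N52690 D97432) (tt N27628 F293575))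
theorem Q27899 : ∀ i, i < 27899 → P i := stepQ 27898 Q27898 (allL N27898 (tt N13916 (iv1 D45498)) (tt N13920 F71750) (tt N27628 (iv2 F292813)) (tt N52691 D97433) (tt N52692 D97434) (tt N25506 F291788) (tt N52693 D97435) (tt N48529 (iv7 F292824)))
theorem Q27900 : ∀ i, i < 27900 → P i := stepQ 27899 Q27899 (allL N27899 (tt N23759 F293070) (tt N25922 F293071) (tt N45826 (iv2 F294037)) (tt N52694 D97436) (tt N13916 (iv4 D45499)) (tt N25911 (iv5 F294069)) (tt N52695 D97437) (tt N45828 (iv7 F294036)))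
theorem Q27901 : ∀ i, i < 27901 → P i := stepQ 27900 Q27900 (allL N27900 (tt N52696 D97438) (tt N52697 D97439) (tt N48530 (iv2 F294690)) (tt N36692 (iv3 F331277)) (tt N52695 (iv4 F150186)) (tt N39389 F331259) (tt N13916 (iv6 D45500)) (tt N52698 D97441))
theorem Q27902 : ∀ i, i < 27902 → P i := stepQ 27901 Q27901 (allL N27901 (tt N13917 (iv1 D45501)) (tt N25781 (iv0 F293239)) (tt N25778 (iv2 F293161)) (tt N52699 D97442) (tt N27260 F71754) (tt N29187 F75146) (tt N27567 (iv6 F71752)) (tt N25777 (iv7 F293147)))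
theorem Q27903 : ∀ i, i < 27903 → P i := stepQ 27902 Q27902 (allL N27902 (tt N27593 F71753) (tt N51627 F146942) (tt N25780 F293903) (tt N39390 (iv3 F331249)) (tt N39404 (iv4 F331250)) (tt N13917 (iv5 D45502)) (tt N39389 (iv6 F331251)) (tt N49973 (iv7 F138128)))
theorem Q27904 : ∀ i, i < 27904 → P i := stepQ 27903 Q27903 (allL N27903 (tt N13919 (iv1 D45518)) (tt N48527 (iv0 F295218)) (tt N48526 (iv2 F295215)) (tt N27384 (iv3 F71791)) (tt N27033 F293844) (tt N52700 D97469) (tt N27031 (iv6 F294725)) (tt N27388 F71794))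
theorem Q27905 : ∀ i, i < 27905 → P i := stepQ 27904 Q27904 (allL N27904 (tt N27388 F136693) (tt N48526 (iv0 F295214)) (tt N13919 (iv2 D45519)) (tt N49984 F295000) (tt N48793 (iv4 F134462)) (tt N52701 D97470) (tt N52702 D97471) (tt N48527 (iv7 F295222)))
theorem Q27906 : ∀ i, i < 27906 → P i := stepQ 27905 Q27905 (allL N27905 (tt N52703 D97472) (tt N52704 D97473) (tt N52701 (iv2 F150249)) (tt N13920 F71796) (tt N52705 D97474) (tt N13919 (iv5 D45520)) (tt N52706 D97475) (tt N48528 (iv7 F294689)))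
theorem Q27907 : ∀ i, i < 27907 → P i := stepQ 27906 Q27906 (allL N27906 (tt N52707 D97476) (tt N49672 (iv0 F137038)) (tt N52702 (iv2 F150250)) (tt N13921 F71797) (tt N48795 (iv4 F134465)) (tt N52708 D97477) (tt N13919 (iv6 D45521)) (tt N49967 (iv7 F138101)))
theorem Q27908 : ∀ i, i < 27908 → P i := stepQ 27907 Q27907 (allL N27907 (tt N25922 F293072) (tt N23759 F293073) (tt N45828 (iv2 F294035)) (tt N52709 D97478) (tt N13920 (iv4 D45522)) (tt N25910 (iv5 F294073)) (tt N52710 D97479) (tt N45826 (iv7 F294038)))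
theorem Q27909 : ∀ i, i < 27909 → P i := stepQ 27908 Q27908 (allL N27908 (tt N47632 F358103) (tt N52711 D97481) (tt N49986 (iv2 F294692)) (tt N52706 (iv3 F150256)) (tt N52710 (iv4 F150263)) (tt N44693 F358097) (tt N13920 (iv6 D45523)) (tt N52712 D97483))
theorem Q27910 : ∀ i, i < 27910 → P i := stepQ 27909 Q27909 (allL N27909 (tt N26331 (iv1 F71799)) (tt N13921 (iv0 D45524)) (tt N49965 F138095) (tt N47606 F326726) (tt N28373 F292170) (tt N27362 F71798) (tt N27552 (iv6 F71801)) (tt N27433 F71800))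
theorem Q27911 : ∀ i, i < 27911 → P i := stepQ 27910 Q27910 (allL N27910 (tt N27620 F71803) (tt N27618 F71802) (tt N49171 F135302) (tt N52708 (iv3 F150261)) (tt N29412 F340363) (tt N13921 (iv5 D45525)) (tt N44693 F358098) (tt N49170 F135295))
theorem Q27912 : ∀ i, i < 27912 → P i := stepQ 27911 Q27911 (allL N27911 (tt N14256 F72105) (tt N25805 (iv0 F72100)) (tt N29119 (iv2 F75085)) (tt N13922 (iv3 D45717)) (tt N14567 F72099) (tt N46726 (iv5 F126378)) (tt N52713 D97942) (tt N14103 F72098))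
theorem Q27913 : ∀ i, i < 27913 → P i := stepQ 27912 Q27912 (allL N27912 (tt N28395 (iv1 F73792)) (tt N24998 (iv0 F72104)) (tt N14108 F72101) (tt N27341 F72103) (tt N13922 (iv4 D45718)) (tt N34783 (iv5 F89617)) (tt N52714 D97943) (tt N14104 F72102))
theorem Q27914 : ∀ i, i < 27914 → P i := stepQ 27913 Q27913 (allL N27913 (tt N25797 F75472) (tt N14273 F75473) (tt N14109 F72111) (tt N46726 (iv3 F126379)) (tt N27680 F75474) (tt N13922 (iv5 D45719)) (tt N52715 D97944) (tt N14105 F72112))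
theorem Q27915 : ∀ i, i < 27915 → P i := stepQ 27914 Q27914 (allL N27914 (tt N25734 (iv1 F177419)) (tt N14242 (iv0 F177420)) (tt N14110 F72113) (tt N52713 (iv3 F150957)) (tt N52714 (iv4 F150961)) (tt N52716 D97947) (tt N13922 (iv6 D45720)) (tt N50140 (iv7 F293974)))
theorem Q27916 : ∀ i, i < 27916 → P i := stepQ 27915 Q27915 (allL N27915 (tt N24998 F72117) (tt N28395 (iv0 F73794)) (tt N14104 F72114) (tt N26502 F72115) (tt N13923 (iv4 D45721)) (tt N34784 (iv5 F89623)) (tt N52717 D97949) (tt N14108 F72116))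
theorem Q27917 : ∀ i, i < 27917 → P i := stepQ 27916 Q27916 (allL N27916 (tt N14273 F75461) (tt N25797 F75462) (tt N14105 F72120) (tt N50929 (iv3 F143076)) (tt N27679 F75463) (tt N13923 (iv5 D45722)) (tt N52718 D97950) (tt N14109 F72121))
theorem Q27918 : ∀ i, i < 27918 → P i := stepQ 27917 Q27917 (allL N27917 (tt N14192 (iv1 F157749)) (tt N25772 (iv0 F157750)) (tt N14106 F72122) (tt N50930 (iv3 F143082)) (tt N52717 (iv4 F150973)) (tt N52719 D97953) (tt N13923 (iv6 D45723)) (tt N51193 (iv7 F157752)))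
theorem Q27919 : ∀ i, i < 27919 → P i := stepQ 27918 Q27918 (allL N27918 (tt N25691 (iv1 F72130)) (tt N13924 (iv0 D45724)) (tt N25688 (iv2 F160539)) (tt N52720 D97956) (tt N52721 D97957) (tt N52722 D97958) (tt N52723 D97959) (tt N25689 F160538))
theorem Q27920 : ∀ i, i < 27920 → P i := stepQ 27919 Q27919 (allL N27919 (tt N13924 (iv1 D45725)) (tt N25691 F72123) (tt N25689 F160537) (tt N50937 F143102) (tt N52724 D97961) (tt N52725 D97962) (tt N50052 (iv6 F294294)) (tt N25688 (iv7 F160540)))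
theorem Q27921 : ∀ i, i < 27921 → P i := stepQ 27920 Q27920 (allL N27920 (tt N52726 D97964) (tt N52727 D97965) (tt N25690 F72124) (tt N13926 F72125) (tt N52728 D97966) (tt N13924 (iv5 D45726)) (tt N47452 (iv6 F128831)) (tt N52729 D97967))
theorem Q27922 : ∀ i, i < 27922 → P i := stepQ 27921 Q27921 (allL N27921 (tt N25689 (iv1 F72131)) (tt N25688 F72132) (tt N25691 F72126) (tt N13927 F72127) (tt N27921 F72128) (tt N52729 (iv5 F150990)) (tt N14120 F72129) (tt N13924 (iv7 D45727)))
theorem Q27923 : ∀ i, i < 27923 → P i := stepQ 27922 Q27922 (allL N27922 (tt N52730 D97968) (tt N14286 F290143) (tt N52731 D97970) (tt N13925 (iv3 D45728)) (tt N14626 F72133) (tt N52732 D97971) (tt N50558 (iv6 F292284)) (tt N14413 F72134))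
theorem Q27924 : ∀ i, i < 27924 → P i := stepQ 27923 Q27923 (allL N27923 (tt N27582 F72137) (tt N50047 (iv0 F291156)) (tt N14411 F72135) (tt N52732 (iv3 F151004)) (tt N51496 (iv4 F292338)) (tt N13925 (iv5 D45729)) (tt N52733 D97975) (tt N14414 F72136))
theorem Q27925 : ∀ i, i < 27925 → P i := stepQ 27924 Q27924 (allL N27924 (tt N14409 (iv1 F72157)) (tt N13926 (iv0 D45734)) (tt N14415 F72160) (tt N52734 D97983) (tt N52735 D97984) (tt N27014 F291497) (tt N52736 D97985) (tt N14416 F72159))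
theorem Q27926 : ∀ i, i < 27926 → P i := stepQ 27925 Q27925 (allL N27925 (tt N52737 D97986) (tt N49792 (iv0 F137255)) (tt N14417 F72154) (tt N52738 D97987) (tt N13926 (iv4 D45735)) (tt N50038 (iv5 F290878)) (tt N47460 (iv6 F128839)) (tt N52739 D97989))
theorem Q27927 : ∀ i, i < 27927 → P i := stepQ 27926 Q27926 (allL N27926 (tt N14416 (iv1 F72158)) (tt N14415 F72163) (tt N14409 F72155) (tt N52729 (iv3 F150989)) (tt N52739 (iv4 F151045)) (tt N13927 F72156) (tt N52740 D97990) (tt N13926 (iv7 D45736)))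
theorem Q27928 : ∀ i, i < 27928 → P i := stepQ 27927 Q27927 (allL N27927 (tt N52741 D97991) (tt N14217 (iv0 F72173)) (tt N47841 F289801) (tt N13928 (iv3 D45738)) (tt N26486 F72171) (tt N52742 D97993) (tt N50514 F290693) (tt N14475 F72172))
theorem Q27929 : ∀ i, i < 27929 → P i := stepQ 27928 Q27928 (allL N27928 (tt N28106 F72660) (tt N50048 F291324) (tt N14473 F72174) (tt N52742 (iv3 F151066)) (tt N50039 F291325) (tt N13928 (iv5 D45739)) (tt N52743 D97997) (tt N14476 F72175))
theorem Q27930 : ∀ i, i < 27930 → P i := stepQ 27929 Q27929 (allL N27929 (tt N52744 D98018) (tt N50101 (iv0 F364341)) (tt N49229 (iv2 F291661)) (tt N13929 (iv3 D45751)) (tt N27929 F72204) (tt N51492 (iv5 F291662)) (tt N13930 F72205) (tt N50205 F291052))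
theorem Q27931 : ∀ i, i < 27931 → P i := stepQ 27930 Q27930 (allL N27930 (tt N49256 F294555) (tt N13930 (iv0 D45754)) (tt N49294 F295420) (tt N52745 D98029) (tt N52746 D98030) (tt N51251 (iv5 F295516)) (tt N26842 (iv6 F295517)) (tt N49293 F295421))
theorem Q27932 : ∀ i, i < 27932 → P i := stepQ 27931 Q27931 (allL N27931 (tt N13930 (iv1 D45755)) (tt N49256 F294554) (tt N49293 (iv2 F295137)) (tt N52747 D98034) (tt N52748 D98035) (tt N51250 (iv5 F295139)) (tt N52744 (iv6 F335773)) (tt N49294 (iv7 F295138)))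
theorem Q27933 : ∀ i, i < 27933 → P i := stepQ 27932 Q27932 (allL N27932 (tt N49294 (iv1 F135815)) (tt N49293 F135810) (tt N13930 (iv2 D45756)) (tt N14496 F72219) (tt N27932 F72220) (tt N52749 D98038) (tt N49229 F292651) (tt N49256 (iv7 F293651)))
theorem Q27934 : ∀ i, i < 27934 → P i := stepQ 27933 Q27933 (allL N27933 (tt N51470 (iv1 F295140)) (tt N51474 (iv0 F335776)) (tt N52749 (iv2 F151163)) (tt N13931 F72221) (tt N52750 D98041) (tt N13930 (iv5 D45757)) (tt N52751 D98042) (tt N47667 (iv7 F129396)))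
theorem Q27935 : ∀ i, i < 27935 → P i := stepQ 27934 Q27934 (allL N27934 (tt N51510 (iv1 F355653)) (tt N52752 D98044) (tt N14499 F72222) (tt N52751 (iv3 F151165)) (tt N44856 (iv4 F113718)) (tt N51493 (iv5 F291664)) (tt N13931 (iv6 D45758)) (tt N52753 D98045))
theorem Q27936 : ∀ i, i < 27936 → P i := stepQ 27935 Q27935 (allL N27935 (tt N14426 F72228) (tt N26696 (iv0 F293525)) (tt N13949 F72225) (tt N14456 F72226) (tt N25906 F72229) (tt N13934 (iv5 D45768)) (tt N28375 (iv6 F73739)) (tt N13952 F72227))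
theorem Q27937 : ∀ i, i < 27937 → P i := stepQ 27936 Q27936 (allL N27936 (tt N22030 F300989) (tt N13937 (iv0 D45773)) (tt N17189 (iv2 F303441)) (tt N15227 (iv3 F302963)) (tt N14616 F72242) (tt N17152 F300990) (tt N15226 (iv6 F303701)) (tt N25385 (iv7 F72244)))
theorem Q27938 : ∀ i, i < 27938 → P i := stepQ 27937 Q27937 (allL N27937 (tt N13937 (iv1 D45774)) (tt N22030 F300987) (tt N25385 F72247) (tt N34709 (iv3 F88629)) (tt N21782 (iv4 F72246)) (tt N17190 F300988) (tt N52754 D98050) (tt N17189 (iv7 F303443)))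
theorem Q27939 : ∀ i, i < 27939 → P i := stepQ 27938 Q27938 (allL N27938 (tt N17189 (iv1 F303440)) (tt N25385 F72254) (tt N13937 (iv2 D45775)) (tt N17094 F300683) (tt N46728 (iv4 F126387)) (tt N17469 (iv5 F72256)) (tt N42283 F320005) (tt N22030 F300684))
theorem Q27940 : ∀ i, i < 27940 → P i := stepQ 27939 Q27939 (allL N27939 (tt N17258 F300682) (tt N23927 F72262) (tt N17469 F72257) (tt N13938 F72258) (tt N36547 (iv4 F94788)) (tt N13937 (iv5 D45776)) (tt N17225 (iv6 F303478)) (tt N23928 F72259))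
theorem Q27941 : ∀ i, i < 27941 → P i := stepQ 27940 Q27940 (allL N27940 (tt N42869 (iv1 F297904)) (tt N52755 D98054) (tt N42283 F319980) (tt N13939 F72263) (tt N46655 (iv4 F297180)) (tt N42281 F319981) (tt N13937 (iv6 D45777)) (tt N46488 (iv7 F123842)))
theorem Q27942 : ∀ i, i < 27942 → P i := stepQ 27941 Q27941 (allL N27941 (tt N40858 F321822) (tt N42274 F317888) (tt N25379 F72267) (tt N42281 F317889) (tt N52756 D98062) (tt N13939 (iv5 D45781)) (tt N22315 F308717) (tt N42275 F317890))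
theorem Q27943 : ∀ i, i < 27943 → P i := stepQ 27942 Q27942 (allL N27942 (tt N49829 (iv1 F137349)) (tt N26777 F291231) (tt N27096 (iv2 F291480)) (tt N25609 F291232) (tt N26327 (iv4 F291989)) (tt N13940 (iv5 D45791)) (tt N24429 (iv6 F291799)) (tt N27416 F72278))
theorem Q27944 : ∀ i, i < 27944 → P i := stepQ 27943 Q27943 (allL N27943 (tt N27447 F72300) (tt N27443 (iv0 F72301)) (tt N46799 (iv2 F127113)) (tt N13942 (iv3 D45797)) (tt N25651 F72299) (tt N24377 F72298) (tt N52757 D98066) (tt N48413 (iv7 F132437)))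
theorem Q27945 : ∀ i, i < 27945 → P i := stepQ 27944 Q27944 (allL N27944 (tt N46756 F335654) (tt N25543 F289546) (tt N27977 (iv2 F72421)) (tt N52757 (iv3 F151219)) (tt N48414 (iv4 F132445)) (tt N52758 D98069) (tt N13942 (iv6 D45798)) (tt N49760 (iv7 F335740)))
theorem Q27946 : ∀ i, i < 27946 → P i := stepQ 27945 Q27945 (allL N27945 (tt N49610 (iv1 F335728)) (tt N49624 (iv0 F335729)) (tt N48414 (iv2 F132444)) (tt N46798 (iv3 F127112)) (tt N27977 (iv4 F72423)) (tt N17785 (iv5 F298112)) (tt N13943 (iv6 D45799)) (tt N49623 (iv7 F289530)))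
theorem Q27947 : ∀ i, i < 27947 → P i := stepQ 27946 Q27946 (allL N27946 (tt N49555 F136908) (tt N51450 F145026) (tt N13945 F72302) (tt N49605 (iv3 F136906)) (tt N14004 F72303) (tt N52759 D98075) (tt N13944 (iv6 D45800)) (tt N51451 (iv7 F145030)))
theorem Q27948 : ∀ i, i < 27948 → P i := stepQ 27947 Q27947 (allL N27947 (tt N51451 (iv1 F145031)) (tt N13945 (iv0 D45801)) (tt N49555 (iv2 F270463)) (tt N52760 D98077) (tt N48669 F295361) (tt N52761 D98078) (tt N52762 D98079) (tt N51450 (iv7 F270468)))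
theorem Q27949 : ∀ i, i < 27949 → P i := stepQ 27948 Q27948 (allL N27948 (tt N13945 (iv1 D45802)) (tt N51451 F145032) (tt N51450 (iv2 F270467)) (tt N27028 F295333) (tt N48670 F295334) (tt N52763 D98081) (tt N52764 D98082) (tt N49555 (iv7 F270464)))
theorem Q27950 : ∀ i, i < 27950 → P i := stepQ 27949 Q27949 (allL N27949 (tt N52765 D98083) (tt N52766 D98084) (tt N52759 (iv2 F151223)) (tt N13948 F72304) (tt N52767 D98085) (tt N13945 (iv5 D45803)) (tt N24351 F72305) (tt N50577 (iv7 F295199)))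
theorem Q27951 : ∀ i, i < 27951 → P i := stepQ 27950 Q27950 (allL N27950 (tt N25826 (iv1 F72316)) (tt N13947 (iv0 D45805)) (tt N25823 (iv2 F156444)) (tt N14345 F155151) (tt N52389 (iv4 F299903)) (tt N52768 D98091) (tt N17778 (iv6 F306352)) (tt N25824 (iv7 F156437)))
theorem Q27952 : ∀ i, i < 27952 → P i := stepQ 27951 Q27951 (allL N27951 (tt N13947 (iv1 D45806)) (tt N25826 F72309) (tt N25824 F156445) (tt N43009 (iv3 F315049)) (tt N52390 (iv4 F299907)) (tt N52769 D98096) (tt N52770 D98097) (tt N25823 F156446))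
theorem Q27953 : ∀ i, i < 27953 → P i := stepQ 27952 Q27952 (allL N27952 (tt N52771 D98098) (tt N52772 D98099) (tt N25825 F72310) (tt N24351 F72311) (tt N52773 D98100) (tt N13947 (iv5 D45807)) (tt N13948 F72312) (tt N52774 D98101))
theorem Q27954 : ∀ i, i < 27954 → P i := stepQ 27953 Q27953 (allL N27953 (tt N25824 (iv1 F72317)) (tt N25823 F72318) (tt N25826 F72313) (tt N17960 F117215) (tt N22318 (iv4 F304047)) (tt N52774 (iv5 F151242)) (tt N22316 F302878) (tt N13947 (iv7 D45808)))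
theorem Q27955 : ∀ i, i < 27955 → P i := stepQ 27954 Q27954 (allL N27954 (tt N48733 (iv1 F134177)) (tt N48735 (iv0 F134179)) (tt N49609 (iv2 F136911)) (tt N52775 D98104) (tt N13948 (iv4 D45810)) (tt N51162 F295179) (tt N52773 (iv6 F151239)) (tt N50578 (iv7 F295202)))
theorem Q27956 : ∀ i, i < 27956 → P i := stepQ 27955 Q27955 (allL N27955 (tt N13952 (iv1 F72325)) (tt N13949 (iv0 D45811)) (tt N14426 (iv2 F72324)) (tt N29010 (iv3 F74804)) (tt N26698 F294377) (tt N26696 F294378) (tt N14418 (iv6 F72327)) (tt N26696 F294379))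
theorem Q27957 : ∀ i, i < 27957 → P i := stepQ 27956 Q27956 (allL N27956 (tt N49863 F291139) (tt N26046 (iv0 F74808)) (tt N26088 F72351) (tt N13953 F72352) (tt N27090 F72353) (tt N25605 F291140) (tt N13951 (iv6 D45815)) (tt N26809 F291141))
theorem Q27958 : ∀ i, i < 27958 → P i := stepQ 27957 Q27957 (allL N27957 (tt N23581 (iv1 F72366)) (tt N17229 F72365) (tt N13954 (iv2 D45818)) (tt N24591 F72362) (tt N24928 F72363) (tt N23568 (iv5 F86809)) (tt N52776 D98107) (tt N24593 F72364))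
theorem Q27959 : ∀ i, i < 27959 → P i := stepQ 27958 Q27958 (allL N27958 (tt N23569 (iv1 F72370)) (tt N17556 (iv0 F72369)) (tt N23568 F86808) (tt N13955 F72367) (tt N42756 F305988) (tt N13954 (iv5 D45819)) (tt N52777 D98109) (tt N23567 F72368))
theorem Q27960 : ∀ i, i < 27960 → P i := stepQ 27959 Q27959 (allL N27959 (tt N52778 D98110) (tt N52779 D98111) (tt N52776 (iv2 F151257)) (tt N13956 F72371) (tt N24929 F72372) (tt N52780 D98112) (tt N13954 (iv6 D45820)) (tt N46212 (iv7 F300732)))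
theorem Q27961 : ∀ i, i < 27961 → P i := stepQ 27960 Q27960 (allL N27960 (tt N28308 F272738) (tt N28312 (iv0 F272739)) (tt N24458 F72373) (tt N52777 (iv3 F151267)) (tt N14012 F72374) (tt N52781 D98116) (tt N13955 (iv6 D45821)) (tt N28812 (iv7 F156782)))
theorem Q27962 : ∀ i, i < 27962 → P i := stepQ 27961 Q27961 (allL N27961 (tt N46217 (iv1 F300733)) (tt N46216 (iv0 F300735)) (tt N24592 F72376) (tt N52780 (iv3 F151269)) (tt N52782 D98120) (tt N13956 (iv5 D45824)) (tt N52781 (iv6 F151277)) (tt N46213 (iv7 F300737)))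
theorem Q27963 : ∀ i, i < 27963 → P i := stepQ 27962 Q27962 (allL N27962 (tt N24883 (iv1 F126963)) (tt N24886 F121806) (tt N34733 F298254) (tt N52783 D98129) (tt N13957 (iv4 D45838)) (tt N52140 (iv5 F326734)) (tt N13958 F72385) (tt N46214 (iv7 F300481)))
theorem Q27964 : ∀ i, i < 27964 → P i := stepQ 27963 Q27963 (allL N27963 (tt N52784 D98132) (tt N52785 D98133) (tt N52786 D98134) (tt N13958 (iv3 D45840)) (tt N27293 F72388) (tt N52787 D98135) (tt N52783 (iv6 F151325)) (tt N49303 (iv7 F135892)))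
theorem Q27965 : ∀ i, i < 27965 → P i := stepQ 27964 Q27964 (allL N27964 (tt N24896 F72390) (tt N24897 F72391) (tt N44708 F112916) (tt N52787 (iv3 F151336)) (tt N26016 F72389) (tt N13958 (iv5 D45841)) (tt N52139 (iv6 F329424)) (tt N44707 F112912))
theorem Q27966 : ∀ i, i < 27966 → P i := stepQ 27965 Q27965 (allL N27965 (tt N24591 (iv1 F72392)) (tt N13959 (iv0 D45842)) (tt N24590 (iv2 F125373)) (tt N46355 (iv3 F122977)) (tt N52788 D98137) (tt N46353 F122978) (tt N52789 D98138) (tt N24589 F125374))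
theorem Q27967 : ∀ i, i < 27967 → P i := stepQ 27966 Q27966 (allL N27966 (tt N13959 (iv1 D45843)) (tt N24591 F72396) (tt N24589 F125372) (tt N28761 (iv3 F74489)) (tt N43626 (iv4 F300712)) (tt N46809 (iv5 F127149)) (tt N18588 (iv6 F300713)) (tt N24590 (iv7 F125371)))
theorem Q27968 : ∀ i, i < 27968 → P i := stepQ 27967 Q27967 (allL N27967 (tt N24590 (iv1 F72397)) (tt N24589 F72395) (tt N13959 (iv2 D45844)) (tt N24593 F72393) (tt N34607 (iv4 F88105)) (tt N52790 D98140) (tt N52791 D98141) (tt N24591 F72394))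
theorem Q27969 : ∀ i, i < 27969 → P i := stepQ 27968 Q27968 (allL N27968 (tt N52792 D98142) (tt N43419 (iv0 F300715)) (tt N52790 (iv2 F151345)) (tt N13960 F72398) (tt N52793 D98144) (tt N13959 (iv5 D45845)) (tt N52794 D98145) (tt N24457 F72399))
theorem Q27970 : ∀ i, i < 27970 → P i := stepQ 27969 Q27969 (allL N27969 (tt N52795 D98146) (tt N52796 D98147) (tt N52791 (iv2 F151350)) (tt N13961 F72400) (tt N25217 (iv4 F300710)) (tt N52797 D98148) (tt N13959 (iv6 D45846)) (tt N24845 (iv7 F72401)))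
theorem Q27971 : ∀ i, i < 27971 → P i := stepQ 27970 Q27970 (allL N27970 (tt N28850 F272644) (tt N28854 F272645) (tt N24459 F72402) (tt N52794 (iv3 F151370)) (tt N14010 F72403) (tt N52798 D98151) (tt N13960 (iv6 D45847)) (tt N52799 D98152))
theorem Q27972 : ∀ i, i < 27972 → P i := stepQ 27971 Q27971 (allL N27971 (tt N46437 (iv1 F298798)) (tt N46440 (iv0 F298803)) (tt N24595 F72404) (tt N52797 (iv3 F151373)) (tt N47524 F128958) (tt N13961 (iv5 D45848)) (tt N52798 (iv6 F151377)) (tt N24846 F72405))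
theorem Q27973 : ∀ i, i < 27973 → P i := stepQ 27972 Q27972 (allL N27972 (tt N23510 (iv1 F72411)) (tt N13962 (iv0 D45849)) (tt N23507 F114025) (tt N13975 F112809) (tt N34523 (iv4 F297169)) (tt N45619 (iv5 F297170)) (tt N23523 (iv6 F296750)) (tt N23508 (iv7 F114024)))
theorem Q27974 : ∀ i, i < 27974 → P i := stepQ 27973 Q27973 (allL N27973 (tt N45327 (iv1 F296596)) (tt N16022 F326917) (tt N23509 F72407) (tt N31211 (iv3 F327539)) (tt N34992 (iv4 F297176)) (tt N13962 (iv5 D45851)) (tt N22913 F72408) (tt N52800 D98157))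
theorem Q27975 : ∀ i, i < 27975 → P i := stepQ 27974 Q27974 (allL N27974 (tt N23508 (iv1 F72412)) (tt N23507 F72413) (tt N23510 F72409) (tt N46375 (iv3 F123186)) (tt N24397 F72410) (tt N52800 (iv5 F151402)) (tt N44644 (iv6 F112744)) (tt N13962 (iv7 D45852)))
theorem Q27976 : ∀ i, i < 27976 → P i := stepQ 27975 Q27975 (allL N27975 (tt N14099 (iv1 F72418)) (tt N14260 F72417) (tt N13963 (iv2 D45853)) (tt N46728 (iv3 F126386)) (tt N13981 F72414) (tt N24434 F72415) (tt N52801 D98158) (tt N14264 F72416))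
theorem Q27977 : ∀ i, i < 27977 → P i := stepQ 27976 Q27976 (allL N27976 (tt N52802 D98159) (tt N52803 D98160) (tt N52801 (iv2 F151415)) (tt N13965 F72419) (tt N13982 F72420) (tt N52804 D98161) (tt N13963 (iv6 D45854)) (tt N34500 (iv7 F300579)))
theorem Q27978 : ∀ i, i < 27978 → P i := stepQ 27977 Q27977 (allL N27977 (tt N26237 (iv1 F335735)) (tt N48579 (iv0 F335736)) (tt N27944 F72421) (tt N26116 F72422) (tt N27945 F72423) (tt N52805 D98165) (tt N13964 (iv6 D45855)) (tt N48578 F289543))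
theorem Q27979 : ∀ i, i < 27979 → P i := stepQ 27978 Q27978 (allL N27978 (tt N47773 (iv1 F301691)) (tt N48211 (iv0 F131812)) (tt N46656 F299004) (tt N52804 (iv3 F151417)) (tt N52806 D98167) (tt N13965 (iv5 D45858)) (tt N52805 (iv6 F151424)) (tt N34502 (iv7 F300580)))
theorem Q27980 : ∀ i, i < 27980 → P i := stepQ 27979 Q27979 (allL N27979 (tt N17614 F118996) (tt N17388 (iv0 F299876)) (tt N17626 F118998) (tt N52807 D98169) (tt N13966 (iv4 D45867)) (tt N48200 (iv5 F131732)) (tt N52808 D98170) (tt N17625 F118999))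
theorem Q27981 : ∀ i, i < 27981 → P i := stepQ 27980 Q27980 (allL N27980 (tt N46414 (iv1 F123448)) (tt N46413 F123445) (tt N23600 F119028) (tt N46409 F299008) (tt N35201 (iv4 F301709)) (tt N13966 (iv5 D45868)) (tt N23597 F119030) (tt N46409 (iv7 F123426)))
theorem Q27982 : ∀ i, i < 27982 → P i := stepQ 27981 Q27981 (allL N27981 (tt N46377 (iv1 F300545)) (tt N46364 (iv0 F152294)) (tt N46362 F299009) (tt N46410 F299010) (tt N52808 (iv4 F151436)) (tt N52809 D98173) (tt N13966 (iv6 D45869)) (tt N52810 D98174))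
theorem Q27983 : ∀ i, i < 27983 → P i := stepQ 27982 Q27982 (allL N27982 (tt N24446 (iv1 F72438)) (tt N13968 (iv0 D45874)) (tt N23571 (iv2 F72439)) (tt N17151 F72437) (tt N42255 (iv4 F305800)) (tt N23569 F72441) (tt N46424 F298333) (tt N17204 (iv7 F72440)))
theorem Q27984 : ∀ i, i < 27984 → P i := stepQ 27983 Q27983 (allL N27983 (tt N13968 (iv1 D45875)) (tt N24446 F72446) (tt N17204 F72444) (tt N17557 (iv3 F72443)) (tt N46579 (iv4 F125523)) (tt N17556 F72445) (tt N48272 F320692) (tt N23571 F72442))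
theorem Q27985 : ∀ i, i < 27985 → P i := stepQ 27984 Q27984 (allL N27984 (tt N23571 (iv1 F72452)) (tt N17204 F72451) (tt N13968 (iv2 D45876)) (tt N24441 F72447) (tt N24289 F72448) (tt N24107 F72449) (tt N37021 F314411) (tt N24446 F72450))
theorem Q27986 : ∀ i, i < 27986 → P i := stepQ 27985 Q27985 (allL N27985 (tt N37018 (iv1 F316281)) (tt N19215 (iv0 F316295)) (tt N37021 F313844) (tt N13969 F72453) (tt N24291 F72454) (tt N19257 (iv5 F316296)) (tt N13968 (iv6 D45877)) (tt N37020 (iv7 F316229)))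
theorem Q27987 : ∀ i, i < 27987 → P i := stepQ 27986 Q27986 (allL N27986 (tt N19633 F317555) (tt N24874 (iv0 F72457)) (tt N24445 F72455) (tt N19257 F317556) (tt N38024 F317557) (tt N13969 (iv5 D45878)) (tt N47095 (iv6 F128280)) (tt N37113 F317558))
theorem Q27988 : ∀ i, i < 27988 → P i := stepQ 27987 Q27987 (allL N27987 (tt N22961 (iv1 F72461)) (tt N22957 (iv0 F72462)) (tt N23021 F72458) (tt N37020 (iv3 F316226)) (tt N13972 F72459) (tt N37113 (iv5 F317484)) (tt N24450 F72460) (tt N13969 (iv7 D45879)))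
theorem Q27989 : ∀ i, i < 27989 → P i := stepQ 27988 Q27988 (allL N27988 (tt N24441 (iv1 F72471)) (tt N13973 (iv0 D45887)) (tt N24440 (iv2 F125500)) (tt N52811 D98189) (tt N22196 (iv4 F300763)) (tt N52792 (iv5 F151358)) (tt N46467 (iv6 F300764)) (tt N22192 F298267))
theorem Q27990 : ∀ i, i < 27990 → P i := stepQ 27989 Q27989 (allL N27989 (tt N24440 (iv1 F72477)) (tt N22192 F298271) (tt N13973 (iv2 D45889)) (tt N24446 F72472) (tt N18519 (iv4 F300746)) (tt N47089 (iv5 F128253)) (tt N52812 D98193) (tt N24441 F72474))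
theorem Q27991 : ∀ i, i < 27991 → P i := stepQ 27990 Q27990 (allL N27990 (tt N52813 D98194) (tt N52814 D98195) (tt N52812 (iv2 F151505)) (tt N13974 F72478) (tt N21814 (iv4 F300749)) (tt N24486 F310295) (tt N13973 (iv6 D45890)) (tt N52815 D98197))
theorem Q27992 : ∀ i, i < 27992 → P i := stepQ 27991 Q27991 (allL N27991 (tt N24450 (iv1 F72486)) (tt N13974 (iv0 D45891)) (tt N23039 (iv2 F113036)) (tt N36572 F315030) (tt N22928 F113033) (tt N36570 (iv5 F317246)) (tt N23034 F113034) (tt N23042 F113035))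
theorem Q27993 : ∀ i, i < 27993 → P i := stepQ 27992 Q27992 (allL N27992 (tt N13974 (iv1 D45892)) (tt N24450 F72480) (tt N23042 F113032) (tt N52816 D98200) (tt N22929 (iv4 F72481)) (tt N45685 (iv5 F300785)) (tt N52817 D98202) (tt N23039 F113037))
theorem Q27994 : ∀ i, i < 27994 → P i := stepQ 27993 Q27993 (allL N27993 (tt N47037 (iv1 F298286)) (tt N47052 (iv0 F300788)) (tt N24449 F72482) (tt N24486 (iv3 F308260)) (tt N14266 (iv4 F308261)) (tt N13974 (iv5 D45893)) (tt N14265 F306312) (tt N47050 (iv7 F300792)))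
theorem Q27995 : ∀ i, i < 27995 → P i := stepQ 27994 Q27994 (allL N27994 (tt N23042 (iv1 F113039)) (tt N23039 (iv0 F72488)) (tt N24450 F72483) (tt N52815 (iv3 F151509)) (tt N13978 F72484) (tt N47050 (iv5 F300791)) (tt N23021 F72485) (tt N13974 (iv7 D45894)))
theorem Q27996 : ∀ i, i < 27996 → P i := stepQ 27995 Q27995 (allL N27995 (tt N34763 F298273) (tt N13987 F128566) (tt N34761 (iv2 F298488)) (tt N34758 (iv3 F119040)) (tt N44812 (iv4 F113554)) (tt N45643 F298274) (tt N13976 (iv6 D45901)) (tt N34762 F298275))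
theorem Q27997 : ∀ i, i < 27997 → P i := stepQ 27996 Q27996 (allL N27996 (tt N13977 (iv1 D45903)) (tt N23695 (iv0 F296600)) (tt N23645 (iv2 F296605)) (tt N46284 (iv3 F122688)) (tt N44844 F122689) (tt N17489 (iv5 F297471)) (tt N46320 (iv6 F297428)) (tt N23447 F296352))
theorem Q27998 : ∀ i, i < 27998 → P i := stepQ 27997 Q27997 (allL N27997 (tt N46322 F298051) (tt N47062 (iv0 F298673)) (tt N47059 F298052) (tt N47791 (iv3 F300482)) (tt N13977 (iv4 D45904)) (tt N52818 D98213) (tt N22940 F72493) (tt N23696 F298053))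
theorem Q27999 : ∀ i, i < 27999 → P i := stepQ 27998 Q27998 (allL N27998 (tt N22046 (iv1 F72498)) (tt N22053 (iv0 F72497)) (tt N44774 F113440) (tt N13979 (iv3 D45906)) (tt N44732 (iv4 F113138)) (tt N22102 F72496) (tt N52819 D98215) (tt N44754 (iv7 F113347)))
theorem Q28000 : ∀ i, i < 28000 → P i := stepQ 27999 Q27999 (allL N27999 (tt N22216 F302142) (tt N28143 (iv0 F72914)) (tt N44757 (iv2 F113361)) (tt N28024 F72575) (tt N13979 (iv4 D45907)) (tt N25709 (iv5 F72500)) (tt N52820 D98216) (tt N44755 (iv7 F113354)))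
theorem Q28001 : ∀ i, i < 28001 → P i := stepQ 28000 Q28000 (allL N28000 (tt N18887 (iv1 F319780)) (tt N38087 (iv0 F319779)) (tt N37997 (iv2 F319781)) (tt N52819 (iv3 F151557)) (tt N52820 (iv4 F151558)) (tt N18861 (iv5 F321379)) (tt N13979 (iv6 D45908)) (tt N38001 F319363))
theorem Q28002 : ∀ i, i < 28002 → P i := stepQ 28001 Q28001 (allL N28001 (tt N52380 F149197) (tt N44710 F149198) (tt N52821 D98221) (tt N13980 (iv3 D45909)) (tt N52822 D98222) (tt N34436 F300210) (tt N34439 (iv6 F302953)) (tt N44756 (iv7 F113360)))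
theorem Q28003 : ∀ i, i < 28003 → P i := stepQ 28002 Q28002 (allL N28002 (tt N28143 (iv1 F72913)) (tt N22216 (iv0 F302021)) (tt N44755 (iv2 F113352)) (tt N24373 (iv3 F72502)) (tt N13980 (iv4 D45910)) (tt N25708 (iv5 F72915)) (tt N44813 (iv6 F305474)) (tt N44757 (iv7 F113362)))
theorem Q28004 : ∀ i, i < 28004 → P i := stepQ 28003 Q28003 (allL N28003 (tt N52823 D98229) (tt N52824 D98230) (tt N13982 F72503) (tt N23561 F72504) (tt N52801 (iv4 F151416)) (tt N35509 (iv5 F321013)) (tt N13981 (iv6 D45912)) (tt N48269 F320011))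
theorem Q28005 : ∀ i, i < 28005 → P i := stepQ 28004 Q28004 (allL N28004 (tt N48269 F320008) (tt N13982 (iv0 D45913)) (tt N52823 (iv2 F345520)) (tt N46826 (iv3 F304308)) (tt N52825 D98235) (tt N52826 D98236) (tt N52827 D98237) (tt N52824 (iv7 F351717)))
theorem Q28006 : ∀ i, i < 28006 → P i := stepQ 28005 Q28005 (allL N28005 (tt N13982 (iv1 D45914)) (tt N48269 F320007) (tt N52824 (iv2 F351716)) (tt N52828 D98239) (tt N52829 D98240) (tt N52830 D98241) (tt N52831 D98242) (tt N52823 (iv7 F345521)))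
theorem Q28007 : ∀ i, i < 28007 → P i := stepQ 28006 Q28006 (allL N28006 (tt N48267 (iv1 F324243)) (tt N48266 (iv0 F324244)) (tt N35509 F322767) (tt N13983 F72505) (tt N52832 D98245) (tt N13982 (iv5 D45915)) (tt N47432 (iv6 F128802)) (tt N48268 F322768))
theorem Q28008 : ∀ i, i < 28008 → P i := stepQ 28007 Q28007 (allL N28007 (tt N52824 (iv1 F151581)) (tt N52823 F151587) (tt N48269 F320009) (tt N13984 F72506) (tt N34500 (iv4 F300578)) (tt N48268 (iv5 F321788)) (tt N23457 F298181) (tt N13982 (iv7 D45916)))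
theorem Q28009 : ∀ i, i < 28009 → P i := stepQ 28008 Q28008 (allL N28008 (tt N35513 F321828) (tt N13983 (iv0 D45927)) (tt N44771 (iv2 F118943)) (tt N52833 D98247) (tt N46861 (iv4 F127225)) (tt N24475 F118944) (tt N52834 D98248) (tt N44642 F329447))
theorem Q28010 : ∀ i, i < 28010 → P i := stepQ 28009 Q28009 (allL N28009 (tt N13983 (iv1 D45928)) (tt N35513 F321827) (tt N44642 (iv2 F329119)) (tt N52835 D98249) (tt N46862 (iv4 F127227)) (tt N24342 F118939) (tt N35529 F328762) (tt N44771 (iv7 F118942)))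
theorem Q28011 : ∀ i, i < 28011 → P i := stepQ 28010 Q28010 (allL N28010 (tt N52836 D98251) (tt N52837 D98252) (tt N44772 (iv2 F113422)) (tt N52838 D98253) (tt N13983 (iv4 D45929)) (tt N52839 D98254) (tt N47439 (iv6 F128814)) (tt N52840 D98255))
theorem Q28012 : ∀ i, i < 28012 → P i := stepQ 28011 Q28011 (allL N28011 (tt N44642 F329439) (tt N44771 F113425) (tt N35513 F321829) (tt N48268 F321830) (tt N52840 (iv4 F151607)) (tt N13984 F72511) (tt N52841 D98256) (tt N13983 (iv7 D45930)))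
theorem Q28013 : ∀ i, i < 28013 → P i := stepQ 28012 Q28012 (allL N28012 (tt N52842 D98258) (tt N48272 F320688) (tt N52843 D98259) (tt N13985 (iv3 D45946)) (tt N24309 F118923) (tt N32076 F327536) (tt N52844 D98261) (tt N24466 F118924))
theorem Q28014 : ∀ i, i < 28014 → P i := stepQ 28013 Q28013 (allL N28013 (tt N46472 (iv1 F301017)) (tt N46471 (iv0 F301014)) (tt N24464 F118925) (tt N32076 F327535) (tt N52845 D98262) (tt N13985 (iv5 D45947)) (tt N32074 (iv6 F328008)) (tt N24467 F118926))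
theorem Q28015 : ∀ i, i < 28015 → P i := stepQ 28014 Q28014 (allL N28014 (tt N52817 (iv1 F151528)) (tt N46438 (iv0 F298800)) (tt N24465 F118927) (tt N52844 (iv3 F151635)) (tt N13987 F72524) (tt N46935 F127802) (tt N13985 (iv6 D45948)) (tt N47218 (iv7 F128528)))
theorem Q28016 : ∀ i, i < 28016 → P i := stepQ 28015 Q28015 (allL N28015 (tt N34762 F298352) (tt N34761 (iv0 F298487)) (tt N34763 F298353) (tt N46491 F298354) (tt N47218 (iv4 F128529)) (tt N29065 F118984) (tt N46466 F298355) (tt N13987 (iv7 D45957)))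
theorem Q28017 : ∀ i, i < 28017 → P i := stepQ 28016 Q28016 (allL N28016 (tt N14002 F72564) (tt N25620 (iv0 F72565)) (tt N26021 F72561) (tt N13988 (iv3 D45988)) (tt N25958 F72562) (tt N35245 (iv5 F91683)) (tt N50858 (iv6 F294600)) (tt N26024 F72563))
theorem Q28018 : ∀ i, i < 28018 → P i := stepQ 28017 Q28017 (allL N28017 (tt N49456 (iv1 F136499)) (tt N14009 F83054) (tt N49436 (iv2 F136428)) (tt N35245 F91685) (tt N52846 D98284) (tt N13988 (iv5 D45989)) (tt N52847 D98285) (tt N47816 (iv7 F129798)))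
theorem Q28019 : ∀ i, i < 28019 → P i := stepQ 28018 Q28018 (allL N28018 (tt N49343 (iv1 F293936)) (tt N14064 (iv0 F157224)) (tt N49342 F294786) (tt N50858 (iv3 F294599)) (tt N51279 (iv4 F144664)) (tt N52848 D98288) (tt N13988 (iv6 D45990)) (tt N49341 F294787))
theorem Q28020 : ∀ i, i < 28020 → P i := stepQ 28019 Q28019 (allL N28019 (tt N14009 F72567) (tt N49456 F136500) (tt N47816 (iv2 F129796)) (tt N24690 F72566) (tt N52849 D98290) (tt N13989 (iv5 D45991)) (tt N52850 D98291) (tt N49436 (iv7 F136430)))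
theorem Q28021 : ∀ i, i < 28021 → P i := stepQ 28020 Q28020 (allL N28020 (tt N14017 (iv1 F157609)) (tt N49519 (iv0 F157610)) (tt N49435 (iv2 F136426)) (tt N51844 (iv3 F147314)) (tt N45164 (iv4 F114666)) (tt N52851 D98294) (tt N13989 (iv6 D45992)) (tt N49518 (iv7 F157615)))
theorem Q28022 : ∀ i, i < 28022 → P i := stepQ 28021 Q28021 (allL N28021 (tt N28378 (iv1 F73764)) (tt N28376 (iv0 F73758)) (tt N13991 F72568) (tt N25663 F72569) (tt N44712 F302444) (tt N13990 (iv5 D45993)) (tt N44711 F302445) (tt N28411 (iv7 F73828)))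
theorem Q28023 : ∀ i, i < 28023 → P i := stepQ 28022 Q28022 (allL N28022 (tt N49768 (iv1 F137208)) (tt N49767 F137204) (tt N13992 F72570) (tt N25664 F72571) (tt N26417 F72572) (tt N52852 D98297) (tt N13990 (iv6 D45994)) (tt N49769 (iv7 F137206)))
theorem Q28024 : ∀ i, i < 28024 → P i := stepQ 28023 Q28023 (allL N28023 (tt N28411 (iv1 F73829)) (tt N13991 (iv0 D45995)) (tt N28378 (iv2 F73761)) (tt N34784 F89625) (tt N52853 D98298) (tt N26502 F72573) (tt N52854 D98299) (tt N28376 (iv7 F73757)))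
theorem Q28025 : ∀ i, i < 28025 → P i := stepQ 28024 Q28024 (allL N28024 (tt N13991 (iv1 D45996)) (tt N28411 F73830) (tt N28376 (iv2 F73755)) (tt N27999 (iv3 F72575)) (tt N52855 D98300) (tt N26503 F72574) (tt N52856 D98301) (tt N28378 (iv7 F73762)))
theorem Q28026 : ∀ i, i < 28026 → P i := stepQ 28025 Q28025 (allL N28025 (tt N34790 (iv1 F89657)) (tt N25791 F72577) (tt N44712 F301557) (tt N47090 (iv3 F128257)) (tt N13991 (iv4 D45997)) (tt N17452 F72576) (tt N44677 F301558) (tt N28412 (iv7 F73831)))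
theorem Q28027 : ∀ i, i < 28027 → P i := stepQ 28026 Q28026 (allL N28026 (tt N34856 (iv1 F304317)) (tt N43475 (iv0 F303448)) (tt N44711 F301554) (tt N13993 F72578) (tt N44677 F301555) (tt N52857 D98305) (tt N13991 (iv6 D45998)) (tt N44714 F301556))
theorem Q28028 : ∀ i, i < 28028 → P i := stepQ 28027 Q28027 (allL N28027 (tt N49769 (iv1 F137207)) (tt N13992 (iv0 D45999)) (tt N49768 F145302) (tt N52858 D98307) (tt N52859 D98308) (tt N52860 D98309) (tt N52861 D98310) (tt N49767 F145300))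
theorem Q28029 : ∀ i, i < 28029 → P i := stepQ 28028 Q28028 (allL N28028 (tt N13992 (iv1 D46000)) (tt N49769 F137209) (tt N49767 (iv2 F145299)) (tt N51846 (iv3 F251783)) (tt N45147 (iv4 F114616)) (tt N52862 D98312) (tt N52863 D98313) (tt N49768 (iv7 F145301)))
theorem Q28030 : ∀ i, i < 28030 → P i := stepQ 28029 Q28029 (allL N28029 (tt N52864 D98314) (tt N52865 D98315) (tt N52852 (iv2 F151710)) (tt N13994 F72579) (tt N52866 D98316) (tt N13992 (iv5 D46001)) (tt N52857 (iv6 F151726)) (tt N49770 (iv7 F137211)))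
theorem Q28031 : ∀ i, i < 28031 → P i := stepQ 28030 Q28030 (allL N28030 (tt N28421 (iv1 F73851)) (tt N13993 (iv0 D46002)) (tt N24088 F300535) (tt N28200 F300536) (tt N24095 F300537) (tt N45261 (iv5 F303332)) (tt N52867 D98321) (tt N24699 F300538))
theorem Q28032 : ∀ i, i < 28032 → P i := stepQ 28031 Q28031 (allL N28031 (tt N45270 (iv1 F304502)) (tt N34863 (iv0 F304503)) (tt N28420 (iv2 F73845)) (tt N52857 (iv3 F151725)) (tt N27348 (iv4 F304504)) (tt N13993 (iv5 D46004)) (tt N13994 F72580) (tt N51850 (iv7 F303330)))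
theorem Q28033 : ∀ i, i < 28033 → P i := stepQ 28032 Q28032 (allL N28032 (tt N24699 F300530) (tt N24088 F300531) (tt N28421 (iv2 F73847)) (tt N44714 F300532) (tt N47091 (iv4 F128266)) (tt N51850 (iv5 F303329)) (tt N28417 (iv6 F73838)) (tt N13993 (iv7 D46005)))
theorem Q28034 : ∀ i, i < 28034 → P i := stepQ 28033 Q28033 (allL N28033 (tt N28995 (iv1 F74747)) (tt N13994 (iv0 D46006)) (tt N14446 (iv2 F72582)) (tt N43926 F309579) (tt N49419 (iv4 F136272)) (tt N14140 F72581) (tt N52868 D98332) (tt N14469 F72583))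
theorem Q28035 : ∀ i, i < 28035 → P i := stepQ 28034 Q28034 (allL N28034 (tt N26214 F72584) (tt N26217 F72585) (tt N49447 (iv2 F136483)) (tt N52869 D98333) (tt N13994 (iv4 D46007)) (tt N28902 (iv5 F74630)) (tt N27348 F306525) (tt N49771 (iv7 F137214)))
theorem Q28036 : ∀ i, i < 28036 → P i := stepQ 28035 Q28035 (allL N28035 (tt N14061 F134922) (tt N49471 F136556) (tt N25529 F72586) (tt N25622 F72587) (tt N52393 (iv4 F149504)) (tt N52870 D98334) (tt N13995 (iv6 D46008)) (tt N49470 (iv7 F136548)))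
theorem Q28037 : ∀ i, i < 28037 → P i := stepQ 28036 Q28036 (allL N28036 (tt N52871 D98335) (tt N25560 F72598) (tt N13998 F72588) (tt N49437 (iv3 F136437)) (tt N27810 F72589) (tt N52872 D98336) (tt N13996 (iv6 D46009)) (tt N52873 D98337))
theorem Q28038 : ∀ i, i < 28038 → P i := stepQ 28037 Q28037 (allL N28037 (tt N52874 D98338) (tt N52875 D98339) (tt N48919 (iv2 F134888)) (tt N19099 F305568) (tt N13997 (iv4 D46010)) (tt N52876 D98340) (tt N52877 D98341) (tt N28418 (iv7 F73842)))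
theorem Q28039 : ∀ i, i < 28039 → P i := stepQ 28038 Q28038 (allL N28038 (tt N43558 F310595) (tt N52878 D98343) (tt N48920 (iv2 F134892)) (tt N13999 F72590) (tt N52877 (iv4 F151771)) (tt N52879 D98344) (tt N13997 (iv6 D46011)) (tt N52880 D98345))
theorem Q28040 : ∀ i, i < 28040 → P i := stepQ 28039 Q28039 (allL N28039 (tt N52873 (iv1 F151758)) (tt N13998 (iv0 D46012)) (tt N52871 F151745) (tt N25520 F72591) (tt N27405 F72592) (tt N52881 D98346) (tt N51465 (iv6 F145067)) (tt N25560 (iv7 F72593)))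
theorem Q28041 : ∀ i, i < 28041 → P i := stepQ 28040 Q28040 (allL N28040 (tt N13998 (iv1 D46013)) (tt N52873 F151757) (tt N25560 F149747) (tt N49696 F149748) (tt N52476 F149749) (tt N52882 D98347) (tt N52883 D98348) (tt N52871 (iv7 F151747)))
theorem Q28042 : ∀ i, i < 28042 → P i := stepQ 28041 Q28041 (allL N28041 (tt N52884 D98349) (tt N52885 D98350) (tt N52872 (iv2 F151750)) (tt N14000 F72594) (tt N52886 D98351) (tt N13998 (iv5 D46014)) (tt N52879 (iv6 F151773)) (tt N52887 D98352))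
theorem Q28043 : ∀ i, i < 28043 → P i := stepQ 28042 Q28042 (allL N28042 (tt N25560 F72597) (tt N52871 F151748) (tt N52873 (iv2 F151754)) (tt N14001 F72595) (tt N27818 F72596) (tt N52887 (iv5 F151782)) (tt N49422 (iv6 F136296)) (tt N13998 (iv7 D46015)))
theorem Q28044 : ∀ i, i < 28044 → P i := stepQ 28043 Q28043 (allL N28043 (tt N28417 (iv1 F73841)) (tt N13999 (iv0 D46016)) (tt N28414 F274641) (tt N24125 (iv3 F308587)) (tt N24128 F306709) (tt N52888 D98356) (tt N52889 D98357) (tt N28415 F274642))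
theorem Q28045 : ∀ i, i < 28045 → P i := stepQ 28044 Q28044 (allL N28044 (tt N13999 (iv1 D46017)) (tt N28417 F73840) (tt N28415 (iv2 F274638)) (tt N43549 (iv3 F308585)) (tt N44721 (iv4 F274639)) (tt N52890 D98361) (tt N52891 D98362) (tt N28414 (iv7 F274640)))
theorem Q28046 : ∀ i, i < 28046 → P i := stepQ 28045 Q28045 (allL N28045 (tt N52892 D98363) (tt N52893 D98364) (tt N28416 (iv2 F73835)) (tt N52879 (iv3 F151772)) (tt N52894 D98365) (tt N13999 (iv5 D46018)) (tt N14000 F72599) (tt N52895 D98366))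
theorem Q28047 : ∀ i, i < 28047 → P i := stepQ 28046 Q28046 (allL N28046 (tt N28415 (iv1 F73834)) (tt N28414 F73839) (tt N28417 (iv2 F73837)) (tt N52880 (iv3 F151774)) (tt N47096 (iv4 F128282)) (tt N52895 (iv5 F151787)) (tt N28421 (iv6 F73848)) (tt N13999 (iv7 D46019)))
theorem Q28048 : ∀ i, i < 28048 → P i := stepQ 28047 Q28047 (allL N28047 (tt N14000 (iv1 D46021)) (tt N49443 F136470) (tt N29050 (iv2 F74881)) (tt N52896 D98369) (tt N49757 (iv4 F137145)) (tt N26677 F290940) (tt N52897 D98370) (tt N26676 (iv7 F291471)))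
theorem Q28049 : ∀ i, i < 28049 → P i := stepQ 28048 Q28048 (allL N28048 (tt N50563 (iv1 F292658)) (tt N50963 (iv0 F292654)) (tt N49442 (iv2 F136467)) (tt N52898 D98373) (tt N14000 (iv4 D46022)) (tt N50188 (iv5 F290706)) (tt N52894 (iv6 F151786)) (tt N52899 D98375))
theorem Q28050 : ∀ i, i < 28050 → P i := stepQ 28049 Q28049 (allL N28049 (tt N29050 (iv1 F74883)) (tt N26676 F292110) (tt N49443 (iv2 F136468)) (tt N52887 (iv3 F151781)) (tt N52899 (iv4 F151801)) (tt N14001 F72601) (tt N52900 D98376) (tt N14000 (iv7 D46023)))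
theorem Q28051 : ∀ i, i < 28051 → P i := stepQ 28050 Q28050 (allL N28050 (tt N25620 (iv1 F72604)) (tt N14002 (iv0 D46024)) (tt N26024 (iv2 F72603)) (tt N25611 (iv3 F72606)) (tt N25957 F72602) (tt N35244 (iv5 F91675)) (tt N52901 D98377) (tt N26021 F72605))
theorem Q28052 : ∀ i, i < 28052 → P i := stepQ 28051 Q28051 (allL N28051 (tt N26024 (iv1 F72611)) (tt N26021 F72609) (tt N14002 (iv2 D46025)) (tt N21785 F72607) (tt N14002 F72610) (tt N33867 (iv5 F85976)) (tt N52902 D98378) (tt N25620 F72608))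
theorem Q28053 : ∀ i, i < 28053 → P i := stepQ 28052 Q28052 (allL N28052 (tt N52903 D98379) (tt N52904 D98380) (tt N52902 (iv2 F151807)) (tt N14003 F72612) (tt N52902 (iv4 F151809)) (tt N52905 D98381) (tt N14002 (iv6 D46026)) (tt N52906 D98382))
theorem Q28054 : ∀ i, i < 28054 → P i := stepQ 28053 Q28053 (allL N28053 (tt N14003 (iv1 D46028)) (tt N34804 F89712) (tt N34802 (iv2 F335700)) (tt N49488 (iv3 F335701)) (tt N49624 (iv4 F335702)) (tt N52907 D98391) (tt N50435 (iv6 F356459)) (tt N34801 (iv7 F335696)))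
theorem Q28055 : ∀ i, i < 28055 → P i := stepQ 28054 Q28054 (allL N28054 (tt N50213 (iv1 F292669)) (tt N52908 D98394) (tt N34803 (iv2 F89707)) (tt N52905 (iv3 F151810)) (tt N52909 D98395) (tt N14003 (iv5 D46029)) (tt N34786 (iv6 F89630)) (tt N52910 D98396))
theorem Q28056 : ∀ i, i < 28056 → P i := stepQ 28055 Q28055 (allL N28055 (tt N34802 (iv1 F89706)) (tt N34801 F89711) (tt N34804 (iv2 F89709)) (tt N52906 (iv3 F151811)) (tt N24402 F72613) (tt N52910 (iv5 F151815)) (tt N46725 (iv6 F126274)) (tt N14003 (iv7 D46030)))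
theorem Q28057 : ∀ i, i < 28057 → P i := stepQ 28056 Q28056 (allL N28056 (tt N14008 (iv1 F72618)) (tt N14004 (iv0 D46031)) (tt N14005 (iv2 F152043)) (tt N52911 D98398) (tt N26064 (iv4 F72620)) (tt N38456 F326771) (tt N50434 (iv6 F343887)) (tt N14006 (iv7 F152047)))
theorem Q28058 : ∀ i, i < 28058 → P i := stepQ 28057 Q28057 (allL N28057 (tt N14004 (iv1 D46032)) (tt N14008 F72614) (tt N14006 F152048) (tt N48661 F295257) (tt N26065 F72615) (tt N37361 F325981) (tt N49777 (iv6 F335639)) (tt N14005 F152049))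
theorem Q28059 : ∀ i, i < 28059 → P i := stepQ 28058 Q28058 (allL N28058 (tt N38793 (iv1 F326261)) (tt N38791 F325944) (tt N14007 F72616) (tt N49492 (iv3 F136695)) (tt N52912 D98406) (tt N14004 (iv5 D46033)) (tt N35014 F301633) (tt N38677 (iv7 F326259)))
theorem Q28060 : ∀ i, i < 28060 → P i := stepQ 28059 Q28059 (allL N28059 (tt N14006 (iv1 F72619)) (tt N14005 F72622) (tt N14008 F72617) (tt N49493 (iv3 F136697)) (tt N51451 (iv4 F145028)) (tt N38677 F326772) (tt N27025 (iv6 F294843)) (tt N14004 (iv7 D46034)))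
theorem Q28061 : ∀ i, i < 28061 → P i := stepQ 28060 Q28060 (allL N28060 (tt N48663 (iv1 F295243)) (tt N25524 (iv0 F72625)) (tt N48662 (iv2 F295251)) (tt N14005 (iv3 D46036)) (tt N48699 F134134) (tt N39748 F333869) (tt N52913 D98416) (tt N48661 (iv7 F295249)))
theorem Q28062 : ∀ i, i < 28062 → P i := stepQ 28061 Q28061 (allL N28061 (tt N52914 D98422) (tt N37657 (iv0 F325956)) (tt N38456 (iv2 F325957)) (tt N39748 F333867) (tt N19366 (iv4 F325958)) (tt N14005 (iv5 D46038)) (tt N37359 (iv6 F325959)) (tt N37361 (iv7 F324984)))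
theorem Q28063 : ∀ i, i < 28063 → P i := stepQ 28062 Q28062 (allL N28062 (tt N50435 (iv1 F345088)) (tt N49799 (iv0 F336646)) (tt N50434 (iv2 F343884)) (tt N52913 (iv3 F151840)) (tt N40134 F329516) (tt N52915 D98429) (tt N14005 (iv6 D46039)) (tt N50433 (iv7 F343866)))
theorem Q28064 : ∀ i, i < 28064 → P i := stepQ 28063 Q28063 (allL N28063 (tt N52901 (iv1 F157616)) (tt N52916 D98433) (tt N52917 D98434) (tt N14006 (iv3 D46041)) (tt N52917 F151856) (tt N52918 D98435) (tt N52919 D98436) (tt N52911 (iv7 F152042)))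
theorem Q28065 : ∀ i, i < 28065 → P i := stepQ 28064 Q28064 (allL N28064 (tt N37657 F325978) (tt N52914 F151850) (tt N37361 F325979) (tt N52918 (iv3 F151859)) (tt N30955 (iv4 F326834)) (tt N14006 (iv5 D46043)) (tt N52920 D98440) (tt N38456 F325980))
theorem Q28066 : ∀ i, i < 28066 → P i := stepQ 28065 Q28065 (allL N28065 (tt N49779 (iv1 F335647)) (tt N46758 F277394) (tt N49777 (iv2 F335636)) (tt N52919 (iv3 F151860)) (tt N51125 (iv4 F295314)) (tt N52921 D98443) (tt N14006 (iv6 D46044)) (tt N49778 (iv7 F335644)))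
theorem Q28067 : ∀ i, i < 28067 → P i := stepQ 28066 Q28066 (allL N28066 (tt N38677 (iv1 F326258)) (tt N14007 (iv0 D46045)) (tt N38793 (iv2 F326262)) (tt N52922 D98446) (tt N19625 F325393) (tt N51230 F295155) (tt N38849 (iv6 F326264)) (tt N38791 F325394))
theorem Q28068 : ∀ i, i < 28068 → P i := stepQ 28067 Q28067 (allL N28067 (tt N14007 (iv1 D46046)) (tt N38677 (iv0 F326257)) (tt N38791 F325945) (tt N52923 D98451) (tt N31661 F325946) (tt N51228 (iv5 F294609)) (tt N40553 F329881) (tt N38793 (iv7 F326263)))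
theorem Q28069 : ∀ i, i < 28069 → P i := stepQ 28068 Q28068 (allL N28068 (tt N37111 (iv1 F327626)) (tt N52924 D98456) (tt N52912 (iv2 F151824)) (tt N35629 (iv3 F327633)) (tt N14007 (iv4 D46047)) (tt N35597 (iv5 F327635)) (tt N36788 F327064) (tt N30697 F327065))
theorem Q28070 : ∀ i, i < 28070 → P i := stepQ 28069 Q28069 (allL N28069 (tt N49436 (iv1 F136432)) (tt N47816 (iv0 F129800)) (tt N14009 (iv2 D46050)) (tt N25667 F72631) (tt N46684 (iv4 F125800)) (tt N14158 F72632) (tt N52925 D98461) (tt N49456 (iv7 F136498)))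
theorem Q28071 : ∀ i, i < 28071 → P i := stepQ 28070 Q28070 (allL N28070 (tt N34778 (iv1 F89587)) (tt N28709 (iv0 F74424)) (tt N46684 F125803) (tt N52793 (iv3 F151366)) (tt N14009 (iv4 D46051)) (tt N21267 F72633) (tt N46768 F315047) (tt N46685 (iv7 F125805)))
theorem Q28072 : ∀ i, i < 28072 → P i := stepQ 28071 Q28071 (allL N28071 (tt N52926 D98463) (tt N52927 D98464) (tt N52925 (iv2 F151869)) (tt N14010 F72634) (tt N46768 F315046) (tt N52928 D98465) (tt N14009 (iv6 D46052)) (tt N52929 D98466))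
theorem Q28073 : ∀ i, i < 28073 → P i := stepQ 28072 Q28072 (allL N28072 (tt N52930 D98477) (tt N47861 F312934) (tt N49461 (iv2 F136518)) (tt N52928 (iv3 F151872)) (tt N52931 D98479) (tt N14010 (iv5 D46055)) (tt N14160 F72635) (tt N52932 D98480))
theorem Q28074 : ∀ i, i < 28074 → P i := stepQ 28073 Q28073 (allL N28073 (tt N46997 (iv1 F274514)) (tt N34957 F310384) (tt N47462 (iv2 F154537)) (tt N52929 (iv3 F151874)) (tt N52799 (iv4 F151379)) (tt N52932 (iv5 F151879)) (tt N49459 (iv6 F136507)) (tt N14010 (iv7 D46056)))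
theorem Q28075 : ∀ i, i < 28075 → P i := stepQ 28074 Q28074 (allL N28074 (tt N25665 (iv1 F72639)) (tt N25528 F72638) (tt N14011 (iv2 D46057)) (tt N49456 (iv3 F136496)) (tt N52933 D98481) (tt N14163 F72636) (tt N52934 D98482) (tt N25667 F72637))
theorem Q28076 : ∀ i, i < 28076 → P i := stepQ 28075 Q28075 (allL N28075 (tt N52935 D98483) (tt N52936 D98484) (tt N52933 (iv2 F151880)) (tt N42756 (iv3 F303916)) (tt N14011 (iv4 D46058)) (tt N36420 F303687) (tt N52937 D98486) (tt N42806 (iv7 F304147)))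
theorem Q28077 : ∀ i, i < 28077 → P i := stepQ 28076 Q28076 (allL N28076 (tt N44589 F317748) (tt N52938 D98488) (tt N52934 (iv2 F151884)) (tt N14012 F72640) (tt N52937 (iv4 F151896)) (tt N52939 D98489) (tt N14011 (iv6 D46059)) (tt N52940 D98490))
theorem Q28078 : ∀ i, i < 28078 → P i := stepQ 28077 Q28077 (allL N28077 (tt N49459 (iv1 F136510)) (tt N14012 (iv0 D46060)) (tt N47484 (iv2 F274682)) (tt N23598 (iv3 F314155)) (tt N14353 (iv4 F156573)) (tt N52941 D98494) (tt N48199 F311714) (tt N35254 F311715))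
theorem Q28079 : ∀ i, i < 28079 → P i := stepQ 28078 Q28078 (allL N28078 (tt N14012 (iv1 D46061)) (tt N49459 F136509) (tt N35254 F309521) (tt N52942 D98497) (tt N14354 (iv4 F156571)) (tt N52943 D98499) (tt N52944 D98500) (tt N47484 (iv7 F274683)))
theorem Q28080 : ∀ i, i < 28080 → P i := stepQ 28079 Q28079 (allL N28079 (tt N52945 D98501) (tt N52946 D98502) (tt N49458 (iv2 F136503)) (tt N52939 (iv3 F151897)) (tt N52947 D98503) (tt N14012 (iv5 D46062)) (tt N14165 F72641) (tt N52948 D98504))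
theorem Q28081 : ∀ i, i < 28081 → P i := stepQ 28080 Q28080 (allL N28080 (tt N35254 F311710) (tt N47484 (iv0 F275096)) (tt N49459 (iv2 F136505)) (tt N52940 (iv3 F151899)) (tt N28812 F156783) (tt N52948 (iv5 F151904)) (tt N47462 (iv6 F154539)) (tt N14012 (iv7 D46063)))
theorem Q28082 : ∀ i, i < 28082 → P i := stepQ 28081 Q28081 (allL N28081 (tt N52949 D98511) (tt N52850 (iv0 F344995)) (tt N52950 D98513) (tt N14013 (iv3 D46065)) (tt N46975 (iv4 F315082)) (tt N52951 D98515) (tt N52952 D98516) (tt N46971 F312633))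
theorem Q28083 : ∀ i, i < 28083 → P i := stepQ 28082 Q28082 (allL N28082 (tt N24500 F184672) (tt N22965 (iv0 F184673)) (tt N24497 (iv2 F268269)) (tt N52953 D98520) (tt N14013 (iv4 D46066)) (tt N52954 D98521) (tt N52955 D98522) (tt N24498 F268266))
theorem Q28084 : ∀ i, i < 28084 → P i := stepQ 28083 Q28083 (allL N28083 (tt N52956 D98524) (tt N52957 D98525) (tt N49507 (iv2 F268271)) (tt N52951 (iv3 F151913)) (tt N52958 D98526) (tt N14013 (iv5 D46067)) (tt N52959 D98527) (tt N49509 (iv7 F268260)))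
theorem Q28085 : ∀ i, i < 28085 → P i := stepQ 28084 Q28084 (allL N28084 (tt N52944 (iv1 F275137)) (tt N34976 F310555) (tt N49508 (iv2 F268273)) (tt N52952 (iv3 F151914)) (tt N52955 (iv4 F151917)) (tt N52960 D98531) (tt N14013 (iv6 D46068)) (tt N52961 D98532))
theorem Q28086 : ∀ i, i < 28086 → P i := stepQ 28085 Q28085 (allL N28085 (tt N25669 F232589) (tt N52962 D98535) (tt N52963 D98536) (tt N14014 (iv3 D46070)) (tt N52964 D98537) (tt N52965 D98538) (tt N43646 F308351) (tt N49506 (iv7 F268268)))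
theorem Q28087 : ∀ i, i < 28087 → P i := stepQ 28086 Q28086 (allL N28086 (tt N22965 (iv1 F184674)) (tt N24500 F184671) (tt N24498 F268265) (tt N52966 D98540) (tt N14014 (iv4 D46071)) (tt N52967 D98541) (tt N52968 D98542) (tt N24497 (iv7 F268270)))
theorem Q28088 : ∀ i, i < 28088 → P i := stepQ 28087 Q28087 (allL N28087 (tt N52957 (iv1 F151922)) (tt N52956 F151925) (tt N49509 (iv2 F268259)) (tt N52965 (iv3 F151929)) (tt N52969 D98543) (tt N14014 (iv5 D46072)) (tt N52970 D98544) (tt N49507 (iv7 F268272)))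
theorem Q28089 : ∀ i, i < 28089 → P i := stepQ 28088 Q28088 (allL N28088 (tt N23555 (iv1 F306530)) (tt N34956 (iv0 F306528)) (tt N34954 (iv2 F306535)) (tt N43646 (iv3 F306536)) (tt N52968 (iv4 F151933)) (tt N51645 F304511) (tt N14014 (iv6 D46073)) (tt N34955 (iv7 F306531)))
theorem Q28090 : ∀ i, i < 28090 → P i := stepQ 28089 Q28089 (allL N28089 (tt N49513 (iv1 F136731)) (tt N14015 (iv0 D46074)) (tt N49510 (iv2 F272841)) (tt N52971 D98550) (tt N52972 D98551) (tt N52973 D98552) (tt N52974 D98553) (tt N49511 (iv7 F272831)))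
theorem Q28091 : ∀ i, i < 28091 → P i := stepQ 28090 Q28090 (allL N28090 (tt N14015 (iv1 D46075)) (tt N49513 F136730) (tt N49511 (iv2 F272830)) (tt N52975 D98555) (tt N52976 D98556) (tt N28514 (iv5 F74093)) (tt N52977 D98557) (tt N49510 (iv7 F272843)))
theorem Q28092 : ∀ i, i < 28092 → P i := stepQ 28091 Q28091 (allL N28091 (tt N52978 D98558) (tt N52979 D98559) (tt N49512 (iv2 F136725)) (tt N36802 (iv3 F327832)) (tt N14015 (iv4 D46076)) (tt N52980 D98561) (tt N14025 F72644) (tt N36795 F327327))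
theorem Q28093 : ∀ i, i < 28093 → P i := stepQ 28092 Q28092 (allL N28092 (tt N49511 (iv1 F136724)) (tt N49510 F136729) (tt N49513 (iv2 F136727)) (tt N35015 F301984) (tt N36795 (iv4 F326583)) (tt N14016 F72645) (tt N36784 F325754) (tt N14015 (iv7 D46077)))
theorem Q28094 : ∀ i, i < 28094 → P i := stepQ 28093 Q28093 (allL N28093 (tt N49519 (iv1 F136747)) (tt N14017 (iv0 D46078)) (tt N49518 (iv2 F145420)) (tt N52916 (iv3 F151858)) (tt N52981 D98564) (tt N52982 D98565) (tt N49341 F294785) (tt N49435 (iv7 F157574)))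
theorem Q28095 : ∀ i, i < 28095 → P i := stepQ 28094 Q28094 (allL N28094 (tt N49518 (iv1 F136748)) (tt N49435 (iv0 F157572)) (tt N14017 (iv2 D46080)) (tt N25670 F72646) (tt N49355 F294193) (tt N52983 D98570) (tt N52984 D98571) (tt N49519 (iv7 F136746)))
theorem Q28096 : ∀ i, i < 28096 → P i := stepQ 28095 Q28095 (allL N28095 (tt N52985 D98572) (tt N52986 D98573) (tt N52983 (iv2 F151966)) (tt N14018 F72647) (tt N52987 D98574) (tt N14017 (iv5 D46081)) (tt N52988 D98575) (tt N49520 (iv7 F136752)))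
theorem Q28097 : ∀ i, i < 28097 → P i := stepQ 28096 Q28096 (allL N28096 (tt N52989 D98576) (tt N52990 D98577) (tt N52984 (iv2 F151968)) (tt N14019 F72648) (tt N51100 (iv4 F143546)) (tt N28537 (iv5 F74127)) (tt N14017 (iv6 D46082)) (tt N50432 (iv7 F291848)))
theorem Q28098 : ∀ i, i < 28098 → P i := stepQ 28097 Q28097 (allL N28097 (tt N14018 (iv1 D46083)) (tt N14021 F72649) (tt N29038 (iv2 F74853)) (tt N37657 F326770) (tt N37679 (iv4 F327401)) (tt N14447 F72650) (tt N37655 (iv6 F327402)) (tt N28357 (iv7 F73676)))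
theorem Q28099 : ∀ i, i < 28099 → P i := stepQ 28098 Q28098 (allL N28098 (tt N52152 (iv1 F147800)) (tt N52153 (iv0 F147806)) (tt N49516 (iv2 F136739)) (tt N52991 D98581) (tt N14018 (iv4 D46084)) (tt N28112 (iv5 F72675)) (tt N52992 D98582) (tt N49522 (iv7 F136756)))
theorem Q28100 : ∀ i, i < 28100 → P i := stepQ 28099 Q28099 (allL N28099 (tt N52993 D98583) (tt N52994 D98584) (tt N49517 (iv2 F136742)) (tt N52988 (iv3 F151970)) (tt N52992 (iv4 F151974)) (tt N28539 (iv5 F74129)) (tt N14018 (iv6 D46085)) (tt N52995 D98585))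
theorem Q28101 : ∀ i, i < 28101 → P i := stepQ 28100 Q28100 (allL N28100 (tt N14020 (iv1 D46087)) (tt N25670 F72654) (tt N25577 F295196) (tt N48663 (iv3 F295244)) (tt N52677 (iv4 F150144)) (tt N52996 D98586) (tt N49470 F136551) (tt N25666 F72651))
theorem Q28102 : ∀ i, i < 28102 → P i := stepQ 28101 Q28101 (allL N28101 (tt N25666 (iv1 F72657)) (tt N25577 (iv0 F294732)) (tt N14020 (iv2 D46088)) (tt N49519 (iv3 F136744)) (tt N51764 (iv4 F147154)) (tt N52997 D98587) (tt N52998 D98588) (tt N25670 F72655))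
theorem Q28103 : ∀ i, i < 28103 → P i := stepQ 28102 Q28102 (allL N28102 (tt N27676 F295067) (tt N39741 F329334) (tt N52997 (iv2 F151979)) (tt N14021 F72658) (tt N52999 D98591) (tt N14020 (iv5 D46089)) (tt N53000 D98592) (tt N49514 (iv7 F136734)))
theorem Q28104 : ∀ i, i < 28104 → P i := stepQ 28103 Q28103 (allL N28103 (tt N53001 D98593) (tt N53002 D98594) (tt N52998 (iv2 F151981)) (tt N14022 F72659) (tt N49918 (iv4 F137922)) (tt N49180 (iv5 F151997)) (tt N14020 (iv6 D46090)) (tt N49790 (iv7 F137247)))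
theorem Q28105 : ∀ i, i < 28105 → P i := stepQ 28104 Q28104 (allL N28104 (tt N52153 (iv1 F147807)) (tt N52152 (iv0 F147799)) (tt N49522 (iv2 F136755)) (tt N53003 D98596) (tt N14021 (iv4 D46091)) (tt N28108 (iv5 F72667)) (tt N53004 D98597) (tt N49516 (iv7 F136740)))
theorem Q28106 : ∀ i, i < 28106 → P i := stepQ 28105 Q28105 (allL N28105 (tt N53005 D98598) (tt N53006 D98599) (tt N49523 (iv2 F136758)) (tt N53000 (iv3 F151987)) (tt N53004 (iv4 F151992)) (tt N53007 D98600) (tt N14021 (iv6 D46092)) (tt N53008 D98601))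
theorem Q28107 : ∀ i, i < 28107 → P i := stepQ 28106 Q28106 (allL N28106 (tt N26407 (iv1 F291373)) (tt N27928 (iv0 F72660)) (tt N29046 F74877) (tt N49180 (iv3 F151996)) (tt N53009 D98602) (tt N14022 (iv5 D46095)) (tt N53007 (iv6 F151993)) (tt N29047 (iv7 F74879)))
theorem Q28108 : ∀ i, i < 28108 → P i := stepQ 28107 Q28107 (allL N28107 (tt N52982 (iv1 F367753)) (tt N52851 (iv0 F344982)) (tt N53010 D98605) (tt N14023 (iv3 D46097)) (tt N53011 D98606) (tt N53012 D98607) (tt N53013 D98608) (tt N49527 (iv7 F136767)))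
theorem Q28109 : ∀ i, i < 28109 → P i := stepQ 28108 Q28108 (allL N28108 (tt N49601 (iv1 F136895)) (tt N26149 (iv0 F72666)) (tt N49525 (iv2 F136761)) (tt N53014 D98609) (tt N14023 (iv4 D46098)) (tt N28104 F72667) (tt N53015 D98610) (tt N49528 (iv7 F136770)))
theorem Q28110 : ∀ i, i < 28110 → P i := stepQ 28109 Q28109 (allL N28109 (tt N14467 (iv1 F72668)) (tt N14144 F72665) (tt N14465 (iv2 F72669)) (tt N53012 (iv3 F151999)) (tt N14682 (iv4 F293535)) (tt N14023 (iv5 D46099)) (tt N26499 F291067) (tt N14184 (iv7 F72670)))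
theorem Q28111 : ∀ i, i < 28111 → P i := stepQ 28110 Q28110 (allL N28110 (tt N53016 D98611) (tt N53017 D98612) (tt N49526 (iv2 F136765)) (tt N53013 (iv3 F152002)) (tt N53015 (iv4 F152004)) (tt N53018 D98613) (tt N14023 (iv6 D46100)) (tt N53019 D98614))
theorem Q28112 : ∀ i, i < 28112 → P i := stepQ 28111 Q28111 (allL N28111 (tt N25671 F136896) (tt N52996 F151977) (tt N52311 F294472) (tt N14024 (iv3 D46101)) (tt N53020 D98616) (tt N48653 F294473) (tt N53021 D98618) (tt N49524 (iv7 F136760)))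
theorem Q28113 : ∀ i, i < 28113 → P i := stepQ 28112 Q28112 (allL N28112 (tt N26149 F72676) (tt N49601 (iv0 F136894)) (tt N49528 (iv2 F136768)) (tt N53022 D98619) (tt N14024 (iv4 D46102)) (tt N28098 F72675) (tt N53023 D98620) (tt N49525 (iv7 F136762)))
theorem Q28114 : ∀ i, i < 28114 → P i := stepQ 28113 Q28113 (allL N28113 (tt N14144 (iv1 F72682)) (tt N14467 F72680) (tt N14184 F72677) (tt N48653 (iv3 F293512)) (tt N25608 F72678) (tt N14024 (iv5 D46103)) (tt N14078 (iv6 F72681)) (tt N14465 F72679))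
theorem Q28115 : ∀ i, i < 28115 → P i := stepQ 28114 Q28114 (allL N28114 (tt N53024 D98621) (tt N32378 F383747) (tt N49529 (iv2 F136772)) (tt N53021 (iv3 F152016)) (tt N53023 (iv4 F152018)) (tt N53025 D98623) (tt N14024 (iv6 D46104)) (tt N53026 D98624))
theorem Q28116 : ∀ i, i < 28116 → P i := stepQ 28115 Q28115 (allL N28115 (tt N28118 (iv1 F72690)) (tt N14025 (iv0 D46105)) (tt N49530 F136776) (tt N53027 D98625) (tt N28127 (iv4 F72711)) (tt N27580 (iv5 F72712)) (tt N53028 D98626) (tt N49531 (iv7 F136779)))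
theorem Q28117 : ∀ i, i < 28117 → P i := stepQ 28116 Q28116 (allL N28116 (tt N14025 (iv1 D46106)) (tt N28118 F72686) (tt N49531 F136782) (tt N53029 D98627) (tt N25584 F295047) (tt N28123 (iv5 F72697)) (tt N32376 F352458) (tt N49530 F136777))
theorem Q28118 : ∀ i, i < 28118 → P i := stepQ 28117 Q28117 (allL N28117 (tt N36818 (iv1 F327829)) (tt N36817 (iv0 F327830)) (tt N36820 (iv2 F327831)) (tt N14025 (iv3 D46107)) (tt N35629 (iv4 F327634)) (tt N53030 D98632) (tt N36802 (iv6 F327833)) (tt N35628 F327326))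
theorem Q28119 : ∀ i, i < 28119 → P i := stepQ 28118 Q28118 (allL N28118 (tt N28116 (iv1 F72686)) (tt N28115 F72690) (tt N28119 (iv2 F72687)) (tt N53030 (iv3 F152023)) (tt N26111 F72684) (tt N14025 (iv5 D46108)) (tt N53031 D98634) (tt N26110 F72685))
theorem Q28120 : ∀ i, i < 28120 → P i := stepQ 28119 Q28119 (allL N28119 (tt N49531 (iv1 F136778)) (tt N49530 F136775) (tt N28118 F72687) (tt N35628 (iv3 F326582)) (tt N14026 F72688) (tt N26110 F72689) (tt N35630 F325753) (tt N14025 (iv7 D46109)))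
theorem Q28121 : ∀ i, i < 28121 → P i := stepQ 28120 Q28120 (allL N28120 (tt N25684 (iv1 F72691)) (tt N14027 (iv0 D46111)) (tt N48657 F295379) (tt N53032 D98639) (tt N53033 D98640) (tt N53034 D98641) (tt N26864 F294808) (tt N48658 F295380))
theorem Q28122 : ∀ i, i < 28122 → P i := stepQ 28121 Q28121 (allL N28121 (tt N53035 D98646) (tt N53036 D98647) (tt N48659 F294450) (tt N14028 F72693) (tt N53037 D98648) (tt N14027 (iv5 D46113)) (tt N53038 D98649) (tt N49533 (iv7 F136789)))
theorem Q28123 : ∀ i, i < 28123 → P i := stepQ 28122 Q28122 (allL N28122 (tt N53039 D98650) (tt N53040 D98651) (tt N29234 F294716) (tt N14029 F72694) (tt N28122 F72695) (tt N28677 (iv5 F74353)) (tt N14027 (iv6 D46114)) (tt N50431 (iv7 F291835)))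
theorem Q28124 : ∀ i, i < 28124 → P i := stepQ 28123 Q28123 (allL N28123 (tt N29037 (iv1 F74852)) (tt N37679 F327925) (tt N27573 F72696) (tt N53041 D98653) (tt N14028 (iv4 D46115)) (tt N28116 F72697) (tt N53042 D98654) (tt N49535 (iv7 F136795)))
theorem Q28125 : ∀ i, i < 28125 → P i := stepQ 28124 Q28124 (allL N28124 (tt N53043 D98655) (tt N53044 D98656) (tt N27574 F72698) (tt N53038 (iv3 F152080)) (tt N53042 (iv4 F152085)) (tt N28678 (iv5 F74354)) (tt N14028 (iv6 D46116)) (tt N53045 D98657))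
theorem Q28126 : ∀ i, i < 28126 → P i := stepQ 28125 Q28125 (allL N28125 (tt N14029 (iv1 D46118)) (tt N26723 F291489) (tt N27576 (iv2 F73003)) (tt N53046 D98658) (tt N28371 F291490) (tt N29325 (iv5 F75643)) (tt N14397 (iv6 F72700)) (tt N27575 F73006))
theorem Q28127 : ∀ i, i < 28127 → P i := stepQ 28126 Q28126 (allL N28126 (tt N48629 F294409) (tt N28302 (iv0 F251749)) (tt N27667 F294410) (tt N14030 (iv3 D46120)) (tt N28126 F72706) (tt N53047 D98662) (tt N50207 (iv6 F291503)) (tt N28458 F73891))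
theorem Q28128 : ∀ i, i < 28128 → P i := stepQ 28127 Q28127 (allL N28127 (tt N26150 F72709) (tt N24437 F72710) (tt N26147 F72707) (tt N53047 (iv3 F152100)) (tt N28115 F72711) (tt N14030 (iv5 D46121)) (tt N53048 D98664) (tt N26148 F72708))
theorem Q28129 : ∀ i, i < 28129 → P i := stepQ 28128 Q28128 (allL N28128 (tt N27100 F72745) (tt N27103 F72744) (tt N43507 (iv2 F109125)) (tt N25534 F72743) (tt N14031 (iv4 D46131)) (tt N43506 F109124) (tt N53049 D98684) (tt N49379 (iv7 F136184)))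
theorem Q28130 : ∀ i, i < 28130 → P i := stepQ 28129 Q28129 (allL N28129 (tt N50020 (iv1 F333370)) (tt N26823 (iv0 F333371)) (tt N49479 (iv2 F136650)) (tt N51237 (iv3 F144544)) (tt N53049 (iv4 F152155)) (tt N42966 (iv5 F107819)) (tt N14031 (iv6 D46132)) (tt N50019 (iv7 F349339)))
theorem Q28131 : ∀ i, i < 28131 → P i := stepQ 28130 Q28130 (allL N28130 (tt N26796 (iv1 F337227)) (tt N49805 (iv0 F337228)) (tt N44008 (iv2 F315373)) (tt N49479 (iv3 F136651)) (tt N43930 F306705) (tt N42448 (iv5 F106192)) (tt N14032 (iv6 D46133)) (tt N49804 (iv7 F349332)))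
theorem Q28132 : ∀ i, i < 28132 → P i := stepQ 28131 Q28131 (allL N28131 (tt N50484 F293116) (tt N50483 F293117) (tt N14035 F72746) (tt N26814 F72747) (tt N14049 F72748) (tt N43102 (iv5 F108129)) (tt N14033 (iv6 D46134)) (tt N50485 F293118))
theorem Q28133 : ∀ i, i < 28133 → P i := stepQ 28132 Q28132 (allL N28132 (tt N33654 (iv1 F85371)) (tt N14034 (iv0 D46135)) (tt N36304 (iv2 F94333)) (tt N29873 (iv3 F77505)) (tt N19474 F72751) (tt N14202 F72750) (tt N29870 F77500) (tt N29724 F77089))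
theorem Q28134 : ∀ i, i < 28134 → P i := stepQ 28133 Q28133 (allL N28133 (tt N14034 (iv1 D46136)) (tt N33654 (iv0 F85372)) (tt N29724 (iv2 F77087)) (tt N36304 (iv3 F94334)) (tt N19473 (iv4 F72753)) (tt N14203 F72752) (tt N29714 F77067) (tt N36304 (iv7 F94336)))
theorem Q28135 : ∀ i, i < 28135 → P i := stepQ 28134 Q28134 (allL N28134 (tt N50485 F293120) (tt N14035 (iv0 D46137)) (tt N50484 (iv2 F344280)) (tt N51243 F144565) (tt N53050 D98692) (tt N53051 D98693) (tt N53052 D98694) (tt N50483 (iv7 F344285)))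
theorem Q28136 : ∀ i, i < 28136 → P i := stepQ 28135 Q28135 (allL N28135 (tt N14035 (iv1 D46138)) (tt N50485 F293121) (tt N50483 (iv2 F344284)) (tt N49482 (iv3 F152162)) (tt N53053 D98697) (tt N53054 D98698) (tt N53055 D98699) (tt N50484 (iv7 F344281)))
theorem Q28137 : ∀ i, i < 28137 → P i := stepQ 28136 Q28136 (allL N28136 (tt N53056 D98700) (tt N53057 D98701) (tt N43102 (iv2 F108128)) (tt N14037 F72754) (tt N53058 D98702) (tt N14035 (iv5 D46139)) (tt N43008 (iv6 F107924)) (tt N50486 (iv7 F292423)))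
theorem Q28138 : ∀ i, i < 28138 → P i := stepQ 28137 Q28137 (allL N28137 (tt N53059 D98703) (tt N38199 (iv0 F97636)) (tt N50009 (iv2 F138532)) (tt N43008 (iv3 F107923)) (tt N53060 D98704) (tt N14036 (iv5 D46140)) (tt N14037 F72755) (tt N43112 (iv7 F108147)))
theorem Q28139 : ∀ i, i < 28139 → P i := stepQ 28138 Q28138 (allL N28138 (tt N27252 (iv1 F74901)) (tt N27255 F72756) (tt N44698 (iv2 F292216)) (tt N53061 D98707) (tt N14037 (iv4 D46142)) (tt N24893 (iv5 F292606)) (tt N53060 (iv6 F152168)) (tt N44697 (iv7 F292424)))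
theorem Q28140 : ∀ i, i < 28140 → P i := stepQ 28139 Q28139 (allL N28139 (tt N42723 (iv1 F296789)) (tt N46348 (iv0 F296790)) (tt N14042 F72853) (tt N44758 (iv3 F113369)) (tt N22031 F299179) (tt N53062 D98758) (tt N14041 (iv6 D46185)) (tt N46349 (iv7 F296759)))
theorem Q28141 : ∀ i, i < 28141 → P i := stepQ 28140 Q28140 (allL N28140 (tt N46349 (iv1 F296758)) (tt N14042 (iv0 D46186)) (tt N42723 (iv2 F296760)) (tt N42113 F304913) (tt N38369 F304570) (tt N42110 (iv5 F306846)) (tt N38091 (iv6 F306583)) (tt N46348 (iv7 F296776)))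
theorem Q28142 : ∀ i, i < 28142 → P i := stepQ 28141 Q28141 (allL N28141 (tt N14042 (iv1 D46187)) (tt N46349 (iv0 F296757)) (tt N46348 (iv2 F296775)) (tt N18514 (iv3 F296777)) (tt N21839 (iv4 F296778)) (tt N44596 F308217) (tt N53063 D98769) (tt N42723 (iv7 F296761)))
theorem Q28143 : ∀ i, i < 28143 → P i := stepQ 28142 Q28142 (allL N28142 (tt N53064 D98770) (tt N53065 D98771) (tt N53062 (iv2 F152246)) (tt N14043 F72855) (tt N53066 D98772) (tt N14042 (iv5 D46188)) (tt N23551 F72856) (tt N46350 (iv7 F296811)))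
theorem Q28144 : ∀ i, i < 28144 → P i := stepQ 28143 Q28143 (allL N28143 (tt N27999 F72914) (tt N28002 F72913) (tt N25613 F72911) (tt N14045 F72912) (tt N53067 D98847) (tt N14044 (iv5 D46259)) (tt N53068 D98848) (tt N28492 (iv7 F74065)))
theorem Q28145 : ∀ i, i < 28145 → P i := stepQ 28144 Q28144 (allL N28144 (tt N53069 D98849) (tt N53070 D98850) (tt N25614 F72923) (tt N14046 F72924) (tt N27787 F72925) (tt N53071 D98851) (tt N14044 (iv6 D46260)) (tt N53072 D98852))
theorem Q28146 : ∀ i, i < 28146 → P i := stepQ 28145 Q28145 (allL N28145 (tt N45288 (iv1 F115033)) (tt N45287 F115030) (tt N28495 (iv2 F74070)) (tt N45331 (iv3 F115307)) (tt N14045 (iv4 D46261)) (tt N45256 (iv5 F114941)) (tt N53073 D98853) (tt N28493 (iv7 F74067)))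
theorem Q28147 : ∀ i, i < 28147 → P i := stepQ 28146 Q28146 (allL N28146 (tt N34805 (iv1 F304678)) (tt N43549 (iv0 F304489)) (tt N28496 (iv2 F74073)) (tt N53068 (iv3 F152399)) (tt N53073 (iv4 F152411)) (tt N53074 D98856) (tt N14045 (iv6 D46262)) (tt N43547 (iv7 F303352)))
theorem Q28148 : ∀ i, i < 28148 → P i := stepQ 28147 Q28147 (allL N28147 (tt N49490 (iv1 F136688)) (tt N14046 (iv0 D46263)) (tt N49290 (iv2 F136451)) (tt N34801 F335601) (tt N50020 (iv4 F138572)) (tt N53075 D98858) (tt N49825 (iv6 F137344)) (tt N49488 (iv7 F136670)))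
theorem Q28149 : ∀ i, i < 28149 → P i := stepQ 28148 Q28148 (allL N28148 (tt N53076 D98859) (tt N52896 (iv0 F151789)) (tt N49489 (iv2 F136681)) (tt N53071 (iv3 F152405)) (tt N53077 D98860) (tt N14046 (iv5 D46265)) (tt N53074 (iv6 F152412)) (tt N53078 D98861))
theorem Q28150 : ∀ i, i < 28150 → P i := stepQ 28149 Q28149 (allL N28149 (tt N49488 (iv1 F136669)) (tt N49290 F136672) (tt N49490 (iv2 F136683)) (tt N53072 (iv3 F152407)) (tt N45122 (iv4 F114567)) (tt N53078 (iv5 F152413)) (tt N49423 F136306) (tt N14046 (iv7 D46266)))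
theorem Q28151 : ∀ i, i < 28151 → P i := stepQ 28150 Q28150 (allL N28150 (tt N43926 (iv1 F307548)) (tt N40967 F316947) (tt N49487 (iv2 F136667)) (tt N25617 F72927) (tt N42626 (iv4 F307552)) (tt N14048 (iv5 D46269)) (tt N42625 F305529) (tt N49809 (iv7 F137310)))
theorem Q28152 : ∀ i, i < 28152 → P i := stepQ 28151 Q28151 (allL N28151 (tt N50497 F294920) (tt N50496 F294921) (tt N14056 F72931) (tt N46754 (iv3 F126449)) (tt N53079 D98872) (tt N14049 (iv5 D46271)) (tt N47839 (iv6 F129904)) (tt N50495 F294922))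
theorem Q28153 : ∀ i, i < 28153 → P i := stepQ 28152 Q28152 (allL N28152 (tt N24690 (iv1 F75433)) (tt N24694 (iv0 F72937)) (tt N25628 F72935) (tt N14050 (iv3 D46273)) (tt N28762 (iv4 F74490)) (tt N14215 F72936) (tt N53080 D98874) (tt N47835 (iv7 F129889)))
theorem Q28154 : ∀ i, i < 28154 → P i := stepQ 28153 Q28153 (allL N28153 (tt N45281 (iv1 F115014)) (tt N45278 (iv0 F115000)) (tt N47833 (iv2 F129880)) (tt N17686 F72938) (tt N14050 (iv4 D46274)) (tt N42631 (iv5 F106728)) (tt N53081 D98875) (tt N47836 (iv7 F129896)))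
theorem Q28155 : ∀ i, i < 28155 → P i := stepQ 28154 Q28154 (allL N28154 (tt N35252 F351761) (tt N52942 (iv0 F351769)) (tt N47834 (iv2 F129885)) (tt N53080 (iv3 F152437)) (tt N53081 (iv4 F152439)) (tt N53082 D98878) (tt N14050 (iv6 D46275)) (tt N53083 D98879))
theorem Q28156 : ∀ i, i < 28156 → P i := stepQ 28155 Q28155 (allL N28155 (tt N45278 (iv1 F115001)) (tt N45281 (iv0 F115013)) (tt N47836 (iv2 F129893)) (tt N43847 (iv3 F304371)) (tt N14051 (iv4 D46276)) (tt N33655 (iv5 F85373)) (tt N43845 (iv6 F304372)) (tt N47833 (iv7 F129881)))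
theorem Q28157 : ∀ i, i < 28157 → P i := stepQ 28156 Q28156 (allL N28156 (tt N53084 D98886) (tt N35395 (iv0 F128808)) (tt N34960 (iv2 F90539)) (tt N47429 (iv3 F128797)) (tt N14053 F72940) (tt N53085 D98887) (tt N14052 (iv6 D46278)) (tt N53086 D98888))
theorem Q28158 : ∀ i, i < 28158 → P i := stepQ 28157 Q28157 (allL N28157 (tt N35464 (iv1 F92428)) (tt N14053 (iv0 D46279)) (tt N47837 (iv2 F281938)) (tt N53087 D98890) (tt N53088 D98891) (tt N53089 D98892) (tt N53084 (iv6 F312924)) (tt N47838 F281937))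
theorem Q28159 : ∀ i, i < 28159 → P i := stepQ 28158 Q28158 (allL N28158 (tt N14053 (iv1 D46280)) (tt N35464 F92427) (tt N47838 F281936) (tt N25631 F281930) (tt N53090 D98896) (tt N53091 D98897) (tt N53092 D98898) (tt N47837 (iv7 F281939)))
theorem Q28160 : ∀ i, i < 28160 → P i := stepQ 28159 Q28159 (allL N28159 (tt N53093 D98899) (tt N53094 D98900) (tt N47839 (iv2 F129902)) (tt N14059 F72941) (tt N53095 D98901) (tt N14053 (iv5 D46281)) (tt N14056 F72942) (tt N53096 D98902))
theorem Q28161 : ∀ i, i < 28161 → P i := stepQ 28160 Q28160 (allL N28160 (tt N47838 (iv1 F129901)) (tt N47837 F129900) (tt N35464 (iv2 F92425)) (tt N14060 F72943) (tt N53086 (iv4 F152449)) (tt N53096 (iv5 F152455)) (tt N49496 (iv6 F136704)) (tt N14053 (iv7 D46282)))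
theorem Q28162 : ∀ i, i < 28162 → P i := stepQ 28161 Q28161 (allL N28161 (tt N52134 (iv1 F147740)) (tt N51843 (iv0 F157242)) (tt N25634 F72944) (tt N14054 (iv3 D46283)) (tt N51141 (iv4 F295190)) (tt N53097 D98903) (tt N53098 D98904) (tt N50491 F294923))
theorem Q28163 : ∀ i, i < 28163 → P i := stepQ 28162 Q28162 (allL N28162 (tt N50797 (iv1 F293380)) (tt N26672 F292360) (tt N50494 (iv2 F294363)) (tt N53097 (iv3 F152457)) (tt N53099 D98907) (tt N14054 (iv5 D46284)) (tt N53100 D98908) (tt N50493 F294360))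
theorem Q28164 : ∀ i, i < 28164 → P i := stepQ 28163 Q28163 (allL N28163 (tt N42917 (iv1 F328902)) (tt N27006 F292684) (tt N49814 F137318) (tt N53098 (iv3 F152459)) (tt N51326 (iv4 F144728)) (tt N42922 F328508) (tt N14054 (iv6 D46285)) (tt N49813 (iv7 F286041)))
theorem Q28165 : ∀ i, i < 28165 → P i := stepQ 28164 Q28164 (allL N28164 (tt N26672 F292361) (tt N50797 (iv0 F293379)) (tt N50493 F294364) (tt N25637 F72945) (tt N53101 D98913) (tt N14055 (iv5 D46286)) (tt N53102 D98914) (tt N50494 F294365))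
theorem Q28166 : ∀ i, i < 28166 → P i := stepQ 28165 Q28165 (allL N28165 (tt N49429 F136340) (tt N49825 (iv0 F157697)) (tt N49823 F137342) (tt N25638 F72946) (tt N51260 (iv4 F144607)) (tt N29025 (iv5 F153686)) (tt N14055 (iv6 D46287)) (tt N49824 (iv7 F137341)))
theorem Q28167 : ∀ i, i < 28167 → P i := stepQ 28166 Q28166 (allL N28166 (tt N50495 F294926) (tt N14056 (iv0 D46288)) (tt N50497 (iv2 F294856)) (tt N53103 D98917) (tt N53104 D98918) (tt N26834 F293386) (tt N53105 D98920) (tt N50496 (iv7 F294855)))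
theorem Q28168 : ∀ i, i < 28168 → P i := stepQ 28167 Q28167 (allL N28167 (tt N14056 (iv1 D46289)) (tt N50495 F294927) (tt N50496 (iv2 F294853)) (tt N25640 F139514) (tt N53106 D98921) (tt N26835 F293396) (tt N53107 D98922) (tt N50497 (iv7 F294859)))
theorem Q28169 : ∀ i, i < 28169 → P i := stepQ 28168 Q28168 (allL N28168 (tt N53108 D98923) (tt N53109 D98924) (tt N53079 (iv2 F152431)) (tt N51145 (iv3 F295308)) (tt N14056 (iv4 D46290)) (tt N53110 D98926) (tt N53095 (iv6 F152453)) (tt N50498 F294928))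
theorem Q28170 : ∀ i, i < 28170 → P i := stepQ 28169 Q28169 (allL N28169 (tt N53111 D98935) (tt N42538 (iv0 F232559)) (tt N53112 D98937) (tt N14057 (iv3 D46293)) (tt N37556 (iv4 F323251)) (tt N53113 D98939) (tt N37555 F321532) (tt N49465 (iv7 F272717)))
theorem Q28171 : ∀ i, i < 28171 → P i := stepQ 28170 Q28170 (allL N28170 (tt N24463 (iv1 F155168)) (tt N22974 F155165) (tt N24460 (iv2 F272696)) (tt N37560 F313515) (tt N14057 (iv4 D46294)) (tt N53114 D98945) (tt N37559 (iv6 F315078)) (tt N24461 (iv7 F272700)))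
theorem Q28172 : ∀ i, i < 28172 → P i := stepQ 28171 Q28171 (allL N28171 (tt N48188 F286852) (tt N53115 D98949) (tt N49463 (iv2 F272713)) (tt N53113 (iv3 F152481)) (tt N53116 D98950) (tt N14057 (iv5 D46295)) (tt N53117 D98951) (tt N49466 (iv7 F272719)))
theorem Q28173 : ∀ i, i < 28173 → P i := stepQ 28172 Q28172 (allL N28172 (tt N35188 (iv1 F310440)) (tt N47429 F310425) (tt N49464 (iv2 F272715)) (tt N37555 (iv3 F319570)) (tt N37559 F317269) (tt N53118 D98955) (tt N14057 (iv6 D46296)) (tt N53119 D98956))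
theorem Q28174 : ∀ i, i < 28174 → P i := stepQ 28173 Q28173 (allL N28173 (tt N52847 (iv1 F354650)) (tt N53120 D98959) (tt N53121 D98960) (tt N14058 (iv3 D46298)) (tt N53122 D98961) (tt N53123 D98962) (tt N53124 D98963) (tt N49462 (iv7 F272712)))
theorem Q28175 : ∀ i, i < 28175 → P i := stepQ 28174 Q28174 (allL N28174 (tt N22974 F155166) (tt N24463 (iv0 F155167)) (tt N24461 F272701) (tt N53125 D98964) (tt N14058 (iv4 D46299)) (tt N53126 D98965) (tt N53127 D98966) (tt N24460 F272702))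
theorem Q28176 : ∀ i, i < 28176 → P i := stepQ 28175 Q28175 (allL N28175 (tt N53115 (iv1 F152492)) (tt N48188 F286851) (tt N49466 (iv2 F272718)) (tt N53123 (iv3 F152499)) (tt N53128 D98967) (tt N14058 (iv5 D46300)) (tt N51233 (iv6 F294629)) (tt N49463 (iv7 F272714)))
theorem Q28177 : ∀ i, i < 28177 → P i := stepQ 28176 Q28176 (allL N28176 (tt N53129 D98969) (tt N48199 F311782) (tt N49467 (iv2 F272720)) (tt N53124 (iv3 F152500)) (tt N53127 (iv4 F152501)) (tt N53130 D98971) (tt N14058 (iv6 D46301)) (tt N53131 D98972))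
theorem Q28178 : ∀ i, i < 28178 → P i := stepQ 28177 Q28177 (allL N28177 (tt N48172 (iv1 F131708)) (tt N14059 (iv0 D46302)) (tt N49468 (iv2 F275019)) (tt N53132 D98974) (tt N50500 (iv4 F295469)) (tt N53133 D98976) (tt N53134 D98977) (tt N49469 (iv7 F275017)))
theorem Q28179 : ∀ i, i < 28179 → P i := stepQ 28178 Q28178 (allL N28178 (tt N14059 (iv1 D46303)) (tt N48172 F131707) (tt N49469 (iv2 F275016)) (tt N53135 D98979) (tt N50501 (iv4 F295470)) (tt N28425 (iv5 F73853)) (tt N53136 D98981) (tt N49468 (iv7 F275021)))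
theorem Q28180 : ∀ i, i < 28180 → P i := stepQ 28179 Q28179 (allL N28179 (tt N49469 (iv1 F136530)) (tt N49468 F136529) (tt N48172 (iv2 F131704)) (tt N53096 (iv3 F152454)) (tt N51153 (iv4 F295483)) (tt N14060 F72952) (tt N50502 F295368) (tt N14059 (iv7 D46305)))
theorem Q28181 : ∀ i, i < 28181 → P i := stepQ 28180 Q28180 (allL N28180 (tt N49470 (iv1 F136552)) (tt N25529 F72954) (tt N14061 (iv2 D46307)) (tt N49343 F294630) (tt N27870 F72953) (tt N53137 D98988) (tt N53138 D98989) (tt N49471 (iv7 F136554)))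
theorem Q28182 : ∀ i, i < 28182 → P i := stepQ 28181 Q28181 (allL N28181 (tt N49184 F135324) (tt N53139 D98990) (tt N53137 (iv2 F152508)) (tt N14062 F72955) (tt N53140 D98991) (tt N14061 (iv5 D46308)) (tt N53141 D98992) (tt N49472 (iv7 F136559)))
theorem Q28183 : ∀ i, i < 28183 → P i := stepQ 28182 Q28182 (allL N28182 (tt N49874 F139759) (tt N53142 D98993) (tt N53138 (iv2 F152509)) (tt N14063 F72956) (tt N27872 F72957) (tt N28452 (iv5 F73881)) (tt N14061 (iv6 D46309)) (tt N49821 (iv7 F137325)))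
theorem Q28184 : ∀ i, i < 28184 → P i := stepQ 28183 Q28183 (allL N28183 (tt N53143 D99001) (tt N53144 D99002) (tt N49345 F294283) (tt N53141 (iv3 F152512)) (tt N49474 (iv4 F294988)) (tt N28454 (iv5 F73883)) (tt N14062 (iv6 D46315)) (tt N53145 D99003))
theorem Q28185 : ∀ i, i < 28185 → P i := stepQ 28184 Q28184 (allL N28184 (tt N14064 (iv1 D46318)) (tt N49343 (iv0 F293935)) (tt N49341 F294782) (tt N52134 F150063) (tt N53146 D99007) (tt N53147 D99008) (tt N49518 (iv6 F157614)) (tt N49342 F294783))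
theorem Q28186 : ∀ i, i < 28186 → P i := stepQ 28185 Q28185 (allL N28185 (tt N49342 (iv1 F293934)) (tt N49341 (iv0 F293933)) (tt N14064 (iv2 D46319)) (tt N49471 (iv3 F136553)) (tt N27269 F72973) (tt N53148 D99010) (tt N53149 D99011) (tt N49343 (iv7 F293937)))
theorem Q28187 : ∀ i, i < 28187 → P i := stepQ 28186 Q28186 (allL N28186 (tt N53150 D99012) (tt N53151 D99013) (tt N53148 (iv2 F152548)) (tt N14065 F72974) (tt N53152 D99014) (tt N14064 (iv5 D46320)) (tt N53153 D99015) (tt N49344 (iv7 F293938)))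
theorem Q28188 : ∀ i, i < 28188 → P i := stepQ 28187 Q28187 (allL N28187 (tt N53154 D99016) (tt N53155 D99017) (tt N53149 (iv2 F152549)) (tt N14066 F72975) (tt N27271 F72976) (tt N28981 (iv5 F74730)) (tt N14064 (iv6 D46321)) (tt N49795 (iv7 F137265)))
theorem Q28189 : ∀ i, i < 28189 → P i := stepQ 28188 Q28188 (allL N28188 (tt N51177 (iv1 F368002)) (tt N51181 (iv0 F367993)) (tt N49474 (iv2 F136563)) (tt N53153 (iv3 F152551)) (tt N49345 (iv4 F294987)) (tt N28983 (iv5 F74735)) (tt N14065 (iv6 D46323)) (tt N53156 D99023))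
theorem Q28190 : ∀ i, i < 28190 → P i := stepQ 28189 Q28189 (allL N28189 (tt N51445 F145004) (tt N52870 (iv0 F284559)) (tt N53157 D99025) (tt N14067 (iv3 D46325)) (tt N53158 D99026) (tt N26832 F293094) (tt N41866 F346313) (tt N49477 (iv7 F136570)))
theorem Q28191 : ∀ i, i < 28191 → P i := stepQ 28190 Q28190 (allL N28190 (tt N53159 D99032) (tt N53160 D99033) (tt N49476 (iv2 F136568)) (tt N41866 (iv3 F346312)) (tt N49478 (iv4 F294986)) (tt N41865 F346311) (tt N14067 (iv6 D46328)) (tt N53161 D99034))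
theorem Q28192 : ∀ i, i < 28192 → P i := stepQ 28191 Q28191 (allL N28191 (tt N52848 (iv1 F177443)) (tt N53147 (iv0 F363583)) (tt N53162 D99037) (tt N14068 (iv3 D46329)) (tt N53163 D99038) (tt N26833 F292416) (tt N53164 D99040) (tt N49475 (iv7 F136564)))
theorem Q28193 : ∀ i, i < 28193 → P i := stepQ 28192 Q28192 (allL N28192 (tt N53165 D99044) (tt N53166 D99045) (tt N49478 (iv2 F136574)) (tt N53164 (iv3 F152569)) (tt N49476 (iv4 F294578)) (tt N53167 D99046) (tt N14068 (iv6 D46332)) (tt N53168 D99047))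
theorem Q28194 : ∀ i, i < 28194 → P i := stepQ 28193 Q28193 (allL N28193 (tt N14069 (iv1 D46340)) (tt N25643 F72991) (tt N26864 F294794) (tt N53169 D99066) (tt N53170 D99067) (tt N50163 (iv5 F295171)) (tt N48657 F295386) (tt N26865 F294795))
theorem Q28195 : ∀ i, i < 28195 → P i := stepQ 28194 Q28194 (allL N28194 (tt N53171 D99074) (tt N53172 D99075) (tt N51447 (iv2 F145010)) (tt N14070 F72993) (tt N28194 F72994) (tt N28876 (iv5 F74591)) (tt N14069 (iv6 D46342)) (tt N49794 (iv7 F137264)))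
theorem Q28196 : ∀ i, i < 28196 → P i := stepQ 28195 Q28195 (allL N28195 (tt N26338 (iv1 F73000)) (tt N14070 (iv0 D46345)) (tt N14397 (iv2 F72999)) (tt N53173 D99081) (tt N25550 F72998) (tt N14132 F72997) (tt N27576 F73002) (tt N14401 F73001))
theorem Q28197 : ∀ i, i < 28197 → P i := stepQ 28196 Q28196 (allL N28196 (tt N25700 F73263) (tt N25901 F134635) (tt N25752 F73260) (tt N14072 F73261) (tt N14513 F73262) (tt N53174 D99284) (tt N14071 (iv6 D46423)) (tt N25900 (iv7 F73264)))
theorem Q28198 : ∀ i, i < 28198 → P i := stepQ 28197 Q28197 (allL N28197 (tt N49793 (iv1 F137260)) (tt N49428 (iv0 F136329)) (tt N14160 F73266) (tt N53174 (iv3 F152852)) (tt N53175 D99285) (tt N14072 (iv5 D46424)) (tt N49461 (iv6 F136519)) (tt N49791 (iv7 F137250)))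
theorem Q28199 : ∀ i, i < 28199 → P i := stepQ 28198 Q28198 (allL N28198 (tt N47841 F289800) (tt N14475 F74047) (tt N14217 F73267) (tt N51700 (iv3 F147047)) (tt N26914 F73268) (tt N53176 D99286) (tt N14073 (iv6 D46425)) (tt N52741 (iv7 F151055)))
theorem Q28200 : ∀ i, i < 28200 → P i := stepQ 28199 Q28199 (allL N28199 (tt N25763 F135038) (tt N51093 (iv0 F292310)) (tt N14076 F73269) (tt N14168 F73270) (tt N50866 (iv4 F142816)) (tt N21891 F328065) (tt N14074 (iv6 D46426)) (tt N40128 (iv7 F328510)))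
theorem Q28201 : ∀ i, i < 28201 → P i := stepQ 28200 Q28200 (allL N28200 (tt N22255 (iv1 F73275)) (tt N22168 (iv0 F73274)) (tt N17651 F73271) (tt N28030 (iv3 F300536)) (tt N14075 (iv4 D46427)) (tt N23337 F73273) (tt N53177 D99290) (tt N14222 F73272))
theorem Q28202 : ∀ i, i < 28202 → P i := stepQ 28201 Q28201 (allL N28201 (tt N53178 D99291) (tt N53179 D99292) (tt N24395 F73276) (tt N14077 F73277) (tt N53177 (iv4 F152876)) (tt N53180 D99293) (tt N14075 (iv6 D46428)) (tt N53181 D99294))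
theorem Q28203 : ∀ i, i < 28203 → P i := stepQ 28202 Q28202 (allL N28202 (tt N40128 F328870) (tt N14076 (iv0 D46429)) (tt N25763 (iv2 F73281)) (tt N53182 D99295) (tt N26948 F73282) (tt N42916 (iv5 F329202)) (tt N52302 (iv6 F293581)) (tt N51093 (iv7 F292315)))
theorem Q28204 : ∀ i, i < 28204 → P i := stepQ 28203 Q28203 (allL N28203 (tt N14076 (iv1 D46430)) (tt N40128 F328871) (tt N51093 (iv2 F292311)) (tt N14614 (iv3 F73278)) (tt N26848 (iv4 F73279)) (tt N22547 (iv5 F329203)) (tt N49158 (iv6 F135271)) (tt N25763 F73280))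
theorem Q28205 : ∀ i, i < 28205 → P i := stepQ 28204 Q28204 (allL N28204 (tt N40127 (iv1 F328485)) (tt N34360 (iv0 F328486)) (tt N21891 F328060) (tt N14079 F73283) (tt N21890 (iv4 F328487)) (tt N14076 (iv5 D46431)) (tt N53180 (iv6 F152880)) (tt N40122 (iv7 F328488)))
theorem Q28206 : ∀ i, i < 28206 → P i := stepQ 28205 Q28205 (allL N28205 (tt N14181 (iv1 F73293)) (tt N14077 (iv0 D46433)) (tt N14178 (iv2 F274996)) (tt N53183 D99304) (tt N24661 F155515) (tt N53184 D99306) (tt N53185 D99307) (tt N14179 F274994))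
theorem Q28207 : ∀ i, i < 28207 → P i := stepQ 28206 Q28206 (allL N28206 (tt N14077 (iv1 D46434)) (tt N14181 F73288) (tt N14179 F274993) (tt N53186 D99309) (tt N24662 F155511) (tt N53187 D99311) (tt N53188 D99312) (tt N14178 (iv7 F274997)))
theorem Q28208 : ∀ i, i < 28208 → P i := stepQ 28207 Q28207 (allL N28207 (tt N53189 D99313) (tt N52960 (iv0 F151926)) (tt N14180 F73289) (tt N53180 (iv3 F152879)) (tt N53190 D99314) (tt N14077 (iv5 D46435)) (tt N14079 F73290) (tt N53191 D99315))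
theorem Q28209 : ∀ i, i < 28209 → P i := stepQ 28208 Q28208 (allL N28208 (tt N14179 (iv1 F73294)) (tt N14178 F73295) (tt N14181 F73291) (tt N53181 (iv3 F152882)) (tt N46957 (iv4 F127871)) (tt N53191 (iv5 F152915)) (tt N14231 F73292) (tt N14077 (iv7 D46436)))
theorem Q28210 : ∀ i, i < 28210 → P i := stepQ 28209 Q28209 (allL N28209 (tt N25758 F73298) (tt N25753 F73864) (tt N25756 F73299) (tt N14078 (iv3 D46437)) (tt N14527 F73296) (tt N53192 D99316) (tt N48653 F294474) (tt N14185 F73297))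
theorem Q28211 : ∀ i, i < 28211 → P i := stepQ 28210 Q28210 (allL N28210 (tt N27002 F292692) (tt N27007 F292693) (tt N14183 F73300) (tt N53192 (iv3 F152920)) (tt N53193 D99317) (tt N14078 (iv5 D46438)) (tt N53025 (iv6 F152020)) (tt N14186 F73301))
theorem Q28212 : ∀ i, i < 28212 → P i := stepQ 28211 Q28211 (allL N28211 (tt N14191 (iv1 F73308)) (tt N14079 (iv0 D46439)) (tt N14188 F73313) (tt N53194 D99318) (tt N28628 (iv4 F74299)) (tt N26279 F73311) (tt N53195 D99319) (tt N14189 F73310))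
theorem Q28213 : ∀ i, i < 28213 → P i := stepQ 28212 Q28212 (allL N28212 (tt N14079 (iv1 D46440)) (tt N14191 F73302) (tt N14189 F73304) (tt N53196 D99320) (tt N28629 (iv4 F74295)) (tt N14213 F291851) (tt N53197 D99321) (tt N14188 (iv7 F73314)))
theorem Q28214 : ∀ i, i < 28214 → P i := stepQ 28213 Q28213 (allL N28213 (tt N50833 (iv1 F292958)) (tt N50853 (iv0 F292939)) (tt N14190 F73305) (tt N43860 (iv3 F329198)) (tt N14079 (iv4 D46441)) (tt N50845 (iv5 F291996)) (tt N53190 (iv6 F152913)) (tt N51046 (iv7 F292043)))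
theorem Q28215 : ∀ i, i < 28215 → P i := stepQ 28214 Q28214 (allL N28214 (tt N14106 F157767) (tt N51193 F143919) (tt N25772 F73316) (tt N14080 (iv3 D46443)) (tt N28214 F73317) (tt N53198 D99328) (tt N50520 (iv6 F292186)) (tt N14192 F73318))
theorem Q28216 : ∀ i, i < 28216 → P i := stepQ 28215 Q28215 (allL N28215 (tt N27013 F293215) (tt N27011 F293216) (tt N14196 F73319) (tt N53198 (iv3 F152954)) (tt N53199 D99330) (tt N14080 (iv5 D46444)) (tt N53200 D99331) (tt N14193 F73320))
theorem Q28217 : ∀ i, i < 28217 → P i := stepQ 28216 Q28216 (allL N28216 (tt N26968 F291338) (tt N26964 F291339) (tt N14198 F73326) (tt N53201 D99332) (tt N14081 (iv4 D46446)) (tt N50816 (iv5 F292123)) (tt N26808 (iv6 F292078)) (tt N14195 F73327))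
theorem Q28218 : ∀ i, i < 28218 → P i := stepQ 28217 Q28217 (allL N28217 (tt N40131 F329544) (tt N14084 (iv0 D46458)) (tt N28404 (iv2 F154177)) (tt N25717 (iv3 F73805)) (tt N28398 F73804) (tt N53202 D99350) (tt N27071 F294615) (tt N28408 (iv7 F154178)))
theorem Q28219 : ∀ i, i < 28219 → P i := stepQ 28218 Q28218 (allL N28218 (tt N14084 (iv1 D46459)) (tt N40131 F329543) (tt N28408 F154181) (tt N53203 D99353) (tt N28399 (iv4 F73798)) (tt N53204 D99354) (tt N29005 F289893) (tt N28404 F154182))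
theorem Q28220 : ∀ i, i < 28220 → P i := stepQ 28219 Q28219 (allL N28219 (tt N40130 F329822) (tt N40129 F329823) (tt N40132 F329824) (tt N14088 F73357) (tt N53205 D99358) (tt N14084 (iv5 D46460)) (tt N24398 F73358) (tt N40061 F329825))
theorem Q28221 : ∀ i, i < 28221 → P i := stepQ 28220 Q28220 (allL N28220 (tt N14231 (iv1 F73369)) (tt N14085 (iv0 D46462)) (tt N14228 F272809) (tt N53206 D99361) (tt N24608 F195692) (tt N53207 D99363) (tt N53208 D99364) (tt N14229 F272810))
theorem Q28222 : ∀ i, i < 28222 → P i := stepQ 28221 Q28221 (allL N28221 (tt N14085 (iv1 D46463)) (tt N14231 F73362) (tt N14229 (iv2 F272804)) (tt N37584 F309764) (tt N24609 F195696) (tt N53209 D99368) (tt N53210 D99369) (tt N14228 (iv7 F272808)))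
theorem Q28223 : ∀ i, i < 28223 → P i := stepQ 28222 Q28222 (allL N28222 (tt N53211 D99370) (tt N53118 (iv0 F152496)) (tt N14230 F73363) (tt N24398 F73364) (tt N53212 D99371) (tt N14085 (iv5 D46464)) (tt N14088 F73365) (tt N53213 D99372))
theorem Q28224 : ∀ i, i < 28224 → P i := stepQ 28223 Q28223 (allL N28223 (tt N14229 (iv1 F73370)) (tt N14228 F73371) (tt N14231 F73366) (tt N23099 (iv3 F91394)) (tt N46367 (iv4 F123110)) (tt N53213 (iv5 F153023)) (tt N14181 F73368) (tt N14085 (iv7 D46465)))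
theorem Q28225 : ∀ i, i < 28225 → P i := stepQ 28224 Q28224 (allL N28224 (tt N53214 D99373) (tt N50216 (iv0 F177353)) (tt N53215 D99375) (tt N14086 (iv3 D46466)) (tt N26855 F73372) (tt N53216 D99376) (tt N26833 F292417) (tt N14235 F73373))
theorem Q28226 : ∀ i, i < 28226 → P i := stepQ 28225 Q28225 (allL N28225 (tt N49841 (iv1 F137397)) (tt N49801 (iv0 F137273)) (tt N14234 F73374) (tt N53216 (iv3 F153039)) (tt N53217 D99377) (tt N14086 (iv5 D46467)) (tt N53167 (iv6 F152573)) (tt N14236 F73375))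
theorem Q28227 : ∀ i, i < 28227 → P i := stepQ 28226 Q28226 (allL N28226 (tt N14617 F73377) (tt N50631 F140426) (tt N50630 F140415) (tt N14087 (iv3 D46468)) (tt N29226 (iv4 F75372)) (tt N53218 D99378) (tt N29002 (iv6 F74788)) (tt N14232 F73376))
theorem Q28228 : ∀ i, i < 28228 → P i := stepQ 28227 Q28227 (allL N28227 (tt N49801 (iv1 F137274)) (tt N49841 (iv0 F137398)) (tt N14236 F73378) (tt N53218 (iv3 F153043)) (tt N53219 D99379) (tt N14087 (iv5 D46469)) (tt N53220 D99380) (tt N14234 F73379))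
theorem Q28229 : ∀ i, i < 28229 → P i := stepQ 28228 Q28228 (allL N28228 (tt N14241 (iv1 F73390)) (tt N14088 (iv0 D46470)) (tt N14238 F73394) (tt N53221 D99381) (tt N28679 (iv4 F74359)) (tt N26625 F291849) (tt N53222 D99382) (tt N14239 F73392))
theorem Q28230 : ∀ i, i < 28230 → P i := stepQ 28229 Q28229 (allL N28229 (tt N14088 (iv1 D46471)) (tt N14241 F73380) (tt N14239 F73382) (tt N53223 D99383) (tt N28680 (iv4 F74355)) (tt N26104 (iv5 F73381)) (tt N53224 D99384) (tt N14238 (iv7 F73395)))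
theorem Q28231 : ∀ i, i < 28231 → P i := stepQ 28230 Q28230 (allL N28230 (tt N53225 D99385) (tt N52165 (iv0 F147827)) (tt N14240 F73387) (tt N53226 D99386) (tt N14088 (iv4 D46472)) (tt N50126 (iv5 F291891)) (tt N53212 (iv6 F153020)) (tt N50385 (iv7 F293368)))
theorem Q28232 : ∀ i, i < 28232 → P i := stepQ 28231 Q28231 (allL N28231 (tt N14107 F73430) (tt N26521 F73431) (tt N25784 F73427) (tt N14089 (iv3 D46484)) (tt N14203 F73428) (tt N35350 (iv5 F92141)) (tt N53227 D99413) (tt N14282 F73429))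
theorem Q28233 : ∀ i, i < 28233 → P i := stepQ 28232 Q28232 (allL N28232 (tt N52731 (iv1 F290155)) (tt N14413 (iv0 F290156)) (tt N14286 F73432) (tt N53227 (iv3 F153121)) (tt N14283 F73433) (tt N53228 D99416) (tt N14089 (iv6 D46485)) (tt N52730 (iv7 F290162)))
theorem Q28234 : ∀ i, i < 28234 → P i := stepQ 28233 Q28233 (allL N28233 (tt N14125 (iv1 F290133)) (tt N14389 (iv0 F290134)) (tt N14283 F73434) (tt N25783 F73435) (tt N14286 F73436) (tt N53229 D99420) (tt N14090 (iv6 D46486)) (tt N14388 (iv7 F290136)))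
theorem Q28235 : ∀ i, i < 28235 → P i := stepQ 28234 Q28234 (allL N28234 (tt N53230 D99422) (tt N53231 D99423) (tt N14092 F73437) (tt N14261 F73438) (tt N25716 F73439) (tt N53232 D99424) (tt N14091 (iv6 D46487)) (tt N53233 D99425))
theorem Q28236 : ∀ i, i < 28236 → P i := stepQ 28235 Q28235 (allL N28235 (tt N53233 F153161) (tt N14092 (iv0 D46488)) (tt N53230 (iv2 F155655)) (tt N53234 D99427) (tt N14295 F143903) (tt N53235 D99428) (tt N50543 (iv6 F338425)) (tt N53231 (iv7 F155660)))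
theorem Q28237 : ∀ i, i < 28237 → P i := stepQ 28236 Q28236 (allL N28236 (tt N14092 (iv1 D46489)) (tt N53233 F153156) (tt N53231 (iv2 F155659)) (tt N51197 F153157) (tt N14296 F153158) (tt N53236 D99431) (tt N50556 (iv6 F344229)) (tt N53230 (iv7 F155656)))
theorem Q28238 : ∀ i, i < 28238 → P i := stepQ 28237 Q28237 (allL N28237 (tt N53237 D99433) (tt N53238 D99434) (tt N53232 (iv2 F153149)) (tt N14094 F73440) (tt N53239 D99435) (tt N14092 (iv5 D46490)) (tt N42767 (iv6 F107090)) (tt N51117 (iv7 F294232)))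
theorem Q28239 : ∀ i, i < 28239 → P i := stepQ 28238 Q28238 (allL N28238 (tt N53231 (iv1 F153147)) (tt N53230 (iv0 F153144)) (tt N53233 (iv2 F153152)) (tt N14095 F73441) (tt N25720 F73442) (tt N51117 (iv5 F294231)) (tt N14298 F73443) (tt N14092 (iv7 D46491)))
theorem Q28240 : ∀ i, i < 28240 → P i := stepQ 28239 Q28239 (allL N28239 (tt N14278 (iv1 F73449)) (tt N14093 (iv0 D46492)) (tt N14275 F156864) (tt N25813 (iv3 F155502)) (tt N46954 F155501) (tt N53240 D99440) (tt N53241 D99441) (tt N14276 F156865))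
theorem Q28241 : ∀ i, i < 28241 → P i := stepQ 28240 Q28240 (allL N28240 (tt N14093 (iv1 D46493)) (tt N14278 F73444) (tt N14276 (iv2 F156857)) (tt N53242 D99443) (tt N46955 (iv4 F155525)) (tt N53243 D99445) (tt N53244 D99446) (tt N14275 (iv7 F156863)))
theorem Q28242 : ∀ i, i < 28242 → P i := stepQ 28241 Q28241 (allL N28241 (tt N53245 D99447) (tt N53246 D99448) (tt N14277 F73445) (tt N42767 (iv3 F107089)) (tt N53247 D99449) (tt N14093 (iv5 D46494)) (tt N14094 F73446) (tt N53248 D99450))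
theorem Q28243 : ∀ i, i < 28243 → P i := stepQ 28242 Q28242 (allL N28242 (tt N14276 (iv1 F73450)) (tt N14275 F73451) (tt N14278 F73447) (tt N42768 (iv3 F107092)) (tt N46931 (iv4 F127789)) (tt N53248 (iv5 F153180)) (tt N14302 F73448) (tt N14093 (iv7 D46495)))
theorem Q28244 : ∀ i, i < 28244 → P i := stepQ 28243 Q28243 (allL N28243 (tt N28450 (iv1 F74301)) (tt N28453 (iv0 F73882)) (tt N14280 F73461) (tt N53249 D99454) (tt N14094 (iv4 D46498)) (tt N50822 (iv5 F291271)) (tt N53247 (iv6 F153178)) (tt N50994 (iv7 F293131)))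
theorem Q28245 : ∀ i, i < 28245 → P i := stepQ 28244 Q28244 (allL N28244 (tt N29245 F75432) (tt N29237 (iv0 F75416)) (tt N14257 F73466) (tt N14253 F73467) (tt N14096 (iv4 D46500)) (tt N53250 D99458) (tt N53251 D99459) (tt N14253 F73468))
theorem Q28246 : ∀ i, i < 28246 → P i := stepQ 28245 Q28245 (allL N28245 (tt N14374 (iv1 F289570)) (tt N14128 (iv0 F289571)) (tt N14259 F73469) (tt N25807 F73470) (tt N53251 (iv4 F153208)) (tt N53252 D99462) (tt N14096 (iv6 D46501)) (tt N14373 (iv7 F289578)))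
theorem Q28247 : ∀ i, i < 28247 → P i := stepQ 28246 Q28246 (allL N28246 (tt N29119 F75089) (tt N14103 F73514) (tt N25805 F73471) (tt N14097 (iv3 D46502)) (tt N25740 F73473) (tt N46140 (iv5 F121997)) (tt N53253 D99464) (tt N14256 F73472))
theorem Q28248 : ∀ i, i < 28248 → P i := stepQ 28247 Q28247 (allL N28247 (tt N29237 F75417) (tt N29245 (iv0 F75431)) (tt N14253 F73478) (tt N14500 F73480) (tt N14097 (iv4 D46503)) (tt N51738 (iv5 F147126)) (tt N53254 D99465) (tt N14257 F73479))
theorem Q28249 : ∀ i, i < 28249 → P i := stepQ 28248 Q28248 (allL N28248 (tt N14410 (iv1 F289673)) (tt N50528 (iv0 F292390)) (tt N14255 F73481) (tt N53253 (iv3 F153220)) (tt N53254 (iv4 F153224)) (tt N53255 D99468) (tt N14097 (iv6 D46504)) (tt N50535 (iv7 F292389)))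
theorem Q28250 : ∀ i, i < 28250 → P i := stepQ 28249 Q28249 (allL N28249 (tt N50470 (iv1 F294864)) (tt N50469 (iv0 F294860)) (tt N14100 F73482) (tt N14288 F73483) (tt N27349 F73484) (tt N53256 D99472) (tt N14098 (iv6 D46505)) (tt N50471 (iv7 F294873)))
theorem Q28251 : ∀ i, i < 28251 → P i := stepQ 28250 Q28250 (allL N28250 (tt N43417 F303564) (tt N53067 (iv0 F152396)) (tt N42774 (iv2 F107101)) (tt N22969 F73485) (tt N14099 (iv4 D46506)) (tt N47091 F305455) (tt N53257 D99474) (tt N14265 F73486))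
theorem Q28252 : ∀ i, i < 28252 → P i := stepQ 28251 Q28251 (allL N28251 (tt N44798 (iv1 F205695)) (tt N38088 F314244) (tt N42778 (iv2 F107110)) (tt N14101 F73487) (tt N53257 (iv4 F153244)) (tt N53258 D99477) (tt N14099 (iv6 D46507)) (tt N53259 D99478))
theorem Q28253 : ∀ i, i < 28253 → P i := stepQ 28252 Q28252 (allL N28252 (tt N50471 (iv1 F294869)) (tt N14100 (iv0 D46508)) (tt N50470 (iv2 F294865)) (tt N46746 F126436) (tt N53260 D99480) (tt N53261 D99481) (tt N50149 (iv6 F357538)) (tt N50469 (iv7 F294863)))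
theorem Q28254 : ∀ i, i < 28254 → P i := stepQ 28253 Q28253 (allL N28253 (tt N14100 (iv1 D46509)) (tt N50471 (iv0 F294868)) (tt N50469 (iv2 F294861)) (tt N53262 D99484) (tt N53263 D99485) (tt N53264 D99486) (tt N53265 D99487) (tt N50470 (iv7 F294867)))
theorem Q28255 : ∀ i, i < 28255 → P i := stepQ 28254 Q28254 (allL N28254 (tt N53266 D99488) (tt N53267 D99489) (tt N53256 (iv2 F153234)) (tt N14102 F73488) (tt N53268 D99490) (tt N14100 (iv5 D46510)) (tt N53258 (iv6 F153246)) (tt N50472 (iv7 F294243)))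
theorem Q28256 : ∀ i, i < 28256 → P i := stepQ 28255 Q28255 (allL N28255 (tt N14302 (iv1 F73496)) (tt N14101 (iv0 D46512)) (tt N14299 (iv2 F155800)) (tt N53269 D99493) (tt N46365 (iv4 F155405)) (tt N53270 D99495) (tt N53271 D99496) (tt N14300 (iv7 F155806)))
theorem Q28257 : ∀ i, i < 28257 → P i := stepQ 28256 Q28256 (allL N28256 (tt N14101 (iv1 D46513)) (tt N14302 F73491) (tt N14300 F155807) (tt N25799 (iv3 F155409)) (tt N46366 F155408) (tt N53272 D99500) (tt N44566 (iv6 F305550)) (tt N14299 F155808))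
theorem Q28258 : ∀ i, i < 28258 → P i := stepQ 28257 Q28257 (allL N28257 (tt N53273 D99502) (tt N53274 D99503) (tt N14301 F73492) (tt N53258 (iv3 F153245)) (tt N30721 (iv4 F332982)) (tt N14101 (iv5 D46514)) (tt N14102 F73493) (tt N53275 D99505))
theorem Q28259 : ∀ i, i < 28259 → P i := stepQ 28258 Q28258 (allL N28258 (tt N14300 (iv1 F73497)) (tt N14299 F73498) (tt N14302 F73494) (tt N53259 (iv3 F153247)) (tt N46911 (iv4 F127685)) (tt N53275 (iv5 F153263)) (tt N14278 F73495) (tt N14101 (iv7 D46515)))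
theorem Q28260 : ∀ i, i < 28260 → P i := stepQ 28259 Q28259 (allL N28259 (tt N14306 (iv1 F73502)) (tt N14102 (iv0 D46516)) (tt N14303 (iv2 F73500)) (tt N53276 D99506) (tt N53225 (iv4 F153056)) (tt N26624 F291840) (tt N53277 D99507) (tt N14304 F73501))
theorem Q28261 : ∀ i, i < 28261 → P i := stepQ 28260 Q28260 (allL N28260 (tt N28534 (iv1 F74361)) (tt N28538 (iv0 F74128)) (tt N14305 F73503) (tt N30726 (iv3 F332990)) (tt N14102 (iv4 D46517)) (tt N50121 (iv5 F292308)) (tt N30721 F332986) (tt N50377 (iv7 F294247)))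
theorem Q28262 : ∀ i, i < 28262 → P i := stepQ 28261 Q28261 (allL N28261 (tt N14103 (iv1 D46520)) (tt N29119 (iv0 F75088)) (tt N14256 F73509) (tt N14147 (iv3 F73508)) (tt N25741 F73512) (tt N24348 F73510) (tt N53278 D99512) (tt N25805 F73511))
theorem Q28263 : ∀ i, i < 28263 → P i := stepQ 28262 Q28262 (allL N28262 (tt N25805 (iv1 F73518)) (tt N14256 F73517) (tt N14103 (iv2 D46521)) (tt N26521 F73515) (tt N14566 F73516) (tt N46727 (iv5 F126382)) (tt N53279 D99513) (tt N29119 (iv7 F75087)))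
theorem Q28264 : ∀ i, i < 28264 → P i := stepQ 28263 Q28263 (allL N28263 (tt N46728 (iv1 F126389)) (tt N25383 (iv0 F73520)) (tt N46727 F126385) (tt N14105 F73519) (tt N52875 (iv4 F151765)) (tt N14103 (iv5 D46522)) (tt N53280 D99514) (tt N46726 F126381))
theorem Q28265 : ∀ i, i < 28265 → P i := stepQ 28264 Q28264 (allL N28264 (tt N53281 D99515) (tt N53282 D99516) (tt N53279 (iv2 F153281)) (tt N14106 F73521) (tt N29121 (iv4 F75090)) (tt N53283 D99517) (tt N14103 (iv6 D46523)) (tt N53284 D99518))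
theorem Q28266 : ∀ i, i < 28266 → P i := stepQ 28265 Q28265 (allL N28265 (tt N53285 D99519) (tt N28407 (iv0 F157775)) (tt N52717 (iv2 F150971)) (tt N48846 (iv3 F134706)) (tt N14106 F73522) (tt N53286 D99521) (tt N14104 (iv6 D46524)) (tt N53287 D99522))
theorem Q28267 : ∀ i, i < 28267 → P i := stepQ 28266 Q28266 (allL N28266 (tt N43128 (iv1 F314253)) (tt N53242 (iv0 F335221)) (tt N52718 (iv2 F150974)) (tt N53280 (iv3 F153284)) (tt N46557 (iv4 F125420)) (tt N53288 D99525) (tt N14105 (iv6 D46525)) (tt N53289 D99526))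
theorem Q28268 : ∀ i, i < 28268 → P i := stepQ 28267 Q28267 (allL N28267 (tt N53290 D99537) (tt N50851 (iv0 F292932)) (tt N52719 (iv2 F150977)) (tt N53283 (iv3 F153285)) (tt N53291 D99539) (tt N14106 (iv5 D46528)) (tt N53288 (iv6 F153288)) (tt N53292 D99540))
theorem Q28269 : ∀ i, i < 28269 → P i := stepQ 28268 Q28268 (allL N28268 (tt N25772 F157763) (tt N14192 F157764) (tt N51193 F157765) (tt N53284 (iv3 F153286)) (tt N53287 (iv4 F153287)) (tt N53292 (iv5 F153291)) (tt N50140 (iv6 F293973)) (tt N14106 (iv7 D46529)))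
theorem Q28270 : ∀ i, i < 28270 → P i := stepQ 28269 Q28269 (allL N28269 (tt N26521 (iv1 F73526)) (tt N14107 (iv0 D46530)) (tt N14282 (iv2 F73525)) (tt N14307 F73524) (tt N14202 F73523) (tt N43684 (iv5 F109454)) (tt N53293 D99541) (tt N25784 F73527))
theorem Q28271 : ∀ i, i < 28271 → P i := stepQ 28270 Q28270 (allL N28270 (tt N46741 F126423) (tt N22235 (iv0 F73529)) (tt N50925 (iv2 F143055)) (tt N14109 F73528) (tt N45288 (iv4 F115036)) (tt N14107 (iv5 D46531)) (tt N53294 D99542) (tt N50929 (iv7 F143077)))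
theorem Q28272 : ∀ i, i < 28272 → P i := stepQ 28271 Q28271 (allL N28271 (tt N53295 D99543) (tt N53296 D99544) (tt N50926 (iv2 F143060)) (tt N14110 F73530) (tt N26524 F73531) (tt N53297 D99545) (tt N14107 (iv6 D46532)) (tt N53298 D99546))
theorem Q28273 : ∀ i, i < 28273 → P i := stepQ 28272 Q28272 (allL N28272 (tt N53299 D99547) (tt N48864 (iv0 F177413)) (tt N52714 (iv2 F150959)) (tt N28377 (iv3 F73760)) (tt N14110 F73532) (tt N53300 D99549) (tt N14108 (iv6 D46534)) (tt N53301 D99550))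
theorem Q28274 : ∀ i, i < 28274 → P i := stepQ 28273 Q28273 (allL N28273 (tt N53269 (iv1 F342633)) (tt N53302 D99552) (tt N52715 (iv2 F150962)) (tt N53294 (iv3 F153295)) (tt N46555 (iv4 F125418)) (tt N53303 D99553) (tt N14109 (iv6 D46535)) (tt N53304 D99554))
theorem Q28275 : ∀ i, i < 28275 → P i := stepQ 28274 Q28274 (allL N28274 (tt N53276 (iv1 F157653)) (tt N53305 D99566) (tt N52716 (iv2 F150965)) (tt N53297 (iv3 F153296)) (tt N53306 D99567) (tt N14110 (iv5 D46538)) (tt N53303 (iv6 F153300)) (tt N53307 D99568))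
theorem Q28276 : ∀ i, i < 28276 → P i := stepQ 28275 Q28275 (allL N28275 (tt N14242 (iv1 F177421)) (tt N25734 (iv0 F177418)) (tt N50140 (iv2 F293971)) (tt N53298 (iv3 F153297)) (tt N53301 (iv4 F153299)) (tt N53307 (iv5 F153303)) (tt N51193 (iv6 F157751)) (tt N14110 (iv7 D46539)))
theorem Q28277 : ∀ i, i < 28277 → P i := stepQ 28276 Q28276 (allL N28276 (tt N47380 (iv1 F128751)) (tt N43104 F310232) (tt N14115 F73533) (tt N25449 F73534) (tt N14111 (iv4 D46540)) (tt N53308 D99569) (tt N41014 F332500) (tt N25687 F73535))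
theorem Q28278 : ∀ i, i < 28278 → P i := stepQ 28277 Q28277 (allL N28277 (tt N53309 D99571) (tt N53310 D99572) (tt N14116 F73536) (tt N14313 F73537) (tt N41014 F332499) (tt N53311 D99573) (tt N14111 (iv6 D46541)) (tt N53312 D99574))
theorem Q28279 : ∀ i, i < 28279 → P i := stepQ 28278 Q28278 (allL N28278 (tt N14120 (iv1 F73545)) (tt N14112 (iv0 D46542)) (tt N14117 F153422) (tt N53313 D99576) (tt N53314 D99577) (tt N40964 F334881) (tt N53315 D99579) (tt N14118 F153423))
theorem Q28280 : ∀ i, i < 28280 → P i := stepQ 28279 Q28279 (allL N28279 (tt N14112 (iv1 D46543)) (tt N14120 F73538) (tt N14118 (iv2 F153415)) (tt N53316 D99581) (tt N39783 F331208) (tt N40930 F334882) (tt N52298 (iv6 F294408)) (tt N14117 (iv7 F153421)))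
theorem Q28281 : ∀ i, i < 28281 → P i := stepQ 28280 Q28280 (allL N28280 (tt N53317 D99585) (tt N53318 D99586) (tt N14119 F73539) (tt N14316 F73540) (tt N53319 D99587) (tt N14112 (iv5 D46544)) (tt N53311 (iv6 F153315)) (tt N53320 D99588))
theorem Q28282 : ∀ i, i < 28282 → P i := stepQ 28281 Q28281 (allL N28281 (tt N14118 (iv1 F73546)) (tt N14117 F73547) (tt N14120 F73541) (tt N14317 F73542) (tt N28281 F73543) (tt N53320 (iv5 F153333)) (tt N25691 F73544) (tt N14112 (iv7 D46545)))
theorem Q28283 : ∀ i, i < 28283 → P i := stepQ 28282 Q28282 (allL N28282 (tt N46140 (iv1 F121998)) (tt N24348 (iv0 F73550)) (tt N48437 F132704) (tt N14113 (iv3 D46547)) (tt N53321 D99589) (tt N27447 (iv5 F74224)) (tt N53322 D99590) (tt N47448 (iv7 F128825)))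
theorem Q28284 : ∀ i, i < 28284 → P i := stepQ 28283 Q28283 (allL N28283 (tt N17868 F73549) (tt N17028 F74242) (tt N24913 F74239) (tt N53323 D99591) (tt N14113 (iv4 D46548)) (tt N27497 (iv5 F73551)) (tt N53324 D99592) (tt N24914 F74230))
theorem Q28285 : ∀ i, i < 28285 → P i := stepQ 28284 Q28284 (allL N28284 (tt N53325 D99593) (tt N49591 (iv0 F348288)) (tt N47449 (iv2 F128829)) (tt N53322 (iv3 F153343)) (tt N53324 (iv4 F153349)) (tt N53326 D99595) (tt N14113 (iv6 D46550)) (tt N53327 D99596))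
theorem Q28286 : ∀ i, i < 28286 → P i := stepQ 28285 Q28285 (allL N28285 (tt N43684 (iv1 F109455)) (tt N35350 (iv0 F92143)) (tt N43683 F109451) (tt N14114 (iv3 D46552)) (tt N35036 (iv4 F90717)) (tt N27103 F74236) (tt N53328 D99597) (tt N43682 F109449))
theorem Q28287 : ∀ i, i < 28287 → P i := stepQ 28286 Q28286 (allL N28286 (tt N17028 (iv1 F73554)) (tt N17868 (iv0 F73553)) (tt N24914 F74241) (tt N35037 F90716) (tt N14114 (iv4 D46553)) (tt N27496 F74246) (tt N30521 (iv6 F310769)) (tt N24913 F74234))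
theorem Q28288 : ∀ i, i < 28288 → P i := stepQ 28287 Q28287 (allL N28287 (tt N43012 (iv1 F311989)) (tt N43009 (iv0 F311990)) (tt N30528 F309780) (tt N53328 (iv3 F153350)) (tt N30521 (iv4 F310768)) (tt N53329 D99601) (tt N14114 (iv6 D46555)) (tt N30535 (iv7 F311988)))
theorem Q28289 : ∀ i, i < 28289 → P i := stepQ 28288 Q28288 (allL N28288 (tt N25687 (iv1 F73555)) (tt N14115 (iv0 D46556)) (tt N47380 F128754) (tt N23894 (iv3 F91678)) (tt N35244 (iv4 F91676)) (tt N51992 (iv5 F147546)) (tt N53330 D99603) (tt N43104 (iv7 F309658)))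
theorem Q28290 : ∀ i, i < 28290 → P i := stepQ 28289 Q28289 (allL N28289 (tt N14115 (iv1 D46557)) (tt N25687 F73556) (tt N43104 F310169) (tt N18966 F310170) (tt N35245 F91684) (tt N42402 F310171) (tt N18965 (iv6 F312420)) (tt N47380 (iv7 F128752)))
theorem Q28291 : ∀ i, i < 28291 → P i := stepQ 28290 Q28290 (allL N28290 (tt N53331 D99605) (tt N53332 D99606) (tt N53308 (iv2 F153304)) (tt N32786 F83527) (tt N48807 (iv4 F134578)) (tt N14115 (iv5 D46558)) (tt N53333 D99607) (tt N32837 (iv7 F83633)))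
theorem Q28292 : ∀ i, i < 28292 → P i := stepQ 28291 Q28291 (allL N28291 (tt N40886 (iv1 F332519)) (tt N40038 F332518) (tt N41014 (iv2 F332497)) (tt N34219 (iv3 F86990)) (tt N14116 F73557) (tt N53334 D99610) (tt N14115 (iv6 D46559)) (tt N41013 F332496))
theorem Q28293 : ∀ i, i < 28293 → P i := stepQ 28292 Q28292 (allL N28292 (tt N53312 (iv1 F153321)) (tt N14116 (iv0 D46560)) (tt N53309 (iv2 F359923)) (tt N53335 D99613) (tt N53336 D99614) (tt N41006 F346694) (tt N53337 D99616) (tt N53310 (iv7 F359922)))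
theorem Q28294 : ∀ i, i < 28294 → P i := stepQ 28293 Q28293 (allL N28293 (tt N14116 (iv1 D46561)) (tt N53312 F153320) (tt N53310 (iv2 F359921)) (tt N53338 D99618) (tt N53339 D99619) (tt N41010 (iv5 F346691)) (tt N53340 D99621) (tt N53309 (iv7 F359924)))
theorem Q28295 : ∀ i, i < 28295 → P i := stepQ 28294 Q28294 (allL N28294 (tt N53341 D99622) (tt N53342 D99623) (tt N53311 (iv2 F153313)) (tt N14123 F73558) (tt N53343 D99624) (tt N14116 (iv5 D46562)) (tt N14119 F73559) (tt N53344 D99625))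
theorem Q28296 : ∀ i, i < 28296 → P i := stepQ 28295 Q28295 (allL N28295 (tt N53310 (iv1 F153312)) (tt N53309 F153319) (tt N53312 (iv2 F153316)) (tt N14124 F73560) (tt N41013 F332495) (tt N53344 (iv5 F153368)) (tt N47453 (iv6 F128833)) (tt N14116 (iv7 D46563)))
theorem Q28297 : ∀ i, i < 28297 → P i := stepQ 28296 Q28296 (allL N28296 (tt N53345 D99632) (tt N53278 (iv0 F289588)) (tt N53346 D99634) (tt N14117 (iv3 D46565)) (tt N29393 F76048) (tt N53347 D99635) (tt N53348 D99636) (tt N53316 (iv7 F153414)))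
theorem Q28298 : ∀ i, i < 28298 → P i := stepQ 28297 Q28297 (allL N28297 (tt N53349 D99638) (tt N28396 F289729) (tt N53314 (iv2 F153426)) (tt N48848 (iv3 F134707)) (tt N14117 (iv4 D46566)) (tt N39784 (iv5 F331211)) (tt N53350 D99640) (tt N39783 F331209))
theorem Q28299 : ∀ i, i < 28299 → P i := stepQ 28298 Q28298 (allL N28298 (tt N40963 (iv1 F334868)) (tt N40962 (iv0 F334869)) (tt N40964 (iv2 F334870)) (tt N53347 (iv3 F153384)) (tt N40761 F334867) (tt N14117 (iv5 D46567)) (tt N40929 (iv6 F334871)) (tt N40930 (iv7 F334872)))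
theorem Q28300 : ∀ i, i < 28300 → P i := stepQ 28299 Q28299 (allL N28299 (tt N50636 F161651) (tt N28997 (iv0 F161652)) (tt N53315 (iv2 F153430)) (tt N53348 (iv3 F153385)) (tt N53350 (iv4 F153387)) (tt N53351 D99649) (tt N14117 (iv6 D46568)) (tt N53352 D99650))
theorem Q28301 : ∀ i, i < 28301 → P i := stepQ 28300 Q28300 (allL N28300 (tt N53293 (iv1 F290149)) (tt N53353 D99653) (tt N53354 D99654) (tt N14118 (iv3 D46570)) (tt N26528 F73563) (tt N40959 F334884) (tt N53355 D99656) (tt N53313 (iv7 F153425)))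
theorem Q28302 : ∀ i, i < 28302 → P i := stepQ 28301 Q28301 (allL N28301 (tt N28396 F289730) (tt N53349 F153390) (tt N39783 F331207) (tt N28963 (iv3 F74712)) (tt N14118 (iv4 D46571)) (tt N39773 (iv5 F331210)) (tt N53356 D99658) (tt N53314 (iv7 F153427)))
theorem Q28303 : ∀ i, i < 28303 → P i := stepQ 28302 Q28302 (allL N28302 (tt N28126 F251749) (tt N25573 F293499) (tt N52298 (iv2 F294406)) (tt N53355 (iv3 F153481)) (tt N53356 (iv4 F153483)) (tt N40961 (iv5 F334885)) (tt N14118 (iv6 D46573)) (tt N52297 (iv7 F294404)))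
theorem Q28304 : ∀ i, i < 28304 → P i := stepQ 28303 Q28303 (allL N28303 (tt N53320 (iv1 F153336)) (tt N14119 (iv0 D46574)) (tt N53317 (iv2 F288493)) (tt N53357 D99666) (tt N53358 D99667) (tt N53171 (iv5 F157305)) (tt N53359 D99669) (tt N53318 (iv7 F288491)))
theorem Q28305 : ∀ i, i < 28305 → P i := stepQ 28304 Q28304 (allL N28304 (tt N14119 (iv1 D46575)) (tt N53320 F153335) (tt N53318 (iv2 F288490)) (tt N53360 D99671) (tt N53361 D99672) (tt N53172 (iv5 F289320)) (tt N53362 D99674) (tt N53317 (iv7 F288494)))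
theorem Q28306 : ∀ i, i < 28306 → P i := stepQ 28305 Q28305 (allL N28305 (tt N53363 D99675) (tt N53364 D99676) (tt N53319 (iv2 F153330)) (tt N53365 D99677) (tt N14119 (iv4 D46576)) (tt N36470 (iv5 F339153)) (tt N53343 (iv6 F153366)) (tt N44987 (iv7 F339154)))
theorem Q28307 : ∀ i, i < 28307 → P i := stepQ 28306 Q28306 (allL N28306 (tt N53318 (iv1 F153329)) (tt N53317 F153334) (tt N53320 (iv2 F153331)) (tt N14135 F73564) (tt N44987 F339155) (tt N14120 F73565) (tt N44986 (iv6 F339160)) (tt N14119 (iv7 D46577)))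
theorem Q28308 : ∀ i, i < 28308 → P i := stepQ 28307 Q28307 (allL N28307 (tt N43687 (iv1 F321062)) (tt N43679 (iv0 F321059)) (tt N39849 F326326) (tt N14121 (iv3 D46579)) (tt N17021 (iv4 F321077)) (tt N39210 (iv5 F327149)) (tt N53366 D99692) (tt N14361 (iv7 F156693)))
theorem Q28309 : ∀ i, i < 28309 → P i := stepQ 28308 Q28308 (allL N28308 (tt N46833 (iv1 F272737)) (tt N27960 (iv0 F272738)) (tt N14358 (iv2 F156681)) (tt N39533 F324655) (tt N14121 (iv4 D46580)) (tt N39532 F324656) (tt N53367 D99698) (tt N14362 (iv7 F156697)))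
theorem Q28310 : ∀ i, i < 28310 → P i := stepQ 28309 Q28309 (allL N28309 (tt N53368 D99700) (tt N39672 F329871) (tt N14359 (iv2 F156682)) (tt N39210 F327698) (tt N53369 D99702) (tt N14121 (iv5 D46581)) (tt N53370 D99703) (tt N14363 (iv7 F156701)))
theorem Q28311 : ∀ i, i < 28311 → P i := stepQ 28310 Q28310 (allL N28310 (tt N49567 (iv1 F156668)) (tt N53371 D99706) (tt N14360 (iv2 F156672)) (tt N53366 (iv3 F153499)) (tt N53367 (iv4 F153502)) (tt N49665 F137028) (tt N14121 (iv6 D46582)) (tt N53372 D99707))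
theorem Q28312 : ∀ i, i < 28312 → P i := stepQ 28311 Q28311 (allL N28311 (tt N24698 (iv1 F321036)) (tt N53373 D99710) (tt N53374 D99711) (tt N14122 (iv3 D46584)) (tt N45687 F334406) (tt N53375 D99713) (tt N45686 (iv6 F334407)) (tt N14357 F156702))
theorem Q28313 : ∀ i, i < 28313 → P i := stepQ 28312 Q28312 (allL N28312 (tt N27960 F272739) (tt N46833 F272740) (tt N14362 F156703) (tt N53376 D99715) (tt N14122 (iv4 D46585)) (tt N53377 D99716) (tt N53378 D99717) (tt N14358 F156704))
theorem Q28314 : ∀ i, i < 28314 → P i := stepQ 28313 Q28313 (allL N28313 (tt N39672 F329872) (tt N53368 F153510) (tt N14363 F156705) (tt N53375 (iv3 F153512)) (tt N53379 D99718) (tt N14122 (iv5 D46586)) (tt N53380 D99719) (tt N14359 F156706))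
theorem Q28315 : ∀ i, i < 28315 → P i := stepQ 28314 Q28314 (allL N28314 (tt N53381 D99720) (tt N49590 (iv0 F156724)) (tt N14364 F156707) (tt N45686 F334408) (tt N53378 (iv4 F153514)) (tt N53382 D99722) (tt N14122 (iv6 D46587)) (tt N53383 D99723))
theorem Q28316 : ∀ i, i < 28316 → P i := stepQ 28315 Q28315 (allL N28315 (tt N14368 (iv1 F73574)) (tt N14123 (iv0 D46588)) (tt N14365 (iv2 F156389)) (tt N39857 F326321) (tt N53384 D99726) (tt N53385 D99727) (tt N53386 D99728) (tt N14366 F156388))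
theorem Q28317 : ∀ i, i < 28317 → P i := stepQ 28316 Q28316 (allL N28316 (tt N14123 (iv1 D46589)) (tt N14368 F73568) (tt N14366 F156387) (tt N53387 D99730) (tt N53388 D99731) (tt N26176 (iv5 F73569)) (tt N53389 D99732) (tt N14365 (iv7 F156390)))
theorem Q28318 : ∀ i, i < 28318 → P i := stepQ 28317 Q28317 (allL N28317 (tt N53390 D99733) (tt N53391 D99734) (tt N14367 F73570) (tt N53392 D99735) (tt N14123 (iv4 D46590)) (tt N53393 D99736) (tt N14134 F73571) (tt N53394 D99737))
theorem Q28319 : ∀ i, i < 28319 → P i := stepQ 28318 Q28318 (allL N28318 (tt N14366 (iv1 F73575)) (tt N14365 F73576) (tt N14368 F73572) (tt N53344 (iv3 F153367)) (tt N53394 (iv4 F153536)) (tt N14124 F73573) (tt N53395 D99738) (tt N14123 (iv7 D46591)))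
theorem Q28320 : ∀ i, i < 28320 → P i := stepQ 28319 Q28319 (allL N28319 (tt N14389 (iv1 F73577)) (tt N14125 (iv0 D46592)) (tt N14388 (iv2 F156140)) (tt N53353 F153403) (tt N52730 (iv4 F150994)) (tt N53396 D99740) (tt N52730 (iv6 F290166)) (tt N14283 F290139))
theorem Q28321 : ∀ i, i < 28321 → P i := stepQ 28320 Q28320 (allL N28320 (tt N14388 (iv1 F73583)) (tt N14283 F290137) (tt N14125 (iv2 D46594)) (tt N14374 F73578) (tt N25877 F73579) (tt N39174 (iv5 F328621)) (tt N53397 D99747) (tt N14389 F73580))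
theorem Q28322 : ∀ i, i < 28322 → P i := stepQ 28321 Q28321 (allL N28321 (tt N53398 D99752) (tt N50548 (iv0 F344347)) (tt N53397 (iv2 F153553)) (tt N14127 F73586) (tt N25879 F73587) (tt N26216 (iv5 F73588)) (tt N14125 (iv6 D46596)) (tt N49129 (iv7 F135193)))
theorem Q28323 : ∀ i, i < 28323 → P i := stepQ 28322 Q28322 (allL N28322 (tt N14126 (iv1 D46597)) (tt N14130 F73589) (tt N14383 (iv2 F73591)) (tt N40962 F334877) (tt N53399 D99755) (tt N26257 (iv5 F73592)) (tt N53400 D99756) (tt N14382 F73590))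
theorem Q28324 : ∀ i, i < 28324 → P i := stepQ 28323 Q28323 (allL N28323 (tt N28982 (iv1 F74734)) (tt N28985 (iv0 F74738)) (tt N14384 F73593) (tt N39666 (iv3 F329601)) (tt N14126 (iv4 D46598)) (tt N28889 (iv5 F74606)) (tt N53401 D99758) (tt N14392 F73594))
theorem Q28325 : ∀ i, i < 28325 → P i := stepQ 28324 Q28324 (allL N28324 (tt N53402 D99759) (tt N53403 D99760) (tt N14385 F73595) (tt N39161 F329362) (tt N53401 (iv4 F153574)) (tt N26218 F73596) (tt N14126 (iv6 D46599)) (tt N39157 (iv7 F329602)))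
theorem Q28326 : ∀ i, i < 28326 → P i := stepQ 28325 Q28325 (allL N28325 (tt N14128 (iv1 D46601)) (tt N14374 F73601) (tt N14373 (iv2 F156214)) (tt N53345 (iv3 F157389)) (tt N53404 D99769) (tt N53405 D99770) (tt N50535 (iv6 F292388)) (tt N14259 F289581))
theorem Q28327 : ∀ i, i < 28327 → P i := stepQ 28326 Q28326 (allL N28326 (tt N14259 F289580) (tt N14373 F73600) (tt N14128 (iv2 D46602)) (tt N14389 F73598) (tt N52233 (iv4 F148089)) (tt N39170 F328242) (tt N53406 D99773) (tt N14374 F73599))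
theorem Q28328 : ∀ i, i < 28328 → P i := stepQ 28327 Q28327 (allL N28327 (tt N24842 (iv1 F327393)) (tt N53407 D99775) (tt N39170 F328240) (tt N14130 F73603) (tt N46216 (iv4 F327397)) (tt N14128 (iv5 D46603)) (tt N39168 (iv6 F328618)) (tt N14376 F73604))
theorem Q28329 : ∀ i, i < 28329 → P i := stepQ 28328 Q28328 (allL N28328 (tt N53408 D99778) (tt N53409 D99779) (tt N53406 (iv2 F153596)) (tt N14131 F73605) (tt N49199 F294695) (tt N52151 (iv5 F147796)) (tt N14128 (iv6 D46604)) (tt N52166 (iv7 F147830)))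
theorem Q28330 : ∀ i, i < 28330 → P i := stepQ 28329 Q28329 (allL N28329 (tt N28985 (iv1 F74739)) (tt N28982 (iv0 F74733)) (tt N14392 F73606) (tt N53410 D99780) (tt N14130 (iv4 D46605)) (tt N49417 (iv5 F136269)) (tt N39660 (iv6 F329374)) (tt N14384 F73607))
theorem Q28331 : ∀ i, i < 28331 → P i := stepQ 28330 Q28330 (allL N28330 (tt N53396 (iv1 F328571)) (tt N53229 (iv0 F328958)) (tt N19937 F328569) (tt N14132 (iv3 D46607)) (tt N16636 (iv4 F328998)) (tt N53173 (iv5 F152605)) (tt N19190 (iv6 F329012)) (tt N14399 F73609))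
theorem Q28332 : ∀ i, i < 28332 → P i := stepQ 28331 Q28331 (allL N28331 (tt N28967 (iv1 F74717)) (tt N28394 (iv0 F73788)) (tt N14396 F73610) (tt N32119 (iv3 F329596)) (tt N14132 (iv4 D46608)) (tt N49414 (iv5 F136258)) (tt N32118 F329361) (tt N14400 F73611))
theorem Q28333 : ∀ i, i < 28333 → P i := stepQ 28332 Q28332 (allL N28332 (tt N53411 D99792) (tt N53412 D99793) (tt N14398 F73612) (tt N19190 (iv3 F329011)) (tt N32118 (iv4 F329285)) (tt N50477 (iv5 F293916)) (tt N14132 (iv6 D46609)) (tt N19941 (iv7 F329268)))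
theorem Q28334 : ∀ i, i < 28334 → P i := stepQ 28333 Q28333 (allL N28333 (tt N53252 (iv1 F289576)) (tt N53405 (iv0 F157052)) (tt N47602 (iv2 F328151)) (tt N14133 (iv3 D46610)) (tt N46774 (iv4 F328305)) (tt N49742 F137125) (tt N53413 D99800) (tt N14395 F73613))
theorem Q28335 : ∀ i, i < 28335 → P i := stepQ 28334 Q28334 (allL N28334 (tt N28394 (iv1 F73789)) (tt N28967 (iv0 F74716)) (tt N14400 F73614) (tt N53414 D99801) (tt N14133 (iv4 D46611)) (tt N49409 (iv5 F136234)) (tt N53415 D99802) (tt N14396 F73615))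
theorem Q28336 : ∀ i, i < 28336 → P i := stepQ 28335 Q28335 (allL N28335 (tt N53416 D99803) (tt N53417 D99804) (tt N14402 F73616) (tt N53413 (iv3 F153637)) (tt N53415 (iv4 F153640)) (tt N49745 (iv5 F137135)) (tt N14133 (iv6 D46612)) (tt N53418 D99805))
theorem Q28337 : ∀ i, i < 28337 → P i := stepQ 28336 Q28336 (allL N28336 (tt N14407 (iv1 F73617)) (tt N14134 (iv0 D46613)) (tt N14403 F136320) (tt N53419 D99806) (tt N49430 (iv4 F136345)) (tt N49431 (iv5 F136364)) (tt N53420 D99807) (tt N14404 F136321))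
theorem Q28338 : ∀ i, i < 28338 → P i := stepQ 28337 Q28337 (allL N28337 (tt N14134 (iv1 D46614)) (tt N14407 F73618) (tt N14404 F136318) (tt N53421 D99808) (tt N49434 (iv4 F136380)) (tt N49425 (iv5 F136317)) (tt N53422 D99809) (tt N14403 F136319))
theorem Q28339 : ∀ i, i < 28339 → P i := stepQ 28338 Q28338 (allL N28338 (tt N53423 D99810) (tt N53424 D99811) (tt N53425 D99812) (tt N14134 (iv3 D46615)) (tt N53365 (iv4 F153487)) (tt N49734 (iv5 F137114)) (tt N53392 (iv6 F153533)) (tt N49733 F137112))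
theorem Q28340 : ∀ i, i < 28340 → P i := stepQ 28339 Q28339 (allL N28339 (tt N53426 D99813) (tt N53427 D99814) (tt N14408 F73619) (tt N44986 F339161) (tt N49735 (iv4 F137116)) (tt N52740 (iv5 F151050)) (tt N14135 (iv6 D46616)) (tt N53395 (iv7 F153541)))
theorem Q28341 : ∀ i, i < 28341 → P i := stepQ 28340 Q28340 (allL N28340 (tt N14489 (iv1 F290716)) (tt N25941 F73632) (tt N26994 F73627) (tt N53428 D99815) (tt N14136 (iv4 D46618)) (tt N26801 F73630) (tt N27174 F73628) (tt N14455 F73629))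
theorem Q28342 : ∀ i, i < 28342 → P i := stepQ 28341 Q28341 (allL N28341 (tt N14629 F73636) (tt N53429 D99816) (tt N53430 D99817) (tt N14137 (iv3 D46619)) (tt N14645 F73633) (tt N53431 D99818) (tt N25900 F73634) (tt N14164 F73635))
theorem Q28343 : ∀ i, i < 28343 → P i := stepQ 28342 Q28342 (allL N28342 (tt N49434 (iv1 F136383)) (tt N49430 (iv0 F136343)) (tt N14430 F73637) (tt N53431 (iv3 F153669)) (tt N28902 (iv4 F74631)) (tt N14137 (iv5 D46620)) (tt N53432 D99819) (tt N14165 F73638))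
theorem Q28344 : ∀ i, i < 28344 → P i := stepQ 28343 Q28343 (allL N28343 (tt N14460 (iv1 F73640)) (tt N14138 (iv0 D46621)) (tt N14459 (iv2 F73639)) (tt N53433 D99820) (tt N50245 (iv4 F139321)) (tt N53434 D99821) (tt N52741 F151056) (tt N14216 F73641))
theorem Q28345 : ∀ i, i < 28345 → P i := stepQ 28344 Q28344 (allL N28344 (tt N14459 (iv1 F73646)) (tt N14216 F73645) (tt N14138 (iv2 D46622)) (tt N14432 F73643) (tt N50884 (iv4 F142887)) (tt N53435 D99822) (tt N29041 (iv6 F74858)) (tt N14460 F73644))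
theorem Q28346 : ∀ i, i < 28346 → P i := stepQ 28345 Q28345 (allL N28345 (tt N53436 D99823) (tt N53437 D99824) (tt N53435 (iv2 F153680)) (tt N14139 F73647) (tt N53438 D99825) (tt N14138 (iv5 D46623)) (tt N53439 D99826) (tt N14461 F73648))
theorem Q28347 : ∀ i, i < 28347 → P i := stepQ 28346 Q28346 (allL N28346 (tt N14143 (iv1 F73650)) (tt N14139 (iv0 D46624)) (tt N14435 (iv2 F73651)) (tt N53440 D99827) (tt N28881 (iv4 F74597)) (tt N26076 F73649) (tt N53441 D99828) (tt N14436 (iv7 F73652)))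
theorem Q28348 : ∀ i, i < 28348 → P i := stepQ 28347 Q28347 (allL N28347 (tt N14139 (iv1 D46625)) (tt N14143 F73653) (tt N14436 (iv2 F73656)) (tt N53442 D99829) (tt N28882 (iv4 F74600)) (tt N26258 F73655) (tt N53443 D99830) (tt N14435 F73654))
theorem Q28349 : ∀ i, i < 28349 → P i := stepQ 28348 Q28348 (allL N28348 (tt N51188 (iv1 F294828)) (tt N53399 (iv0 F153567)) (tt N14437 F73657) (tt N53444 D99831) (tt N14139 (iv4 D46626)) (tt N28996 (iv5 F74753)) (tt N53445 D99832) (tt N14463 F73658))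
theorem Q28350 : ∀ i, i < 28350 → P i := stepQ 28349 Q28349 (allL N28349 (tt N53446 D99833) (tt N53447 D99834) (tt N14438 F73659) (tt N53439 (iv3 F153698)) (tt N53445 (iv4 F153709)) (tt N29043 (iv5 F74861)) (tt N14139 (iv6 D46627)) (tt N53448 D99835))
theorem Q28351 : ∀ i, i < 28351 → P i := stepQ 28350 Q28350 (allL N28350 (tt N50796 (iv1 F293389)) (tt N28506 (iv0 F74089)) (tt N53449 D99837) (tt N14140 (iv3 D46628)) (tt N53428 (iv4 F153654)) (tt N43926 F309580) (tt N29030 (iv6 F74848)) (tt N14468 F73660))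
theorem Q28352 : ∀ i, i < 28352 → P i := stepQ 28351 Q28351 (allL N28351 (tt N14142 (iv1 D46630)) (tt N14432 F73666) (tt N14431 F157349) (tt N53450 D99842) (tt N25014 F289773) (tt N53451 D99843) (tt N28970 F289774) (tt N14167 F289719))
theorem Q28353 : ∀ i, i < 28353 → P i := stepQ 28352 Q28352 (allL N28352 (tt N14167 F289718) (tt N14431 F73665) (tt N14142 (iv2 D46631)) (tt N14460 F73662) (tt N25850 F73663) (tt N53452 D99845) (tt N53453 D99846) (tt N14432 F73664))
theorem Q28354 : ∀ i, i < 28354 → P i := stepQ 28353 Q28353 (allL N28353 (tt N53454 D99847) (tt N53455 D99848) (tt N53452 (iv2 F153732)) (tt N14143 F73668) (tt N53456 D99849) (tt N14142 (iv5 D46632)) (tt N19903 F333114) (tt N14433 F73669))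
theorem Q28355 : ∀ i, i < 28355 → P i := stepQ 28354 Q28354 (allL N28354 (tt N51230 (iv1 F294617)) (tt N51228 (iv0 F294606)) (tt N53453 (iv2 F153737)) (tt N14144 F73670) (tt N25852 F73671) (tt N53457 D99853) (tt N14142 (iv6 D46633)) (tt N29008 (iv7 F74802)))
theorem Q28356 : ∀ i, i < 28356 → P i := stepQ 28355 Q28355 (allL N28355 (tt N53399 (iv1 F153568)) (tt N51188 (iv0 F294827)) (tt N14463 F73672) (tt N53458 D99854) (tt N14143 (iv4 D46634)) (tt N49419 F136276) (tt N53459 D99855) (tt N14437 F73673))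
theorem Q28357 : ∀ i, i < 28357 → P i := stepQ 28356 Q28356 (allL N28356 (tt N53460 D99856) (tt N53461 D99857) (tt N14464 F73674) (tt N19903 (iv3 F333109)) (tt N53459 (iv4 F153748)) (tt N53462 D99858) (tt N14143 (iv6 D46635)) (tt N53463 D99859))
theorem Q28358 : ∀ i, i < 28358 → P i := stepQ 28357 Q28357 (allL N28357 (tt N26106 F73677) (tt N26103 F73678) (tt N14466 F73675) (tt N53457 (iv3 F153744)) (tt N52155 (iv4 F147811)) (tt N14144 (iv5 D46636)) (tt N53462 (iv6 F153751)) (tt N28097 F73676))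
theorem Q28359 : ∀ i, i < 28359 → P i := stepQ 28358 Q28358 (allL N28358 (tt N47842 F289809) (tt N14330 (iv0 F289617)) (tt N25807 F73694) (tt N53278 (iv3 F153279)) (tt N25806 F73695) (tt N53464 D99863) (tt N14147 (iv6 D46640)) (tt N53465 D99864))
theorem Q28360 : ∀ i, i < 28360 → P i := stepQ 28359 Q28359 (allL N28359 (tt N14420 (iv1 F289618)) (tt N25850 (iv0 F289619)) (tt N25806 F73696) (tt N14255 F73697) (tt N25807 F73698) (tt N53466 D99867) (tt N14148 (iv6 D46641)) (tt N25849 (iv7 F289621)))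
theorem Q28361 : ∀ i, i < 28361 → P i := stepQ 28360 Q28360 (allL N28360 (tt N40138 F329534) (tt N14149 (iv0 D46642)) (tt N46746 (iv2 F154982)) (tt N53467 D99870) (tt N25809 F135046) (tt N53468 D99871) (tt N50570 (iv6 F294420)) (tt N46747 (iv7 F154987)))
theorem Q28362 : ∀ i, i < 28362 → P i := stepQ 28361 Q28361 (allL N28361 (tt N14149 (iv1 D46643)) (tt N40138 F329533) (tt N46747 (iv2 F154986)) (tt N50469 (iv3 F294862)) (tt N25810 F142704) (tt N53469 D99874) (tt N53470 D99875) (tt N46746 (iv7 F154983)))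
theorem Q28363 : ∀ i, i < 28363 → P i := stepQ 28362 Q28362 (allL N28362 (tt N53471 D99876) (tt N53472 D99877) (tt N46748 (iv2 F126427)) (tt N14151 F73699) (tt N39969 F329854) (tt N14149 (iv5 D46644)) (tt N34789 (iv6 F89641)) (tt N50641 (iv7 F140477)))
theorem Q28364 : ∀ i, i < 28364 → P i := stepQ 28363 Q28363 (allL N28363 (tt N25801 (iv1 F73705)) (tt N14150 (iv0 D46645)) (tt N25798 (iv2 F155816)) (tt N14299 F155367) (tt N39916 F310573) (tt N35111 (iv5 F302082)) (tt N53473 D99882) (tt N25799 (iv7 F155809)))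
theorem Q28365 : ∀ i, i < 28365 → P i := stepQ 28364 Q28364 (allL N28364 (tt N14150 (iv1 D46646)) (tt N25801 F73700) (tt N25799 F155817) (tt N53302 (iv3 F342630)) (tt N39917 F310574) (tt N35112 (iv5 F302085)) (tt N43452 (iv6 F302086)) (tt N25798 F155818))
theorem Q28366 : ∀ i, i < 28366 → P i := stepQ 28365 Q28365 (allL N28365 (tt N53474 D99888) (tt N53475 D99889) (tt N25800 F73701) (tt N34789 (iv3 F89640)) (tt N53476 D99890) (tt N14150 (iv5 D46647)) (tt N14151 F73702) (tt N53477 D99891))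
theorem Q28367 : ∀ i, i < 28367 → P i := stepQ 28366 Q28366 (allL N28366 (tt N25799 (iv1 F73706)) (tt N25798 F73707) (tt N25801 F73703) (tt N34565 (iv3 F117218)) (tt N43151 (iv4 F302081)) (tt N53477 (iv5 F153796)) (tt N25816 F73704) (tt N14150 (iv7 D46648)))
theorem Q28368 : ∀ i, i < 28368 → P i := stepQ 28367 Q28367 (allL N28367 (tt N25804 (iv1 F73709)) (tt N14151 (iv0 D46649)) (tt N25802 F73712) (tt N14303 (iv3 F73710)) (tt N53478 D99892) (tt N14606 F293838) (tt N53479 D99893) (tt N14605 F293839))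
theorem Q28369 : ∀ i, i < 28369 → P i := stepQ 28368 Q28368 (allL N28368 (tt N14151 (iv1 D46650)) (tt N25804 F73713) (tt N14605 F293836) (tt N53305 (iv3 F157647)) (tt N53480 D99895) (tt N14564 F293837) (tt N53481 D99896) (tt N25802 F73714))
theorem Q28370 : ∀ i, i < 28370 → P i := stepQ 28369 Q28369 (allL N28369 (tt N48890 F134780) (tt N48892 (iv0 F134785)) (tt N25803 F73717) (tt N43577 (iv3 F326345)) (tt N14151 (iv4 D46651)) (tt N43576 F325477) (tt N53476 (iv6 F153794)) (tt N50642 (iv7 F140479)))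
theorem Q28371 : ∀ i, i < 28371 → P i := stepQ 28370 Q28370 (allL N28370 (tt N14154 (iv1 F73719)) (tt N14152 (iv0 D46652)) (tt N26999 (iv2 F291823)) (tt N46806 F291286) (tt N26720 F73718) (tt N25748 (iv5 F291797)) (tt N27416 (iv6 F73720)) (tt N27159 (iv7 F291795)))
theorem Q28372 : ∀ i, i < 28372 → P i := stepQ 28371 Q28371 (allL N28371 (tt N24439 (iv1 F291294)) (tt N26272 (iv0 F73729)) (tt N26585 F73726) (tt N14154 F73727) (tt N28125 (iv4 F291490)) (tt N14153 (iv5 D46655)) (tt N26195 (iv6 F291488)) (tt N26573 F73728))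
theorem Q28373 : ∀ i, i < 28373 → P i := stepQ 28372 Q28372 (allL N28372 (tt N24427 F290616) (tt N26668 F290617) (tt N26586 F73730) (tt N14155 F73731) (tt N26450 F73732) (tt N26196 (iv5 F290694)) (tt N14153 (iv6 D46656)) (tt N26667 (iv7 F290688)))
theorem Q28374 : ∀ i, i < 28374 → P i := stepQ 28373 Q28373 (allL N28373 (tt N48611 (iv1 F292047)) (tt N46281 (iv0 F122674)) (tt N26776 (iv2 F292079)) (tt N26195 (iv3 F291487)) (tt N27909 (iv4 F292170)) (tt N26194 F291366) (tt N14154 (iv6 D46658)) (tt N26778 F291367))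
theorem Q28375 : ∀ i, i < 28375 → P i := stepQ 28374 Q28374 (allL N28374 (tt N27096 (iv1 F291479)) (tt N27416 (iv0 F73736)) (tt N26777 (iv2 F291028)) (tt N26196 F290955) (tt N27796 (iv4 F291483)) (tt N14155 (iv5 D46660)) (tt N26194 F290956) (tt N49829 (iv7 F137350)))
theorem Q28376 : ∀ i, i < 28376 → P i := stepQ 28375 Q28375 (allL N28375 (tt N14471 F73744) (tt N24223 F290710) (tt N26473 (iv2 F290921)) (tt N26667 F290711) (tt N27661 (iv4 F291022)) (tt N49829 F137352) (tt N27935 F73739) (tt N14155 (iv7 D46661)))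
theorem Q28377 : ∀ i, i < 28377 → P i := stepQ 28376 Q28376 (allL N28376 (tt N28021 F73758) (tt N14174 F73759) (tt N28024 F73755) (tt N24374 (iv3 F75467)) (tt N42664 (iv4 F106742)) (tt N14156 (iv5 D46667)) (tt N53482 D99911) (tt N28023 F73757))
theorem Q28378 : ∀ i, i < 28378 → P i := stepQ 28377 Q28377 (allL N28377 (tt N53215 (iv1 F177387)) (tt N14235 (iv0 F177388)) (tt N50216 (iv2 F139248)) (tt N28272 F73760) (tt N50241 (iv4 F139317)) (tt N53483 D99914) (tt N14156 (iv6 D46668)) (tt N53214 (iv7 F177390)))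
theorem Q28379 : ∀ i, i < 28379 → P i := stepQ 28378 Q28378 (allL N28378 (tt N14174 F73763) (tt N28021 F73764) (tt N28023 F73761) (tt N44755 (iv3 F113353)) (tt N43438 (iv4 F108876)) (tt N14157 (iv5 D46669)) (tt N53484 D99916) (tt N28024 F73762))
theorem Q28380 : ∀ i, i < 28380 → P i := stepQ 28379 Q28379 (allL N28379 (tt N14182 (iv1 F157759)) (tt N50439 (iv0 F157760)) (tt N50215 (iv2 F139247)) (tt N51699 (iv3 F147045)) (tt N42655 (iv4 F106721)) (tt N53485 D99919) (tt N14157 (iv6 D46670)) (tt N50438 (iv7 F157762)))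
theorem Q28381 : ∀ i, i < 28381 → P i := stepQ 28380 Q28380 (allL N28380 (tt N53486 D99921) (tt N53487 D99922) (tt N14159 F73765) (tt N25752 F73766) (tt N26891 F73767) (tt N53488 D99923) (tt N14158 (iv6 D46671)) (tt N53489 D99924))
theorem Q28382 : ∀ i, i < 28382 → P i := stepQ 28381 Q28381 (allL N28381 (tt N53489 F153858) (tt N14159 (iv0 D46672)) (tt N53486 (iv2 F160547)) (tt N48809 F134591) (tt N53490 D99926) (tt N53491 D99927) (tt N53492 D99928) (tt N53487 (iv7 F160544)))
theorem Q28383 : ∀ i, i < 28383 → P i := stepQ 28382 Q28382 (allL N28382 (tt N14159 (iv1 D46673)) (tt N53489 F153857) (tt N53487 (iv2 F160543)) (tt N51702 (iv3 F153865)) (tt N53493 D99931) (tt N53494 D99932) (tt N50054 (iv6 F367071)) (tt N53486 (iv7 F160548)))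
theorem Q28384 : ∀ i, i < 28384 → P i := stepQ 28383 Q28383 (allL N28383 (tt N53495 D99934) (tt N53496 D99935) (tt N53488 (iv2 F153851)) (tt N14160 F73769) (tt N53497 D99936) (tt N14159 (iv5 D46674)) (tt N52928 (iv6 F151873)) (tt N53498 D99937))
theorem Q28385 : ∀ i, i < 28385 → P i := stepQ 28384 Q28384 (allL N28384 (tt N53487 (iv1 F153848)) (tt N53486 (iv0 F153847)) (tt N53489 (iv2 F153853)) (tt N14161 F73770) (tt N26894 F73771) (tt N53498 (iv5 F153868)) (tt N14429 F73772) (tt N14159 (iv7 D46675)))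
theorem Q28386 : ∀ i, i < 28386 → P i := stepQ 28385 Q28385 (allL N28385 (tt N49791 (iv1 F137249)) (tt N14160 (iv0 D46676)) (tt N49793 (iv2 F137257)) (tt N53499 D99938) (tt N52737 (iv4 F151037)) (tt N27008 F291078) (tt N53500 D99939) (tt N49428 (iv7 F136338)))
theorem Q28387 : ∀ i, i < 28387 → P i := stepQ 28386 Q28386 (allL N28386 (tt N28946 (iv1 F74671)) (tt N28949 (iv0 F74672)) (tt N53175 (iv2 F152854)) (tt N53501 D99940) (tt N14160 (iv4 D46677)) (tt N50035 (iv5 F290691)) (tt N52931 (iv6 F151878)) (tt N53502 D99942))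
theorem Q28388 : ∀ i, i < 28388 → P i := stepQ 28387 Q28387 (allL N28387 (tt N49428 (iv1 F136330)) (tt N49793 F137259) (tt N49791 F137252) (tt N53498 (iv3 F153867)) (tt N53502 (iv4 F153870)) (tt N14161 F73773) (tt N53503 D99943) (tt N14160 (iv7 D46678)))
theorem Q28389 : ∀ i, i < 28389 → P i := stepQ 28388 Q28388 (allL N28388 (tt N14176 F73777) (tt N25754 F73778) (tt N14616 F73774) (tt N17040 F73775) (tt N17189 F305575) (tt N14162 (iv5 D46679)) (tt N17194 (iv6 F307603)) (tt N21782 F73776))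
theorem Q28390 : ∀ i, i < 28390 → P i := stepQ 28389 Q28389 (allL N28389 (tt N14232 F140419) (tt N50630 F140416) (tt N14617 F73780) (tt N25716 F73781) (tt N52187 (iv4 F147955)) (tt N53504 D99945) (tt N14162 (iv6 D46680)) (tt N50631 (iv7 F140424)))
theorem Q28391 : ∀ i, i < 28391 → P i := stepQ 28390 Q28390 (allL N28390 (tt N53429 F153662) (tt N14629 F73783) (tt N14164 F73782) (tt N50217 (iv3 F139252)) (tt N29239 (iv4 F75421)) (tt N53505 D99946) (tt N14163 (iv6 D46681)) (tt N53430 (iv7 F153666)))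
theorem Q28392 : ∀ i, i < 28392 → P i := stepQ 28391 Q28391 (allL N28391 (tt N53430 (iv1 F153667)) (tt N14164 (iv0 D46682)) (tt N53429 (iv2 F153661)) (tt N14622 F73784) (tt N27315 F73785) (tt N53506 D99947) (tt N50665 (iv6 F140606)) (tt N14629 (iv7 F73786)))
theorem Q28393 : ∀ i, i < 28393 → P i := stepQ 28392 Q28392 (allL N28392 (tt N14164 (iv1 D46683)) (tt N53430 F153668) (tt N14629 F148357) (tt N20159 F328157) (tt N52277 F148358) (tt N20156 (iv5 F328548)) (tt N48654 F293824) (tt N53429 (iv7 F153658)))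
theorem Q28394 : ∀ i, i < 28394 → P i := stepQ 28393 Q28393 (allL N28393 (tt N53507 D99951) (tt N53508 D99952) (tt N53505 (iv2 F153879)) (tt N14165 F73787) (tt N53509 D99953) (tt N14164 (iv5 D46684)) (tt N52939 (iv6 F151898)) (tt N53431 (iv7 F153670)))
theorem Q28395 : ∀ i, i < 28395 → P i := stepQ 28394 Q28394 (allL N28394 (tt N28331 F73788) (tt N28334 F73789) (tt N28903 F74635) (tt N53510 D99954) (tt N14165 (iv4 D46685)) (tt N49771 (iv5 F137213)) (tt N52947 (iv6 F151903)) (tt N28902 F74633))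
theorem Q28396 : ∀ i, i < 28396 → P i := stepQ 28395 Q28395 (allL N28395 (tt N27915 F73794) (tt N27912 F73792) (tt N14166 (iv2 D46686)) (tt N14289 F73790) (tt N14166 F73793) (tt N33839 (iv5 F85861)) (tt N53511 D99955) (tt N25714 F73791))
theorem Q28397 : ∀ i, i < 28397 → P i := stepQ 28396 Q28396 (allL N28396 (tt N28297 (iv1 F289729)) (tt N28301 (iv0 F289730)) (tt N53511 (iv2 F153891)) (tt N14167 F73795) (tt N53511 (iv4 F153893)) (tt N53512 D99958) (tt N14166 (iv6 D46687)) (tt N53450 (iv7 F289735)))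
theorem Q28398 : ∀ i, i < 28398 → P i := stepQ 28397 Q28397 (allL N28397 (tt N49798 (iv1 F343265)) (tt N53513 D99971) (tt N35251 (iv2 F91733)) (tt N53512 (iv3 F153894)) (tt N53514 D99972) (tt N14167 (iv5 D46690)) (tt N35247 (iv6 F91693)) (tt N53451 (iv7 F289744)))
theorem Q28399 : ∀ i, i < 28399 → P i := stepQ 28398 Q28398 (allL N28398 (tt N14173 (iv1 F73802)) (tt N14168 (iv0 D46692)) (tt N14170 (iv2 F154170)) (tt N53515 D99975) (tt N28217 (iv4 F73804)) (tt N40554 (iv5 F329238)) (tt N51228 (iv6 F294610)) (tt N14171 (iv7 F154174)))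
theorem Q28400 : ∀ i, i < 28400 → P i := stepQ 28399 Q28399 (allL N28399 (tt N14168 (iv1 D46693)) (tt N14173 F73797) (tt N14171 F154175) (tt N48865 F134741) (tt N28218 F73798) (tt N53516 D99978) (tt N53517 D99979) (tt N14170 F154176))
theorem Q28401 : ∀ i, i < 28401 → P i := stepQ 28400 Q28400 (allL N28400 (tt N14169 (iv1 D46697)) (tt N24397 F73807) (tt N23113 (iv2 F91298)) (tt N53518 D99984) (tt N17620 F117313) (tt N53519 D99985) (tt N53520 D99986) (tt N24382 (iv7 F117330)))
theorem Q28402 : ∀ i, i < 28402 → P i := stepQ 28401 Q28401 (allL N28401 (tt N33272 (iv1 F328491)) (tt N33271 (iv0 F328495)) (tt N24396 F73808) (tt N14180 F73809) (tt N31677 (iv4 F328500)) (tt N14169 (iv5 D46698)) (tt N14172 F73810) (tt N31675 (iv7 F328490)))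
theorem Q28403 : ∀ i, i < 28403 → P i := stepQ 28402 Q28402 (allL N28402 (tt N23113 (iv1 F91498)) (tt N24382 (iv0 F117326)) (tt N24397 F73811) (tt N14181 F73812) (tt N23510 F73813) (tt N31675 F328875) (tt N23099 (iv6 F91396)) (tt N14169 (iv7 D46699)))
theorem Q28404 : ∀ i, i < 28404 → P i := stepQ 28403 Q28403 (allL N28403 (tt N51189 (iv1 F143900)) (tt N14291 (iv0 F73820)) (tt N48861 (iv2 F154188)) (tt N14170 (iv3 D46701)) (tt N48857 F134735) (tt N53521 D99998) (tt N27333 F295346) (tt N48865 (iv7 F154180)))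
theorem Q28405 : ∀ i, i < 28405 → P i := stepQ 28404 Q28404 (allL N28404 (tt N26646 F295002) (tt N25010 F129915) (tt N28217 F154177) (tt N53299 (iv3 F177411)) (tt N14170 (iv4 D46702)) (tt N53522 D100002) (tt N26412 F294276) (tt N28218 (iv7 F154182)))
theorem Q28406 : ∀ i, i < 28406 → P i := stepQ 28405 Q28405 (allL N28405 (tt N22712 (iv1 F329529)) (tt N53523 D100006) (tt N40554 F329518) (tt N53521 (iv3 F153945)) (tt N53524 D100007) (tt N14170 (iv5 D46703)) (tt N40517 (iv6 F329700)) (tt N53516 (iv7 F154184)))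
theorem Q28407 : ∀ i, i < 28407 → P i := stepQ 28406 Q28406 (allL N28406 (tt N53453 F289775) (tt N29008 (iv0 F289828)) (tt N51228 (iv2 F294608)) (tt N27333 (iv3 F294980)) (tt N26412 F294274) (tt N38791 F325947) (tt N14170 (iv6 D46704)) (tt N51230 (iv7 F294619)))
theorem Q28408 : ∀ i, i < 28408 → P i := stepQ 28407 Q28407 (allL N28407 (tt N28265 F157775) (tt N53525 D100015) (tt N53526 D100016) (tt N14171 (iv3 D46706)) (tt N53526 F153961) (tt N53527 D100017) (tt N53528 D100018) (tt N53515 (iv7 F154169)))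
theorem Q28409 : ∀ i, i < 28409 → P i := stepQ 28408 Q28408 (allL N28408 (tt N25010 (iv1 F73823)) (tt N26646 F295001) (tt N28218 (iv2 F154181)) (tt N48858 (iv3 F134729)) (tt N14171 (iv4 D46707)) (tt N53529 D100019) (tt N28978 F289860) (tt N28217 F154178))
theorem Q28410 : ∀ i, i < 28410 → P i := stepQ 28409 Q28409 (allL N28409 (tt N53523 (iv1 F153953)) (tt N22712 (iv0 F329528)) (tt N53516 (iv2 F154183)) (tt N53527 (iv3 F153964)) (tt N53530 D100021) (tt N14171 (iv5 D46708)) (tt N53531 D100022) (tt N40554 F329519))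
theorem Q28411 : ∀ i, i < 28411 → P i := stepQ 28410 Q28410 (allL N28410 (tt N26500 F292667) (tt N47844 F277450) (tt N53517 (iv2 F154185)) (tt N53528 (iv3 F153965)) (tt N28978 F289859) (tt N53532 D100025) (tt N14171 (iv6 D46709)) (tt N53533 D100026))
theorem Q28412 : ∀ i, i < 28412 → P i := stepQ 28411 Q28411 (allL N28411 (tt N28024 (iv1 F73830)) (tt N28023 F73829) (tt N14174 (iv2 D46714)) (tt N25754 F73826) (tt N48976 (iv4 F134976)) (tt N26058 F73827) (tt N53534 D100040) (tt N28021 F73828))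
theorem Q28413 : ∀ i, i < 28413 → P i := stepQ 28412 Q28412 (allL N28412 (tt N24385 F73832) (tt N28687 (iv0 F74374)) (tt N48976 F134978) (tt N46810 (iv3 F127150)) (tt N14174 (iv4 D46715)) (tt N34592 (iv5 F87996)) (tt N53535 D100041) (tt N28025 F73831))
theorem Q28414 : ∀ i, i < 28414 → P i := stepQ 28413 Q28413 (allL N28413 (tt N53536 D100042) (tt N53537 D100043) (tt N53534 (iv2 F153971)) (tt N14175 F73833) (tt N53535 (iv4 F153973)) (tt N53538 D100044) (tt N14174 (iv6 D46716)) (tt N53539 D100045))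
theorem Q28415 : ∀ i, i < 28415 → P i := stepQ 28414 Q28414 (allL N28414 (tt N28046 (iv1 F73839)) (tt N14175 (iv0 D46717)) (tt N28043 (iv2 F274641)) (tt N53540 D100047) (tt N23003 (iv4 F249125)) (tt N53541 D100049) (tt N53542 D100050) (tt N28044 F274640))
theorem Q28416 : ∀ i, i < 28416 → P i := stepQ 28415 Q28415 (allL N28415 (tt N14175 (iv1 D46718)) (tt N28046 F73834) (tt N28044 F274638) (tt N17626 (iv3 F306706)) (tt N23004 (iv4 F249129)) (tt N53543 D100054) (tt N53544 D100055) (tt N28043 (iv7 F274642)))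
theorem Q28417 : ∀ i, i < 28417 → P i := stepQ 28416 Q28416 (allL N28416 (tt N53545 D100056) (tt N53546 D100057) (tt N28045 F73835) (tt N53538 (iv3 F153974)) (tt N53547 D100058) (tt N14175 (iv5 D46719)) (tt N26060 F73836) (tt N53548 D100059))
theorem Q28418 : ∀ i, i < 28418 → P i := stepQ 28417 Q28417 (allL N28417 (tt N28044 (iv1 F73840)) (tt N28043 F73841) (tt N28046 F73837) (tt N53539 (iv3 F153976)) (tt N46816 (iv4 F127156)) (tt N53548 (iv5 F153985)) (tt N28032 F73838) (tt N14175 (iv7 D46720)))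
theorem Q28419 : ∀ i, i < 28419 → P i := stepQ 28418 Q28418 (allL N28418 (tt N48765 F134360) (tt N36422 F303689) (tt N48767 (iv2 F134435)) (tt N37570 (iv3 F305056)) (tt N14176 (iv4 D46721)) (tt N53549 D100061) (tt N53550 D100062) (tt N28037 F73842))
theorem Q28420 : ∀ i, i < 28420 → P i := stepQ 28419 Q28419 (allL N28419 (tt N22207 F300230) (tt N53551 D100064) (tt N48768 (iv2 F134437)) (tt N14177 F73843) (tt N53550 (iv4 F154000)) (tt N53552 D100065) (tt N14176 (iv6 D46722)) (tt N53553 D100066))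
theorem Q28421 : ∀ i, i < 28421 → P i := stepQ 28420 Q28420 (allL N28420 (tt N45547 (iv1 F305514)) (tt N53554 D100078) (tt N28031 F73845) (tt N53552 (iv3 F154001)) (tt N27399 (iv4 F305515)) (tt N14177 (iv5 D46725)) (tt N26063 F73846) (tt N28584 F303331))
theorem Q28422 : ∀ i, i < 28422 → P i := stepQ 28421 Q28421 (allL N28421 (tt N17648 F299048) (tt N28030 F73851) (tt N28032 F73847) (tt N53553 (iv3 F154003)) (tt N46397 (iv4 F300389)) (tt N28584 (iv5 F301799)) (tt N28046 F73848) (tt N14177 (iv7 D46726)))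
theorem Q28423 : ∀ i, i < 28423 → P i := stepQ 28422 Q28422 (allL N28422 (tt N53555 D100087) (tt N53484 (iv0 F357452)) (tt N53556 D100089) (tt N14178 (iv3 D46728)) (tt N53557 D100090) (tt N53558 D100091) (tt N43134 F321747) (tt N53186 (iv7 F275002)))
theorem Q28424 : ∀ i, i < 28424 → P i := stepQ 28423 Q28423 (allL N28423 (tt N24664 F155450) (tt N24518 (iv0 F155451)) (tt N24661 F274991) (tt N53559 D100096) (tt N14178 (iv4 D46729)) (tt N53560 D100097) (tt N53561 D100098) (tt N24662 F274992))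
theorem Q28425 : ∀ i, i < 28425 → P i := stepQ 28424 Q28424 (allL N28424 (tt N53562 D100100) (tt N53563 D100101) (tt N53184 (iv2 F275010)) (tt N53558 (iv3 F154027)) (tt N53564 D100102) (tt N14178 (iv5 D46730)) (tt N53565 D100103) (tt N53187 (iv7 F275004)))
theorem Q28426 : ∀ i, i < 28426 → P i := stepQ 28425 Q28425 (allL N28425 (tt N47270 F304506) (tt N53566 D100106) (tt N53185 (iv2 F275012)) (tt N43134 F321743) (tt N53561 (iv4 F154032)) (tt N28178 F73853) (tt N14178 (iv6 D46731)) (tt N53567 D100107))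
theorem Q28427 : ∀ i, i < 28427 → P i := stepQ 28426 Q28426 (allL N28426 (tt N25755 F232748) (tt N53568 D100110) (tt N53569 D100111) (tt N14179 (iv3 D46733)) (tt N53570 D100112) (tt N53571 D100113) (tt N53572 D100114) (tt N53183 (iv7 F275009)))
theorem Q28428 : ∀ i, i < 28428 → P i := stepQ 28427 Q28427 (allL N28427 (tt N24518 (iv1 F155452)) (tt N24664 F155449) (tt N24662 (iv2 F274985)) (tt N53573 D100115) (tt N14179 (iv4 D46734)) (tt N53574 D100116) (tt N53575 D100117) (tt N24661 (iv7 F274990)))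
theorem Q28429 : ∀ i, i < 28429 → P i := stepQ 28428 Q28428 (allL N28428 (tt N53563 (iv1 F154037)) (tt N53562 F154041) (tt N53187 (iv2 F275003)) (tt N53571 (iv3 F154047)) (tt N53576 D100118) (tt N14179 (iv5 D46735)) (tt N53577 D100119) (tt N53184 (iv7 F275011)))
theorem Q28430 : ∀ i, i < 28430 → P i := stepQ 28429 Q28429 (allL N28429 (tt N53578 D100120) (tt N53542 (iv0 F274584)) (tt N53188 (iv2 F275007)) (tt N53572 (iv3 F154048)) (tt N53575 (iv4 F154049)) (tt N53579 D100122) (tt N14179 (iv6 D46736)) (tt N53580 D100123))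
theorem Q28431 : ∀ i, i < 28431 → P i := stepQ 28430 Q28430 (allL N28430 (tt N53191 (iv1 F152918)) (tt N14180 (iv0 D46737)) (tt N53189 (iv2 F268283)) (tt N53581 D100125) (tt N53582 D100126) (tt N52961 (iv5 F268282)) (tt N53583 D100128) (tt N52960 (iv7 F268280)))
theorem Q28432 : ∀ i, i < 28432 → P i := stepQ 28431 Q28431 (allL N28431 (tt N14180 (iv1 D46738)) (tt N53191 F152917) (tt N52960 (iv2 F268279)) (tt N53584 D100130) (tt N53585 D100131) (tt N49508 (iv5 F136722)) (tt N53586 D100132) (tt N53189 (iv7 F268284)))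
theorem Q28433 : ∀ i, i < 28433 → P i := stepQ 28432 Q28432 (allL N28432 (tt N53587 D100133) (tt N53588 D100134) (tt N53190 (iv2 F152912)) (tt N40315 (iv3 F329675)) (tt N14180 (iv4 D46739)) (tt N53589 D100136) (tt N14190 F73855) (tt N40311 F329487))
theorem Q28434 : ∀ i, i < 28434 → P i := stepQ 28433 Q28433 (allL N28433 (tt N52960 F151927) (tt N53189 F152916) (tt N53191 (iv2 F152914)) (tt N31675 F328874) (tt N40311 (iv4 F329204)) (tt N14181 F73856) (tt N31674 (iv6 F329205)) (tt N14180 (iv7 D46740)))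
theorem Q28435 : ∀ i, i < 28435 → P i := stepQ 28434 Q28434 (allL N28434 (tt N50439 (iv1 F139730)) (tt N14182 (iv0 D46741)) (tt N50438 (iv2 F143205)) (tt N53525 (iv3 F153963)) (tt N53590 D100139) (tt N53591 D100140) (tt N53214 (iv6 F177389)) (tt N50215 (iv7 F157737)))
theorem Q28436 : ∀ i, i < 28436 → P i := stepQ 28435 Q28435 (allL N28435 (tt N50438 (iv1 F139731)) (tt N50215 (iv0 F157735)) (tt N14182 (iv2 D46743)) (tt N25756 F73857) (tt N50133 (iv4 F138960)) (tt N53592 D100145) (tt N52309 (iv6 F291555)) (tt N50439 (iv7 F139729)))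
theorem Q28437 : ∀ i, i < 28437 → P i := stepQ 28436 Q28436 (allL N28436 (tt N53593 D100147) (tt N53594 D100148) (tt N53592 (iv2 F154075)) (tt N14183 F73858) (tt N53595 D100149) (tt N14182 (iv5 D46744)) (tt N53596 D100150) (tt N50440 (iv7 F139734)))
theorem Q28438 : ∀ i, i < 28438 → P i := stepQ 28437 Q28437 (allL N28437 (tt N53597 D100151) (tt N53598 D100152) (tt N52309 (iv2 F291553)) (tt N14184 F73859) (tt N27186 F73860) (tt N49527 (iv5 F136766)) (tt N14182 (iv6 D46745)) (tt N53012 (iv7 F152000)))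
theorem Q28439 : ∀ i, i < 28439 → P i := stepQ 28438 Q28438 (allL N28438 (tt N14183 (iv1 D46746)) (tt N14186 F73861) (tt N27007 (iv2 F291690)) (tt N53523 (iv3 F335717)) (tt N53599 D100154) (tt N26859 F291165) (tt N53600 D100155) (tt N27002 (iv7 F291852)))
theorem Q28440 : ∀ i, i < 28440 → P i := stepQ 28439 Q28439 (allL N28439 (tt N51029 (iv1 F294165)) (tt N51018 (iv0 F293430)) (tt N53193 (iv2 F152922)) (tt N53601 D100158) (tt N14183 (iv4 D46747)) (tt N51069 (iv5 F292001)) (tt N53602 D100160) (tt N50442 (iv7 F139738)))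
theorem Q28441 : ∀ i, i < 28441 → P i := stepQ 28440 Q28440 (allL N28440 (tt N53603 D100161) (tt N40515 (iv0 F360355)) (tt N53025 (iv2 F152019)) (tt N53596 (iv3 F154081)) (tt N53602 (iv4 F154092)) (tt N49529 (iv5 F136773)) (tt N14183 (iv6 D46748)) (tt N53604 D100163))
theorem Q28442 : ∀ i, i < 28442 → P i := stepQ 28441 Q28441 (allL N28441 (tt N14185 (iv1 D46749)) (tt N25756 F73865) (tt N25758 (iv2 F73863)) (tt N51189 (iv3 F143896)) (tt N53605 D100164) (tt N53606 D100165) (tt N50631 (iv6 F140423)) (tt N25753 F73862))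
theorem Q28443 : ∀ i, i < 28443 → P i := stepQ 28442 Q28442 (allL N28442 (tt N25753 (iv1 F73868)) (tt N25758 F73867) (tt N14185 (iv2 D46750)) (tt N50439 (iv3 F139727)) (tt N53607 D100166) (tt N53608 D100167) (tt N49191 (iv6 F135340)) (tt N25756 F73866))
theorem Q28444 : ∀ i, i < 28444 → P i := stepQ 28443 Q28443 (allL N28443 (tt N29236 (iv1 F157757)) (tt N53609 D100169) (tt N53607 (iv2 F154103)) (tt N14503 F73869) (tt N14185 (iv4 D46751)) (tt N53610 D100170) (tt N53611 D100171) (tt N14527 F73870))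
theorem Q28445 : ∀ i, i < 28445 → P i := stepQ 28444 Q28444 (allL N28444 (tt N53612 D100172) (tt N53613 D100173) (tt N53608 (iv2 F154108)) (tt N14186 F73871) (tt N53614 D100174) (tt N14185 (iv5 D46752)) (tt N53615 D100175) (tt N53192 (iv7 F152921)))
theorem Q28446 : ∀ i, i < 28446 → P i := stepQ 28445 Q28445 (allL N28445 (tt N48841 F134655) (tt N49193 (iv0 F285749)) (tt N49191 F135339) (tt N14187 F73872) (tt N53611 (iv4 F154120)) (tt N53616 D100177) (tt N14185 (iv6 D46753)) (tt N49192 (iv7 F135338)))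
theorem Q28447 : ∀ i, i < 28447 → P i := stepQ 28446 Q28446 (allL N28446 (tt N51018 (iv1 F293431)) (tt N51029 (iv0 F294164)) (tt N50442 (iv2 F139737)) (tt N53617 D100178) (tt N14186 (iv4 D46754)) (tt N51066 (iv5 F290827)) (tt N53618 D100180) (tt N53193 (iv7 F152923)))
theorem Q28448 : ∀ i, i < 28448 → P i := stepQ 28447 Q28447 (allL N28447 (tt N53619 D100181) (tt N53620 D100182) (tt N50443 (iv2 F139740)) (tt N53615 (iv3 F154125)) (tt N53618 (iv4 F154129)) (tt N53621 D100183) (tt N14186 (iv6 D46755)) (tt N53622 D100184))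
theorem Q28449 : ∀ i, i < 28449 → P i := stepQ 28448 Q28448 (allL N28448 (tt N49292 F135785) (tt N49291 (iv0 F135776)) (tt N49831 F137365) (tt N53616 (iv3 F154126)) (tt N53623 D100186) (tt N14187 (iv5 D46758)) (tt N53621 (iv6 F154130)) (tt N49832 (iv7 F137367)))
theorem Q28450 : ∀ i, i < 28450 → P i := stepQ 28449 Q28449 (allL N28449 (tt N53591 (iv1 F369034)) (tt N53485 (iv0 F367251)) (tt N53624 D100189) (tt N14188 (iv3 D46760)) (tt N53625 D100190) (tt N51095 (iv5 F292681)) (tt N53626 D100192) (tt N53196 (iv7 F152932)))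
theorem Q28451 : ∀ i, i < 28451 → P i := stepQ 28450 Q28450 (allL N28450 (tt N28631 (iv1 F74304)) (tt N28243 F74301) (tt N28628 F74298) (tt N53627 D100193) (tt N14188 (iv4 D46761)) (tt N50873 (iv5 F292615)) (tt N53628 D100195) (tt N28629 F74297))
theorem Q28452 : ∀ i, i < 28452 → P i := stepQ 28451 Q28451 (allL N28451 (tt N53629 D100196) (tt N53630 D100197) (tt N53195 (iv2 F152929)) (tt N53626 (iv3 F154139)) (tt N53628 (iv4 F154141)) (tt N53443 (iv5 F153706)) (tt N14188 (iv6 D46763)) (tt N53631 D100198))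
theorem Q28453 : ∀ i, i < 28453 → P i := stepQ 28452 Q28452 (allL N28452 (tt N25757 F134921) (tt N53606 (iv0 F154100)) (tt N53632 D100199) (tt N14189 (iv3 D46764)) (tt N53633 D100200) (tt N28182 F73881) (tt N53634 D100201) (tt N53194 (iv7 F152926)))
theorem Q28454 : ∀ i, i < 28454 → P i := stepQ 28453 Q28453 (allL N28453 (tt N28243 F73882) (tt N28631 F74303) (tt N28629 F74296) (tt N53635 D100202) (tt N14189 (iv4 D46765)) (tt N51057 (iv5 F292328)) (tt N53636 D100204) (tt N28628 (iv7 F74300)))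
theorem Q28455 : ∀ i, i < 28455 → P i := stepQ 28454 Q28454 (allL N28454 (tt N53637 D100205) (tt N53638 D100206) (tt N53197 (iv2 F152933)) (tt N53634 (iv3 F154146)) (tt N53636 (iv4 F154149)) (tt N28183 F73883) (tt N14189 (iv6 D46766)) (tt N53639 D100207))
theorem Q28456 : ∀ i, i < 28456 → P i := stepQ 28455 Q28455 (allL N28455 (tt N33232 (iv1 F329684)) (tt N33231 (iv0 F329685)) (tt N33234 (iv2 F329686)) (tt N14190 (iv3 D46769)) (tt N30139 F329511) (tt N51085 (iv5 F292039)) (tt N40315 (iv6 F329676)) (tt N30138 (iv7 F329667)))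
theorem Q28457 : ∀ i, i < 28457 → P i := stepQ 28456 Q28456 (allL N28456 (tt N50853 (iv1 F292940)) (tt N50833 (iv0 F292957)) (tt N51046 (iv2 F292042)) (tt N30138 (iv3 F329666)) (tt N14191 F73885) (tt N50840 (iv5 F291999)) (tt N30136 (iv6 F329668)) (tt N14190 (iv7 D46771)))
theorem Q28458 : ∀ i, i < 28458 → P i := stepQ 28457 Q28457 (allL N28457 (tt N53640 D100234) (tt N53641 D100235) (tt N51194 (iv2 F143921)) (tt N14193 F73888) (tt N53642 D100236) (tt N14192 (iv5 D46775)) (tt N53643 D100237) (tt N53198 (iv7 F152955)))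
theorem Q28459 : ∀ i, i < 28459 → P i := stepQ 28458 Q28458 (allL N28458 (tt N52298 (iv1 F294405)) (tt N52297 (iv0 F294401)) (tt N25573 F293500) (tt N14194 F73889) (tt N28458 F73890) (tt N49598 (iv5 F136890)) (tt N14192 (iv6 D46776)) (tt N28126 (iv7 F73891)))
theorem Q28460 : ∀ i, i < 28460 → P i := stepQ 28459 Q28459 (allL N28459 (tt N14193 (iv1 D46777)) (tt N14196 F73892) (tt N27013 F292894) (tt N53644 D100240) (tt N53645 D100241) (tt N26860 F292895) (tt N53646 D100242) (tt N27011 (iv7 F293149)))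
theorem Q28461 : ∀ i, i < 28461 → P i := stepQ 28460 Q28460 (allL N28460 (tt N49822 (iv1 F137335)) (tt N53599 (iv0 F154082)) (tt N29212 (iv2 F75259)) (tt N53647 D100243) (tt N14193 (iv4 D46778)) (tt N50990 (iv5 F292034)) (tt N53648 D100244) (tt N53199 (iv7 F152961)))
theorem Q28462 : ∀ i, i < 28462 → P i := stepQ 28461 Q28461 (allL N28461 (tt N53649 D100245) (tt N53650 D100246) (tt N29213 (iv2 F75261)) (tt N53643 (iv3 F154222)) (tt N53648 (iv4 F154230)) (tt N49599 (iv5 F136891)) (tt N14193 (iv6 D46779)) (tt N53651 D100247))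
theorem Q28463 : ∀ i, i < 28463 → P i := stepQ 28462 Q28462 (allL N28462 (tt N14198 (iv1 F73894)) (tt N14195 (iv0 D46781)) (tt N26964 F291334) (tt N53652 D100250) (tt N26631 F73893) (tt N26850 (iv5 F292120)) (tt N27146 (iv6 F292109)) (tt N26968 F291335))
theorem Q28464 : ∀ i, i < 28464 → P i := stepQ 28463 Q28463 (allL N28463 (tt N53653 D100254) (tt N51471 (iv0 F364350)) (tt N50082 (iv2 F292118)) (tt N14195 (iv3 D46783)) (tt N28463 F73897) (tt N50987 (iv5 F292119)) (tt N26830 F291333) (tt N53201 (iv7 F152964)))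
theorem Q28465 : ∀ i, i < 28465 → P i := stepQ 28464 Q28464 (allL N28464 (tt N53599 (iv1 F154083)) (tt N49822 (iv0 F137334)) (tt N53199 (iv2 F152960)) (tt N53654 D100262) (tt N14196 (iv4 D46786)) (tt N50988 (iv5 F292037)) (tt N53655 D100263) (tt N29212 (iv7 F75260)))
theorem Q28466 : ∀ i, i < 28466 → P i := stepQ 28465 Q28465 (allL N28465 (tt N53656 D100264) (tt N53657 D100265) (tt N53200 (iv2 F152962)) (tt N27064 F73900) (tt N53655 (iv4 F154251)) (tt N53658 D100266) (tt N14196 (iv6 D46787)) (tt N53659 D100267))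
theorem Q28467 : ∀ i, i < 28467 → P i := stepQ 28466 Q28466 (allL N28466 (tt N49287 (iv1 F135761)) (tt N49285 (iv0 F135756)) (tt N49743 F137129) (tt N27065 F73910) (tt N53660 D100269) (tt N14197 (iv5 D46789)) (tt N53658 (iv6 F154253)) (tt N29381 (iv7 F292190)))
theorem Q28468 : ∀ i, i < 28468 → P i := stepQ 28467 Q28467 (allL N28467 (tt N14200 (iv1 D46819)) (tt N14214 F73946) (tt N14212 F73949) (tt N27260 (iv3 F291572)) (tt N26860 F73951) (tt N26087 (iv5 F73948)) (tt N27177 F291259) (tt N14211 F73947))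
theorem Q28469 : ∀ i, i < 28469 → P i := stepQ 28468 Q28468 (allL N28468 (tt N14212 (iv1 F73961)) (tt N14211 F73962) (tt N14214 F73959) (tt N48612 (iv3 F292172)) (tt N26279 F291498) (tt N14201 F73960) (tt N46878 (iv6 F292090)) (tt N14200 (iv7 D46820)))
theorem Q28470 : ∀ i, i < 28470 → P i := stepQ 28469 Q28469 (allL N28469 (tt N50884 (iv1 F290204)) (tt N14450 (iv0 F290205)) (tt N50865 (iv2 F142811)) (tt N50087 (iv3 F138849)) (tt N53293 (iv4 F153294)) (tt N53661 D100341) (tt N14202 (iv6 D46821)) (tt N50883 (iv7 F290209)))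
theorem Q28471 : ∀ i, i < 28471 → P i := stepQ 28470 Q28470 (allL N28470 (tt N26486 (iv1 F290210)) (tt N50910 (iv0 F290211)) (tt N50864 (iv2 F142808)) (tt N50865 (iv3 F142812)) (tt N53227 (iv4 F153122)) (tt N53662 D100345) (tt N14203 (iv6 D46822)) (tt N50909 (iv7 F290215)))
theorem Q28472 : ∀ i, i < 28472 → P i := stepQ 28471 Q28471 (allL N28471 (tt N51054 (iv1 F143356)) (tt N51053 F143349) (tt N14206 F73963) (tt N26507 F73964) (tt N14219 F73965) (tt N53663 D100347) (tt N14204 (iv6 D46823)) (tt N51055 (iv7 F143354)))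
theorem Q28473 : ∀ i, i < 28473 → P i := stepQ 28472 Q28472 (allL N28472 (tt N53664 D100348) (tt N45189 (iv0 F114742)) (tt N23335 F73967) (tt N14207 F73968) (tt N23326 F73969) (tt N53665 D100349) (tt N14205 (iv6 D46824)) (tt N36254 (iv7 F94209)))
theorem Q28474 : ∀ i, i < 28474 → P i := stepQ 28473 Q28473 (allL N28473 (tt N51055 (iv1 F143355)) (tt N14206 (iv0 D46825)) (tt N51054 (iv2 F155663)) (tt N50096 F138869) (tt N53295 (iv4 F177404)) (tt N53666 D100352) (tt N50503 (iv6 F355743)) (tt N51053 (iv7 F155649)))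
theorem Q28475 : ∀ i, i < 28475 → P i := stepQ 28474 Q28474 (allL N28474 (tt N14206 (iv1 D46826)) (tt N51055 F143357) (tt N51053 (iv2 F155648)) (tt N50868 (iv3 F154347)) (tt N53296 (iv4 F177409)) (tt N53667 D100357) (tt N53668 D100358) (tt N51054 (iv7 F155664)))
theorem Q28476 : ∀ i, i < 28476 → P i := stepQ 28475 Q28475 (allL N28475 (tt N53669 D100359) (tt N53670 D100360) (tt N53663 (iv2 F154327)) (tt N14208 F73970) (tt N53671 D100361) (tt N14206 (iv5 D46827)) (tt N53665 (iv6 F154338)) (tt N51056 (iv7 F143359)))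
theorem Q28477 : ∀ i, i < 28477 → P i := stepQ 28476 Q28476 (allL N28476 (tt N32672 (iv1 F83327)) (tt N32689 F83349) (tt N32687 (iv2 F83345)) (tt N53665 (iv3 F154337)) (tt N53672 D100362) (tt N14207 (iv5 D46830)) (tt N14208 F73971) (tt N32686 (iv7 F178052)))
theorem Q28478 : ∀ i, i < 28478 → P i := stepQ 28477 Q28477 (allL N28477 (tt N50106 F138879) (tt N29987 (iv0 F94211)) (tt N50299 F139476) (tt N36254 F94210) (tt N50743 (iv4 F142205)) (tt N32686 (iv5 F178051)) (tt N50743 (iv6 F142206)) (tt N14207 (iv7 D46831)))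
theorem Q28479 : ∀ i, i < 28479 → P i := stepQ 28478 Q28478 (allL N28478 (tt N50836 (iv1 F142697)) (tt N14208 (iv0 D46832)) (tt N50871 F142837) (tt N53673 D100364) (tt N50830 (iv4 F142669)) (tt N26283 F290825) (tt N53674 D100365) (tt N50872 (iv7 F142844)))
theorem Q28480 : ∀ i, i < 28480 → P i := stepQ 28479 Q28479 (allL N28479 (tt N26963 F74025) (tt N26967 F73972) (tt N50873 (iv2 F142848)) (tt N53675 D100366) (tt N14208 (iv4 D46833)) (tt N28628 (iv5 F293155)) (tt N53672 (iv6 F154349)) (tt N51057 (iv7 F143361)))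
theorem Q28481 : ∀ i, i < 28481 → P i := stepQ 28480 Q28480 (allL N28480 (tt N25706 (iv1 F291241)) (tt N25704 F290823) (tt N26631 (iv2 F291236)) (tt N49766 F137192) (tt N26964 F74022) (tt N14211 (iv5 D46843)) (tt N26809 (iv6 F291070)) (tt N26087 F74021))
theorem Q28482 : ∀ i, i < 28482 → P i := stepQ 28481 Q28481 (allL N28481 (tt N53676 D100375) (tt N53677 D100376) (tt N53678 D100377) (tt N14213 (iv3 D46846)) (tt N14250 F74034) (tt N53196 (iv5 F292909)) (tt N26001 F74035) (tt N51095 (iv7 F143504)))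
theorem Q28483 : ∀ i, i < 28483 → P i := stepQ 28482 Q28482 (allL N28482 (tt N53679 D100381) (tt N53680 D100382) (tt N25710 F74038) (tt N14216 F74039) (tt N27641 F74040) (tt N53681 D100383) (tt N14215 (iv6 D46849)) (tt N53433 (iv7 F153675)))
theorem Q28484 : ∀ i, i < 28484 → P i := stepQ 28483 Q28483 (allL N28483 (tt N53682 D100384) (tt N49826 (iv0 F137346)) (tt N50246 (iv2 F139326)) (tt N53681 (iv3 F154404)) (tt N53683 D100385) (tt N14216 (iv5 D46850)) (tt N53082 (iv6 F152440)) (tt N53434 (iv7 F153679)))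
theorem Q28485 : ∀ i, i < 28485 → P i := stepQ 28484 Q28484 (allL N28484 (tt N14217 (iv1 D46851)) (tt N52741 F151054) (tt N14475 F143009) (tt N47821 F289755) (tt N50910 F143010) (tt N53684 D100386) (tt N26836 (iv6 F292348)) (tt N47841 F289807))
theorem Q28486 : ∀ i, i < 28486 → P i := stepQ 28485 Q28485 (allL N28485 (tt N53499 F153869) (tt N53685 D100388) (tt N53176 (iv2 F152857)) (tt N25712 F74042) (tt N53686 D100389) (tt N14217 (iv5 D46852)) (tt N43855 F306388) (tt N53687 D100390))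
theorem Q28487 : ∀ i, i < 28487 → P i := stepQ 28486 Q28486 (allL N28486 (tt N14475 F74046) (tt N47841 F289799) (tt N52741 F151053) (tt N25699 F74043) (tt N25930 F74044) (tt N53687 (iv5 F154410)) (tt N14459 F74045) (tt N14217 (iv7 D46853)))
theorem Q28488 : ∀ i, i < 28488 → P i := stepQ 28487 Q28487 (allL N28487 (tt N22168 (iv1 F74052)) (tt N22255 F74053) (tt N14222 F74048) (tt N17383 F74049) (tt N14218 (iv4 D46854)) (tt N23341 F74050) (tt N53688 D100391) (tt N17651 F74051))
theorem Q28489 : ∀ i, i < 28489 → P i := stepQ 28488 Q28488 (allL N28488 (tt N53689 D100392) (tt N53690 D100393) (tt N14223 F74054) (tt N17623 F74055) (tt N53688 (iv4 F154413)) (tt N53691 D100394) (tt N14218 (iv6 D46855)) (tt N53692 D100395))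
theorem Q28490 : ∀ i, i < 28490 → P i := stepQ 28489 Q28489 (allL N28489 (tt N14219 (iv1 D46856)) (tt N14227 F74056) (tt N14225 (iv2 F74058)) (tt N53693 D100396) (tt N50115 (iv4 F138917)) (tt N53694 D100397) (tt N29039 (iv6 F75840)) (tt N14224 F74057))
theorem Q28491 : ∀ i, i < 28491 → P i := stepQ 28490 Q28490 (allL N28490 (tt N53695 D100398) (tt N53696 D100399) (tt N14226 F74059) (tt N40132 (iv3 F329716)) (tt N53697 D100400) (tt N14219 (iv5 D46857)) (tt N53691 (iv6 F154417)) (tt N40126 F329569))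
theorem Q28492 : ∀ i, i < 28492 → P i := stepQ 28491 Q28491 (allL N28491 (tt N14225 (iv1 F74061)) (tt N14224 F74062) (tt N14227 F74060) (tt N40131 (iv3 F329243)) (tt N51055 (iv4 F143352)) (tt N40126 (iv5 F329255)) (tt N40128 F328913) (tt N14219 (iv7 D46858)))
theorem Q28493 : ∀ i, i < 28493 → P i := stepQ 28492 Q28492 (allL N28492 (tt N44755 (iv1 F113357)) (tt N44757 (iv0 F113364)) (tt N22216 (iv2 F302022)) (tt N14220 (iv3 D46859)) (tt N28593 F74248) (tt N26089 F74064) (tt N22214 (iv6 F300659)) (tt N28143 F74065))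
theorem Q28494 : ∀ i, i < 28494 → P i := stepQ 28493 Q28493 (allL N28493 (tt N42632 (iv1 F106651)) (tt N53698 D100403) (tt N23353 F74066) (tt N34469 (iv3 F87618)) (tt N14220 (iv4 D46860)) (tt N23331 F74068) (tt N46741 (iv6 F300999)) (tt N28145 F74067))
theorem Q28495 : ∀ i, i < 28495 → P i := stepQ 28494 Q28494 (allL N28494 (tt N17651 F299036) (tt N14222 (iv0 F300551)) (tt N22168 (iv2 F300548)) (tt N22214 (iv3 F300658)) (tt N46741 (iv4 F300998)) (tt N45311 (iv5 F301777)) (tt N14220 (iv6 D46861)) (tt N22255 (iv7 F300550)))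
theorem Q28496 : ∀ i, i < 28496 → P i := stepQ 28495 Q28495 (allL N28495 (tt N53698 (iv1 F154447)) (tt N42632 (iv0 F106652)) (tt N28145 F74070) (tt N42798 (iv3 F302015)) (tt N14221 (iv4 D46862)) (tt N23354 F74071) (tt N53699 D100410) (tt N23353 F74072))
theorem Q28497 : ∀ i, i < 28497 → P i := stepQ 28496 Q28496 (allL N28496 (tt N53540 (iv1 F307489)) (tt N52807 (iv0 F302019)) (tt N28146 F74073) (tt N22262 (iv3 F302013)) (tt N53699 (iv4 F154466)) (tt N53700 D100413) (tt N14221 (iv6 D46863)) (tt N22257 (iv7 F301776)))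
theorem Q28498 : ∀ i, i < 28498 → P i := stepQ 28497 Q28497 (allL N28497 (tt N43693 (iv1 F109468)) (tt N35356 (iv0 F92152)) (tt N23341 F74079) (tt N47269 (iv3 F128608)) (tt N23328 F74081) (tt N14222 (iv5 D46865)) (tt N53701 D100416) (tt N23337 F74080))
theorem Q28499 : ∀ i, i < 28499 → P i := stepQ 28498 Q28498 (allL N28498 (tt N53702 D100417) (tt N53703 D100418) (tt N53688 (iv2 F154411)) (tt N47270 (iv3 F128611)) (tt N14223 F74082) (tt N53704 D100419) (tt N14222 (iv6 D46866)) (tt N53705 D100420))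
theorem Q28500 : ∀ i, i < 28500 → P i := stepQ 28499 Q28499 (allL N28499 (tt N53692 (iv1 F154423)) (tt N14223 (iv0 D46867)) (tt N53689 (iv2 F308563)) (tt N53706 D100422) (tt N53707 D100423) (tt N53095 (iv5 F338880)) (tt N53708 D100425) (tt N53690 (iv7 F338851)))
theorem Q28501 : ∀ i, i < 28501 → P i := stepQ 28500 Q28500 (allL N28500 (tt N14223 (iv1 D46868)) (tt N53692 F154422) (tt N53690 (iv2 F338848)) (tt N25722 F265226) (tt N53709 D100428) (tt N53710 D100429) (tt N53711 D100430) (tt N53689 (iv7 F308564)))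
theorem Q28502 : ∀ i, i < 28502 → P i := stepQ 28501 Q28501 (allL N28501 (tt N53712 D100431) (tt N53713 D100432) (tt N53691 (iv2 F154415)) (tt N14230 F74083) (tt N53714 D100433) (tt N14223 (iv5 D46869)) (tt N14226 F74084) (tt N53715 D100434))
theorem Q28503 : ∀ i, i < 28503 → P i := stepQ 28502 Q28502 (allL N28502 (tt N53690 (iv1 F154414)) (tt N53689 F154421) (tt N53692 (iv2 F154418)) (tt N14231 F74085) (tt N53705 (iv4 F154481)) (tt N53715 (iv5 F154487)) (tt N53181 (iv6 F152883)) (tt N14223 (iv7 D46870)))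
theorem Q28504 : ∀ i, i < 28504 → P i := stepQ 28503 Q28503 (allL N28503 (tt N53716 D100435) (tt N51698 (iv0 F177379)) (tt N25725 F74086) (tt N14224 (iv3 D46871)) (tt N51705 (iv4 F147090)) (tt N53717 D100437) (tt N50507 (iv6 F292350)) (tt N53693 (iv7 F154426)))
theorem Q28505 : ∀ i, i < 28505 → P i := stepQ 28504 Q28504 (allL N28504 (tt N53718 D100439) (tt N50466 (iv0 F292011)) (tt N50319 (iv2 F139506)) (tt N53717 (iv3 F154491)) (tt N53719 D100441) (tt N14224 (iv5 D46872)) (tt N53720 D100442) (tt N53694 (iv7 F154431)))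
theorem Q28506 : ∀ i, i < 28506 → P i := stepQ 28505 Q28505 (allL N28505 (tt N50466 (iv1 F292012)) (tt N53718 F154495) (tt N53694 (iv2 F154430)) (tt N25728 F74087) (tt N53721 D100445) (tt N14225 (iv5 D46874)) (tt N53722 D100446) (tt N50319 (iv7 F139508)))
theorem Q28507 : ∀ i, i < 28507 → P i := stepQ 28506 Q28506 (allL N28506 (tt N28350 F74089) (tt N29041 F153720) (tt N29039 F75839) (tt N25729 F74088) (tt N50117 (iv4 F138925)) (tt N49811 (iv5 F286030)) (tt N14225 (iv6 D46875)) (tt N29040 (iv7 F75838)))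
theorem Q28508 : ∀ i, i < 28508 → P i := stepQ 28507 Q28507 (allL N28507 (tt N40126 F329567) (tt N14226 (iv0 D46876)) (tt N53695 (iv2 F154442)) (tt N53723 D100448) (tt N53724 D100449) (tt N53725 D100450) (tt N53726 D100451) (tt N53696 F154443))
theorem Q28509 : ∀ i, i < 28509 → P i := stepQ 28508 Q28508 (allL N28508 (tt N14226 (iv1 D46877)) (tt N40126 F329566) (tt N53696 (iv2 F154434)) (tt N25731 F135030) (tt N53727 D100452) (tt N48790 F135031) (tt N53728 D100453) (tt N53695 (iv7 F154440)))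
theorem Q28510 : ∀ i, i < 28510 → P i := stepQ 28509 Q28509 (allL N28509 (tt N53729 D100454) (tt N53730 D100455) (tt N53697 (iv2 F154435)) (tt N53731 D100456) (tt N14226 (iv4 D46878)) (tt N53732 D100457) (tt N53714 (iv6 F154485)) (tt N53733 D100458))
theorem Q28511 : ∀ i, i < 28511 → P i := stepQ 28510 Q28510 (allL N28510 (tt N53696 (iv1 F154432)) (tt N53695 F154438) (tt N40126 F329568) (tt N14241 F74090) (tt N53733 (iv4 F154513)) (tt N14227 F74091) (tt N40121 (iv6 F329671)) (tt N14226 (iv7 D46879)))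
theorem Q28512 : ∀ i, i < 28512 → P i := stepQ 28511 Q28511 (allL N28511 (tt N22831 F309594) (tt N17194 F309595) (tt N53734 D100468) (tt N14228 (iv3 D46881)) (tt N36427 (iv4 F311793)) (tt N53735 D100470) (tt N53736 D100471) (tt N37584 F309596))
theorem Q28513 : ∀ i, i < 28513 → P i := stepQ 28512 Q28512 (allL N28512 (tt N24611 (iv1 F205696)) (tt N24507 (iv0 F205697)) (tt N24608 (iv2 F272814)) (tt N37563 F314230) (tt N14228 (iv4 D46882)) (tt N53737 D100475) (tt N53738 D100476) (tt N24609 F272812))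
theorem Q28514 : ∀ i, i < 28514 → P i := stepQ 28513 Q28513 (allL N28513 (tt N53739 D100478) (tt N53740 D100479) (tt N53207 (iv2 F272816)) (tt N53735 (iv3 F154525)) (tt N53741 D100480) (tt N14228 (iv5 D46883)) (tt N53742 D100481) (tt N53209 (iv7 F272807)))
theorem Q28515 : ∀ i, i < 28515 → P i := stepQ 28514 Q28514 (allL N28514 (tt N53544 (iv1 F249713)) (tt N53743 D100484) (tt N53208 (iv2 F272818)) (tt N53736 (iv3 F154526)) (tt N53738 (iv4 F154530)) (tt N28090 F74093) (tt N14228 (iv6 D46884)) (tt N53744 D100485))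
theorem Q28516 : ∀ i, i < 28516 → P i := stepQ 28515 Q28515 (allL N28515 (tt N53482 (iv1 F363115)) (tt N53745 D100488) (tt N53746 D100489) (tt N14229 (iv3 D46886)) (tt N53747 D100490) (tt N53748 D100491) (tt N53749 D100492) (tt N53206 (iv7 F272813)))
theorem Q28517 : ∀ i, i < 28517 → P i := stepQ 28516 Q28516 (allL N28516 (tt N24507 F205698) (tt N24611 F205699) (tt N24609 F272811) (tt N53750 D100493) (tt N14229 (iv4 D46887)) (tt N53751 D100494) (tt N53752 D100495) (tt N24608 (iv7 F272815)))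
theorem Q28518 : ∀ i, i < 28518 → P i := stepQ 28517 Q28517 (allL N28517 (tt N53740 (iv1 F154543)) (tt N53739 F154547) (tt N53209 (iv2 F272806)) (tt N53748 (iv3 F154554)) (tt N53753 D100496) (tt N14229 (iv5 D46888)) (tt N53754 D100497) (tt N53207 (iv7 F272817)))
theorem Q28519 : ∀ i, i < 28519 → P i := stepQ 28518 Q28518 (allL N28518 (tt N53755 D100498) (tt N46376 F303336) (tt N53210 (iv2 F272803)) (tt N53749 (iv3 F154555)) (tt N53752 (iv4 F154556)) (tt N53756 D100500) (tt N14229 (iv6 D46889)) (tt N53757 D100501))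
theorem Q28520 : ∀ i, i < 28520 → P i := stepQ 28519 Q28519 (allL N28519 (tt N53213 (iv1 F153026)) (tt N14230 (iv0 D46890)) (tt N53211 (iv2 F272729)) (tt N53758 D100503) (tt N53759 D100504) (tt N53119 (iv5 F272728)) (tt N53760 D100506) (tt N53118 (iv7 F272725)))
theorem Q28521 : ∀ i, i < 28521 → P i := stepQ 28520 Q28520 (allL N28520 (tt N14230 (iv1 D46891)) (tt N53213 F153025) (tt N53118 (iv2 F272724)) (tt N53761 D100508) (tt N53762 D100509) (tt N49464 (iv5 F136527)) (tt N53763 D100510) (tt N53211 (iv7 F272730)))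
theorem Q28522 : ∀ i, i < 28522 → P i := stepQ 28521 Q28521 (allL N28521 (tt N53764 D100511) (tt N53765 D100512) (tt N53212 (iv2 F153019)) (tt N53766 D100513) (tt N14230 (iv4 D46892)) (tt N53767 D100514) (tt N14240 F74095) (tt N53768 D100515))
theorem Q28523 : ∀ i, i < 28523 → P i := stepQ 28522 Q28522 (allL N28522 (tt N53118 F152497) (tt N53211 F153024) (tt N53213 (iv2 F153021)) (tt N53715 (iv3 F154486)) (tt N53768 (iv4 F154564)) (tt N14231 F74096) (tt N53769 D100516) (tt N14230 (iv7 D46893)))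
theorem Q28524 : ∀ i, i < 28524 → P i := stepQ 28523 Q28523 (allL N28523 (tt N50631 (iv1 F140425)) (tt N14617 F74097) (tt N14232 (iv2 D46895)) (tt N53215 (iv3 F153034)) (tt N29278 (iv4 F75503)) (tt N53770 D100517) (tt N50057 (iv6 F293671)) (tt N50630 (iv7 F140418)))
theorem Q28525 : ∀ i, i < 28525 → P i := stepQ 28524 Q28524 (allL N28524 (tt N53771 D100519) (tt N53772 D100520) (tt N53770 (iv2 F154566)) (tt N14234 F74098) (tt N21901 (iv4 F325484)) (tt N14232 (iv5 D46896)) (tt N53773 D100522) (tt N53218 (iv7 F153044)))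
theorem Q28526 : ∀ i, i < 28526 → P i := stepQ 28525 Q28525 (allL N28525 (tt N53774 D100531) (tt N53775 D100532) (tt N53217 (iv2 F153041)) (tt N21903 (iv3 F327160)) (tt N14234 (iv4 D46902)) (tt N50406 (iv5 F291456)) (tt N53776 D100535) (tt N53219 (iv7 F153046)))
theorem Q28527 : ∀ i, i < 28527 → P i := stepQ 28526 Q28526 (allL N28526 (tt N53777 D100536) (tt N53778 D100537) (tt N53167 (iv2 F152572)) (tt N53773 (iv3 F154574)) (tt N53776 (iv4 F154602)) (tt N49478 (iv5 F136575)) (tt N14234 (iv6 D46903)) (tt N53779 D100538))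
theorem Q28528 : ∀ i, i < 28528 → P i := stepQ 28527 Q28527 (allL N28527 (tt N14235 (iv1 D46906)) (tt N53215 F153038) (tt N53214 F153033) (tt N53716 (iv3 F154729)) (tt N53780 D100543) (tt N53781 D100544) (tt N50438 (iv6 F177431)) (tt N50216 (iv7 F177355)))
theorem Q28529 : ∀ i, i < 28529 → P i := stepQ 28528 Q28528 (allL N28528 (tt N50216 (iv1 F177354)) (tt N53214 F153027) (tt N14235 (iv2 D46907)) (tt N50630 (iv3 F140417)) (tt N26989 F74118) (tt N53782 D100546) (tt N53783 D100547) (tt N53215 (iv7 F153036)))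
theorem Q28530 : ∀ i, i < 28530 → P i := stepQ 28529 Q28529 (allL N28529 (tt N53784 D100548) (tt N53785 D100549) (tt N53782 (iv2 F154625)) (tt N14236 F74119) (tt N50421 (iv4 F340056)) (tt N14235 (iv5 D46908)) (tt N53786 D100551) (tt N53216 (iv7 F153040)))
theorem Q28531 : ∀ i, i < 28531 → P i := stepQ 28530 Q28530 (allL N28530 (tt N53787 D100552) (tt N53788 D100553) (tt N53783 (iv2 F154626)) (tt N14237 F74120) (tt N26991 F74121) (tt N49780 (iv5 F137230)) (tt N14235 (iv6 D46909)) (tt N29000 (iv7 F74777)))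
theorem Q28532 : ∀ i, i < 28532 → P i := stepQ 28531 Q28531 (allL N28531 (tt N53775 (iv1 F154598)) (tt N53774 F154597) (tt N53219 (iv2 F153045)) (tt N50422 (iv3 F340057)) (tt N14236 (iv4 D46910)) (tt N50170 (iv5 F291453)) (tt N53789 D100556) (tt N53217 (iv7 F153042)))
theorem Q28533 : ∀ i, i < 28533 → P i := stepQ 28532 Q28532 (allL N28532 (tt N53790 D100557) (tt N53791 D100558) (tt N53220 (iv2 F153047)) (tt N53786 (iv3 F154628)) (tt N53789 (iv4 F154631)) (tt N49782 (iv5 F137236)) (tt N14236 (iv6 D46911)) (tt N53792 D100559))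
theorem Q28534 : ∀ i, i < 28534 → P i := stepQ 28533 Q28533 (allL N28533 (tt N50632 F140434) (tt N53504 (iv0 F283730)) (tt N53793 D100561) (tt N14238 (iv3 D46912)) (tt N41440 (iv4 F330001)) (tt N53794 D100563) (tt N53795 D100564) (tt N53223 (iv7 F153052)))
theorem Q28535 : ∀ i, i < 28535 → P i := stepQ 28534 Q28534 (allL N28534 (tt N28682 (iv1 F74364)) (tt N28260 F74361) (tt N28679 F74358) (tt N36407 (iv3 F329942)) (tt N14238 (iv4 D46913)) (tt N50333 (iv5 F291189)) (tt N53796 D100567) (tt N28680 F74357))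
theorem Q28536 : ∀ i, i < 28536 → P i := stepQ 28535 Q28535 (allL N28535 (tt N26261 (iv1 F74126)) (tt N26290 F74124) (tt N26625 F291288) (tt N53794 (iv3 F154633)) (tt N46806 (iv4 F127131)) (tt N14238 (iv5 D46914)) (tt N26254 F74125) (tt N26104 F74123))
theorem Q28537 : ∀ i, i < 28537 → P i := stepQ 28536 Q28536 (allL N28536 (tt N53797 D100568) (tt N53798 D100569) (tt N53222 (iv2 F153050)) (tt N53795 (iv3 F154640)) (tt N53796 (iv4 F154642)) (tt N53799 D100570) (tt N14238 (iv6 D46915)) (tt N53800 D100571))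
theorem Q28538 : ∀ i, i < 28538 → P i := stepQ 28537 Q28537 (allL N28537 (tt N53483 (iv1 F157639)) (tt N53781 (iv0 F239752)) (tt N53801 D100574) (tt N14239 (iv3 D46916)) (tt N51076 (iv4 F345120)) (tt N28096 F74127) (tt N53802 D100576) (tt N53221 (iv7 F153049)))
theorem Q28539 : ∀ i, i < 28539 → P i := stepQ 28538 Q28538 (allL N28538 (tt N28260 F74128) (tt N28682 F74363) (tt N28680 F74356) (tt N50365 (iv3 F345119)) (tt N14239 (iv4 D46917)) (tt N50332 (iv5 F291192)) (tt N53803 D100579) (tt N28679 (iv7 F74360)))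
theorem Q28540 : ∀ i, i < 28540 → P i := stepQ 28539 Q28539 (allL N28539 (tt N53804 D100580) (tt N53805 D100581) (tt N53224 (iv2 F153054)) (tt N53802 (iv3 F154645)) (tt N53803 (iv4 F154648)) (tt N28099 F74129) (tt N14239 (iv6 D46918)) (tt N53806 D100582))
theorem Q28541 : ∀ i, i < 28541 → P i := stepQ 28540 Q28540 (allL N28540 (tt N50385 (iv1 F293366)) (tt N14240 (iv0 D46919)) (tt N53225 F153057) (tt N53807 D100583) (tt N14303 F74130) (tt N53808 D100584) (tt N53809 D100585) (tt N52165 (iv7 F147826)))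
theorem Q28542 : ∀ i, i < 28542 → P i := stepQ 28541 Q28541 (allL N28541 (tt N14240 (iv1 D46920)) (tt N50385 (iv0 F293365)) (tt N52165 (iv2 F147825)) (tt N53810 D100586) (tt N14304 F74131) (tt N53811 D100587) (tt N53812 D100588) (tt N53225 (iv7 F153058)))
theorem Q28543 : ∀ i, i < 28543 → P i := stepQ 28542 Q28542 (allL N28542 (tt N53813 D100589) (tt N53814 D100590) (tt N53815 D100591) (tt N14240 (iv3 D46921)) (tt N53731 (iv4 F154512)) (tt N50382 (iv5 F293363)) (tt N53766 (iv6 F154563)) (tt N53816 D100593))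
theorem Q28544 : ∀ i, i < 28544 → P i := stepQ 28543 Q28543 (allL N28543 (tt N52165 (iv1 F147828)) (tt N53225 F153059) (tt N50385 (iv2 F293367)) (tt N53816 (iv3 F154655)) (tt N14241 F74132) (tt N50127 (iv5 F291892)) (tt N53817 D100597) (tt N14240 (iv7 D46923)))
theorem Q28545 : ∀ i, i < 28545 → P i := stepQ 28544 Q28544 (allL N28544 (tt N53818 D100598) (tt N53819 D100599) (tt N40060 (iv2 F329669)) (tt N40121 (iv3 F329670)) (tt N53817 (iv4 F154662)) (tt N40059 F329481) (tt N14241 (iv6 D46924)) (tt N53769 (iv7 F154565)))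
theorem Q28546 : ∀ i, i < 28546 → P i := stepQ 28545 Q28545 (allL N28545 (tt N53820 D100639) (tt N53821 D100640) (tt N50635 (iv2 F140446)) (tt N14243 F74158) (tt N53822 D100641) (tt N14242 (iv5 D46940)) (tt N53823 D100642) (tt N50141 (iv7 F293978)))
theorem Q28547 : ∀ i, i < 28547 → P i := stepQ 28546 Q28546 (allL N28546 (tt N53352 (iv1 F284794)) (tt N53315 (iv0 F284791)) (tt N50636 (iv2 F140449)) (tt N14244 F74159) (tt N28546 F74160) (tt N49681 (iv5 F137056)) (tt N14242 (iv6 D46941)) (tt N28997 (iv7 F74757)))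
theorem Q28548 : ∀ i, i < 28548 → P i := stepQ 28547 Q28547 (allL N28547 (tt N53824 D100647) (tt N53825 D100648) (tt N29328 (iv2 F75654)) (tt N53823 (iv3 F154737)) (tt N50393 (iv4 F295005)) (tt N49683 (iv5 F137059)) (tt N14243 (iv6 D46943)) (tt N53826 D100649))
theorem Q28549 : ∀ i, i < 28549 → P i := stepQ 28548 Q28548 (allL N28548 (tt N26449 F292371) (tt N26447 (iv0 F292728)) (tt N26575 F292372) (tt N29214 (iv3 F294207)) (tt N53811 (iv4 F154652)) (tt N14245 (iv5 D46947)) (tt N53827 D100658) (tt N26576 (iv7 F292727)))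
theorem Q28550 : ∀ i, i < 28550 → P i := stepQ 28549 Q28549 (allL N28549 (tt N51471 (iv1 F364353)) (tt N53653 (iv0 F364354)) (tt N53201 (iv2 F295272)) (tt N14246 (iv3 D46950)) (tt N28549 F74169) (tt N53828 D100667) (tt N53829 D100668) (tt N50082 (iv7 F292197)))
theorem Q28551 : ∀ i, i < 28551 → P i := stepQ 28550 Q28550 (allL N28550 (tt N26447 (iv1 F292729)) (tt N26449 F292369) (tt N26576 (iv2 F292726)) (tt N53828 (iv3 F154769)) (tt N53808 (iv4 F154650)) (tt N14246 (iv5 D46951)) (tt N53830 D100669) (tt N26575 F292370))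
theorem Q28552 : ∀ i, i < 28552 → P i := stepQ 28551 Q28551 (allL N28551 (tt N27146 (iv1 F292107)) (tt N27090 (iv0 F291812)) (tt N27144 (iv2 F292014)) (tt N53829 (iv3 F154770)) (tt N14247 F74170) (tt N26534 (iv5 F292382)) (tt N14246 (iv6 D46952)) (tt N26807 (iv7 F292017)))
theorem Q28553 : ∀ i, i < 28553 → P i := stepQ 28552 Q28552 (allL N28552 (tt N49828 (iv1 F295344)) (tt N53831 D100672) (tt N53832 D100673) (tt N14248 (iv3 D46953)) (tt N29320 (iv4 F75619)) (tt N51080 F291329) (tt N26799 F291330) (tt N51582 (iv7 F292095)))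
theorem Q28554 : ∀ i, i < 28554 → P i := stepQ 28553 Q28553 (allL N28553 (tt N26459 F290771) (tt N26457 (iv0 F290916)) (tt N26618 (iv2 F290890)) (tt N51080 (iv3 F291190)) (tt N50332 (iv4 F291191)) (tt N14248 (iv5 D46955)) (tt N53833 D100679) (tt N26619 (iv7 F290915)))
theorem Q28555 : ∀ i, i < 28555 → P i := stepQ 28554 Q28554 (allL N28554 (tt N53052 (iv1 F349234)) (tt N53834 D100683) (tt N53835 D100684) (tt N14249 (iv3 D46957)) (tt N27006 F74176) (tt N42910 (iv5 F329548)) (tt N53836 D100686) (tt N49806 (iv7 F290889)))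
theorem Q28556 : ∀ i, i < 28556 → P i := stepQ 28555 Q28555 (allL N28555 (tt N26457 (iv1 F290917)) (tt N26459 F290770) (tt N26619 (iv2 F290914)) (tt N42910 F329719) (tt N50333 (iv4 F291188)) (tt N14249 (iv5 D46958)) (tt N53837 D100687) (tt N26618 (iv7 F290891)))
theorem Q28557 : ∀ i, i < 28557 → P i := stepQ 28556 Q28556 (allL N28556 (tt N27185 F291072) (tt N27099 F291073) (tt N27183 F291074) (tt N53836 (iv3 F154798)) (tt N27005 F74177) (tt N26491 F291075) (tt N14249 (iv6 D46959)) (tt N26798 F291076))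
theorem Q28558 : ∀ i, i < 28558 → P i := stepQ 28557 Q28557 (allL N28557 (tt N53838 D100689) (tt N14250 (iv0 D46960)) (tt N50027 (iv2 F294203)) (tt N53839 D100691) (tt N53840 D100692) (tt N53841 D100693) (tt N50025 (iv6 F362393)) (tt N53842 D100695))
theorem Q28559 : ∀ i, i < 28559 → P i := stepQ 28558 Q28558 (allL N28558 (tt N14250 (iv1 D46961)) (tt N53838 F154804) (tt N53842 (iv2 F154806)) (tt N27172 (iv3 F294200)) (tt N53843 D100697) (tt N51068 (iv5 F294201)) (tt N51596 (iv6 F294202)) (tt N50027 (iv7 F294204)))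
theorem Q28560 : ∀ i, i < 28560 → P i := stepQ 28559 Q28559 (allL N28559 (tt N50027 (iv1 F295158)) (tt N53842 (iv0 F362397)) (tt N14250 (iv2 D46962)) (tt N51572 (iv3 F292211)) (tt N53678 (iv4 F154387)) (tt N53844 D100702) (tt N26014 F74178) (tt N53838 (iv7 F154803)))
theorem Q28561 : ∀ i, i < 28561 → P i := stepQ 28560 Q28560 (allL N28560 (tt N50221 (iv1 F351317)) (tt N50446 (iv0 F360005)) (tt N53844 (iv2 F154811)) (tt N14251 F74179) (tt N53845 D100705) (tt N14250 (iv5 D46963)) (tt N53846 D100706) (tt N53847 D100707))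
theorem Q28562 : ∀ i, i < 28562 → P i := stepQ 28561 Q28561 (allL N28561 (tt N53842 (iv1 F362398)) (tt N50027 (iv0 F295157)) (tt N53838 F154802) (tt N14252 F74180) (tt N51095 (iv4 F143503)) (tt N53847 (iv5 F154815)) (tt N51094 (iv6 F290842)) (tt N14250 (iv7 D46964)))
theorem Q28563 : ∀ i, i < 28563 → P i := stepQ 28562 Q28562 (allL N28562 (tt N53848 D100715) (tt N53849 D100716) (tt N51580 (iv2 F291641)) (tt N53846 (iv3 F154812)) (tt N50386 (iv4 F293369)) (tt N26019 F74182) (tt N14251 (iv6 D46968)) (tt N53850 D100717))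
theorem Q28564 : ∀ i, i < 28564 → P i := stepQ 28563 Q28563 (allL N28563 (tt N50131 F291183) (tt N26872 F291184) (tt N50169 (iv2 F291449)) (tt N53847 (iv3 F154814)) (tt N50126 (iv4 F291890)) (tt N14252 F74183) (tt N53851 D100718) (tt N14251 (iv7 D46969)))
theorem Q28565 : ∀ i, i < 28565 → P i := stepQ 28564 Q28564 (allL N28564 (tt N14257 (iv1 F74188)) (tt N14253 (iv0 D46971)) (tt N29237 (iv2 F75413)) (tt N14516 F74187) (tt N25709 F74186) (tt N46066 (iv5 F120171)) (tt N53852 D100720) (tt N29245 (iv7 F75430)))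
theorem Q28566 : ∀ i, i < 28566 → P i := stepQ 28565 Q28565 (allL N28565 (tt N14253 (iv1 D46972)) (tt N14257 F74189) (tt N29245 (iv2 F75428)) (tt N14511 (iv3 F74191)) (tt N25708 (iv4 F74190)) (tt N49656 (iv5 F305476)) (tt N53853 D100721) (tt N29237 (iv7 F75415)))
theorem Q28567 : ∀ i, i < 28567 → P i := stepQ 28566 Q28566 (allL N28566 (tt N46115 F120355) (tt N43733 (iv0 F109579)) (tt N51738 (iv2 F147128)) (tt N53250 (iv3 F153201)) (tt N34847 (iv4 F90047)) (tt N14253 (iv5 D46973)) (tt N53854 D100722) (tt N53250 (iv7 F153203)))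
theorem Q28568 : ∀ i, i < 28568 → P i := stepQ 28567 Q28567 (allL N28567 (tt N53855 D100723) (tt N53856 D100724) (tt N53254 (iv2 F153222)) (tt N53251 (iv3 F153207)) (tt N14255 F74192) (tt N53857 D100725) (tt N14253 (iv6 D46974)) (tt N53858 D100726))
theorem Q28569 : ∀ i, i < 28569 → P i := stepQ 28568 Q28568 (allL N28568 (tt N53859 D100727) (tt N47455 F313107) (tt N49551 (iv2 F136822)) (tt N17807 F300875) (tt N24529 F74194) (tt N53860 D100729) (tt N14254 (iv6 D46975)) (tt N53861 D100730))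
theorem Q28570 : ∀ i, i < 28570 → P i := stepQ 28569 Q28569 (allL N28569 (tt N50535 (iv1 F292385)) (tt N14255 (iv0 D46976)) (tt N14410 (iv2 F289665)) (tt N52731 (iv3 F289666)) (tt N27354 (iv4 F289667)) (tt N53862 D100734) (tt N53863 D100735) (tt N50528 (iv7 F292394)))
theorem Q28571 : ∀ i, i < 28571 → P i := stepQ 28570 Q28570 (allL N28570 (tt N53864 D100741) (tt N49679 (iv0 F367276)) (tt N53255 (iv2 F153226)) (tt N53466 (iv3 F153774)) (tt N53865 D100743) (tt N14255 (iv5 D46978)) (tt N53860 (iv6 F154830)) (tt N53866 D100744))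
theorem Q28572 : ∀ i, i < 28572 → P i := stepQ 28571 Q28571 (allL N28571 (tt N50528 (iv1 F292391)) (tt N14410 (iv0 F289672)) (tt N50535 (iv2 F292386)) (tt N25849 F289635) (tt N53858 (iv4 F154827)) (tt N53866 (iv5 F154840)) (tt N14373 F289585) (tt N14255 (iv7 D46979)))
theorem Q28573 : ∀ i, i < 28573 → P i := stepQ 28572 Q28572 (allL N28572 (tt N48437 (iv1 F132701)) (tt N47448 (iv0 F128826)) (tt N24348 F74195) (tt N14258 F74196) (tt N22022 F300995) (tt N14256 (iv5 D46980)) (tt N53867 D100745) (tt N46140 (iv7 F121996)))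
theorem Q28574 : ∀ i, i < 28574 → P i := stepQ 28573 Q28573 (allL N28573 (tt N53346 (iv1 F289586)) (tt N53316 (iv0 F289587)) (tt N53278 (iv2 F153278)) (tt N14259 F74198) (tt N52184 (iv4 F147943)) (tt N53868 D100748) (tt N14256 (iv6 D46981)) (tt N53345 (iv7 F289593)))
theorem Q28575 : ∀ i, i < 28575 → P i := stepQ 28574 Q28574 (allL N28574 (tt N43733 (iv1 F109578)) (tt N46115 (iv0 F120354)) (tt N53250 (iv2 F153200)) (tt N27685 F74199) (tt N45261 (iv4 F114966)) (tt N14257 (iv5 D46982)) (tt N53869 D100750) (tt N51738 (iv7 F147127)))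
theorem Q28576 : ∀ i, i < 28576 → P i := stepQ 28575 Q28575 (allL N28575 (tt N53870 D100751) (tt N53871 D100752) (tt N53251 (iv2 F153206)) (tt N29216 (iv3 F75348)) (tt N14259 F74200) (tt N47604 (iv5 F331180)) (tt N14257 (iv6 D46983)) (tt N53404 (iv7 F289604)))
theorem Q28577 : ∀ i, i < 28577 → P i := stepQ 28576 Q28576 (allL N28576 (tt N14357 F322813) (tt N53374 F322814) (tt N24698 F74201) (tt N53867 (iv3 F154842)) (tt N24697 F74202) (tt N53872 D100757) (tt N14258 (iv6 D46984)) (tt N53373 (iv7 F321039)))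
theorem Q28578 : ∀ i, i < 28578 → P i := stepQ 28577 Q28577 (allL N28577 (tt N14395 (iv1 F289605)) (tt N47602 (iv0 F328149)) (tt N53252 (iv2 F153210)) (tt N53868 (iv3 F154844)) (tt N47542 (iv4 F328302)) (tt N14259 (iv5 D46987)) (tt N53872 (iv6 F154851)) (tt N53405 (iv7 F289607)))
theorem Q28579 : ∀ i, i < 28579 → P i := stepQ 28578 Q28578 (allL N28578 (tt N53067 (iv1 F152397)) (tt N43417 F303563) (tt N14265 F74203) (tt N17182 F74204) (tt N14260 (iv4 D46989)) (tt N24448 F304007) (tt N24449 (iv6 F306117)) (tt N42774 (iv7 F107103)))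
theorem Q28580 : ∀ i, i < 28580 → P i := stepQ 28579 Q28579 (allL N28579 (tt N53873 D100774) (tt N46731 (iv0 F155447)) (tt N14266 F74205) (tt N21577 F74206) (tt N24449 F308089) (tt N53874 D100776) (tt N14260 (iv6 D46990)) (tt N53875 D100777))
theorem Q28581 : ∀ i, i < 28581 → P i := stepQ 28580 Q28580 (allL N28580 (tt N14270 (iv1 F74210)) (tt N14261 (iv0 D46991)) (tt N14267 (iv2 F154966)) (tt N53281 (iv3 F157792)) (tt N53876 D100780) (tt N53877 D100781) (tt N53409 (iv6 F357390)) (tt N14268 (iv7 F154972)))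
theorem Q28582 : ∀ i, i < 28582 → P i := stepQ 28581 Q28581 (allL N28581 (tt N14261 (iv1 D46992)) (tt N14270 F74207) (tt N14268 F154973) (tt N25810 F142705) (tt N53878 D100784) (tt N53879 D100785) (tt N53880 D100786) (tt N14267 F154974))
theorem Q28583 : ∀ i, i < 28583 → P i := stepQ 28582 Q28582 (allL N28582 (tt N53881 D100787) (tt N40140 F329810) (tt N14269 F74208) (tt N53232 (iv3 F153150)) (tt N53882 D100789) (tt N14261 (iv5 D46993)) (tt N53874 (iv6 F154867)) (tt N53883 D100790))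
theorem Q28584 : ∀ i, i < 28584 → P i := stepQ 28583 Q28583 (allL N28583 (tt N14268 (iv1 F74211)) (tt N14267 F74212) (tt N14270 F74209) (tt N53233 (iv3 F153153)) (tt N52259 (iv4 F148296)) (tt N53883 (iv5 F154885)) (tt N50471 (iv6 F294872)) (tt N14261 (iv7 D46994)))
theorem Q28585 : ∀ i, i < 28585 → P i := stepQ 28584 Q28584 (allL N28584 (tt N34863 F123201) (tt N45270 (iv0 F115022)) (tt N51850 (iv2 F147341)) (tt N53884 D100791) (tt N14262 (iv4 D46995)) (tt N28421 F301799) (tt N53885 D100792) (tt N28420 (iv7 F303331)))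
theorem Q28586 : ∀ i, i < 28586 → P i := stepQ 28585 Q28585 (allL N28585 (tt N53886 D100793) (tt N53887 D100794) (tt N51851 (iv2 F147345)) (tt N27295 F74213) (tt N53885 (iv4 F154890)) (tt N53888 D100795) (tt N14262 (iv6 D46996)) (tt N53889 D100796))
theorem Q28587 : ∀ i, i < 28587 → P i := stepQ 28586 Q28586 (allL N28586 (tt N52259 (iv1 F148299)) (tt N14263 (iv0 D46997)) (tt N52257 F148290) (tt N14562 F74214) (tt N29337 (iv4 F75735)) (tt N53890 D100797) (tt N26364 F294077) (tt N14595 (iv7 F74215)))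
theorem Q28588 : ∀ i, i < 28588 → P i := stepQ 28587 Q28587 (allL N28587 (tt N14263 (iv1 D46998)) (tt N52259 F148298) (tt N14595 F143250) (tt N51000 (iv3 F143248)) (tt N48935 F143251) (tt N53891 D100798) (tt N53892 D100799) (tt N52257 (iv7 F148292)))
theorem Q28589 : ∀ i, i < 28589 → P i := stepQ 28588 Q28588 (allL N28588 (tt N53882 (iv1 F329987)) (tt N53893 D100801) (tt N52258 (iv2 F148294)) (tt N27296 F74216) (tt N48941 (iv4 F329991)) (tt N14263 (iv5 D46999)) (tt N53888 (iv6 F154892)) (tt N53894 D100803))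
theorem Q28590 : ∀ i, i < 28590 → P i := stepQ 28589 Q28589 (allL N28589 (tt N14595 F74219) (tt N52257 F148293) (tt N52259 (iv2 F148295)) (tt N27297 F74217) (tt N14270 F74218) (tt N53894 (iv5 F154899)) (tt N29200 (iv6 F75211)) (tt N14263 (iv7 D47000)))
theorem Q28591 : ∀ i, i < 28591 → P i := stepQ 28590 Q28590 (allL N28590 (tt N46727 F126384) (tt N46726 F126380) (tt N25383 F74221) (tt N14264 (iv3 D47001)) (tt N22030 F301358) (tt N26117 F74223) (tt N34495 (iv6 F297096)) (tt N46728 (iv7 F126388)))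
theorem Q28592 : ∀ i, i < 28592 → P i := stepQ 28591 Q28591 (allL N28591 (tt N26173 F286817) (tt N34498 (iv0 F300573)) (tt N17663 F298110) (tt N34495 F298111) (tt N44758 (iv4 F113370)) (tt N32629 (iv5 F300576)) (tt N14264 (iv6 D47002)) (tt N34499 (iv7 F300571)))
theorem Q28593 : ∀ i, i < 28593 → P i := stepQ 28592 Q28592 (allL N28592 (tt N42774 F107105) (tt N14265 (iv0 D47003)) (tt N53067 (iv2 F152392)) (tt N24440 F113358) (tt N25613 F74247) (tt N43728 (iv5 F109560)) (tt N53895 D100809) (tt N43417 (iv7 F300765)))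
theorem Q28594 : ∀ i, i < 28594 → P i := stepQ 28593 Q28593 (allL N28593 (tt N14265 (iv1 D47004)) (tt N42774 F107104) (tt N43417 F301485) (tt N53896 D100810) (tt N28492 (iv4 F74248)) (tt N43730 (iv5 F109565)) (tt N43416 F301486) (tt N53067 (iv7 F152394)))
theorem Q28595 : ∀ i, i < 28595 → P i := stepQ 28594 Q28594 (allL N28594 (tt N53875 (iv1 F154872)) (tt N14266 (iv0 D47007)) (tt N53873 (iv2 F155520)) (tt N34523 F299226) (tt N44808 (iv4 F155508)) (tt N53897 D100822) (tt N34521 (iv6 F300967)) (tt N46731 (iv7 F155510)))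
theorem Q28596 : ∀ i, i < 28596 → P i := stepQ 28595 Q28595 (allL N28595 (tt N14266 (iv1 D47008)) (tt N53875 F154871) (tt N46731 (iv2 F155509)) (tt N53898 D100825) (tt N38098 (iv4 F311968)) (tt N53899 D100827) (tt N53900 D100828) (tt N53873 (iv7 F155521)))
theorem Q28597 : ∀ i, i < 28597 → P i := stepQ 28596 Q28596 (allL N28596 (tt N53901 D100829) (tt N53902 D100830) (tt N53874 (iv2 F154865)) (tt N14277 F74252) (tt N53903 D100831) (tt N14266 (iv5 D47009)) (tt N14269 F74253) (tt N53904 D100832))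
theorem Q28598 : ∀ i, i < 28598 → P i := stepQ 28597 Q28597 (allL N28597 (tt N46731 (iv1 F155448)) (tt N53873 F154870) (tt N53875 (iv2 F154868)) (tt N14278 F74254) (tt N47050 F310303) (tt N53904 (iv5 F154930)) (tt N53259 (iv6 F153248)) (tt N14266 (iv7 D47010)))
theorem Q28599 : ∀ i, i < 28599 → P i := stepQ 28598 Q28598 (allL N28598 (tt N25812 F126435) (tt N25808 (iv0 F126434)) (tt N25809 (iv2 F154981)) (tt N14267 (iv3 D47012)) (tt N46746 F126433) (tt N40565 (iv5 F329868)) (tt N50005 (iv6 F328101)) (tt N25810 (iv7 F154975)))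
theorem Q28600 : ∀ i, i < 28600 → P i := stepQ 28599 Q28599 (allL N28599 (tt N53905 D100843) (tt N53853 (iv0 F157782)) (tt N53876 (iv2 F154967)) (tt N53260 (iv3 F153250)) (tt N14267 (iv4 D47013)) (tt N53906 D100845) (tt N53907 D100846) (tt N53878 (iv7 F154977)))
theorem Q28601 : ∀ i, i < 28601 → P i := stepQ 28600 Q28600 (allL N28600 (tt N53908 D100848) (tt N53644 (iv0 F289517)) (tt N53877 (iv2 F154969)) (tt N40565 F329917) (tt N53909 D100850) (tt N14267 (iv5 D47014)) (tt N40563 (iv6 F329956)) (tt N53879 (iv7 F154979)))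
theorem Q28602 : ∀ i, i < 28602 → P i := stepQ 28601 Q28601 (allL N28601 (tt N53406 (iv1 F289944)) (tt N52166 (iv0 F289943)) (tt N53409 (iv2 F357388)) (tt N50005 (iv3 F328099)) (tt N53907 (iv4 F154950)) (tt N53910 D100855) (tt N14267 (iv6 D47015)) (tt N53408 (iv7 F357393)))
theorem Q28603 : ∀ i, i < 28603 → P i := stepQ 28602 Q28602 (allL N28602 (tt N53279 (iv1 F157772)) (tt N53284 (iv0 F157779)) (tt N53282 (iv2 F157787)) (tt N14268 (iv3 D47017)) (tt N53911 D100861) (tt N53912 D100862) (tt N53913 D100863) (tt N53281 (iv7 F157794)))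
theorem Q28604 : ∀ i, i < 28604 → P i := stepQ 28603 Q28603 (allL N28603 (tt N53853 (iv1 F157783)) (tt N53905 (iv0 F154946)) (tt N53878 (iv2 F154976)) (tt N29219 (iv3 F75353)) (tt N14268 (iv4 D47018)) (tt N53914 D100864) (tt N53915 D100865) (tt N53876 (iv7 F154968)))
theorem Q28605 : ∀ i, i < 28605 → P i := stepQ 28604 Q28604 (allL N28604 (tt N53644 (iv1 F289518)) (tt N53908 F154956) (tt N53879 (iv2 F154978)) (tt N53912 (iv3 F155002)) (tt N53916 D100866) (tt N14268 (iv5 D47019)) (tt N53917 D100867) (tt N53877 (iv7 F154970)))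
theorem Q28606 : ∀ i, i < 28606 → P i := stepQ 28605 Q28605 (allL N28605 (tt N50153 (iv1 F343084)) (tt N53863 (iv0 F363041)) (tt N53880 (iv2 F154980)) (tt N53913 (iv3 F155003)) (tt N53915 (iv4 F155004)) (tt N53918 D100870) (tt N14268 (iv6 D47020)) (tt N53919 D100871))
theorem Q28607 : ∀ i, i < 28607 → P i := stepQ 28606 Q28606 (allL N28606 (tt N53883 (iv1 F154888)) (tt N14269 (iv0 D47021)) (tt N53881 (iv2 F270479)) (tt N40065 F329765) (tt N41171 (iv4 F329867)) (tt N51101 (iv5 F345035)) (tt N53920 D100876) (tt N40140 F329766))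
theorem Q28608 : ∀ i, i < 28608 → P i := stepQ 28607 Q28607 (allL N28607 (tt N14269 (iv1 D47022)) (tt N53883 F154887) (tt N40140 F329812) (tt N53921 D100878) (tt N53922 D100879) (tt N51102 (iv5 F357532)) (tt N53923 D100881) (tt N53881 (iv7 F270480)))
theorem Q28609 : ∀ i, i < 28609 → P i := stepQ 28608 Q28608 (allL N28608 (tt N53894 (iv1 F329992)) (tt N52258 (iv0 F329984)) (tt N53882 (iv2 F154883)) (tt N53924 D100884) (tt N14269 (iv4 D47023)) (tt N53925 D100885) (tt N53903 (iv6 F154928)) (tt N53893 (iv7 F329990)))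
theorem Q28610 : ∀ i, i < 28610 → P i := stepQ 28609 Q28609 (allL N28609 (tt N40140 F329811) (tt N53881 F154886) (tt N53883 (iv2 F154884)) (tt N14281 F74257) (tt N53893 (iv4 F329989)) (tt N14270 F74258) (tt N40070 (iv6 F357497)) (tt N14269 (iv7 D47024)))
theorem Q28611 : ∀ i, i < 28611 → P i := stepQ 28610 Q28610 (allL N28610 (tt N53926 D100889) (tt N53927 D100890) (tt N48531 (iv2 F133324)) (tt N22997 F74278) (tt N14273 (iv4 D47030)) (tt N53928 D100891) (tt N53929 D100892) (tt N26027 F74279))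
theorem Q28612 : ∀ i, i < 28612 → P i := stepQ 28611 Q28611 (allL N28611 (tt N53930 D100893) (tt N53931 D100894) (tt N48532 (iv2 F133328)) (tt N14274 F74280) (tt N53929 (iv4 F155038)) (tt N53932 D100895) (tt N14273 (iv6 D47031)) (tt N53933 D100896))
theorem Q28613 : ∀ i, i < 28613 → P i := stepQ 28612 Q28612 (allL N28612 (tt N26185 (iv1 F74287)) (tt N14274 (iv0 D47032)) (tt N26186 (iv2 F311781)) (tt N33880 (iv3 F311747)) (tt N47093 (iv4 F270521)) (tt N53934 D100900) (tt N53935 D100901) (tt N26187 (iv7 F311776)))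
theorem Q28614 : ∀ i, i < 28614 → P i := stepQ 28613 Q28613 (allL N28613 (tt N14274 (iv1 D47033)) (tt N26185 F74281) (tt N26187 F314198) (tt N52803 (iv3 F354024)) (tt N47094 (iv4 F272666)) (tt N53936 D100905) (tt N53937 D100906) (tt N26186 F314199))
theorem Q28615 : ∀ i, i < 28615 → P i := stepQ 28614 Q28614 (allL N28614 (tt N53938 D100907) (tt N28821 (iv0 F74541)) (tt N26188 F74282) (tt N53932 (iv3 F155039)) (tt N53939 D100908) (tt N14274 (iv5 D47034)) (tt N25962 F74283) (tt N53940 D100909))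
theorem Q28616 : ∀ i, i < 28616 → P i := stepQ 28615 Q28615 (allL N28615 (tt N26187 (iv1 F74288)) (tt N26186 F74289) (tt N26185 F74284) (tt N53933 (iv3 F155041)) (tt N23006 F74285) (tt N53940 (iv5 F155049)) (tt N26036 F74286) (tt N14274 (iv7 D47035)))
theorem Q28617 : ∀ i, i < 28617 → P i := stepQ 28616 Q28616 (allL N28616 (tt N53289 F316399) (tt N52718 F316400) (tt N43128 F316401) (tt N14275 (iv3 D47037)) (tt N43016 F316402) (tt N53941 D100920) (tt N43015 (iv6 F318674)) (tt N53242 (iv7 F156858)))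
theorem Q28618 : ∀ i, i < 28618 → P i := stepQ 28617 Q28617 (allL N28617 (tt N28832 F74546) (tt N53942 D100929) (tt N53240 (iv2 F156869)) (tt N53941 (iv3 F155061)) (tt N53943 D100930) (tt N14275 (iv5 D47039)) (tt N53944 D100931) (tt N53243 (iv7 F156862)))
theorem Q28619 : ∀ i, i < 28619 → P i := stepQ 28618 Q28618 (allL N28618 (tt N26180 (iv1 F156395)) (tt N53945 D100934) (tt N53241 (iv2 F156871)) (tt N43015 (iv3 F318673)) (tt N37594 F317098) (tt N28787 F74505) (tt N14275 (iv6 D47040)) (tt N43122 F317099))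
theorem Q28620 : ∀ i, i < 28620 → P i := stepQ 28619 Q28619 (allL N28619 (tt N14311 (iv1 F155086)) (tt N25816 (iv0 F155087)) (tt N25814 (iv2 F156873)) (tt N14276 (iv3 D47042)) (tt N45701 (iv4 F306420)) (tt N53946 D100941) (tt N43799 (iv6 F306423)) (tt N25813 (iv7 F156866)))
theorem Q28621 : ∀ i, i < 28621 → P i := stepQ 28620 Q28620 (allL N28620 (tt N53942 (iv1 F155069)) (tt N28832 F155072) (tt N53243 (iv2 F156861)) (tt N53946 (iv3 F155075)) (tt N53947 D100946) (tt N14276 (iv5 D47044)) (tt N53948 D100947) (tt N53240 (iv7 F156870)))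
theorem Q28622 : ∀ i, i < 28622 → P i := stepQ 28621 Q28621 (allL N28621 (tt N53949 D100948) (tt N53935 (iv0 F338067)) (tt N53244 (iv2 F156856)) (tt N43799 F308324) (tt N47314 (iv4 F155080)) (tt N43797 (iv5 F310408)) (tt N14276 (iv6 D47045)) (tt N53950 D100951))
theorem Q28623 : ∀ i, i < 28623 → P i := stepQ 28622 Q28622 (allL N28622 (tt N53248 (iv1 F153184)) (tt N14277 (iv0 D47046)) (tt N53245 (iv2 F156760)) (tt N53951 D100953) (tt N53587 (iv4 F343487)) (tt N53381 (iv5 F153516)) (tt N53952 D100955) (tt N53246 (iv7 F156765)))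
theorem Q28624 : ∀ i, i < 28624 → P i := stepQ 28623 Q28623 (allL N28623 (tt N14277 (iv1 D47047)) (tt N53248 F153182) (tt N53246 (iv2 F156764)) (tt N53953 D100957) (tt N53588 (iv4 F155571)) (tt N49590 (iv5 F136880)) (tt N53954 D100958) (tt N53245 (iv7 F156761)))
theorem Q28625 : ∀ i, i < 28625 → P i := stepQ 28624 Q28624 (allL N28624 (tt N53955 D100959) (tt N53956 D100960) (tt N53247 (iv2 F153177)) (tt N53957 D100961) (tt N14277 (iv4 D47048)) (tt N53958 D100962) (tt N14280 F74292) (tt N53959 D100963))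
theorem Q28626 : ∀ i, i < 28626 → P i := stepQ 28625 Q28625 (allL N28625 (tt N53246 (iv1 F153175)) (tt N53245 F153181) (tt N53248 (iv2 F153179)) (tt N53904 (iv3 F154929)) (tt N53959 (iv4 F155577)) (tt N14278 F74293) (tt N53960 D100964) (tt N14277 (iv7 D47049)))
theorem Q28627 : ∀ i, i < 28627 → P i := stepQ 28626 Q28626 (allL N28626 (tt N53292 (iv1 F157307)) (tt N52719 (iv0 F157302)) (tt N53290 (iv2 F157323)) (tt N14279 (iv3 D47050)) (tt N53961 D100968) (tt N50852 (iv5 F292708)) (tt N53962 D100969) (tt N50851 (iv7 F292934)))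
theorem Q28628 : ∀ i, i < 28628 → P i := stepQ 28627 Q28627 (allL N28627 (tt N39557 (iv1 F346637)) (tt N53963 D100971) (tt N51124 (iv2 F292959)) (tt N53962 (iv3 F155585)) (tt N51047 (iv4 F294172)) (tt N53400 (iv5 F153570)) (tt N14279 (iv6 D47051)) (tt N53964 D100972))
theorem Q28629 : ∀ i, i < 28629 → P i := stepQ 28628 Q28628 (allL N28628 (tt N50994 F293154) (tt N14280 (iv0 D47053)) (tt N28450 (iv2 F74298)) (tt N53965 D100976) (tt N28211 F74299) (tt N28479 F293155) (tt N53966 D100978) (tt N28453 F74300))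
theorem Q28630 : ∀ i, i < 28630 → P i := stepQ 28629 Q28629 (allL N28629 (tt N14280 (iv1 D47054)) (tt N50994 (iv0 F293129)) (tt N28453 (iv2 F74296)) (tt N53967 D100979) (tt N28212 F74295) (tt N51017 F292911) (tt N53968 D100981) (tt N28450 (iv7 F74297)))
theorem Q28631 : ∀ i, i < 28631 → P i := stepQ 28630 Q28630 (allL N28630 (tt N53969 D100982) (tt N53970 D100983) (tt N53971 D100984) (tt N14280 (iv3 D47055)) (tt N53924 (iv4 F155009)) (tt N51007 (iv5 F293127)) (tt N53957 (iv6 F155576)) (tt N53972 D100986))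
theorem Q28632 : ∀ i, i < 28632 → P i := stepQ 28631 Q28631 (allL N28631 (tt N28453 (iv1 F74303)) (tt N28450 F74304) (tt N50994 (iv2 F293130)) (tt N53972 (iv3 F155600)) (tt N14281 F74302) (tt N50817 (iv5 F291272)) (tt N53973 D100991) (tt N14280 (iv7 D47057)))
theorem Q28633 : ∀ i, i < 28633 → P i := stepQ 28632 Q28632 (allL N28632 (tt N53974 D100992) (tt N53975 D100993) (tt N51118 (iv2 F294233)) (tt N40070 F357498) (tt N53973 (iv4 F155613)) (tt N50473 (iv5 F294249)) (tt N14281 (iv6 D47058)) (tt N53960 (iv7 F155580)))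
theorem Q28634 : ∀ i, i < 28634 → P i := stepQ 28633 Q28633 (allL N28633 (tt N53313 (iv1 F290146)) (tt N53354 (iv0 F290147)) (tt N53293 (iv2 F153292)) (tt N14283 F74305) (tt N50865 (iv4 F142813)) (tt N53976 D100996) (tt N14282 (iv6 D47059)) (tt N53353 (iv7 F290153)))
theorem Q28635 : ∀ i, i < 28635 → P i := stepQ 28634 Q28634 (allL N28634 (tt N19937 (iv1 F328163)) (tt N14399 F328957) (tt N53229 (iv2 F153132)) (tt N53976 (iv3 F155614)) (tt N53977 D101010) (tt N14283 (iv5 D47062)) (tt N43686 (iv6 F109458)) (tt N53396 (iv7 F290165)))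
theorem Q28636 : ∀ i, i < 28636 → P i := stepQ 28635 Q28635 (allL N28635 (tt N23249 F74309) (tt N26910 F74310) (tt N25785 F74306) (tt N25782 F74307) (tt N14284 (iv4 D47064)) (tt N16332 F74311) (tt N53978 D101012) (tt N25782 F74308))
theorem Q28637 : ∀ i, i < 28637 → P i := stepQ 28636 Q28636 (allL N28636 (tt N17611 F74315) (tt N14318 F74317) (tt N24357 F74312) (tt N14285 F74313) (tt N18577 F74316) (tt N14284 (iv5 D47065)) (tt N53979 D101013) (tt N24358 F74314))
theorem Q28638 : ∀ i, i < 28638 → P i := stepQ 28637 Q28637 (allL N28637 (tt N25839 (iv1 F290188)) (tt N25692 (iv0 F290189)) (tt N25786 F74318) (tt N14286 F74319) (tt N53978 (iv4 F155621)) (tt N53980 D101016) (tt N14284 (iv6 D47066)) (tt N25838 (iv7 F290197)))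
theorem Q28639 : ∀ i, i < 28639 → P i := stepQ 28638 Q28638 (allL N28638 (tt N21603 (iv1 F190376)) (tt N21607 (iv0 F190377)) (tt N35351 (iv2 F92144)) (tt N53979 (iv3 F155624)) (tt N35349 (iv4 F92139)) (tt N53981 D101020) (tt N14285 (iv6 D47067)) (tt N53982 D101021))
theorem Q28640 : ∀ i, i < 28640 → P i := stepQ 28639 Q28639 (allL N28639 (tt N14286 (iv1 D47069)) (tt N52730 (iv0 F290160)) (tt N14413 (iv2 F290183)) (tt N50528 (iv3 F292392)) (tt N20159 F328158) (tt N53983 D101030) (tt N50146 (iv6 F293738)) (tt N52731 (iv7 F290182)))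
theorem Q28641 : ∀ i, i < 28641 → P i := stepQ 28640 Q28640 (allL N28640 (tt N52734 (iv1 F346054)) (tt N53984 D101033) (tt N53228 (iv2 F153124)) (tt N53980 (iv3 F155628)) (tt N53985 D101034) (tt N14286 (iv5 D47070)) (tt N53981 (iv6 F155635)) (tt N53986 D101035))
theorem Q28642 : ∀ i, i < 28642 → P i := stepQ 28641 Q28641 (allL N28641 (tt N14413 (iv1 F290157)) (tt N52731 (iv0 F290154)) (tt N52730 (iv2 F290161)) (tt N25838 (iv3 F290196)) (tt N14388 F290144) (tt N53986 (iv5 F155638)) (tt N14388 (iv6 F290199)) (tt N14286 (iv7 D47071)))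
theorem Q28643 : ∀ i, i < 28643 → P i := stepQ 28642 Q28642 (allL N28642 (tt N48861 (iv1 F143901)) (tt N48865 F134742) (tt N14291 F74320) (tt N25753 F74321) (tt N14288 F74322) (tt N53987 D101036) (tt N14287 (iv6 D47072)) (tt N51189 (iv7 F143899)))
theorem Q28644 : ∀ i, i < 28644 → P i := stepQ 28643 Q28643 (allL N28643 (tt N14298 (iv1 F74326)) (tt N14288 (iv0 D47073)) (tt N14295 F155653) (tt N25793 F153142) (tt N53230 F153143) (tt N53988 D101038) (tt N50145 (iv6 F338437)) (tt N14296 (iv7 F155658)))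
theorem Q28645 : ∀ i, i < 28645 → P i := stepQ 28644 Q28644 (allL N28644 (tt N14288 (iv1 D47074)) (tt N14298 F74323) (tt N14296 (iv2 F155657)) (tt N53296 (iv3 F177408)) (tt N53231 F153148) (tt N53989 D101041) (tt N53398 (iv6 F344200)) (tt N14295 F155654))
theorem Q28646 : ∀ i, i < 28646 → P i := stepQ 28645 Q28645 (allL N28645 (tt N53990 D101043) (tt N53991 D101044) (tt N14297 F74324) (tt N53256 (iv3 F153235)) (tt N53992 D101045) (tt N14288 (iv5 D47075)) (tt N42781 (iv6 F107114)) (tt N53993 D101046))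
theorem Q28647 : ∀ i, i < 28647 → P i := stepQ 28646 Q28646 (allL N28646 (tt N14296 (iv1 F74327)) (tt N14295 F74328) (tt N14298 F74325) (tt N50471 (iv3 F294870)) (tt N51189 (iv4 F143897)) (tt N53993 (iv5 F155706)) (tt N53233 (iv6 F153155)) (tt N14288 (iv7 D47076)))
theorem Q28648 : ∀ i, i < 28648 → P i := stepQ 28647 Q28647 (allL N28647 (tt N14626 (iv1 F289745)) (tt N20159 (iv0 F327677)) (tt N25713 F74329) (tt N53511 (iv3 F153892)) (tt N21597 F74330) (tt N39279 F327129) (tt N14289 (iv6 D47077)) (tt N49136 (iv7 F289748)))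
theorem Q28649 : ∀ i, i < 28649 → P i := stepQ 28648 Q28648 (allL N28648 (tt N42477 (iv1 F232804)) (tt N42511 (iv0 F232805)) (tt N21783 F74331) (tt N14612 F74332) (tt N21574 F74333) (tt N53994 D101053) (tt N14290 (iv6 D47078)) (tt N53995 D101054))
theorem Q28650 : ∀ i, i < 28650 → P i := stepQ 28649 Q28649 (allL N28649 (tt N14291 (iv1 D47079)) (tt N51189 F143902) (tt N48865 (iv2 F154179)) (tt N53526 (iv3 F153960)) (tt N48858 (iv4 F134730)) (tt N53996 D101055) (tt N49161 F289863) (tt N48861 (iv7 F154189)))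
theorem Q28651 : ∀ i, i < 28651 → P i := stepQ 28650 Q28650 (allL N28650 (tt N40135 F329512) (tt N53997 D101058) (tt N53987 (iv2 F155639)) (tt N14615 F74334) (tt N53998 D101059) (tt N14291 (iv5 D47080)) (tt N53994 (iv6 F155721)) (tt N51190 (iv7 F143905)))
theorem Q28652 : ∀ i, i < 28652 → P i := stepQ 28651 Q28651 (allL N28651 (tt N50929 (iv1 F143080)) (tt N50925 (iv0 F143058)) (tt N46741 (iv2 F126419)) (tt N14292 (iv3 D47081)) (tt N22168 F74335) (tt N26133 F74336) (tt N23353 (iv6 F301661)) (tt N22235 F74337))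
theorem Q28653 : ∀ i, i < 28653 → P i := stepQ 28652 Q28652 (allL N28652 (tt N42755 (iv1 F191035)) (tt N26177 F286783) (tt N42764 (iv2 F107085)) (tt N23353 F303366) (tt N22165 F74338) (tt N23352 (iv5 F305555)) (tt N14292 (iv6 D47082)) (tt N42798 (iv7 F190636)))
theorem Q28654 : ∀ i, i < 28654 → P i := stepQ 28653 Q28653 (allL N28653 (tt N33880 F190192) (tt N33884 F190193) (tt N22237 F74339) (tt N46742 (iv3 F126424)) (tt N22233 F74340) (tt N53999 D101067) (tt N14293 (iv6 D47083)) (tt N54000 D101068))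
theorem Q28655 : ∀ i, i < 28655 → P i := stepQ 28654 Q28654 (allL N28654 (tt N42782 (iv1 F107120)) (tt N14294 (iv0 D47084)) (tt N42779 (iv2 F192083)) (tt N54001 D101070) (tt N45199 (iv4 F233079)) (tt N54002 D101072) (tt N54003 D101073) (tt N42780 (iv7 F192082)))
theorem Q28656 : ∀ i, i < 28656 → P i := stepQ 28655 Q28655 (allL N28655 (tt N14294 (iv1 D47085)) (tt N42782 F107119) (tt N42780 (iv2 F192081)) (tt N46744 (iv3 F233089)) (tt N45200 (iv4 F233084)) (tt N54004 D101077) (tt N54005 D101078) (tt N42779 (iv7 F192084)))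
theorem Q28657 : ∀ i, i < 28657 → P i := stepQ 28656 Q28656 (allL N28656 (tt N54006 D101079) (tt N54007 D101080) (tt N42781 (iv2 F107113)) (tt N14301 F74341) (tt N54008 D101081) (tt N14294 (iv5 D47086)) (tt N14297 F74342) (tt N54009 D101082))
theorem Q28658 : ∀ i, i < 28658 → P i := stepQ 28657 Q28657 (allL N28657 (tt N42780 (iv1 F107112)) (tt N42779 F107118) (tt N42782 (iv2 F107115)) (tt N14302 F74343) (tt N21564 F74344) (tt N54009 (iv5 F155752)) (tt N42768 (iv6 F107094)) (tt N14294 (iv7 D47087)))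
theorem Q28659 : ∀ i, i < 28659 → P i := stepQ 28658 Q28658 (allL N28658 (tt N53298 (iv1 F177398)) (tt N50926 (iv0 F177370)) (tt N53295 (iv2 F177402)) (tt N14295 (iv3 D47089)) (tt N51054 F143350) (tt N54010 D101084) (tt N50542 (iv6 F338423)) (tt N53296 (iv7 F177410)))
theorem Q28660 : ∀ i, i < 28660 → P i := stepQ 28659 Q28659 (allL N28659 (tt N54011 D101086) (tt N50476 (iv0 F344237)) (tt N53988 F155697) (tt N54010 (iv3 F155757)) (tt N54012 D101088) (tt N14295 (iv5 D47091)) (tt N54013 D101089) (tt N53989 (iv7 F155700)))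
theorem Q28661 : ∀ i, i < 28661 → P i := stepQ 28660 Q28660 (allL N28660 (tt N25787 F153159) (tt N25796 F153160) (tt N25794 F155661) (tt N14296 (iv3 D47094)) (tt N54014 D101094) (tt N54015 D101095) (tt N54016 D101096) (tt N25793 F155662))
theorem Q28662 : ∀ i, i < 28662 → P i := stepQ 28661 Q28661 (allL N28661 (tt N50476 (iv1 F344238)) (tt N54011 F155759) (tt N53989 (iv2 F155699)) (tt N54015 (iv3 F155765)) (tt N54017 D101097) (tt N14296 (iv5 D47096)) (tt N54018 D101098) (tt N53988 (iv7 F155696)))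
theorem Q28663 : ∀ i, i < 28663 → P i := stepQ 28662 Q28662 (allL N28662 (tt N49129 (iv1 F344226)) (tt N53397 (iv0 F344227)) (tt N53398 (iv2 F344199)) (tt N54016 (iv3 F155768)) (tt N50556 (iv4 F344228)) (tt N49702 F344225) (tt N14296 (iv6 D47097)) (tt N50548 (iv7 F338443)))
theorem Q28664 : ∀ i, i < 28664 → P i := stepQ 28663 Q28663 (allL N28663 (tt N53993 (iv1 F155709)) (tt N14297 (iv0 D47098)) (tt N53990 (iv2 F362663)) (tt N54019 D101104) (tt N54020 D101105) (tt N54021 D101106) (tt N54022 D101107) (tt N53991 (iv7 F344250)))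
theorem Q28665 : ∀ i, i < 28665 → P i := stepQ 28664 Q28664 (allL N28664 (tt N14297 (iv1 D47099)) (tt N53993 F155708) (tt N53991 (iv2 F344249)) (tt N54023 D101109) (tt N54024 D101110) (tt N54025 D101111) (tt N54026 D101112) (tt N53990 (iv7 F362665)))
theorem Q28666 : ∀ i, i < 28666 → P i := stepQ 28665 Q28665 (allL N28665 (tt N54027 D101113) (tt N54028 D101114) (tt N53992 (iv2 F155704)) (tt N54029 D101115) (tt N14297 (iv4 D47100)) (tt N54030 D101116) (tt N54008 (iv6 F155750)) (tt N54031 D101117))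
theorem Q28667 : ∀ i, i < 28667 → P i := stepQ 28666 Q28666 (allL N28666 (tt N53991 (iv1 F155702)) (tt N53990 F155707) (tt N53993 (iv2 F155705)) (tt N14306 F74347) (tt N54031 (iv4 F155777)) (tt N14298 F74348) (tt N54032 D101118) (tt N14297 (iv7 D47101)))
theorem Q28668 : ∀ i, i < 28668 → P i := stepQ 28667 Q28667 (allL N28667 (tt N54033 D101124) (tt N54034 D101125) (tt N53270 (iv2 F155804)) (tt N35111 F304669) (tt N54035 D101126) (tt N14299 (iv5 D47105)) (tt N54036 D101127) (tt N53272 (iv7 F155813)))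
theorem Q28669 : ∀ i, i < 28669 → P i := stepQ 28668 Q28668 (allL N28668 (tt N53937 (iv1 F338118)) (tt N54037 D101130) (tt N53271 (iv2 F155799)) (tt N53473 F155371) (tt N47288 F155369) (tt N28774 F74496) (tt N14299 (iv6 D47106)) (tt N54038 D101131))
theorem Q28670 : ∀ i, i < 28670 → P i := stepQ 28669 Q28669 (allL N28669 (tt N52715 (iv1 F311974)) (tt N53304 (iv0 F315418)) (tt N53302 (iv2 F342629)) (tt N14300 (iv3 D47108)) (tt N54039 D101135) (tt N54040 D101136) (tt N54041 D101137) (tt N53269 (iv7 F155801)))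
theorem Q28671 : ∀ i, i < 28671 → P i := stepQ 28670 Q28670 (allL N28670 (tt N54034 (iv1 F155786)) (tt N54033 F155789) (tt N53272 (iv2 F155812)) (tt N54040 (iv3 F155841)) (tt N54042 D101138) (tt N14300 (iv5 D47110)) (tt N54043 D101139) (tt N53270 (iv7 F155805)))
theorem Q28672 : ∀ i, i < 28672 → P i := stepQ 28671 Q28671 (allL N28671 (tt N53385 F155790) (tt N26176 F155791) (tt N44566 (iv2 F305549)) (tt N54041 (iv3 F155842)) (tt N46380 F304824) (tt N28816 (iv5 F74536)) (tt N14300 (iv6 D47111)) (tt N54044 D101140))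
theorem Q28673 : ∀ i, i < 28673 → P i := stepQ 28672 Q28672 (allL N28672 (tt N53275 (iv1 F153266)) (tt N14301 (iv0 D47112)) (tt N53273 (iv2 F156424)) (tt N53474 (iv3 F156459)) (tt N53764 (iv4 F274947)) (tt N54045 D101144) (tt N54046 D101145) (tt N53274 (iv7 F156422)))
theorem Q28674 : ∀ i, i < 28674 → P i := stepQ 28673 Q28673 (allL N28673 (tt N14301 (iv1 D47113)) (tt N53275 F153265) (tt N53274 (iv2 F156421)) (tt N54047 D101147) (tt N53765 F155366) (tt N49565 (iv5 F136837)) (tt N54048 D101148) (tt N53273 (iv7 F156425)))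
theorem Q28675 : ∀ i, i < 28675 → P i := stepQ 28674 Q28674 (allL N28674 (tt N54049 D101149) (tt N54050 D101150) (tt N30721 F332985) (tt N54051 D101151) (tt N14301 (iv4 D47114)) (tt N30720 (iv5 F332989)) (tt N14305 F74351) (tt N54052 D101153))
theorem Q28676 : ∀ i, i < 28676 → P i := stepQ 28675 Q28675 (allL N28675 (tt N53274 (iv1 F153258)) (tt N53273 F153264) (tt N53275 (iv2 F153262)) (tt N54009 (iv3 F155751)) (tt N54052 (iv4 F155850)) (tt N14302 F74352) (tt N54053 D101154) (tt N14301 (iv7 D47115)))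
theorem Q28677 : ∀ i, i < 28677 → P i := stepQ 28676 Q28676 (allL N28676 (tt N54054 D101155) (tt N54055 D101156) (tt N53277 (iv2 F153270)) (tt N53479 (iv3 F153806)) (tt N53809 (iv4 F154651)) (tt N54056 D101157) (tt N14303 (iv6 D47116)) (tt N54057 D101158))
theorem Q28678 : ∀ i, i < 28678 → P i := stepQ 28677 Q28677 (allL N28677 (tt N52716 (iv1 F157662)) (tt N53307 (iv0 F157667)) (tt N53305 (iv2 F157646)) (tt N14304 (iv3 D47117)) (tt N54058 D101161) (tt N28122 F74353) (tt N54059 D101162) (tt N53276 (iv7 F153269)))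
theorem Q28679 : ∀ i, i < 28679 → P i := stepQ 28678 Q28678 (allL N28678 (tt N54060 D101163) (tt N54061 D101164) (tt N52161 (iv2 F147819)) (tt N54059 (iv3 F155856)) (tt N53812 (iv4 F154653)) (tt N28124 F74354) (tt N14304 (iv6 D47118)) (tt N54062 D101165))
theorem Q28680 : ∀ i, i < 28680 → P i := stepQ 28679 Q28679 (allL N28679 (tt N50377 (iv1 F294245)) (tt N14305 (iv0 D47119)) (tt N28534 (iv2 F74358)) (tt N50170 (iv3 F345118)) (tt N28228 F74359) (tt N50422 (iv5 F291457)) (tt N54063 D101168) (tt N28538 F74360))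
theorem Q28681 : ∀ i, i < 28681 → P i := stepQ 28680 Q28680 (allL N28680 (tt N14305 (iv1 D47120)) (tt N50377 (iv0 F294244)) (tt N28538 (iv2 F74356)) (tt N32711 (iv3 F329963)) (tt N28229 F74355) (tt N50419 (iv5 F291390)) (tt N54064 D101171) (tt N28534 (iv7 F74357)))
theorem Q28682 : ∀ i, i < 28682 → P i := stepQ 28681 Q28681 (allL N28681 (tt N54065 D101172) (tt N54066 D101173) (tt N54067 D101174) (tt N14305 (iv3 D47121)) (tt N54029 (iv4 F155776)) (tt N50367 (iv5 F293005)) (tt N54051 (iv6 F155849)) (tt N54068 D101176))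
theorem Q28683 : ∀ i, i < 28683 → P i := stepQ 28682 Q28682 (allL N28682 (tt N28538 (iv1 F74363)) (tt N28534 F74364) (tt N50377 (iv2 F294246)) (tt N54068 (iv3 F155872)) (tt N14306 F74362) (tt N50124 (iv5 F292309)) (tt N54069 D101181) (tt N14305 (iv7 D47123)))
theorem Q28684 : ∀ i, i < 28684 → P i := stepQ 28683 Q28683 (allL N28683 (tt N54070 D101182) (tt N54071 D101183) (tt N50473 (iv2 F294248)) (tt N54032 (iv3 F155778)) (tt N54069 (iv4 F155885)) (tt N51118 (iv5 F294234)) (tt N14306 (iv6 D47124)) (tt N54053 (iv7 F155851)))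
theorem Q28685 : ∀ i, i < 28685 → P i := stepQ 28684 Q28684 (allL N28684 (tt N14318 F74367) (tt N17611 (iv0 F74368)) (tt N24358 F74365) (tt N43684 (iv3 F109452)) (tt N54072 D101184) (tt N14307 (iv5 D47125)) (tt N54073 D101185) (tt N24357 F74366))
theorem Q28686 : ∀ i, i < 28686 → P i := stepQ 28685 Q28685 (allL N28685 (tt N14327 (iv1 F290171)) (tt N54074 D101187) (tt N25783 F74369) (tt N53293 (iv3 F153293)) (tt N50086 (iv4 F138848)) (tt N54075 D101188) (tt N14307 (iv6 D47126)) (tt N54076 D101189))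
theorem Q28687 : ∀ i, i < 28687 → P i := stepQ 28686 Q28686 (allL N28686 (tt N51198 F143945) (tt N51197 F143942) (tt N14310 F74370) (tt N25808 F74371) (tt N26507 F74372) (tt N54077 D101190) (tt N14308 (iv6 D47127)) (tt N51199 (iv7 F143949)))
theorem Q28688 : ∀ i, i < 28688 → P i := stepQ 28687 Q28687 (allL N28687 (tt N28412 F74374) (tt N44712 F302446) (tt N34790 F89656) (tt N34111 F298145) (tt N14309 (iv4 D47128)) (tt N41932 (iv5 F105084)) (tt N54078 D101191) (tt N25791 F74373))
theorem Q28689 : ∀ i, i < 28689 → P i := stepQ 28688 Q28688 (allL N28688 (tt N54079 D101192) (tt N54080 D101193) (tt N34794 (iv2 F89675)) (tt N14311 F74375) (tt N54078 (iv4 F155901)) (tt N54081 D101194) (tt N14309 (iv6 D47129)) (tt N54082 D101195))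
theorem Q28690 : ∀ i, i < 28690 → P i := stepQ 28689 Q28689 (allL N28689 (tt N51199 (iv1 F143950)) (tt N14310 (iv0 D47130)) (tt N51198 (iv2 F155688)) (tt N53230 (iv3 F153145)) (tt N54083 D101196) (tt N54084 D101197) (tt N54085 D101198) (tt N51197 (iv7 F155690)))
theorem Q28691 : ∀ i, i < 28691 → P i := stepQ 28690 Q28690 (allL N28690 (tt N14310 (iv1 D47131)) (tt N51199 F143951) (tt N51197 F155689) (tt N54086 D101199) (tt N50098 (iv4 F138871)) (tt N54087 D101200) (tt N54088 D101201) (tt N51198 F155687))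
theorem Q28692 : ∀ i, i < 28692 → P i := stepQ 28691 Q28691 (allL N28691 (tt N54089 D101202) (tt N54090 D101203) (tt N54077 (iv2 F155899)) (tt N14312 F74376) (tt N54091 D101204) (tt N14310 (iv5 D47132)) (tt N54081 (iv6 F155904)) (tt N51200 (iv7 F143953)))
theorem Q28693 : ∀ i, i < 28693 → P i := stepQ 28692 Q28692 (allL N28692 (tt N25816 (iv1 F74384)) (tt N14311 (iv0 D47134)) (tt N25813 F156874) (tt N43128 (iv3 F313944)) (tt N45702 (iv4 F305400)) (tt N54092 D101210) (tt N34509 F304411) (tt N25814 F156875))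
theorem Q28694 : ∀ i, i < 28694 → P i := stepQ 28693 Q28693 (allL N28693 (tt N22364 (iv1 F306424)) (tt N53953 (iv0 F184733)) (tt N25815 F74380) (tt N54081 (iv3 F155903)) (tt N54093 D101214) (tt N14311 (iv5 D47136)) (tt N14312 F74381) (tt N54094 D101215))
theorem Q28695 : ∀ i, i < 28695 → P i := stepQ 28694 Q28694 (allL N28694 (tt N25814 (iv1 F74385)) (tt N25813 F74386) (tt N25816 F74382) (tt N54082 (iv3 F155905)) (tt N43491 (iv4 F305739)) (tt N54094 (iv5 F155928)) (tt N25801 F74383) (tt N14311 (iv7 D47137)))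
theorem Q28696 : ∀ i, i < 28696 → P i := stepQ 28695 Q28695 (allL N28695 (tt N25820 (iv1 F74388)) (tt N14312 (iv0 D47138)) (tt N25817 (iv2 F74387)) (tt N53290 (iv3 F157324)) (tt N54095 D101216) (tt N29192 F293325) (tt N54096 D101217) (tt N25818 F74389))
theorem Q28697 : ∀ i, i < 28697 → P i := stepQ 28696 Q28696 (allL N28696 (tt N22537 F328606) (tt N48942 (iv0 F134918)) (tt N25819 F74390) (tt N54097 D101218) (tt N14312 (iv4 D47139)) (tt N54098 D101219) (tt N54093 (iv6 F155926)) (tt N51201 (iv7 F143961)))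
theorem Q28698 : ∀ i, i < 28698 → P i := stepQ 28697 Q28697 (allL N28697 (tt N14326 (iv1 F74397)) (tt N14313 (iv0 D47140)) (tt N14323 (iv2 F308451)) (tt N17848 (iv3 F308421)) (tt N22395 (iv4 F308422)) (tt N54099 D101223) (tt N46666 (iv6 F306611)) (tt N14324 F308265))
theorem Q28699 : ∀ i, i < 28699 → P i := stepQ 28698 Q28698 (allL N28698 (tt N14313 (iv1 D47141)) (tt N14326 F74391) (tt N14324 (iv2 F306900)) (tt N54100 D101226) (tt N22342 (iv4 F306902)) (tt N54101 D101228) (tt N22340 (iv6 F306905)) (tt N14323 (iv7 F308452)))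
theorem Q28700 : ∀ i, i < 28700 → P i := stepQ 28699 Q28699 (allL N28699 (tt N44573 F304947) (tt N43454 (iv0 F305548)) (tt N14325 F74392) (tt N53311 (iv3 F153314)) (tt N54102 D101232) (tt N14313 (iv5 D47142)) (tt N14316 F74393) (tt N44571 (iv7 F305554)))
theorem Q28701 : ∀ i, i < 28701 → P i := stepQ 28700 Q28700 (allL N28700 (tt N14324 (iv1 F74398)) (tt N14323 F74399) (tt N14326 F74394) (tt N53312 (iv3 F153317)) (tt N25460 F74395) (tt N44571 (iv5 F305553)) (tt N22282 (iv6 F306349)) (tt N14313 (iv7 D47143)))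
theorem Q28702 : ∀ i, i < 28702 → P i := stepQ 28701 Q28701 (allL N28701 (tt N53465 (iv1 F289610)) (tt N25807 F289582) (tt N47842 F289795) (tt N14314 (iv3 D47144)) (tt N14472 F74400) (tt N54103 D101236) (tt N50659 (iv6 F140524)) (tt N14330 F74401))
theorem Q28703 : ∀ i, i < 28703 → P i := stepQ 28702 Q28702 (allL N28702 (tt N27198 F74404) (tt N52450 (iv0 F292257)) (tt N14328 F74402) (tt N54103 (iv3 F155959)) (tt N52530 (iv4 F292270)) (tt N14314 (iv5 D47145)) (tt N54104 D101239) (tt N14331 F74403))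
theorem Q28704 : ∀ i, i < 28704 → P i := stepQ 28703 Q28703 (allL N28703 (tt N25783 F290141) (tt N54076 (iv0 F290167)) (tt N54074 (iv2 F290173)) (tt N14315 (iv3 D47146)) (tt N26489 F74405) (tt N54105 D101242) (tt N25579 F291462) (tt N14327 F74406))
theorem Q28705 : ∀ i, i < 28705 → P i := stepQ 28704 Q28704 (allL N28704 (tt N52450 F292814) (tt N27198 F74409) (tt N14331 F74407) (tt N54105 (iv3 F155975)) (tt N54106 D101243) (tt N14315 (iv5 D47147)) (tt N54107 D101244) (tt N14328 F74408))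
theorem Q28706 : ∀ i, i < 28706 → P i := stepQ 28705 Q28705 (allL N28705 (tt N14335 (iv1 F74416)) (tt N14316 (iv0 D47148)) (tt N14332 (iv2 F74414)) (tt N54108 D101245) (tt N54109 D101246) (tt N29322 F291143) (tt N54110 D101247) (tt N14333 F74415))
theorem Q28707 : ∀ i, i < 28707 → P i := stepQ 28706 Q28706 (allL N28706 (tt N14316 (iv1 D47149)) (tt N14335 F74410) (tt N14333 (iv2 F74412)) (tt N54111 D101248) (tt N54112 D101249) (tt N25542 F74411) (tt N54113 D101250) (tt N14332 (iv7 F74413)))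
theorem Q28708 : ∀ i, i < 28708 → P i := stepQ 28707 Q28707 (allL N28707 (tt N54114 D101251) (tt N54115 D101252) (tt N14334 F74417) (tt N54116 D101253) (tt N14316 (iv4 D47150)) (tt N52441 (iv5 F290786)) (tt N54102 (iv6 F155946)) (tt N54117 D101255))
theorem Q28709 : ∀ i, i < 28709 → P i := stepQ 28708 Q28708 (allL N28708 (tt N14333 (iv1 F74420)) (tt N14332 F74421) (tt N14335 F74418) (tt N53320 (iv3 F153332)) (tt N54117 (iv4 F156005)) (tt N14317 F74419) (tt N54118 D101256) (tt N14316 (iv7 D47151)))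
theorem Q28710 : ∀ i, i < 28710 → P i := stepQ 28709 Q28709 (allL N28709 (tt N28070 F74424) (tt N54119 D101257) (tt N24352 F74422) (tt N36547 (iv3 F94787)) (tt N14318 (iv4 D47152)) (tt N34590 F87992) (tt N54120 D101258) (tt N25821 F74423))
theorem Q28711 : ∀ i, i < 28711 → P i := stepQ 28710 Q28710 (allL N28710 (tt N54121 D101259) (tt N54122 D101260) (tt N24360 F74425) (tt N14319 F74426) (tt N54120 (iv4 F156017)) (tt N54123 D101261) (tt N14318 (iv6 D47153)) (tt N54124 D101262))
theorem Q28712 : ∀ i, i < 28712 → P i := stepQ 28711 Q28711 (allL N28711 (tt N22316 F304948) (tt N14319 (iv0 D47154)) (tt N22356 F304949) (tt N53325 (iv3 F348284)) (tt N46190 F304950) (tt N54125 D101266) (tt N22365 (iv6 F306452)) (tt N17771 F304951))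
theorem Q28713 : ∀ i, i < 28713 → P i := stepQ 28712 Q28712 (allL N28712 (tt N54126 D101272) (tt N54127 D101273) (tt N25827 F74428) (tt N54123 (iv3 F156021)) (tt N54128 D101274) (tt N14319 (iv5 D47156)) (tt N25536 F74429) (tt N54129 D101275))
theorem Q28714 : ∀ i, i < 28714 → P i := stepQ 28713 Q28713 (allL N28713 (tt N17771 F304954) (tt N22356 F304955) (tt N22316 F304956) (tt N54124 (iv3 F156024)) (tt N17912 (iv4 F305177)) (tt N54129 (iv5 F156039)) (tt N25826 F74431) (tt N14319 (iv7 D47157)))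
theorem Q28715 : ∀ i, i < 28715 → P i := stepQ 28714 Q28714 (allL N28714 (tt N46190 F305993) (tt N22352 F305994) (tt N25455 F74435) (tt N33978 (iv3 F86374)) (tt N25525 F74436) (tt N54130 D101278) (tt N14320 (iv6 D47158)) (tt N43665 F305995))
theorem Q28716 : ∀ i, i < 28716 → P i := stepQ 28715 Q28715 (allL N28715 (tt N25830 (iv1 F74442)) (tt N14321 (iv0 D47161)) (tt N25829 (iv2 F116280)) (tt N21605 (iv3 F303474)) (tt N34712 F88663) (tt N46445 F123665) (tt N21602 (iv6 F305431)) (tt N25828 (iv7 F116275)))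
theorem Q28717 : ∀ i, i < 28717 → P i := stepQ 28716 Q28716 (allL N28716 (tt N14321 (iv1 D47162)) (tt N25830 F74448) (tt N25828 F116279) (tt N54131 D101286) (tt N34711 (iv4 F88660)) (tt N46446 (iv5 F123670)) (tt N54132 D101287) (tt N25829 (iv7 F116278)))
theorem Q28718 : ∀ i, i < 28718 → P i := stepQ 28717 Q28717 (allL N28717 (tt N25829 (iv1 F74449)) (tt N25828 F74447) (tt N14321 (iv2 D47163)) (tt N25446 F74443) (tt N14351 F74444) (tt N25397 F74445) (tt N54133 D101288) (tt N25830 F74446))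
theorem Q28719 : ∀ i, i < 28719 → P i := stepQ 28718 Q28718 (allL N28718 (tt N54134 D101289) (tt N54135 D101290) (tt N54133 (iv2 F156072)) (tt N14322 F74451) (tt N14352 F74452) (tt N54136 D101291) (tt N14321 (iv6 D47164)) (tt N54137 D101292))
theorem Q28720 : ∀ i, i < 28720 → P i := stepQ 28719 Q28719 (allL N28719 (tt N25460 (iv1 F74459)) (tt N14322 (iv0 D47165)) (tt N25457 (iv2 F310900)) (tt N34312 F313127) (tt N43828 (iv4 F310333)) (tt N54138 D101296) (tt N54139 D101297) (tt N25458 (iv7 F310905)))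
theorem Q28721 : ∀ i, i < 28721 → P i := stepQ 28720 Q28720 (allL N28720 (tt N14322 (iv1 D47166)) (tt N25460 F74453) (tt N25458 (iv2 F310904)) (tt N21726 (iv3 F310334)) (tt N43709 (iv4 F310335)) (tt N42837 (iv5 F310336)) (tt N21724 (iv6 F310337)) (tt N25457 (iv7 F310901)))
theorem Q28722 : ∀ i, i < 28722 → P i := stepQ 28721 Q28721 (allL N28721 (tt N54140 D101303) (tt N19507 (iv0 F307416)) (tt N25459 F74454) (tt N54136 (iv3 F156075)) (tt N38331 (iv4 F309068)) (tt N14322 (iv5 D47167)) (tt N22818 (iv6 F309072)) (tt N54141 D101306))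
theorem Q28723 : ∀ i, i < 28723 → P i := stepQ 28722 Q28722 (allL N28722 (tt N25458 (iv1 F74460)) (tt N25457 F74461) (tt N25460 F74456) (tt N54137 (iv3 F156077)) (tt N14326 F74457) (tt N54141 (iv5 F156086)) (tt N22373 F308268) (tt N14322 (iv7 D47168)))
theorem Q28724 : ∀ i, i < 28724 → P i := stepQ 28723 Q28723 (allL N28723 (tt N54142 D101313) (tt N54073 (iv0 F351628)) (tt N54143 D101315) (tt N14323 (iv3 D47170)) (tt N54144 D101316) (tt N54145 D101317) (tt N54146 D101318) (tt N54100 (iv7 F308447)))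
theorem Q28725 : ∀ i, i < 28725 → P i := stepQ 28724 Q28724 (allL N28724 (tt N22288 (iv1 F308106)) (tt N22397 (iv0 F308423)) (tt N22395 (iv2 F308425)) (tt N54147 D101322) (tt N14323 (iv4 D47171)) (tt N54148 D101323) (tt N46670 (iv6 F308439)) (tt N22342 (iv7 F308441)))
theorem Q28726 : ∀ i, i < 28726 → P i := stepQ 28725 Q28725 (allL N28725 (tt N54149 D101326) (tt N54150 D101327) (tt N54099 (iv2 F310306)) (tt N54145 (iv3 F156098)) (tt N54151 D101328) (tt N14323 (iv5 D47172)) (tt N54152 D101329) (tt N54101 (iv7 F308449)))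
theorem Q28727 : ∀ i, i < 28727 → P i := stepQ 28726 Q28726 (allL N28726 (tt N52770 (iv1 F156465)) (tt N54153 D101332) (tt N46666 (iv2 F308442)) (tt N54146 (iv3 F156099)) (tt N46670 (iv4 F308438)) (tt N54154 D101333) (tt N14323 (iv6 D47173)) (tt N54155 D101334))
theorem Q28728 : ∀ i, i < 28728 → P i := stepQ 28727 Q28727 (allL N28727 (tt N24349 (iv1 F310308)) (tt N49305 (iv0 F310309)) (tt N17851 (iv2 F310310)) (tt N14324 (iv3 D47175)) (tt N17725 (iv4 F310311)) (tt N54156 D101340) (tt N17723 (iv6 F310317)) (tt N17848 (iv7 F310305)))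
theorem Q28729 : ∀ i, i < 28729 → P i := stepQ 28728 Q28728 (allL N28728 (tt N22397 (iv1 F308424)) (tt N22288 F308266) (tt N22342 (iv2 F308440)) (tt N17292 (iv3 F310318)) (tt N14324 (iv4 D47176)) (tt N54157 D101343) (tt N17290 (iv6 F310327)) (tt N22395 (iv7 F308426)))
theorem Q28730 : ∀ i, i < 28730 → P i := stepQ 28729 Q28729 (allL N28729 (tt N54150 (iv1 F156107)) (tt N54149 F156110) (tt N54101 (iv2 F308448)) (tt N54156 (iv3 F156115)) (tt N54158 D101345) (tt N14324 (iv5 D47177)) (tt N54159 D101346) (tt N54099 (iv7 F310307)))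
theorem Q28731 : ∀ i, i < 28731 → P i := stepQ 28730 Q28730 (allL N28730 (tt N17768 F308267) (tt N22365 (iv0 F310328)) (tt N22340 (iv2 F308450)) (tt N17723 (iv3 F310316)) (tt N17290 (iv4 F310326)) (tt N54160 D101349) (tt N14324 (iv6 D47178)) (tt N22337 (iv7 F310332)))
theorem Q28732 : ∀ i, i < 28732 → P i := stepQ 28731 Q28731 (allL N28731 (tt N44571 F306615) (tt N14325 (iv0 D47179)) (tt N44573 F306616) (tt N54161 D101352) (tt N54162 D101353) (tt N43455 F306617) (tt N54163 D101355) (tt N43454 F306618))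
theorem Q28733 : ∀ i, i < 28733 → P i := stepQ 28732 Q28732 (allL N28732 (tt N54164 D101361) (tt N54165 D101362) (tt N54102 (iv2 F155945)) (tt N54166 D101363) (tt N14325 (iv4 D47181)) (tt N54167 D101364) (tt N14334 F74464) (tt N54168 D101365))
theorem Q28734 : ∀ i, i < 28734 → P i := stepQ 28733 Q28733 (allL N28733 (tt N43454 F306612) (tt N44573 F306613) (tt N44571 F306614) (tt N14368 F74465) (tt N54168 (iv4 F156127)) (tt N14326 F74466) (tt N54169 D101366) (tt N14325 (iv7 D47182)))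
theorem Q28735 : ∀ i, i < 28735 → P i := stepQ 28734 Q28734 (allL N28734 (tt N54074 (iv1 F290172)) (tt N14327 (iv0 D47183)) (tt N54076 (iv2 F290169)) (tt N14388 F74668) (tt N54170 D101368) (tt N54171 D101369) (tt N25838 F290200) (tt N25783 F290142))
theorem Q28736 : ∀ i, i < 28736 → P i := stepQ 28735 Q28735 (allL N28735 (tt N54076 (iv1 F290168)) (tt N25783 F290140) (tt N14327 (iv2 D47185)) (tt N47842 F289810) (tt N26510 F74467) (tt N54172 D101375) (tt N54173 D101376) (tt N54074 (iv7 F290176)))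
theorem Q28737 : ∀ i, i < 28737 → P i := stepQ 28736 Q28736 (allL N28736 (tt N39684 F339537) (tt N54174 D101378) (tt N54172 (iv2 F156171)) (tt N14328 F74468) (tt N54175 D101379) (tt N14327 (iv5 D47186)) (tt N54176 D101380) (tt N54105 (iv7 F155976)))
theorem Q28738 : ∀ i, i < 28738 → P i := stepQ 28737 Q28737 (allL N28737 (tt N54016 (iv1 F344235)) (tt N54177 D101382) (tt N54173 (iv2 F156172)) (tt N14329 F74469) (tt N50904 (iv4 F142981)) (tt N54178 D101383) (tt N14327 (iv6 D47187)) (tt N50658 (iv7 F140516)))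
theorem Q28739 : ∀ i, i < 28739 → P i := stepQ 28738 Q28738 (allL N28738 (tt N14331 (iv1 F74471)) (tt N14328 (iv0 D47188)) (tt N27198 (iv2 F74472)) (tt N40963 F334875) (tt N54179 D101385) (tt N27192 F74470) (tt N54180 D101386) (tt N52450 (iv7 F292259)))
theorem Q28740 : ∀ i, i < 28740 → P i := stepQ 28739 Q28739 (allL N28739 (tt N14328 (iv1 D47189)) (tt N14331 F74473) (tt N52450 (iv2 F292258)) (tt N14383 (iv3 F74475)) (tt N54181 D101387) (tt N26337 F291815) (tt N54182 D101388) (tt N27198 F74474))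
theorem Q28741 : ∀ i, i < 28741 → P i := stepQ 28740 Q28740 (allL N28740 (tt N54183 D101389) (tt N54184 D101390) (tt N52530 (iv2 F292269)) (tt N54185 D101391) (tt N14328 (iv4 D47190)) (tt N27483 F291433) (tt N54186 D101393) (tt N54106 (iv7 F155978)))
theorem Q28742 : ∀ i, i < 28742 → P i := stepQ 28741 Q28741 (allL N28741 (tt N54187 D101394) (tt N54188 D101395) (tt N54104 (iv2 F155967)) (tt N54176 (iv3 F156174)) (tt N54186 (iv4 F156194)) (tt N54189 D101396) (tt N14328 (iv6 D47191)) (tt N54190 D101397))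
theorem Q28743 : ∀ i, i < 28743 → P i := stepQ 28742 Q28742 (allL N28742 (tt N26157 F74478) (tt N26169 F74479) (tt N26167 F74477) (tt N54178 (iv3 F156175)) (tt N54191 D101398) (tt N14329 (iv5 D47192)) (tt N54189 (iv6 F156196)) (tt N26166 F75204))
theorem Q28744 : ∀ i, i < 28744 → P i := stepQ 28743 Q28743 (allL N28743 (tt N14330 (iv1 D47195)) (tt N47842 F289808) (tt N53465 (iv2 F289611)) (tt N14373 F74681) (tt N25849 F74682) (tt N54192 D101402) (tt N25849 F289636) (tt N25807 F289584))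
theorem Q28745 : ∀ i, i < 28745 → P i := stepQ 28744 Q28744 (allL N28744 (tt N25807 F289583) (tt N53465 (iv0 F289609)) (tt N14330 (iv2 D47196)) (tt N54074 (iv3 F290174)) (tt N47821 F289756) (tt N54193 D101404) (tt N50006 (iv6 F294260)) (tt N47842 F289811))
theorem Q28746 : ∀ i, i < 28746 → P i := stepQ 28745 Q28745 (allL N28745 (tt N54194 D101406) (tt N54195 D101407) (tt N54193 (iv2 F156244)) (tt N14331 F74480) (tt N54196 D101408) (tt N14330 (iv5 D47197)) (tt N54197 D101409) (tt N54103 (iv7 F155960)))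
theorem Q28747 : ∀ i, i < 28747 → P i := stepQ 28746 Q28746 (allL N28746 (tt N54184 (iv1 F156192)) (tt N54183 F156191) (tt N54106 (iv2 F155977)) (tt N54198 D101412) (tt N14331 (iv4 D47199)) (tt N52531 (iv5 F290897)) (tt N54199 D101414) (tt N52530 (iv7 F292271)))
theorem Q28748 : ∀ i, i < 28748 → P i := stepQ 28747 Q28747 (allL N28747 (tt N39668 (iv1 F345470)) (tt N40912 F345469) (tt N54107 (iv2 F155979)) (tt N54197 (iv3 F156246)) (tt N54199 (iv4 F156248)) (tt N50007 (iv5 F294262)) (tt N14331 (iv6 D47200)) (tt N54200 D101417))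
theorem Q28749 : ∀ i, i < 28749 → P i := stepQ 28748 Q28748 (allL N28748 (tt N54171 (iv1 F364411)) (tt N54075 (iv0 F290179)) (tt N54201 D101419) (tt N14332 (iv3 D47201)) (tt N54202 D101420) (tt N51461 (iv5 F145059)) (tt N54203 D101421) (tt N54111 (iv7 F155987)))
theorem Q28750 : ∀ i, i < 28750 → P i := stepQ 28749 Q28749 (allL N28749 (tt N54204 D101422) (tt N48852 (iv0 F134709)) (tt N54109 (iv2 F155982)) (tt N54205 D101423) (tt N14332 (iv4 D47202)) (tt N54206 D101424) (tt N54207 D101425) (tt N54112 (iv7 F155989)))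
theorem Q28751 : ∀ i, i < 28751 → P i := stepQ 28750 Q28750 (allL N28750 (tt N54208 D101426) (tt N54209 D101427) (tt N54110 (iv2 F155984)) (tt N54203 (iv3 F156249)) (tt N54207 (iv4 F156252)) (tt N50646 (iv5 F140493)) (tt N14332 (iv6 D47203)) (tt N54210 D101428))
theorem Q28752 : ∀ i, i < 28752 → P i := stepQ 28751 Q28751 (allL N28751 (tt N53464 (iv1 F356387)) (tt N54192 (iv0 F356385)) (tt N54211 D101431) (tt N14333 (iv3 D47204)) (tt N54212 D101432) (tt N49762 F137169) (tt N54213 D101433) (tt N54108 (iv7 F155981)))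
theorem Q28753 : ∀ i, i < 28753 → P i := stepQ 28752 Q28752 (allL N28752 (tt N48852 (iv1 F134710)) (tt N54204 F156250) (tt N54112 (iv2 F155988)) (tt N54214 D101434) (tt N14333 (iv4 D47205)) (tt N54215 D101435) (tt N54216 D101436) (tt N54109 (iv7 F155983)))
theorem Q28754 : ∀ i, i < 28754 → P i := stepQ 28753 Q28753 (allL N28753 (tt N54217 D101437) (tt N54218 D101438) (tt N54113 (iv2 F155990)) (tt N54213 (iv3 F156253)) (tt N54216 (iv4 F156255)) (tt N49764 (iv5 F137174)) (tt N14333 (iv6 D47206)) (tt N54219 D101439))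
theorem Q28755 : ∀ i, i < 28755 → P i := stepQ 28754 Q28754 (allL N28754 (tt N54117 (iv1 F156008)) (tt N14334 (iv0 D47207)) (tt N54114 F155993) (tt N54220 D101440) (tt N51464 (iv4 F145066)) (tt N54221 D101441) (tt N54222 D101442) (tt N54115 (iv7 F155998)))
theorem Q28756 : ∀ i, i < 28756 → P i := stepQ 28755 Q28755 (allL N28755 (tt N14334 (iv1 D47208)) (tt N54117 F156007) (tt N54115 F155999) (tt N54223 D101443) (tt N51466 F145072) (tt N54224 D101444) (tt N54225 D101445) (tt N54114 F155994))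
theorem Q28757 : ∀ i, i < 28757 → P i := stepQ 28756 Q28756 (allL N28756 (tt N54226 D101446) (tt N54227 D101447) (tt N54228 D101448) (tt N14334 (iv3 D47209)) (tt N14405 F74482) (tt N54229 D101449) (tt N54166 (iv6 F156126)) (tt N54230 D101450))
theorem Q28758 : ∀ i, i < 28758 → P i := stepQ 28757 Q28757 (allL N28757 (tt N27439 (iv1 F291904)) (tt N52444 (iv0 F291905)) (tt N52441 F291197) (tt N54229 (iv3 F156259)) (tt N27482 F291198) (tt N14334 (iv5 D47210)) (tt N54231 D101454) (tt N52440 F291199))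
theorem Q28759 : ∀ i, i < 28759 → P i := stepQ 28758 Q28758 (allL N28758 (tt N54115 (iv1 F155997)) (tt N54114 F155995) (tt N54117 (iv2 F156004)) (tt N54230 (iv3 F156260)) (tt N14335 F74483) (tt N52440 (iv5 F290795)) (tt N54232 D101456) (tt N14334 (iv7 D47211)))
theorem Q28760 : ∀ i, i < 28760 → P i := stepQ 28759 Q28759 (allL N28759 (tt N54233 D101457) (tt N54234 D101458) (tt N54118 (iv2 F156009)) (tt N14408 F74484) (tt N54232 (iv4 F156276)) (tt N25869 F74485) (tt N14335 (iv6 D47212)) (tt N54169 (iv7 F156130)))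
theorem Q28761 : ∀ i, i < 28761 → P i := stepQ 28760 Q28760 (allL N28760 (tt N54235 D101459) (tt N17761 F301992) (tt N14338 F74486) (tt N21593 F74487) (tt N47943 (iv4 F130108)) (tt N54236 D101461) (tt N14336 (iv6 D47213)) (tt N54237 D101462))
theorem Q28762 : ∀ i, i < 28762 → P i := stepQ 28761 Q28761 (allL N28761 (tt N34176 F86864) (tt N14337 (iv0 D47214)) (tt N47172 (iv2 F128473)) (tt N27966 F74489) (tt N27344 F74488) (tt N26174 F301492) (tt N36586 (iv6 F303517)) (tt N47065 (iv7 F128202)))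
theorem Q28763 : ∀ i, i < 28763 → P i := stepQ 28762 Q28762 (allL N28762 (tt N14337 (iv1 D47215)) (tt N34176 (iv0 F86863)) (tt N47065 (iv2 F128200)) (tt N34918 (iv3 F90356)) (tt N28152 F74490) (tt N26178 F305100) (tt N54238 D101464) (tt N47172 (iv7 F128471)))
theorem Q28764 : ∀ i, i < 28764 → P i := stepQ 28763 Q28763 (allL N28763 (tt N54239 D101465) (tt N45526 (iv0 F116496)) (tt N45578 (iv2 F116554)) (tt N43953 (iv3 F110301)) (tt N45546 (iv4 F116494)) (tt N14337 (iv5 D47216)) (tt N54240 D101466) (tt N46881 (iv7 F127495)))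
theorem Q28765 : ∀ i, i < 28765 → P i := stepQ 28764 Q28764 (allL N28764 (tt N54241 D101467) (tt N54242 D101468) (tt N47943 (iv2 F130106)) (tt N46884 (iv3 F127499)) (tt N14338 F74491) (tt N54243 D101469) (tt N14337 (iv6 D47217)) (tt N54244 D101470))
theorem Q28766 : ∀ i, i < 28766 → P i := stepQ 28765 Q28765 (allL N28765 (tt N54237 (iv1 F156285)) (tt N14338 (iv0 D47218)) (tt N54235 (iv2 F184745)) (tt N17764 F301403) (tt N24836 (iv4 F184748)) (tt N54245 D101474) (tt N54246 D101475) (tt N17761 F301404))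
theorem Q28767 : ∀ i, i < 28767 → P i := stepQ 28766 Q28766 (allL N28766 (tt N14338 (iv1 D47219)) (tt N54237 F156284) (tt N17761 F301994) (tt N54247 D101477) (tt N54248 D101478) (tt N54249 D101479) (tt N17758 (iv6 F304603)) (tt N54235 (iv7 F184746)))
theorem Q28768 : ∀ i, i < 28768 → P i := stepQ 28767 Q28767 (allL N28767 (tt N54250 D101481) (tt N54251 D101482) (tt N54236 (iv2 F156278)) (tt N14341 F74492) (tt N54252 D101483) (tt N14338 (iv5 D47220)) (tt N46804 (iv6 F127124)) (tt N54253 D101484))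
theorem Q28769 : ∀ i, i < 28769 → P i := stepQ 28768 Q28768 (allL N28768 (tt N17761 F301993) (tt N54235 F156283) (tt N54237 (iv2 F156280)) (tt N14342 F74493) (tt N54244 (iv4 F156294)) (tt N54253 (iv5 F156298)) (tt N49554 (iv6 F136827)) (tt N14338 (iv7 D47221)))
theorem Q28770 : ∀ i, i < 28770 → P i := stepQ 28769 Q28769 (allL N28769 (tt N53327 (iv1 F332410)) (tt N47449 F332407) (tt N53325 (iv2 F348283)) (tt N14339 (iv3 D47223)) (tt N54254 D101494) (tt N54255 D101495) (tt N54256 D101496) (tt N49591 (iv7 F156745)))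
theorem Q28771 : ∀ i, i < 28771 → P i := stepQ 28770 Q28770 (allL N28770 (tt N54257 D101504) (tt N54258 D101505) (tt N49589 (iv2 F156756)) (tt N54255 (iv3 F156307)) (tt N54259 D101506) (tt N14339 (iv5 D47225)) (tt N54260 D101507) (tt N49592 (iv7 F156749)))
theorem Q28772 : ∀ i, i < 28772 → P i := stepQ 28771 Q28771 (allL N28771 (tt N14364 (iv1 F156732)) (tt N53383 (iv0 F156733)) (tt N49590 (iv2 F156758)) (tt N54256 (iv3 F156308)) (tt N47442 (iv4 F184684)) (tt N53246 F153176) (tt N14339 (iv6 D47226)) (tt N53381 (iv7 F156763)))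
theorem Q28773 : ∀ i, i < 28773 → P i := stepQ 28772 Q28772 (allL N28772 (tt N54258 (iv1 F156316)) (tt N54257 F156319) (tt N49592 (iv2 F156748)) (tt N22355 (iv3 F306913)) (tt N54261 D101522) (tt N14340 (iv5 D47230)) (tt N54262 D101523) (tt N49589 (iv7 F156757)))
theorem Q28774 : ∀ i, i < 28774 → P i := stepQ 28773 Q28773 (allL N28773 (tt N49596 (iv1 F136889)) (tt N14341 (iv0 D47232)) (tt N49593 (iv2 F155797)) (tt N54263 D101527) (tt N52978 (iv4 F249715)) (tt N54264 D101529) (tt N39552 F329870) (tt N49594 (iv7 F155819)))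
theorem Q28775 : ∀ i, i < 28775 → P i := stepQ 28774 Q28774 (allL N28774 (tt N14341 (iv1 D47233)) (tt N49596 F136888) (tt N49594 F155798) (tt N54127 (iv3 F156035)) (tt N52979 (iv4 F184694)) (tt N28668 (iv5 F74496)) (tt N54265 D101532) (tt N49593 F155796))
theorem Q28776 : ∀ i, i < 28776 → P i := stepQ 28775 Q28775 (allL N28775 (tt N54266 D101533) (tt N54267 D101534) (tt N49595 (iv2 F136883)) (tt N54268 D101535) (tt N14341 (iv4 D47234)) (tt N54269 D101536) (tt N46805 (iv6 F127126)) (tt N54270 D101537))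
theorem Q28777 : ∀ i, i < 28777 → P i := stepQ 28776 Q28776 (allL N28776 (tt N49594 (iv1 F136882)) (tt N49593 F136887) (tt N49596 (iv2 F136885)) (tt N54253 (iv3 F156297)) (tt N54270 (iv4 F156343)) (tt N14342 F74497) (tt N54271 D101538) (tt N14341 (iv7 D47235)))
theorem Q28778 : ∀ i, i < 28778 → P i := stepQ 28777 Q28777 (allL N28777 (tt N54272 D101539) (tt N35392 F155116) (tt N14344 F74498) (tt N49546 (iv3 F136810)) (tt N17018 F74499) (tt N54273 D101540) (tt N14343 (iv6 D47236)) (tt N25252 F155117))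
theorem Q28779 : ∀ i, i < 28779 → P i := stepQ 28778 Q28778 (allL N28778 (tt N25252 F155124) (tt N14344 (iv0 D47237)) (tt N54272 (iv2 F190877)) (tt N54274 D101542) (tt N35365 F155125) (tt N54275 D101543) (tt N54276 D101544) (tt N35392 (iv7 F190876)))
theorem Q28780 : ∀ i, i < 28780 → P i := stepQ 28779 Q28779 (allL N28779 (tt N14344 (iv1 D47238)) (tt N25252 F155126) (tt N35392 (iv2 F190875)) (tt N54277 D101546) (tt N35391 (iv4 F190879)) (tt N54278 D101548) (tt N54279 D101549) (tt N54272 (iv7 F190878)))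
theorem Q28781 : ∀ i, i < 28781 → P i := stepQ 28780 Q28780 (allL N28780 (tt N54280 D101550) (tt N54281 D101551) (tt N54273 (iv2 F156346)) (tt N14347 F74500) (tt N54282 D101552) (tt N14344 (iv5 D47239)) (tt N27039 F295430) (tt N54283 D101553))
theorem Q28782 : ∀ i, i < 28782 → P i := stepQ 28781 Q28781 (allL N28781 (tt N35392 F155127) (tt N54272 F156345) (tt N25252 F155128) (tt N14348 F74501) (tt N17966 F155129) (tt N54283 (iv5 F156353)) (tt N43844 (iv6 F184611)) (tt N14344 (iv7 D47240)))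
theorem Q28783 : ∀ i, i < 28783 → P i := stepQ 28782 Q28782 (allL N28782 (tt N54284 D101559) (tt N54285 D101560) (tt N49564 (iv2 F156432)) (tt N52768 F155185) (tt N54286 D101561) (tt N14345 (iv5 D47244)) (tt N54287 D101562) (tt N49566 (iv7 F156441)))
theorem Q28784 : ∀ i, i < 28784 → P i := stepQ 28783 Q28783 (allL N28783 (tt N47457 F156367) (tt N54288 D101564) (tt N49565 (iv2 F156427)) (tt N17778 F308280) (tt N47430 F308281) (tt N53274 F153259) (tt N14345 (iv6 D47245)) (tt N54045 (iv7 F156420)))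
theorem Q28785 : ∀ i, i < 28785 → P i := stepQ 28784 Q28784 (allL N28784 (tt N54285 (iv1 F156362)) (tt N54284 F156417) (tt N49566 (iv2 F156440)) (tt N43105 F317256) (tt N54289 D101572) (tt N14346 (iv5 D47249)) (tt N54290 D101573) (tt N49564 (iv7 F156433)))
theorem Q28786 : ∀ i, i < 28786 → P i := stepQ 28785 Q28785 (allL N28785 (tt N53372 (iv1 F156675)) (tt N14360 F156364) (tt N49567 (iv2 F156442)) (tt N43106 F317257) (tt N47436 F155181) (tt N54291 D101575) (tt N14346 (iv6 D47250)) (tt N53371 (iv7 F156671)))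
theorem Q28787 : ∀ i, i < 28787 → P i := stepQ 28786 Q28786 (allL N28786 (tt N49570 (iv1 F136846)) (tt N14347 (iv0 D47251)) (tt N49568 (iv2 F156879)) (tt N52771 (iv3 F156895)) (tt N51150 (iv4 F295481)) (tt N49649 (iv5 F137015)) (tt N54292 D101580) (tt N49569 (iv7 F156877)))
theorem Q28788 : ∀ i, i < 28788 → P i := stepQ 28787 Q28787 (allL N28787 (tt N14347 (iv1 D47252)) (tt N49570 F136845) (tt N49569 (iv2 F156876)) (tt N54293 D101582) (tt N51151 (iv4 F295482)) (tt N28618 (iv5 F74505)) (tt N54294 D101583) (tt N49568 (iv7 F156881)))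
theorem Q28789 : ∀ i, i < 28789 → P i := stepQ 28788 Q28788 (allL N28788 (tt N49569 (iv1 F136839)) (tt N49568 F136844) (tt N49570 (iv2 F136842)) (tt N54283 (iv3 F156352)) (tt N51133 F295431) (tt N14348 F74506) (tt N50592 F295432) (tt N14347 (iv7 D47254)))
theorem Q28790 : ∀ i, i < 28790 → P i := stepQ 28789 Q28789 (allL N28789 (tt N47262 F128592) (tt N54295 D101590) (tt N47161 (iv2 F128409)) (tt N14349 (iv3 D47256)) (tt N42800 F305986) (tt N44710 (iv5 F112921)) (tt N47357 F334562) (tt N46981 (iv7 F127923)))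
theorem Q28791 : ∀ i, i < 28791 → P i := stepQ 28790 Q28790 (allL N28790 (tt N22422 (iv1 F74509)) (tt N17462 (iv0 F74508)) (tt N22524 F301341) (tt N41034 F307039) (tt N14349 (iv4 D47257)) (tt N54296 D101594) (tt N17270 (iv6 F304063)) (tt N22523 F301342))
theorem Q28792 : ∀ i, i < 28792 → P i := stepQ 28791 Q28791 (allL N28791 (tt N54297 D101596) (tt N47443 (iv0 F307713)) (tt N46983 (iv2 F127928)) (tt N47357 F334560) (tt N17270 F306169) (tt N54298 D101598) (tt N14349 (iv6 D47259)) (tt N47387 (iv7 F315244)))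
theorem Q28793 : ∀ i, i < 28793 → P i := stepQ 28792 Q28792 (allL N28792 (tt N17462 F74511) (tt N22422 (iv0 F74513)) (tt N22523 F301343) (tt N47328 (iv3 F128670)) (tt N14350 (iv4 D47262)) (tt N54299 D101600) (tt N25132 (iv6 F304068)) (tt N22524 F301344))
theorem Q28794 : ∀ i, i < 28794 → P i := stepQ 28793 Q28793 (allL N28793 (tt N47433 (iv1 F308154)) (tt N54300 D101603) (tt N46982 (iv2 F127926)) (tt N47160 (iv3 F128408)) (tt N25132 F306170) (tt N54301 D101604) (tt N14350 (iv6 D47264)) (tt N54302 D101605))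
theorem Q28795 : ∀ i, i < 28795 → P i := stepQ 28794 Q28794 (allL N28794 (tt N54303 D101606) (tt N54304 D101607) (tt N14352 F74514) (tt N34158 (iv3 F86838)) (tt N54133 (iv4 F156074)) (tt N54305 D101608) (tt N14351 (iv6 D47265)) (tt N54306 D101609))
theorem Q28796 : ∀ i, i < 28796 → P i := stepQ 28795 Q28795 (allL N28795 (tt N54306 (iv1 F156537)) (tt N14352 (iv0 D47266)) (tt N54303 (iv2 F344076)) (tt N54307 D101611) (tt N54308 D101612) (tt N54309 D101613) (tt N54310 D101614) (tt N54304 (iv7 F344062)))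
theorem Q28797 : ∀ i, i < 28797 → P i := stepQ 28796 Q28796 (allL N28796 (tt N14352 (iv1 D47267)) (tt N54306 F156536) (tt N54304 (iv2 F344058)) (tt N54311 D101616) (tt N22476 (iv4 F316744)) (tt N54312 D101618) (tt N22474 (iv6 F316747)) (tt N54303 (iv7 F344078)))
theorem Q28798 : ∀ i, i < 28798 → P i := stepQ 28797 Q28797 (allL N28797 (tt N54313 D101620) (tt N43309 (iv0 F321176)) (tt N54305 (iv2 F156533)) (tt N14355 F74515) (tt N54314 D101622) (tt N14352 (iv5 D47268)) (tt N46769 (iv6 F126902)) (tt N54315 D101623))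
theorem Q28799 : ∀ i, i < 28799 → P i := stepQ 28798 Q28798 (allL N28798 (tt N54304 (iv1 F156532)) (tt N54303 F156535) (tt N54306 (iv2 F156534)) (tt N14356 F74516) (tt N54137 (iv4 F156078)) (tt N54315 (iv5 F156541)) (tt N46985 (iv6 F127933)) (tt N14352 (iv7 D47269)))
theorem Q28800 : ∀ i, i < 28800 → P i := stepQ 28799 Q28799 (allL N28799 (tt N54316 D101643) (tt N54317 D101644) (tt N47485 (iv2 F274684)) (tt N23602 (iv3 F314154)) (tt N54318 D101645) (tt N14353 (iv5 D47273)) (tt N54319 D101646) (tt N47487 (iv7 F274693)))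
theorem Q28801 : ∀ i, i < 28801 → P i := stepQ 28800 Q28800 (allL N28800 (tt N47436 (iv1 F249609)) (tt N54320 D101649) (tt N47486 (iv2 F274678)) (tt N23603 (iv3 F309571)) (tt N48199 (iv4 F309572)) (tt N38104 (iv5 F308631)) (tt N14353 (iv6 D47274)) (tt N46423 F307533))
theorem Q28802 : ∀ i, i < 28802 → P i := stepQ 28801 Q28801 (allL N28801 (tt N47258 (iv1 F311765)) (tt N47442 (iv0 F311764)) (tt N23608 (iv2 F311763)) (tt N14354 (iv3 D47276)) (tt N52944 (iv4 F311766)) (tt N54321 D101656) (tt N14354 F310554) (tt N47483 (iv7 F274681)))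
theorem Q28803 : ∀ i, i < 28803 → P i := stepQ 28802 Q28802 (allL N28802 (tt N54317 (iv1 F156559)) (tt N54316 F156562) (tt N47487 (iv2 F274692)) (tt N54321 (iv3 F156565)) (tt N54322 D101661) (tt N14354 (iv5 D47278)) (tt N54323 D101662) (tt N47485 (iv7 F274685)))
theorem Q28804 : ∀ i, i < 28804 → P i := stepQ 28803 Q28803 (allL N28803 (tt N47482 (iv1 F128881)) (tt N14355 (iv0 D47280)) (tt N47488 (iv2 F286952)) (tt N46390 F304832) (tt N54324 D101669) (tt N46383 F304833) (tt N54325 D101671) (tt N46382 F304834))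
theorem Q28805 : ∀ i, i < 28805 → P i := stepQ 28804 Q28804 (allL N28804 (tt N14355 (iv1 D47281)) (tt N47482 F128880) (tt N46382 F304818) (tt N46956 (iv3 F306789)) (tt N54326 D101674) (tt N46378 F304819) (tt N46953 (iv6 F306790)) (tt N47488 (iv7 F286953)))
theorem Q28806 : ∀ i, i < 28806 → P i := stepQ 28805 Q28805 (allL N28805 (tt N54327 D101677) (tt N54328 D101678) (tt N47489 (iv2 F128886)) (tt N54329 D101679) (tt N14355 (iv4 D47282)) (tt N54330 D101680) (tt N28867 F328327) (tt N54331 D101681))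
theorem Q28807 : ∀ i, i < 28807 → P i := stepQ 28806 Q28806 (allL N28806 (tt N46382 F304828) (tt N47488 F128884) (tt N47482 (iv2 F128878)) (tt N54315 (iv3 F156540)) (tt N54331 (iv4 F156579)) (tt N14356 F74519) (tt N54332 D101682) (tt N14355 (iv7 D47283)))
theorem Q28808 : ∀ i, i < 28808 → P i := stepQ 28807 Q28807 (allL N28807 (tt N53374 (iv1 F156711)) (tt N14357 (iv0 D47290)) (tt N53373 (iv2 F324283)) (tt N49305 (iv3 F324284)) (tt N24704 (iv4 F324285)) (tt N54333 D101715) (tt N53861 (iv6 F324288)) (tt N24698 (iv7 F324282)))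
theorem Q28809 : ∀ i, i < 28809 → P i := stepQ 28808 Q28808 (allL N28808 (tt N53373 (iv1 F156709)) (tt N24698 F322811) (tt N14357 (iv2 D47292)) (tt N39849 F326327) (tt N47951 (iv4 F324278)) (tt N39848 (iv5 F327150)) (tt N54334 D101726) (tt N53374 (iv7 F156713)))
theorem Q28810 : ∀ i, i < 28810 → P i := stepQ 28809 Q28809 (allL N28809 (tt N54335 D101727) (tt N54238 (iv0 F351755)) (tt N47951 (iv2 F324277)) (tt N46906 (iv3 F324289)) (tt N14357 (iv4 D47293)) (tt N54336 D101730) (tt N54337 D101731) (tt N45687 (iv7 F334392)))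
theorem Q28811 : ∀ i, i < 28811 → P i := stepQ 28810 Q28810 (allL N28810 (tt N54338 D101733) (tt N39624 F345844) (tt N39848 F327699) (tt N14359 F74528) (tt N54339 D101735) (tt N14357 (iv5 D47294)) (tt N54340 D101736) (tt N53375 (iv7 F156715)))
theorem Q28812 : ∀ i, i < 28812 → P i := stepQ 28811 Q28811 (allL N28811 (tt N54341 D101738) (tt N54342 D101739) (tt N54334 (iv2 F156618)) (tt N14360 F74529) (tt N54337 (iv4 F156620)) (tt N54343 D101740) (tt N14357 (iv6 D47295)) (tt N54344 D101741))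
theorem Q28813 : ∀ i, i < 28813 → P i := stepQ 28812 Q28812 (allL N28812 (tt N14362 (iv1 F74535)) (tt N14358 (iv0 D47297)) (tt N46833 F156781) (tt N45597 (iv3 F314289)) (tt N28080 (iv4 F156783)) (tt N54345 D101746) (tt N46837 (iv6 F156784)) (tt N27960 F156782))
theorem Q28814 : ∀ i, i < 28814 → P i := stepQ 28813 Q28813 (allL N28813 (tt N54346 D101753) (tt N46883 (iv0 F351794)) (tt N43964 (iv2 F326283)) (tt N14358 (iv3 D47299)) (tt N46906 F325423) (tt N54347 D101756) (tt N54348 D101757) (tt N53376 (iv7 F156716)))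
theorem Q28815 : ∀ i, i < 28815 → P i := stepQ 28814 Q28814 (allL N28814 (tt N54349 D101759) (tt N54350 D101760) (tt N39532 F324654) (tt N54347 (iv3 F156630)) (tt N54351 D101761) (tt N14358 (iv5 D47300)) (tt N39531 (iv6 F325770)) (tt N53377 (iv7 F156718)))
theorem Q28816 : ∀ i, i < 28816 → P i := stepQ 28815 Q28815 (allL N28815 (tt N46842 (iv1 F272689)) (tt N54352 D101765) (tt N53367 (iv2 F156673)) (tt N54348 (iv3 F156631)) (tt N14360 F74532) (tt N54353 D101766) (tt N14358 (iv6 D47301)) (tt N54354 D101767))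
theorem Q28817 : ∀ i, i < 28817 → P i := stepQ 28816 Q28816 (allL N28816 (tt N14363 (iv1 F74540)) (tt N14359 (iv0 D47303)) (tt N53368 F155832) (tt N54355 D101769) (tt N54356 D101770) (tt N28671 F74536) (tt N39311 F346673) (tt N39672 F329874))
theorem Q28818 : ∀ i, i < 28818 → P i := stepQ 28817 Q28817 (allL N28817 (tt N14359 (iv1 D47304)) (tt N14363 F74537) (tt N39672 (iv2 F329770)) (tt N54150 (iv3 F286540)) (tt N54357 D101773) (tt N49644 (iv5 F155836)) (tt N39153 F329627) (tt N53368 F155834))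
theorem Q28819 : ∀ i, i < 28819 → P i := stepQ 28818 Q28818 (allL N28818 (tt N54358 D101774) (tt N54359 D101775) (tt N53369 (iv2 F156698)) (tt N54360 D101776) (tt N14359 (iv4 D47305)) (tt N54361 D101777) (tt N54362 D101778) (tt N53379 (iv7 F156721)))
theorem Q28820 : ∀ i, i < 28820 → P i := stepQ 28819 Q28819 (allL N28819 (tt N54363 D101780) (tt N54364 D101781) (tt N53370 (iv2 F156700)) (tt N54340 (iv3 F156622)) (tt N54362 (iv4 F156643)) (tt N54365 D101782) (tt N14359 (iv6 D47306)) (tt N54366 D101783))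
theorem Q28821 : ∀ i, i < 28821 → P i := stepQ 28820 Q28820 (allL N28820 (tt N14360 (iv1 D47309)) (tt N53372 (iv0 F156674)) (tt N53371 (iv2 F156670)) (tt N54153 F156464) (tt N54320 (iv4 F156563)) (tt N54367 D101785) (tt N54045 (iv6 F155847)) (tt N49567 (iv7 F156443)))
theorem Q28822 : ∀ i, i < 28822 → P i := stepQ 28821 Q28821 (allL N28821 (tt N28614 F74541) (tt N49658 (iv0 F137024)) (tt N49665 (iv2 F156666)) (tt N54343 (iv3 F156625)) (tt N54368 D101786) (tt N14360 (iv5 D47310)) (tt N54365 (iv6 F156647)) (tt N49664 (iv7 F156665)))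
theorem Q28823 : ∀ i, i < 28823 → P i := stepQ 28822 Q28822 (allL N28822 (tt N53371 (iv1 F156669)) (tt N49567 (iv0 F156659)) (tt N53372 (iv2 F156676)) (tt N54344 (iv3 F156626)) (tt N54354 (iv4 F156637)) (tt N49664 (iv5 F156664)) (tt N53383 (iv6 F156731)) (tt N14360 (iv7 D47311)))
theorem Q28824 : ∀ i, i < 28824 → P i := stepQ 28823 Q28823 (allL N28823 (tt N14361 (iv1 D47314)) (tt N39849 F326324) (tt N43687 (iv2 F321048)) (tt N54142 (iv3 F351742)) (tt N43681 (iv4 F321053)) (tt N54369 D101799) (tt N53982 (iv6 F321058)) (tt N43679 (iv7 F321047)))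
theorem Q28825 : ∀ i, i < 28825 → P i := stepQ 28824 Q28824 (allL N28824 (tt N43679 (iv1 F321060)) (tt N43687 (iv0 F321061)) (tt N14361 (iv2 D47315)) (tt N53374 (iv3 F156712)) (tt N17022 (iv4 F321064)) (tt N39213 (iv5 F327151)) (tt N54370 D101803) (tt N39849 F326329))
theorem Q28826 : ∀ i, i < 28826 → P i := stepQ 28825 Q28825 (allL N28825 (tt N17014 (iv1 F321068)) (tt N17023 (iv0 F321069)) (tt N17022 (iv2 F321063)) (tt N43967 (iv3 F319568)) (tt N14361 (iv4 D47316)) (tt N42757 (iv5 F321070)) (tt N54371 D101808) (tt N17021 (iv7 F321078)))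
theorem Q28827 : ∀ i, i < 28827 → P i := stepQ 28826 Q28826 (allL N28826 (tt N54372 D101813) (tt N54373 D101814) (tt N54370 (iv2 F156770)) (tt N14364 F74544) (tt N54371 (iv4 F156772)) (tt N54374 D101815) (tt N14361 (iv6 D47318)) (tt N54375 D101816))
theorem Q28828 : ∀ i, i < 28828 → P i := stepQ 28827 Q28827 (allL N28827 (tt N54350 (iv1 F156633)) (tt N54349 F156636) (tt N53377 (iv2 F156717)) (tt N39534 F321531) (tt N54376 D101822) (tt N14362 (iv5 D47320)) (tt N54377 D101823) (tt N39532 (iv7 F323250)))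
theorem Q28829 : ∀ i, i < 28829 → P i := stepQ 28828 Q28828 (allL N28828 (tt N54240 (iv1 F308346)) (tt N46894 F271113) (tt N53378 (iv2 F156719)) (tt N43968 (iv3 F315068)) (tt N14364 F74545) (tt N54378 D101826) (tt N14362 (iv6 D47321)) (tt N54379 D101827))
theorem Q28830 : ∀ i, i < 28830 → P i := stepQ 28829 Q28829 (allL N28829 (tt N54359 (iv1 F156642)) (tt N54358 F156646) (tt N53379 (iv2 F156720)) (tt N39853 (iv3 F328193)) (tt N14363 (iv4 D47322)) (tt N54380 D101829) (tt N54381 D101830) (tt N53369 (iv7 F156699)))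
theorem Q28831 : ∀ i, i < 28831 → P i := stepQ 28830 Q28830 (allL N28830 (tt N54382 D101831) (tt N53400 (iv0 F153571)) (tt N53380 (iv2 F156722)) (tt N39856 F327700) (tt N54381 (iv4 F156791)) (tt N54383 D101832) (tt N14363 (iv6 D47323)) (tt N54384 D101833))
theorem Q28832 : ∀ i, i < 28832 → P i := stepQ 28831 Q28831 (allL N28831 (tt N53383 (iv1 F156728)) (tt N14364 (iv0 D47324)) (tt N53381 (iv2 F156762)) (tt N17768 F308328) (tt N47258 F308329) (tt N53245 F153183) (tt N17765 F308330) (tt N49590 (iv7 F156759)))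
theorem Q28833 : ∀ i, i < 28833 → P i := stepQ 28832 Q28832 (allL N28832 (tt N28620 (iv1 F155072)) (tt N28617 (iv0 F74546)) (tt N53382 (iv2 F156725)) (tt N54374 (iv3 F156774)) (tt N54385 D101836) (tt N14364 (iv5 D47326)) (tt N54383 (iv6 F156792)) (tt N54386 D101837))
theorem Q28834 : ∀ i, i < 28834 → P i := stepQ 28833 Q28833 (allL N28833 (tt N49590 F156483) (tt N53381 (iv0 F156723)) (tt N53383 (iv2 F156729)) (tt N54375 (iv3 F156775)) (tt N54379 (iv4 F156790)) (tt N54386 (iv5 F156795)) (tt N53372 (iv6 F156678)) (tt N14364 (iv7 D47327)))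
theorem Q28835 : ∀ i, i < 28835 → P i := stepQ 28834 Q28834 (allL N28834 (tt N54333 (iv1 F347430)) (tt N53872 (iv0 F345505)) (tt N54387 D101840) (tt N14365 (iv3 D47329)) (tt N54388 D101841) (tt N54389 D101842) (tt N54390 D101843) (tt N53387 (iv7 F156402)))
theorem Q28836 : ∀ i, i < 28836 → P i := stepQ 28835 Q28835 (allL N28835 (tt N54391 D101844) (tt N54392 D101845) (tt N53384 (iv2 F156404)) (tt N54393 D101846) (tt N14365 (iv4 D47330)) (tt N54394 D101847) (tt N54395 D101848) (tt N53388 (iv7 F156403)))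
theorem Q28837 : ∀ i, i < 28837 → P i := stepQ 28836 Q28836 (allL N28836 (tt N54044 F156337) (tt N44566 F307569) (tt N53385 F156391) (tt N54389 (iv3 F156800)) (tt N54396 D101849) (tt N14365 (iv5 D47331)) (tt N53945 F155073) (tt N26176 F156392))
theorem Q28838 : ∀ i, i < 28838 → P i := stepQ 28837 Q28837 (allL N28837 (tt N54397 D101850) (tt N54398 D101851) (tt N53386 (iv2 F156405)) (tt N54390 (iv3 F156802)) (tt N54395 (iv4 F156810)) (tt N51174 (iv5 F295028)) (tt N14365 (iv6 D47332)) (tt N54399 D101852))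
theorem Q28839 : ∀ i, i < 28839 → P i := stepQ 28838 Q28838 (allL N28838 (tt N43686 (iv1 F286853)) (tt N54369 (iv0 F321054)) (tt N39852 F326322) (tt N14366 (iv3 D47334)) (tt N39211 (iv4 F327147)) (tt N42799 F286848) (tt N33725 F319207) (tt N39857 F326323))
theorem Q28840 : ∀ i, i < 28840 → P i := stepQ 28839 Q28839 (allL N28839 (tt N54392 (iv1 F156806)) (tt N54391 F156804) (tt N53388 (iv2 F156412)) (tt N54400 D101859) (tt N14366 (iv4 D47335)) (tt N54401 D101860) (tt N54402 D101861) (tt N53384 F156411))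
theorem Q28841 : ∀ i, i < 28841 → P i := stepQ 28840 Q28840 (allL N28840 (tt N44566 F307570) (tt N54044 (iv0 F156331)) (tt N26176 F156385) (tt N42799 (iv3 F286810)) (tt N54403 D101862) (tt N14366 (iv5 D47336)) (tt N26033 (iv6 F74549)) (tt N53385 F156386))
theorem Q28842 : ∀ i, i < 28842 → P i := stepQ 28841 Q28841 (allL N28841 (tt N54404 D101863) (tt N54405 D101864) (tt N53389 F156413) (tt N33725 F319205) (tt N54402 (iv4 F156816)) (tt N33723 F319206) (tt N14366 (iv6 D47337)) (tt N54406 D101866))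
theorem Q28843 : ∀ i, i < 28843 → P i := stepQ 28842 Q28842 (allL N28842 (tt N53394 (iv1 F153539)) (tt N14367 (iv0 D47338)) (tt N53390 (iv2 F286966)) (tt N54407 D101868) (tt N52945 (iv4 F156575)) (tt N54408 D101869) (tt N54409 D101870) (tt N53391 (iv7 F286965)))
theorem Q28844 : ∀ i, i < 28844 → P i := stepQ 28843 Q28843 (allL N28843 (tt N14367 (iv1 D47339)) (tt N53394 F153538) (tt N53391 (iv2 F286963)) (tt N54410 D101872) (tt N52946 (iv4 F274517)) (tt N54411 D101874) (tt N54412 D101875) (tt N53390 (iv7 F286967)))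
theorem Q28845 : ∀ i, i < 28845 → P i := stepQ 28844 Q28844 (allL N28844 (tt N54413 D101876) (tt N54414 D101877) (tt N54415 D101878) (tt N14367 (iv3 D47340)) (tt N54166 (iv4 F156125)) (tt N54416 D101879) (tt N14405 F74550) (tt N54417 D101880))
theorem Q28846 : ∀ i, i < 28846 → P i := stepQ 28845 Q28845 (allL N28845 (tt N54418 D101881) (tt N54410 (iv0 F385541)) (tt N53393 (iv2 F153534)) (tt N54416 (iv3 F156824)) (tt N54419 D101883) (tt N14367 (iv5 D47341)) (tt N54420 D101884) (tt N54421 D101885))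
theorem Q28847 : ∀ i, i < 28847 → P i := stepQ 28846 Q28846 (allL N28846 (tt N53391 (iv1 F153532)) (tt N53390 F153537) (tt N53394 (iv2 F153535)) (tt N54417 (iv3 F156825)) (tt N14368 F74551) (tt N54421 (iv5 F156827)) (tt N54422 D101886) (tt N14367 (iv7 D47342)))
theorem Q28848 : ∀ i, i < 28848 → P i := stepQ 28847 Q28847 (allL N28847 (tt N53427 (iv1 F153653)) (tt N53426 F153652) (tt N53395 (iv2 F153540)) (tt N54169 (iv3 F156128)) (tt N54422 (iv4 F156828)) (tt N54423 D101887) (tt N14368 (iv6 D47343)) (tt N14408 F74552))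
theorem Q28849 : ∀ i, i < 28849 → P i := stepQ 28848 Q28848 (allL N28848 (tt N47459 (iv1 F128837)) (tt N47458 F128842) (tt N47461 (iv2 F128840)) (tt N22374 F308719) (tt N54424 D101888) (tt N14369 (iv5 D47344)) (tt N54423 (iv6 F156831)) (tt N14372 F74554))
theorem Q28850 : ∀ i, i < 28850 → P i := stepQ 28849 Q28849 (allL N28849 (tt N53861 (iv1 F310886)) (tt N49551 (iv0 F312002)) (tt N53859 (iv2 F312001)) (tt N14370 (iv3 D47346)) (tt N47188 F311721) (tt N54425 D101899) (tt N17757 F311722) (tt N47455 (iv7 F274794)))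
theorem Q28851 : ∀ i, i < 28851 → P i := stepQ 28850 Q28850 (allL N28850 (tt N46837 F272643) (tt N27970 (iv0 F272644)) (tt N46834 (iv2 F274790)) (tt N47189 (iv3 F314173)) (tt N14370 (iv4 D47347)) (tt N54426 D101905) (tt N54239 (iv6 F308088)) (tt N46835 (iv7 F274795)))
theorem Q28852 : ∀ i, i < 28852 → P i := stepQ 28851 Q28851 (allL N28851 (tt N54427 D101908) (tt N54428 D101909) (tt N47454 (iv2 F274791)) (tt N54425 (iv3 F156842)) (tt N54429 D101910) (tt N14370 (iv5 D47348)) (tt N54430 D101911) (tt N47456 (iv7 F274796)))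
theorem Q28853 : ∀ i, i < 28853 → P i := stepQ 28852 Q28852 (allL N28852 (tt N22349 (iv1 F307521)) (tt N17765 F307500) (tt N22348 (iv2 F307513)) (tt N17757 (iv3 F309542)) (tt N54239 (iv4 F308087)) (tt N49403 F136212) (tt N14370 (iv6 D47349)) (tt N22347 (iv7 F307517)))
theorem Q28854 : ∀ i, i < 28854 → P i := stepQ 28853 Q28853 (allL N28853 (tt N35351 (iv1 F314166)) (tt N53982 (iv0 F314165)) (tt N21607 (iv2 F314164)) (tt N14371 (iv3 D47351)) (tt N21585 (iv4 F314167)) (tt N54431 D101919) (tt N48237 (iv6 F314171)) (tt N21603 F311724))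
theorem Q28855 : ∀ i, i < 28855 → P i := stepQ 28854 Q28854 (allL N28854 (tt N27970 (iv1 F272645)) (tt N46837 F272642) (tt N46835 F274798) (tt N34283 (iv3 F314175)) (tt N14371 (iv4 D47352)) (tt N54432 D101922) (tt N54433 D101923) (tt N46834 F274799))
theorem Q28856 : ∀ i, i < 28856 → P i := stepQ 28855 Q28855 (allL N28855 (tt N54428 (iv1 F156851)) (tt N54427 F156908) (tt N47456 F274800) (tt N54431 (iv3 F156911)) (tt N54434 D101924) (tt N14371 (iv5 D47353)) (tt N54435 D101925) (tt N47454 F274801))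
theorem Q28857 : ∀ i, i < 28857 → P i := stepQ 28856 Q28856 (allL N28856 (tt N54045 F156909) (tt N49565 (iv0 F272016)) (tt N47457 F274802) (tt N48237 (iv3 F314170)) (tt N54433 (iv4 F156913)) (tt N54436 D101927) (tt N14371 (iv6 D47354)) (tt N54288 (iv7 F274803)))
theorem Q28858 : ∀ i, i < 28858 → P i := stepQ 28857 Q28857 (allL N28857 (tt N47461 (iv1 F128844)) (tt N14372 (iv0 D47355)) (tt N47458 F338106) (tt N54437 D101930) (tt N54438 D101931) (tt N53949 (iv5 F155078)) (tt N54439 D101932) (tt N47459 F338107))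
theorem Q28859 : ∀ i, i < 28859 → P i := stepQ 28858 Q28858 (allL N28858 (tt N14372 (iv1 D47356)) (tt N47461 F128843) (tt N47459 (iv2 F338104)) (tt N54440 D101934) (tt N54441 D101935) (tt N53935 (iv5 F155044)) (tt N54442 D101936) (tt N47458 (iv7 F338105)))
theorem Q28860 : ∀ i, i < 28860 → P i := stepQ 28859 Q28859 (allL N28859 (tt N54443 D101937) (tt N54444 D101938) (tt N47460 (iv2 F128838)) (tt N54445 D101939) (tt N14372 (iv4 D47357)) (tt N54446 D101940) (tt N14417 F74557) (tt N54424 (iv7 F156833)))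
theorem Q28861 : ∀ i, i < 28861 → P i := stepQ 28860 Q28860 (allL N28860 (tt N53871 (iv1 F289599)) (tt N53870 (iv0 F289594)) (tt N53404 (iv2 F156228)) (tt N53858 (iv3 F289679)) (tt N14373 (iv4 D47360)) (tt N47135 (iv5 F331184)) (tt N53858 (iv6 F289623)) (tt N53251 (iv7 F289574)))
theorem Q28862 : ∀ i, i < 28862 → P i := stepQ 28861 Q28861 (allL N28861 (tt N47602 (iv1 F328150)) (tt N14395 F159816) (tt N53405 (iv2 F156229)) (tt N54192 (iv3 F156241)) (tt N47543 (iv4 F328301)) (tt N14373 (iv5 D47361)) (tt N54447 D101949) (tt N53252 (iv7 F289577)))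
theorem Q28863 : ∀ i, i < 28863 → P i := stepQ 28862 Q28862 (allL N28862 (tt N53407 (iv1 F153599)) (tt N24842 (iv0 F327392)) (tt N14376 F74561) (tt N39174 (iv3 F328620)) (tt N46217 (iv4 F327394)) (tt N14374 (iv5 D47368)) (tt N39636 (iv6 F328622)) (tt N39170 F328243))
theorem Q28864 : ∀ i, i < 28864 → P i := stepQ 28863 Q28863 (allL N28863 (tt N53265 (iv1 F335342)) (tt N50523 (iv0 F357545)) (tt N14377 F74562) (tt N53397 (iv3 F153554)) (tt N52263 (iv4 F148323)) (tt N54448 D101968) (tt N14374 (iv6 D47369)) (tt N54449 D101969))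
theorem Q28865 : ∀ i, i < 28865 → P i := stepQ 28864 Q28864 (allL N28864 (tt N34733 F326740) (tt N46214 (iv0 F327385)) (tt N24886 F326741) (tt N27360 F74563) (tt N23025 (iv4 F327386)) (tt N14375 (iv5 D47370)) (tt N45667 (iv6 F327387)) (tt N24883 F326742))
theorem Q28866 : ∀ i, i < 28866 → P i := stepQ 28865 Q28865 (allL N28865 (tt N29203 F76114) (tt N54450 D101973) (tt N52263 (iv2 F148322)) (tt N27361 F74564) (tt N14377 F74565) (tt N51839 (iv5 F147306)) (tt N14375 (iv6 D47371)) (tt N54451 D101974))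
theorem Q28867 : ∀ i, i < 28867 → P i := stepQ 28866 Q28866 (allL N28866 (tt N39170 F327924) (tt N14376 (iv0 D47372)) (tt N53407 (iv2 F328312)) (tt N54195 (iv3 F356193)) (tt N24835 (iv4 F328315)) (tt N51135 (iv5 F335329)) (tt N54452 D101979) (tt N24842 (iv7 F328321)))
theorem Q28868 : ∀ i, i < 28868 → P i := stepQ 28867 Q28867 (allL N28867 (tt N14376 (iv1 D47373)) (tt N39170 F327923) (tt N24842 (iv2 F328320)) (tt N54453 D101981) (tt N24408 (iv4 F328323)) (tt N54454 D101983) (tt N28805 (iv6 F328327)) (tt N53407 (iv7 F328313)))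
theorem Q28869 : ∀ i, i < 28869 → P i := stepQ 28868 Q28868 (allL N28868 (tt N46213 (iv1 F328328)) (tt N24592 (iv0 F328329)) (tt N46217 F327921) (tt N54455 D101987) (tt N14376 (iv4 D47374)) (tt N46475 (iv5 F328330)) (tt N54456 D101989) (tt N46216 F327922))
theorem Q28870 : ∀ i, i < 28870 → P i := stepQ 28869 Q28869 (allL N28869 (tt N39634 (iv1 F329375)) (tt N39633 (iv0 F329376)) (tt N39636 F329050) (tt N14385 F74566) (tt N54456 (iv4 F156952)) (tt N54457 D101992) (tt N14376 (iv6 D47375)) (tt N39628 (iv7 F329377)))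
theorem Q28871 : ∀ i, i < 28871 → P i := stepQ 28870 Q28870 (allL N28870 (tt N54449 (iv1 F156944)) (tt N14377 (iv0 D47376)) (tt N53265 (iv2 F357144)) (tt N53470 (iv3 F356411)) (tt N54458 D101996) (tt N49673 (iv5 F357146)) (tt N50469 (iv6 F357143)) (tt N50523 (iv7 F357548)))
theorem Q28872 : ∀ i, i < 28872 → P i := stepQ 28871 Q28871 (allL N28871 (tt N14377 (iv1 D47377)) (tt N54449 F156943) (tt N50523 (iv2 F357547)) (tt N54459 D102000) (tt N54460 D102001) (tt N49674 (iv5 F347749)) (tt N50150 (iv6 F347751)) (tt N53265 (iv7 F357145)))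
theorem Q28873 : ∀ i, i < 28873 → P i := stepQ 28872 Q28872 (allL N28872 (tt N35122 F335733) (tt N54461 D102005) (tt N54448 (iv2 F156935)) (tt N14386 F74567) (tt N54462 D102006) (tt N14377 (iv5 D47378)) (tt N54457 (iv6 F156954)) (tt N26213 (iv7 F74568)))
theorem Q28874 : ∀ i, i < 28874 → P i := stepQ 28873 Q28873 (allL N28873 (tt N50523 (iv1 F357546)) (tt N53265 (iv0 F335341)) (tt N54449 (iv2 F156940)) (tt N14387 F74569) (tt N54451 (iv4 F156947)) (tt N26213 F74570) (tt N52166 (iv6 F147829)) (tt N14377 (iv7 D47379)))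
theorem Q28875 : ∀ i, i < 28875 → P i := stepQ 28874 Q28874 (allL N28874 (tt N25897 F74575) (tt N25896 F74576) (tt N25698 F74571) (tt N14380 F74572) (tt N29311 (iv4 F75582)) (tt N14379 (iv5 D47380)) (tt N26611 F74573) (tt N25891 F74574))
theorem Q28876 : ∀ i, i < 28876 → P i := stepQ 28875 Q28875 (allL N28875 (tt N25608 F74582) (tt N14682 F294445) (tt N25872 F74577) (tt N26611 F74578) (tt N27578 F74579) (tt N26752 F294446) (tt N14380 (iv6 D47381)) (tt N26752 F294447))
theorem Q28877 : ∀ i, i < 28877 → P i := stepQ 28876 Q28876 (allL N28876 (tt N40930 F334879) (tt N40964 F334880) (tt N40963 F334873) (tt N14382 (iv3 D47382)) (tt N54463 D102009) (tt N28194 F74591) (tt N54464 D102010) (tt N40962 F334874))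
theorem Q28878 : ∀ i, i < 28878 → P i := stepQ 28877 Q28877 (allL N28877 (tt N14463 F74592) (tt N14437 F74593) (tt N51188 (iv2 F294829)) (tt N54465 D102011) (tt N14382 (iv4 D47383)) (tt N54466 D102012) (tt N54467 D102013) (tt N53399 (iv7 F153566)))
theorem Q28879 : ∀ i, i < 28879 → P i := stepQ 28878 Q28878 (allL N28878 (tt N54468 D102014) (tt N54469 D102015) (tt N51187 F294976) (tt N54464 (iv3 F156961)) (tt N54467 (iv4 F156968)) (tt N27045 F294977) (tt N14382 (iv6 D47384)) (tt N54470 D102016))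
theorem Q28880 : ∀ i, i < 28880 → P i := stepQ 28879 Q28879 (allL N28879 (tt N14437 F74595) (tt N14463 F74596) (tt N53399 (iv2 F153564)) (tt N54471 D102017) (tt N14383 (iv4 D47385)) (tt N54472 D102018) (tt N54473 D102019) (tt N51188 (iv7 F294831)))
theorem Q28881 : ∀ i, i < 28881 → P i := stepQ 28880 Q28880 (allL N28880 (tt N53380 F153515) (tt N54384 F156793) (tt N53400 (iv2 F153569)) (tt N54182 (iv3 F156188)) (tt N54473 (iv4 F156975)) (tt N51124 (iv5 F292961)) (tt N14383 (iv6 D47386)) (tt N54382 (iv7 F346653)))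
theorem Q28882 : ∀ i, i < 28882 → P i := stepQ 28881 Q28881 (allL N28881 (tt N14392 (iv1 F74598)) (tt N14384 (iv0 D47387)) (tt N28982 (iv2 F74731)) (tt N54474 D102021) (tt N28346 F74597) (tt N49781 (iv5 F137233)) (tt N54475 D102022) (tt N28985 (iv7 F74737)))
theorem Q28883 : ∀ i, i < 28883 → P i := stepQ 28882 Q28882 (allL N28882 (tt N14384 (iv1 D47388)) (tt N14392 F74599) (tt N28985 (iv2 F74736)) (tt N54476 D102023) (tt N28347 F74600) (tt N49783 (iv5 F137239)) (tt N54477 D102024) (tt N28982 (iv7 F74732)))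
theorem Q28884 : ∀ i, i < 28884 → P i := stepQ 28883 Q28883 (allL N28883 (tt N54478 D102025) (tt N54479 D102026) (tt N54480 D102027) (tt N14384 (iv3 D47389)) (tt N54455 (iv4 F156951)) (tt N36298 F329955) (tt N54481 D102028) (tt N53410 (iv7 F153602)))
theorem Q28885 : ∀ i, i < 28885 → P i := stepQ 28884 Q28884 (allL N28884 (tt N31049 (iv1 F344537)) (tt N54482 D102030) (tt N53401 (iv2 F153573)) (tt N54481 (iv3 F156978)) (tt N14385 F74601) (tt N31127 (iv5 F344546)) (tt N14384 (iv6 D47390)) (tt N54483 D102032))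
theorem Q28886 : ∀ i, i < 28886 → P i := stepQ 28885 Q28885 (allL N28885 (tt N39157 F329746) (tt N14385 (iv0 D47391)) (tt N53402 (iv2 F344571)) (tt N40927 (iv3 F349492)) (tt N54484 D102035) (tt N54485 D102036) (tt N54363 (iv6 F156982)) (tt N53403 (iv7 F344581)))
theorem Q28887 : ∀ i, i < 28887 → P i := stepQ 28886 Q28886 (allL N28886 (tt N14385 (iv1 D47392)) (tt N39157 F329745) (tt N53403 (iv2 F344579)) (tt N54188 (iv3 F357283)) (tt N54486 D102039) (tt N54487 D102040) (tt N54488 D102041) (tt N53402 (iv7 F344573)))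
theorem Q28888 : ∀ i, i < 28888 → P i := stepQ 28887 Q28887 (allL N28887 (tt N54489 D102042) (tt N54490 D102043) (tt N26218 F74602) (tt N54457 (iv3 F156953)) (tt N54491 D102044) (tt N14385 (iv5 D47393)) (tt N14386 F74603) (tt N54492 D102045))
theorem Q28889 : ∀ i, i < 28889 → P i := stepQ 28888 Q28888 (allL N28888 (tt N53403 (iv1 F153575)) (tt N53402 F153579) (tt N39157 F329629) (tt N39628 F329630) (tt N54483 (iv4 F156979)) (tt N54492 (iv5 F156989)) (tt N39155 F329631) (tt N14385 (iv7 D47394)))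
theorem Q28890 : ∀ i, i < 28890 → P i := stepQ 28889 Q28889 (allL N28889 (tt N49447 (iv1 F136486)) (tt N49771 (iv0 F137215)) (tt N26217 F74604) (tt N54493 D102046) (tt N14386 (iv4 D47395)) (tt N28323 F74606) (tt N54491 (iv6 F156987)) (tt N26214 F74605))
theorem Q28891 : ∀ i, i < 28891 → P i := stepQ 28890 Q28890 (allL N28890 (tt N14399 F328956) (tt N19937 (iv0 F328162)) (tt N53396 F156167) (tt N54171 (iv3 F156133)) (tt N54494 D102062) (tt N14388 (iv5 D47404)) (tt N20033 (iv6 F328180)) (tt N53229 (iv7 F290135)))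
theorem Q28892 : ∀ i, i < 28892 → P i := stepQ 28891 Q28891 (allL N28891 (tt N25715 F289750) (tt N25876 F74614) (tt N14390 F74610) (tt N25901 (iv3 F74613)) (tt N14389 (iv4 D47406)) (tt N54495 D102068) (tt N50685 (iv6 F294104)) (tt N25877 F74611))
theorem Q28893 : ∀ i, i < 28893 → P i := stepQ 28892 Q28892 (allL N28892 (tt N50546 (iv1 F344359)) (tt N50543 (iv0 F295364)) (tt N14391 F74616) (tt N53406 (iv3 F153597)) (tt N50685 (iv4 F294102)) (tt N39171 (iv5 F329014)) (tt N14389 (iv6 D47408)) (tt N54496 D102075))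
theorem Q28894 : ∀ i, i < 28894 → P i := stepQ 28893 Q28893 (allL N28893 (tt N14390 (iv1 D47410)) (tt N25877 F74618) (tt N25876 F157340) (tt N54497 D102080) (tt N28969 (iv4 F74719)) (tt N54498 D102081) (tt N49136 (iv6 F289783)) (tt N25715 F289751))
theorem Q28895 : ∀ i, i < 28895 → P i := stepQ 28894 Q28894 (allL N28894 (tt N54499 D102083) (tt N54500 D102084) (tt N54495 (iv2 F157008)) (tt N25703 F74619) (tt N54501 D102085) (tt N14390 (iv5 D47411)) (tt N54502 D102086) (tt N25878 F74620))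
theorem Q28896 : ∀ i, i < 28896 → P i := stepQ 28895 Q28895 (allL N28895 (tt N54496 (iv1 F157023)) (tt N14391 (iv0 D47417)) (tt N50546 (iv2 F338440)) (tt N54503 D102110) (tt N50144 (iv4 F293736)) (tt N49585 (iv5 F338449)) (tt N50555 (iv6 F356799)) (tt N50543 (iv7 F338426)))
theorem Q28897 : ∀ i, i < 28897 → P i := stepQ 28896 Q28896 (allL N28896 (tt N14391 (iv1 D47418)) (tt N54496 F157022) (tt N50543 (iv2 F338424)) (tt N54085 (iv3 F289988)) (tt N50145 (iv4 F338435)) (tt N49586 (iv5 F289984)) (tt N53230 (iv6 F289985)) (tt N50546 (iv7 F338441)))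
theorem Q28898 : ∀ i, i < 28898 → P i := stepQ 28897 Q28897 (allL N28897 (tt N50543 (iv1 F295365)) (tt N50546 (iv0 F344358)) (tt N54496 (iv2 F157020)) (tt N14394 F74625) (tt N49164 (iv4 F135285)) (tt N39679 (iv5 F329583)) (tt N49129 (iv6 F135192)) (tt N14391 (iv7 D47420)))
theorem Q28899 : ∀ i, i < 28899 → P i := stepQ 28898 Q28898 (allL N28898 (tt N49522 (iv1 F136757)) (tt N49516 (iv0 F136741)) (tt N52152 (iv2 F147797)) (tt N54504 D102140) (tt N14393 (iv4 D47427)) (tt N52152 (iv5 F147798)) (tt N39676 (iv6 F329771)) (tt N52153 (iv7 F147805)))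
theorem Q28900 : ∀ i, i < 28900 → P i := stepQ 28899 Q28899 (allL N28899 (tt N53405 (iv1 F157053)) (tt N53252 (iv0 F289575)) (tt N14395 (iv2 D47430)) (tt N19937 (iv3 F328526)) (tt N46775 (iv4 F328303)) (tt N54505 D102152) (tt N19935 (iv6 F328529)) (tt N47602 (iv7 F328152)))
theorem Q28901 : ∀ i, i < 28901 → P i := stepQ 28900 Q28900 (allL N28900 (tt N47552 (iv1 F327383)) (tt N47622 (iv0 F327384)) (tt N54505 (iv2 F157048)) (tt N14397 F74628) (tt N47606 F326738) (tt N14395 (iv5 D47432)) (tt N53046 (iv6 F152092)) (tt N49742 F137126))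
theorem Q28902 : ∀ i, i < 28902 → P i := stepQ 28901 Q28901 (allL N28901 (tt N54506 D102161) (tt N54507 D102162) (tt N19935 (iv2 F328528)) (tt N14398 F74629) (tt N47608 (iv4 F328304)) (tt N54508 D102163) (tt N14395 (iv6 D47433)) (tt N54509 D102164))
theorem Q28903 : ∀ i, i < 28903 → P i := stepQ 28902 Q28902 (allL N28902 (tt N14400 (iv1 F74632)) (tt N14396 (iv0 D47434)) (tt N28967 (iv2 F74714)) (tt N54510 D102165) (tt N28342 F74631) (tt N28034 F74630) (tt N51706 (iv6 F352888)) (tt N28394 (iv7 F74633)))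
theorem Q28904 : ∀ i, i < 28904 → P i := stepQ 28903 Q28903 (allL N28903 (tt N14396 (iv1 D47435)) (tt N14400 F74634) (tt N28394 (iv2 F74635)) (tt N54511 D102167) (tt N26506 (iv4 F74636)) (tt N49718 (iv5 F137097)) (tt N54392 (iv6 F156809)) (tt N28967 (iv7 F74715)))
theorem Q28905 : ∀ i, i < 28905 → P i := stepQ 28904 Q28904 (allL N28904 (tt N51625 (iv1 F339715)) (tt N54512 D102169) (tt N37268 (iv2 F329737)) (tt N14396 (iv3 D47436)) (tt N47607 F328704) (tt N49708 (iv5 F137093)) (tt N37266 F329578) (tt N53414 (iv7 F153638)))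
theorem Q28906 : ∀ i, i < 28906 → P i := stepQ 28905 Q28905 (allL N28905 (tt N54513 D102172) (tt N54514 D102173) (tt N32118 (iv2 F329284)) (tt N37266 (iv3 F329290)) (tt N14398 F74637) (tt N54515 D102174) (tt N14396 (iv6 D47437)) (tt N54516 D102175))
theorem Q28907 : ∀ i, i < 28907 → P i := stepQ 28906 Q28906 (allL N28906 (tt N19941 (iv1 F329266)) (tt N14398 (iv0 D47438)) (tt N53411 (iv2 F329280)) (tt N54517 D102177) (tt N54518 D102178) (tt N54519 D102179) (tt N54405 (iv6 F344548)) (tt N53412 (iv7 F329283)))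
theorem Q28908 : ∀ i, i < 28908 → P i := stepQ 28907 Q28907 (allL N28907 (tt N14398 (iv1 D47439)) (tt N19941 (iv0 F329265)) (tt N53412 (iv2 F329282)) (tt N54209 (iv3 F385740)) (tt N54520 D102183) (tt N54521 D102184) (tt N54522 D102185) (tt N53411 (iv7 F329281)))
theorem Q28909 : ∀ i, i < 28909 → P i := stepQ 28908 Q28908 (allL N28908 (tt N54043 F155843) (tt N54523 D102186) (tt N50477 (iv2 F293915)) (tt N54508 (iv3 F157058)) (tt N54524 D102187) (tt N14398 (iv5 D47440)) (tt N29325 F75646) (tt N54525 D102188))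
theorem Q28910 : ∀ i, i < 28910 → P i := stepQ 28909 Q28909 (allL N28909 (tt N53412 (iv1 F153622)) (tt N53411 F153627) (tt N19941 (iv2 F329267)) (tt N54509 (iv3 F157059)) (tt N54516 (iv4 F157064)) (tt N54525 (iv5 F157071)) (tt N53418 (iv6 F153643)) (tt N14398 (iv7 D47441)))
theorem Q28911 : ∀ i, i < 28911 → P i := stepQ 28910 Q28910 (allL N28910 (tt N53229 (iv1 F328959)) (tt N53396 (iv0 F328570)) (tt N14399 (iv2 D47444)) (tt N47602 F328536) (tt N19940 (iv4 F328961)) (tt N54526 D102200) (tt N54527 D102201) (tt N19937 F328537))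
theorem Q28912 : ∀ i, i < 28912 → P i := stepQ 28911 Q28911 (allL N28911 (tt N19939 (iv1 F328992)) (tt N19938 (iv0 F328993)) (tt N19940 (iv2 F328960)) (tt N32122 (iv3 F328994)) (tt N14399 (iv4 D47445)) (tt N16637 (iv5 F328995)) (tt N19945 (iv6 F328997)) (tt N16636 (iv7 F328999)))
theorem Q28913 : ∀ i, i < 28913 → P i := stepQ 28912 Q28912 (allL N28912 (tt N54528 D102207) (tt N54529 D102208) (tt N54526 (iv2 F157075)) (tt N14401 F74638) (tt N49866 (iv4 F137676)) (tt N14399 (iv5 D47446)) (tt N49284 (iv6 F135751)) (tt N53173 (iv7 F152607)))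
theorem Q28914 : ∀ i, i < 28914 → P i := stepQ 28913 Q28913 (allL N28913 (tt N20024 (iv1 F329000)) (tt N54530 D102210) (tt N54527 (iv2 F157076)) (tt N14402 F74639) (tt N19945 (iv4 F328996)) (tt N54531 D102211) (tt N14399 (iv6 D47447)) (tt N19943 (iv7 F329007)))
theorem Q28915 : ∀ i, i < 28915 → P i := stepQ 28914 Q28914 (allL N28914 (tt N37271 (iv1 F329591)) (tt N37270 (iv0 F329592)) (tt N37273 (iv2 F329593)) (tt N14400 (iv3 D47448)) (tt N32122 F329358) (tt N49688 (iv5 F137068)) (tt N41127 (iv6 F329595)) (tt N32119 (iv7 F329597)))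
theorem Q28916 : ∀ i, i < 28916 → P i := stepQ 28915 Q28915 (allL N28915 (tt N54532 D102217) (tt N54533 D102218) (tt N53415 (iv2 F153639)) (tt N41127 (iv3 F329594)) (tt N14402 F74640) (tt N54534 D102219) (tt N14400 (iv6 D47449)) (tt N54535 D102220))
theorem Q28917 : ∀ i, i < 28917 → P i := stepQ 28916 Q28916 (allL N28916 (tt N53418 (iv1 F153646)) (tt N14402 (iv0 D47450)) (tt N53416 (iv2 F365505)) (tt N54217 (iv3 F365507)) (tt N54536 D102223) (tt N54537 D102224) (tt N20066 F365504) (tt N53417 (iv7 F365510)))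
theorem Q28918 : ∀ i, i < 28918 → P i := stepQ 28917 Q28917 (allL N28917 (tt N14402 (iv1 D47451)) (tt N53418 F153645) (tt N53417 (iv2 F365509)) (tt N54538 D102227) (tt N54539 D102228) (tt N54540 D102229) (tt N54397 (iv6 F368864)) (tt N53416 (iv7 F365506)))
theorem Q28919 : ∀ i, i < 28919 → P i := stepQ 28918 Q28918 (allL N28918 (tt N54541 D102231) (tt N54542 D102232) (tt N49745 (iv2 F137134)) (tt N54531 (iv3 F157079)) (tt N54543 D102233) (tt N14402 (iv5 D47452)) (tt N49285 (iv6 F135754)) (tt N54544 D102234))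
theorem Q28920 : ∀ i, i < 28920 → P i := stepQ 28919 Q28919 (allL N28919 (tt N53417 (iv1 F153641)) (tt N53416 F153644) (tt N53418 (iv2 F153642)) (tt N19943 F329359) (tt N54535 (iv4 F157082)) (tt N54544 (iv5 F157087)) (tt N19941 F329360) (tt N14402 (iv7 D47453)))
theorem Q28921 : ∀ i, i < 28921 → P i := stepQ 28920 Q28920 (allL N28920 (tt N42578 F337135) (tt N54545 D102236) (tt N54546 D102237) (tt N14403 (iv3 D47455)) (tt N54547 D102238) (tt N49815 (iv5 F137322)) (tt N54548 D102239) (tt N53421 (iv7 F153649)))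
theorem Q28922 : ∀ i, i < 28922 → P i := stepQ 28921 Q28921 (allL N28921 (tt N54518 (iv1 F353347)) (tt N54520 (iv0 F343228)) (tt N53420 (iv2 F153648)) (tt N54548 (iv3 F157088)) (tt N49800 (iv4 F137270)) (tt N54549 D102242) (tt N14403 (iv6 D47456)) (tt N54550 D102243))
theorem Q28923 : ∀ i, i < 28923 → P i := stepQ 28922 Q28922 (allL N28922 (tt N54420 (iv1 F357220)) (tt N54551 D102245) (tt N54552 D102246) (tt N14404 (iv3 D47458)) (tt N54553 D102247) (tt N49784 (iv5 F137244)) (tt N54554 D102248) (tt N53419 (iv7 F153647)))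
theorem Q28924 : ∀ i, i < 28924 → P i := stepQ 28923 Q28923 (allL N28923 (tt N54536 (iv1 F381561)) (tt N54539 (iv0 F385781)) (tt N53422 (iv2 F153650)) (tt N54554 (iv3 F157089)) (tt N49827 (iv4 F137347)) (tt N54555 D102251) (tt N14404 (iv6 D47459)) (tt N54556 D102252))
theorem Q28925 : ∀ i, i < 28925 → P i := stepQ 28924 Q28924 (allL N28924 (tt N54557 D102253) (tt N14405 (iv0 D47460)) (tt N54558 D102254) (tt N54559 D102255) (tt N54560 D102256) (tt N54561 D102257) (tt N54562 D102258) (tt N54563 D102259))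
theorem Q28926 : ∀ i, i < 28926 → P i := stepQ 28925 Q28925 (allL N28925 (tt N14405 (iv1 D47461)) (tt N54557 F157092) (tt N54563 (iv2 F157094)) (tt N54564 D102260) (tt N54565 D102261) (tt N54566 D102262) (tt N54567 D102263) (tt N54558 F157093))
theorem Q28927 : ∀ i, i < 28927 → P i := stepQ 28926 Q28926 (allL N28926 (tt N54558 (iv1 F378398)) (tt N54563 (iv0 F378409)) (tt N14405 (iv2 D47462)) (tt N53425 (iv3 F153651)) (tt N54228 (iv4 F156258)) (tt N54568 D102266) (tt N54415 (iv6 F156823)) (tt N54557 (iv7 F157091)))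
theorem Q28928 : ∀ i, i < 28928 → P i := stepQ 28927 Q28927 (allL N28927 (tt N54569 D102267) (tt N54570 D102268) (tt N54568 (iv2 F157097)) (tt N14406 F74643) (tt N54571 D102269) (tt N14405 (iv5 D47463)) (tt N54572 D102270) (tt N46067 F311740))
theorem Q28929 : ∀ i, i < 28929 → P i := stepQ 28928 Q28928 (allL N28928 (tt N54563 (iv1 F378410)) (tt N54558 (iv0 F378397)) (tt N54557 F157090) (tt N14407 F74644) (tt N54230 (iv4 F156261)) (tt N46067 F311739) (tt N54573 D102271) (tt N14405 (iv7 D47464)))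
theorem Q28930 : ∀ i, i < 28930 → P i := stepQ 28929 Q28929 (allL N28929 (tt N54574 D102272) (tt N49728 (iv0 F357210)) (tt N49736 (iv2 F137117)) (tt N54572 (iv3 F157098)) (tt N49420 (iv4 F136280)) (tt N54420 (iv5 F156826)) (tt N14406 (iv6 D47465)) (tt N54575 D102274))
theorem Q28931 : ∀ i, i < 28931 → P i := stepQ 28930 Q28930 (allL N28930 (tt N54576 D102275) (tt N54577 D102276) (tt N49735 (iv2 F137115)) (tt N54573 (iv3 F157099)) (tt N14408 F74645) (tt N53852 (iv5 F309544)) (tt N14407 (iv6 D47466)) (tt N54422 (iv7 F156829)))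
theorem Q28932 : ∀ i, i < 28932 → P i := stepQ 28931 Q28931 (allL N28931 (tt N53395 (iv1 F153543)) (tt N14408 (iv0 D47467)) (tt N53426 (iv2 F346656)) (tt N54578 D102279) (tt N54579 D102280) (tt N54580 D102281) (tt N54581 D102282) (tt N53427 (iv7 F346664)))
theorem Q28933 : ∀ i, i < 28933 → P i := stepQ 28932 Q28932 (allL N28932 (tt N14408 (iv1 D47468)) (tt N53395 F153542) (tt N53427 (iv2 F346661)) (tt N19872 F346617) (tt N54582 D102285) (tt N54583 D102286) (tt N19870 (iv6 F346627)) (tt N53426 (iv7 F346660)))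
theorem Q28934 : ∀ i, i < 28934 → P i := stepQ 28933 Q28933 (allL N28933 (tt N54584 D102288) (tt N54585 D102289) (tt N52740 (iv2 F151049)) (tt N25869 F74646) (tt N54586 D102290) (tt N14408 (iv5 D47469)) (tt N14409 F74647) (tt N54423 (iv7 F156832)))
theorem Q28935 : ∀ i, i < 28935 → P i := stepQ 28934 Q28934 (allL N28934 (tt N49792 (iv1 F137256)) (tt N52737 F151040) (tt N52739 (iv2 F151044)) (tt N54587 D102291) (tt N14409 (iv4 D47470)) (tt N50037 (iv5 F290881)) (tt N54586 (iv6 F157103)) (tt N14417 F74648))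
theorem Q28936 : ∀ i, i < 28936 → P i := stepQ 28935 Q28935 (allL N28935 (tt N54588 D102300) (tt N54589 D102301) (tt N53862 (iv2 F289668)) (tt N14411 F74650) (tt N54590 D102302) (tt N14410 (iv5 D47474)) (tt N54591 D102303) (tt N50536 (iv7 F292395)))
theorem Q28937 : ∀ i, i < 28937 → P i := stepQ 28936 Q28936 (allL N28936 (tt N53880 (iv1 F357141)) (tt N53919 (iv0 F357142)) (tt N53863 (iv2 F289669)) (tt N14412 F74651) (tt N52273 (iv4 F148343)) (tt N54592 D102306) (tt N14410 (iv6 D47475)) (tt N50153 (iv7 F291783)))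
theorem Q28938 : ∀ i, i < 28938 → P i := stepQ 28937 Q28937 (allL N28937 (tt N14414 (iv1 F74654)) (tt N14411 (iv0 D47476)) (tt N27582 (iv2 F74656)) (tt N54593 D102307) (tt N54594 D102308) (tt N26114 F74652) (tt N54595 D102309) (tt N50047 F291341))
theorem Q28939 : ∀ i, i < 28939 → P i := stepQ 28938 Q28938 (allL N28938 (tt N14411 (iv1 D47477)) (tt N14414 F74657) (tt N50047 F291354) (tt N25844 (iv3 F74659)) (tt N54596 D102310) (tt N26201 (iv5 F74660)) (tt N54056 (iv6 F155853)) (tt N27582 F74658))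
theorem Q28940 : ∀ i, i < 28940 → P i := stepQ 28939 Q28939 (allL N28939 (tt N53009 (iv1 F151995)) (tt N54597 D102311) (tt N51496 (iv2 F292337)) (tt N54430 (iv3 F346077)) (tt N14411 (iv4 D47478)) (tt N27116 F291468) (tt N54425 (iv6 F314163)) (tt N50541 (iv7 F292344)))
theorem Q28941 : ∀ i, i < 28941 → P i := stepQ 28940 Q28940 (allL N28940 (tt N54598 D102315) (tt N54599 D102316) (tt N52733 (iv2 F151015)) (tt N54591 (iv3 F157119)) (tt N54425 (iv4 F314162)) (tt N54600 D102317) (tt N14411 (iv6 D47479)) (tt N54601 D102318))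
theorem Q28942 : ∀ i, i < 28942 → P i := stepQ 28941 Q28941 (allL N28941 (tt N25962 F74663) (tt N26225 (iv0 F74664)) (tt N26233 F74661) (tt N54592 (iv3 F157120)) (tt N50963 (iv4 F292655)) (tt N14412 (iv5 D47480)) (tt N54600 (iv6 F157138)) (tt N26232 F74662))
theorem Q28943 : ∀ i, i < 28943 → P i := stepQ 28942 Q28942 (allL N28942 (tt N54602 D102322) (tt N54603 D102323) (tt N53983 (iv2 F290186)) (tt N14414 F74669) (tt N54604 D102324) (tt N14413 (iv5 D47485)) (tt N54605 D102325) (tt N52732 (iv7 F151005)))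
theorem Q28944 : ∀ i, i < 28944 → P i := stepQ 28943 Q28943 (allL N28943 (tt N54597 (iv1 F157132)) (tt N53009 (iv0 F151994)) (tt N50541 (iv2 F292343)) (tt N54606 D102328) (tt N14414 (iv4 D47487)) (tt N51497 (iv5 F290936)) (tt N54607 D102330) (tt N51496 (iv7 F292339)))
theorem Q28945 : ∀ i, i < 28945 → P i := stepQ 28944 Q28944 (allL N28944 (tt N54608 D102331) (tt N54609 D102332) (tt N50539 (iv2 F292396)) (tt N54605 (iv3 F157143)) (tt N54607 (iv4 F157146)) (tt N50148 (iv5 F293739)) (tt N14414 (iv6 D47488)) (tt N54610 D102333))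
theorem Q28946 : ∀ i, i < 28946 → P i := stepQ 28945 Q28945 (allL N28945 (tt N53866 (iv1 F357248)) (tt N53255 (iv0 F289676)) (tt N53864 (iv2 F367277)) (tt N14415 (iv3 D47489)) (tt N54611 D102337) (tt N49680 (iv5 F137043)) (tt N54612 D102338) (tt N49679 F137041))
theorem Q28947 : ∀ i, i < 28947 → P i := stepQ 28946 Q28946 (allL N28946 (tt N54613 D102339) (tt N28386 F74671) (tt N52735 (iv2 F151034)) (tt N49692 (iv3 F347702)) (tt N14415 (iv4 D47490)) (tt N49676 (iv5 F347701)) (tt N49679 (iv6 F347704)) (tt N49694 (iv7 F137073)))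
theorem Q28948 : ∀ i, i < 28948 → P i := stepQ 28947 Q28947 (allL N28947 (tt N54614 D102343) (tt N54615 D102344) (tt N52736 (iv2 F151036)) (tt N54612 (iv3 F157147)) (tt N49679 (iv4 F347703)) (tt N53646 (iv5 F154229)) (tt N14415 (iv6 D47491)) (tt N54611 (iv7 F361675)))
theorem Q28949 : ∀ i, i < 28949 → P i := stepQ 28948 Q28948 (allL N28948 (tt N53228 (iv1 F346030)) (tt N53986 (iv0 F346062)) (tt N53984 (iv2 F356795)) (tt N14416 (iv3 D47492)) (tt N33173 F346028) (tt N49408 F136231) (tt N54616 D102350) (tt N52734 (iv7 F151033)))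
theorem Q28950 : ∀ i, i < 28950 → P i := stepQ 28949 Q28949 (allL N28949 (tt N28386 F74672) (tt N54613 F157150) (tt N49694 (iv2 F137072)) (tt N54617 D102351) (tt N14416 (iv4 D47493)) (tt N54618 D102352) (tt N54619 D102353) (tt N52735 (iv7 F151035)))
theorem Q28951 : ∀ i, i < 28951 → P i := stepQ 28950 Q28950 (allL N28950 (tt N54620 D102354) (tt N54621 D102355) (tt N49692 (iv2 F137070)) (tt N54616 (iv3 F157154)) (tt N54619 (iv4 F157156)) (tt N49410 (iv5 F136236)) (tt N14416 (iv6 D47494)) (tt N54622 D102356))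
theorem Q28952 : ∀ i, i < 28952 → P i := stepQ 28951 Q28951 (allL N28951 (tt N52739 (iv1 F151048)) (tt N14417 (iv0 D47495)) (tt N52737 F151038) (tt N54623 D102357) (tt N49793 F137261) (tt N50462 (iv5 F290684)) (tt N54624 D102359) (tt N49792 (iv7 F137262)))
theorem Q28953 : ∀ i, i < 28953 → P i := stepQ 28952 Q28952 (allL N28952 (tt N14417 (iv1 D47496)) (tt N52739 F151047) (tt N49792 (iv2 F137254)) (tt N54625 D102360) (tt N49428 F136331) (tt N54626 D102361) (tt N54627 D102362) (tt N52737 (iv7 F151039)))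
theorem Q28954 : ∀ i, i < 28954 → P i := stepQ 28953 Q28953 (allL N28953 (tt N54628 D102363) (tt N54629 D102364) (tt N54630 D102365) (tt N14417 (iv3 D47497)) (tt N25866 F74673) (tt N54631 D102366) (tt N54445 (iv6 F156919)) (tt N54587 (iv7 F157105)))
theorem Q28955 : ∀ i, i < 28955 → P i := stepQ 28954 Q28954 (allL N28954 (tt N26828 (iv1 F290702)) (tt N50040 F290674) (tt N50038 (iv2 F290877)) (tt N54631 (iv3 F157160)) (tt N27115 (iv4 F290743)) (tt N14417 (iv5 D47498)) (tt N54632 D102369) (tt N50037 (iv7 F290882)))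
theorem Q28956 : ∀ i, i < 28956 → P i := stepQ 28955 Q28955 (allL N28955 (tt N25850 (iv1 F74674)) (tt N14420 (iv0 D47499)) (tt N25849 F156219) (tt N54633 D102370) (tt N53465 F289630) (tt N54634 D102371) (tt N53465 (iv6 F289654)) (tt N25806 F289631))
theorem Q28957 : ∀ i, i < 28957 → P i := stepQ 28956 Q28956 (allL N28956 (tt N25849 (iv1 F74680)) (tt N25806 F289632) (tt N14420 (iv2 D47501)) (tt N25839 F74675) (tt N14432 F74676) (tt N54635 D102375) (tt N54636 D102376) (tt N25850 F74677))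
theorem Q28958 : ∀ i, i < 28958 → P i := stepQ 28957 Q28957 (allL N28957 (tt N54637 D102377) (tt N54638 D102378) (tt N54635 (iv2 F157177)) (tt N14421 F74684) (tt N54639 D102379) (tt N14420 (iv5 D47502)) (tt N49077 F337968) (tt N25851 F74685))
theorem Q28959 : ∀ i, i < 28959 → P i := stepQ 28958 Q28958 (allL N28958 (tt N54640 D102381) (tt N54641 D102382) (tt N54636 (iv2 F157182)) (tt N14422 F74686) (tt N14434 F74687) (tt N48587 (iv5 F133506)) (tt N14420 (iv6 D47503)) (tt N28961 (iv7 F74703)))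
theorem Q28960 : ∀ i, i < 28960 → P i := stepQ 28959 Q28959 (allL N28959 (tt N14421 (iv1 D47504)) (tt N25693 F74688) (tt N25844 (iv2 F74690)) (tt N54642 D102383) (tt N54643 D102384) (tt N48607 (iv5 F133555)) (tt N54644 D102385) (tt N25843 F74689))
theorem Q28961 : ∀ i, i < 28961 → P i := stepQ 28960 Q28960 (allL N28960 (tt N26052 F74700) (tt N26235 (iv0 F74701)) (tt N26240 F74698) (tt N29019 (iv3 F74822)) (tt N49149 (iv4 F135231)) (tt N14424 (iv5 D47508)) (tt N48902 F291297) (tt N26055 F74699))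
theorem Q28962 : ∀ i, i < 28962 → P i := stepQ 28961 Q28961 (allL N28961 (tt N54645 D102391) (tt N49015 F356412) (tt N54646 D102393) (tt N14425 (iv3 D47509)) (tt N14445 F74702) (tt N54647 D102394) (tt N26699 F295082) (tt N28958 F74703))
theorem Q28963 : ∀ i, i < 28963 → P i := stepQ 28962 Q28962 (allL N28962 (tt N25549 F74706) (tt N25518 F74707) (tt N25546 F74704) (tt N54647 (iv3 F157213)) (tt N54648 D102395) (tt N14425 (iv5 D47510)) (tt N54649 D102396) (tt N25547 F74705))
theorem Q28964 : ∀ i, i < 28964 → P i := stepQ 28963 Q28963 (allL N28963 (tt N50217 F139255) (tt N14429 (iv0 D47512)) (tt N50219 F153476) (tt N28301 F74712) (tt N50250 (iv4 F139332)) (tt N54650 D102397) (tt N53597 (iv6 F251756)) (tt N50218 F153474))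
theorem Q28965 : ∀ i, i < 28965 → P i := stepQ 28964 Q28964 (allL N28964 (tt N14429 (iv1 D47513)) (tt N50217 F139256) (tt N50218 (iv2 F153475)) (tt N53679 (iv3 F154402)) (tt N50270 (iv4 F139380)) (tt N54651 D102399) (tt N53788 (iv6 F161658)) (tt N50219 (iv7 F153477)))
theorem Q28966 : ∀ i, i < 28966 → P i := stepQ 28965 Q28965 (allL N28965 (tt N50219 (iv1 F139258)) (tt N50218 F139257) (tt N14429 (iv2 D47514)) (tt N53430 (iv3 F153663)) (tt N49251 (iv4 F135530)) (tt N54652 D102401) (tt N53489 (iv6 F153856)) (tt N50217 F139254))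
theorem Q28967 : ∀ i, i < 28967 → P i := stepQ 28966 Q28966 (allL N28966 (tt N54653 D102402) (tt N54654 D102403) (tt N54652 (iv2 F157329)) (tt N14430 F74713) (tt N54655 D102404) (tt N14429 (iv5 D47515)) (tt N54656 D102405) (tt N50220 (iv7 F139260)))
theorem Q28968 : ∀ i, i < 28968 → P i := stepQ 28967 Q28967 (allL N28967 (tt N28334 F74716) (tt N28331 F74717) (tt N28902 F74714) (tt N51811 (iv3 F352895)) (tt N14430 (iv4 D47516)) (tt N49447 (iv5 F136484)) (tt N52190 (iv6 F352890)) (tt N28903 F74715))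
theorem Q28969 : ∀ i, i < 28969 → P i := stepQ 28968 Q28968 (allL N28968 (tt N54657 D102408) (tt N54658 D102409) (tt N53432 (iv2 F153671)) (tt N54656 (iv3 F157331)) (tt N52190 (iv4 F352889)) (tt N53503 (iv5 F153873)) (tt N14430 (iv6 D47517)) (tt N54659 D102410))
theorem Q28970 : ∀ i, i < 28970 → P i := stepQ 28969 Q28969 (allL N28969 (tt N20159 (iv1 F327678)) (tt N14626 (iv0 F74720)) (tt N49136 (iv2 F157339)) (tt N14431 (iv3 D47519)) (tt N28893 F74719) (tt N39278 F327130) (tt N25876 F289784) (tt N25713 F289722))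
theorem Q28971 : ∀ i, i < 28971 → P i := stepQ 28970 Q28970 (allL N28970 (tt N25012 (iv1 F289737)) (tt N25011 (iv0 F289736)) (tt N25014 (iv2 F289738)) (tt N54660 D102416) (tt N14431 (iv4 D47520)) (tt N54661 D102417) (tt N28351 (iv6 F289774)) (tt N25000 F289724))
theorem Q28972 : ∀ i, i < 28972 → P i := stepQ 28971 Q28971 (allL N28971 (tt N53513 (iv1 F289741)) (tt N49798 (iv0 F343264)) (tt N53451 F157358) (tt N39278 F327131) (tt N54662 D102421) (tt N14431 (iv5 D47521)) (tt N39489 (iv6 F327689)) (tt N35251 F289725))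
theorem Q28973 : ∀ i, i < 28973 → P i := stepQ 28972 Q28972 (allL N28972 (tt N53455 (iv1 F153741)) (tt N53454 F153740) (tt N14433 F74726) (tt N53435 (iv3 F153681)) (tt N54663 D102438) (tt N14432 (iv5 D47528)) (tt N54664 D102439) (tt N53452 (iv7 F153734)))
theorem Q28974 : ∀ i, i < 28974 → P i := stepQ 28973 Q28973 (allL N28973 (tt N29005 (iv1 F74797)) (tt N29004 F74794) (tt N14434 F74727) (tt N29041 (iv3 F74857)) (tt N54636 (iv4 F157184)) (tt N54665 D102440) (tt N14432 (iv6 D47529)) (tt N29006 (iv7 F74795)))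
theorem Q28975 : ∀ i, i < 28975 → P i := stepQ 28974 Q28974 (allL N28974 (tt N53452 (iv1 F153736)) (tt N14433 (iv0 D47530)) (tt N53455 (iv2 F290003)) (tt N20134 F328969) (tt N54666 D102443) (tt N51125 (iv5 F295315)) (tt N54667 D102445) (tt N53454 (iv7 F290010)))
theorem Q28976 : ∀ i, i < 28976 → P i := stepQ 28975 Q28975 (allL N28975 (tt N14433 (iv1 D47531)) (tt N53452 F153735) (tt N53454 (iv2 F290009)) (tt N54668 D102447) (tt N54669 D102448) (tt N54670 D102449) (tt N54671 D102450) (tt N53455 (iv7 F290004)))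
theorem Q28977 : ∀ i, i < 28977 → P i := stepQ 28976 Q28976 (allL N28976 (tt N54672 D102451) (tt N54673 D102452) (tt N54663 (iv2 F157397)) (tt N54674 D102453) (tt N14433 (iv4 D47532)) (tt N54675 D102454) (tt N54676 D102455) (tt N53456 (iv7 F153742)))
theorem Q28978 : ∀ i, i < 28978 → P i := stepQ 28977 Q28977 (allL N28977 (tt N54677 D102456) (tt N54678 D102457) (tt N54664 (iv2 F157398)) (tt N14438 F74728) (tt N54676 (iv4 F157407)) (tt N54679 D102458) (tt N14433 (iv6 D47533)) (tt N54680 D102459))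
theorem Q28979 : ∀ i, i < 28979 → P i := stepQ 28978 Q28978 (allL N28978 (tt N29006 (iv1 F74796)) (tt N14434 (iv0 D47534)) (tt N29005 (iv2 F289887)) (tt N54681 D102461) (tt N28410 (iv4 F289859)) (tt N49773 (iv5 F335628)) (tt N28408 (iv6 F289860)) (tt N29004 F289886))
theorem Q28980 : ∀ i, i < 28980 → P i := stepQ 28979 Q28979 (allL N28979 (tt N14434 (iv1 D47535)) (tt N29006 F74798) (tt N29004 F289878) (tt N54682 D102466) (tt N50211 (iv4 F292664)) (tt N49774 (iv5 F335632)) (tt N27072 F294622) (tt N29005 (iv7 F289888)))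
theorem Q28981 : ∀ i, i < 28981 → P i := stepQ 28980 Q28980 (allL N28980 (tt N17668 F304454) (tt N54683 D102471) (tt N54665 (iv2 F157399)) (tt N14440 F74729) (tt N54684 D102472) (tt N14434 (iv5 D47536)) (tt N54679 (iv6 F157409)) (tt N29007 (iv7 F74800)))
theorem Q28982 : ∀ i, i < 28982 → P i := stepQ 28981 Q28981 (allL N28981 (tt N54650 (iv1 F342515)) (tt N54651 (iv0 F157222)) (tt N54685 D102474) (tt N14435 (iv3 D47537)) (tt N54686 D102475) (tt N28187 F74730) (tt N54687 D102476) (tt N53442 (iv7 F153704)))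
theorem Q28983 : ∀ i, i < 28983 → P i := stepQ 28982 Q28982 (allL N28982 (tt N28329 F74733) (tt N28323 F74734) (tt N28881 F74731) (tt N54688 D102477) (tt N14435 (iv4 D47538)) (tt N49686 (iv5 F137062)) (tt N54689 D102478) (tt N28882 F74732))
theorem Q28984 : ∀ i, i < 28984 → P i := stepQ 28983 Q28983 (allL N28983 (tt N54690 D102479) (tt N54691 D102480) (tt N53441 (iv2 F153701)) (tt N54687 (iv3 F157419)) (tt N54689 (iv4 F157423)) (tt N28188 F74735) (tt N14435 (iv6 D47539)) (tt N54692 D102481))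
theorem Q28985 : ∀ i, i < 28985 → P i := stepQ 28984 Q28984 (allL N28984 (tt N53506 (iv1 F159759)) (tt N20156 F328974) (tt N54693 D102484) (tt N14436 (iv3 D47540)) (tt N54694 D102485) (tt N54695 D102486) (tt N54696 D102487) (tt N53440 (iv7 F153700)))
theorem Q28986 : ∀ i, i < 28986 → P i := stepQ 28985 Q28985 (allL N28985 (tt N28323 F74738) (tt N28329 F74739) (tt N28882 F74736) (tt N54697 D102488) (tt N14436 (iv4 D47541)) (tt N49687 (iv5 F137066)) (tt N54698 D102489) (tt N28881 F74737))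
theorem Q28987 : ∀ i, i < 28987 → P i := stepQ 28986 Q28986 (allL N28986 (tt N26054 F74743) (tt N26051 F74742) (tt N26258 F74740) (tt N54695 (iv3 F157426)) (tt N46878 (iv4 F127434)) (tt N14436 (iv5 D47542)) (tt N26279 (iv6 F74744)) (tt N26076 F74741))
theorem Q28988 : ∀ i, i < 28988 → P i := stepQ 28987 Q28987 (allL N28987 (tt N54699 D102490) (tt N54700 D102491) (tt N53443 (iv2 F153705)) (tt N54696 (iv3 F157432)) (tt N54698 (iv4 F157435)) (tt N53195 (iv5 F152930)) (tt N14436 (iv6 D47543)) (tt N54701 D102492))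
theorem Q28989 : ∀ i, i < 28989 → P i := stepQ 28988 Q28988 (allL N28988 (tt N54702 D102493) (tt N54703 D102494) (tt N54704 D102495) (tt N14437 (iv3 D47544)) (tt N54674 (iv4 F157406)) (tt N42577 F340926) (tt N54705 D102496) (tt N53458 (iv7 F153746)))
theorem Q28990 : ∀ i, i < 28990 → P i := stepQ 28989 Q28989 (allL N28989 (tt N54484 (iv1 F349493)) (tt N54486 (iv0 F344564)) (tt N53445 (iv2 F153708)) (tt N54705 (iv3 F157436)) (tt N14438 F74745) (tt N31941 (iv5 F344568)) (tt N14437 (iv6 D47545)) (tt N54706 D102500))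
theorem Q28991 : ∀ i, i < 28991 → P i := stepQ 28990 Q28990 (allL N28990 (tt N53448 (iv1 F153715)) (tt N14438 (iv0 D47546)) (tt N53446 (iv2 F344576)) (tt N54707 D102502) (tt N54708 D102503) (tt N54709 D102504) (tt N54710 D102505) (tt N53447 (iv7 F344559)))
theorem Q28992 : ∀ i, i < 28992 → P i := stepQ 28991 Q28991 (allL N28991 (tt N14438 (iv1 D47547)) (tt N53448 F153714) (tt N53447 (iv2 F344556)) (tt N54711 D102507) (tt N31864 (iv4 F326378)) (tt N54712 D102509) (tt N54713 D102510) (tt N53446 (iv7 F344578)))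
theorem Q28993 : ∀ i, i < 28993 → P i := stepQ 28992 Q28992 (allL N28992 (tt N54714 D102511) (tt N54715 D102512) (tt N29043 (iv2 F74860)) (tt N54679 (iv3 F157408)) (tt N54716 D102513) (tt N14438 (iv5 D47548)) (tt N14440 F74746) (tt N54717 D102514))
theorem Q28994 : ∀ i, i < 28994 → P i := stepQ 28993 Q28993 (allL N28993 (tt N53447 (iv1 F153710)) (tt N53446 F153713) (tt N53448 (iv2 F153711)) (tt N54680 (iv3 F157410)) (tt N54706 (iv4 F157437)) (tt N54717 (iv5 F157442)) (tt N53463 (iv6 F153753)) (tt N14438 (iv7 D47549)))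
theorem Q28995 : ∀ i, i < 28995 → P i := stepQ 28994 Q28994 (allL N28994 (tt N50665 F140607) (tt N52291 (iv0 F293556)) (tt N52290 (iv2 F293550)) (tt N14439 (iv3 D47550)) (tt N29420 F76107) (tt N41867 F346304) (tt N26832 F293095) (tt N29002 (iv7 F74789)))
theorem Q28996 : ∀ i, i < 28996 → P i := stepQ 28995 Q28995 (allL N28995 (tt N14440 (iv1 D47551)) (tt N28033 F74747) (tt N26247 (iv2 F74750)) (tt N54718 D102517) (tt N49718 (iv4 F137098)) (tt N26047 F74749) (tt N54719 D102518) (tt N26063 F74748))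
theorem Q28997 : ∀ i, i < 28997 → P i := stepQ 28996 Q28996 (allL N28996 (tt N26043 F74754) (tt N26223 F74755) (tt N26220 F74751) (tt N54720 D102519) (tt N14440 (iv4 D47552)) (tt N28348 F74753) (tt N54716 (iv6 F157441)) (tt N26219 F74752))
theorem Q28998 : ∀ i, i < 28998 → P i := stepQ 28997 Q28997 (allL N28997 (tt N28299 F161652) (tt N54721 D102521) (tt N51677 (iv2 F291547)) (tt N14441 (iv3 D47553)) (tt N28997 F74756) (tt N54722 D102523) (tt N26408 F294297) (tt N28546 F74757))
theorem Q28999 : ∀ i, i < 28999 → P i := stepQ 28998 Q28998 (allL N28998 (tt N26038 F74760) (tt N26041 F74761) (tt N26198 F74758) (tt N54722 (iv3 F157458)) (tt N54472 (iv4 F156971)) (tt N14441 (iv5 D47554)) (tt N50599 (iv6 F294960)) (tt N26197 F74759))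
theorem Q29000 : ∀ i, i < 29000 → P i := stepQ 28999 Q28999 (allL N28999 (tt N26041 F74775) (tt N26038 F74776) (tt N26197 F74772) (tt N26738 F74773) (tt N54466 (iv4 F156965)) (tt N14442 (iv5 D47556)) (tt N54723 D102526) (tt N26198 F74774))
theorem Q29001 : ∀ i, i < 29001 → P i := stepQ 29000 Q29000 (allL N29000 (tt N54724 D102527) (tt N54725 D102528) (tt N54726 D102529) (tt N14443 (iv3 D47557)) (tt N29075 F291614) (tt N54727 D102530) (tt N26409 F291615) (tt N28530 F74777))
theorem Q29002 : ∀ i, i < 29002 → P i := stepQ 29001 Q29001 (allL N29001 (tt N26049 F74780) (tt N26053 F74781) (tt N26251 F74778) (tt N54727 (iv3 F157477)) (tt N49687 (iv4 F137067)) (tt N14443 (iv5 D47558)) (tt N54728 D102532) (tt N26250 F74779))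
theorem Q29003 : ∀ i, i < 29003 → P i := stepQ 29002 Q29002 (allL N29002 (tt N27663 F293555) (tt N54729 D102534) (tt N54730 D102535) (tt N14444 (iv3 D47560)) (tt N29416 (iv4 F76072)) (tt N54731 D102536) (tt N28226 F74788) (tt N28994 F74789))
theorem Q29004 : ∀ i, i < 29004 → P i := stepQ 29003 Q29003 (allL N29003 (tt N26053 F74792) (tt N26049 (iv0 F74793)) (tt N26250 F74790) (tt N54731 (iv3 F157498)) (tt N49686 (iv4 F137063)) (tt N14444 (iv5 D47561)) (tt N54732 D102537) (tt N26251 F74791))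
theorem Q29005 : ∀ i, i < 29005 → P i := stepQ 29004 Q29004 (allL N29004 (tt N28973 (iv1 F74794)) (tt N14445 (iv0 D47562)) (tt N28979 (iv2 F289878)) (tt N51681 (iv3 F293409)) (tt N53533 (iv4 F290024)) (tt N54733 D102541) (tt N26411 F294273) (tt N28978 (iv7 F289886)))
theorem Q29006 : ∀ i, i < 29006 → P i := stepQ 29005 Q29005 (allL N29005 (tt N14445 (iv1 D47563)) (tt N28973 F74797) (tt N28978 F289887) (tt N54734 D102544) (tt N53517 (iv4 F289890)) (tt N54735 D102546) (tt N28218 (iv6 F289893)) (tt N28979 F289888))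
theorem Q29007 : ∀ i, i < 29007 → P i := stepQ 29006 Q29006 (allL N29006 (tt N28979 (iv1 F74798)) (tt N28978 F74796) (tt N14445 (iv2 D47564)) (tt N53449 (iv3 F153721)) (tt N54646 (iv4 F157208)) (tt N34885 F306485) (tt N54736 D102549) (tt N28973 F74795))
theorem Q29008 : ∀ i, i < 29008 → P i := stepQ 29007 Q29007 (allL N29007 (tt N34886 (iv1 F304456)) (tt N34485 F304012) (tt N34885 F306480) (tt N14446 F74799) (tt N34867 (iv4 F356483)) (tt N14445 (iv5 D47565)) (tt N37656 F327942) (tt N28980 F74800))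
theorem Q29009 : ∀ i, i < 29009 → P i := stepQ 29008 Q29008 (allL N29008 (tt N28406 F289828) (tt N50059 (iv0 F294268)) (tt N54736 (iv2 F157513)) (tt N14447 F74801) (tt N26699 (iv4 F294493)) (tt N37657 F326766) (tt N14445 (iv6 D47566)) (tt N28354 F74802))
theorem Q29010 : ∀ i, i < 29010 → P i := stepQ 29009 Q29009 (allL N29009 (tt N54737 D102556) (tt N54738 D102557) (tt N52868 (iv2 F151741)) (tt N37656 F327937) (tt N49729 (iv4 F137108)) (tt N37655 F327938) (tt N14446 (iv6 D47567)) (tt N38556 (iv7 F328332)))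
theorem Q29011 : ∀ i, i < 29011 → P i := stepQ 29010 Q29010 (allL N29010 (tt N14457 F74806) (tt N14456 (iv0 F74809)) (tt N14458 F74803) (tt N27955 F74804) (tt N26622 F74807) (tt N14449 (iv5 D47568)) (tt N27202 F74805) (tt N14449 (iv7 F74810)))
theorem Q29012 : ∀ i, i < 29012 → P i := stepQ 29011 Q29011 (allL N29011 (tt N14450 (iv1 D47570)) (tt N50884 F142890) (tt N50883 F156148) (tt N50909 F153408) (tt N53353 (iv4 F153404)) (tt N54739 D102562) (tt N50909 (iv6 F290242)) (tt N50865 (iv7 F290152)))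
theorem Q29013 : ∀ i, i < 29013 → P i := stepQ 29012 Q29012 (allL N29012 (tt N50865 (iv1 F290151)) (tt N50883 F142883) (tt N14450 (iv2 D47571)) (tt N50888 (iv3 F142910)) (tt N14460 F74811) (tt N54740 D102564) (tt N54741 D102565) (tt N50884 (iv7 F142888)))
theorem Q29014 : ∀ i, i < 29014 → P i := stepQ 29013 Q29013 (allL N29013 (tt N54742 D102566) (tt N54743 D102567) (tt N54740 (iv2 F157527)) (tt N14451 F74812) (tt N54744 D102568) (tt N14450 (iv5 D47572)) (tt N54745 D102569) (tt N50885 (iv7 F142892)))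
theorem Q29015 : ∀ i, i < 29015 → P i := stepQ 29014 Q29014 (allL N29014 (tt N54746 D102570) (tt N54747 D102571) (tt N54741 (iv2 F157528)) (tt N14452 F74813) (tt N14462 F74814) (tt N51410 (iv5 F144844)) (tt N14450 (iv6 D47573)) (tt N51421 (iv7 F144868)))
theorem Q29016 : ∀ i, i < 29016 → P i := stepQ 29015 Q29015 (allL N29015 (tt N26516 (iv1 F74816)) (tt N14451 (iv0 D47574)) (tt N50886 F142897) (tt N54748 D102572) (tt N49241 (iv4 F135469)) (tt N26998 F74815) (tt N54749 D102573) (tt N27274 (iv7 F74817)))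
theorem Q29017 : ∀ i, i < 29017 → P i := stepQ 29016 Q29016 (allL N29016 (tt N14451 (iv1 D47575)) (tt N26516 F74818) (tt N27274 (iv2 F74820)) (tt N54750 D102574) (tt N49240 (iv4 F135468)) (tt N26294 F290841) (tt N54751 D102575) (tt N50886 (iv7 F142894)))
theorem Q29018 : ∀ i, i < 29018 → P i := stepQ 29017 Q29017 (allL N29017 (tt N37139 (iv1 F321691)) (tt N37138 (iv0 F321692)) (tt N37141 F319806) (tt N54752 D102576) (tt N14451 (iv4 D47576)) (tt N47509 F319748) (tt N54753 D102577) (tt N37135 F319807))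
theorem Q29019 : ∀ i, i < 29019 → P i := stepQ 29018 Q29018 (allL N29018 (tt N54754 D102578) (tt N32456 (iv0 F82934)) (tt N50889 (iv2 F142925)) (tt N54745 (iv3 F157530)) (tt N54753 (iv4 F157536)) (tt N51412 (iv5 F144850)) (tt N14451 (iv6 D47577)) (tt N54755 D102579))
theorem Q29020 : ∀ i, i < 29020 → P i := stepQ 29019 Q29019 (allL N29019 (tt N26263 F74825) (tt N26045 (iv0 F74826)) (tt N26269 F74821) (tt N28960 F74822) (tt N48624 (iv4 F133605)) (tt N14453 (iv5 D47578)) (tt N26271 F74823) (tt N26268 F74824))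
theorem Q29021 : ∀ i, i < 29021 → P i := stepQ 29020 Q29020 (allL N29020 (tt N54756 D102580) (tt N54757 D102581) (tt N54758 D102582) (tt N14455 (iv3 D47579)) (tt N14468 F74827) (tt N44007 F333301) (tt N26881 F74828) (tt N53428 (iv7 F153657)))
theorem Q29022 : ∀ i, i < 29022 → P i := stepQ 29021 Q29021 (allL N29021 (tt N49826 (iv1 F139329)) (tt N53682 F154405) (tt N53434 (iv2 F153678)) (tt N52451 (iv3 F292403)) (tt N54759 D102584) (tt N14459 (iv5 D47582)) (tt N54760 D102585) (tt N50246 (iv7 F139328)))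
theorem Q29023 : ∀ i, i < 29023 → P i := stepQ 29022 Q29022 (allL N29022 (tt N53437 (iv1 F153692)) (tt N53436 F153689) (tt N14461 F74840) (tt N53452 (iv3 F153733)) (tt N54761 D102586) (tt N14460 (iv5 D47583)) (tt N54762 D102587) (tt N53435 (iv7 F153682)))
theorem Q29024 : ∀ i, i < 29024 → P i := stepQ 29023 Q29023 (allL N29023 (tt N27332 F293611) (tt N52302 F293612) (tt N14462 F74841) (tt N53453 (iv3 F153738)) (tt N54741 (iv4 F157529)) (tt N54763 D102589) (tt N14460 (iv6 D47584)) (tt N52301 F293613))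
theorem Q29025 : ∀ i, i < 29025 → P i := stepQ 29024 Q29024 (allL N29024 (tt N53435 (iv1 F153687)) (tt N14461 (iv0 D47585)) (tt N53437 F153694) (tt N47068 F329091) (tt N54764 D102592) (tt N54765 D102593) (tt N54766 D102594) (tt N53436 F153691))
theorem Q29026 : ∀ i, i < 29026 → P i := stepQ 29025 Q29025 (allL N29025 (tt N14461 (iv1 D47586)) (tt N53435 F153684) (tt N53436 F153690) (tt N48731 F153685) (tt N54767 D102595) (tt N28165 F153686) (tt N54768 D102596) (tt N53437 (iv7 F153693)))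
theorem Q29027 : ∀ i, i < 29027 → P i := stepQ 29026 Q29026 (allL N29026 (tt N54769 D102597) (tt N54770 D102598) (tt N54761 (iv2 F157546)) (tt N54771 D102599) (tt N14461 (iv4 D47587)) (tt N54772 D102600) (tt N40525 F333136) (tt N53438 (iv7 F153697)))
theorem Q29028 : ∀ i, i < 29028 → P i := stepQ 29027 Q29027 (allL N29027 (tt N54773 D102602) (tt N54774 D102603) (tt N54762 (iv2 F157547)) (tt N14464 F74842) (tt N40525 (iv4 F333125)) (tt N54775 D102604) (tt N14461 (iv6 D47588)) (tt N54776 D102605))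
theorem Q29029 : ∀ i, i < 29029 → P i := stepQ 29028 Q29028 (allL N29028 (tt N52301 F293614) (tt N14462 (iv0 D47589)) (tt N27332 F293615) (tt N52306 F293616) (tt N49850 F293617) (tt N49502 F157558) (tt N50512 (iv6 F290946)) (tt N52302 F293618))
theorem Q29030 : ∀ i, i < 29030 → P i := stepQ 29029 Q29029 (allL N29029 (tt N54777 D102609) (tt N48789 (iv0 F135033)) (tt N54763 (iv2 F157685)) (tt N14466 F74846) (tt N54778 D102610) (tt N14462 (iv5 D47591)) (tt N54775 (iv6 F157703)) (tt N54779 D102611))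
theorem Q29031 : ∀ i, i < 29031 → P i := stepQ 29030 Q29030 (allL N29030 (tt N52302 (iv1 F293580)) (tt N27332 F293527) (tt N52301 (iv2 F293576)) (tt N14467 F74847) (tt N51421 (iv4 F144867)) (tt N54779 (iv5 F157822)) (tt N28350 F74848) (tt N14462 (iv7 D47592)))
theorem Q29032 : ∀ i, i < 29032 → P i := stepQ 29031 Q29031 (allL N29031 (tt N54780 D102612) (tt N54781 D102613) (tt N54782 D102614) (tt N14463 (iv3 D47593)) (tt N54771 (iv4 F157700)) (tt N49728 (iv5 F137107)) (tt N54783 D102615) (tt N53444 (iv7 F153707)))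
theorem Q29033 : ∀ i, i < 29033 → P i := stepQ 29032 Q29032 (allL N29032 (tt N39669 (iv1 F333129)) (tt N39671 (iv0 F333130)) (tt N53459 (iv2 F153747)) (tt N54783 (iv3 F157825)) (tt N14464 F74849) (tt N54784 D102618) (tt N14463 (iv6 D47594)) (tt N54785 D102619))
theorem Q29034 : ∀ i, i < 29034 → P i := stepQ 29033 Q29033 (allL N29033 (tt N53463 (iv1 F153756)) (tt N14464 (iv0 D47595)) (tt N53460 (iv2 F333105)) (tt N20151 (iv3 F333096)) (tt N54786 D102622) (tt N54787 D102623) (tt N54788 D102624) (tt N53461 (iv7 F333108)))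
theorem Q29035 : ∀ i, i < 29035 → P i := stepQ 29034 Q29034 (allL N29034 (tt N14464 (iv1 D47596)) (tt N53463 F153755) (tt N53461 (iv2 F333107)) (tt N54789 D102626) (tt N54790 D102627) (tt N52974 (iv5 F151936)) (tt N54791 D102628) (tt N53460 (iv7 F333106)))
theorem Q29036 : ∀ i, i < 29036 → P i := stepQ 29035 Q29035 (allL N29035 (tt N54792 D102629) (tt N54793 D102630) (tt N53462 (iv2 F153750)) (tt N54775 (iv3 F157702)) (tt N54794 D102631) (tt N14464 (iv5 D47597)) (tt N14466 F74850) (tt N54795 D102632))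
theorem Q29037 : ∀ i, i < 29037 → P i := stepQ 29036 Q29036 (allL N29036 (tt N53461 (iv1 F153749)) (tt N53460 F153754) (tt N53463 (iv2 F153752)) (tt N54776 (iv3 F157704)) (tt N54785 (iv4 F157826)) (tt N54795 (iv5 F157832)) (tt N53448 (iv6 F153712)) (tt N14464 (iv7 D47598)))
theorem Q29038 : ∀ i, i < 29038 → P i := stepQ 29037 Q29037 (allL N29037 (tt N27580 F74851) (tt N28123 F74852) (tt N52155 F147813) (tt N54796 D102635) (tt N14466 (iv4 D47600)) (tt N52155 (iv5 F147810)) (tt N54794 (iv6 F157831)) (tt N52156 (iv7 F147815)))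
theorem Q29039 : ∀ i, i < 29039 → P i := stepQ 29038 Q29038 (allL N29038 (tt N26103 (iv1 F74855)) (tt N26106 F74856) (tt N28097 F74853) (tt N54779 (iv3 F157821)) (tt N52156 (iv4 F147816)) (tt N14467 F74854) (tt N54797 D102636) (tt N14466 (iv7 D47601)))
theorem Q29040 : ∀ i, i < 29040 → P i := stepQ 29039 Q29039 (allL N29039 (tt N53449 (iv1 F153723)) (tt N14468 (iv0 D47602)) (tt N28506 (iv2 F75839)) (tt N54798 D102637) (tt N54799 D102638) (tt N54800 D102639) (tt N28489 F75840) (tt N50796 (iv7 F293393)))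
theorem Q29041 : ∀ i, i < 29041 → P i := stepQ 29040 Q29040 (allL N29040 (tt N14468 (iv1 D47603)) (tt N53449 F153724) (tt N50796 (iv2 F293390)) (tt N27661 F291566) (tt N29057 F291567) (tt N54801 D102641) (tt N26670 F292359) (tt N28506 F75838))
theorem Q29042 : ∀ i, i < 29042 → P i := stepQ 29041 Q29041 (allL N29041 (tt N28506 (iv1 F153720)) (tt N50796 (iv0 F293388)) (tt N14468 (iv2 D47604)) (tt N28973 F74857) (tt N54758 (iv4 F157538)) (tt N40967 F316954) (tt N28344 F74858) (tt N53449 (iv7 F153722)))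
theorem Q29043 : ∀ i, i < 29043 → P i := stepQ 29042 Q29042 (allL N29042 (tt N49487 F136668) (tt N49809 F137311) (tt N40967 F316935) (tt N14469 F74859) (tt N40941 F316936) (tt N14468 (iv5 D47605)) (tt N40938 (iv6 F319254)) (tt N43926 (iv7 F307549)))
theorem Q29044 : ∀ i, i < 29044 → P i := stepQ 29043 Q29043 (allL N29043 (tt N54802 D102644) (tt N54803 D102645) (tt N28992 F74860) (tt N40938 F321294) (tt N49730 (iv4 F137110)) (tt N28349 F74861) (tt N14469 (iv6 D47606)) (tt N40935 (iv7 F322928)))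
theorem Q29045 : ∀ i, i < 29045 → P i := stepQ 29044 Q29044 (allL N29044 (tt N54804 D102662) (tt N54805 D102663) (tt N47843 F289796) (tt N14473 F74873) (tt N54806 D102664) (tt N14472 (iv5 D47615)) (tt N54807 D102665) (tt N47845 F289797))
theorem Q29046 : ∀ i, i < 29046 → P i := stepQ 29045 Q29045 (allL N29045 (tt N53517 (iv1 F289889)) (tt N53533 (iv0 F290023)) (tt N47844 F289798) (tt N14474 F74874) (tt N50659 (iv4 F140522)) (tt N54808 D102666) (tt N14472 (iv6 D47616)) (tt N26500 (iv7 F291672)))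
theorem Q29047 : ∀ i, i < 29047 → P i := stepQ 29046 Q29046 (allL N29046 (tt N14476 (iv1 F74876)) (tt N14473 (iv0 D47617)) (tt N28106 (iv2 F74877)) (tt N54809 D102667) (tt N54810 D102668) (tt N26107 F74875) (tt N54811 D102669) (tt N50048 F291260))
theorem Q29048 : ∀ i, i < 29048 → P i := stepQ 29047 Q29047 (allL N29047 (tt N14473 (iv1 D47618)) (tt N14476 F74878) (tt N50048 F291287) (tt N54812 D102670) (tt N54813 D102671) (tt N26254 (iv5 F74880)) (tt N53799 (iv6 F154643)) (tt N28106 F74879))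
theorem Q29049 : ∀ i, i < 29049 → P i := stepQ 29048 Q29048 (allL N29048 (tt N54594 (iv1 F157126)) (tt N54596 (iv0 F157130)) (tt N50039 F290980) (tt N54814 D102672) (tt N14473 (iv4 D47619)) (tt N26828 F290981) (tt N54815 D102673) (tt N50049 F290982))
theorem Q29050 : ∀ i, i < 29050 → P i := stepQ 29049 Q29049 (allL N29049 (tt N54816 D102674) (tt N54817 D102675) (tt N52743 (iv2 F151079)) (tt N54807 (iv3 F157901)) (tt N54815 (iv4 F157919)) (tt N54818 D102676) (tt N14473 (iv6 D47620)) (tt N54819 D102677))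
theorem Q29051 : ∀ i, i < 29051 → P i := stepQ 29050 Q29050 (allL N29050 (tt N26060 F74884) (tt N28049 F74883) (tt N28047 F74881) (tt N54808 (iv3 F157902)) (tt N50920 (iv4 F292182)) (tt N14474 (iv5 D47621)) (tt N54818 (iv6 F157921)) (tt N26501 (iv7 F291675)))
theorem Q29052 : ∀ i, i < 29052 → P i := stepQ 29051 Q29051 (allL N29051 (tt N54820 D102698) (tt N54821 D102699) (tt N53684 (iv2 F154406)) (tt N14476 F74917) (tt N54822 D102700) (tt N14475 (iv5 D47635)) (tt N54823 D102701) (tt N52742 (iv7 F151067)))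
theorem Q29053 : ∀ i, i < 29053 → P i := stepQ 29052 Q29052 (allL N29052 (tt N54596 (iv1 F157131)) (tt N54594 (iv0 F157125)) (tt N50049 (iv2 F290884)) (tt N54824 D102703) (tt N14476 (iv4 D47637)) (tt N50040 F290676) (tt N54825 D102704) (tt N50039 (iv7 F290886)))
theorem Q29054 : ∀ i, i < 29054 → P i := stepQ 29053 Q29053 (allL N29053 (tt N54826 D102705) (tt N54827 D102706) (tt N50050 (iv2 F292179)) (tt N54823 (iv3 F157959)) (tt N54825 (iv4 F157965)) (tt N26838 (iv5 F292206)) (tt N14476 (iv6 D47638)) (tt N54828 D102708))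
theorem Q29055 : ∀ i, i < 29055 → P i := stepQ 29054 Q29054 (allL N29054 (tt N14635 F74928) (tt N14623 (iv0 F74930)) (tt N14633 F74926) (tt N54829 D102717) (tt N14477 (iv4 D47644)) (tt N49901 (iv5 F290599)) (tt N25919 F293037) (tt N14532 (iv7 F290601)))
theorem Q29056 : ∀ i, i < 29056 → P i := stepQ 29055 Q29055 (allL N29055 (tt N32608 F290535) (tt N32605 (iv0 F290537)) (tt N54830 D102725) (tt N14478 (iv3 D47647)) (tt N54829 (iv4 F157980)) (tt N54831 D102726) (tt N27175 (iv6 F290553)) (tt N49802 (iv7 F137276)))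
theorem Q29057 : ∀ i, i < 29057 → P i := stepQ 29056 Q29056 (allL N29056 (tt N26394 (iv1 F290589)) (tt N26396 (iv0 F290590)) (tt N50463 (iv2 F290586)) (tt N54831 (iv3 F157992)) (tt N54626 (iv4 F157158)) (tt N14478 (iv5 D47648)) (tt N54832 D102730) (tt N49803 (iv7 F137278)))
theorem Q29058 : ∀ i, i < 29058 → P i := stepQ 29057 Q29057 (allL N29057 (tt N50249 (iv1 F291704)) (tt N54833 D102742) (tt N54834 D102743) (tt N14479 (iv3 D47654)) (tt N29040 (iv4 F291567)) (tt N54835 D102744) (tt N49275 (iv6 F291715)) (tt N50117 F291093))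
theorem Q29059 : ∀ i, i < 29059 → P i := stepQ 29058 Q29058 (allL N29058 (tt N26403 (iv1 F291320)) (tt N26312 (iv0 F291316)) (tt N49879 F291094) (tt N54835 (iv3 F158008)) (tt N54618 (iv4 F157155)) (tt N14479 (iv5 D47655)) (tt N51371 (iv6 F291716)) (tt N49878 F291095))
theorem Q29060 : ∀ i, i < 29060 → P i := stepQ 29059 Q29059 (allL N29059 (tt N50040 F290675) (tt N26828 (iv0 F290701)) (tt N50037 (iv2 F290880)) (tt N54836 D102775) (tt N14480 (iv4 D47665)) (tt N52739 (iv5 F151046)) (tt N54837 D102776) (tt N50038 (iv7 F290879)))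
theorem Q29061 : ∀ i, i < 29061 → P i := stepQ 29060 Q29060 (allL N29060 (tt N54838 D102777) (tt N54839 D102778) (tt N51493 (iv2 F291663)) (tt N49247 (iv3 F291747)) (tt N54837 (iv4 F158028)) (tt N14499 F74939) (tt N14480 (iv6 D47666)) (tt N54840 D102779))
theorem Q29062 : ∀ i, i < 29062 → P i := stepQ 29061 Q29061 (allL N29061 (tt N22915 F74940) (tt N22918 F74941) (tt N45493 (iv2 F116026)) (tt N54841 D102780) (tt N14481 (iv4 D47667)) (tt N46717 (iv5 F126260)) (tt N47877 (iv6 F129979)) (tt N45626 (iv7 F119131)))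
theorem Q29063 : ∀ i, i < 29063 → P i := stepQ 29062 Q29062 (allL N29062 (tt N31065 F326125) (tt N54842 D102781) (tt N25420 F74942) (tt N14483 F74943) (tt N47877 F129978) (tt N25417 F74944) (tt N14481 (iv6 D47668)) (tt N45657 (iv7 F299328)))
theorem Q29064 : ∀ i, i < 29064 → P i := stepQ 29063 Q29063 (allL N29063 (tt N54843 D102783) (tt N54844 D102784) (tt N54845 D102785) (tt N14482 (iv3 D47669)) (tt N54841 (iv4 F158030)) (tt N47663 (iv5 F129391)) (tt N54846 D102786) (tt N45965 (iv7 F119999)))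
theorem Q29065 : ∀ i, i < 29065 → P i := stepQ 29064 Q29064 (allL N29064 (tt N46938 F127821) (tt N35323 (iv0 F118514)) (tt N26006 F74945) (tt N54846 (iv3 F158042)) (tt N14483 F74946) (tt N54847 D102787) (tt N14482 (iv6 D47670)) (tt N45660 (iv7 F299332)))
theorem Q29066 : ∀ i, i < 29066 → P i := stepQ 29065 Q29065 (allL N29065 (tt N26007 (iv1 F74951)) (tt N14483 (iv0 D47671)) (tt N26004 (iv2 F118983)) (tt N46143 (iv3 F122168)) (tt N24684 (iv4 F127829)) (tt N28015 (iv5 F118984)) (tt N45793 F297216) (tt N26005 F118982))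
theorem Q29067 : ∀ i, i < 29067 → P i := stepQ 29066 Q29066 (allL N29066 (tt N54848 D102813) (tt N54849 D102814) (tt N54850 D102815) (tt N14484 (iv3 D47684)) (tt N45822 (iv4 F119726)) (tt N47665 (iv5 F129393)) (tt N39593 F326126) (tt N26008 F74968))
theorem Q29068 : ∀ i, i < 29068 → P i := stepQ 29067 Q29067 (allL N29067 (tt N31836 (iv1 F324018)) (tt N31838 (iv0 F325197)) (tt N45966 (iv2 F120000)) (tt N39593 (iv3 F325199)) (tt N14485 F74969) (tt N54851 D102818) (tt N14484 (iv6 D47685)) (tt N54852 D102819))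
theorem Q29069 : ∀ i, i < 29069 → P i := stepQ 29068 Q29068 (allL N29068 (tt N45661 F297225) (tt N14485 (iv0 D47686)) (tt N49842 F137430) (tt N16058 F320729) (tt N31087 (iv4 F322492)) (tt N31310 (iv5 F322493)) (tt N25984 F74970) (tt N31352 (iv7 F321418)))
theorem Q29070 : ∀ i, i < 29070 → P i := stepQ 29069 Q29069 (allL N29069 (tt N14485 (iv1 D47687)) (tt N45661 F297228) (tt N31352 F323033) (tt N46242 F297230) (tt N31086 (iv4 F324439)) (tt N45793 F297231) (tt N34740 F297232) (tt N49842 F137431))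
theorem Q29071 : ∀ i, i < 29071 → P i := stepQ 29070 Q29070 (allL N29070 (tt N31352 F323032) (tt N49842 F137433) (tt N45661 F297234) (tt N45734 F119526) (tt N54852 (iv4 F158082)) (tt N45455 F297235) (tt N26007 F74971) (tt N14485 (iv7 D47688)))
theorem Q29072 : ∀ i, i < 29072 → P i := stepQ 29071 Q29071 (allL N29071 (tt N49297 (iv1 F135820)) (tt N14487 (iv0 D47702)) (tt N49296 (iv2 F138398)) (tt N54853 D102856) (tt N54854 D102857) (tt N51586 (iv5 F293472)) (tt N50453 (iv6 F293459)) (tt N49295 F138399))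
theorem Q29073 : ∀ i, i < 29073 → P i := stepQ 29072 Q29072 (allL N29072 (tt N14487 (iv1 D47703)) (tt N49297 F135822) (tt N49295 F138397) (tt N26885 (iv3 F291556)) (tt N26695 (iv4 F74984)) (tt N51587 (iv5 F291610)) (tt N26883 (iv6 F291611)) (tt N49296 (iv7 F138396)))
theorem Q29074 : ∀ i, i < 29074 → P i := stepQ 29073 Q29073 (allL N29073 (tt N49296 (iv1 F135821)) (tt N49295 F135817) (tt N14487 (iv2 D47704)) (tt N49320 (iv3 F136040)) (tt N50055 (iv4 F138766)) (tt N54855 D102862) (tt N54856 D102863) (tt N49297 (iv7 F135819)))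
theorem Q29075 : ∀ i, i < 29075 → P i := stepQ 29074 Q29074 (allL N29074 (tt N49360 (iv1 F295070)) (tt N49361 F294490) (tt N54855 (iv2 F158174)) (tt N14488 F74985) (tt N54857 D102866) (tt N14487 (iv5 D47705)) (tt N54858 D102867) (tt N49298 (iv7 F135824)))
theorem Q29076 : ∀ i, i < 29076 → P i := stepQ 29075 Q29075 (allL N29075 (tt N50223 (iv1 F291618)) (tt N49318 (iv0 F291619)) (tt N54856 (iv2 F158175)) (tt N14489 F74986) (tt N29000 (iv4 F291614)) (tt N54859 D102870) (tt N14487 (iv6 D47706)) (tt N26991 (iv7 F291624)))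
theorem Q29077 : ∀ i, i < 29077 → P i := stepQ 29076 Q29076 (allL N29076 (tt N54860 D102872) (tt N54861 D102873) (tt N49340 (iv2 F136057)) (tt N54858 (iv3 F158176)) (tt N47641 (iv4 F129375)) (tt N54862 D102874) (tt N14488 (iv6 D47707)) (tt N54863 D102875))
theorem Q29078 : ∀ i, i < 29078 → P i := stepQ 29077 Q29077 (allL N29077 (tt N26423 F290887) (tt N26266 F290888) (tt N49244 (iv2 F291331)) (tt N54859 (iv3 F158177)) (tt N54864 D102883) (tt N14489 (iv5 D47710)) (tt N54862 (iv6 F158180)) (tt N26995 (iv7 F291332)))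
theorem Q29079 : ∀ i, i < 29079 → P i := stepQ 29078 Q29078 (allL N29078 (tt N49850 (iv1 F137480)) (tt N14490 (iv0 D47721)) (tt N49849 (iv2 F293631)) (tt N50273 (iv3 F293466)) (tt N54865 D102893) (tt N51524 (iv5 F293769)) (tt N50244 (iv6 F293770)) (tt N49848 (iv7 F293630)))
theorem Q29080 : ∀ i, i < 29080 → P i := stepQ 29079 Q29079 (allL N29079 (tt N14490 (iv1 D47722)) (tt N49850 F137482) (tt N49848 (iv2 F293629)) (tt N54866 D102897) (tt N54867 D102898) (tt N51525 (iv5 F293771)) (tt N54833 (iv6 F293772)) (tt N49849 (iv7 F293632)))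
theorem Q29081 : ∀ i, i < 29081 → P i := stepQ 29080 Q29080 (allL N29080 (tt N49849 (iv1 F137481)) (tt N49848 F137477) (tt N14490 (iv2 D47723)) (tt N49853 (iv3 F137495)) (tt N52302 (iv4 F148532)) (tt N54868 D102901) (tt N26948 (iv6 F293773)) (tt N49850 (iv7 F137479)))
theorem Q29082 : ∀ i, i < 29082 → P i := stepQ 29081 Q29081 (allL N29081 (tt N38317 (iv1 F293774)) (tt N54869 D102904) (tt N54868 (iv2 F158203)) (tt N14491 F75001) (tt N54870 D102905) (tt N14490 (iv5 D47724)) (tt N54871 D102906) (tt N27251 F292772))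
theorem Q29083 : ∀ i, i < 29083 → P i := stepQ 29082 Q29082 (allL N29082 (tt N54872 D102911) (tt N54873 D102912) (tt N27256 F292776) (tt N54871 (iv3 F158205)) (tt N47635 (iv4 F129358)) (tt N26953 (iv5 F293200)) (tt N14491 (iv6 D47726)) (tt N54874 D102914))
theorem Q29084 : ∀ i, i < 29084 → P i := stepQ 29083 Q29083 (allL N29083 (tt N49853 (iv1 F137498)) (tt N14492 (iv0 D47729)) (tt N49852 (iv2 F350507)) (tt N54875 D102918) (tt N54876 D102919) (tt N51536 (iv5 F350498)) (tt N50351 (iv6 F350500)) (tt N49851 (iv7 F350506)))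
theorem Q29085 : ∀ i, i < 29085 → P i := stepQ 29084 Q29084 (allL N29084 (tt N14492 (iv1 D47730)) (tt N49853 F137500) (tt N49851 (iv2 F350503)) (tt N50324 (iv3 F293717)) (tt N54877 D102924) (tt N51537 (iv5 F353201)) (tt N26929 (iv6 F294515)) (tt N49852 (iv7 F350508)))
theorem Q29086 : ∀ i, i < 29086 → P i := stepQ 29085 Q29085 (allL N29085 (tt N49852 (iv1 F137499)) (tt N49851 F137494) (tt N14492 (iv2 D47731)) (tt N49850 (iv3 F137478)) (tt N49989 (iv4 F138307)) (tt N54878 D102927) (tt N54879 D102928) (tt N49853 (iv7 F137497)))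
theorem Q29087 : ∀ i, i < 29087 → P i := stepQ 29086 Q29086 (allL N29086 (tt N54880 D102929) (tt N45163 (iv0 F293782)) (tt N54878 (iv2 F158224)) (tt N14493 F75009) (tt N54881 D102931) (tt N14492 (iv5 D47732)) (tt N34404 (iv6 F293789)) (tt N27254 F292777))
theorem Q29088 : ∀ i, i < 29088 → P i := stepQ 29087 Q29087 (allL N29087 (tt N23241 (iv1 F293790)) (tt N23238 (iv0 F293791)) (tt N54879 (iv2 F158225)) (tt N14494 F75010) (tt N29418 (iv4 F293775)) (tt N34405 (iv5 F293276)) (tt N14492 (iv6 D47733)) (tt N26958 (iv7 F292995)))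
theorem Q29089 : ∀ i, i < 29089 → P i := stepQ 29088 Q29088 (allL N29088 (tt N54882 D102937) (tt N54883 D102938) (tt N27253 F292780) (tt N34404 (iv3 F293788)) (tt N44699 (iv4 F112891)) (tt N34403 (iv5 F293283)) (tt N14493 (iv6 D47734)) (tt N54884 D102940))
theorem Q29090 : ∀ i, i < 29090 → P i := stepQ 29089 Q29089 (allL N29089 (tt N25564 F292195) (tt N26430 F292196) (tt N48625 (iv2 F292548)) (tt N34405 (iv3 F293275)) (tt N54885 D102943) (tt N14494 (iv5 D47737)) (tt N34403 (iv6 F293284)) (tt N26961 (iv7 F292996)))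
theorem Q29091 : ∀ i, i < 29091 → P i := stepQ 29090 Q29090 (allL N29090 (tt N54886 D102956) (tt N50273 (iv0 F293465)) (tt N54887 D102957) (tt N14495 (iv3 D47745)) (tt N27555 F292764) (tt N51263 (iv5 F293764)) (tt N50354 (iv6 F293765)) (tt N49276 (iv7 F293642)))
theorem Q29092 : ∀ i, i < 29092 → P i := stepQ 29091 Q29091 (allL N29091 (tt N27087 (iv1 F293753)) (tt N27089 (iv0 F293754)) (tt N14497 F75015) (tt N52749 (iv3 F151164)) (tt N54888 D102966) (tt N14496 (iv5 D47748)) (tt N54889 D102967) (tt N27134 (iv7 F293715)))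
theorem Q29093 : ∀ i, i < 29093 → P i := stepQ 29092 Q29092 (allL N29092 (tt N27170 (iv1 F293766)) (tt N27181 (iv0 F293543)) (tt N54888 (iv2 F158249)) (tt N54890 D102976) (tt N14497 (iv4 D47751)) (tt N54888 (iv5 F158250)) (tt N54891 D102977) (tt N49277 (iv7 F293767)))
theorem Q29094 : ∀ i, i < 29094 → P i := stepQ 29093 Q29093 (allL N29093 (tt N54892 D102978) (tt N54893 D102979) (tt N54889 (iv2 F158251)) (tt N14499 F75016) (tt N54891 (iv4 F158256)) (tt N49247 F292763) (tt N14497 (iv6 D47752)) (tt N54894 D102980))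
theorem Q29095 : ∀ i, i < 29095 → P i := stepQ 29094 Q29094 (allL N29094 (tt N54895 D102999) (tt N54896 D103000) (tt N54897 D103001) (tt N14498 (iv3 D47757)) (tt N54890 (iv4 F158255)) (tt N44684 (iv5 F112838)) (tt N54898 D103002) (tt N46784 (iv7 F126985)))
theorem Q29096 : ∀ i, i < 29096 → P i := stepQ 29095 Q29095 (allL N29095 (tt N41161 F355624) (tt N54899 D103004) (tt N44856 (iv2 F113717)) (tt N54898 (iv3 F158264)) (tt N14499 F75019) (tt N41141 F356123) (tt N14498 (iv6 D47758)) (tt N54900 D103006))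
theorem Q29097 : ∀ i, i < 29097 → P i := stepQ 29096 Q29096 (allL N29096 (tt N52753 (iv1 F151170)) (tt N14499 (iv0 D47759)) (tt N51510 (iv2 F355640)) (tt N54901 D103008) (tt N54902 D103009) (tt N54903 D103010) (tt N51304 (iv6 F355639)) (tt N52752 (iv7 F355656)))
theorem Q29098 : ∀ i, i < 29098 → P i := stepQ 29097 Q29097 (allL N29097 (tt N14499 (iv1 D47760)) (tt N52753 F151169) (tt N52752 (iv2 F355654)) (tt N54904 D103013) (tt N54905 D103014) (tt N54906 D103015) (tt N54907 D103016) (tt N51510 (iv7 F355641)))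
theorem Q29099 : ∀ i, i < 29099 → P i := stepQ 29098 Q29098 (allL N29098 (tt N52752 (iv1 F151166)) (tt N51510 (iv0 F355652)) (tt N52753 (iv2 F151167)) (tt N54894 (iv3 F158257)) (tt N54900 (iv4 F158265)) (tt N54840 (iv5 F158029)) (tt N49860 (iv6 F137624)) (tt N14499 (iv7 D47761)))
theorem Q29100 : ∀ i, i < 29100 → P i := stepQ 29099 Q29099 (allL N29099 (tt N27299 F75022) (tt N27299 (iv0 F75023)) (tt N29215 (iv2 F75342)) (tt N25740 F75020) (tt N14500 (iv4 D47762)) (tt N21619 F75021) (tt N54908 D103017) (tt N29215 (iv7 F75344)))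
theorem Q29101 : ∀ i, i < 29101 → P i := stepQ 29100 Q29100 (allL N29100 (tt N14641 (iv1 F289646)) (tt N27659 (iv0 F289647)) (tt N29216 (iv2 F75347)) (tt N53254 (iv3 F153223)) (tt N54908 (iv4 F158269)) (tt N54909 D103020) (tt N14500 (iv6 D47763)) (tt N29434 (iv7 F289651)))
theorem Q29102 : ∀ i, i < 29102 → P i := stepQ 29101 Q29101 (allL N29101 (tt N29221 (iv1 F75362)) (tt N14501 (iv0 D47764)) (tt N29218 F154998) (tt N53876 (iv3 F154877)) (tt N54910 D103022) (tt N54911 D103023) (tt N49980 (iv6 F343073)) (tt N29219 (iv7 F154997)))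
theorem Q29103 : ∀ i, i < 29103 → P i := stepQ 29102 Q29102 (allL N29102 (tt N14501 (iv1 D47765)) (tt N29221 F75361) (tt N29219 (iv2 F154999)) (tt N53263 (iv3 F153252)) (tt N54912 D103025) (tt N54913 D103026) (tt N54914 D103027) (tt N29218 F155000))
theorem Q29104 : ∀ i, i < 29104 → P i := stepQ 29103 Q29103 (allL N29103 (tt N54915 D103028) (tt N54916 D103029) (tt N29220 (iv2 F75354)) (tt N14504 F75024) (tt N54917 D103030) (tt N14501 (iv5 D47766)) (tt N42578 (iv6 F106430)) (tt N54918 D103031))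
theorem Q29105 : ∀ i, i < 29105 → P i := stepQ 29104 Q29104 (allL N29104 (tt N29219 (iv1 F75352)) (tt N29218 F75360) (tt N29221 (iv2 F75356)) (tt N14505 F75025) (tt N29104 F75026) (tt N54918 (iv5 F158274)) (tt N29221 (iv6 F75359)) (tt N14501 (iv7 D47767)))
theorem Q29106 : ∀ i, i < 29106 → P i := stepQ 29105 Q29105 (allL N29105 (tt N14526 (iv1 F75031)) (tt N14502 (iv0 D47768)) (tt N14523 (iv2 F319837)) (tt N54570 (iv3 F314182)) (tt N41965 (iv4 F319381)) (tt N54919 D103035) (tt N52618 (iv6 F150043)) (tt N14524 (iv7 F319383)))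
theorem Q29107 : ∀ i, i < 29107 → P i := stepQ 29106 Q29106 (allL N29106 (tt N14502 (iv1 D47769)) (tt N14526 F75027) (tt N14524 (iv2 F319382)) (tt N44148 (iv3 F319384)) (tt N21283 (iv4 F319385)) (tt N54920 D103039) (tt N21282 (iv6 F319388)) (tt N14523 (iv7 F319838)))
theorem Q29108 : ∀ i, i < 29108 → P i := stepQ 29107 Q29107 (allL N29107 (tt N54564 (iv1 F378403)) (tt N52013 (iv0 F147579)) (tt N14525 F75028) (tt N42578 (iv3 F106429)) (tt N54921 D103042) (tt N14502 (iv5 D47770)) (tt N14504 F75029) (tt N54922 D103043))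
theorem Q29109 : ∀ i, i < 29109 → P i := stepQ 29108 Q29108 (allL N29108 (tt N14524 (iv1 F75032)) (tt N14523 F75033) (tt N14526 F75030) (tt N42579 (iv3 F106431)) (tt N33577 F317107) (tt N54922 (iv5 F158280)) (tt N29225 (iv6 F75368)) (tt N14502 (iv7 D47771)))
theorem Q29110 : ∀ i, i < 29110 → P i := stepQ 29109 Q29109 (allL N29109 (tt N48953 (iv1 F291899)) (tt N26354 F75036) (tt N14531 F75034) (tt N53610 (iv3 F154117)) (tt N54923 D103044) (tt N14503 (iv5 D47772)) (tt N54924 D103045) (tt N14528 F75035))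
theorem Q29111 : ∀ i, i < 29111 → P i := stepQ 29110 Q29110 (allL N29110 (tt N14623 F290640) (tt N14635 F290641) (tt N14532 F75037) (tt N53611 (iv3 F154119)) (tt N48845 (iv4 F134681)) (tt N49900 (iv5 F137902)) (tt N14503 (iv6 D47773)) (tt N14633 F290642))
theorem Q29112 : ∀ i, i < 29112 → P i := stepQ 29111 Q29111 (allL N29111 (tt N14536 (iv1 F75041)) (tt N14504 (iv0 D47774)) (tt N14533 F75044) (tt N54925 D103046) (tt N54098 (iv4 F293990)) (tt N27067 F293010) (tt N54926 D103048) (tt N14534 F75043))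
theorem Q29113 : ∀ i, i < 29113 → P i := stepQ 29112 Q29112 (allL N29112 (tt N54927 D103049) (tt N39404 F331253) (tt N14535 F75038) (tt N54928 D103050) (tt N14504 (iv4 D47775)) (tt N27063 (iv5 F293997)) (tt N54921 (iv6 F158278)) (tt N51209 F293011))
theorem Q29114 : ∀ i, i < 29114 → P i := stepQ 29113 Q29113 (allL N29113 (tt N14534 (iv1 F75042)) (tt N14533 F75047) (tt N14536 F75039) (tt N54918 (iv3 F158273)) (tt N51209 (iv4 F291976)) (tt N14505 F75040) (tt N54929 D103053) (tt N14504 (iv7 D47776)))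
theorem Q29115 : ∀ i, i < 29115 → P i := stepQ 29114 Q29114 (allL N29114 (tt N51707 (iv1 F147095)) (tt N27594 (iv0 F75051)) (tt N51705 F147088) (tt N14506 (iv3 D47777)) (tt N25725 F75048) (tt N54930 D103054) (tt N27569 F75049) (tt N14547 F75050))
theorem Q29116 : ∀ i, i < 29116 → P i := stepQ 29115 Q29115 (allL N29115 (tt N48956 (iv1 F294026)) (tt N44090 F327747) (tt N14540 F75052) (tt N54930 (iv3 F158306)) (tt N54931 D103056) (tt N14506 (iv5 D47778)) (tt N54932 D103057) (tt N14548 F75053))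
theorem Q29117 : ∀ i, i < 29117 → P i := stepQ 29116 Q29116 (allL N29116 (tt N44090 F327748) (tt N48956 (iv0 F294025)) (tt N14548 F75063) (tt N50346 (iv3 F139573)) (tt N54933 D103061) (tt N14507 (iv5 D47781)) (tt N54934 D103062) (tt N14540 F75064))
theorem Q29118 : ∀ i, i < 29118 → P i := stepQ 29117 Q29117 (allL N29117 (tt N27626 F291205) (tt N27653 F75225) (tt N14549 F75065) (tt N50347 (iv3 F139575)) (tt N14509 F75066) (tt N51873 (iv5 F147364)) (tt N14507 (iv6 D47782)) (tt N14632 F291206))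
theorem Q29119 : ∀ i, i < 29119 → P i := stepQ 29118 Q29118 (allL N29118 (tt N25636 F293041) (tt N48939 F293042) (tt N14550 F75069) (tt N54935 D103063) (tt N14508 (iv4 D47783)) (tt N54936 D103064) (tt N25557 (iv6 F293163)) (tt N14543 F75070))
theorem Q29120 : ∀ i, i < 29120 → P i := stepQ 29119 Q29119 (allL N29119 (tt N28261 F75088) (tt N28246 (iv0 F75089)) (tt N27911 F75085) (tt N26908 F75086) (tt N14510 (iv4 D47789)) (tt N48412 (iv5 F132433)) (tt N54937 D103078) (tt N28262 F75087))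
theorem Q29121 : ∀ i, i < 29121 → P i := stepQ 29120 Q29120 (allL N29120 (tt N29278 (iv1 F177377)) (tt N29226 (iv0 F177378)) (tt N29238 (iv2 F75418)) (tt N29247 (iv3 F75437)) (tt N54937 (iv4 F158367)) (tt N54938 D103081) (tt N14510 (iv6 D47790)) (tt N29277 (iv7 F177373)))
theorem Q29122 : ∀ i, i < 29122 → P i := stepQ 29121 Q29121 (allL N29121 (tt N14527 F157768) (tt N53607 F157769) (tt N29236 (iv2 F75411)) (tt N53853 (iv3 F154825)) (tt N28264 F75090) (tt N54939 D103083) (tt N14511 (iv6 D47791)) (tt N53609 F157770))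
theorem Q29123 : ∀ i, i < 29123 → P i := stepQ 29122 Q29122 (allL N29122 (tt N54940 D103084) (tt N54941 D103085) (tt N14513 F75091) (tt N29248 (iv3 F75440)) (tt N25752 F75092) (tt N31804 F321138) (tt N14512 (iv6 D47792)) (tt N54942 D103087))
theorem Q29124 : ∀ i, i < 29124 → P i := stepQ 29123 Q29123 (allL N29123 (tt N54942 F158380) (tt N14513 (iv0 D47793)) (tt N54940 (iv2 F160569)) (tt N29439 F143099) (tt N54943 D103089) (tt N54944 D103090) (tt N54945 D103091) (tt N54941 (iv7 F160555)))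
theorem Q29125 : ∀ i, i < 29125 → P i := stepQ 29124 Q29124 (allL N29124 (tt N14513 (iv1 D47794)) (tt N54942 F158379) (tt N54941 (iv2 F160554)) (tt N53856 (iv3 F289699)) (tt N48812 (iv4 F134593)) (tt N54946 D103094) (tt N49993 (iv6 F291952)) (tt N54940 (iv7 F160570)))
theorem Q29126 : ∀ i, i < 29126 → P i := stepQ 29125 Q29125 (allL N29125 (tt N35636 (iv1 F319033)) (tt N54947 D103097) (tt N31804 (iv2 F319038)) (tt N14514 F75093) (tt N15543 (iv4 F319039)) (tt N14513 (iv5 D47795)) (tt N15542 F316663) (tt N31874 (iv7 F319040)))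
theorem Q29127 : ∀ i, i < 29127 → P i := stepQ 29126 Q29126 (allL N29126 (tt N54941 (iv1 F158373)) (tt N54940 (iv0 F158372)) (tt N54942 (iv2 F158376)) (tt N14515 F75094) (tt N25900 F75095) (tt N31874 F321139) (tt N14645 F75096) (tt N14513 (iv7 D47796)))
theorem Q29128 : ∀ i, i < 29128 → P i := stepQ 29127 Q29127 (allL N29127 (tt N29256 (iv1 F75459)) (tt N14514 (iv0 D47797)) (tt N29253 (iv2 F75450)) (tt N54948 D103100) (tt N46251 F323551) (tt N48954 (iv5 F292801)) (tt N54949 D103101) (tt N29254 (iv7 F75452)))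
theorem Q29129 : ∀ i, i < 29129 → P i := stepQ 29128 Q29128 (allL N29128 (tt N52282 (iv1 F148372)) (tt N52285 (iv0 F148379)) (tt N29255 (iv2 F75455)) (tt N32009 (iv3 F321394)) (tt N14514 (iv4 D47798)) (tt N49632 (iv5 F293242)) (tt N21344 F319398) (tt N54950 D103104))
theorem Q29130 : ∀ i, i < 29130 → P i := stepQ 29129 Q29129 (allL N29129 (tt N29254 (iv1 F75451)) (tt N29253 (iv0 F75449)) (tt N29256 (iv2 F75456)) (tt N31874 F319399) (tt N54950 (iv4 F158389)) (tt N14515 F75097) (tt N54951 D103105) (tt N14514 (iv7 D47799)))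
theorem Q29131 : ∀ i, i < 29131 → P i := stepQ 29130 Q29130 (allL N29130 (tt N50398 (iv1 F177338)) (tt N14530 (iv0 F177339)) (tt N29247 (iv2 F75436)) (tt N53852 (iv3 F154823)) (tt N23251 F75098) (tt N54573 (iv5 F314178)) (tt N14516 (iv6 D47800)) (tt N50397 (iv7 F177343)))
theorem Q29132 : ∀ i, i < 29132 → P i := stepQ 29131 Q29131 (allL N29131 (tt N26976 F157743) (tt N29283 F157744) (tt N29246 (iv2 F75434)) (tt N29236 (iv3 F75412)) (tt N23247 F75099) (tt N20823 (iv5 F295952)) (tt N14517 (iv6 D47801)) (tt N29282 F157745))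
theorem Q29133 : ∀ i, i < 29133 → P i := stepQ 29132 Q29132 (allL N29132 (tt N29439 (iv1 F76199)) (tt N29438 F76195) (tt N14519 F75100) (tt N29239 (iv3 F75420)) (tt N26878 F75101) (tt N54952 D103111) (tt N14518 (iv6 D47802)) (tt N29440 (iv7 F76197)))
theorem Q29134 : ∀ i, i < 29134 → P i := stepQ 29133 Q29133 (allL N29133 (tt N29440 (iv1 F76198)) (tt N14519 (iv0 D47803)) (tt N29439 (iv2 F160556)) (tt N53855 (iv3 F289690)) (tt N26928 (iv4 F135534)) (tt N54953 D103114) (tt N54954 D103115) (tt N29438 (iv7 F160552)))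
theorem Q29135 : ∀ i, i < 29135 → P i := stepQ 29134 Q29134 (allL N29134 (tt N14519 (iv1 D47804)) (tt N29440 F76200) (tt N29438 F160553) (tt N54941 F158374) (tt N26929 (iv4 F143148)) (tt N54955 D103117) (tt N54877 (iv6 F294016)) (tt N29439 (iv7 F160557)))
theorem Q29136 : ∀ i, i < 29136 → P i := stepQ 29135 Q29135 (allL N29135 (tt N54956 D103119) (tt N54957 D103120) (tt N54952 (iv2 F158396)) (tt N14520 F75102) (tt N54958 D103121) (tt N14519 (iv5 D47805)) (tt N51980 (iv6 F147538)) (tt N29441 (iv7 F76202)))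
theorem Q29137 : ∀ i, i < 29137 → P i := stepQ 29136 Q29136 (allL N29136 (tt N14520 (iv1 D47806)) (tt N14647 F75103) (tt N26359 F75105) (tt N54959 D103122) (tt N49913 (iv4 F137917)) (tt N26344 (iv5 F75104)) (tt N54960 D103123) (tt N29243 (iv7 F75426)))
theorem Q29138 : ∀ i, i < 29138 → P i := stepQ 29137 Q29137 (allL N29137 (tt N52236 (iv1 F148106)) (tt N46941 F326709) (tt N29244 (iv2 F75427)) (tt N54961 D103124) (tt N14520 (iv4 D47807)) (tt N49898 (iv5 F137900)) (tt N51989 (iv6 F147543)) (tt N29442 (iv7 F76204)))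
theorem Q29139 : ∀ i, i < 29139 → P i := stepQ 29138 Q29138 (allL N29138 (tt N29259 (iv1 F75479)) (tt N14521 (iv0 D47808)) (tt N29258 F75481) (tt N54962 D103125) (tt N53331 (iv4 F153355)) (tt N24252 F75106) (tt N41666 F337021) (tt N29257 F75469))
theorem Q29140 : ∀ i, i < 29140 → P i := stepQ 29139 Q29139 (allL N29139 (tt N14521 (iv1 D47809)) (tt N29259 F75486) (tt N29257 (iv2 F75484)) (tt N54963 D103127) (tt N53332 (iv4 F153361)) (tt N24253 (iv5 F75485)) (tt N29806 F324861) (tt N29258 F75483))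
theorem Q29141 : ∀ i, i < 29141 → P i := stepQ 29140 Q29140 (allL N29140 (tt N41670 (iv1 F317657)) (tt N29716 (iv0 F317658)) (tt N33575 F315420) (tt N14522 F75107) (tt N29260 (iv4 F75488)) (tt N54964 D103131) (tt N14521 (iv6 D47810)) (tt N41671 (iv7 F317656)))
theorem Q29142 : ∀ i, i < 29142 → P i := stepQ 29141 Q29141 (allL N29141 (tt N33577 (iv1 F315749)) (tt N14522 (iv0 D47811)) (tt N35294 (iv2 F317933)) (tt N54965 D103134) (tt N51624 (iv4 F332539)) (tt N54966 D103136) (tt N36315 F315641) (tt N35295 (iv7 F317934)))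
theorem Q29143 : ∀ i, i < 29143 → P i := stepQ 29142 Q29142 (allL N29142 (tt N54967 D103143) (tt N54968 D103144) (tt N35296 (iv2 F91926)) (tt N54964 (iv3 F158410)) (tt N54969 D103145) (tt N14522 (iv5 D47813)) (tt N35290 (iv6 F91909)) (tt N54970 D103146))
theorem Q29144 : ∀ i, i < 29144 → P i := stepQ 29143 Q29143 (allL N29143 (tt N35295 (iv1 F91925)) (tt N35294 F91933) (tt N33577 (iv2 F315750)) (tt N41671 (iv3 F317655)) (tt N14526 F75108) (tt N54970 (iv5 F158416)) (tt N29264 (iv6 F75494)) (tt N14522 (iv7 D47814)))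
theorem Q29145 : ∀ i, i < 29145 → P i := stepQ 29144 Q29144 (allL N29144 (tt N54971 D103153) (tt N52499 (iv0 F335522)) (tt N54972 D103155) (tt N14523 (iv3 D47816)) (tt N54973 D103156) (tt N54974 D103157) (tt N54975 D103158) (tt N44148 (iv7 F319856)))
theorem Q29146 : ∀ i, i < 29146 → P i := stepQ 29145 Q29145 (allL N29145 (tt N41964 (iv1 F314948)) (tt N41963 (iv0 F315411)) (tt N41965 (iv2 F315412)) (tt N21301 F312993) (tt N14523 (iv4 D47817)) (tt N21301 (iv5 F315413)) (tt N42007 (iv6 F315414)) (tt N21283 (iv7 F315415)))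
theorem Q29147 : ∀ i, i < 29147 → P i := stepQ 29146 Q29146 (allL N29146 (tt N54976 D103166) (tt N54977 D103167) (tt N54919 (iv2 F319841)) (tt N54974 (iv3 F158425)) (tt N54978 D103168) (tt N14523 (iv5 D47818)) (tt N54979 D103169) (tt N54920 (iv7 F319860)))
theorem Q29148 : ∀ i, i < 29148 → P i := stepQ 29147 Q29147 (allL N29147 (tt N41710 (iv1 F319857)) (tt N54980 D103172) (tt N52618 (iv2 F319843)) (tt N54975 (iv3 F158426)) (tt N42007 F317651) (tt N52347 F148720) (tt N14523 (iv6 D47819)) (tt N42003 (iv7 F319858)))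
theorem Q29149 : ∀ i, i < 29149 → P i := stepQ 29148 Q29148 (allL N29148 (tt N46067 (iv1 F259134)) (tt N54568 (iv0 F314184)) (tt N54569 (iv2 F325805)) (tt N14524 (iv3 D47821)) (tt N46063 (iv4 F190344)) (tt N54981 D103179) (tt N41962 (iv6 F322987)) (tt N54570 (iv7 F319840)))
theorem Q29150 : ∀ i, i < 29150 → P i := stepQ 29149 Q29149 (allL N29149 (tt N54977 (iv1 F158435)) (tt N54976 F158438) (tt N54920 (iv2 F319859)) (tt N54981 (iv3 F158440)) (tt N54982 D103184) (tt N14524 (iv5 D47823)) (tt N54983 D103185) (tt N54919 (iv7 F319842)))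
theorem Q29151 : ∀ i, i < 29151 → P i := stepQ 29150 Q29150 (allL N29150 (tt N54922 (iv1 F158283)) (tt N14525 (iv0 D47825)) (tt N54564 (iv2 F378404)) (tt N54984 D103191) (tt N54985 D103192) (tt N52014 (iv5 F334503)) (tt N54986 D103194) (tt N52013 (iv7 F334506)))
theorem Q29152 : ∀ i, i < 29152 → P i := stepQ 29151 Q29151 (allL N29151 (tt N14525 (iv1 D47826)) (tt N54922 F158282) (tt N52013 (iv2 F334505)) (tt N54558 (iv3 F378400)) (tt N54987 D103197) (tt N51756 (iv5 F147140)) (tt N54988 D103198) (tt N54564 (iv7 F378406)))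
theorem Q29153 : ∀ i, i < 29153 → P i := stepQ 29152 Q29152 (allL N29152 (tt N54989 D103199) (tt N47607 (iv0 F346765)) (tt N54921 (iv2 F158277)) (tt N54990 D103201) (tt N14525 (iv4 D47827)) (tt N54991 D103202) (tt N14535 F75111) (tt N54992 D103203))
theorem Q29154 : ∀ i, i < 29154 → P i := stepQ 29153 Q29153 (allL N29153 (tt N52013 (iv1 F147580)) (tt N54564 (iv0 F378402)) (tt N54922 (iv2 F158279)) (tt N29276 (iv3 F75501)) (tt N54992 (iv4 F158448)) (tt N14526 F75112) (tt N54993 D103204) (tt N14525 (iv7 D47828)))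
theorem Q29155 : ∀ i, i < 29155 → P i := stepQ 29154 Q29154 (allL N29154 (tt N53607 F154106) (tt N14527 (iv0 D47829)) (tt N53609 F154116) (tt N29282 F138904) (tt N54994 D103205) (tt N54995 D103206) (tt N29277 F177395) (tt N29236 (iv7 F157758)))
theorem Q29156 : ∀ i, i < 29156 → P i := stepQ 29155 Q29155 (allL N29155 (tt N53609 (iv1 F154114)) (tt N29236 (iv0 F157756)) (tt N14527 (iv2 D47831)) (tt N50398 (iv3 F139633)) (tt N25756 F75113) (tt N54996 D103207) (tt N52310 (iv6 F293518)) (tt N53607 (iv7 F154105)))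
theorem Q29157 : ∀ i, i < 29157 → P i := stepQ 29156 Q29156 (allL N29156 (tt N54997 D103209) (tt N54998 D103210) (tt N54996 (iv2 F158456)) (tt N14528 F75114) (tt N54999 D103211) (tt N14527 (iv5 D47832)) (tt N32215 F355171) (tt N53610 (iv7 F154118)))
theorem Q29158 : ∀ i, i < 29158 → P i := stepQ 29157 Q29157 (allL N29157 (tt N55000 D103213) (tt N55001 D103214) (tt N52310 (iv2 F293516)) (tt N14529 F75115) (tt N48653 (iv4 F293513)) (tt N51771 (iv5 F147170)) (tt N14527 (iv6 D47833)) (tt N29460 (iv7 F76241)))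
theorem Q29159 : ∀ i, i < 29159 → P i := stepQ 29158 Q29158 (allL N29158 (tt N14531 (iv1 F75117)) (tt N14528 (iv0 D47834)) (tt N26354 (iv2 F75118)) (tt N55002 D103215) (tt N55003 D103216) (tt N26343 F75116) (tt N55004 D103217) (tt N48953 (iv7 F291900)))
theorem Q29160 : ∀ i, i < 29160 → P i := stepQ 29159 Q29159 (allL N29159 (tt N55005 D103220) (tt N22556 F328220) (tt N50400 (iv2 F139649)) (tt N55006 D103222) (tt N14528 (iv4 D47836)) (tt N44077 F329899) (tt N55007 D103224) (tt N54923 (iv7 F158285)))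
theorem Q29161 : ∀ i, i < 29161 → P i := stepQ 29160 Q29160 (allL N29160 (tt N55008 D103225) (tt N55009 D103226) (tt N50401 (iv2 F139651)) (tt N32215 F355170) (tt N55007 (iv4 F158474)) (tt N51773 (iv5 F147176)) (tt N14528 (iv6 D47837)) (tt N55010 D103227))
theorem Q29162 : ∀ i, i < 29162 → P i := stepQ 29161 Q29161 (allL N29161 (tt N14530 (iv1 D47839)) (tt N50398 F139639) (tt N50397 F154624) (tt N29277 (iv3 F139642)) (tt N26954 (iv4 F139641)) (tt N55011 D103231) (tt N29282 (iv6 F177376)) (tt N29247 F177356))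
theorem Q29163 : ∀ i, i < 29163 → P i := stepQ 29162 Q29162 (allL N29162 (tt N29247 F177358) (tt N50397 F139632) (tt N14530 (iv2 D47840)) (tt N53607 (iv3 F154104)) (tt N45174 (iv4 F205431)) (tt N55012 D103233) (tt N55013 D103234) (tt N50398 (iv7 F139635)))
theorem Q29164 : ∀ i, i < 29164 → P i := stepQ 29163 Q29163 (allL N29163 (tt N55014 D103235) (tt N55015 D103236) (tt N55012 (iv2 F158478)) (tt N14531 F75122) (tt N55016 D103237) (tt N14530 (iv5 D47841)) (tt N55017 D103238) (tt N50399 (iv7 F139644)))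
theorem Q29165 : ∀ i, i < 29165 → P i := stepQ 29164 Q29164 (allL N29164 (tt N55018 D103239) (tt N55019 D103240) (tt N55013 (iv2 F158479)) (tt N14532 F75123) (tt N49802 F290572) (tt N55020 D103241) (tt N14530 (iv6 D47842)) (tt N54829 F290573))
theorem Q29166 : ∀ i, i < 29166 → P i := stepQ 29165 Q29165 (allL N29165 (tt N22556 F328221) (tt N55005 F158470) (tt N54923 (iv2 F158284)) (tt N55021 D103243) (tt N14531 (iv4 D47843)) (tt N44078 F329903) (tt N55022 D103245) (tt N50400 (iv7 F139650)))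
theorem Q29167 : ∀ i, i < 29167 → P i := stepQ 29166 Q29166 (allL N29166 (tt N55023 D103246) (tt N55024 D103247) (tt N54924 (iv2 F158286)) (tt N55017 (iv3 F158480)) (tt N55022 (iv4 F158493)) (tt N55025 D103248) (tt N14531 (iv6 D47844)) (tt N55026 D103249))
theorem Q29168 : ∀ i, i < 29168 → P i := stepQ 29167 Q29167 (allL N29167 (tt N26347 (iv1 F75125)) (tt N27780 (iv0 F75124)) (tt N49900 F137904) (tt N55020 (iv3 F158488)) (tt N54206 (iv4 F290802)) (tt N14532 (iv5 D47846)) (tt N55025 (iv6 F158494)) (tt N49901 (iv7 F137906)))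
theorem Q29169 : ∀ i, i < 29169 → P i := stepQ 29168 Q29168 (allL N29168 (tt N54995 (iv1 F331237)) (tt N54939 (iv0 F158370)) (tt N55027 D103252) (tt N14533 (iv3 D47848)) (tt N55028 D103253) (tt N49962 (iv5 F138087)) (tt N55029 D103254) (tt N52635 (iv7 F150069)))
theorem Q29170 : ∀ i, i < 29170 → P i := stepQ 29169 Q29169 (allL N29169 (tt N55030 D103255) (tt N22542 F329904) (tt N54098 (iv2 F293989)) (tt N55031 D103256) (tt N14533 (iv4 D47849)) (tt N25819 (iv5 F294116)) (tt N55032 D103258) (tt N52642 (iv7 F150090)))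
theorem Q29171 : ∀ i, i < 29171 → P i := stepQ 29170 Q29170 (allL N29170 (tt N55033 D103259) (tt N55034 D103260) (tt N54926 (iv2 F158291)) (tt N55029 (iv3 F158497)) (tt N55032 (iv4 F158502)) (tt N29449 (iv5 F76221)) (tt N14533 (iv6 D47850)) (tt N55035 D103261))
theorem Q29172 : ∀ i, i < 29172 → P i := stepQ 29171 Q29171 (allL N29171 (tt N54573 (iv1 F314176)) (tt N55011 (iv0 F177374)) (tt N55036 D103263) (tt N14534 (iv3 D47851)) (tt N55037 D103264) (tt N49963 (iv5 F138091)) (tt N55038 D103265) (tt N54925 (iv7 F158287)))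
theorem Q29173 : ∀ i, i < 29173 → P i := stepQ 29172 Q29172 (allL N29172 (tt N22542 F329905) (tt N55030 F158499) (tt N52642 (iv2 F150089)) (tt N55039 D103266) (tt N14534 (iv4 D47852)) (tt N51201 (iv5 F294744)) (tt N55040 D103268) (tt N54098 (iv7 F293991)))
theorem Q29174 : ∀ i, i < 29174 → P i := stepQ 29173 Q29173 (allL N29173 (tt N55041 D103269) (tt N55042 D103270) (tt N52640 (iv2 F150087)) (tt N55038 (iv3 F158503)) (tt N55040 (iv4 F158505)) (tt N49998 (iv5 F291961)) (tt N14534 (iv6 D47853)) (tt N55043 D103271))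
theorem Q29175 : ∀ i, i < 29175 → P i := stepQ 29174 Q29174 (allL N29174 (tt N51209 F293110) (tt N14535 (iv0 D47854)) (tt N54927 F158294) (tt N39406 (iv3 F331269)) (tt N49973 (iv4 F138131)) (tt N25770 (iv5 F294119)) (tt N55044 D103274) (tt N39404 F331257))
theorem Q29176 : ∀ i, i < 29176 → P i := stepQ 29175 Q29175 (allL N29175 (tt N14535 (iv1 D47855)) (tt N51209 F293111) (tt N39404 F331255) (tt N55045 D103275) (tt N25780 (iv4 F293877)) (tt N51191 (iv5 F294120)) (tt N39403 (iv6 F331267)) (tt N54927 (iv7 F158295)))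
theorem Q29177 : ∀ i, i < 29177 → P i := stepQ 29176 Q29176 (allL N29176 (tt N55046 D103278) (tt N55047 D103279) (tt N55048 D103280) (tt N14535 (iv3 D47856)) (tt N29294 (iv4 F75521)) (tt N55049 D103281) (tt N54990 (iv6 F158447)) (tt N55050 D103282))
theorem Q29178 : ∀ i, i < 29178 → P i := stepQ 29177 Q29177 (allL N29177 (tt N51208 (iv1 F294122)) (tt N51207 (iv0 F294125)) (tt N27063 (iv2 F293996)) (tt N55049 (iv3 F158508)) (tt N25773 (iv4 F293907)) (tt N14535 (iv5 D47857)) (tt N47194 F358742) (tt N51195 (iv7 F293999)))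
theorem Q29179 : ∀ i, i < 29179 → P i := stepQ 29178 Q29178 (allL N29178 (tt N39404 F331254) (tt N54927 F158296) (tt N51209 F293012) (tt N55050 (iv3 F158509)) (tt N14536 F75131) (tt N51195 (iv5 F293998)) (tt N55051 D103286) (tt N14535 (iv7 D47858)))
theorem Q29180 : ∀ i, i < 29180 → P i := stepQ 29179 Q29179 (allL N29179 (tt N55052 D103287) (tt N55053 D103288) (tt N54929 (iv2 F158305)) (tt N29297 (iv3 F75523)) (tt N55051 (iv4 F158516)) (tt N29297 (iv5 F75524)) (tt N14536 (iv6 D47859)) (tt N54993 (iv7 F158449)))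
theorem Q29181 : ∀ i, i < 29181 → P i := stepQ 29180 Q29180 (allL N29180 (tt N55054 D103290) (tt N55055 D103291) (tt N55056 D103292) (tt N14538 (iv3 D47862)) (tt N26724 F75137) (tt N34155 F329945) (tt N29298 (iv6 F75550)) (tt N27592 F75138))
theorem Q29182 : ∀ i, i < 29182 → P i := stepQ 29181 Q29181 (allL N29181 (tt N25780 (iv1 F293876)) (tt N49973 (iv0 F138129)) (tt N51627 (iv2 F146940)) (tt N34155 (iv3 F329914)) (tt N34356 F329850) (tt N14538 (iv5 D47863)) (tt N55057 D103295) (tt N27593 F75139))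
theorem Q29183 : ∀ i, i < 29183 → P i := stepQ 29182 Q29182 (allL N29182 (tt N50343 (iv1 F139565)) (tt N14539 (iv0 D47864)) (tt N41185 (iv2 F331298)) (tt N29300 F139008) (tt N50842 F142733) (tt N41098 F331289) (tt N29300 F176035) (tt N27597 (iv7 F176023)))
theorem Q29184 : ∀ i, i < 29184 → P i := stepQ 29183 Q29183 (allL N29183 (tt N41185 (iv1 F331297)) (tt N27597 F205447) (tt N14539 (iv2 D47866)) (tt N51705 (iv3 F147089)) (tt N42656 (iv4 F157726)) (tt N30236 (iv5 F331300)) (tt N55058 D103304) (tt N50343 (iv7 F139562)))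
theorem Q29185 : ∀ i, i < 29185 → P i := stepQ 29184 Q29184 (allL N29184 (tt N55059 D103305) (tt N55060 D103306) (tt N30236 F331315) (tt N14540 F75140) (tt N16168 (iv4 F331327)) (tt N14539 (iv5 D47867)) (tt N16117 (iv6 F331328)) (tt N50346 (iv7 F139574)))
theorem Q29186 : ∀ i, i < 29186 → P i := stepQ 29185 Q29185 (allL N29185 (tt N55061 D103309) (tt N55062 D103310) (tt N55058 (iv2 F158539)) (tt N14541 F75141) (tt N49276 (iv4 F135605)) (tt N55063 D103311) (tt N14539 (iv6 D47868)) (tt N27555 (iv7 F75142)))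
theorem Q29187 : ∀ i, i < 29187 → P i := stepQ 29186 Q29186 (allL N29186 (tt N14548 (iv1 F75144)) (tt N14540 (iv0 D47869)) (tt N48956 (iv2 F294027)) (tt N34367 F327750) (tt N34369 (iv4 F328222)) (tt N27799 F75143) (tt N55064 D103314) (tt N44090 F327751))
theorem Q29188 : ∀ i, i < 29188 → P i := stepQ 29187 Q29187 (allL N29187 (tt N14540 (iv1 D47870)) (tt N14548 F75145) (tt N44090 F327749) (tt N55065 D103315) (tt N44093 (iv4 F328219)) (tt N27901 (iv5 F75146)) (tt N55066 D103317) (tt N48956 (iv7 F294028)))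
theorem Q29189 : ∀ i, i < 29189 → P i := stepQ 29188 Q29188 (allL N29188 (tt N55003 (iv1 F158463)) (tt N51226 (iv0 F291977)) (tt N54931 (iv2 F158312)) (tt N44108 (iv3 F336636)) (tt N14540 (iv4 D47871)) (tt N51208 (iv5 F294124)) (tt N55067 D103319) (tt N54933 (iv7 F158328)))
theorem Q29190 : ∀ i, i < 29190 → P i := stepQ 29189 Q29189 (allL N29189 (tt N48089 (iv1 F331330)) (tt N55068 D103321) (tt N54932 (iv2 F158315)) (tt N16117 F331329) (tt N55067 (iv4 F158561)) (tt N55069 D103322) (tt N14540 (iv6 D47872)) (tt N32155 (iv7 F331343)))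
theorem Q29191 : ∀ i, i < 29191 → P i := stepQ 29190 Q29190 (allL N29190 (tt N14541 (iv1 D47873)) (tt N25956 F294874) (tt N26757 F294875) (tt N49975 F294876) (tt N26611 F75149) (tt N27549 (iv5 F75151)) (tt N29311 (iv6 F75583)) (tt N27554 F75148))
theorem Q29192 : ∀ i, i < 29192 → P i := stepQ 29191 Q29191 (allL N29191 (tt N27753 F75154) (tt N51778 (iv0 F147187)) (tt N27570 F75152) (tt N55063 (iv3 F158547)) (tt N51775 F147179) (tt N14541 (iv5 D47874)) (tt N55069 (iv6 F158563)) (tt N27556 F75153))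
theorem Q29193 : ∀ i, i < 29193 → P i := stepQ 29192 Q29192 (allL N29192 (tt N27016 (iv1 F293708)) (tt N27015 (iv0 F293707)) (tt N26362 F75155) (tt N55070 D103325) (tt N14542 (iv4 D47875)) (tt N28695 (iv5 F293325)) (tt N27781 F75156) (tt N25645 (iv7 F293228)))
theorem Q29194 : ∀ i, i < 29194 → P i := stepQ 29193 Q29193 (allL N29193 (tt N14550 (iv1 F75160)) (tt N14543 (iv0 D47877)) (tt N48939 (iv2 F292023)) (tt N55071 D103328) (tt N26609 F75159) (tt N29340 (iv5 F292852)) (tt N49927 F291806) (tt N25636 (iv7 F292853)))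
theorem Q29195 : ∀ i, i < 29195 → P i := stepQ 29194 Q29194 (allL N29194 (tt N14543 (iv1 D47878)) (tt N14550 F75161) (tt N25636 F293124) (tt N49814 (iv3 F293199)) (tt N26610 (iv4 F75162)) (tt N29341 (iv5 F294143)) (tt N25531 F293125) (tt N48939 F293126))
theorem Q29196 : ∀ i, i < 29196 → P i := stepQ 29195 Q29195 (allL N29195 (tt N55072 D103332) (tt N55073 D103333) (tt N55074 D103334) (tt N14543 (iv3 D47879)) (tt N49747 F293855) (tt N55075 D103335) (tt N42793 F335689) (tt N54935 (iv7 F158331)))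
theorem Q29197 : ∀ i, i < 29197 → P i := stepQ 29196 Q29196 (allL N29196 (tt N25766 (iv1 F294688)) (tt N25764 F293857) (tt N49877 F293858) (tt N55075 (iv3 F158583)) (tt N51207 (iv4 F294126)) (tt N14543 (iv5 D47880)) (tt N55076 D103338) (tt N54936 (iv7 F158333)))
theorem Q29198 : ∀ i, i < 29198 → P i := stepQ 29197 Q29197 (allL N29197 (tt N51698 (iv1 F177380)) (tt N53716 F154488) (tt N53693 (iv2 F154424)) (tt N14544 (iv3 D47882)) (tt N14547 F75165) (tt N55077 D103341) (tt N52289 (iv6 F291575)) (tt N25725 F75166))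
theorem Q29199 : ∀ i, i < 29199 → P i := stepQ 29198 Q29198 (allL N29198 (tt N29318 (iv1 F293561)) (tt N29315 (iv0 F293564)) (tt N25728 F75167) (tt N55077 (iv3 F158596)) (tt N55078 D103343) (tt N14544 (iv5 D47883)) (tt N55079 D103344) (tt N25726 F75168))
theorem Q29200 : ∀ i, i < 29200 → P i := stepQ 29199 Q29199 (allL N29199 (tt N26719 (iv1 F75191)) (tt N26718 F75190) (tt N27552 (iv2 F292367)) (tt N55080 D103345) (tt N14545 (iv4 D47887)) (tt N55081 D103346) (tt N49965 (iv6 F293169)) (tt N27436 F292167))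
theorem Q29201 : ∀ i, i < 29201 → P i := stepQ 29200 Q29200 (allL N29200 (tt N14547 (iv1 D47892)) (tt N51705 F147092) (tt N51707 (iv2 F147093)) (tt N27596 (iv3 F75209)) (tt N26649 (iv4 F293986)) (tt N55082 D103349) (tt N28589 F75211) (tt N27594 F75212))
theorem Q29202 : ∀ i, i < 29202 → P i := stepQ 29201 Q29201 (allL N29201 (tt N27594 F143301) (tt N51707 F147094) (tt N14547 (iv2 D47893)) (tt N50343 F139564) (tt N53693 (iv4 F154425)) (tt N55083 D103350) (tt N55084 D103351) (tt N51705 (iv7 F147091)))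
theorem Q29203 : ∀ i, i < 29203 → P i := stepQ 29202 Q29202 (allL N29202 (tt N55085 D103352) (tt N55086 D103353) (tt N55083 (iv2 F158627)) (tt N14548 F75214) (tt N55087 D103354) (tt N14547 (iv5 D47894)) (tt N55088 D103355) (tt N54930 (iv7 F158307)))
theorem Q29204 : ∀ i, i < 29204 → P i := stepQ 29203 Q29203 (allL N29203 (tt N55089 D103356) (tt N28865 (iv0 F76114)) (tt N55084 (iv2 F158628)) (tt N14549 F75215) (tt N52289 F291777) (tt N55090 D103357) (tt N14547 (iv6 D47895)) (tt N55091 D103358))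
theorem Q29205 : ∀ i, i < 29205 → P i := stepQ 29204 Q29204 (allL N29204 (tt N51226 (iv1 F291978)) (tt N55003 (iv0 F158462)) (tt N54933 (iv2 F158327)) (tt N55092 D103359) (tt N14548 (iv4 D47896)) (tt N51207 (iv5 F294127)) (tt N55093 D103360) (tt N54931 (iv7 F158313)))
theorem Q29206 : ∀ i, i < 29206 → P i := stepQ 29205 Q29205 (allL N29205 (tt N55094 D103361) (tt N55095 D103362) (tt N54934 (iv2 F158330)) (tt N55088 (iv3 F158632)) (tt N55093 (iv4 F158647)) (tt N55096 D103363) (tt N14548 (iv6 D47897)) (tt N55097 D103364))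
theorem Q29207 : ∀ i, i < 29207 → P i := stepQ 29206 Q29206 (allL N29206 (tt N14632 (iv1 F290958)) (tt N14549 (iv0 D47898)) (tt N27626 (iv2 F291124)) (tt N55098 D103365) (tt N25972 F290762) (tt N27437 F75216) (tt N25506 (iv6 F291134)) (tt N27653 (iv7 F75217)))
theorem Q29208 : ∀ i, i < 29208 → P i := stepQ 29207 Q29207 (allL N29207 (tt N27773 (iv1 F75220)) (tt N27770 F75219) (tt N51873 F147366) (tt N55090 (iv3 F158640)) (tt N54221 (iv4 F292812)) (tt N14549 (iv5 D47899)) (tt N55096 (iv6 F158648)) (tt N51874 (iv7 F147368)))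
theorem Q29209 : ∀ i, i < 29209 → P i := stepQ 29208 Q29208 (allL N29208 (tt N27653 (iv1 F75224)) (tt N27626 F291208) (tt N14632 F291209) (tt N55091 (iv3 F158643)) (tt N14552 F75222) (tt N51874 (iv5 F147369)) (tt N25956 F294879) (tt N14549 (iv7 D47900)))
theorem Q29210 : ∀ i, i < 29210 → P i := stepQ 29209 Q29209 (allL N29209 (tt N53138 (iv1 F294727)) (tt N49821 (iv0 F294728)) (tt N53142 (iv2 F294729)) (tt N14550 (iv3 D47901)) (tt N55080 (iv4 F158606)) (tt N53612 (iv5 F294731)) (tt N53001 (iv6 F294188)) (tt N49874 F293852))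
theorem Q29211 : ∀ i, i < 29211 → P i := stepQ 29210 Q29210 (allL N29210 (tt N25764 F293853) (tt N25766 (iv0 F294687)) (tt N54936 (iv2 F158332)) (tt N53612 (iv3 F294730)) (tt N51208 (iv4 F294123)) (tt N14550 (iv5 D47902)) (tt N55099 D103372) (tt N49877 F293854))
theorem Q29212 : ∀ i, i < 29212 → P i := stepQ 29211 Q29211 (allL N29211 (tt N49149 F293171) (tt N25680 F293172) (tt N25557 F293173) (tt N53001 (iv3 F294187)) (tt N14551 F75226) (tt N51704 (iv5 F294189)) (tt N14550 (iv6 D47903)) (tt N25563 F293174))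
theorem Q29213 : ∀ i, i < 29213 → P i := stepQ 29212 Q29212 (allL N29212 (tt N51039 (iv1 F292915)) (tt N51036 (iv0 F292694)) (tt N28460 F75259) (tt N44115 (iv3 F329913)) (tt N14553 (iv4 D47934)) (tt N55100 D103451) (tt N55101 D103452) (tt N28464 F75260))
theorem Q29214 : ∀ i, i < 29214 → P i := stepQ 29213 Q29213 (allL N29213 (tt N55102 D103453) (tt N55103 D103454) (tt N28461 F75261) (tt N27060 F75262) (tt N55101 (iv4 F158760)) (tt N48646 F295239) (tt N14553 (iv6 D47935)) (tt N55104 D103455))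
theorem Q29215 : ∀ i, i < 29215 → P i := stepQ 29214 Q29214 (allL N29214 (tt N26849 F292100) (tt N26847 F292101) (tt N26950 F292102) (tt N28548 F294207) (tt N55105 D103464) (tt N14554 (iv5 D47942)) (tt N55106 D103465) (tt N26951 (iv7 F292970)))
theorem Q29216 : ∀ i, i < 29216 → P i := stepQ 29215 Q29215 (allL N29215 (tt N27598 F75345) (tt N27598 (iv0 F75346)) (tt N29099 F75342) (tt N27589 F75343) (tt N14555 (iv4 D47978)) (tt N42531 (iv5 F106361)) (tt N55107 D103579) (tt N29099 F75344))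
theorem Q29217 : ∀ i, i < 29217 → P i := stepQ 29216 Q29216 (allL N29216 (tt N27324 (iv1 F289626)) (tt N14663 (iv0 F289627)) (tt N29100 F75347) (tt N28575 F75348) (tt N55107 (iv4 F158892)) (tt N55108 D103582) (tt N14555 (iv6 D47979)) (tt N29388 (iv7 F289629)))
theorem Q29218 : ∀ i, i < 29218 → P i := stepQ 29217 Q29217 (allL N29217 (tt N55109 D103584) (tt N55110 D103585) (tt N21612 F75349) (tt N14558 F75350) (tt N21586 F75351) (tt N55111 D103586) (tt N14556 (iv6 D47980)) (tt N55112 D103587))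
theorem Q29219 : ∀ i, i < 29219 → P i := stepQ 29218 Q29218 (allL N29218 (tt N29104 (iv1 F75360)) (tt N14557 (iv0 D47981)) (tt N29101 (iv2 F154998)) (tt N55113 D103588) (tt N55114 D103589) (tt N55115 D103590) (tt N48676 F343047) (tt N29102 (iv7 F155000)))
theorem Q29220 : ∀ i, i < 29220 → P i := stepQ 29219 Q29219 (allL N29219 (tt N14557 (iv1 D47982)) (tt N29104 F75352) (tt N29102 F154999) (tt N28603 F75353) (tt N55116 D103592) (tt N55117 D103593) (tt N55118 D103594) (tt N29101 F154997))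
theorem Q29221 : ∀ i, i < 29221 → P i := stepQ 29220 Q29220 (allL N29220 (tt N55119 D103595) (tt N55120 D103596) (tt N29103 F75354) (tt N14560 F75355) (tt N55121 D103597) (tt N14557 (iv5 D47983)) (tt N55111 (iv6 F158905)) (tt N55122 D103598))
theorem Q29222 : ∀ i, i < 29222 → P i := stepQ 29221 Q29221 (allL N29221 (tt N29102 (iv1 F75361)) (tt N29101 F75362) (tt N29104 F75356) (tt N14561 F75357) (tt N29221 F75358) (tt N55122 (iv5 F158947)) (tt N29104 F75359) (tt N14557 (iv7 D47984)))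
theorem Q29223 : ∀ i, i < 29223 → P i := stepQ 29222 Q29222 (allL N29222 (tt N14582 (iv1 F75369)) (tt N14558 (iv0 D47985)) (tt N14579 F335083) (tt N55123 D103600) (tt N55124 D103601) (tt N55125 D103602) (tt N52032 (iv6 F147588)) (tt N14580 F335084))
theorem Q29224 : ∀ i, i < 29224 → P i := stepQ 29223 Q29223 (allL N29223 (tt N14558 (iv1 D47986)) (tt N14582 F75363) (tt N14580 (iv2 F335077)) (tt N55126 D103604) (tt N55127 D103605) (tt N55128 D103606) (tt N55129 D103607) (tt N14579 (iv7 F335082)))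
theorem Q29225 : ∀ i, i < 29225 → P i := stepQ 29224 Q29224 (allL N29224 (tt N55130 D103608) (tt N52599 (iv0 F150032)) (tt N14581 F75364) (tt N55111 (iv3 F158904)) (tt N55131 D103609) (tt N14558 (iv5 D47987)) (tt N14560 F75365) (tt N55132 D103610))
theorem Q29226 : ∀ i, i < 29226 → P i := stepQ 29225 Q29225 (allL N29225 (tt N14580 (iv1 F75370)) (tt N14579 F75371) (tt N14582 F75366) (tt N55112 (iv3 F158907)) (tt N24941 F75367) (tt N55132 (iv5 F158956)) (tt N29108 F75368) (tt N14558 (iv7 D47988)))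
theorem Q29227 : ∀ i, i < 29227 → P i := stepQ 29226 Q29226 (allL N29226 (tt N29120 F177378) (tt N55133 D103612) (tt N42952 F322865) (tt N14559 (iv3 D47989)) (tt N28226 F75372) (tt N34150 F322866) (tt N29416 (iv6 F76073)) (tt N14583 F75373))
theorem Q29228 : ∀ i, i < 29228 → P i := stepQ 29227 Q29227 (allL N29227 (tt N50640 (iv1 F292230)) (tt N26722 F291426) (tt N14586 F75374) (tt N34150 F322862) (tt N43576 (iv4 F324322)) (tt N14559 (iv5 D47990)) (tt N55134 D103616) (tt N14584 F75375))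
theorem Q29229 : ∀ i, i < 29229 → P i := stepQ 29228 Q29228 (allL N29228 (tt N14591 (iv1 F75379)) (tt N14560 (iv0 D47991)) (tt N14588 F75382) (tt N41096 F299845) (tt N55135 D103618) (tt N26740 F292223) (tt N55136 D103619) (tt N14589 F75381))
theorem Q29230 : ∀ i, i < 29230 → P i := stepQ 29229 Q29229 (allL N29229 (tt N55137 D103620) (tt N52130 (iv0 F147702)) (tt N14590 F75376) (tt N55138 D103621) (tt N14560 (iv4 D47992)) (tt N53478 (iv5 F294722)) (tt N55131 (iv6 F158954)) (tt N55139 D103623))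
theorem Q29231 : ∀ i, i < 29231 → P i := stepQ 29230 Q29230 (allL N29230 (tt N14589 (iv1 F75380)) (tt N14588 F75385) (tt N14591 F75377) (tt N55122 (iv3 F158946)) (tt N55139 (iv4 F158992)) (tt N14561 F75378) (tt N55140 D103624) (tt N14560 (iv7 D47993)))
theorem Q29232 : ∀ i, i < 29232 → P i := stepQ 29231 Q29231 (allL N29231 (tt N52435 (iv1 F149615)) (tt N55081 F294085) (tt N14594 F75387) (tt N53890 (iv3 F154894)) (tt N55141 D103626) (tt N14562 (iv5 D47994)) (tt N55142 D103627) (tt N14596 F75388))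
theorem Q29233 : ∀ i, i < 29233 → P i := stepQ 29232 Q29232 (allL N29232 (tt N55081 F294251) (tt N52435 (iv0 F149614)) (tt N14596 F75391) (tt N51002 (iv3 F143256)) (tt N55143 D103630) (tt N14563 (iv5 D47996)) (tt N55144 D103631) (tt N14594 F75392))
theorem Q29234 : ∀ i, i < 29234 → P i := stepQ 29233 Q29233 (allL N29233 (tt N14564 (iv1 D47999)) (tt N14606 F75401) (tt N14604 (iv2 F75403)) (tt N55145 D103635) (tt N48901 F134829) (tt N26732 (iv5 F292830)) (tt N27197 F291791) (tt N14603 F75402))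
theorem Q29235 : ∀ i, i < 29235 → P i := stepQ 29234 Q29234 (allL N29234 (tt N55146 D103637) (tt N55147 D103638) (tt N28122 (iv2 F294716)) (tt N14564 (iv3 D48000)) (tt N29234 F75404) (tt N53305 (iv5 F294717)) (tt N25593 F75405) (tt N55148 D103641))
theorem Q29236 : ∀ i, i < 29236 → P i := stepQ 29235 Q29235 (allL N29235 (tt N14604 (iv1 F75409)) (tt N14603 F75410) (tt N14606 F75407) (tt N55148 (iv3 F159026)) (tt N14565 F75408) (tt N25802 (iv5 F292866)) (tt N48607 (iv6 F292867)) (tt N14564 (iv7 D48002)))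
theorem Q29237 : ∀ i, i < 29237 → P i := stepQ 29236 Q29236 (allL N29236 (tt N29155 F157756) (tt N28443 F157757) (tt N29121 F75411) (tt N29131 F75412) (tt N53279 (iv4 F153283)) (tt N41169 (iv5 F296080)) (tt N14566 (iv6 D48003)) (tt N29154 F157758))
theorem Q29238 : ∀ i, i < 29238 → P i := stepQ 29237 Q29237 (allL N29237 (tt N28244 F75416) (tt N28247 (iv0 F75417)) (tt N28564 F75413) (tt N14567 (iv3 D48004)) (tt N27341 F75414) (tt N26183 F308367) (tt N55149 D103646) (tt N28565 F75415))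
theorem Q29239 : ∀ i, i < 29239 → P i := stepQ 29238 Q29238 (allL N29238 (tt N14583 (iv1 F177392)) (tt N42952 F322864) (tt N29120 F75418) (tt N55149 (iv3 F159044)) (tt N52713 (iv4 F150958)) (tt N41156 F308758) (tt N14567 (iv6 D48005)) (tt N55133 (iv7 F177394)))
theorem Q29240 : ∀ i, i < 29240 → P i := stepQ 29239 Q29239 (allL N29239 (tt N29393 F76049) (tt N29392 F76047) (tt N14569 F75419) (tt N29132 F75420) (tt N28390 F75421) (tt N55150 D103651) (tt N14568 (iv6 D48006)) (tt N29394 (iv7 F76050)))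
theorem Q29241 : ∀ i, i < 29241 → P i := stepQ 29240 Q29240 (allL N29240 (tt N29394 (iv1 F76051)) (tt N14569 (iv0 D48007)) (tt N29393 (iv2 F153410)) (tt N55151 D103652) (tt N53346 F153409) (tt N55152 D103653) (tt N55153 D103654) (tt N29392 (iv7 F153412)))
theorem Q29242 : ∀ i, i < 29242 → P i := stepQ 29241 Q29241 (allL N29241 (tt N14569 (iv1 D48008)) (tt N29394 F76052) (tt N29392 F153413) (tt N47613 F331185) (tt N53316 (iv4 F153328)) (tt N47612 (iv5 F331194)) (tt N55154 D103657) (tt N29393 F153411))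
theorem Q29243 : ∀ i, i < 29243 → P i := stepQ 29242 Q29242 (allL N29242 (tt N55155 D103658) (tt N55156 D103659) (tt N55150 (iv2 F159053)) (tt N14570 F75422) (tt N55157 D103660) (tt N14569 (iv5 D48009)) (tt N52559 (iv6 F149945)) (tt N29395 (iv7 F76054)))
theorem Q29244 : ∀ i, i < 29244 → P i := stepQ 29243 Q29243 (allL N29243 (tt N14667 (iv1 F75425)) (tt N14570 (iv0 D48010)) (tt N26333 (iv2 F75424)) (tt N55158 D103661) (tt N49956 (iv4 F138080)) (tt N26318 F75423) (tt N55159 D103662) (tt N29136 F75426))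
theorem Q29245 : ∀ i, i < 29245 → P i := stepQ 29244 Q29244 (allL N29244 (tt N51729 (iv1 F147118)) (tt N51732 (iv0 F147119)) (tt N29137 F75427) (tt N55160 D103663) (tt N14570 (iv4 D48011)) (tt N49943 (iv5 F138039)) (tt N52566 (iv6 F149954)) (tt N29396 (iv7 F76055)))
theorem Q29246 : ∀ i, i < 29246 → P i := stepQ 29245 Q29245 (allL N29245 (tt N28247 F75431) (tt N28244 (iv0 F75432)) (tt N28565 F75428) (tt N14571 (iv3 D48012)) (tt N27342 F75429) (tt N51941 (iv5 F147484)) (tt N55161 D103664) (tt N28564 F75430))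
theorem Q29247 : ∀ i, i < 29247 → P i := stepQ 29246 Q29246 (allL N29246 (tt N51051 F157753) (tt N14585 F157754) (tt N29131 F75434) (tt N55161 (iv3 F159074)) (tt N21678 F75435) (tt N40139 (iv5 F296079)) (tt N14571 (iv6 D48013)) (tt N41172 F295951))
theorem Q29248 : ∀ i, i < 29248 → P i := stepQ 29247 Q29247 (allL N29247 (tt N26607 (iv1 F177357)) (tt N29162 (iv0 F177358)) (tt N29130 F75436) (tt N29120 F75437) (tt N26538 F75438) (tt N55162 D103668) (tt N14572 (iv6 D48014)) (tt N29161 (iv7 F177356)))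
theorem Q29249 : ∀ i, i < 29249 → P i := stepQ 29248 Q29248 (allL N29248 (tt N55151 F159060) (tt N55163 D103670) (tt N14574 F75439) (tt N29122 F75440) (tt N26475 F75441) (tt N55164 D103671) (tt N14573 (iv6 D48015)) (tt N55165 D103672))
theorem Q29250 : ∀ i, i < 29250 → P i := stepQ 29249 Q29249 (allL N29249 (tt N55165 (iv1 F159107)) (tt N14574 (iv0 D48016)) (tt N55151 (iv2 F159058)) (tt N47616 F331188) (tt N26540 F135565) (tt N47615 (iv5 F331196)) (tt N45140 (iv6 F135566)) (tt N55163 (iv7 F159096)))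
theorem Q29251 : ∀ i, i < 29251 → P i := stepQ 29250 Q29250 (allL N29250 (tt N14574 (iv1 D48017)) (tt N55165 F159106) (tt N55163 (iv2 F159099)) (tt N29392 F151057) (tt N26541 F151058) (tt N55166 D103675) (tt N49209 F293469) (tt N55151 (iv7 F159056)))
theorem Q29252 : ∀ i, i < 29252 → P i := stepQ 29251 Q29251 (allL N29251 (tt N55167 D103677) (tt N55168 D103678) (tt N55164 (iv2 F159100)) (tt N14575 F75442) (tt N55169 D103679) (tt N14574 (iv5 D48018)) (tt N52571 (iv6 F149964)) (tt N55170 D103680))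
theorem Q29253 : ∀ i, i < 29253 → P i := stepQ 29252 Q29252 (allL N29252 (tt N55163 (iv1 F159095)) (tt N55151 (iv0 F159057)) (tt N55165 (iv2 F159102)) (tt N14576 F75443) (tt N26479 F75444) (tt N55170 (iv5 F159115)) (tt N14666 F75445) (tt N14574 (iv7 D48019)))
theorem Q29254 : ∀ i, i < 29254 → P i := stepQ 29253 Q29253 (allL N29253 (tt N29129 F75449) (tt N14575 (iv0 D48020)) (tt N29127 F75450) (tt N26333 (iv3 F75447)) (tt N47913 F324801) (tt N26330 F75446) (tt N55171 D103681) (tt N26329 (iv7 F75448)))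
theorem Q29255 : ∀ i, i < 29255 → P i := stepQ 29254 Q29254 (allL N29254 (tt N14575 (iv1 D48021)) (tt N29129 F75451) (tt N26329 F75454) (tt N55172 D103682) (tt N47914 F324802) (tt N26317 (iv5 F75453)) (tt N55173 D103683) (tt N29127 F75452))
theorem Q29256 : ∀ i, i < 29256 → P i := stepQ 29255 Q29255 (allL N29255 (tt N51669 (iv1 F146994)) (tt N51672 (iv0 F146997)) (tt N29128 F75455) (tt N55174 D103684) (tt N14575 (iv4 D48022)) (tt N54191 (iv5 F292332)) (tt N42031 F320991) (tt N55175 D103686))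
theorem Q29257 : ∀ i, i < 29257 → P i := stepQ 29256 Q29256 (allL N29256 (tt N26329 (iv1 F75458)) (tt N29127 F75459) (tt N29129 F75456) (tt N55170 (iv3 F159114)) (tt N55175 (iv4 F159126)) (tt N14576 F75457) (tt N55176 D103687) (tt N14575 (iv7 D48023)))
theorem Q29258 : ∀ i, i < 29258 → P i := stepQ 29257 Q29257 (allL N29257 (tt N17001 (iv1 F75464)) (tt N14577 (iv0 D48024)) (tt N29139 F75484) (tt N55177 D103688) (tt N45300 (iv4 F115099)) (tt N27679 F75460) (tt N55178 D103689) (tt N29138 (iv7 F75469)))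
theorem Q29259 : ∀ i, i < 29259 → P i := stepQ 29258 Q29258 (allL N29258 (tt N14577 (iv1 D48025)) (tt N17001 F75480) (tt N29138 (iv2 F75481)) (tt N55179 D103690) (tt N55180 D103691) (tt N27680 F75482) (tt N55181 D103692) (tt N29139 (iv7 F75483)))
theorem Q29260 : ∀ i, i < 29260 → P i := stepQ 29259 Q29259 (allL N29259 (tt N29139 (iv1 F75486)) (tt N29138 F75479) (tt N14577 (iv2 D48026)) (tt N16993 F75475) (tt N17001 F75476) (tt N17028 F75477) (tt N55182 D103693) (tt N17001 F75478))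
theorem Q29261 : ∀ i, i < 29261 → P i := stepQ 29260 Q29260 (allL N29260 (tt N55183 D103694) (tt N41803 (iv0 F319869)) (tt N55182 (iv2 F159143)) (tt N14578 F75487) (tt N29140 F75488) (tt N55184 D103696) (tt N14577 (iv6 D48027)) (tt N55185 D103697))
theorem Q29262 : ∀ i, i < 29262 → P i := stepQ 29261 Q29261 (allL N29261 (tt N24941 (iv1 F75495)) (tt N14578 (iv0 D48028)) (tt N24938 (iv2 F311190)) (tt N55186 D103699) (tt N51809 (iv4 F340929)) (tt N55187 D103701) (tt N55188 D103702) (tt N24939 (iv7 F311196)))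
theorem Q29263 : ∀ i, i < 29263 → P i := stepQ 29262 Q29262 (allL N29262 (tt N14578 (iv1 D48029)) (tt N24941 F75489) (tt N24939 F313508) (tt N55189 D103704) (tt N51810 (iv4 F340933)) (tt N55190 D103706) (tt N55191 D103707) (tt N24938 F313509))
theorem Q29264 : ∀ i, i < 29264 → P i := stepQ 29263 Q29263 (allL N29263 (tt N55192 D103708) (tt N55193 D103709) (tt N24940 F75490) (tt N55184 (iv3 F159146)) (tt N55194 D103710) (tt N14578 (iv5 D48030)) (tt N24918 F75491) (tt N55195 D103711))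
theorem Q29265 : ∀ i, i < 29265 → P i := stepQ 29264 Q29264 (allL N29264 (tt N24939 (iv1 F75496)) (tt N24938 F75497) (tt N24941 F75492) (tt N55185 (iv3 F159148)) (tt N14582 F75493) (tt N55195 (iv5 F159159)) (tt N29143 F75494) (tt N14578 (iv7 D48031)))
theorem Q29266 : ∀ i, i < 29266 → P i := stepQ 29265 Q29265 (allL N29265 (tt N55196 D103718) (tt N26221 (iv0 F346910)) (tt N55197 D103720) (tt N14579 (iv3 D48033)) (tt N46271 F346920) (tt N55198 D103722) (tt N55199 D103723) (tt N55126 (iv7 F335078)))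
theorem Q29267 : ∀ i, i < 29267 → P i := stepQ 29266 Q29266 (allL N29266 (tt N55200 D103725) (tt N46572 (iv0 F321383)) (tt N55124 (iv2 F335086)) (tt N55201 D103727) (tt N14579 (iv4 D48034)) (tt N43580 (iv5 F313063)) (tt N34548 (iv6 F313064)) (tt N55127 (iv7 F335076)))
theorem Q29268 : ∀ i, i < 29268 → P i := stepQ 29267 Q29267 (allL N29267 (tt N55202 D103731) (tt N55203 D103732) (tt N55125 (iv2 F335088)) (tt N55198 (iv3 F159171)) (tt N55204 D103733) (tt N14579 (iv5 D48035)) (tt N55205 D103734) (tt N55128 (iv7 F335080)))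
theorem Q29269 : ∀ i, i < 29269 → P i := stepQ 29268 Q29268 (allL N29268 (tt N51959 (iv1 F324999)) (tt N55206 D103737) (tt N52032 (iv2 F335091)) (tt N55199 (iv3 F159172)) (tt N34548 F315501) (tt N51760 F147143) (tt N14579 (iv6 D48036)) (tt N52028 (iv7 F335100)))
theorem Q29270 : ∀ i, i < 29270 → P i := stepQ 29269 Q29269 (allL N29269 (tt N51942 (iv1 F343523)) (tt N55207 D103741) (tt N55208 D103742) (tt N14580 (iv3 D48038)) (tt N55209 D103743) (tt N55210 D103744) (tt N55211 D103745) (tt N55123 (iv7 F335085)))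
theorem Q29271 : ∀ i, i < 29271 → P i := stepQ 29270 Q29270 (allL N29270 (tt N46572 (iv1 F321384)) (tt N55200 F159178) (tt N55127 (iv2 F335075)) (tt N55212 D103746) (tt N14580 (iv4 D48039)) (tt N43579 (iv5 F317722)) (tt N55213 D103748) (tt N55124 (iv7 F335087)))
theorem Q29272 : ∀ i, i < 29272 → P i := stepQ 29271 Q29271 (allL N29271 (tt N55203 (iv1 F159180)) (tt N55202 F159183) (tt N55128 (iv2 F335079)) (tt N55210 (iv3 F159186)) (tt N55214 D103749) (tt N14580 (iv5 D48040)) (tt N55215 D103750) (tt N55125 (iv7 F335089)))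
theorem Q29273 : ∀ i, i < 29273 → P i := stepQ 29272 Q29272 (allL N29272 (tt N55216 D103751) (tt N51924 (iv0 F340730)) (tt N55129 (iv2 F335081)) (tt N55211 (iv3 F159187)) (tt N55213 (iv4 F159188)) (tt N55217 D103753) (tt N14580 (iv6 D48041)) (tt N55218 D103754))
theorem Q29274 : ∀ i, i < 29274 → P i := stepQ 29273 Q29273 (allL N29273 (tt N55132 (iv1 F158959)) (tt N14581 (iv0 D48042)) (tt N55130 (iv2 F288199)) (tt N55219 D103756) (tt N55220 D103757) (tt N52600 (iv5 F288198)) (tt N55221 D103759) (tt N52599 (iv7 F288197)))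
theorem Q29275 : ∀ i, i < 29275 → P i := stepQ 29274 Q29274 (allL N29274 (tt N14581 (iv1 D48043)) (tt N55132 F158958) (tt N52599 (iv2 F288196)) (tt N32098 (iv3 F337153)) (tt N55222 D103762) (tt N52341 (iv5 F148717)) (tt N32097 (iv6 F337156)) (tt N55130 (iv7 F288200)))
theorem Q29276 : ∀ i, i < 29276 → P i := stepQ 29275 Q29275 (allL N29275 (tt N55223 D103764) (tt N55224 D103765) (tt N55131 (iv2 F158953)) (tt N55225 D103766) (tt N14581 (iv4 D48044)) (tt N55226 D103767) (tt N14590 F75500) (tt N55227 D103768))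
theorem Q29277 : ∀ i, i < 29277 → P i := stepQ 29276 Q29276 (allL N29276 (tt N52599 F150033) (tt N55130 F158957) (tt N55132 (iv2 F158955)) (tt N29153 F75501) (tt N55227 (iv4 F159196)) (tt N14582 F75502) (tt N55228 D103769) (tt N14581 (iv7 D48045)))
theorem Q29278 : ∀ i, i < 29278 → P i := stepQ 29277 Q29277 (allL N29277 (tt N42952 F322863) (tt N14583 (iv0 D48046)) (tt N55133 F158968) (tt N29161 F139642) (tt N55229 D103770) (tt N41157 F313129) (tt N29154 (iv6 F177395)) (tt N29120 F177373))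
theorem Q29279 : ∀ i, i < 29279 → P i := stepQ 29278 Q29278 (allL N29278 (tt N55133 (iv1 F158967)) (tt N29120 F177377) (tt N14583 (iv2 D48048)) (tt N51051 (iv3 F143305)) (tt N28523 F75503) (tt N33918 F319715) (tt N49205 F293641) (tt N42952 (iv7 F321650)))
theorem Q29280 : ∀ i, i < 29280 → P i := stepQ 29279 Q29279 (allL N29279 (tt N14586 (iv1 F75508)) (tt N14584 (iv0 D48051)) (tt N26722 F291405) (tt N55230 D103784) (tt N50653 (iv4 F292227)) (tt N25736 F291406) (tt N55231 D103786) (tt N50640 (iv7 F292231)))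
theorem Q29281 : ∀ i, i < 29281 → P i := stepQ 29280 Q29280 (allL N29280 (tt N55232 D103789) (tt N55233 D103790) (tt N51052 (iv2 F143320)) (tt N42929 (iv3 F324321)) (tt N14584 (iv4 D48053)) (tt N50642 (iv5 F294314)) (tt N55234 D103793) (tt N43576 (iv7 F324323)))
theorem Q29282 : ∀ i, i < 29282 → P i := stepQ 29281 Q29281 (allL N29281 (tt N55235 D103794) (tt N55236 D103795) (tt N31483 F295523) (tt N43195 F319042) (tt N55234 (iv4 F159227)) (tt N49207 F293296) (tt N14584 (iv6 D48054)) (tt N55237 D103796))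
theorem Q29283 : ∀ i, i < 29283 → P i := stepQ 29282 Q29282 (allL N29282 (tt N14585 (iv1 D48057)) (tt N51051 F143310) (tt N41172 F295946) (tt N29154 (iv3 F138904)) (tt N26580 (iv4 F138902)) (tt N41094 (iv5 F296078)) (tt N29161 F177376) (tt N29131 (iv7 F157745)))
theorem Q29284 : ∀ i, i < 29284 → P i := stepQ 29283 Q29283 (allL N29283 (tt N29131 (iv1 F157744)) (tt N41172 F295945) (tt N14585 (iv2 D48058)) (tt N42952 F323024) (tt N50843 (iv4 F142735)) (tt N42951 F323025) (tt N55238 D103799) (tt N51051 (iv7 F143307)))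
theorem Q29285 : ∀ i, i < 29285 → P i := stepQ 29284 Q29284 (allL N29284 (tt N55239 D103800) (tt N55240 D103801) (tt N42951 F323023) (tt N14586 F75519) (tt N31482 (iv4 F295863)) (tt N14585 (iv5 D48059)) (tt N55241 D103803) (tt N31481 F295724))
theorem Q29286 : ∀ i, i < 29286 → P i := stepQ 29285 Q29285 (allL N29285 (tt N55242 D103804) (tt N55243 D103805) (tt N55238 (iv2 F159232)) (tt N14587 F75520) (tt N49248 (iv4 F135505)) (tt N49950 (iv5 F138060)) (tt N14585 (iv6 D48060)) (tt N29417 (iv7 F76074)))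
theorem Q29287 : ∀ i, i < 29287 → P i := stepQ 29286 Q29286 (allL N29286 (tt N55233 (iv1 F159224)) (tt N55232 F159222) (tt N43576 F325476) (tt N55244 D103806) (tt N14586 (iv4 D48061)) (tt N25803 (iv5 F294313)) (tt N55245 D103808) (tt N51052 (iv7 F143321)))
theorem Q29288 : ∀ i, i < 29288 → P i := stepQ 29287 Q29287 (allL N29287 (tt N55246 D103809) (tt N55247 D103810) (tt N55134 (iv2 F158976)) (tt N55241 (iv3 F159233)) (tt N55245 (iv4 F159235)) (tt N49952 (iv5 F138066)) (tt N14586 (iv6 D48062)) (tt N55248 D103811))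
theorem Q29289 : ∀ i, i < 29289 → P i := stepQ 29288 Q29288 (allL N29288 (tt N41157 (iv1 F306955)) (tt N41156 (iv0 F306956)) (tt N34053 F322240) (tt N14588 (iv3 D48063)) (tt N34052 F322241) (tt N50627 (iv5 F291423)) (tt N55249 D103816) (tt N34152 F322242))
theorem Q29290 : ∀ i, i < 29290 → P i := stepQ 29289 Q29289 (allL N29289 (tt N55250 D103817) (tt N48915 (iv0 F134873)) (tt N55135 (iv2 F158979)) (tt N43403 (iv3 F325992)) (tt N14588 (iv4 D48064)) (tt N50616 (iv5 F292871)) (tt N55251 D103820) (tt N43582 F325010))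
theorem Q29291 : ∀ i, i < 29291 → P i := stepQ 29290 Q29290 (allL N29290 (tt N55252 D103821) (tt N55253 D103822) (tt N55136 (iv2 F158982)) (tt N55249 (iv3 F159237)) (tt N55251 (iv4 F159242)) (tt N55254 D103823) (tt N14588 (iv6 D48065)) (tt N55255 D103824))
theorem Q29292 : ∀ i, i < 29292 → P i := stepQ 29291 Q29291 (allL N29291 (tt N48915 (iv1 F134850)) (tt N55250 F159239) (tt N43582 F325009) (tt N15776 (iv3 F302683)) (tt N14589 (iv4 D48067)) (tt N50613 (iv5 F294724)) (tt N15775 (iv6 F302686)) (tt N55135 (iv7 F158980)))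
theorem Q29293 : ∀ i, i < 29293 → P i := stepQ 29292 Q29292 (allL N29292 (tt N55139 (iv1 F158995)) (tt N14590 (iv0 D48069)) (tt N55137 F158984) (tt N55256 D103834) (tt N50624 (iv4 F293311)) (tt N50619 (iv5 F294497)) (tt N55257 D103836) (tt N52130 (iv7 F147709)))
theorem Q29294 : ∀ i, i < 29294 → P i := stepQ 29293 Q29293 (allL N29293 (tt N14590 (iv1 D48070)) (tt N55139 F158994) (tt N52130 (iv2 F147701)) (tt N55258 D103837) (tt N50626 (iv4 F293319)) (tt N50618 (iv5 F294499)) (tt N55259 D103839) (tt N55137 (iv7 F158985)))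
theorem Q29295 : ∀ i, i < 29295 → P i := stepQ 29294 Q29294 (allL N29294 (tt N55260 D103840) (tt N43588 (iv0 F353004)) (tt N55261 D103842) (tt N14590 (iv3 D48071)) (tt N29176 F75521) (tt N55262 D103843) (tt N55225 (iv6 F159195)) (tt N55263 D103844))
theorem Q29296 : ∀ i, i < 29296 → P i := stepQ 29295 Q29295 (allL N29295 (tt N50633 (iv1 F294326)) (tt N25732 (iv0 F294319)) (tt N53478 (iv2 F294721)) (tt N55262 (iv3 F159250)) (tt N25802 F293873) (tt N14590 (iv5 D48072)) (tt N55264 D103847) (tt N53480 (iv7 F294720)))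
theorem Q29297 : ∀ i, i < 29297 → P i := stepQ 29296 Q29296 (allL N29296 (tt N52130 (iv1 F147703)) (tt N55137 F158986) (tt N55139 (iv2 F158991)) (tt N55263 (iv3 F159251)) (tt N14591 F75522) (tt N53480 (iv5 F294719)) (tt N55265 D103848) (tt N14590 (iv7 D48073)))
theorem Q29298 : ∀ i, i < 29298 → P i := stepQ 29297 Q29297 (allL N29297 (tt N55266 D103849) (tt N55267 D103850) (tt N55140 (iv2 F158996)) (tt N29179 F75523) (tt N55265 (iv4 F159259)) (tt N29179 F75524) (tt N14591 (iv6 D48074)) (tt N55228 (iv7 F159199)))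
theorem Q29299 : ∀ i, i < 29299 → P i := stepQ 29298 Q29298 (allL N29298 (tt N53911 F154963) (tt N55268 D103852) (tt N53605 (iv2 F154093)) (tt N14592 (iv3 D48080)) (tt N25758 F75549) (tt N55269 D103853) (tt N29180 F75550) (tt N25744 F75551))
theorem Q29300 : ∀ i, i < 29300 → P i := stepQ 29299 Q29299 (allL N29299 (tt N50626 F294331) (tt N50624 F294332) (tt N52129 F147700) (tt N55269 (iv3 F159267)) (tt N55270 D103854) (tt N14592 (iv5 D48081)) (tt N55271 D103855) (tt N25746 F75552))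
theorem Q29301 : ∀ i, i < 29301 → P i := stepQ 29300 Q29300 (allL N29300 (tt N51000 F143249) (tt N14593 (iv0 D48082)) (tt N50408 (iv2 F205444)) (tt N29182 (iv3 F139008)) (tt N45176 (iv4 F176033)) (tt N55272 D103857) (tt N29182 (iv6 F176035)) (tt N27298 (iv7 F176034)))
theorem Q29302 : ∀ i, i < 29302 → P i := stepQ 29301 Q29301 (allL N29301 (tt N50408 (iv1 F143253)) (tt N27298 F205441) (tt N14593 (iv2 D48084)) (tt N52257 (iv3 F148291)) (tt N45159 (iv4 F177331)) (tt N55273 D103863) (tt N48521 F294512) (tt N51000 (iv7 F143247)))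
theorem Q29303 : ∀ i, i < 29303 → P i := stepQ 29302 Q29302 (allL N29302 (tt N55274 D103865) (tt N55275 D103866) (tt N55273 (iv2 F159283)) (tt N14594 F75553) (tt N55276 D103867) (tt N14593 (iv5 D48085)) (tt N32111 F357657) (tt N51002 (iv7 F143257)))
theorem Q29304 : ∀ i, i < 29304 → P i := stepQ 29303 Q29303 (allL N29303 (tt N14596 (iv1 F75556)) (tt N14594 (iv0 D48087)) (tt N52435 (iv2 F149612)) (tt N55277 D103872) (tt N55278 D103873) (tt N27436 F75555) (tt N55279 D103874) (tt N55081 (iv7 F293232)))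
theorem Q29305 : ∀ i, i < 29305 → P i := stepQ 29304 Q29304 (allL N29304 (tt N14594 (iv1 D48088)) (tt N14596 F75557) (tt N55081 F293423) (tt N55280 D103875) (tt N55281 D103876) (tt N27552 (iv5 F75558)) (tt N55282 D103877) (tt N52435 (iv7 F149613)))
theorem Q29306 : ∀ i, i < 29306 → P i := stepQ 29305 Q29305 (allL N29305 (tt N50653 F293299) (tt N50663 F293300) (tt N55141 (iv2 F159002)) (tt N55283 D103878) (tt N14594 (iv4 D48089)) (tt N50633 (iv5 F294327)) (tt N55284 D103879) (tt N55143 (iv7 F159010)))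
theorem Q29307 : ∀ i, i < 29307 → P i := stepQ 29306 Q29306 (allL N29306 (tt N55285 D103880) (tt N55286 D103881) (tt N55142 (iv2 F159004)) (tt N32111 F357654) (tt N55284 (iv4 F159305)) (tt N48524 F294255) (tt N14594 (iv6 D48090)) (tt N55287 D103883))
theorem Q29308 : ∀ i, i < 29308 → P i := stepQ 29307 Q29307 (allL N29307 (tt N55288 D103903) (tt N55289 D103904) (tt N53891 (iv2 F154896)) (tt N14596 F75579) (tt N55290 D103905) (tt N14595 (iv5 D48104)) (tt N55291 D103906) (tt N53890 (iv7 F154895)))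
theorem Q29309 : ∀ i, i < 29309 → P i := stepQ 29308 Q29308 (allL N29308 (tt N55292 D103907) (tt N52273 (iv0 F148344)) (tt N53892 (iv2 F154897)) (tt N14597 F75580) (tt N48937 (iv4 F134911)) (tt N55293 D103908) (tt N14595 (iv6 D48105)) (tt N29427 (iv7 F76139)))
theorem Q29310 : ∀ i, i < 29310 → P i := stepQ 29309 Q29309 (allL N29309 (tt N50663 F293297) (tt N50653 F293298) (tt N55143 (iv2 F159009)) (tt N55294 D103909) (tt N14596 (iv4 D48106)) (tt N25732 (iv5 F294321)) (tt N55295 D103910) (tt N55141 (iv7 F159003)))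
theorem Q29311 : ∀ i, i < 29311 → P i := stepQ 29310 Q29310 (allL N29310 (tt N55296 D103911) (tt N55297 D103912) (tt N55144 (iv2 F159011)) (tt N55291 (iv3 F159337)) (tt N55295 (iv4 F159344)) (tt N55298 D103913) (tt N14596 (iv6 D48107)) (tt N55299 D103914))
theorem Q29312 : ∀ i, i < 29312 → P i := stepQ 29311 Q29311 (allL N29311 (tt N14656 (iv1 F75584)) (tt N14597 (iv0 D48108)) (tt N29424 F76128) (tt N54451 (iv3 F156946)) (tt N28874 F75582) (tt N27800 F75581) (tt N29190 F75583) (tt N27361 F75585))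
theorem Q29313 : ∀ i, i < 29313 → P i := stepQ 29312 Q29312 (allL N29312 (tt N27409 (iv1 F75587)) (tt N27406 F75586) (tt N29426 (iv2 F76135)) (tt N55293 (iv3 F159342)) (tt N49954 (iv4 F138074)) (tt N14597 (iv5 D48109)) (tt N55298 (iv6 F159345)) (tt N29428 (iv7 F76141)))
theorem Q29314 : ∀ i, i < 29314 → P i := stepQ 29313 Q29313 (allL N29313 (tt N14601 (iv1 F75594)) (tt N14599 (iv0 D48113)) (tt N48617 F292838) (tt N55300 D103921) (tt N25751 F75593) (tt N25730 (iv5 F293843)) (tt N48608 F292839) (tt N25750 (iv7 F75596)))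
theorem Q29315 : ∀ i, i < 29315 → P i := stepQ 29314 Q29314 (allL N29314 (tt N55301 D103924) (tt N55302 D103925) (tt N55303 D103926) (tt N14599 (iv3 D48115)) (tt N26208 F293940) (tt N55304 D103927) (tt N26206 (iv6 F294173)) (tt N51109 (iv7 F143567)))
theorem Q29316 : ∀ i, i < 29316 → P i := stepQ 29315 Q29315 (allL N29315 (tt N29198 F293564) (tt N29349 F293565) (tt N48618 F293566) (tt N55304 (iv3 F159362)) (tt N50618 (iv4 F294498)) (tt N14599 (iv5 D48116)) (tt N55305 D103931) (tt N48883 F293567))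
theorem Q29317 : ∀ i, i < 29317 → P i := stepQ 29316 Q29316 (allL N29316 (tt N27416 F75616) (tt N27096 (iv0 F291478)) (tt N49829 (iv2 F137353)) (tt N14602 F75612) (tt N48957 (iv4 F134939)) (tt N26473 F291282) (tt N14600 (iv6 D48120)) (tt N26777 F291283))
theorem Q29318 : ∀ i, i < 29318 → P i := stepQ 29317 Q29317 (allL N29317 (tt N48780 (iv1 F294887)) (tt N53794 (iv0 F294888)) (tt N55306 D103939) (tt N14601 (iv3 D48121)) (tt N44091 (iv4 F325725)) (tt N55307 D103940) (tt N55308 D103941) (tt N48614 F294033))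
theorem Q29319 : ∀ i, i < 29319 → P i := stepQ 29318 Q29318 (allL N29318 (tt N29349 F293560) (tt N29198 F293561) (tt N48883 F293562) (tt N55307 (iv3 F159386)) (tt N50619 (iv4 F294496)) (tt N14601 (iv5 D48122)) (tt N55309 D103942) (tt N48618 F293563))
theorem Q29320 : ∀ i, i < 29320 → P i := stepQ 29319 Q29319 (allL N29319 (tt N48605 F291920) (tt N27560 F291921) (tt N27200 F291922) (tt N55308 (iv3 F159387)) (tt N14602 F75617) (tt N48851 (iv5 F293044)) (tt N14601 (iv6 D48123)) (tt N27201 F291923))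
theorem Q29321 : ∀ i, i < 29321 → P i := stepQ 29320 Q29320 (allL N29320 (tt N55310 D103945) (tt N55311 D103946) (tt N55312 D103947) (tt N14603 (iv3 D48124)) (tt N28552 F75619) (tt N50612 (iv5 F293198)) (tt N48538 F292114) (tt N55145 (iv7 F159019)))
theorem Q29322 : ∀ i, i < 29322 → P i := stepQ 29321 Q29321 (allL N29321 (tt N55313 D103955) (tt N55314 D103956) (tt N55315 D103957) (tt N14604 (iv3 D48127)) (tt N50847 (iv4 F142760)) (tt N50615 (iv5 F292868)) (tt N55316 D103959) (tt N48581 (iv7 F292870)))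
theorem Q29323 : ∀ i, i < 29323 → P i := stepQ 29322 Q29322 (allL N29322 (tt N26337 (iv1 F134881)) (tt N27192 (iv0 F291142)) (tt N27197 (iv2 F291136)) (tt N55316 (iv3 F159416)) (tt N26245 F290764) (tt N28705 (iv5 F291143)) (tt N14604 (iv6 D48129)) (tt N26239 (iv7 F291144)))
theorem Q29324 : ∀ i, i < 29324 → P i := stepQ 29323 Q29323 (allL N29323 (tt N25732 (iv1 F294320)) (tt N50633 (iv0 F294325)) (tt N53480 (iv2 F294718)) (tt N55317 D103984) (tt N14605 (iv4 D48137)) (tt N55139 (iv5 F158993)) (tt N55318 D103985) (tt N53478 (iv7 F294723)))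
theorem Q29325 : ∀ i, i < 29325 → P i := stepQ 29324 Q29324 (allL N29324 (tt N55319 D103986) (tt N55320 D103987) (tt N53481 (iv2 F294453)) (tt N52161 (iv3 F294745)) (tt N55318 (iv4 F159434)) (tt N25602 F75625) (tt N14605 (iv6 D48138)) (tt N55321 D103988))
theorem Q29326 : ∀ i, i < 29326 → P i := stepQ 29325 Q29325 (allL N29325 (tt N26461 (iv1 F292990)) (tt N14607 (iv0 D48147)) (tt N26653 (iv2 F292896)) (tt N55322 D104006) (tt N53775 (iv4 F154599)) (tt N28125 F75643) (tt N28908 (iv6 F75646)) (tt N26652 (iv7 F292899)))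
theorem Q29327 : ∀ i, i < 29327 → P i := stepQ 29326 Q29326 (allL N29326 (tt N14607 (iv1 D48148)) (tt N26461 F293221) (tt N26652 F293222) (tt N55323 D104007) (tt N53774 (iv4 F154596)) (tt N26231 F75650) (tt N55324 D104008) (tt N26653 F293223))
theorem Q29328 : ∀ i, i < 29328 → P i := stepQ 29327 Q29327 (allL N29327 (tt N55325 D104009) (tt N55326 D104010) (tt N26602 (iv2 F294349)) (tt N55327 D104011) (tt N14607 (iv4 D48149)) (tt N26453 F293969) (tt N55328 D104013) (tt N26654 (iv7 F294353)))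
theorem Q29329 : ∀ i, i < 29329 → P i := stepQ 29328 Q29328 (allL N29328 (tt N55329 D104014) (tt N55330 D104015) (tt N28547 F75654) (tt N26735 F75655) (tt N55328 (iv4 F159477)) (tt N54723 (iv5 F157470)) (tt N14607 (iv6 D48150)) (tt N55331 D104016))
theorem Q29330 : ∀ i, i < 29330 → P i := stepQ 29329 Q29329 (allL N29329 (tt N14608 (iv1 D48162)) (tt N26431 F292144) (tt N26593 F292145) (tt N55332 D104040) (tt N26360 F292146) (tt N26451 (iv5 F292987)) (tt N27250 F292147) (tt N26597 (iv7 F292210)))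
theorem Q29331 : ∀ i, i < 29331 → P i := stepQ 29330 Q29330 (allL N29330 (tt N43828 (iv1 F308291)) (tt N43709 (iv0 F308292)) (tt N25629 F75722) (tt N47834 (iv3 F129886)) (tt N43624 F306384) (tt N55333 D104118) (tt N14609 (iv6 D48184)) (tt N43622 (iv7 F308290)))
theorem Q29332 : ∀ i, i < 29332 → P i := stepQ 29331 Q29331 (allL N29331 (tt N51464 (iv1 F145065)) (tt N51466 (iv0 F145070)) (tt N25711 F75723) (tt N50246 (iv3 F139327)) (tt N55334 D104120) (tt N14610 (iv5 D48185)) (tt N55333 (iv6 F159592)) (tt N52451 (iv7 F292405)))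
theorem Q29333 : ∀ i, i < 29333 → P i := stepQ 29332 Q29332 (allL N29332 (tt N45702 (iv1 F305398)) (tt N45701 (iv0 F306419)) (tt N21735 F304632) (tt N21976 F75725) (tt N14612 F75726) (tt N18574 (iv5 F306646)) (tt N14611 (iv6 D48186)) (tt N45699 (iv7 F306433)))
theorem Q29334 : ∀ i, i < 29334 → P i := stepQ 29333 Q29333 (allL N29333 (tt N25762 (iv1 F75732)) (tt N14612 (iv0 D48187)) (tt N25759 (iv2 F307373)) (tt N55335 D104126) (tt N48428 (iv4 F232862)) (tt N55336 D104128) (tt N55337 D104129) (tt N25760 (iv7 F307379)))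
theorem Q29335 : ∀ i, i < 29335 → P i := stepQ 29334 Q29334 (allL N29334 (tt N14612 (iv1 D48188)) (tt N25762 F75727) (tt N25760 (iv2 F307378)) (tt N53179 (iv3 F281643)) (tt N48429 (iv4 F281642)) (tt N55338 D104133) (tt N55339 D104134) (tt N25759 (iv7 F307374)))
theorem Q29336 : ∀ i, i < 29336 → P i := stepQ 29335 Q29335 (allL N29335 (tt N35345 (iv1 F306638)) (tt N43712 (iv0 F306641)) (tt N25761 F75728) (tt N53994 (iv3 F155720)) (tt N55340 D104137) (tt N14612 (iv5 D48189)) (tt N14615 F75729) (tt N43710 (iv7 F306636)))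
theorem Q29337 : ∀ i, i < 29337 → P i := stepQ 29336 Q29336 (allL N29336 (tt N25760 (iv1 F75733)) (tt N25759 F75734) (tt N25762 F75730) (tt N53995 (iv3 F155723)) (tt N45699 (iv4 F306432)) (tt N43710 (iv5 F306635)) (tt N25724 F75731) (tt N14612 (iv7 D48190)))
theorem Q29338 : ∀ i, i < 29338 → P i := stepQ 29337 Q29337 (allL N29337 (tt N55341 D104139) (tt N51699 (iv0 F159078)) (tt N53182 (iv2 F152887)) (tt N14613 (iv3 D48191)) (tt N28586 F75735) (tt N55342 D104140) (tt N27331 F293905) (tt N25765 F75736))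
theorem Q29339 : ∀ i, i < 29339 → P i := stepQ 29338 Q29338 (allL N29338 (tt N49877 (iv1 F137722)) (tt N54936 (iv0 F294030)) (tt N25764 F75737) (tt N55342 (iv3 F159628)) (tt N55343 D104143) (tt N14613 (iv5 D48192)) (tt N55344 D104144) (tt N25766 F75738))
theorem Q29340 : ∀ i, i < 29340 → P i := stepQ 29339 Q29339 (allL N29339 (tt N54936 (iv1 F294031)) (tt N49877 (iv0 F137723)) (tt N25766 F75742) (tt N22547 F329482) (tt N22549 (iv4 F329672)) (tt N14614 (iv5 D48194)) (tt N55345 D104146) (tt N25764 F75743))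
theorem Q29341 : ∀ i, i < 29341 → P i := stepQ 29340 Q29340 (allL N29340 (tt N25771 (iv1 F75744)) (tt N14615 (iv0 D48195)) (tt N25768 (iv2 F133446)) (tt N55346 D104147) (tt N44064 F328897) (tt N29193 F292852) (tt N55347 D104148) (tt N25769 F133445))
theorem Q29342 : ∀ i, i < 29342 → P i := stepQ 29341 Q29341 (allL N29341 (tt N14615 (iv1 D48196)) (tt N25771 F75745) (tt N25769 F133441) (tt N34360 F328864) (tt N34362 F328865) (tt N29194 F294143) (tt N55348 D104149) (tt N25768 (iv7 F133444)))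
theorem Q29343 : ∀ i, i < 29343 → P i := stepQ 29342 Q29342 (allL N29342 (tt N54095 (iv1 F155936)) (tt N51115 (iv0 F294650)) (tt N25770 F75746) (tt N55046 (iv3 F365288)) (tt N14615 (iv4 D48197)) (tt N54927 (iv5 F293994)) (tt N55340 (iv6 F159618)) (tt N51191 (iv7 F143907)))
theorem Q29344 : ∀ i, i < 29344 → P i := stepQ 29343 Q29343 (allL N29343 (tt N53734 (iv1 F272858)) (tt N37584 (iv0 F307755)) (tt N17194 (iv2 F307602)) (tt N14619 F75757) (tt N15226 F305754) (tt N55349 D104167) (tt N14616 (iv6 D48202)) (tt N22831 (iv7 F307761)))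
theorem Q29345 : ∀ i, i < 29345 → P i := stepQ 29344 Q29344 (allL N29344 (tt N53793 (iv1 F154632)) (tt N53223 (iv0 F153053)) (tt N53504 (iv2 F153877)) (tt N14621 F75758) (tt N55350 D104169) (tt N14617 (iv5 D48203)) (tt N55349 (iv6 F159693)) (tt N50632 (iv7 F140428)))
theorem Q29346 : ∀ i, i < 29346 → P i := stepQ 29345 Q29345 (allL N29345 (tt N25724 (iv1 F75770)) (tt N14619 (iv0 D48206)) (tt N25721 (iv2 F308497)) (tt N53689 (iv3 F238655)) (tt N48443 (iv4 F238654)) (tt N55351 D104178) (tt N55352 D104179) (tt N25722 (iv7 F308504)))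
theorem Q29347 : ∀ i, i < 29347 → P i := stepQ 29346 Q29346 (allL N29346 (tt N14619 (iv1 D48207)) (tt N25724 F75765) (tt N25722 (iv2 F308503)) (tt N55353 D104181) (tt N22862 F305364) (tt N55354 D104183) (tt N22860 (iv6 F307399)) (tt N25721 (iv7 F308498)))
theorem Q29348 : ∀ i, i < 29348 → P i := stepQ 29347 Q29347 (allL N29347 (tt N35396 (iv1 F307400)) (tt N35383 (iv0 F307401)) (tt N25723 F75766) (tt N55349 (iv3 F159692)) (tt N55355 D104187) (tt N14619 (iv5 D48208)) (tt N14621 F75767) (tt N55356 D104188))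
theorem Q29349 : ∀ i, i < 29349 → P i := stepQ 29348 Q29348 (allL N29348 (tt N25722 (iv1 F75771)) (tt N25721 F75772) (tt N25724 F75768) (tt N22831 (iv3 F307760)) (tt N22670 F307268) (tt N55356 (iv5 F159714)) (tt N25762 F75769) (tt N14619 (iv7 D48209)))
theorem Q29350 : ∀ i, i < 29350 → P i := stepQ 29349 Q29349 (allL N29349 (tt N29315 (iv1 F293565)) (tt N29318 (iv0 F293560)) (tt N25726 F75773) (tt N50319 (iv3 F139507)) (tt N55357 D104189) (tt N14620 (iv5 D48210)) (tt N55358 D104190) (tt N25728 F75774))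
theorem Q29351 : ∀ i, i < 29351 → P i := stepQ 29350 Q29350 (allL N29350 (tt N25733 (iv1 F75775)) (tt N14621 (iv0 D48211)) (tt N25730 (iv2 F133396)) (tt N53695 F154441) (tt N49003 (iv4 F135025)) (tt N48617 (iv5 F133586)) (tt N55359 D104191) (tt N25731 F133395))
theorem Q29352 : ∀ i, i < 29352 → P i := stepQ 29351 Q29351 (allL N29351 (tt N14621 (iv1 D48212)) (tt N25733 F75776) (tt N25731 F133393) (tt N55360 D104192) (tt N49004 (iv4 F135021)) (tt N25750 F292876) (tt N55361 D104193) (tt N25730 (iv7 F133394)))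
theorem Q29353 : ∀ i, i < 29353 → P i := stepQ 29352 Q29352 (allL N29352 (tt N53478 (iv1 F153804)) (tt N53480 (iv0 F153814)) (tt N25732 F75777) (tt N50312 (iv3 F345165)) (tt N14621 (iv4 D48213)) (tt N55143 (iv5 F294317)) (tt N55355 (iv6 F159712)) (tt N50633 (iv7 F140430)))
theorem Q29354 : ∀ i, i < 29354 → P i := stepQ 29353 Q29353 (allL N29353 (tt N48731 (iv1 F134171)) (tt N52452 F292809) (tt N14627 F75784) (tt N53506 (iv3 F153880)) (tt N52443 (iv4 F293813)) (tt N14622 (iv5 D48217)) (tt N55362 D104206) (tt N14630 F75785))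
theorem Q29355 : ∀ i, i < 29355 → P i := stepQ 29354 Q29354 (allL N29354 (tt N55363 D104220) (tt N54914 (iv0 F343080)) (tt N29391 (iv2 F290793)) (tt N14623 (iv3 D48225)) (tt N29354 F75810) (tt N52526 (iv5 F290794)) (tt N25603 F75811) (tt N51675 (iv7 F290774)))
theorem Q29356 : ∀ i, i < 29356 → P i := stepQ 29355 Q29355 (allL N29355 (tt N53680 (iv1 F154395)) (tt N53679 F154394) (tt N53433 (iv2 F153672)) (tt N14625 (iv3 D48232)) (tt N27647 F75824) (tt N55364 D104229) (tt N25874 F75825) (tt N25710 F75826))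
theorem Q29357 : ∀ i, i < 29357 → P i := stepQ 29356 Q29356 (allL N29356 (tt N51466 (iv1 F145071)) (tt N51464 (iv0 F145064)) (tt N52451 (iv2 F292402)) (tt N55364 (iv3 F159813)) (tt N55365 D104230) (tt N14625 (iv5 D48233)) (tt N55366 D104231) (tt N25711 F75827))
theorem Q29358 : ∀ i, i < 29358 → P i := stepQ 29357 Q29357 (allL N29357 (tt N49136 F153587) (tt N25713 F289720) (tt N14626 (iv2 D48235)) (tt N53429 F153659) (tt N52731 (iv4 F150999)) (tt N20160 (iv5 F327684)) (tt N55367 D104235) (tt N20159 (iv7 F327680)))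
theorem Q29359 : ∀ i, i < 29359 → P i := stepQ 29358 Q29358 (allL N29358 (tt N20134 (iv1 F328538)) (tt N20132 (iv0 F328539)) (tt N20160 F328155) (tt N14627 F75829) (tt N55368 D104237) (tt N14626 (iv5 D48236)) (tt N20150 (iv6 F328547)) (tt N19901 F328156))
theorem Q29360 : ∀ i, i < 29360 → P i := stepQ 29359 Q29359 (allL N29359 (tt N54681 F157413) (tt N55369 D104239) (tt N55367 (iv2 F159828)) (tt N14628 F75830) (tt N50558 F292498) (tt N55370 D104240) (tt N14626 (iv6 D48237)) (tt N27329 F292499))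
theorem Q29361 : ∀ i, i < 29361 → P i := stepQ 29360 Q29360 (allL N29360 (tt N14630 (iv1 F75832)) (tt N14627 (iv0 D48238)) (tt N48731 (iv2 F134170)) (tt N55371 D104241) (tt N55372 D104242) (tt N27560 F75831) (tt N55373 D104243) (tt N52452 F292168))
theorem Q29362 : ∀ i, i < 29362 → P i := stepQ 29361 Q29361 (allL N29361 (tt N14627 (iv1 D48239)) (tt N14630 F75833) (tt N52452 F292171) (tt N53437 F153695) (tt N55374 D104244) (tt N48605 (iv5 F134175)) (tt N55375 D104245) (tt N48731 F134174))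
theorem Q29363 : ∀ i, i < 29363 → P i := stepQ 29362 Q29362 (allL N29362 (tt N54179 (iv1 F156181)) (tt N54181 (iv0 F156185)) (tt N52443 (iv2 F293812)) (tt N55376 D104246) (tt N14627 (iv4 D48240)) (tt N27439 F293013) (tt N55377 D104247) (tt N52453 (iv7 F293850)))
theorem Q29364 : ∀ i, i < 29364 → P i := stepQ 29363 Q29363 (allL N29363 (tt N55378 D104248) (tt N55379 D104249) (tt N55362 (iv2 F159760)) (tt N20150 F328972) (tt N55377 (iv4 F159847)) (tt N55380 D104250) (tt N14627 (iv6 D48241)) (tt N20144 (iv7 F329323)))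
theorem Q29365 : ∀ i, i < 29365 → P i := stepQ 29364 Q29364 (allL N29364 (tt N22220 F309398) (tt N48693 F134110) (tt N48691 (iv2 F134108)) (tt N55370 (iv3 F159833)) (tt N47915 F324806) (tt N14628 (iv5 D48243)) (tt N55380 (iv6 F159848)) (tt N27330 F292500))
theorem Q29366 : ∀ i, i < 29366 → P i := stepQ 29365 Q29365 (allL N29365 (tt N54693 (iv1 F157425)) (tt N53440 (iv0 F156187)) (tt N20156 F328973) (tt N14630 F75864) (tt N55381 D104276) (tt N14629 (iv5 D48257)) (tt N20153 (iv6 F329329)) (tt N53506 (iv7 F153881)))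
theorem Q29367 : ∀ i, i < 29367 → P i := stepQ 29366 Q29366 (allL N29366 (tt N54181 (iv1 F156186)) (tt N54179 (iv0 F156180)) (tt N52453 (iv2 F293849)) (tt N55382 D104279) (tt N14630 (iv4 D48259)) (tt N52444 F293014) (tt N55383 D104280) (tt N52443 (iv7 F293814)))
theorem Q29368 : ∀ i, i < 29368 → P i := stepQ 29367 Q29367 (allL N29367 (tt N20140 (iv1 F329342)) (tt N20139 (iv0 F329343)) (tt N19898 F328985) (tt N20153 (iv3 F329328)) (tt N55383 (iv4 F159902)) (tt N48656 (iv5 F294517)) (tt N14630 (iv6 D48260)) (tt N20141 (iv7 F329350)))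
theorem Q29369 : ∀ i, i < 29369 → P i := stepQ 29368 Q29368 (allL N29368 (tt N51638 (iv1 F292373)) (tt N55384 D104297) (tt N55385 D104298) (tt N14632 (iv3 D48270)) (tt N50354 F291491) (tt N55386 D104299) (tt N27555 (iv6 F292374)) (tt N50347 (iv7 F291702)))
theorem Q29370 : ∀ i, i < 29370 → P i := stepQ 29369 Q29369 (allL N29369 (tt N27770 (iv1 F292164)) (tt N27773 (iv0 F292152)) (tt N51874 (iv2 F291919)) (tt N55386 (iv3 F159919)) (tt N54224 (iv4 F156257)) (tt N14632 (iv5 D48271)) (tt N55387 D104303) (tt N51873 (iv7 F291917)))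
theorem Q29371 : ∀ i, i < 29371 → P i := stepQ 29370 Q29370 (allL N29370 (tt N54945 (iv1 F367167)) (tt N55388 D104315) (tt N55389 D104316) (tt N14633 (iv3 D48278)) (tt N49192 (iv4 F290797)) (tt N55390 D104317) (tt N29460 (iv6 F290798)) (tt N53611 (iv7 F290772)))
theorem Q29372 : ∀ i, i < 29372 → P i := stepQ 29371 Q29371 (allL N29371 (tt N27780 (iv1 F290679)) (tt N26347 (iv0 F290677)) (tt N49901 F290651) (tt N55390 (iv3 F159944)) (tt N54215 (iv4 F156254)) (tt N14633 (iv5 D48279)) (tt N52080 (iv6 F290799)) (tt N49900 (iv7 F290773)))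
theorem Q29373 : ∀ i, i < 29373 → P i := stepQ 29372 Q29372 (allL N29372 (tt N52444 (iv1 F291906)) (tt N27439 (iv0 F291903)) (tt N52440 F291218) (tt N55391 D104350) (tt N14634 (iv4 D48290)) (tt N54117 (iv5 F156006)) (tt N55392 D104351) (tt N52441 F291219))
theorem Q29374 : ∀ i, i < 29374 → P i := stepQ 29373 Q29373 (allL N29373 (tt N55393 D104352) (tt N55394 D104353) (tt N52527 F291220) (tt N29423 (iv3 F291913)) (tt N55392 (iv4 F159970)) (tt N25923 F75899) (tt N14634 (iv6 D48291)) (tt N55395 D104354))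
theorem Q29375 : ∀ i, i < 29375 → P i := stepQ 29374 Q29374 (allL N29374 (tt N26907 (iv1 F75902)) (tt N14636 (iv0 D48293)) (tt N27145 (iv2 F75905)) (tt N55396 D104356) (tt N55397 D104357) (tt N27090 F75901) (tt N55398 D104358) (tt N29378 (iv7 F75934)))
theorem Q29376 : ∀ i, i < 29376 → P i := stepQ 29375 Q29375 (allL N29375 (tt N14636 (iv1 D48294)) (tt N26907 F75906) (tt N29378 F75932) (tt N55399 D104359) (tt N55400 D104360) (tt N27146 (iv5 F75908)) (tt N55401 D104361) (tt N27145 F75907))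
theorem Q29377 : ∀ i, i < 29377 → P i := stepQ 29376 Q29376 (allL N29376 (tt N55402 D104362) (tt N55403 D104363) (tt N49759 F292649) (tt N55404 D104364) (tt N14636 (iv4 D48295)) (tt N49288 (iv5 F293257)) (tt N55405 D104366) (tt N29379 (iv7 F75935)))
theorem Q29378 : ∀ i, i < 29378 → P i := stepQ 29377 Q29377 (allL N29377 (tt N55406 D104367) (tt N55407 D104368) (tt N50206 (iv2 F139221)) (tt N25935 F75909) (tt N55405 (iv4 F159998)) (tt N51494 (iv5 F145319)) (tt N14636 (iv6 D48296)) (tt N55408 D104369))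
theorem Q29379 : ∀ i, i < 29379 → P i := stepQ 29378 Q29378 (allL N29378 (tt N26496 (iv1 F75933)) (tt N14637 (iv0 D48311)) (tt N29375 (iv2 F75932)) (tt N55409 D104407) (tt N55410 D104408) (tt N50764 (iv5 F142296)) (tt N51022 (iv6 F143276)) (tt N29374 F75934))
theorem Q29380 : ∀ i, i < 29380 → P i := stepQ 29379 Q29379 (allL N29379 (tt N55411 D104409) (tt N51440 (iv0 F144901)) (tt N50923 (iv2 F143049)) (tt N55412 D104410) (tt N14637 (iv4 D48312)) (tt N55413 D104411) (tt N55414 D104412) (tt N29376 F75935))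
theorem Q29381 : ∀ i, i < 29381 → P i := stepQ 29380 Q29380 (allL N29380 (tt N55415 D104413) (tt N32549 (iv0 F139352)) (tt N50924 (iv2 F143051)) (tt N25952 F75936) (tt N55414 (iv4 F160071)) (tt N26299 F293441) (tt N14637 (iv6 D48313)) (tt N55416 D104415))
theorem Q29382 : ∀ i, i < 29382 → P i := stepQ 29381 Q29381 (allL N29381 (tt N26227 F292189) (tt N26230 (iv0 F292734)) (tt N50208 (iv2 F139228)) (tt N29472 F294284) (tt N55417 D104445) (tt N14638 (iv5 D48326)) (tt N55418 D104446) (tt N28466 F292190))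
theorem Q29383 : ∀ i, i < 29383 → P i := stepQ 29382 Q29382 (allL N29382 (tt N27601 (iv1 F76027)) (tt N14639 (iv0 D48368)) (tt N27606 F160261) (tt N50880 F142879) (tt N26477 F76026) (tt N55419 D104582) (tt N55061 (iv6 F251866)) (tt N27605 F160262))
theorem Q29384 : ∀ i, i < 29384 → P i := stepQ 29383 Q29383 (allL N29383 (tt N14639 (iv1 D48369)) (tt N27601 F76032) (tt N27605 (iv2 F160257)) (tt N55420 D104585) (tt N26476 (iv4 F76028)) (tt N55421 D104586) (tt N55422 D104587) (tt N27606 (iv7 F160258)))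
theorem Q29385 : ∀ i, i < 29385 → P i := stepQ 29384 Q29384 (allL N29384 (tt N27606 (iv1 F76033)) (tt N27605 F76031) (tt N14639 (iv2 D48370)) (tt N29430 (iv3 F76172)) (tt N49261 (iv4 F135560)) (tt N55423 D104588) (tt N51632 (iv6 F146953)) (tt N27601 F76030))
theorem Q29386 : ∀ i, i < 29386 → P i := stepQ 29385 Q29385 (allL N29385 (tt N55424 D104589) (tt N55425 D104590) (tt N55423 (iv2 F160240)) (tt N14640 F76034) (tt N55426 D104591) (tt N14639 (iv5 D48371)) (tt N55427 D104592) (tt N27607 F76035))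
theorem Q29387 : ∀ i, i < 29387 → P i := stepQ 29386 Q29386 (allL N29386 (tt N49913 (iv1 F137919)) (tt N49923 (iv0 F137943)) (tt N29432 (iv2 F76178)) (tt N55428 D104593) (tt N14640 (iv4 D48372)) (tt N27802 F76037) (tt N55429 D104594) (tt N27623 F76036))
theorem Q29388 : ∀ i, i < 29388 → P i := stepQ 29387 Q29387 (allL N29387 (tt N55430 D104595) (tt N55431 D104596) (tt N29433 (iv2 F76181)) (tt N55427 (iv3 F160248)) (tt N55429 (iv4 F160251)) (tt N51673 (iv5 F147000)) (tt N14640 (iv6 D48373)) (tt N55432 D104597))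
theorem Q29389 : ∀ i, i < 29389 → P i := stepQ 29388 Q29388 (allL N29388 (tt N27659 (iv1 F76038)) (tt N14641 (iv0 D48374)) (tt N29434 F156237) (tt N53404 (iv3 F153590)) (tt N55433 D104598) (tt N55434 D104599) (tt N29434 F289681) (tt N29216 F289629))
theorem Q29390 : ∀ i, i < 29390 → P i := stepQ 29389 Q29389 (allL N29389 (tt N24889 F335305) (tt N55435 D104605) (tt N51674 (iv2 F147001)) (tt N14642 F76040) (tt N55436 D104606) (tt N14641 (iv5 D48376)) (tt N29410 F340372) (tt N29435 (iv7 F76186)))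
theorem Q29391 : ∀ i, i < 29391 → P i := stepQ 29390 Q29390 (allL N29390 (tt N54914 (iv1 F343081)) (tt N55363 (iv0 F290791)) (tt N51675 (iv2 F147003)) (tt N14643 F76041) (tt N29390 F76042) (tt N52551 (iv5 F149926)) (tt N14641 (iv6 D48377)) (tt N29391 (iv7 F76046)))
theorem Q29392 : ∀ i, i < 29392 → P i := stepQ 29391 Q29391 (allL N29391 (tt N55437 D104615) (tt N55118 (iv0 F343082)) (tt N29354 F290793) (tt N14644 (iv3 D48380)) (tt N29391 F76045) (tt N51931 (iv5 F147459)) (tt N48678 (iv6 F291222)) (tt N29390 F76046))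
theorem Q29393 : ∀ i, i < 29393 → P i := stepQ 29392 Q29392 (allL N29392 (tt N29239 (iv1 F76047)) (tt N14645 (iv0 D48381)) (tt N29241 (iv2 F153413)) (tt N29250 (iv3 F151057)) (tt N55438 D104618) (tt N55439 D104619) (tt N55000 (iv6 F251254)) (tt N29240 F153412))
theorem Q29394 : ∀ i, i < 29394 → P i := stepQ 29393 Q29393 (allL N29393 (tt N14645 (iv1 D48382)) (tt N29239 (iv0 F76049)) (tt N29240 F153410) (tt N53870 (iv3 F289596)) (tt N28296 (iv4 F76048)) (tt N55440 D104621) (tt N55441 D104622) (tt N29241 (iv7 F153411)))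
theorem Q29395 : ∀ i, i < 29395 → P i := stepQ 29394 Q29394 (allL N29394 (tt N29241 (iv1 F76052)) (tt N29240 F76051) (tt N14645 (iv2 D48383)) (tt N29440 (iv3 F76196)) (tt N53430 (iv4 F153664)) (tt N55442 D104623) (tt N54942 (iv6 F158378)) (tt N29239 F76050))
theorem Q29396 : ∀ i, i < 29396 → P i := stepQ 29395 Q29395 (allL N29395 (tt N55443 D104624) (tt N55444 D104625) (tt N55442 (iv2 F160320)) (tt N14647 F76053) (tt N55445 D104626) (tt N14645 (iv5 D48384)) (tt N55446 D104627) (tt N29242 F76054))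
theorem Q29397 : ∀ i, i < 29397 → P i := stepQ 29396 Q29396 (allL N29396 (tt N46941 F326710) (tt N52236 (iv0 F148105)) (tt N29442 (iv2 F76203)) (tt N55447 D104628) (tt N14647 (iv4 D48385)) (tt N27839 F76056) (tt N55448 D104629) (tt N29244 F76055))
theorem Q29398 : ∀ i, i < 29398 → P i := stepQ 29397 Q29397 (allL N29397 (tt N55449 D104630) (tt N55450 D104631) (tt N29443 (iv2 F76206)) (tt N55446 (iv3 F160329)) (tt N55448 (iv4 F160332)) (tt N54951 (iv5 F158392)) (tt N14647 (iv6 D48386)) (tt N55451 D104632))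
theorem Q29399 : ∀ i, i < 29399 → P i := stepQ 29398 Q29398 (allL N29398 (tt N27660 (iv1 F76058)) (tt N14648 (iv0 D48387)) (tt N27529 F76062) (tt N55452 D104633) (tt N55453 D104634) (tt N26327 (iv5 F76060)) (tt N55454 D104635) (tt N29444 (iv7 F76209)))
theorem Q29400 : ∀ i, i < 29400 → P i := stepQ 29399 Q29399 (allL N29399 (tt N14648 (iv1 D48388)) (tt N27660 F76064) (tt N29444 F76207) (tt N55455 D104636) (tt N55456 D104637) (tt N26328 (iv5 F76066)) (tt N55457 D104638) (tt N27529 F76065))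
theorem Q29401 : ∀ i, i < 29401 → P i := stepQ 29400 Q29400 (allL N29400 (tt N55458 D104639) (tt N23994 F328692) (tt N49636 (iv2 F293496)) (tt N55459 D104641) (tt N14648 (iv4 D48389)) (tt N49614 (iv5 F293374)) (tt N55460 D104643) (tt N29445 (iv7 F76210)))
theorem Q29402 : ∀ i, i < 29402 → P i := stepQ 29401 Q29401 (allL N29401 (tt N55461 D104644) (tt N55462 D104645) (tt N51676 (iv2 F147007)) (tt N14652 F76067) (tt N55460 (iv4 F160357)) (tt N52528 (iv5 F149875)) (tt N14648 (iv6 D48390)) (tt N55463 D104646))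
theorem Q29403 : ∀ i, i < 29403 → P i := stepQ 29402 Q29402 (allL N29402 (tt N55439 (iv1 F160315)) (tt N55440 (iv0 F160314)) (tt N55464 D104647) (tt N14649 (iv3 D48391)) (tt N55465 D104648) (tt N49968 (iv5 F138103)) (tt N55466 D104649) (tt N29447 (iv7 F76217)))
theorem Q29404 : ∀ i, i < 29404 → P i := stepQ 29403 Q29403 (allL N29403 (tt N52234 (iv1 F148099)) (tt N52231 (iv0 F148080)) (tt N29451 (iv2 F76224)) (tt N55467 D104650) (tt N14649 (iv4 D48392)) (tt N49951 (iv5 F138063)) (tt N55468 D104651) (tt N29448 (iv7 F76219)))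
theorem Q29405 : ∀ i, i < 29405 → P i := stepQ 29404 Q29404 (allL N29404 (tt N55469 D104652) (tt N55470 D104653) (tt N29452 (iv2 F76226)) (tt N55466 (iv3 F160361)) (tt N55468 (iv4 F160362)) (tt N49996 (iv5 F291965)) (tt N14649 (iv6 D48393)) (tt N55471 D104654))
theorem Q29406 : ∀ i, i < 29406 → P i := stepQ 29405 Q29405 (allL N29405 (tt N54953 (iv1 F160665)) (tt N54955 (iv0 F160666)) (tt N55472 D104657) (tt N14650 (iv3 D48394)) (tt N55473 D104658) (tt N49969 (iv5 F138106)) (tt N55474 D104659) (tt N29450 (iv7 F76223)))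
theorem Q29407 : ∀ i, i < 29407 → P i := stepQ 29406 Q29406 (allL N29406 (tt N52231 (iv1 F148081)) (tt N52234 (iv0 F148098)) (tt N29448 (iv2 F76218)) (tt N55475 D104660) (tt N14650 (iv4 D48395)) (tt N49948 (iv5 F138057)) (tt N47147 F343703) (tt N29451 (iv7 F76225)))
theorem Q29408 : ∀ i, i < 29408 → P i := stepQ 29407 Q29407 (allL N29407 (tt N55476 D104662) (tt N55477 D104663) (tt N29449 (iv2 F76220)) (tt N55474 (iv3 F160363)) (tt N47147 F343702) (tt N54926 (iv5 F158292)) (tt N14650 (iv6 D48396)) (tt N55478 D104664))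
theorem Q29409 : ∀ i, i < 29409 → P i := stepQ 29408 Q29408 (allL N29408 (tt N29415 F340349) (tt N14651 (iv0 D48397)) (tt N29412 F340360) (tt N55479 D104665) (tt N49171 F135303) (tt N49954 (iv5 F138075)) (tt N55480 D104666) (tt N29413 F340361))
theorem Q29410 : ∀ i, i < 29410 → P i := stepQ 29409 Q29409 (allL N29409 (tt N14651 (iv1 D48398)) (tt N29415 F340348) (tt N29413 F340353) (tt N55481 D104667) (tt N49170 (iv4 F135293)) (tt N49953 (iv5 F138067)) (tt N55482 D104668) (tt N29412 F340354))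
theorem Q29411 : ∀ i, i < 29411 → P i := stepQ 29410 Q29410 (allL N29410 (tt N47235 (iv1 F329648)) (tt N55483 D104670) (tt N55484 D104671) (tt N14651 (iv3 D48399)) (tt N55459 (iv4 F160353)) (tt N55485 D104672) (tt N29389 (iv6 F340372)) (tt N29453 (iv7 F76231)))
theorem Q29412 : ∀ i, i < 29412 → P i := stepQ 29411 Q29411 (allL N29411 (tt N27802 (iv1 F76069)) (tt N49885 (iv0 F137860)) (tt N29414 (iv2 F340370)) (tt N55485 (iv3 F160366)) (tt N27838 F76068) (tt N14651 (iv5 D48400)) (tt N27838 (iv6 F340373)) (tt N29454 (iv7 F76234)))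
theorem Q29413 : ∀ i, i < 29413 → P i := stepQ 29412 Q29412 (allL N29412 (tt N14671 F340345) (tt N14652 (iv0 D48402)) (tt N29408 (iv2 F340360)) (tt N55486 D104680) (tt N27910 (iv4 F340363)) (tt N49910 (iv5 F340364)) (tt N55487 D104683) (tt N29409 (iv7 F340354)))
theorem Q29414 : ∀ i, i < 29414 → P i := stepQ 29413 Q29413 (allL N29413 (tt N14652 (iv1 D48403)) (tt N14671 F340344) (tt N29409 (iv2 F340353)) (tt N55488 D104685) (tt N49921 (iv4 F340356)) (tt N49911 (iv5 F340357)) (tt N55489 D104688) (tt N29408 (iv7 F340361)))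
theorem Q29415 : ∀ i, i < 29415 → P i := stepQ 29414 Q29414 (allL N29414 (tt N27412 (iv1 F340375)) (tt N49931 (iv0 F340376)) (tt N29411 F340370) (tt N52528 (iv3 F149874)) (tt N14655 (iv4 F340377)) (tt N14652 (iv5 D48404)) (tt N14655 F76071) (tt N29422 F340371))
theorem Q29416 : ∀ i, i < 29416 → P i := stepQ 29415 Q29415 (allL N29415 (tt N29409 (iv1 F340348)) (tt N29408 (iv0 F340349)) (tt N14671 F340343) (tt N55463 (iv3 F160358)) (tt N14664 (iv4 F340347)) (tt N29422 (iv5 F340351)) (tt N29459 (iv6 F76238)) (tt N14652 (iv7 D48405)))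
theorem Q29417 : ∀ i, i < 29417 → P i := stepQ 29416 Q29416 (allL N29416 (tt N55490 D104693) (tt N55441 (iv0 F161649)) (tt N55491 D104695) (tt N14653 (iv3 D48406)) (tt N29002 F76072) (tt N49904 (iv5 F137909)) (tt N29226 F76073) (tt N29420 (iv7 F76106)))
theorem Q29418 : ∀ i, i < 29418 → P i := stepQ 29417 Q29417 (allL N29417 (tt N54954 (iv1 F178370)) (tt N55492 D104697) (tt N55493 D104698) (tt N14654 (iv3 D48407)) (tt N49243 (iv4 F135487)) (tt N49907 (iv5 F137911)) (tt N25917 F292443) (tt N29285 F76074))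
theorem Q29419 : ∀ i, i < 29419 → P i := stepQ 29418 Q29418 (allL N29418 (tt N52204 (iv1 F161614)) (tt N55494 D104702) (tt N55495 D104703) (tt N14656 (iv3 D48410)) (tt N29087 F293775) (tt N55496 D104704) (tt N26370 F293776) (tt N29425 (iv7 F76134)))
theorem Q29420 : ∀ i, i < 29420 → P i := stepQ 29419 Q29419 (allL N29419 (tt N27406 F76084) (tt N27409 F76085) (tt N29428 (iv2 F76140)) (tt N55496 (iv3 F160388)) (tt N49953 (iv4 F138068)) (tt N14656 (iv5 D48411)) (tt N55497 D104705) (tt N29426 (iv7 F76136)))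
theorem Q29421 : ∀ i, i < 29421 → P i := stepQ 29420 Q29420 (allL N29420 (tt N55153 (iv1 F161634)) (tt N55498 D104707) (tt N55499 D104708) (tt N14657 (iv3 D48412)) (tt N28994 (iv4 F76107)) (tt N49947 (iv5 F138053)) (tt N26372 F291956) (tt N29416 F76106))
theorem Q29422 : ∀ i, i < 29422 → P i := stepQ 29421 Q29421 (allL N29421 (tt N25891 F76112) (tt N25698 F76113) (tt N25897 F76108) (tt N25873 F76109) (tt N14657 (iv4 D48413)) (tt N46281 (iv5 F292084)) (tt N25590 F291790) (tt N25896 F76111))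
theorem Q29423 : ∀ i, i < 29423 → P i := stepQ 29422 Q29422 (allL N29422 (tt N49885 (iv1 F137861)) (tt N27802 F76125) (tt N29454 (iv2 F76232)) (tt N55500 D104710) (tt N14658 (iv4 D48416)) (tt N29415 F340351) (tt N55501 D104711) (tt N29414 (iv7 F340371)))
theorem Q29424 : ∀ i, i < 29424 → P i := stepQ 29423 Q29423 (allL N29423 (tt N55502 D104712) (tt N55503 D104713) (tt N51932 (iv2 F147460)) (tt N29373 F291913) (tt N55501 (iv4 F160400)) (tt N49216 (iv5 F293032)) (tt N14658 (iv6 D48417)) (tt N55501 (iv7 F340369)))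
theorem Q29425 : ∀ i, i < 29425 → P i := stepQ 29424 Q29424 (allL N29424 (tt N14660 (iv1 F76129)) (tt N14659 (iv0 D48418)) (tt N29311 (iv2 F76128)) (tt N55504 D104715) (tt N25698 F76127) (tt N27410 F76126) (tt N26757 F295131) (tt N25898 F76130))
theorem Q29426 : ∀ i, i < 29426 → P i := stepQ 29425 Q29425 (allL N29425 (tt N55505 D104716) (tt N55422 (iv0 F161692)) (tt N55506 D104718) (tt N14659 (iv3 D48419)) (tt N26958 F76132) (tt N55507 D104719) (tt N26956 F76133) (tt N29418 F76134))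
theorem Q29427 : ∀ i, i < 29427 → P i := stepQ 29426 Q29426 (allL N29426 (tt N27798 (iv1 F76138)) (tt N27795 F76137) (tt N29312 F76135) (tt N55507 (iv3 F160414)) (tt N49910 (iv4 F137914)) (tt N14659 (iv5 D48420)) (tt N55508 D104720) (tt N29419 F76136))
theorem Q29428 : ∀ i, i < 29428 → P i := stepQ 29427 Q29427 (allL N29427 (tt N51716 (iv1 F158654)) (tt N55098 (iv0 F158653)) (tt N55509 D104721) (tt N14660 (iv3 D48421)) (tt N49156 (iv4 F135258)) (tt N55510 D104722) (tt N25913 F293832) (tt N29308 F76139))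
theorem Q29429 : ∀ i, i < 29429 → P i := stepQ 29428 Q29428 (allL N29428 (tt N27795 (iv1 F76143)) (tt N27798 F76142) (tt N29419 F76140) (tt N55510 (iv3 F160422)) (tt N49911 (iv4 F137915)) (tt N14660 (iv5 D48422)) (tt N55511 D104724) (tt N29312 F76141))
theorem Q29430 : ∀ i, i < 29430 → P i := stepQ 29429 Q29429 (allL N29429 (tt N27351 (iv1 F76169)) (tt N14661 (iv0 D48436)) (tt N27318 (iv2 F76168)) (tt N52277 (iv3 F148351)) (tt N50528 (iv4 F292393)) (tt N55512 D104756) (tt N50526 (iv6 F293828)) (tt N27354 F76170))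
theorem Q29431 : ∀ i, i < 29431 → P i := stepQ 29430 Q29430 (allL N29430 (tt N27318 (iv1 F76175)) (tt N27354 F76174) (tt N14661 (iv2 D48437)) (tt N29384 F76172) (tt N49132 (iv4 F135202)) (tt N55513 D104757) (tt N52232 (iv6 F148086)) (tt N27351 F76173))
theorem Q29432 : ∀ i, i < 29432 → P i := stepQ 29431 Q29431 (allL N29431 (tt N55514 D104758) (tt N52281 (iv0 F148373)) (tt N55513 (iv2 F160467)) (tt N14662 F76176) (tt N55515 D104759) (tt N14661 (iv5 D48438)) (tt N47152 F358395) (tt N27355 F76177))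
theorem Q29433 : ∀ i, i < 29433 → P i := stepQ 29432 Q29432 (allL N29432 (tt N49970 (iv1 F138112)) (tt N49956 (iv0 F138081)) (tt N29386 F76178) (tt N55516 D104761) (tt N14662 (iv4 D48439)) (tt N27412 F76180) (tt N55517 D104762) (tt N27364 F76179))
theorem Q29434 : ∀ i, i < 29434 → P i := stepQ 29433 Q29433 (allL N29433 (tt N55518 D104763) (tt N55519 D104764) (tt N29387 F76181) (tt N47152 F358394) (tt N55517 (iv4 F160483)) (tt N52287 (iv5 F148400)) (tt N14662 (iv6 D48440)) (tt N55520 D104765))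
theorem Q29435 : ∀ i, i < 29435 → P i := stepQ 29434 Q29434 (allL N29434 (tt N14663 (iv1 D48442)) (tt N27324 F76184) (tt N29388 (iv2 F156237)) (tt N55521 D104769) (tt N55522 D104770) (tt N55523 D104771) (tt N29388 (iv6 F289681)) (tt N29100 F289651))
theorem Q29436 : ∀ i, i < 29436 → P i := stepQ 29435 Q29435 (allL N29435 (tt N47598 F343039) (tt N47618 F343040) (tt N47617 F335301) (tt N14664 F76185) (tt N55524 D104775) (tt N14663 (iv5 D48443)) (tt N55525 D104776) (tt N29389 F76186))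
theorem Q29437 : ∀ i, i < 29437 → P i := stepQ 29436 Q29436 (allL N29436 (tt N48677 (iv1 F293074)) (tt N48676 (iv0 F293075)) (tt N26366 F291946) (tt N14665 F76187) (tt N29436 F76188) (tt N52047 (iv5 F147605)) (tt N14663 (iv6 D48444)) (tt N48678 F291947))
theorem Q29438 : ∀ i, i < 29438 → P i := stepQ 29437 Q29437 (allL N29437 (tt N55526 D104781) (tt N55527 D104782) (tt N14672 F76194) (tt N55525 (iv3 F160514)) (tt N29459 F340341) (tt N52049 (iv5 F147611)) (tt N14664 (iv6 D48446)) (tt N29455 F340342))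
theorem Q29439 : ∀ i, i < 29439 → P i := stepQ 29438 Q29438 (allL N29438 (tt N29132 (iv1 F76195)) (tt N14666 (iv0 D48447)) (tt N29134 (iv2 F160553)) (tt N55528 D104785) (tt N50953 F143143) (tt N55529 D104786) (tt N55530 D104787) (tt N29133 F160552))
theorem Q29440 : ∀ i, i < 29440 → P i := stepQ 29439 Q29439 (allL N29439 (tt N14666 (iv1 D48448)) (tt N29132 F76199) (tt N29133 F160556) (tt N29123 (iv3 F143099)) (tt N50933 (iv4 F143096)) (tt N55531 D104788) (tt N55243 (iv6 F251669)) (tt N29134 F160557))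
theorem Q29441 : ∀ i, i < 29441 → P i := stepQ 29440 Q29440 (allL N29440 (tt N29134 (iv1 F76200)) (tt N29133 F76198) (tt N14666 (iv2 D48449)) (tt N29394 F76196) (tt N49224 (iv4 F135440)) (tt N55532 D104790) (tt N55165 (iv6 F159105)) (tt N29132 F76197))
theorem Q29442 : ∀ i, i < 29442 → P i := stepQ 29441 Q29441 (allL N29441 (tt N55533 D104791) (tt N55534 D104792) (tt N55532 (iv2 F160595)) (tt N14667 F76201) (tt N55535 D104793) (tt N14666 (iv5 D48450)) (tt N55536 D104794) (tt N29135 F76202))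
theorem Q29443 : ∀ i, i < 29443 → P i := stepQ 29442 Q29442 (allL N29442 (tt N51732 (iv1 F147120)) (tt N51729 (iv0 F147117)) (tt N29396 F76203) (tt N55537 D104795) (tt N14667 (iv4 D48451)) (tt N27464 F76205) (tt N55538 D104796) (tt N29137 F76204))
theorem Q29444 : ∀ i, i < 29444 → P i := stepQ 29443 Q29443 (allL N29443 (tt N55539 D104797) (tt N55540 D104798) (tt N29397 F76206) (tt N55536 (iv3 F160604)) (tt N55538 (iv4 F160608)) (tt N55176 (iv5 F159130)) (tt N14667 (iv6 D48452)) (tt N55541 D104799))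
theorem Q29445 : ∀ i, i < 29445 → P i := stepQ 29444 Q29444 (allL N29444 (tt N27325 (iv1 F76208)) (tt N14668 (iv0 D48453)) (tt N29399 (iv2 F76207)) (tt N55542 D104800) (tt N55543 D104801) (tt N49892 (iv5 F137872)) (tt N55254 (iv6 F159243)) (tt N29398 F76209))
theorem Q29446 : ∀ i, i < 29446 → P i := stepQ 29445 Q29445 (allL N29445 (tt N46237 (iv1 F328688)) (tt N34736 F328290) (tt N46236 F329085) (tt N55544 D104803) (tt N14668 (iv4 D48454)) (tt N55545 D104804) (tt N55546 D104805) (tt N29400 F76210))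
theorem Q29447 : ∀ i, i < 29447 → P i := stepQ 29446 Q29446 (allL N29446 (tt N55547 D104806) (tt N55548 D104807) (tt N52288 (iv2 F148409)) (tt N14672 F76211) (tt N55546 (iv4 F160631)) (tt N26376 (iv5 F293049)) (tt N14668 (iv6 D48455)) (tt N55549 D104809))
theorem Q29448 : ∀ i, i < 29448 → P i := stepQ 29447 Q29447 (allL N29447 (tt N55152 (iv1 F160316)) (tt N47612 F331200) (tt N55550 D104811) (tt N14669 (iv3 D48457)) (tt N55551 D104812) (tt N49922 (iv5 F137942)) (tt N55552 D104813) (tt N29402 F76217))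
theorem Q29449 : ∀ i, i < 29449 → P i := stepQ 29448 Q29448 (allL N29448 (tt N51728 (iv1 F147116)) (tt N49172 F135305) (tt N29406 F76218) (tt N55553 D104814) (tt N14669 (iv4 D48458)) (tt N49908 (iv5 F137912)) (tt N55554 D104815) (tt N29403 F76219))
theorem Q29450 : ∀ i, i < 29450 → P i := stepQ 29449 Q29449 (allL N29449 (tt N55555 D104816) (tt N55556 D104817) (tt N29407 F76220) (tt N55552 (iv3 F160647)) (tt N55554 (iv4 F160651)) (tt N29170 F76221) (tt N14669 (iv6 D48459)) (tt N55557 D104818))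
theorem Q29451 : ∀ i, i < 29451 → P i := stepQ 29450 Q29450 (allL N29450 (tt N55529 (iv1 F160589)) (tt N55531 (iv0 F160588)) (tt N55558 D104819) (tt N14670 (iv3 D48460)) (tt N55559 D104820) (tt N27879 F76222) (tt N55560 D104821) (tt N29405 F76223))
theorem Q29452 : ∀ i, i < 29452 → P i := stepQ 29451 Q29451 (allL N29451 (tt N49172 (iv1 F135304)) (tt N51728 (iv0 F147115)) (tt N29403 F76224) (tt N55561 D104822) (tt N14670 (iv4 D48461)) (tt N49905 (iv5 F137910)) (tt N55562 D104823) (tt N29406 F76225))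
theorem Q29453 : ∀ i, i < 29453 → P i := stepQ 29452 Q29452 (allL N29452 (tt N55563 D104824) (tt N47655 (iv0 F362517)) (tt N29404 F76226) (tt N55560 (iv3 F160669)) (tt N55562 (iv4 F160673)) (tt N27881 F76227) (tt N14670 (iv6 D48462)) (tt N55564 D104826))
theorem Q29454 : ∀ i, i < 29454 → P i := stepQ 29453 Q29453 (allL N29453 (tt N55565 D104831) (tt N55566 D104832) (tt N55567 D104833) (tt N14671 (iv3 D48465)) (tt N55544 (iv4 F160624)) (tt N55568 D104834) (tt N55569 D104835) (tt N29410 F76231))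
theorem Q29455 : ∀ i, i < 29455 → P i := stepQ 29454 Q29454 (allL N29454 (tt N49931 (iv1 F137989)) (tt N27412 (iv0 F76235)) (tt N29422 F76232) (tt N55568 (iv3 F160691)) (tt N27463 F76233) (tt N14671 (iv5 D48466)) (tt N55570 D104836) (tt N29411 F76234))
theorem Q29456 : ∀ i, i < 29456 → P i := stepQ 29455 Q29455 (allL N29455 (tt N29457 (iv1 F340333)) (tt N29456 (iv0 F340334)) (tt N29459 (iv2 F340335)) (tt N55569 (iv3 F160693)) (tt N14672 F76236) (tt N55571 D104839) (tt N14671 (iv6 D48467)) (tt N29437 (iv7 F340342)))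
theorem Q29457 : ∀ i, i < 29457 → P i := stepQ 29456 Q29456 (allL N29456 (tt N29455 F340334) (tt N14672 (iv0 D48468)) (tt N55526 (iv2 F356900)) (tt N55572 D104842) (tt N55573 D104843) (tt N55574 D104844) (tt N55575 D104845) (tt N55527 (iv7 F356899)))
theorem Q29458 : ∀ i, i < 29458 → P i := stepQ 29457 Q29457 (allL N29457 (tt N14672 (iv1 D48469)) (tt N29455 F340333) (tt N55527 (iv2 F356898)) (tt N55576 D104847) (tt N55577 D104848) (tt N55578 D104849) (tt N55579 D104850) (tt N55526 (iv7 F356901)))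
theorem Q29459 : ∀ i, i < 29459 → P i := stepQ 29458 Q29458 (allL N29458 (tt N55580 D104851) (tt N55581 D104852) (tt N52049 (iv2 F147610)) (tt N26376 F294011) (tt N55582 D104853) (tt N14672 (iv5 D48470)) (tt N14675 F76237) (tt N55583 D104854))
theorem Q29460 : ∀ i, i < 29460 → P i := stepQ 29459 Q29459 (allL N29459 (tt N55527 (iv1 F160519)) (tt N55526 F160523) (tt N29455 F340335) (tt N55549 (iv3 F160635)) (tt N29437 (iv4 F340341)) (tt N55583 (iv5 F160702)) (tt N29415 F76238) (tt N14672 (iv7 D48471)))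
theorem Q29461 : ∀ i, i < 29461 → P i := stepQ 29460 Q29460 (allL N29460 (tt N55584 D104855) (tt N55154 (iv0 F251762)) (tt N55585 D104857) (tt N14673 (iv3 D48472)) (tt N27674 (iv4 F294468)) (tt N27530 F76240) (tt N29370 F290798) (tt N29157 F76241))
theorem Q29462 : ∀ i, i < 29462 → P i := stepQ 29461 Q29461 (allL N29461 (tt N55530 (iv1 F350522)) (tt N55586 D104859) (tt N55587 D104860) (tt N14674 (iv3 D48473)) (tt N26617 F76242) (tt N27533 F76243) (tt N26607 F76244) (tt N49213 F293511))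
theorem Q29463 : ∀ i, i < 29463 → P i := stepQ 29462 Q29462 (allL N29462 (tt N51783 (iv1 F147229)) (tt N51781 (iv0 F147212)) (tt N52048 (iv2 F147606)) (tt N55588 D104861) (tt N14675 (iv4 D48474)) (tt N52048 (iv5 F147607)) (tt N55582 (iv6 F160701)) (tt N49215 F294010))
theorem Q29464 : ∀ i, i < 29464 → P i := stepQ 29463 Q29463 (allL N29463 (tt N26161 F292054) (tt N26164 (iv0 F293123)) (tt N51678 (iv2 F147013)) (tt N26198 (iv3 F293159)) (tt N55589 D104896) (tt N14676 (iv5 D48488)) (tt N55590 D104897) (tt N26738 F292055))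
theorem Q29465 : ∀ i, i < 29465 → P i := stepQ 29464 Q29464 (allL N29464 (tt N55591 D104965) (tt N55592 D104966) (tt N55593 D104967) (tt N14677 (iv3 D48512)) (tt N17999 F76343) (tt N53042 (iv5 F332749)) (tt N55594 D104969) (tt N25304 F76344))
theorem Q29466 : ∀ i, i < 29466 → P i := stepQ 29465 Q29465 (allL N29465 (tt N27294 F76348) (tt N27339 F76349) (tt N25601 F76345) (tt N53042 (iv3 F332748)) (tt N25594 F76347) (tt N14677 (iv5 D48513)) (tt N53041 (iv6 F332740)) (tt N25305 F76346))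
theorem Q29467 : ∀ i, i < 29467 → P i := stepQ 29466 Q29466 (allL N29466 (tt N55595 D104971) (tt N46245 F301036) (tt N52296 (iv2 F148456)) (tt N55594 (iv3 F160848)) (tt N14678 F76350) (tt N55596 D104973) (tt N14677 (iv6 D48514)) (tt N55597 D104974))
theorem Q29468 : ∀ i, i < 29468 → P i := stepQ 29467 Q29467 (allL N29467 (tt N14678 (iv1 D48516)) (tt N18137 F323119) (tt N15668 F323120) (tt N31066 (iv3 F324411)) (tt N55598 D104978) (tt N31066 (iv5 F324412)) (tt N25274 (iv6 F126017)) (tt N21074 F323121))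
theorem Q29469 : ∀ i, i < 29469 → P i := stepQ 29468 Q29468 (allL N29468 (tt N15668 (iv1 F322531)) (tt N21074 (iv0 F322532)) (tt N18137 (iv2 F322529)) (tt N17897 F76352) (tt N55597 (iv4 F160854)) (tt N18134 F320743) (tt N17884 F76354) (tt N14678 (iv7 D48517)))
theorem Q29470 : ∀ i, i < 29470 → P i := stepQ 29469 Q29469 (allL N29469 (tt N54085 (iv1 F348532)) (tt N55599 D105041) (tt N55600 D105042) (tt N14679 (iv3 D48545)) (tt N25990 F76400) (tt N51597 (iv5 F292473)) (tt N50658 (iv6 F290625)) (tt N25579 F76401))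
theorem Q29471 : ∀ i, i < 29471 → P i := stepQ 29470 Q29470 (allL N29470 (tt N48292 (iv1 F132096)) (tt N25683 (iv0 F294440)) (tt N22905 F76411) (tt N55601 D105052) (tt N14680 (iv4 D48550)) (tt N22897 F76413) (tt N55602 D105053) (tt N25586 F76412))
theorem Q29472 : ∀ i, i < 29472 → P i := stepQ 29471 Q29471 (allL N29471 (tt N55603 D105054) (tt N38494 F361738) (tt N52300 (iv2 F148511)) (tt N49597 (iv3 F294448)) (tt N55602 (iv4 F160974)) (tt N55604 D105056) (tt N14680 (iv6 D48551)) (tt N55605 D105057))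
theorem Q29473 : ∀ i, i < 29473 → P i := stepQ 29472 Q29472 (allL N29472 (tt N25541 F293271) (tt N25544 (iv0 F293874)) (tt N49155 (iv2 F294177)) (tt N29381 (iv3 F294284)) (tt N55606 D105066) (tt N14681 (iv5 D48554)) (tt N55604 (iv6 F160975)) (tt N27065 (iv7 F294178)))
theorem Q29474 : ∀ i, i < 29474 → P i := stepQ 29473 Q29473 (allL N29473 (tt N49316 (iv1 F136030)) (tt N48638 (iv0 F133702)) (tt N49315 (iv2 F283959)) (tt N14683 (iv3 D48622)) (tt N53012 (iv4 F291559)) (tt N55607 D105147) (tt N50455 (iv6 F291560)) (tt N27186 F291014))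
theorem Q29475 : ∀ i, i < 29475 → P i := stepQ 29474 Q29474 (allL N29474 (tt N49357 (iv1 F293533)) (tt N26086 (iv0 F293532)) (tt N27176 (iv2 F293524)) (tt N55607 (iv3 F161066)) (tt N51266 (iv4 F293541)) (tt N14683 (iv5 D48623)) (tt N55608 D105150) (tt N27187 F292494))
theorem Q29476 : ∀ i, i < 29476 → P i := stepQ 29475 Q29475 (allL N29475 (tt N55609 D105169) (tt N31904 (iv0 F165553)) (tt N15455 F76475) (tt N16194 F76476) (tt N18093 F76477) (tt N15115 F76478) (tt N14684 (iv6 D48631)) (tt N32046 (iv7 F82158)))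
theorem Q29477 : ∀ i, i < 29477 → P i := stepQ 29476 Q29476 (allL N29476 (tt N55610 D105171) (tt N45897 (iv0 F327092)) (tt N16206 F76479) (tt N15397 F76480) (tt N18096 F76481) (tt N19543 F76482) (tt N14685 (iv6 D48632)) (tt N55611 D105173))
theorem Q29478 : ∀ i, i < 29478 → P i := stepQ 29477 Q29477 (allL N29477 (tt N55612 D105174) (tt N55613 D105175) (tt N55614 D105176) (tt N14686 (iv3 D48633)) (tt N22589 F76483) (tt N55615 D105177) (tt N14701 F76484) (tt N35656 (iv7 F93080)))
theorem Q29479 : ∀ i, i < 29479 → P i := stepQ 29478 Q29478 (allL N29478 (tt N35572 (iv1 F92885)) (tt N35575 (iv0 F92902)) (tt N16208 F76485) (tt N55615 (iv3 F161093)) (tt N35620 (iv4 F92996)) (tt N14686 (iv5 D48634)) (tt N55616 D105178) (tt N35620 (iv7 F92999)))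
theorem Q29480 : ∀ i, i < 29480 → P i := stepQ 29479 Q29479 (allL N29479 (tt N16260 (iv1 F76490)) (tt N16259 F76491) (tt N16210 F76486) (tt N15538 F76487) (tt N35657 (iv4 F93082)) (tt N29479 F76488) (tt N14687 (iv6 D48635)) (tt N14704 F76489))
theorem Q29481 : ∀ i, i < 29481 → P i := stepQ 29480 Q29480 (allL N29480 (tt N16039 F76493) (tt N16041 F76494) (tt N31324 F80445) (tt N55617 D105179) (tt N14688 (iv4 D48636)) (tt N55618 D105180) (tt N55619 D105181) (tt N16221 F76492))
theorem Q29482 : ∀ i, i < 29482 → P i := stepQ 29481 Q29481 (allL N29481 (tt N31821 (iv1 F163883)) (tt N55620 D105183) (tt N31592 (iv2 F80960)) (tt N14692 F76495) (tt N55619 (iv4 F161102)) (tt N19783 F76496) (tt N14688 (iv6 D48637)) (tt N55621 D105184))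
theorem Q29483 : ∀ i, i < 29483 → P i := stepQ 29482 Q29482 (allL N29482 (tt N16201 F76500) (tt N35642 F93065) (tt N16212 F76497) (tt N15514 F76498) (tt N35650 (iv4 F93073)) (tt N16167 F76499) (tt N14690 (iv6 D48638)) (tt N35641 (iv7 F93058)))
theorem Q29484 : ∀ i, i < 29484 → P i := stepQ 29483 Q29483 (allL N29483 (tt N55622 D105185) (tt N55623 D105186) (tt N55624 D105187) (tt N14691 (iv3 D48639)) (tt N55617 (iv4 F161096)) (tt N35862 (iv5 F93396)) (tt N55625 D105188) (tt N16223 F76501))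
theorem Q29485 : ∀ i, i < 29485 → P i := stepQ 29484 Q29484 (allL N29484 (tt N32409 (iv1 F164132)) (tt N31313 (iv0 F164129)) (tt N16216 F76502) (tt N55625 (iv3 F161114)) (tt N14692 F76503) (tt N37868 (iv5 F328122)) (tt N14691 (iv6 D48640)) (tt N55626 D105192))
theorem Q29486 : ∀ i, i < 29486 → P i := stepQ 29485 Q29485 (allL N29485 (tt N16219 (iv1 F76507)) (tt N14692 (iv0 D48641)) (tt N16217 F165635) (tt N55627 D105194) (tt N55628 D105195) (tt N38432 F98282) (tt N35601 F92957) (tt N16218 (iv7 F165646)))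
theorem Q29487 : ∀ i, i < 29487 → P i := stepQ 29486 Q29486 (allL N29486 (tt N14692 (iv1 D48642)) (tt N16219 F76504) (tt N16218 (iv2 F165645)) (tt N15521 (iv3 F165583)) (tt N55629 D105198) (tt N38431 (iv5 F98280)) (tt N55630 D105199) (tt N16217 F165644))
theorem Q29488 : ∀ i, i < 29488 → P i := stepQ 29487 Q29487 (allL N29487 (tt N16218 (iv1 F76508)) (tt N16217 F76509) (tt N16219 F76505) (tt N55621 (iv3 F161104)) (tt N55626 (iv4 F161118)) (tt N30123 (iv5 F78048)) (tt N16228 F76506) (tt N14692 (iv7 D48643)))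
theorem Q29489 : ∀ i, i < 29489 → P i := stepQ 29488 Q29488 (allL N29488 (tt N55631 D105200) (tt N55632 D105201) (tt N55633 D105202) (tt N14694 (iv3 D48644)) (tt N31599 (iv4 F80984)) (tt N35864 (iv5 F93400)) (tt N55634 D105203) (tt N16214 F76510))
theorem Q29490 : ∀ i, i < 29490 → P i := stepQ 29489 Q29489 (allL N29489 (tt N31355 F80495) (tt N32447 F82856) (tt N16225 F76511) (tt N55634 (iv3 F161131)) (tt N14695 F76512) (tt N55635 D105204) (tt N14694 (iv6 D48645)) (tt N55636 D105205))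
theorem Q29491 : ∀ i, i < 29491 → P i := stepQ 29490 Q29490 (allL N29490 (tt N16228 (iv1 F76518)) (tt N14695 (iv0 D48646)) (tt N16226 F76521) (tt N31806 (iv3 F81380)) (tt N36263 (iv4 F94225)) (tt N30186 (iv5 F78159)) (tt N39528 (iv6 F100378)) (tt N16227 F76520))
theorem Q29492 : ∀ i, i < 29492 → P i := stepQ 29491 Q29491 (allL N29491 (tt N14695 (iv1 D48647)) (tt N16228 F76513) (tt N16227 F76515) (tt N31667 (iv3 F81143)) (tt N35614 (iv4 F92989)) (tt N29932 (iv5 F77634)) (tt N15404 (iv6 F76514)) (tt N16226 (iv7 F76522)))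
theorem Q29493 : ∀ i, i < 29493 → P i := stepQ 29492 Q29492 (allL N29492 (tt N16227 (iv1 F76519)) (tt N16226 F76523) (tt N16228 F76516) (tt N31603 (iv3 F80998)) (tt N55636 (iv4 F161134)) (tt N32038 (iv5 F82127)) (tt N16219 F76517) (tt N14695 (iv7 D48648)))
theorem Q29494 : ∀ i, i < 29494 → P i := stepQ 29493 Q29493 (allL N29493 (tt N16033 F76525) (tt N15263 F76526) (tt N30562 F78873) (tt N35838 (iv3 F93357)) (tt N14696 (iv4 D48649)) (tt N55637 D105206) (tt N55638 D105207) (tt N16236 F76524))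
theorem Q29495 : ∀ i, i < 29495 → P i := stepQ 29494 Q29494 (allL N29494 (tt N31900 (iv1 F168167)) (tt N45771 F327217) (tt N31604 (iv2 F81002)) (tt N14697 F76527) (tt N55638 (iv4 F161144)) (tt N37255 (iv5 F95716)) (tt N14696 (iv6 D48650)) (tt N55639 D105210))
theorem Q29496 : ∀ i, i < 29496 → P i := stepQ 29495 Q29495 (allL N29495 (tt N16235 (iv1 F76531)) (tt N14697 (iv0 D48651)) (tt N16232 F168345) (tt N45899 F327666) (tt N55640 D105213) (tt N55641 D105214) (tt N45897 F327667) (tt N16233 F168346))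
theorem Q29497 : ∀ i, i < 29497 → P i := stepQ 29496 Q29496 (allL N29496 (tt N14697 (iv1 D48652)) (tt N16235 F76528) (tt N16233 (iv2 F168342)) (tt N15571 (iv3 F168343)) (tt N55642 D105217) (tt N39855 F168341) (tt N55643 D105219) (tt N16232 (iv7 F168344)))
theorem Q29498 : ∀ i, i < 29498 → P i := stepQ 29497 Q29497 (allL N29497 (tt N16233 (iv1 F76532)) (tt N16232 F76533) (tt N16235 F76529) (tt N55639 (iv3 F161146)) (tt N35843 (iv4 F93367)) (tt N20056 (iv5 F82702)) (tt N16243 F76530) (tt N14697 (iv7 D48653)))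
theorem Q29499 : ∀ i, i < 29499 → P i := stepQ 29498 Q29498 (allL N29498 (tt N16243 (iv1 F76537)) (tt N14698 (iv0 D48654)) (tt N16241 F165495) (tt N31922 (iv3 F165563)) (tt N55644 D105222) (tt N39015 (iv5 F99165)) (tt N55645 D105223) (tt N16242 F165496))
theorem Q29500 : ∀ i, i < 29500 → P i := stepQ 29499 Q29499 (allL N29499 (tt N14698 (iv1 D48655)) (tt N16243 F76534) (tt N16242 (iv2 F165493)) (tt N55646 D105225) (tt N55647 D105226) (tt N39016 F99166) (tt N55609 (iv6 F161074)) (tt N16241 (iv7 F165494)))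
theorem Q29501 : ∀ i, i < 29501 → P i := stepQ 29500 Q29500 (allL N29500 (tt N16242 (iv1 F76538)) (tt N16241 F76539) (tt N16243 F76535) (tt N31615 (iv3 F81031)) (tt N35851 (iv4 F93386)) (tt N30049 (iv5 F77887)) (tt N16235 F76536) (tt N14698 (iv7 D48656)))
theorem Q29502 : ∀ i, i < 29502 → P i := stepQ 29501 Q29501 (allL N29501 (tt N55648 D105227) (tt N55649 D105228) (tt N55650 D105229) (tt N14699 (iv3 D48657)) (tt N44142 (iv4 F110921)) (tt N36275 (iv5 F94258)) (tt N55651 D105230) (tt N16247 F76540))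
theorem Q29503 : ∀ i, i < 29503 → P i := stepQ 29502 Q29502 (allL N29502 (tt N55640 (iv1 F161170)) (tt N55642 (iv0 F161152)) (tt N16246 F76541) (tt N55651 (iv3 F161165)) (tt N14895 F76542) (tt N55652 D105232) (tt N14699 (iv6 D48658)) (tt N55653 D105233))
theorem Q29504 : ∀ i, i < 29504 → P i := stepQ 29503 Q29503 (allL N29503 (tt N55654 D105234) (tt N55655 D105235) (tt N55656 D105236) (tt N14700 (iv3 D48659)) (tt N15482 F76543) (tt N55657 D105237) (tt N55658 D105238) (tt N16244 F76544))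
theorem Q29505 : ∀ i, i < 29505 → P i := stepQ 29504 Q29504 (allL N29504 (tt N32053 (iv1 F82178)) (tt N32055 (iv0 F82186)) (tt N16248 F76545) (tt N55657 (iv3 F161181)) (tt N14715 F76546) (tt N14700 (iv5 D48660)) (tt N55659 D105239) (tt N16245 F76547))
theorem Q29506 : ∀ i, i < 29506 → P i := stepQ 29505 Q29505 (allL N29505 (tt N55644 (iv1 F165570)) (tt N55647 (iv0 F165571)) (tt N16249 F76548) (tt N55658 (iv3 F161183)) (tt N14897 F76549) (tt N55660 D105242) (tt N14700 (iv6 D48661)) (tt N55661 D105243))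
theorem Q29507 : ∀ i, i < 29507 → P i := stepQ 29506 Q29506 (allL N29506 (tt N55662 D105244) (tt N14701 (iv0 D48662)) (tt N55663 D105245) (tt N55664 D105246) (tt N55665 D105247) (tt N36775 (iv5 F342865)) (tt N55666 D105249) (tt N55667 D105250))
theorem Q29508 : ∀ i, i < 29508 → P i := stepQ 29507 Q29507 (allL N29507 (tt N14701 (iv1 D48663)) (tt N55662 F161200) (tt N55667 (iv2 F161202)) (tt N55668 D105251) (tt N55669 D105252) (tt N30287 (iv5 F342867)) (tt N55670 D105254) (tt N55663 F161201))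
theorem Q29509 : ∀ i, i < 29509 → P i := stepQ 29508 Q29508 (allL N29508 (tt N55663 (iv1 F342910)) (tt N55667 (iv0 F342896)) (tt N14701 (iv2 D48664)) (tt N16252 F76550) (tt N39233 (iv4 F99677)) (tt N55671 D105257) (tt N55614 (iv6 F161092)) (tt N55662 (iv7 F161199)))
theorem Q29510 : ∀ i, i < 29510 → P i := stepQ 29509 Q29509 (allL N29509 (tt N55672 D105258) (tt N55673 D105259) (tt N55671 (iv2 F161205)) (tt N14702 F76551) (tt N31500 F328779) (tt N14701 (iv5 D48665)) (tt N55674 D105261) (tt N16344 (iv7 F76552)))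
theorem Q29511 : ∀ i, i < 29511 → P i := stepQ 29510 Q29510 (allL N29510 (tt N55667 (iv1 F342897)) (tt N55663 (iv0 F342909)) (tt N55662 F161196) (tt N14703 F76553) (tt N31841 (iv4 F81505)) (tt N16344 F76554) (tt N55675 D105262) (tt N14701 (iv7 D48666)))
theorem Q29512 : ∀ i, i < 29512 → P i := stepQ 29511 Q29511 (allL N29511 (tt N55676 D105263) (tt N55677 D105264) (tt N16257 F76555) (tt N55674 (iv3 F161214)) (tt N16349 F76556) (tt N55616 (iv5 F161095)) (tt N14702 (iv6 D48667)) (tt N55678 D105265))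
theorem Q29513 : ∀ i, i < 29513 → P i := stepQ 29512 Q29512 (allL N29512 (tt N35743 (iv1 F161343)) (tt N35739 (iv0 F161314)) (tt N16258 F76557) (tt N55675 (iv3 F161215)) (tt N14704 F76558) (tt N55679 D105268) (tt N14703 (iv6 D48668)) (tt N35657 (iv7 F93083)))
theorem Q29514 : ∀ i, i < 29514 → P i := stepQ 29513 Q29513 (allL N29513 (tt N16210 (iv1 F76559)) (tt N14704 (iv0 D48669)) (tt N16259 F161324) (tt N55680 D105270) (tt N35869 (iv4 F161241)) (tt N55681 D105272) (tt N55682 D105273) (tt N16260 (iv7 F161328)))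
theorem Q29515 : ∀ i, i < 29515 → P i := stepQ 29514 Q29514 (allL N29514 (tt N14704 (iv1 D48670)) (tt N16210 F76560) (tt N16260 (iv2 F161327)) (tt N15496 F161236) (tt N35870 (iv4 F161237)) (tt N55683 D105277) (tt N55684 D105278) (tt N16259 F161326))
theorem Q29516 : ∀ i, i < 29516 → P i := stepQ 29515 Q29515 (allL N29515 (tt N15642 F76564) (tt N16283 F76565) (tt N14706 F76561) (tt N15047 F76562) (tt N31794 (iv4 F81340)) (tt N14705 (iv5 D48671)) (tt N55685 D105279) (tt N15861 F76563))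
theorem Q29517 : ∀ i, i < 29517 → P i := stepQ 29516 Q29516 (allL N29516 (tt N15281 F76570) (tt N20352 (iv0 F76571)) (tt N14707 F76566) (tt N15048 F76567) (tt N15830 F76568) (tt N18245 F76569) (tt N14705 (iv6 D48672)) (tt N32025 (iv7 F82074)))
theorem Q29518 : ∀ i, i < 29518 → P i := stepQ 29517 Q29517 (allL N29517 (tt N15861 (iv1 F76575)) (tt N14706 (iv0 D48673)) (tt N15642 (iv2 F76574)) (tt N15443 (iv3 F76577)) (tt N15923 F76573) (tt N15439 F76572) (tt N55686 D105280) (tt N16283 F76576))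
theorem Q29519 : ∀ i, i < 29519 → P i := stepQ 29518 Q29518 (allL N29518 (tt N55687 D105281) (tt N55688 D105282) (tt N55685 (iv2 F161392)) (tt N14709 F76578) (tt N39591 (iv4 F100455)) (tt N19160 F76579) (tt N14706 (iv6 D48674)) (tt N55689 D105283))
theorem Q29520 : ∀ i, i < 29520 → P i := stepQ 29519 Q29519 (allL N29519 (tt N20352 (iv1 F76584)) (tt N15281 F76585) (tt N32025 F82072) (tt N14710 F76580) (tt N19788 F76581) (tt N14988 F76582) (tt N15631 F76583) (tt N14707 (iv7 D48675)))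
theorem Q29521 : ∀ i, i < 29521 → P i := stepQ 29520 Q29520 (allL N29520 (tt N55690 D105284) (tt N55691 D105285) (tt N55692 D105286) (tt N14708 (iv3 D48676)) (tt N39589 (iv4 F100449)) (tt N36269 (iv5 F94247)) (tt N55693 D105287) (tt N16286 F76586))
theorem Q29522 : ∀ i, i < 29522 → P i := stepQ 29521 Q29521 (allL N29521 (tt N55628 (iv1 F165602)) (tt N55629 (iv0 F165584)) (tt N16267 F76587) (tt N55693 (iv3 F161408)) (tt N14709 F76588) (tt N55694 D105290) (tt N14708 (iv6 D48677)) (tt N55695 D105291))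
theorem Q29523 : ∀ i, i < 29523 → P i := stepQ 29522 Q29522 (allL N29522 (tt N14709 (iv1 D48679)) (tt N16269 F76590) (tt N15674 F164074) (tt N32031 (iv3 F164093)) (tt N32284 (iv4 F164339)) (tt N18674 (iv5 F76591)) (tt N55696 D105298) (tt N16268 (iv7 F161431)))
theorem Q29524 : ∀ i, i < 29524 → P i := stepQ 29523 Q29523 (allL N29523 (tt N15674 F164085) (tt N16268 F76598) (tt N16269 F76593) (tt N55689 (iv3 F161399)) (tt N55695 (iv4 F161412)) (tt N19166 F76594) (tt N16289 F76595) (tt N14709 (iv7 D48680)))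
theorem Q29525 : ∀ i, i < 29525 → P i := stepQ 29524 Q29524 (allL N29524 (tt N16292 (iv1 F76599)) (tt N14711 (iv0 D48681)) (tt N16291 F76608) (tt N29705 (iv3 F77008)) (tt N45178 (iv4 F114687)) (tt N32480 (iv5 F82932)) (tt N37279 (iv6 F95744)) (tt N16290 F76606))
theorem Q29526 : ∀ i, i < 29526 → P i := stepQ 29525 Q29525 (allL N29525 (tt N14711 (iv1 D48682)) (tt N16292 (iv0 F76604)) (tt N16290 (iv2 F76605)) (tt N16361 (iv3 F76600)) (tt N16384 (iv4 F76601)) (tt N32481 F82926) (tt N16360 F76602) (tt N16291 (iv7 F76607)))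
theorem Q29527 : ∀ i, i < 29527 → P i := stepQ 29526 Q29526 (allL N29526 (tt N16291 (iv1 F76612)) (tt N16290 F76611) (tt N14711 (iv2 D48683)) (tt N16275 F76609) (tt N29823 (iv4 F77411)) (tt N55697 D105299) (tt N50106 (iv6 F138876)) (tt N16292 F76610))
theorem Q29528 : ∀ i, i < 29528 → P i := stepQ 29527 Q29527 (allL N29527 (tt N50227 F139275) (tt N50226 (iv0 F139268)) (tt N55697 (iv2 F161448)) (tt N14712 F76613) (tt N55698 D105300) (tt N14711 (iv5 D48684)) (tt N55699 D105301) (tt N16293 F76614))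
theorem Q29529 : ∀ i, i < 29529 → P i := stepQ 29528 Q29528 (allL N29528 (tt N55700 D105302) (tt N55701 D105303) (tt N16278 F76616) (tt N55699 (iv3 F161460)) (tt N36262 (iv4 F94224)) (tt N55702 D105304) (tt N14712 (iv6 D48686)) (tt N55703 D105305))
theorem Q29530 : ∀ i, i < 29530 → P i := stepQ 29529 Q29529 (allL N29529 (tt N16426 F76618) (tt N16428 F76619) (tt N16281 F76617) (tt N50304 (iv3 F139488)) (tt N55704 D105306) (tt N14713 (iv5 D48687)) (tt N55702 (iv6 F161463)) (tt N29989 (iv7 F77739)))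
theorem Q29531 : ∀ i, i < 29531 → P i := stepQ 29530 Q29530 (allL N29530 (tt N32448 F82859) (tt N32450 F82931) (tt N50229 (iv2 F139284)) (tt N14715 F76620) (tt N55705 D105307) (tt N14714 (iv5 D48688)) (tt N37404 F324653) (tt N16310 F76621))
theorem Q29532 : ∀ i, i < 29532 → P i := stepQ 29531 Q29531 (allL N29531 (tt N55706 D105309) (tt N55707 D105310) (tt N16302 F76622) (tt N37404 F324650) (tt N55659 (iv4 F161186)) (tt N45050 (iv5 F114435)) (tt N14715 (iv6 D48689)) (tt N55708 D105311))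
theorem Q29533 : ∀ i, i < 29533 → P i := stepQ 29532 Q29532 (allL N29532 (tt N39631 F100512) (tt N50259 F139354) (tt N41738 (iv2 F104834)) (tt N14718 F76623) (tt N55709 D105312) (tt N14717 (iv5 D48690)) (tt N55710 D105313) (tt N16320 F76624))
theorem Q29534 : ∀ i, i < 29534 → P i := stepQ 29533 Q29533 (allL N29533 (tt N55711 D105314) (tt N55712 D105315) (tt N16315 F76625) (tt N55710 (iv3 F161487)) (tt N35849 (iv4 F93382)) (tt N42380 (iv5 F106085)) (tt N14718 (iv6 D48691)) (tt N55713 D105316))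
theorem Q29535 : ∀ i, i < 29535 → P i := stepQ 29534 Q29534 (allL N29534 (tt N55714 D105317) (tt N55715 D105318) (tt N16321 F76626) (tt N33642 (iv3 F85346)) (tt N35841 (iv4 F93363)) (tt N26927 F76627) (tt N14720 (iv6 D48692)) (tt N55716 D105319))
theorem Q29536 : ∀ i, i < 29536 → P i := stepQ 29535 Q29535 (allL N29535 (tt N32054 (iv1 F82182)) (tt N23219 F76630) (tt N41342 F103978) (tt N26922 F76628) (tt N55717 D105320) (tt N14722 (iv5 D48693)) (tt N26919 F76629) (tt N33665 (iv7 F85413)))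
theorem Q29537 : ∀ i, i < 29537 → P i := stepQ 29536 Q29536 (allL N29536 (tt N45092 (iv1 F114516)) (tt N42400 (iv0 F106126)) (tt N14724 F76631) (tt N16333 F76632) (tt N55718 D105321) (tt N14723 (iv5 D48694)) (tt N55719 D105322) (tt N41767 (iv7 F104882)))
theorem Q29538 : ∀ i, i < 29538 → P i := stepQ 29537 Q29537 (allL N29537 (tt N41767 (iv1 F104884)) (tt N14724 (iv0 D48695)) (tt N45092 (iv2 F114513)) (tt N21488 (iv3 F85307)) (tt N55720 D105323) (tt N20935 F85306) (tt N55721 D105324) (tt N42400 (iv7 F106125)))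
theorem Q29539 : ∀ i, i < 29539 → P i := stepQ 29538 Q29538 (allL N29538 (tt N14724 (iv1 D48696)) (tt N41767 (iv0 F104883)) (tt N42400 (iv2 F106123)) (tt N55722 D105325) (tt N55723 D105326) (tt N20936 F76633) (tt N55724 D105327) (tt N45092 (iv7 F114514)))
theorem Q29540 : ∀ i, i < 29540 → P i := stepQ 29539 Q29539 (allL N29539 (tt N55725 D105328) (tt N55726 D105329) (tt N55718 (iv2 F161510)) (tt N55727 D105330) (tt N14724 (iv4 D48697)) (tt N55728 D105331) (tt N55729 D105332) (tt N55730 D105333))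
theorem Q29541 : ∀ i, i < 29541 → P i := stepQ 29540 Q29540 (allL N29540 (tt N55731 D105334) (tt N55732 D105335) (tt N55719 (iv2 F161511)) (tt N14729 F76634) (tt N55729 (iv4 F161522)) (tt N14755 F76635) (tt N14724 (iv6 D48698)) (tt N55733 D105336))
theorem Q29542 : ∀ i, i < 29542 → P i := stepQ 29541 Q29541 (allL N29541 (tt N42400 (iv1 F106127)) (tt N45092 (iv0 F114515)) (tt N41767 (iv2 F104880)) (tt N14730 F76636) (tt N55730 (iv4 F161524)) (tt N14725 F76637) (tt N55734 D105337) (tt N14724 (iv7 D48699)))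
theorem Q29543 : ∀ i, i < 29543 → P i := stepQ 29542 Q29542 (allL N29542 (tt N50258 F139350) (tt N50257 (iv0 F139343)) (tt N55735 D105338) (tt N14726 (iv3 D48700)) (tt N55736 D105339) (tt N14877 F76638) (tt N55737 D105340) (tt N16342 F76639))
theorem Q29544 : ∀ i, i < 29544 → P i := stepQ 29543 Q29543 (allL N29543 (tt N38984 F362884) (tt N55738 D105342) (tt N16341 F76640) (tt N55737 (iv3 F161538)) (tt N35865 (iv4 F93403)) (tt N55739 D105343) (tt N14726 (iv6 D48701)) (tt N55740 D105344))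
theorem Q29545 : ∀ i, i < 29545 → P i := stepQ 29544 Q29544 (allL N29544 (tt N33638 F85334) (tt N33639 (iv0 F85338)) (tt N41748 F104856) (tt N14727 (iv3 D48702)) (tt N55741 D105345) (tt N14808 F76641) (tt N55742 D105346) (tt N16340 F76642))
theorem Q29546 : ∀ i, i < 29546 → P i := stepQ 29545 Q29545 (allL N29545 (tt N55743 D105347) (tt N55744 D105348) (tt N16343 F76643) (tt N55742 (iv3 F161550)) (tt N35863 (iv4 F93399)) (tt N30059 (iv5 F77920)) (tt N14727 (iv6 D48703)) (tt N55745 D105349))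
theorem Q29547 : ∀ i, i < 29547 → P i := stepQ 29546 Q29546 (allL N29546 (tt N55746 D105350) (tt N55747 D105351) (tt N55748 D105352) (tt N14728 (iv3 D48704)) (tt N55727 (iv4 F161520)) (tt N16254 F76644) (tt N55749 D105353) (tt N16253 F76645))
theorem Q29548 : ∀ i, i < 29548 → P i := stepQ 29547 Q29547 (allL N29547 (tt N55750 D105354) (tt N55751 D105355) (tt N16345 F76646) (tt N55749 (iv3 F161566)) (tt N14729 F76647) (tt N55752 D105356) (tt N14728 (iv6 D48705)) (tt N55753 D105357))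
theorem Q29549 : ∀ i, i < 29549 → P i := stepQ 29548 Q29548 (allL N29548 (tt N16348 (iv1 F76651)) (tt N14729 (iv0 D48706)) (tt N16346 F193491) (tt N55754 D105359) (tt N55755 D105360) (tt N55756 D105361) (tt N55757 D105362) (tt N16347 F193492))
theorem Q29550 : ∀ i, i < 29550 → P i := stepQ 29549 Q29549 (allL N29549 (tt N14729 (iv1 D48707)) (tt N16348 F76648) (tt N16347 (iv2 F193485)) (tt N55758 D105364) (tt N55759 D105365) (tt N42362 (iv5 F106066)) (tt N38980 F327167) (tt N16346 (iv7 F193490)))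
theorem Q29551 : ∀ i, i < 29551 → P i := stepQ 29550 Q29550 (allL N29550 (tt N16347 (iv1 F76652)) (tt N16346 F76653) (tt N16348 F76649) (tt N55733 (iv3 F161525)) (tt N55753 (iv4 F161571)) (tt N14758 F76650) (tt N55760 D105367) (tt N14729 (iv7 D48708)))
theorem Q29552 : ∀ i, i < 29552 → P i := stepQ 29551 Q29551 (allL N29551 (tt N55761 D105368) (tt N55762 D105369) (tt N16349 F76654) (tt N55734 (iv3 F161527)) (tt N16257 F76655) (tt N44969 (iv5 F114220)) (tt N14730 (iv6 D48709)) (tt N55760 (iv7 F161581)))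
theorem Q29553 : ∀ i, i < 29553 → P i := stepQ 29552 Q29552 (allL N29552 (tt N45179 (iv1 F114695)) (tt N21497 (iv0 F76659)) (tt N16384 F76656) (tt N17537 F76657) (tt N16290 F76658) (tt N50902 (iv5 F142973)) (tt N14731 (iv6 D48710)) (tt N45178 (iv7 F114690)))
theorem Q29554 : ∀ i, i < 29554 → P i := stepQ 29553 Q29553 (allL N29553 (tt N15016 F76664) (tt N29985 (iv0 F77733)) (tt N16381 F76660) (tt N23854 F76661) (tt N23833 F76662) (tt N55763 D105370) (tt N14732 (iv6 D48711)) (tt N29984 (iv7 F77731)))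
theorem Q29555 : ∀ i, i < 29555 → P i := stepQ 29554 Q29554 (allL N29554 (tt N16385 (iv1 F76666)) (tt N14733 (iv0 D48712)) (tt N16388 (iv2 F76674)) (tt N17104 (iv3 F76677)) (tt N17784 F76678) (tt N14735 F76675) (tt N55764 D105371) (tt N16387 F76676))
theorem Q29556 : ∀ i, i < 29556 → P i := stepQ 29555 Q29555 (allL N29555 (tt N14733 (iv1 D48713)) (tt N16385 F76667) (tt N16387 (iv2 F76669)) (tt N17165 (iv3 F76670)) (tt N55765 D105372) (tt N14736 F76668) (tt N55766 D105373) (tt N16388 (iv7 F76673)))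
theorem Q29557 : ∀ i, i < 29557 → P i := stepQ 29556 Q29556 (allL N29556 (tt N43478 (iv1 F108968)) (tt N43481 F108982) (tt N43479 F108975) (tt N17521 F76686) (tt N14733 (iv4 D48714)) (tt N34962 (iv5 F90542)) (tt N26400 F76687) (tt N16389 F76688))
theorem Q29558 : ∀ i, i < 29558 → P i := stepQ 29557 Q29557 (allL N29557 (tt N16375 (iv1 F76695)) (tt N14734 (iv0 D48715)) (tt N16372 (iv2 F161664)) (tt N50738 (iv3 F142186)) (tt N16392 F114627) (tt N55767 D105375) (tt N55768 D105376) (tt N16373 F161662))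
theorem Q29559 : ∀ i, i < 29559 → P i := stepQ 29558 Q29558 (allL N29558 (tt N14734 (iv1 D48716)) (tt N16375 F76689) (tt N16373 F161661) (tt N55769 D105378) (tt N16393 F114619) (tt N55770 D105379) (tt N55771 D105380) (tt N16372 (iv7 F161665)))
theorem Q29560 : ∀ i, i < 29560 → P i := stepQ 29559 Q29559 (allL N29559 (tt N16373 (iv1 F76696)) (tt N16372 F76697) (tt N16375 F76690) (tt N26401 F76691) (tt N17526 F76692) (tt N26391 F76693) (tt N16395 F76694) (tt N14734 (iv7 D48717)))
theorem Q29561 : ∀ i, i < 29561 → P i := stepQ 29560 Q29560 (allL N29560 (tt N17169 F76701) (tt N17166 (iv0 F76702)) (tt N16401 F76698) (tt N14837 F76699) (tt N14735 (iv4 D48718)) (tt N50745 (iv5 F142213)) (tt N16418 F77183) (tt N16409 F76700))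
theorem Q29562 : ∀ i, i < 29562 → P i := stepQ 29561 Q29561 (allL N29561 (tt N44971 (iv1 F114231)) (tt N16558 (iv0 F76705)) (tt N16411 F76703) (tt N17105 F76704) (tt N16418 (iv4 F77182)) (tt N55772 D105381) (tt N14735 (iv6 D48719)) (tt N44970 (iv7 F114225)))
theorem Q29563 : ∀ i, i < 29563 → P i := stepQ 29562 Q29562 (allL N29562 (tt N16415 (iv1 F76710)) (tt N16414 F76709) (tt N14738 F76706) (tt N16403 F76707) (tt N43476 (iv4 F108961)) (tt N14737 (iv5 D48720)) (tt N55773 D105382) (tt N16412 F76708))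
theorem Q29564 : ∀ i, i < 29564 → P i := stepQ 29563 Q29563 (allL N29563 (tt N55774 D105383) (tt N22307 (iv0 F76714)) (tt N43476 (iv2 F108960)) (tt N17120 F76712) (tt N14738 (iv4 D48721)) (tt N34855 (iv5 F90057)) (tt N55775 D105384) (tt N16416 F76713))
theorem Q29565 : ∀ i, i < 29565 → P i := stepQ 29564 Q29564 (allL N29564 (tt N55776 D105385) (tt N41388 (iv0 F331478)) (tt N55773 (iv2 F161708)) (tt N14739 F76715) (tt N55775 (iv4 F161717)) (tt N32179 (iv5 F82485)) (tt N14738 (iv6 D48722)) (tt N55777 D105387))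
theorem Q29566 : ∀ i, i < 29566 → P i := stepQ 29565 Q29565 (allL N29565 (tt N16408 (iv1 F76720)) (tt N14739 (iv0 D48723)) (tt N16406 (iv2 F178221)) (tt N46044 (iv3 F290534)) (tt N16422 F94481) (tt N55778 D105390) (tt N46041 F290525) (tt N16407 F178219))
theorem Q29567 : ∀ i, i < 29567 → P i := stepQ 29566 Q29566 (allL N29566 (tt N14739 (iv1 D48724)) (tt N16408 F76716) (tt N16407 F178218) (tt N40847 F318364) (tt N16423 F161722) (tt N55779 D105393) (tt N55780 D105394) (tt N16406 (iv7 F178222)))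
theorem Q29568 : ∀ i, i < 29568 → P i := stepQ 29567 Q29567 (allL N29567 (tt N16407 (iv1 F76721)) (tt N16406 F76722) (tt N16408 F76717) (tt N55777 (iv3 F161718)) (tt N22892 F76718) (tt N32187 (iv5 F82498)) (tt N16425 F76719) (tt N14739 (iv7 D48725)))
theorem Q29569 : ∀ i, i < 29569 → P i := stepQ 29568 Q29568 (allL N29568 (tt N29581 (iv1 F76755)) (tt N17155 (iv0 F76724)) (tt N16447 F83419) (tt N29895 (iv3 F77563)) (tt N14740 (iv4 D48727)) (tt N50288 (iv5 F139416)) (tt N32748 F83459) (tt N16444 F83417))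
theorem Q29570 : ∀ i, i < 29570 → P i := stepQ 29569 Q29569 (allL N29569 (tt N27233 (iv1 F76727)) (tt N16548 (iv0 F76726)) (tt N16449 F83431) (tt N16456 F76725) (tt N32748 (iv4 F83456)) (tt N50969 F143179) (tt N14740 (iv6 D48728)) (tt N32764 (iv7 F83492)))
theorem Q29571 : ∀ i, i < 29571 → P i := stepQ 29570 Q29570 (allL N29570 (tt N14921 (iv1 F76731)) (tt N14925 (iv0 F76730)) (tt N16473 F83410) (tt N14741 (iv3 D48730)) (tt N16473 F76729) (tt N42619 (iv5 F106544)) (tt N50256 (iv6 F139337)) (tt N16446 F83411))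
theorem Q29572 : ∀ i, i < 29572 → P i := stepQ 29571 Q29571 (allL N29571 (tt N16450 (iv1 F76732)) (tt N14742 (iv0 D48731)) (tt N16453 F106565) (tt N45026 (iv3 F114394)) (tt N43633 (iv4 F109325)) (tt N14914 F76733) (tt N55781 D105395) (tt N16452 F106566))
theorem Q29573 : ∀ i, i < 29573 → P i := stepQ 29572 Q29572 (allL N29572 (tt N14742 (iv1 D48732)) (tt N16450 F76734) (tt N16452 F106559) (tt N42621 (iv3 F106558)) (tt N55782 D105396) (tt N14915 F76735) (tt N47018 F324633) (tt N16453 F106560))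
theorem Q29574 : ∀ i, i < 29574 → P i := stepQ 29573 Q29573 (allL N29573 (tt N55783 D105398) (tt N55784 D105399) (tt N42998 (iv2 F107875)) (tt N14743 F76736) (tt N43258 (iv4 F108432)) (tt N51312 (iv5 F144715)) (tt N14742 (iv6 D48733)) (tt N55785 D105400))
theorem Q29575 : ∀ i, i < 29575 → P i := stepQ 29574 Q29574 (allL N29574 (tt N16440 (iv1 F76743)) (tt N14743 (iv0 D48734)) (tt N16437 F145371) (tt N20971 F319183) (tt N22889 F136453) (tt N55786 D105402) (tt N55787 D105403) (tt N16438 F145372))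
theorem Q29576 : ∀ i, i < 29576 → P i := stepQ 29575 Q29575 (allL N29575 (tt N14743 (iv1 D48735)) (tt N16440 F76737) (tt N16438 F145380) (tt N42220 F321212) (tt N22890 F145381) (tt N55788 D105405) (tt N55789 D105406) (tt N16437 F145382))
theorem Q29577 : ∀ i, i < 29577 → P i := stepQ 29576 Q29576 (allL N29576 (tt N55790 D105407) (tt N45133 (iv0 F114603)) (tt N16439 F76738) (tt N51312 (iv3 F144714)) (tt N55791 D105408) (tt N14743 (iv5 D48736)) (tt N14744 F76739) (tt N55792 D105409))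
theorem Q29578 : ∀ i, i < 29578 → P i := stepQ 29577 Q29577 (allL N29577 (tt N16438 (iv1 F76744)) (tt N16437 F76745) (tt N16440 F76740) (tt N55785 (iv3 F161733)) (tt N18479 F76741) (tt N55792 (iv5 F161754)) (tt N16463 F76742) (tt N14743 (iv7 D48737)))
theorem Q29579 : ∀ i, i < 29579 → P i := stepQ 29578 Q29578 (allL N29578 (tt N22767 F76749) (tt N29990 (iv0 F77743)) (tt N16441 F76746) (tt N55793 D105410) (tt N14744 (iv4 D48738)) (tt N16171 F76747) (tt N55791 (iv6 F161752)) (tt N16170 F76748))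
theorem Q29580 : ∀ i, i < 29580 → P i := stepQ 29579 Q29579 (allL N29579 (tt N42224 (iv1 F314501)) (tt N42220 (iv0 F314502)) (tt N34065 (iv2 F86651)) (tt N42730 (iv3 F107024)) (tt N52220 (iv4 F148046)) (tt N55794 D105413) (tt N14746 (iv6 D48739)) (tt N55795 D105414))
theorem Q29581 : ∀ i, i < 29581 → P i := stepQ 29580 Q29580 (allL N29580 (tt N44493 (iv1 F112313)) (tt N23224 F76751) (tt N34066 (iv2 F86652)) (tt N15007 F76750) (tt N55796 D105415) (tt N14747 (iv5 D48740)) (tt N55794 (iv6 F161801)) (tt N29969 (iv7 F77696)))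
theorem Q29582 : ∀ i, i < 29582 → P i := stepQ 29581 Q29581 (allL N29581 (tt N16443 (iv1 F76757)) (tt N29568 F76755) (tt N14748 (iv2 D48741)) (tt N16550 F76752) (tt N14887 F76753) (tt N42731 (iv5 F107028)) (tt N16548 (iv6 F76756)) (tt N27235 F76754))
theorem Q29583 : ∀ i, i < 29583 → P i := stepQ 29582 Q29582 (allL N29582 (tt N45021 (iv1 F114351)) (tt N45026 (iv0 F114397)) (tt N42731 (iv2 F107027)) (tt N14749 F76758) (tt N55797 D105416) (tt N14748 (iv5 D48742)) (tt N55798 D105417) (tt N34063 (iv7 F86645)))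
theorem Q29584 : ∀ i, i < 29584 → P i := stepQ 29583 Q29583 (allL N29583 (tt N16449 (iv1 F76762)) (tt N32764 F83496) (tt N16548 F76759) (tt N14750 F76760) (tt N32667 F83312) (tt N26943 (iv5 F83441)) (tt N14748 (iv6 D48743)) (tt N27233 F76761))
theorem Q29585 : ∀ i, i < 29585 → P i := stepQ 29584 Q29584 (allL N29584 (tt N41612 F307973) (tt N43246 (iv0 F108415)) (tt N24304 F76763) (tt N52180 (iv3 F147890)) (tt N14749 (iv4 D48744)) (tt N24934 F76764) (tt N23281 (iv6 F309968)) (tt N34064 (iv7 F86650)))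
theorem Q29586 : ∀ i, i < 29586 → P i := stepQ 29585 Q29585 (allL N29585 (tt N33628 (iv1 F314505)) (tt N33632 (iv0 F314506)) (tt N36326 F312199) (tt N55798 (iv3 F161808)) (tt N23281 F312200) (tt N55799 D105421) (tt N14749 (iv6 D48745)) (tt N41723 (iv7 F314512)))
theorem Q29587 : ∀ i, i < 29587 → P i := stepQ 29586 Q29586 (allL N29586 (tt N41438 (iv1 F104211)) (tt N44051 F110759) (tt N34358 (iv2 F87369)) (tt N26943 F83442) (tt N26962 F329557) (tt N14750 (iv5 D48746)) (tt N55799 (iv6 F161814)) (tt N42979 (iv7 F107838)))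
theorem Q29588 : ∀ i, i < 29588 → P i := stepQ 29587 Q29587 (allL N29587 (tt N22500 F310738) (tt N32861 F83672) (tt N14754 F76765) (tt N53308 (iv3 F153305)) (tt N14751 (iv4 D48747)) (tt N25449 F76766) (tt N55800 D105424) (tt N32862 (iv7 F83675)))
theorem Q29589 : ∀ i, i < 29589 → P i := stepQ 29588 Q29588 (allL N29588 (tt N55801 D105425) (tt N55802 D105426) (tt N14755 F76768) (tt N16501 F76769) (tt N55800 (iv4 F161816)) (tt N55719 (iv5 F161513)) (tt N14751 (iv6 D48748)) (tt N55803 D105427))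
theorem Q29590 : ∀ i, i < 29590 → P i := stepQ 29589 Q29589 (allL N29589 (tt N45126 (iv1 F153469)) (tt N45034 F145326) (tt N27216 F76770) (tt N34701 (iv3 F88600)) (tt N46602 (iv4 F125612)) (tt N27213 F76771) (tt N14752 (iv6 D48749)) (tt N45125 (iv7 F145307)))
theorem Q29591 : ∀ i, i < 29591 → P i := stepQ 29590 Q29590 (allL N29590 (tt N32737 (iv1 F83439)) (tt N32742 (iv0 F83453)) (tt N29891 (iv2 F77543)) (tt N14753 (iv3 D48750)) (tt N35057 (iv4 F90745)) (tt N21536 F76772) (tt N55804 D105428) (tt N26550 F76773))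
theorem Q29592 : ∀ i, i < 29592 → P i := stepQ 29591 Q29591 (allL N29591 (tt N42985 (iv1 F107851)) (tt N43232 (iv0 F108377)) (tt N24936 F76774) (tt N46592 (iv3 F125578)) (tt N14753 (iv4 D48751)) (tt N27739 F76775) (tt N55805 D105429) (tt N32905 (iv7 F83729)))
theorem Q29593 : ∀ i, i < 29593 → P i := stepQ 29592 Q29592 (allL N29592 (tt N34690 (iv1 F335470)) (tt N55806 D105431) (tt N32904 (iv2 F83724)) (tt N55804 (iv3 F161824)) (tt N55805 (iv4 F161828)) (tt N34685 (iv5 F88582)) (tt N14753 (iv6 D48752)) (tt N55807 D105432))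
theorem Q29594 : ∀ i, i < 29594 → P i := stepQ 29593 Q29593 (allL N29593 (tt N32862 (iv1 F83676)) (tt N14754 (iv0 D48753)) (tt N22500 (iv2 F308635)) (tt N42647 (iv3 F106700)) (tt N21529 F76776) (tt N42685 (iv5 F106844)) (tt N22495 (iv6 F310203)) (tt N32861 (iv7 F83673)))
theorem Q29595 : ∀ i, i < 29595 → P i := stepQ 29594 Q29594 (allL N29594 (tt N42698 (iv1 F106872)) (tt N22793 F311657) (tt N25449 F76778) (tt N27694 F76779) (tt N25446 F76780) (tt N14754 (iv5 D48754)) (tt N55808 D105434) (tt N32863 (iv7 F83682)))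
theorem Q29596 : ∀ i, i < 29596 → P i := stepQ 29595 Q29595 (allL N29595 (tt N55809 D105435) (tt N55810 D105436) (tt N55800 (iv2 F161815)) (tt N32869 (iv3 F83689)) (tt N14755 F76782) (tt N55811 D105437) (tt N14754 (iv6 D48755)) (tt N55812 D105438))
theorem Q29597 : ∀ i, i < 29597 → P i := stepQ 29596 Q29596 (allL N29596 (tt N55803 (iv1 F161822)) (tt N14755 (iv0 D48756)) (tt N55801 (iv2 F355719)) (tt N55813 D105440) (tt N55186 (iv4 F192430)) (tt N55814 D105442) (tt N55815 D105443) (tt N55802 (iv7 F355717)))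
theorem Q29598 : ∀ i, i < 29598 → P i := stepQ 29597 Q29597 (allL N29597 (tt N14755 (iv1 D48757)) (tt N55803 F161821) (tt N55802 (iv2 F355716)) (tt N55816 D105445) (tt N55817 D105446) (tt N55818 D105447) (tt N55819 D105448) (tt N55801 (iv7 F355720)))
theorem Q29599 : ∀ i, i < 29599 → P i := stepQ 29598 Q29598 (allL N29598 (tt N55802 (iv1 F161817)) (tt N55801 F161820) (tt N55803 (iv2 F161818)) (tt N14758 F76783) (tt N55812 (iv4 F161837)) (tt N55733 (iv5 F161526)) (tt N32910 (iv6 F83735)) (tt N14755 (iv7 D48758)))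
theorem Q29600 : ∀ i, i < 29600 → P i := stepQ 29599 Q29599 (allL N29599 (tt N55820 D105449) (tt N45031 (iv0 F234963)) (tt N55821 D105451) (tt N14756 (iv3 D48760)) (tt N47464 F334802) (tt N55822 D105453) (tt N55823 D105454) (tt N16539 F161774))
theorem Q29601 : ∀ i, i < 29601 → P i := stepQ 29600 Q29600 (allL N29600 (tt N55824 D105460) (tt N55825 D105461) (tt N16537 F161777) (tt N55822 (iv3 F161847)) (tt N55826 D105462) (tt N14756 (iv5 D48762)) (tt N55827 D105463) (tt N16541 F161778))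
theorem Q29602 : ∀ i, i < 29602 → P i := stepQ 29601 Q29601 (allL N29601 (tt N34695 (iv1 F161879)) (tt N55828 D105465) (tt N16538 F161772) (tt N55823 (iv3 F161849)) (tt N45006 (iv4 F177784)) (tt N31377 F80537) (tt N14756 (iv6 D48763)) (tt N55829 D105466))
theorem Q29603 : ∀ i, i < 29603 → P i := stepQ 29602 Q29602 (allL N29602 (tt N34000 (iv1 F258992)) (tt N43031 F258989) (tt N43030 F259140) (tt N14757 (iv3 D48765)) (tt N55830 D105470) (tt N55831 D105471) (tt N55832 D105472) (tt N16535 F161782))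
theorem Q29604 : ∀ i, i < 29604 → P i := stepQ 29603 Q29603 (allL N29603 (tt N55825 (iv1 F161870)) (tt N55824 F161858) (tt N16541 F161785) (tt N55831 (iv3 F161896)) (tt N55833 D105475) (tt N14757 (iv5 D48767)) (tt N41306 (iv6 F103898)) (tt N16537 F161786))
theorem Q29605 : ∀ i, i < 29605 → P i := stepQ 29604 Q29604 (allL N29604 (tt N45134 F161859) (tt N41645 F323341) (tt N16542 F161787) (tt N55832 (iv3 F161898)) (tt N45009 (iv4 F177800)) (tt N55834 D105476) (tt N14757 (iv6 D48768)) (tt N45132 F161788))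
theorem Q29606 : ∀ i, i < 29606 → P i := stepQ 29605 Q29605 (allL N29605 (tt N18770 (iv1 F76787)) (tt N14760 (iv0 D48769)) (tt N19923 (iv2 F76788)) (tt N55835 D105477) (tt N16563 F76786) (tt N55836 D105478) (tt N55837 D105479) (tt N19582 (iv7 F76789)))
theorem Q29607 : ∀ i, i < 29607 → P i := stepQ 29606 Q29606 (allL N29606 (tt N14760 (iv1 D48770)) (tt N18770 F76790) (tt N19582 (iv2 F76793)) (tt N55838 D105480) (tt N16191 F76792) (tt N55839 D105481) (tt N55840 D105482) (tt N19923 F76791))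
theorem Q29608 : ∀ i, i < 29608 → P i := stepQ 29607 Q29607 (allL N29607 (tt N55841 D105483) (tt N55842 D105484) (tt N55843 D105485) (tt N14760 (iv3 D48771)) (tt N35964 (iv4 F93655)) (tt N55844 D105486) (tt N18239 F76794) (tt N37795 (iv7 F96596)))
theorem Q29609 : ∀ i, i < 29609 → P i := stepQ 29608 Q29608 (allL N29608 (tt N55845 D105487) (tt N55846 D105488) (tt N29610 (iv2 F76796)) (tt N55844 (iv3 F161928)) (tt N39274 (iv4 F99810)) (tt N14760 (iv5 D48772)) (tt N55847 D105489) (tt N37796 (iv7 F96598)))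
theorem Q29610 : ∀ i, i < 29610 → P i := stepQ 29609 Q29609 (allL N29609 (tt N55848 D105490) (tt N55849 D105491) (tt N55850 D105492) (tt N14761 (iv3 D48773)) (tt N30698 (iv4 F79254)) (tt N55851 D105493) (tt N18254 F76795) (tt N36975 (iv7 F95381)))
theorem Q29611 : ∀ i, i < 29611 → P i := stepQ 29610 Q29610 (allL N29610 (tt N39241 (iv1 F99699)) (tt N38459 (iv0 F98334)) (tt N29608 F76796) (tt N55851 (iv3 F161942)) (tt N55852 D105494) (tt N14761 (iv5 D48774)) (tt N55853 D105495) (tt N36976 (iv7 F95382)))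
theorem Q29612 : ∀ i, i < 29612 → P i := stepQ 29611 Q29611 (allL N29611 (tt N31023 (iv1 F79796)) (tt N20317 F76799) (tt N14773 F76797) (tt N55854 D105496) (tt N14762 (iv4 D48775)) (tt N55855 D105497) (tt N55856 D105498) (tt N14778 F76798))
theorem Q29613 : ∀ i, i < 29613 → P i := stepQ 29612 Q29612 (allL N29612 (tt N16799 F101925) (tt N20888 (iv0 F101928)) (tt N14774 F76800) (tt N15411 F76801) (tt N55856 (iv4 F161957)) (tt N15212 F76802) (tt N14762 (iv6 D48776)) (tt N20887 F111392))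
theorem Q29614 : ∀ i, i < 29614 → P i := stepQ 29613 Q29613 (allL N29613 (tt N20317 F76805) (tt N31023 (iv0 F79795)) (tt N14778 F76803) (tt N55857 D105499) (tt N14763 (iv4 D48777)) (tt N55858 D105500) (tt N55859 D105501) (tt N14773 F76804))
theorem Q29615 : ∀ i, i < 29615 → P i := stepQ 29614 Q29614 (allL N29614 (tt N21058 (iv1 F76810)) (tt N16841 (iv0 F76809)) (tt N14779 F76806) (tt N18300 F76807) (tt N55859 (iv4 F161966)) (tt N15644 F76808) (tt N14763 (iv6 D48778)) (tt N21057 (iv7 F76883)))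
theorem Q29616 : ∀ i, i < 29616 → P i := stepQ 29615 Q29615 (allL N29615 (tt N31021 (iv1 F79789)) (tt N19525 F76813) (tt N14781 F76811) (tt N55860 D105502) (tt N14764 (iv4 D48779)) (tt N55861 D105503) (tt N55862 D105504) (tt N14784 F76812))
theorem Q29617 : ∀ i, i < 29617 → P i := stepQ 29616 Q29616 (allL N29616 (tt N18347 F162019) (tt N55863 D105506) (tt N14782 F76814) (tt N36669 (iv3 F94992)) (tt N55862 (iv4 F161974)) (tt N19195 F76815) (tt N14764 (iv6 D48780)) (tt N55864 D105507))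
theorem Q29618 : ∀ i, i < 29618 → P i := stepQ 29617 Q29617 (allL N29617 (tt N19525 F76819) (tt N31021 (iv0 F79788)) (tt N14784 F76816) (tt N20154 F76817) (tt N14765 (iv4 D48781)) (tt N55865 D105508) (tt N55866 D105509) (tt N14781 F76818))
theorem Q29619 : ∀ i, i < 29619 → P i := stepQ 29618 Q29618 (allL N29618 (tt N55867 D105510) (tt N18361 (iv0 F166071)) (tt N14785 F76820) (tt N20157 F76821) (tt N55866 (iv4 F161988)) (tt N15203 F76822) (tt N14765 (iv6 D48782)) (tt N55868 D105512))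
theorem Q29620 : ∀ i, i < 29620 → P i := stepQ 29619 Q29619 (allL N29619 (tt N55869 D105513) (tt N55870 D105514) (tt N55871 D105515) (tt N14766 (iv3 D48783)) (tt N18267 F76823) (tt N55872 D105516) (tt N30572 (iv6 F78897)) (tt N55873 D105517))
theorem Q29621 : ∀ i, i < 29621 → P i := stepQ 29620 Q29620 (allL N29620 (tt N31868 F81580) (tt N30244 (iv0 F78242)) (tt N14789 F76824) (tt N55872 (iv3 F162001)) (tt N31842 (iv4 F81508)) (tt N14766 (iv5 D48784)) (tt N55874 D105518) (tt N39236 (iv7 F99686)))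
theorem Q29622 : ∀ i, i < 29622 → P i := stepQ 29621 Q29621 (allL N29621 (tt N14787 (iv1 F76827)) (tt N14786 F76828) (tt N14790 F76825) (tt N55873 (iv3 F162002)) (tt N14767 F76826) (tt N39236 (iv5 F99685)) (tt N55875 D105519) (tt N14766 (iv7 D48785)))
theorem Q29623 : ∀ i, i < 29623 → P i := stepQ 29622 Q29622 (allL N29622 (tt N30633 (iv1 F79008)) (tt N30632 F79007) (tt N14791 F76829) (tt N18270 F76830) (tt N55875 (iv4 F162006)) (tt N29622 F76831) (tt N14767 (iv6 D48786)) (tt N30575 (iv7 F78909)))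
theorem Q29624 : ∀ i, i < 29624 → P i := stepQ 29623 Q29623 (allL N29623 (tt N15552 F76835) (tt N19867 F76836) (tt N18278 F76832) (tt N55876 D105520) (tt N14768 (iv4 D48787)) (tt N19907 F76834) (tt N55877 D105521) (tt N18299 F76833))
theorem Q29625 : ∀ i, i < 29625 → P i := stepQ 29624 Q29624 (allL N29624 (tt N31477 F111394) (tt N39481 F111441) (tt N18279 F76841) (tt N14774 F76842) (tt N55877 (iv4 F162011)) (tt N32148 (iv5 F82420)) (tt N14768 (iv6 D48788)) (tt N55878 D105522))
theorem Q29626 : ∀ i, i < 29626 → P i := stepQ 29625 Q29625 (allL N29625 (tt N15511 F76844) (tt N15513 F76843) (tt N31847 F81525) (tt N55879 D105523) (tt N14770 (iv4 D48789)) (tt N39235 (iv5 F99679)) (tt N55880 D105524) (tt N31848 (iv7 F81528)))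
theorem Q29627 : ∀ i, i < 29627 → P i := stepQ 29626 Q29626 (allL N29626 (tt N32018 (iv1 F170669)) (tt N55881 D105526) (tt N35569 (iv2 F92873)) (tt N31405 (iv3 F80612)) (tt N55880 (iv4 F162031)) (tt N35923 (iv5 F93585)) (tt N14770 (iv6 D48790)) (tt N55882 D105527))
theorem Q29628 : ∀ i, i < 29628 → P i := stepQ 29627 Q29627 (allL N29627 (tt N14771 (iv1 D48791)) (tt N20896 F76845) (tt N20350 F76849) (tt N16264 F76850) (tt N16598 F76847) (tt N18677 F76851) (tt N18065 (iv6 F76848)) (tt N19672 F76846))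
theorem Q29629 : ∀ i, i < 29629 → P i := stepQ 29628 Q29628 (allL N29628 (tt N20862 F76854) (tt N15506 F76855) (tt N16102 F76852) (tt N55883 D105528) (tt N14772 (iv4 D48792)) (tt N55884 D105529) (tt N55885 D105530) (tt N20860 F76853))
theorem Q29630 : ∀ i, i < 29630 → P i := stepQ 29629 Q29629 (allL N29629 (tt N55886 D105531) (tt N55887 D105532) (tt N16097 F76856) (tt N18283 F76857) (tt N55885 (iv4 F162040)) (tt N16083 F76858) (tt N14772 (iv6 D48793)) (tt N55888 D105533))
theorem Q29631 : ∀ i, i < 29631 → P i := stepQ 29630 Q29630 (allL N29630 (tt N14778 (iv1 F76860)) (tt N14773 (iv0 D48794)) (tt N31023 (iv2 F79793)) (tt N55889 D105534) (tt N15105 F76859) (tt N55890 D105535) (tt N55891 D105536) (tt N20317 (iv7 F76861)))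
theorem Q29632 : ∀ i, i < 29632 → P i := stepQ 29631 Q29631 (allL N29631 (tt N14773 (iv1 D48795)) (tt N14778 F76862) (tt N20317 (iv2 F76864)) (tt N55892 D105537) (tt N15104 F76863) (tt N55893 D105538) (tt N55894 D105539) (tt N31023 (iv7 F79794)))
theorem Q29633 : ∀ i, i < 29633 → P i := stepQ 29632 Q29632 (allL N29632 (tt N55895 D105540) (tt N55896 D105541) (tt N55897 D105542) (tt N14773 (iv3 D48796)) (tt N55876 (iv4 F162007)) (tt N55898 D105543) (tt N55899 D105544) (tt N55857 (iv7 F161960)))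
theorem Q29634 : ∀ i, i < 29634 → P i := stepQ 29633 Q29633 (allL N29633 (tt N55900 D105545) (tt N39239 (iv0 F99694)) (tt N55855 (iv2 F161952)) (tt N55898 (iv3 F162072)) (tt N35635 (iv4 F93037)) (tt N14773 (iv5 D48797)) (tt N55901 D105546) (tt N55858 (iv7 F161963)))
theorem Q29635 : ∀ i, i < 29635 → P i := stepQ 29634 Q29634 (allL N29634 (tt N55902 D105547) (tt N55903 D105548) (tt N55856 (iv2 F161956)) (tt N55899 (iv3 F162073)) (tt N14774 F76865) (tt N55904 D105549) (tt N14773 (iv6 D48798)) (tt N55905 D105550))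
theorem Q29636 : ∀ i, i < 29636 → P i := stepQ 29635 Q29635 (allL N29635 (tt N20887 F111386) (tt N14774 (iv0 D48799)) (tt N16799 F111387) (tt N18289 F111388) (tt N55906 D105551) (tt N33484 F111389) (tt N30591 (iv6 F93760)) (tt N20888 F111390))
theorem Q29637 : ∀ i, i < 29637 → P i := stepQ 29636 Q29636 (allL N29636 (tt N55907 D105552) (tt N20895 F162016) (tt N15212 F76866) (tt N32148 (iv3 F82418)) (tt N55908 D105553) (tt N14774 (iv5 D48801)) (tt N14775 F76867) (tt N55909 D105554))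
theorem Q29638 : ∀ i, i < 29638 → P i := stepQ 29637 Q29637 (allL N29637 (tt N20888 F101937) (tt N16799 F101938) (tt N20887 F111393) (tt N55878 (iv3 F162025)) (tt N55905 (iv4 F162086)) (tt N55909 (iv5 F162119)) (tt N21057 F76884) (tt N14774 (iv7 D48802)))
theorem Q29639 : ∀ i, i < 29639 → P i := stepQ 29638 Q29638 (allL N29638 (tt N15365 F76870) (tt N32225 F82564) (tt N15211 F76868) (tt N44259 (iv3 F111506)) (tt N14775 (iv4 D48803)) (tt N55910 D105555) (tt N55908 (iv6 F162117)) (tt N15208 F76869))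
theorem Q29640 : ∀ i, i < 29640 → P i := stepQ 29639 Q29639 (allL N29639 (tt N16661 F76873) (tt N16659 F76874) (tt N15440 F76871) (tt N55911 D105556) (tt N14776 (iv4 D48804)) (tt N38660 (iv5 F98560)) (tt N55912 D105557) (tt N15410 F76872))
theorem Q29641 : ∀ i, i < 29641 → P i := stepQ 29640 Q29640 (allL N29640 (tt N40399 (iv1 F101682)) (tt N35818 (iv0 F93311)) (tt N15441 F76875) (tt N14779 F76876) (tt N55912 (iv4 F162129)) (tt N32068 (iv5 F82226)) (tt N14776 (iv6 D48805)) (tt N55913 D105558))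
theorem Q29642 : ∀ i, i < 29642 → P i := stepQ 29641 Q29641 (allL N29641 (tt N55914 D105559) (tt N55915 D105560) (tt N55916 D105561) (tt N14778 (iv3 D48806)) (tt N55911 (iv4 F162126)) (tt N55917 D105562) (tt N55918 D105563) (tt N55854 (iv7 F161951)))
theorem Q29643 : ∀ i, i < 29643 → P i := stepQ 29642 Q29642 (allL N29642 (tt N39239 (iv1 F99695)) (tt N55900 F162076) (tt N55858 (iv2 F161961)) (tt N55917 (iv3 F162140)) (tt N39235 (iv4 F99683)) (tt N14778 (iv5 D48807)) (tt N55919 D105564) (tt N55855 (iv7 F161953)))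
theorem Q29644 : ∀ i, i < 29644 → P i := stepQ 29643 Q29643 (allL N29643 (tt N55920 D105565) (tt N55921 D105566) (tt N55859 (iv2 F161965)) (tt N55918 (iv3 F162141)) (tt N14779 F76877) (tt N55922 D105567) (tt N14778 (iv6 D48808)) (tt N55923 D105568))
theorem Q29645 : ∀ i, i < 29645 → P i := stepQ 29644 Q29644 (allL N29644 (tt N14779 (iv1 D48809)) (tt N21057 F76882) (tt N16841 F76880) (tt N18304 F76881) (tt N55924 D105569) (tt N18111 (iv5 F76879)) (tt N30567 F78885) (tt N21058 F76878))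
theorem Q29646 : ∀ i, i < 29646 → P i := stepQ 29645 Q29645 (allL N29645 (tt N16841 (iv1 F76886)) (tt N21058 F76887) (tt N21057 F76885) (tt N55913 (iv3 F162134)) (tt N55923 (iv4 F162146)) (tt N32073 (iv5 F82236)) (tt N20887 F111395) (tt N14779 (iv7 D48810)))
theorem Q29647 : ∀ i, i < 29647 → P i := stepQ 29646 Q29646 (allL N29646 (tt N31499 (iv1 F103594)) (tt N39646 (iv0 F100529)) (tt N20146 F76888) (tt N14782 F76889) (tt N19897 F76890) (tt N36764 (iv5 F95171)) (tt N14780 (iv6 D48811)) (tt N55925 D105570))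
theorem Q29648 : ∀ i, i < 29648 → P i := stepQ 29647 Q29647 (allL N29647 (tt N14784 (iv1 F76892)) (tt N14781 (iv0 D48812)) (tt N31021 (iv2 F79786)) (tt N55926 D105571) (tt N15101 F76891) (tt N55900 (iv5 F162074)) (tt N55927 D105572) (tt N19525 F76893))
theorem Q29649 : ∀ i, i < 29649 → P i := stepQ 29648 Q29648 (allL N29648 (tt N55928 D105573) (tt N55929 D105574) (tt N55930 D105575) (tt N14781 (iv3 D48813)) (tt N19895 F76894) (tt N55931 D105576) (tt N55932 D105577) (tt N20154 F76895))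
theorem Q29650 : ∀ i, i < 29650 → P i := stepQ 29649 Q29649 (allL N29649 (tt N40084 (iv1 F101146)) (tt N55933 D105578) (tt N55861 (iv2 F161970)) (tt N55931 (iv3 F162177)) (tt N35676 (iv4 F93108)) (tt N14781 (iv5 D48814)) (tt N55934 D105579) (tt N55865 (iv7 F161985)))
theorem Q29651 : ∀ i, i < 29651 → P i := stepQ 29650 Q29650 (allL N29650 (tt N55935 D105580) (tt N55936 D105581) (tt N55862 (iv2 F161973)) (tt N55932 (iv3 F162179)) (tt N14782 F76896) (tt N39734 (iv5 F344608)) (tt N14781 (iv6 D48815)) (tt N55937 D105583))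
theorem Q29652 : ∀ i, i < 29652 → P i := stepQ 29651 Q29651 (allL N29651 (tt N55864 (iv1 F161981)) (tt N14782 (iv0 D48816)) (tt N18347 F101891) (tt N18311 F101892) (tt N55938 D105584) (tt N55939 D105585) (tt N30614 F93886) (tt N55863 (iv7 F162020)))
theorem Q29653 : ∀ i, i < 29653 → P i := stepQ 29652 Q29652 (allL N29652 (tt N14782 (iv1 D48817)) (tt N55864 F161980) (tt N55863 F162021) (tt N14795 F101893) (tt N55940 D105586) (tt N38107 F101894) (tt N55941 D105587) (tt N18347 F101895))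
theorem Q29654 : ∀ i, i < 29654 → P i := stepQ 29653 Q29653 (allL N29653 (tt N55863 (iv1 F161975)) (tt N18347 F162018) (tt N55864 (iv2 F161976)) (tt N55925 (iv3 F162162)) (tt N55937 (iv4 F162188)) (tt N19232 F93682) (tt N55868 (iv6 F161996)) (tt N14782 (iv7 D48818)))
theorem Q29655 : ∀ i, i < 29655 → P i := stepQ 29654 Q29654 (allL N29654 (tt N40706 (iv1 F166499)) (tt N40710 (iv0 F166498)) (tt N36670 (iv2 F94994)) (tt N14785 F76897) (tt N38654 (iv4 F98548)) (tt N19549 F76898) (tt N14783 (iv6 D48819)) (tt N55942 D105590))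
theorem Q29656 : ∀ i, i < 29656 → P i := stepQ 29655 Q29655 (allL N29655 (tt N55943 D105591) (tt N55944 D105592) (tt N55945 D105593) (tt N14784 (iv3 D48820)) (tt N38652 (iv4 F98540)) (tt N55946 D105594) (tt N55947 D105595) (tt N55860 (iv7 F161969)))
theorem Q29657 : ∀ i, i < 29657 → P i := stepQ 29656 Q29656 (allL N29656 (tt N55933 (iv1 F162181)) (tt N40084 (iv0 F101145)) (tt N55865 (iv2 F161982)) (tt N55946 (iv3 F162205)) (tt N39229 (iv4 F99671)) (tt N14784 (iv5 D48821)) (tt N55948 D105596) (tt N55861 (iv7 F161971)))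
theorem Q29658 : ∀ i, i < 29658 → P i := stepQ 29657 Q29657 (allL N29657 (tt N55949 D105597) (tt N55950 D105598) (tt N55866 (iv2 F161986)) (tt N55947 (iv3 F162206)) (tt N14785 F76899) (tt N55951 D105599) (tt N14784 (iv6 D48822)) (tt N55952 D105600))
theorem Q29659 : ∀ i, i < 29659 → P i := stepQ 29658 Q29658 (allL N29658 (tt N55868 F161998) (tt N14785 (iv0 D48823)) (tt N55867 (iv2 F166101)) (tt N14797 (iv3 F166103)) (tt N55953 D105603) (tt N18320 F103697) (tt N55954 D105604) (tt N18361 (iv7 F166096)))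
theorem Q29660 : ∀ i, i < 29660 → P i := stepQ 29659 Q29659 (allL N29659 (tt N14785 (iv1 D48824)) (tt N55868 F161997) (tt N18361 (iv2 F166095)) (tt N18321 F166114) (tt N55955 D105607) (tt N18321 F95303) (tt N30607 F95304) (tt N55867 (iv7 F166102)))
theorem Q29661 : ∀ i, i < 29661 → P i := stepQ 29660 Q29660 (allL N29660 (tt N20886 F111398) (tt N44464 F112190) (tt N15203 F76900) (tt N19549 F76901) (tt N55956 D105608) (tt N14785 (iv5 D48825)) (tt N15192 F76902) (tt N44463 (iv7 F112179)))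
theorem Q29662 : ∀ i, i < 29662 → P i := stepQ 29661 Q29661 (allL N29661 (tt N18361 (iv1 F166072)) (tt N55867 (iv0 F161990)) (tt N55868 (iv2 F161993)) (tt N55942 (iv3 F162202)) (tt N55952 (iv4 F162207)) (tt N44463 F112182) (tt N55864 (iv6 F161978)) (tt N14785 (iv7 D48826)))
theorem Q29663 : ∀ i, i < 29663 → P i := stepQ 29662 Q29662 (allL N29662 (tt N55957 D105609) (tt N55958 D105610) (tt N55959 D105611) (tt N14786 (iv3 D48827)) (tt N29938 (iv4 F77649)) (tt N55960 D105612) (tt N55961 D105613) (tt N30290 (iv7 F78304)))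
theorem Q29664 : ∀ i, i < 29664 → P i := stepQ 29663 Q29663 (allL N29663 (tt N41231 (iv1 F103689)) (tt N32090 (iv0 F82279)) (tt N31931 (iv2 F81772)) (tt N55960 (iv3 F162219)) (tt N31920 (iv4 F81738)) (tt N14786 (iv5 D48828)) (tt N55962 D105614) (tt N30291 (iv7 F78306)))
theorem Q29665 : ∀ i, i < 29665 → P i := stepQ 29664 Q29664 (allL N29664 (tt N55938 F162192) (tt N55940 (iv0 F162197)) (tt N33117 (iv2 F84098)) (tt N55961 (iv3 F162220)) (tt N29937 (iv4 F77648)) (tt N55963 D105615) (tt N14786 (iv6 D48829)) (tt N55964 D105616))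
theorem Q29666 : ∀ i, i < 29666 → P i := stepQ 29665 Q29665 (allL N29665 (tt N55965 D105617) (tt N55966 D105618) (tt N55967 D105619) (tt N14787 (iv3 D48830)) (tt N33042 (iv4 F83970)) (tt N55968 D105620) (tt N55969 D105621) (tt N33116 (iv7 F84097)))
theorem Q29667 : ∀ i, i < 29667 → P i := stepQ 29666 Q29666 (allL N29666 (tt N32090 (iv1 F82280)) (tt N41231 (iv0 F103688)) (tt N30291 (iv2 F78305)) (tt N55968 (iv3 F162221)) (tt N15568 F76903) (tt N14787 (iv5 D48831)) (tt N55970 D105622) (tt N31931 (iv7 F81774)))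
theorem Q29668 : ∀ i, i < 29668 → P i := stepQ 29667 Q29667 (allL N29667 (tt N55953 (iv1 F166105)) (tt N55955 (iv0 F166097)) (tt N30292 (iv2 F78308)) (tt N55969 (iv3 F162222)) (tt N30289 (iv4 F78301)) (tt N55971 D105625) (tt N14787 (iv6 D48832)) (tt N55972 D105626))
theorem Q29669 : ∀ i, i < 29669 → P i := stepQ 29668 Q29668 (allL N29668 (tt N40584 (iv1 F102215)) (tt N14788 (iv0 D48833)) (tt N20698 F102942) (tt N55973 D105627) (tt N20697 (iv4 F102936)) (tt N55974 D105628) (tt N55975 D105629) (tt N40586 F102943))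
theorem Q29670 : ∀ i, i < 29670 → P i := stepQ 29669 Q29669 (allL N29669 (tt N14788 (iv1 D48834)) (tt N40584 (iv0 F102214)) (tt N40586 (iv2 F102982)) (tt N55976 D105630) (tt N20701 (iv4 F102984)) (tt N55977 D105631) (tt N55978 D105632) (tt N20698 (iv7 F102983)))
theorem Q29671 : ∀ i, i < 29671 → P i := stepQ 29670 Q29670 (allL N29670 (tt N20698 F76906) (tt N40586 F102218) (tt N14788 (iv2 D48835)) (tt N55871 (iv3 F161999)) (tt N14802 F76905) (tt N55979 D105633) (tt N30623 (iv6 F78984)) (tt N40584 (iv7 F102213)))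
theorem Q29672 : ∀ i, i < 29672 → P i := stepQ 29671 Q29671 (allL N29671 (tt N55980 D105634) (tt N55981 D105635) (tt N55979 (iv2 F162234)) (tt N14789 F76907) (tt N55982 D105636) (tt N14788 (iv5 D48836)) (tt N55869 (iv6 F361840)) (tt N40587 (iv7 F102220)))
theorem Q29673 : ∀ i, i < 29673 → P i := stepQ 29672 Q29672 (allL N29672 (tt N39236 (iv1 F99688)) (tt N14789 (iv0 D48837)) (tt N31868 (iv2 F81576)) (tt N55983 D105638) (tt N31845 (iv4 F81516)) (tt N15506 F76908) (tt N55984 D105639) (tt N30244 (iv7 F78241)))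
theorem Q29674 : ∀ i, i < 29674 → P i := stepQ 29673 Q29673 (allL N29673 (tt N14789 (iv1 D48838)) (tt N39236 (iv0 F99687)) (tt N30244 (iv2 F78240)) (tt N55985 D105640) (tt N15518 (iv4 F76910)) (tt N20862 F76909) (tt N55986 D105641) (tt N31868 (iv7 F81578)))
theorem Q29675 : ∀ i, i < 29675 → P i := stepQ 29674 Q29674 (allL N29674 (tt N35635 (iv1 F93039)) (tt N39235 F99681) (tt N31842 (iv2 F81507)) (tt N55987 D105642) (tt N14789 (iv4 D48839)) (tt N15498 F76911) (tt N55988 D105643) (tt N19916 (iv7 F76912)))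
theorem Q29676 : ∀ i, i < 29676 → P i := stepQ 29675 Q29675 (allL N29675 (tt N55989 D105644) (tt N55990 D105645) (tt N55874 (iv2 F162004)) (tt N55869 (iv3 F361838)) (tt N55988 (iv4 F162241)) (tt N30629 (iv5 F79001)) (tt N14789 (iv6 D48840)) (tt N55991 D105646))
theorem Q29677 : ∀ i, i < 29677 → P i := stepQ 29676 Q29676 (allL N29676 (tt N30244 (iv1 F78243)) (tt N31868 (iv0 F81579)) (tt N39236 (iv2 F99684)) (tt N40587 (iv3 F102219)) (tt N19916 F76913) (tt N14790 F76914) (tt N55992 D105647) (tt N14789 (iv7 D48841)))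
theorem Q29678 : ∀ i, i < 29678 → P i := stepQ 29677 Q29677 (allL N29677 (tt N55993 D105648) (tt N55994 D105649) (tt N55875 (iv2 F162005)) (tt N40588 (iv3 F102221)) (tt N14791 F76915) (tt N55995 D105650) (tt N14790 (iv6 D48842)) (tt N30631 (iv7 F79006)))
theorem Q29679 : ∀ i, i < 29679 → P i := stepQ 29678 Q29678 (allL N29678 (tt N30575 (iv1 F78911)) (tt N14791 (iv0 D48843)) (tt N30633 F202551) (tt N55996 D105652) (tt N55997 D105653) (tt N41295 (iv5 F111409)) (tt N55998 D105654) (tt N30632 (iv7 F202554)))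
theorem Q29680 : ∀ i, i < 29680 → P i := stepQ 29679 Q29679 (allL N29679 (tt N14791 (iv1 D48844)) (tt N30575 F78910) (tt N30632 (iv2 F202553)) (tt N38717 (iv3 F169259)) (tt N55999 D105657) (tt N41296 F111407) (tt N35764 (iv6 F93197)) (tt N30633 F202552))
theorem Q29681 : ∀ i, i < 29681 → P i := stepQ 29680 Q29680 (allL N29680 (tt N33522 (iv1 F85039)) (tt N33525 (iv0 F85048)) (tt N31486 (iv2 F80751)) (tt N20650 F76916) (tt N36187 (iv4 F94049)) (tt N14792 (iv5 D48845)) (tt N56000 D105658) (tt N18355 F76917))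
theorem Q29682 : ∀ i, i < 29682 → P i := stepQ 29681 Q29681 (allL N29681 (tt N56001 D105659) (tt N56002 D105660) (tt N31487 (iv2 F80756)) (tt N20651 F76918) (tt N14793 F76919) (tt N56003 D105661) (tt N14792 (iv6 D48846)) (tt N56004 D105662))
theorem Q29683 : ∀ i, i < 29683 → P i := stepQ 29682 Q29682 (allL N29682 (tt N31490 (iv1 F80764)) (tt N14793 (iv0 D48847)) (tt N31488 F103547) (tt N56005 D105663) (tt N56006 D105664) (tt N56007 D105665) (tt N31480 F92827) (tt N31489 (iv7 F103548)))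
theorem Q29684 : ∀ i, i < 29684 → P i := stepQ 29683 Q29683 (allL N29683 (tt N14793 (iv1 D48848)) (tt N31490 F80763) (tt N31489 (iv2 F103550)) (tt N56008 D105666) (tt N56009 D105667) (tt N37793 (iv5 F96592)) (tt N56010 D105668) (tt N31488 F103549))
theorem Q29685 : ∀ i, i < 29685 → P i := stepQ 29684 Q29684 (allL N29684 (tt N31489 (iv1 F80758)) (tt N31488 F80762) (tt N31490 (iv2 F80759)) (tt N14796 F76920) (tt N56004 (iv4 F162258)) (tt N19147 (iv5 F77802)) (tt N18359 F76922) (tt N14793 (iv7 D48849)))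
theorem Q29686 : ∀ i, i < 29686 → P i := stepQ 29685 Q29685 (allL N29685 (tt N18314 F162104) (tt N18263 F162105) (tt N18311 F101870) (tt N14794 (iv3 D48851)) (tt N39605 (iv4 F102075)) (tt N56011 D105669) (tt N20895 F76925) (tt N18312 F101871))
theorem Q29687 : ∀ i, i < 29687 → P i := stepQ 29686 Q29686 (allL N29686 (tt N18847 F76927) (tt N18827 (iv0 F76928)) (tt N18348 F76955) (tt N56011 (iv3 F162268)) (tt N36154 F323864) (tt N14794 (iv5 D48852)) (tt N18348 F76926) (tt N18349 (iv7 F76954)))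
theorem Q29688 : ∀ i, i < 29688 → P i := stepQ 29687 Q29687 (allL N29687 (tt N19269 F76932) (tt N18382 (iv0 F76933)) (tt N18350 F76935) (tt N55941 (iv3 F162198)) (tt N33327 (iv4 F84472)) (tt N19208 F76930) (tt N14795 (iv6 D48855)) (tt N20894 F76931))
theorem Q29689 : ∀ i, i < 29689 → P i := stepQ 29688 Q29688 (allL N29688 (tt N18193 F76972) (tt N18192 (iv0 F76973)) (tt N18360 (iv2 F78648)) (tt N55954 (iv3 F166108)) (tt N25264 F316868) (tt N15664 F76971) (tt N14797 (iv6 D48858)) (tt N21068 (iv7 F78661)))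
theorem Q29690 : ∀ i, i < 29690 → P i := stepQ 29689 Q29689 (allL N29689 (tt N18265 F166073) (tt N18323 F166074) (tt N18321 F166110) (tt N14798 (iv3 D48860)) (tt N56012 D105678) (tt N18361 F76976) (tt N30653 (iv6 F79067)) (tt N18320 F166111))
theorem Q29691 : ∀ i, i < 29691 → P i := stepQ 29690 Q29690 (allL N29690 (tt N33357 (iv1 F179963)) (tt N40603 (iv0 F102830)) (tt N33178 (iv2 F173697)) (tt N14800 (iv3 D48862)) (tt N33176 (iv4 F173696)) (tt N56013 D105687) (tt N56014 D105688) (tt N33183 (iv7 F173676)))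
theorem Q29692 : ∀ i, i < 29692 → P i := stepQ 29691 Q29691 (allL N29691 (tt N40851 F102872) (tt N40896 (iv0 F179964)) (tt N40581 (iv2 F173684)) (tt N56015 D105691) (tt N14800 (iv4 D48863)) (tt N56016 D105692) (tt N56017 D105693) (tt N40578 (iv7 F173678)))
theorem Q29693 : ∀ i, i < 29693 → P i := stepQ 29692 Q29692 (allL N29692 (tt N40631 (iv1 F162317)) (tt N20387 (iv0 F162318)) (tt N40582 (iv2 F173686)) (tt N56013 (iv3 F162305)) (tt N56018 D105697) (tt N14800 (iv5 D48864)) (tt N56019 D105698) (tt N40579 (iv7 F173674)))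
theorem Q29694 : ∀ i, i < 29694 → P i := stepQ 29693 Q29693 (allL N29693 (tt N36654 (iv1 F320124)) (tt N33326 (iv0 F320126)) (tt N40583 (iv2 F173688)) (tt N56014 (iv3 F162306)) (tt N56017 (iv4 F162309)) (tt N56020 D105702) (tt N14800 (iv6 D48865)) (tt N40640 F320120))
theorem Q29695 : ∀ i, i < 29695 → P i := stepQ 29694 Q29694 (allL N29694 (tt N40726 F162313) (tt N33313 F162314) (tt N40725 (iv2 F179984)) (tt N14801 (iv3 D48867)) (tt N40769 (iv4 F102626)) (tt N56021 D105706) (tt N56022 D105707) (tt N40580 (iv7 F173683)))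
theorem Q29696 : ∀ i, i < 29696 → P i := stepQ 29695 Q29695 (allL N29695 (tt N40896 (iv1 F179965)) (tt N40851 F162312) (tt N40578 (iv2 F173677)) (tt N56023 D105708) (tt N14801 (iv4 D48868)) (tt N56024 D105709) (tt N56025 D105710) (tt N40581 (iv7 F173685)))
theorem Q29697 : ∀ i, i < 29697 → P i := stepQ 29696 Q29696 (allL N29696 (tt N20387 F162319) (tt N40631 F162320) (tt N40579 (iv2 F173673)) (tt N56021 (iv3 F162327)) (tt N56026 D105711) (tt N14801 (iv5 D48869)) (tt N21611 (iv6 F317370)) (tt N40582 (iv7 F173687)))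
theorem Q29698 : ∀ i, i < 29698 → P i := stepQ 29697 Q29697 (allL N29697 (tt N25260 (iv1 F317371)) (tt N40759 F319706) (tt N33881 (iv2 F317348)) (tt N56022 (iv3 F162328)) (tt N56025 (iv4 F162329)) (tt N33869 (iv5 F317377)) (tt N14801 (iv6 D48870)) (tt N33885 (iv7 F317378)))
theorem Q29699 : ∀ i, i < 29699 → P i := stepQ 29698 Q29698 (allL N29698 (tt N18461 (iv1 F76982)) (tt N18460 F76983) (tt N14803 F76979) (tt N18373 F76980) (tt N51984 (iv4 F317354)) (tt N14802 (iv5 D48871)) (tt N42558 F315147) (tt N18462 F76981))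
theorem Q29700 : ∀ i, i < 29700 → P i := stepQ 29699 Q29699 (allL N29699 (tt N14803 (iv1 D48873)) (tt N18462 F76985) (tt N18460 F105493) (tt N56027 D105721) (tt N56028 D105722) (tt N20870 F162344) (tt N18460 F319641) (tt N18461 F105495))
theorem Q29701 : ∀ i, i < 29701 → P i := stepQ 29700 Q29700 (allL N29700 (tt N51739 (iv1 F317381)) (tt N56029 D105725) (tt N51984 (iv2 F317353)) (tt N18452 F76986) (tt N14803 (iv4 D48874)) (tt N56030 D105726) (tt N56031 D105727) (tt N18449 F76987))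
theorem Q29702 : ∀ i, i < 29702 → P i := stepQ 29701 Q29701 (allL N29701 (tt N42524 (iv1 F312692)) (tt N42526 (iv0 F312693)) (tt N42558 (iv2 F312688)) (tt N14804 F76988) (tt N56031 (iv4 F162369)) (tt N30667 (iv5 F79094)) (tt N14803 (iv6 D48875)) (tt N42557 (iv7 F312695)))
theorem Q29703 : ∀ i, i < 29703 → P i := stepQ 29702 Q29702 (allL N29702 (tt N18377 (iv1 F76994)) (tt N18376 F76995) (tt N18378 F76990) (tt N42557 (iv3 F312694)) (tt N18471 F76991) (tt N30671 (iv5 F79100)) (tt N18465 F76992) (tt N14804 (iv7 D48878)))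
theorem Q29704 : ∀ i, i < 29704 → P i := stepQ 29703 Q29703 (allL N29703 (tt N16121 (iv1 F168095)) (tt N16819 (iv0 F168096)) (tt N20787 (iv2 F168097)) (tt N14805 (iv3 D48879)) (tt N56032 D105743) (tt N41187 F168089) (tt N36806 F168090) (tt N18383 F76996))
theorem Q29705 : ∀ i, i < 29705 → P i := stepQ 29704 Q29704 (allL N29704 (tt N14807 (iv1 D48883)) (tt N18969 F77002) (tt N22138 (iv2 F77004)) (tt N38154 F97545) (tt N56033 D105744) (tt N22068 (iv5 F77005)) (tt N33508 (iv6 F84998)) (tt N22142 F77003))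
theorem Q29706 : ∀ i, i < 29706 → P i := stepQ 29705 Q29705 (allL N29705 (tt N23280 (iv1 F77010)) (tt N23276 (iv0 F77009)) (tt N18391 F77006) (tt N29524 F77008) (tt N14810 (iv4 D48884)) (tt N56034 D105745) (tt N30522 F78782) (tt N18393 F77007))
theorem Q29707 : ∀ i, i < 29707 → P i := stepQ 29706 Q29706 (allL N29706 (tt N14825 (iv1 F77020)) (tt N14824 (iv0 F77015)) (tt N14828 F77011) (tt N18415 F77012) (tt N56035 D105746) (tt N14812 (iv5 D48885)) (tt N56036 D105747) (tt N14823 F77013))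
theorem Q29708 : ∀ i, i < 29708 → P i := stepQ 29707 Q29707 (allL N29707 (tt N21097 F77026) (tt N16858 (iv0 F77025)) (tt N18420 F77021) (tt N14813 (iv3 D48886)) (tt N16327 F77023) (tt N41347 (iv5 F103989)) (tt N16325 (iv6 F77024)) (tt N14819 F77022))
theorem Q29709 : ∀ i, i < 29709 → P i := stepQ 29708 Q29708 (allL N29708 (tt N21202 F77031) (tt N21168 (iv0 F77032)) (tt N14815 F77029) (tt N14905 (iv3 F77033)) (tt N14813 (iv4 D48887)) (tt N45213 (iv5 F114802)) (tt N21162 (iv6 F77041)) (tt N14820 F77030))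
theorem Q29710 : ∀ i, i < 29710 → P i := stepQ 29709 Q29709 (allL N29709 (tt N16849 (iv1 F77040)) (tt N18429 (iv0 F77038)) (tt N14817 F77034) (tt N16325 F77035) (tt N21162 F77039) (tt N23282 F77037) (tt N14813 (iv6 D48888)) (tt N18430 F77036))
theorem Q29711 : ∀ i, i < 29711 → P i := stepQ 29710 Q29710 (allL N29710 (tt N14820 F77047) (tt N14815 (iv0 D48889)) (tt N21202 (iv2 F77043)) (tt N26895 (iv3 F77044)) (tt N16888 F77042) (tt N56037 D105748) (tt N17135 (iv6 F77045)) (tt N21168 (iv7 F77046)))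
theorem Q29712 : ∀ i, i < 29712 → P i := stepQ 29711 Q29711 (allL N29711 (tt N14815 (iv1 D48890)) (tt N14820 F77048) (tt N21168 F77051) (tt N16296 F77052) (tt N16913 (iv4 F77050)) (tt N56038 D105749) (tt N14838 F77053) (tt N21202 F77049))
theorem Q29713 : ∀ i, i < 29713 → P i := stepQ 29712 Q29712 (allL N29712 (tt N16889 F77055) (tt N16886 (iv0 F77056)) (tt N21162 (iv2 F77059)) (tt N14815 (iv3 D48891)) (tt N14817 F77054) (tt N56039 D105750) (tt N14815 (iv6 F77060)) (tt N18431 (iv7 F77061)))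
theorem Q29714 : ∀ i, i < 29714 → P i := stepQ 29713 Q29713 (allL N29713 (tt N34706 (iv1 F88619)) (tt N45215 F114808) (tt N45213 F114803) (tt N56039 (iv3 F162407)) (tt N56040 D105751) (tt N14815 (iv5 D48892)) (tt N56041 D105752) (tt N45212 F114800))
theorem Q29715 : ∀ i, i < 29715 → P i := stepQ 29714 Q29714 (allL N29714 (tt N21168 (iv1 F77065)) (tt N21202 F77066) (tt N14820 F77062) (tt N18431 F77063) (tt N14818 F77064) (tt N45212 (iv5 F114797)) (tt N28133 (iv6 F77067)) (tt N14815 (iv7 D48893)))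
theorem Q29716 : ∀ i, i < 29716 → P i := stepQ 29715 Q29715 (allL N29715 (tt N34708 (iv1 F88627)) (tt N45223 F114841) (tt N41348 (iv2 F103991)) (tt N44894 F322595) (tt N14816 (iv4 D48894)) (tt N56042 D105754) (tt N56043 D105755) (tt N41345 (iv7 F103984)))
theorem Q29717 : ∀ i, i < 29717 → P i := stepQ 29716 Q29716 (allL N29716 (tt N29140 F317658) (tt N21127 (iv0 F243110)) (tt N41349 (iv2 F103994)) (tt N42443 (iv3 F106189)) (tt N56043 (iv4 F162412)) (tt N56044 D105758) (tt N14816 (iv6 D48895)) (tt N56045 D105759))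
theorem Q29718 : ∀ i, i < 29718 → P i := stepQ 29717 Q29717 (allL N29717 (tt N23274 F77071) (tt N21134 (iv0 F77072)) (tt N23282 F77068) (tt N18417 F77069) (tt N56046 D105760) (tt N14817 (iv5 D48896)) (tt N56044 (iv6 F162415)) (tt N18432 F77070))
theorem Q29719 : ∀ i, i < 29719 → P i := stepQ 29718 Q29718 (allL N29718 (tt N16858 (iv1 F77076)) (tt N21097 F77075) (tt N14819 (iv2 D48897)) (tt N18423 F77073) (tt N16329 F77077) (tt N41359 (iv5 F104019)) (tt N46111 (iv6 F120336)) (tt N18420 F77074))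
theorem Q29720 : ∀ i, i < 29720 → P i := stepQ 29719 Q29719 (allL N29719 (tt N16874 F77080) (tt N16872 (iv0 F77081)) (tt N16329 F77078) (tt N50089 (iv3 F138859)) (tt N14819 (iv4 D48898)) (tt N42357 (iv5 F106046)) (tt N50085 (iv6 F138845)) (tt N16327 F77079))
theorem Q29721 : ∀ i, i < 29721 → P i := stepQ 29720 Q29720 (allL N29720 (tt N41357 (iv1 F104009)) (tt N21103 F104011) (tt N41359 (iv2 F104021)) (tt N14821 F77082) (tt N42394 (iv4 F106108)) (tt N14819 (iv5 D48899)) (tt N56047 D105761) (tt N41347 (iv7 F103990)))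
theorem Q29722 : ∀ i, i < 29722 → P i := stepQ 29721 Q29721 (allL N29721 (tt N41897 F105050) (tt N19068 (iv0 F77093)) (tt N46111 (iv2 F120333)) (tt N14822 F77083) (tt N50085 (iv4 F138842)) (tt N42581 (iv5 F106435)) (tt N14819 (iv6 D48900)) (tt N38327 (iv7 F97969)))
theorem Q29723 : ∀ i, i < 29723 → P i := stepQ 29722 Q29722 (allL N29722 (tt N14907 F77085) (tt N14909 (iv0 F77086)) (tt N14906 F77487) (tt N14820 (iv3 D48901)) (tt N50089 (iv4 F138860)) (tt N56048 D105762) (tt N50088 (iv6 F138857)) (tt N14905 F77084))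
theorem Q29724 : ∀ i, i < 29724 → P i := stepQ 29723 Q29723 (allL N29723 (tt N45215 (iv1 F114809)) (tt N34706 (iv0 F88618)) (tt N45212 F114798) (tt N56048 (iv3 F162422)) (tt N56049 D105763) (tt N14820 (iv5 D48902)) (tt N56050 D105764) (tt N45213 (iv7 F114801)))
theorem Q29725 : ∀ i, i < 29725 → P i := stepQ 29724 Q29724 (allL N29724 (tt N22000 (iv1 F77091)) (tt N26083 (iv0 F77092)) (tt N28133 F77087) (tt N50088 (iv3 F138852)) (tt N14822 F77088) (tt N26868 (iv5 F77090)) (tt N14820 (iv6 D48903)) (tt N28132 (iv7 F77089)))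
theorem Q29726 : ∀ i, i < 29726 → P i := stepQ 29725 Q29725 (allL N29725 (tt N45223 (iv1 F114842)) (tt N34708 (iv0 F88626)) (tt N41345 (iv2 F103983)) (tt N40820 (iv3 F323848)) (tt N14821 (iv4 D48904)) (tt N56051 D105766) (tt N43086 (iv6 F322392)) (tt N41348 (iv7 F103992)))
theorem Q29727 : ∀ i, i < 29727 → P i := stepQ 29726 Q29726 (allL N29726 (tt N21149 F243393) (tt N56052 D105769) (tt N41346 (iv2 F103986)) (tt N56047 (iv3 F162420)) (tt N43086 F323335) (tt N42630 (iv5 F106646)) (tt N14821 (iv6 D48905)) (tt N56053 D105770))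
theorem Q29728 : ∀ i, i < 29728 → P i := stepQ 29727 Q29727 (allL N29727 (tt N14828 (iv1 F77094)) (tt N14823 (iv0 D48906)) (tt N14824 F77096) (tt N56054 D105771) (tt N33705 F318664) (tt N16110 (iv5 F77095)) (tt N33704 F318665) (tt N14825 F77097))
theorem Q29729 : ∀ i, i < 29729 → P i := stepQ 29728 Q29728 (allL N29728 (tt N14823 (iv1 D48907)) (tt N14828 F77109) (tt N14825 F77113) (tt N21362 (iv3 F77111)) (tt N56055 D105774) (tt N15242 (iv5 F77112)) (tt N27851 F309269) (tt N14824 F77110))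
theorem Q29730 : ∀ i, i < 29730 → P i := stepQ 29729 Q29729 (allL N29729 (tt N33704 (iv1 F85483)) (tt N42401 (iv0 F106130)) (tt N14826 F77114) (tt N46609 F318669) (tt N14823 (iv4 D48908)) (tt N56056 D105777) (tt N56057 D105778) (tt N56035 (iv7 F162390)))
theorem Q29731 : ∀ i, i < 29731 → P i := stepQ 29730 Q29730 (allL N29730 (tt N56058 D105779) (tt N56059 D105780) (tt N14827 F77115) (tt N18443 F77116) (tt N56057 (iv4 F162452)) (tt N14858 F77117) (tt N14823 (iv6 D48909)) (tt N56060 D105781))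
theorem Q29732 : ∀ i, i < 29732 → P i := stepQ 29731 Q29731 (allL N29731 (tt N21084 (iv1 F77126)) (tt N41958 (iv0 F105166)) (tt N21358 F77123) (tt N14824 (iv3 D48910)) (tt N21330 F77120) (tt N20922 F77118) (tt N56061 D105782) (tt N21362 F77119))
theorem Q29733 : ∀ i, i < 29733 → P i := stepQ 29732 Q29732 (allL N29732 (tt N56062 D105783) (tt N42223 (iv0 F317203)) (tt N33705 (iv2 F317201)) (tt N22882 F314981) (tt N14824 (iv4 D48911)) (tt N34375 (iv5 F317215)) (tt N22879 (iv6 F316398)) (tt N56055 (iv7 F162443)))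
theorem Q29734 : ∀ i, i < 29734 → P i := stepQ 29733 Q29733 (allL N29733 (tt N56035 (iv1 F316389)) (tt N14826 (iv0 F316386)) (tt N33704 (iv2 F316385)) (tt N56061 (iv3 F162464)) (tt N22879 (iv4 F316397)) (tt N20566 F319217) (tt N14824 (iv6 D48912)) (tt N42401 F313943))
theorem Q29735 : ∀ i, i < 29735 → P i := stepQ 29734 Q29734 (allL N29734 (tt N41879 (iv1 F105033)) (tt N20964 F105036) (tt N56063 D105792) (tt N14825 (iv3 D48913)) (tt N56064 D105793) (tt N20932 F77127) (tt N51991 (iv6 F311488)) (tt N56054 (iv7 F162431)))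
theorem Q29736 : ∀ i, i < 29736 → P i := stepQ 29735 Q29735 (allL N29735 (tt N42223 (iv1 F317204)) (tt N56062 F162468) (tt N56055 (iv2 F162441)) (tt N33713 (iv3 F317214)) (tt N14825 (iv4 D48914)) (tt N56065 D105796) (tt N51992 (iv6 F311489)) (tt N33705 (iv7 F317202)))
theorem Q29737 : ∀ i, i < 29737 → P i := stepQ 29736 Q29736 (allL N29736 (tt N14826 (iv1 D48917)) (tt N56035 (iv0 F162391)) (tt N42401 (iv2 F106128)) (tt N56066 D105805) (tt N33694 (iv4 F85459)) (tt N20567 F319219) (tt N27850 F313940) (tt N33704 (iv7 F85481)))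
theorem Q29738 : ∀ i, i < 29738 → P i := stepQ 29737 Q29737 (allL N29737 (tt N41809 (iv1 F104910)) (tt N44345 (iv0 F320778)) (tt N56056 (iv2 F162450)) (tt N20988 (iv3 F320780)) (tt N56067 D105814) (tt N14826 (iv5 D48919)) (tt N41066 (iv6 F318726)) (tt N56068 D105816))
theorem Q29739 : ∀ i, i < 29739 → P i := stepQ 29738 Q29738 (allL N29738 (tt N56069 D105817) (tt N56070 D105818) (tt N56057 (iv2 F162451)) (tt N20989 F318668) (tt N14827 F77131) (tt N34238 (iv5 F320805)) (tt N14826 (iv6 D48920)) (tt N56071 D105820))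
theorem Q29740 : ∀ i, i < 29740 → P i := stepQ 29739 Q29739 (allL N29739 (tt N42401 (iv1 F106131)) (tt N33704 (iv0 F85482)) (tt N56035 (iv2 F162389)) (tt N16812 (iv3 F316391)) (tt N14828 F77133) (tt N56068 (iv5 F162521)) (tt N56072 D105821) (tt N14826 (iv7 D48921)))
theorem Q29741 : ∀ i, i < 29741 → P i := stepQ 29740 Q29740 (allL N29740 (tt N56060 (iv1 F162462)) (tt N14827 (iv0 D48922)) (tt N56058 (iv2 F233791)) (tt N56073 D105823) (tt N56074 D105824) (tt N46508 (iv5 F191359)) (tt N51996 (iv6 F306305)) (tt N56059 (iv7 F233789)))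
theorem Q29742 : ∀ i, i < 29742 → P i := stepQ 29741 Q29741 (allL N29741 (tt N14827 (iv1 D48923)) (tt N56060 F162461) (tt N56059 (iv2 F233788)) (tt N56075 D105828) (tt N56076 D105829) (tt N46509 (iv5 F259391)) (tt N56077 D105831) (tt N56058 (iv7 F233792)))
theorem Q29743 : ∀ i, i < 29743 → P i := stepQ 29742 Q29742 (allL N29742 (tt N56059 (iv1 F162453)) (tt N56058 F162460) (tt N56060 (iv2 F162457)) (tt N14833 F77134) (tt N56071 (iv4 F162522)) (tt N14870 F77135) (tt N56078 D105832) (tt N14827 (iv7 D48924)))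
theorem Q29744 : ∀ i, i < 29744 → P i := stepQ 29743 Q29743 (allL N29743 (tt N56079 D105833) (tt N56080 D105834) (tt N56036 (iv2 F162393)) (tt N14834 F77136) (tt N56072 (iv4 F162524)) (tt N44996 (iv5 F114308)) (tt N14828 (iv6 D48925)) (tt N56078 (iv7 F162531)))
theorem Q29745 : ∀ i, i < 29745 → P i := stepQ 29744 Q29744 (allL N29744 (tt N42847 (iv1 F317168)) (tt N42326 (iv0 F317923)) (tt N40482 (iv2 F317924)) (tt N14830 F77144) (tt N20989 (iv4 F317926)) (tt N38330 (iv5 F315756)) (tt N14829 (iv6 D48929)) (tt N42296 (iv7 F105848)))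
theorem Q29746 : ∀ i, i < 29746 → P i := stepQ 29745 Q29745 (allL N29745 (tt N56081 D105848) (tt N20969 F155256) (tt N44926 F130837) (tt N14831 (iv3 D48931)) (tt N56082 D105849) (tt N46511 (iv5 F123944)) (tt N42784 F155257) (tt N18469 F77147))
theorem Q29747 : ∀ i, i < 29747 → P i := stepQ 29746 Q29746 (allL N29746 (tt N21096 F94902) (tt N44911 (iv0 F131074)) (tt N18468 F77148) (tt N42784 (iv3 F155252)) (tt N21435 F77149) (tt N21708 F77150) (tt N14831 (iv6 D48932)) (tt N42855 (iv7 F107355)))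
theorem Q29748 : ∀ i, i < 29748 → P i := stepQ 29747 Q29747 (allL N29747 (tt N21083 F130813) (tt N44375 F313115) (tt N44927 F130815) (tt N14832 (iv3 D48933)) (tt N37076 (iv4 F319973)) (tt N23093 F77151) (tt N43938 (iv6 F313200)) (tt N18466 F77152))
theorem Q29749 : ∀ i, i < 29749 → P i := stepQ 29748 Q29748 (allL N29748 (tt N18473 (iv1 F77161)) (tt N18472 F77162) (tt N18471 F77157) (tt N56078 (iv3 F162529)) (tt N18378 F77158) (tt N25203 F77159) (tt N14833 (iv6 D48935)) (tt N14834 F77160))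
theorem Q29750 : ∀ i, i < 29750 → P i := stepQ 29749 Q29749 (allL N29749 (tt N18471 (iv1 F77163)) (tt N14834 (iv0 D48936)) (tt N18472 (iv2 F182241)) (tt N56083 D105853) (tt N16779 F114314) (tt N56084 D105854) (tt N37623 (iv6 F96347)) (tt N18473 (iv7 F182246)))
theorem Q29751 : ∀ i, i < 29751 → P i := stepQ 29750 Q29750 (allL N29750 (tt N14834 (iv1 D48937)) (tt N18471 F77164) (tt N18473 F182248) (tt N20856 F317403) (tt N16780 F114322) (tt N20853 (iv5 F318612)) (tt N41709 F317839) (tt N18472 F182249))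
theorem Q29752 : ∀ i, i < 29752 → P i := stepQ 29751 Q29751 (allL N29751 (tt N21532 F77175) (tt N21529 F77176) (tt N22075 F77173) (tt N50745 (iv3 F142215)) (tt N47705 (iv4 F129531)) (tt N14837 (iv5 D48940)) (tt N56085 D105863) (tt N21927 F77174))
theorem Q29753 : ∀ i, i < 29753 → P i := stepQ 29752 Q29752 (allL N29752 (tt N44976 F114256) (tt N18531 (iv0 F77180)) (tt N17133 F77177) (tt N16418 (iv3 F77181)) (tt N17103 F77178) (tt N56086 D105864) (tt N14837 (iv6 D48941)) (tt N17135 F77179))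
theorem Q29754 : ∀ i, i < 29754 → P i := stepQ 29753 Q29753 (allL N29753 (tt N21529 F77187) (tt N21532 F77188) (tt N21927 F77184) (tt N16366 F77185) (tt N47702 (iv4 F129520)) (tt N14838 (iv5 D48942)) (tt N56087 D105865) (tt N22075 F77186))
theorem Q29755 : ∀ i, i < 29755 → P i := stepQ 29754 Q29754 (allL N29754 (tt N21943 F77193) (tt N21945 F77194) (tt N21914 F77189) (tt N14841 F77190) (tt N18493 F77191) (tt N56088 D105866) (tt N14839 (iv6 D48943)) (tt N21998 F77192))
theorem Q29756 : ∀ i, i < 29756 → P i := stepQ 29755 Q29755 (allL N29755 (tt N33772 F309413) (tt N23205 F77196) (tt N23388 F77195) (tt N42238 F309414) (tt N14840 (iv4 D48944)) (tt N42698 (iv5 F106871)) (tt N42207 (iv6 F311642)) (tt N33768 F309415))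
theorem Q29757 : ∀ i, i < 29757 → P i := stepQ 29756 Q29756 (allL N29756 (tt N42216 (iv1 F316571)) (tt N42215 (iv0 F316572)) (tt N42218 F314112) (tt N45204 (iv3 F114785)) (tt N42207 F314113) (tt N56089 D105870) (tt N14840 (iv6 D48945)) (tt N42204 (iv7 F316573)))
theorem Q29758 : ∀ i, i < 29758 → P i := stepQ 29757 Q29757 (allL N29757 (tt N19047 (iv1 F77200)) (tt N14841 (iv0 D48946)) (tt N30673 (iv2 F79108)) (tt N26085 F77198) (tt N15229 F77197) (tt N56090 D105872) (tt N26083 F77199) (tt N22005 (iv7 F77201)))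
theorem Q29759 : ∀ i, i < 29759 → P i := stepQ 29758 Q29758 (allL N29758 (tt N14841 (iv1 D48947)) (tt N19047 F77202) (tt N22005 F77204) (tt N16131 F77205) (tt N15228 (iv4 F77203)) (tt N56091 D105873) (tt N21945 F77206) (tt N30673 (iv7 F79110)))
theorem Q29760 : ∀ i, i < 29760 → P i := stepQ 29759 Q29759 (allL N29759 (tt N45240 (iv1 F114876)) (tt N34703 (iv0 F88607)) (tt N38311 (iv2 F97918)) (tt N56088 (iv3 F162588)) (tt N56092 D105874) (tt N14841 (iv5 D48948)) (tt N56089 (iv6 F162592)) (tt N38308 (iv7 F97905)))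
theorem Q29761 : ∀ i, i < 29761 → P i := stepQ 29760 Q29760 (allL N29760 (tt N14842 (iv1 D48949)) (tt N14852 F77208) (tt N21980 (iv2 F77210)) (tt N17189 (iv3 F303442)) (tt N17158 F77209) (tt N17160 F303020) (tt N17162 (iv6 F305412)) (tt N34709 (iv7 F88630)))
theorem Q29762 : ∀ i, i < 29762 → P i := stepQ 29761 Q29761 (allL N29761 (tt N17128 F77214) (tt N21942 F77217) (tt N21994 F77216) (tt N14842 (iv3 D48950)) (tt N22852 F77212) (tt N17282 (iv5 F77215)) (tt N48994 (iv6 F302951)) (tt N21995 F77213))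
theorem Q29763 : ∀ i, i < 29763 → P i := stepQ 29762 Q29762 (allL N29762 (tt N47701 (iv1 F129511)) (tt N47704 (iv0 F129526)) (tt N42464 (iv2 F106239)) (tt N17282 F77218) (tt N22793 (iv4 F310755)) (tt N14842 (iv5 D48951)) (tt N22792 (iv6 F310927)) (tt N22430 F77219))
theorem Q29764 : ∀ i, i < 29764 → P i := stepQ 29763 Q29763 (allL N29763 (tt N21701 (iv1 F302977)) (tt N42853 F300231) (tt N42457 F300232) (tt N48994 (iv3 F302950)) (tt N14843 F77221) (tt N33772 (iv5 F309375)) (tt N14842 (iv6 D48952)) (tt N42466 (iv7 F302976)))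
theorem Q29765 : ∀ i, i < 29765 → P i := stepQ 29764 Q29764 (allL N29764 (tt N17035 F77226) (tt N43202 (iv0 F108292)) (tt N14848 F77223) (tt N18457 F77224) (tt N16490 F77225) (tt N56093 D105898) (tt N14845 (iv6 D48958)) (tt N18603 (iv7 F77227)))
theorem Q29766 : ∀ i, i < 29766 → P i := stepQ 29765 Q29765 (allL N29765 (tt N16473 F77231) (tt N16446 (iv0 F77232)) (tt N14925 F77228) (tt N14846 (iv3 D48959)) (tt N14849 F77229) (tt N42670 (iv5 F106785)) (tt N56094 D105899) (tt N14921 F77230))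
theorem Q29767 : ∀ i, i < 29767 → P i := stepQ 29766 Q29766 (allL N29766 (tt N16469 F77235) (tt N16339 F77236) (tt N16490 F77233) (tt N56094 (iv3 F162623)) (tt N14848 F77234) (tt N56095 D105900) (tt N14846 (iv6 D48960)) (tt N16518 (iv7 F77238)))
theorem Q29768 : ∀ i, i < 29768 → P i := stepQ 29767 Q29767 (allL N29767 (tt N43323 (iv1 F191319)) (tt N43327 (iv0 F191320)) (tt N42484 (iv2 F106279)) (tt N14853 F77239) (tt N46083 (iv4 F120193)) (tt N56096 D105903) (tt N14847 (iv6 D48961)) (tt N46501 (iv7 F190042)))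
theorem Q29769 : ∀ i, i < 29769 → P i := stepQ 29768 Q29768 (allL N29768 (tt N43374 (iv1 F108574)) (tt N41418 (iv0 F104122)) (tt N56093 (iv2 F162617)) (tt N14855 F77240) (tt N56097 D105905) (tt N14848 (iv5 D48962)) (tt N56096 (iv6 F162632)) (tt N40288 F323734))
theorem Q29770 : ∀ i, i < 29770 → P i := stepQ 29769 Q29769 (allL N29769 (tt N43202 F108293) (tt N17035 (iv0 F77245)) (tt N18603 F77241) (tt N14856 F77242) (tt N16518 F77243) (tt N40288 F323757) (tt N19046 F77244) (tt N14848 (iv7 D48963)))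
theorem Q29771 : ∀ i, i < 29771 → P i := stepQ 29770 Q29770 (allL N29770 (tt N14933 F77248) (tt N16427 F77249) (tt N14927 F77246) (tt N14851 F77247) (tt N56094 (iv4 F162624)) (tt N56098 D105907) (tt N14849 (iv6 D48964)) (tt N36397 (iv7 F94488)))
theorem Q29772 : ∀ i, i < 29772 → P i := stepQ 29771 Q29771 (allL N29771 (tt N14851 (iv1 D48966)) (tt N21879 F77250) (tt N21164 F77253) (tt N44970 (iv3 F114221)) (tt N16891 (iv4 F77252)) (tt N56099 D105912) (tt N16889 F77254) (tt N17105 F77251))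
theorem Q29773 : ∀ i, i < 29773 → P i := stepQ 29772 Q29772 (allL N29772 (tt N56100 D105913) (tt N45263 (iv0 F114975)) (tt N44975 (iv2 F114242)) (tt N56098 (iv3 F162645)) (tt N56101 D105914) (tt N14851 (iv5 D48967)) (tt N33771 F316772) (tt N56102 D105915))
theorem Q29774 : ∀ i, i < 29774 → P i := stepQ 29773 Q29773 (allL N29773 (tt N21164 (iv1 F77258)) (tt N17105 F77259) (tt N21879 F77255) (tt N36397 (iv3 F94484)) (tt N14856 F77256) (tt N56102 (iv5 F162653)) (tt N19047 F77257) (tt N14851 (iv7 D48968)))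
theorem Q29775 : ∀ i, i < 29775 → P i := stepQ 29774 Q29774 (allL N29774 (tt N43432 F306670) (tt N25377 (iv0 F77260)) (tt N46394 (iv2 F123333)) (tt N14852 (iv3 D48969)) (tt N46082 (iv4 F120190)) (tt N56103 D105916) (tt N46638 F304583) (tt N42463 (iv7 F106237)))
theorem Q29776 : ∀ i, i < 29776 → P i := stepQ 29775 Q29775 (allL N29775 (tt N47704 (iv1 F129527)) (tt N47701 (iv0 F129509)) (tt N22430 F77261) (tt N56103 (iv3 F162659)) (tt N42698 (iv4 F106870)) (tt N14852 (iv5 D48970)) (tt N41001 F308771) (tt N42464 (iv7 F106240)))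
theorem Q29777 : ∀ i, i < 29777 → P i := stepQ 29776 Q29776 (allL N29776 (tt N56104 D105919) (tt N42866 (iv0 F306599)) (tt N42461 (iv2 F106223)) (tt N46638 F304582) (tt N14853 F77262) (tt N41002 F314153) (tt N14852 (iv6 D48971)) (tt N46502 (iv7 F190043)))
theorem Q29778 : ∀ i, i < 29778 → P i := stepQ 29777 Q29777 (allL N29777 (tt N21876 (iv1 F189965)) (tt N39890 F312928) (tt N39893 F315864) (tt N56096 (iv3 F162631)) (tt N56105 D105935) (tt N14853 (iv5 D48974)) (tt N14855 F77263) (tt N39894 F315865))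
theorem Q29779 : ∀ i, i < 29779 → P i := stepQ 29778 Q29778 (allL N29778 (tt N21884 F77267) (tt N21883 (iv0 F77268)) (tt N17057 F77264) (tt N18544 F77265) (tt N44072 (iv4 F110809)) (tt N14854 (iv5 D48976)) (tt N56106 D105937) (tt N21881 F77266))
theorem Q29780 : ∀ i, i < 29780 → P i := stepQ 29779 Q29779 (allL N29779 (tt N56107 D105939) (tt N45268 (iv0 F114986)) (tt N40287 F323735) (tt N54090 (iv3 F339896)) (tt N14855 (iv4 D48978)) (tt N56108 D105941) (tt N56105 (iv6 F162670)) (tt N40289 F323736))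
theorem Q29781 : ∀ i, i < 29781 → P i := stepQ 29780 Q29780 (allL N29780 (tt N25396 (iv1 F77283)) (tt N25395 F77284) (tt N25374 F77279) (tt N14857 (iv3 D48980)) (tt N18554 F77280) (tt N25830 F77281) (tt N56109 D105944) (tt N25397 F77282))
theorem Q29782 : ∀ i, i < 29782 → P i := stepQ 29781 Q29781 (allL N29781 (tt N34238 F87010) (tt N52246 (iv0 F298481)) (tt N14867 F77285) (tt N56109 (iv3 F162689)) (tt N14858 F77286) (tt N56110 D105946) (tt N14857 (iv6 D48981)) (tt N56111 D105947))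
theorem Q29783 : ∀ i, i < 29783 → P i := stepQ 29782 Q29782 (allL N29782 (tt N14870 (iv1 F77293)) (tt N14858 (iv0 D48982)) (tt N14868 (iv2 F162961)) (tt N56112 D105949) (tt N56113 D105950) (tt N55178 (iv5 F321843)) (tt N45741 (iv6 F257174)) (tt N14869 (iv7 F162967)))
theorem Q29784 : ∀ i, i < 29784 → P i := stepQ 29783 Q29783 (allL N29783 (tt N14858 (iv1 D48983)) (tt N14870 F77287) (tt N14869 F162968) (tt N22376 F77288) (tt N56114 D105954) (tt N56115 D105955) (tt N14866 F301131) (tt N14868 F162969))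
theorem Q29785 : ∀ i, i < 29785 → P i := stepQ 29784 Q29784 (allL N29784 (tt N14869 (iv1 F77294)) (tt N14868 F77295) (tt N14870 F77290) (tt N18558 F77291) (tt N56111 (iv4 F162694)) (tt N56060 (iv5 F162459)) (tt N25199 F77292) (tt N14858 (iv7 D48984)))
theorem Q29786 : ∀ i, i < 29786 → P i := stepQ 29785 Q29785 (allL N29785 (tt N25455 (iv1 F305070)) (tt N43665 (iv0 F191174)) (tt N22352 F77296) (tt N14861 F77297) (tt N17771 F77298) (tt N45320 (iv5 F115230)) (tt N14859 (iv6 D48985)) (tt N46190 (iv7 F190019)))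
theorem Q29787 : ∀ i, i < 29787 → P i := stepQ 29786 Q29786 (allL N29786 (tt N14863 (iv1 F77300)) (tt N14860 (iv0 D48986)) (tt N25061 (iv2 F77301)) (tt N56116 D105960) (tt N17102 F77299) (tt N47701 (iv5 F129510)) (tt N40024 (iv6 F308015)) (tt N21928 (iv7 F77302)))
theorem Q29788 : ∀ i, i < 29788 → P i := stepQ 29787 Q29787 (allL N29787 (tt N14860 (iv1 D48987)) (tt N14863 F77303) (tt N21928 (iv2 F77307)) (tt N25423 (iv3 F77306)) (tt N17153 F77305) (tt N47704 (iv5 F129525)) (tt N56117 D105962) (tt N25061 F77304))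
theorem Q29789 : ∀ i, i < 29789 → P i := stepQ 29788 Q29788 (allL N29788 (tt N42699 F306002) (tt N45248 (iv0 F307067)) (tt N25485 F77308) (tt N43094 (iv3 F108067)) (tt N14861 F77309) (tt N56118 D105965) (tt N14860 (iv6 D48988)) (tt N46191 (iv7 F190022)))
theorem Q29790 : ∀ i, i < 29790 → P i := stepQ 29789 Q29789 (allL N29789 (tt N56119 D105977) (tt N21638 F191171) (tt N25486 F77311) (tt N45320 (iv3 F115229)) (tt N56120 D105979) (tt N14861 (iv5 D48991)) (tt N21531 F77312) (tt N46192 (iv7 F190026)))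
theorem Q29791 : ∀ i, i < 29791 → P i := stepQ 29790 Q29790 (allL N29790 (tt N17015 (iv1 F77322)) (tt N21590 F77321) (tt N14862 (iv2 D48993)) (tt N17766 F77318) (tt N22045 (iv4 F77323)) (tt N17007 F77319) (tt N56121 D105981) (tt N21556 F77320))
theorem Q29792 : ∀ i, i < 29792 → P i := stepQ 29791 Q29791 (allL N29791 (tt N17069 F77326) (tt N17066 F77327) (tt N22045 F77324) (tt N54295 F156500) (tt N14862 (iv4 D48994)) (tt N34209 (iv5 F86954)) (tt N56122 D105982) (tt N22044 F77325))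
theorem Q29793 : ∀ i, i < 29793 → P i := stepQ 29792 Q29792 (allL N29792 (tt N43965 (iv1 F189985)) (tt N43967 (iv0 F189986)) (tt N56121 (iv2 F162779)) (tt N14864 F77328) (tt N56122 (iv4 F162784)) (tt N24731 F77329) (tt N14862 (iv6 D48995)) (tt N45737 (iv7 F189941)))
theorem Q29794 : ∀ i, i < 29794 → P i := stepQ 29793 Q29793 (allL N29793 (tt N45567 (iv1 F116532)) (tt N25406 (iv0 F77331)) (tt N43090 (iv2 F108056)) (tt N14863 (iv3 D48996)) (tt N54295 (iv4 F156499)) (tt N34875 (iv5 F90155)) (tt N56123 D105986) (tt N25483 F77330))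
theorem Q29795 : ∀ i, i < 29795 → P i := stepQ 29794 Q29794 (allL N29794 (tt N34068 F301200) (tt N34062 F301201) (tt N25480 F77332) (tt N34875 F90154) (tt N42685 (iv4 F106843)) (tt N14863 (iv5 D48997)) (tt N56124 D105987) (tt N25484 F77333))
theorem Q29796 : ∀ i, i < 29796 → P i := stepQ 29795 Q29795 (allL N29795 (tt N45245 F306108) (tt N22871 (iv0 F308047)) (tt N25481 F77334) (tt N56123 (iv3 F162788)) (tt N14864 F77335) (tt N22501 (iv5 F308049)) (tt N14863 (iv6 D48998)) (tt N45738 (iv7 F189944)))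
theorem Q29797 : ∀ i, i < 29797 → P i := stepQ 29796 Q29796 (allL N29796 (tt N21720 (iv1 F189978)) (tt N44009 (iv0 F307898)) (tt N18570 F77337) (tt N24731 F77338) (tt N56125 D106004) (tt N14864 (iv5 D49001)) (tt N18568 F77339) (tt N45739 (iv7 F189948)))
theorem Q29798 : ∀ i, i < 29798 → P i := stepQ 29797 Q29797 (allL N29797 (tt N42836 (iv1 F303548)) (tt N42835 (iv0 F303544)) (tt N24219 F77345) (tt N14865 (iv3 D49003)) (tt N24251 F77346) (tt N24218 F77347) (tt N56126 D106006) (tt N25443 F77348))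
theorem Q29799 : ∀ i, i < 29799 → P i := stepQ 29798 Q29798 (allL N29798 (tt N46179 F130345) (tt N21631 F130346) (tt N25445 F77349) (tt N56126 (iv3 F162812)) (tt N34171 (iv4 F86853)) (tt N56127 D106007) (tt N14865 (iv6 D49004)) (tt N46178 (iv7 F131649)))
theorem Q29800 : ∀ i, i < 29800 → P i := stepQ 29799 Q29799 (allL N29799 (tt N22793 F311656) (tt N42698 F106873) (tt N32863 (iv2 F83679)) (tt N25687 F77350) (tt N14866 (iv4 D49005)) (tt N32862 F83678) (tt N56114 (iv6 F303926)) (tt N25449 F77351))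
theorem Q29801 : ∀ i, i < 29801 → P i := stepQ 29800 Q29800 (allL N29800 (tt N56111 (iv1 F162697)) (tt N14867 (iv0 D49007)) (tt N34238 F162699) (tt N56128 D106013) (tt N34237 (iv4 F162698)) (tt N56057 (iv5 F316388)) (tt N56129 D106015) (tt N52246 (iv7 F298483)))
theorem Q29802 : ∀ i, i < 29802 → P i := stepQ 29801 Q29801 (allL N29801 (tt N14867 (iv1 D49008)) (tt N56111 F162696) (tt N52246 F301069) (tt N45593 F310120) (tt N34167 (iv4 F86850)) (tt N56071 (iv5 F318803)) (tt N24933 F301070) (tt N34238 F162701))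
theorem Q29803 : ∀ i, i < 29803 → P i := stepQ 29802 Q29802 (allL N29802 (tt N56130 D106019) (tt N21123 (iv0 F307927)) (tt N56110 (iv2 F162692)) (tt N25464 F77354) (tt N56131 D106021) (tt N14867 (iv5 D49009)) (tt N56115 F305998) (tt N55181 (iv7 F337019)))
theorem Q29804 : ∀ i, i < 29804 → P i := stepQ 29803 Q29803 (allL N29803 (tt N52246 (iv1 F298482)) (tt N34238 (iv0 F87009)) (tt N56111 (iv2 F162693)) (tt N17874 F299082) (tt N14870 F77356) (tt N55181 (iv5 F337018)) (tt N25200 F77357) (tt N14867 (iv7 D49010)))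
theorem Q29805 : ∀ i, i < 29805 → P i := stepQ 29804 Q29804 (allL N29804 (tt N25833 (iv1 F306892)) (tt N25832 (iv0 F306890)) (tt N22373 (iv2 F162976)) (tt N14868 (iv3 D49012)) (tt N22282 F77359) (tt N56132 D106030) (tt N25460 (iv6 F306899)) (tt N22376 (iv7 F162970)))
theorem Q29806 : ∀ i, i < 29806 → P i := stepQ 29805 Q29805 (allL N29805 (tt N56133 D106033) (tt N56117 (iv0 F232392)) (tt N56113 (iv2 F162962)) (tt N56134 D106035) (tt N14868 (iv4 D49013)) (tt N56135 D106036) (tt N56136 D106037) (tt N56114 (iv7 F162972)))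
theorem Q29807 : ∀ i, i < 29807 → P i := stepQ 29806 Q29806 (allL N29806 (tt N56137 D106039) (tt N56138 D106040) (tt N55178 F323531) (tt N56132 (iv3 F162833)) (tt N56139 D106041) (tt N14868 (iv5 D49014)) (tt N29139 (iv6 F324861)) (tt N56115 (iv7 F162974)))
theorem Q29808 : ∀ i, i < 29808 → P i := stepQ 29807 Q29807 (allL N29807 (tt N45740 (iv1 F191332)) (tt N34612 F305004) (tt N45741 (iv2 F257172)) (tt N25460 (iv3 F306898)) (tt N56136 (iv4 F162845)) (tt N46557 F311814) (tt N14868 (iv6 D49015)) (tt N25450 F305829))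
theorem Q29809 : ∀ i, i < 29809 → P i := stepQ 29808 Q29808 (allL N29808 (tt N43226 (iv1 F184591)) (tt N44026 (iv0 F162995)) (tt N25831 (iv2 F306894)) (tt N14869 (iv3 D49017)) (tt N46976 (iv4 F307808)) (tt N56140 D106052) (tt N25830 F305830) (tt N56112 (iv7 F162960)))
theorem Q29810 : ∀ i, i < 29810 → P i := stepQ 29809 Q29809 (allL N29809 (tt N56117 (iv1 F232393)) (tt N56133 F162848) (tt N56114 (iv2 F162971)) (tt N32864 (iv3 F307810)) (tt N14869 (iv4 D49018)) (tt N56141 D106055) (tt N32863 F305831) (tt N56113 (iv7 F162963)))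
theorem Q29811 : ∀ i, i < 29811 → P i := stepQ 29810 Q29810 (allL N29810 (tt N56138 (iv1 F162869)) (tt N56137 F162872) (tt N56115 (iv2 F162973)) (tt N56140 (iv3 F163007)) (tt N56142 D106057) (tt N14869 (iv5 D49019)) (tt N56110 (iv6 F306064)) (tt N55178 (iv7 F321844)))
theorem Q29812 : ∀ i, i < 29812 → P i := stepQ 29811 Q29811 (allL N29811 (tt N18618 (iv1 F77361)) (tt N14871 (iv0 D49021)) (tt N18617 (iv2 F184607)) (tt N44026 F110728) (tt N43844 F109812) (tt N56081 (iv5 F184613)) (tt N17966 (iv6 F184614)) (tt N17016 (iv7 F184615)))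
theorem Q29813 : ∀ i, i < 29813 → P i := stepQ 29812 Q29812 (allL N29812 (tt N18617 (iv1 F77366)) (tt N17016 F184571) (tt N14871 (iv2 D49023)) (tt N18609 F77362) (tt N56143 D106071) (tt N32854 F312058) (tt N56144 D106073) (tt N18618 F77363))
theorem Q29814 : ∀ i, i < 29814 → P i := stepQ 29813 Q29813 (allL N29813 (tt N56145 D106074) (tt N21596 F232417) (tt N56143 (iv2 F163016)) (tt N17740 F299215) (tt N14871 (iv4 D49024)) (tt N56146 D106076) (tt N56147 D106077) (tt N17735 (iv7 F301626)))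
theorem Q29815 : ∀ i, i < 29815 → P i := stepQ 29814 Q29814 (allL N29814 (tt N56148 D106078) (tt N56149 D106079) (tt N32854 F311226) (tt N14872 F77369) (tt N32835 (iv4 F313534)) (tt N14871 (iv5 D49025)) (tt N21672 F311227) (tt N18619 F77370))
theorem Q29816 : ∀ i, i < 29816 → P i := stepQ 29815 Q29815 (allL N29815 (tt N54371 (iv1 F321072)) (tt N56150 D106083) (tt N56144 (iv2 F163030)) (tt N14873 F77371) (tt N56147 (iv4 F163050)) (tt N30687 (iv5 F79217)) (tt N14871 (iv6 D49026)) (tt N45742 (iv7 F119569)))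
theorem Q29817 : ∀ i, i < 29817 → P i := stepQ 29816 Q29816 (allL N29816 (tt N14872 (iv1 D49027)) (tt N14875 F77372) (tt N18614 (iv2 F77375)) (tt N56138 (iv3 F191333)) (tt N21670 (iv4 F313550)) (tt N24205 F77374) (tt N16868 F77376) (tt N18613 F77373))
theorem Q29818 : ∀ i, i < 29818 → P i := stepQ 29817 Q29817 (allL N29817 (tt N16986 (iv1 F110502)) (tt N18608 F77391) (tt N14874 (iv2 D49032)) (tt N18618 F77389) (tt N22687 F310920) (tt N56151 D106088) (tt N42994 F302785) (tt N18609 F77390))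
theorem Q29819 : ∀ i, i < 29819 → P i := stepQ 29818 Q29818 (allL N29818 (tt N37151 (iv1 F313131)) (tt N42871 (iv0 F109942)) (tt N56151 (iv2 F163086)) (tt N14875 F77396) (tt N37953 (iv4 F313132)) (tt N14874 (iv5 D49034)) (tt N41334 (iv6 F103949)) (tt N18611 F77397))
theorem Q29820 : ∀ i, i < 29820 → P i := stepQ 29819 Q29819 (allL N29819 (tt N22508 F77401) (tt N22507 F77402) (tt N18620 F77399) (tt N56152 D106095) (tt N14875 (iv4 D49036)) (tt N19028 (iv5 F315025)) (tt N23359 F313950) (tt N17456 F313951))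
theorem Q29821 : ∀ i, i < 29821 → P i := stepQ 29820 Q29820 (allL N29820 (tt N15021 (iv1 F77408)) (tt N15020 F77409) (tt N15024 F77404) (tt N14876 (iv3 D49037)) (tt N29820 F77405) (tt N32139 (iv5 F82408)) (tt N15176 F77406) (tt N15022 F77407))
theorem Q29822 : ∀ i, i < 29822 → P i := stepQ 29821 Q29821 (allL N29821 (tt N29865 (iv1 F77478)) (tt N14877 (iv0 D49038)) (tt N29864 F106578) (tt N45024 (iv3 F114386)) (tt N42372 F106071) (tt N32497 F106583) (tt N37284 F114369) (tt N29863 F106576))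
theorem Q29823 : ∀ i, i < 29823 → P i := stepQ 29822 Q29822 (allL N29822 (tt N14877 (iv1 D49039)) (tt N29865 F77480) (tt N29863 (iv2 F106573)) (tt N56153 D106096) (tt N23170 F82958) (tt N32498 (iv5 F82955)) (tt N23169 (iv6 F82957)) (tt N29864 (iv7 F106577)))
theorem Q29824 : ∀ i, i < 29824 → P i := stepQ 29823 Q29823 (allL N29823 (tt N29864 (iv1 F77479)) (tt N29863 F77474) (tt N14877 (iv2 D49040)) (tt N18387 F77410) (tt N29526 F77411) (tt N55735 (iv5 F161529)) (tt N26443 (iv6 F82973)) (tt N29865 (iv7 F77477)))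
theorem Q29825 : ∀ i, i < 29825 → P i := stepQ 29824 Q29824 (allL N29824 (tt N16434 F77416) (tt N16436 F77417) (tt N18389 F77414) (tt N26562 (iv3 F83012)) (tt N56154 D106097) (tt N14878 (iv5 D49042)) (tt N55739 (iv6 F161543)) (tt N21902 F77415))
theorem Q29826 : ∀ i, i < 29826 → P i := stepQ 29825 Q29825 (allL N29825 (tt N23190 F77422) (tt N16357 F77423) (tt N23187 F77418) (tt N26484 F77419) (tt N45087 (iv4 F114498)) (tt N14879 (iv5 D49043)) (tt N26478 F77420) (tt N23188 F77421))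
theorem Q29827 : ∀ i, i < 29827 → P i := stepQ 29826 Q29826 (allL N29826 (tt N23265 F77425) (tt N23266 F77426) (tt N14881 F77424) (tt N29874 (iv3 F77514)) (tt N56155 D106098) (tt N14880 (iv5 D49044)) (tt N46064 (iv6 F120164)) (tt N32475 (iv7 F82909)))
theorem Q29828 : ∀ i, i < 29828 → P i := stepQ 29827 Q29827 (allL N29827 (tt N45057 (iv1 F114455)) (tt N45059 (iv0 F114461)) (tt N56155 (iv2 F163121)) (tt N56156 D106099) (tt N14881 (iv4 D49045)) (tt N56155 (iv5 F163122)) (tt N56157 D106100) (tt N56158 D106101))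
theorem Q29829 : ∀ i, i < 29829 → P i := stepQ 29828 Q29828 (allL N29828 (tt N56159 D106102) (tt N56160 D106103) (tt N46064 (iv2 F120163)) (tt N14884 F77427) (tt N56157 (iv4 F163126)) (tt N14890 F77428) (tt N14881 (iv6 D49046)) (tt N56161 D106104))
theorem Q29830 : ∀ i, i < 29830 → P i := stepQ 29829 Q29829 (allL N29829 (tt N23266 (iv1 F77431)) (tt N23265 F77432) (tt N32475 (iv2 F82908)) (tt N14885 F77429) (tt N56158 (iv4 F163127)) (tt N14882 F77430) (tt N56162 D106105) (tt N14881 (iv7 D49047)))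
theorem Q29831 : ∀ i, i < 29831 → P i := stepQ 29830 Q29830 (allL N29830 (tt N56163 D106106) (tt N56164 D106107) (tt N56165 D106108) (tt N14883 (iv3 D49048)) (tt N56156 (iv4 F163125)) (tt N29860 (iv5 F77469)) (tt N56166 D106109) (tt N29859 F77467))
theorem Q29832 : ∀ i, i < 29832 → P i := stepQ 29831 Q29831 (allL N29831 (tt N55755 (iv1 F177811)) (tt N55759 (iv0 F177807)) (tt N29882 (iv2 F77526)) (tt N56166 (iv3 F163134)) (tt N14884 F77433) (tt N56167 D106112) (tt N14883 (iv6 D49049)) (tt N56168 D106113))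
theorem Q29833 : ∀ i, i < 29833 → P i := stepQ 29832 Q29832 (allL N29832 (tt N29885 (iv1 F77533)) (tt N14884 (iv0 D49050)) (tt N29883 (iv2 F177866)) (tt N56169 D106115) (tt N32557 (iv4 F177855)) (tt N56170 D106117) (tt N56171 D106118) (tt N29884 F177865))
theorem Q29834 : ∀ i, i < 29834 → P i := stepQ 29833 Q29833 (allL N29833 (tt N14884 (iv1 D49051)) (tt N29885 F77532) (tt N29884 F177862) (tt N56172 D106120) (tt N32558 (iv4 F177843)) (tt N56173 D106122) (tt N56174 D106123) (tt N29883 (iv7 F177867)))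
theorem Q29835 : ∀ i, i < 29835 → P i := stepQ 29834 Q29834 (allL N29834 (tt N29884 (iv1 F77528)) (tt N29883 F77531) (tt N29885 (iv2 F77529)) (tt N56161 (iv3 F163130)) (tt N56168 (iv4 F163135)) (tt N14893 F77434) (tt N56175 D106124) (tt N14884 (iv7 D49052)))
theorem Q29836 : ∀ i, i < 29836 → P i := stepQ 29835 Q29835 (allL N29835 (tt N56176 D106125) (tt N56177 D106126) (tt N29886 (iv2 F77534)) (tt N56162 (iv3 F163132)) (tt N29861 (iv4 F77471)) (tt N45020 (iv5 F114347)) (tt N14885 (iv6 D49053)) (tt N56175 (iv7 F163139)))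
theorem Q29837 : ∀ i, i < 29837 → P i := stepQ 29836 Q29836 (allL N29836 (tt N56178 D106127) (tt N32664 F290558) (tt N45000 (iv2 F114325)) (tt N34057 (iv3 F86624)) (tt N27848 F77435) (tt N29993 (iv5 F77748)) (tt N14886 (iv6 D49054)) (tt N56179 D106129))
theorem Q29838 : ∀ i, i < 29838 → P i := stepQ 29837 Q29837 (allL N29837 (tt N34076 (iv1 F86684)) (tt N23832 (iv0 F77437)) (tt N34079 (iv2 F86690)) (tt N14888 F77436) (tt N56180 D106130) (tt N14887 (iv5 D49055)) (tt N56181 D106131) (tt N34075 (iv7 F86681)))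
theorem Q29839 : ∀ i, i < 29839 → P i := stepQ 29838 Q29838 (allL N29838 (tt N32690 F178166) (tt N56182 D106133) (tt N34127 (iv2 F86795)) (tt N56181 (iv3 F163148)) (tt N51977 (iv4 F147536)) (tt N32981 (iv5 F83813)) (tt N14888 (iv6 D49056)) (tt N56183 D106134))
theorem Q29840 : ∀ i, i < 29840 → P i := stepQ 29839 Q29839 (allL N29839 (tt N56184 D106135) (tt N56185 D106136) (tt N46061 (iv2 F120160)) (tt N45001 (iv3 F114327)) (tt N14890 F77438) (tt N56186 D106137) (tt N14889 (iv6 D49057)) (tt N56187 D106138))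
theorem Q29841 : ∀ i, i < 29841 → P i := stepQ 29840 Q29840 (allL N29840 (tt N46065 (iv1 F120168)) (tt N14890 (iv0 D49058)) (tt N46062 (iv2 F323400)) (tt N56188 D106140) (tt N54570 (iv4 F314183)) (tt N56189 D106142) (tt N56190 D106143) (tt N46063 (iv7 F323401)))
theorem Q29842 : ∀ i, i < 29842 → P i := stepQ 29841 Q29841 (allL N29841 (tt N14890 (iv1 D49059)) (tt N46065 F120167) (tt N46063 F324740) (tt N56191 D106145) (tt N54569 (iv4 F314180)) (tt N56192 D106147) (tt N56193 D106148) (tt N46062 F324741))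
theorem Q29843 : ∀ i, i < 29843 → P i := stepQ 29842 Q29842 (allL N29842 (tt N46063 (iv1 F120162)) (tt N46062 F120166) (tt N46065 (iv2 F120165)) (tt N14893 F77439) (tt N56187 (iv4 F163151)) (tt N56161 (iv5 F163131)) (tt N45004 (iv6 F114330)) (tt N14890 (iv7 D49060)))
theorem Q29844 : ∀ i, i < 29844 → P i := stepQ 29843 Q29843 (allL N29843 (tt N43231 (iv1 F359176)) (tt N32595 (iv0 F359177)) (tt N43230 F334814) (tt N14891 (iv3 D49062)) (tt N56194 D106158) (tt N56195 D106159) (tt N56196 D106160) (tt N29921 F163467))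
theorem Q29845 : ∀ i, i < 29845 → P i := stepQ 29844 Q29844 (allL N29844 (tt N56197 D106168) (tt N56198 D106169) (tt N29919 F163470) (tt N56195 (iv3 F163162)) (tt N56199 D106170) (tt N14891 (iv5 D49064)) (tt N56200 D106171) (tt N29922 F163471))
theorem Q29846 : ∀ i, i < 29846 → P i := stepQ 29845 Q29845 (allL N29845 (tt N32644 (iv1 F177676)) (tt N46047 (iv0 F177672)) (tt N29920 F163472) (tt N56196 (iv3 F163163)) (tt N32913 (iv4 F177816)) (tt N30092 F78001) (tt N14891 (iv6 D49065)) (tt N46045 (iv7 F163473)))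
theorem Q29847 : ∀ i, i < 29847 → P i := stepQ 29846 Q29846 (allL N29846 (tt N32627 F340901) (tt N56201 D106178) (tt N56202 D106179) (tt N14892 (iv3 D49067)) (tt N56203 D106180) (tt N56204 D106181) (tt N56205 D106182) (tt N29918 (iv7 F163464)))
theorem Q29848 : ∀ i, i < 29848 → P i := stepQ 29847 Q29847 (allL N29847 (tt N56198 (iv1 F163171)) (tt N56197 F163174) (tt N29922 (iv2 F163461)) (tt N56204 (iv3 F163176)) (tt N56206 D106186) (tt N14892 (iv5 D49069)) (tt N56207 D106187) (tt N29919 (iv7 F163466)))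
theorem Q29849 : ∀ i, i < 29849 → P i := stepQ 29848 Q29848 (allL N29848 (tt N56208 D106188) (tt N32606 (iv0 F163451)) (tt N29923 (iv2 F163457)) (tt N56205 (iv3 F163177)) (tt N32916 (iv4 F177830)) (tt N56209 D106190) (tt N14892 (iv6 D49070)) (tt N56210 D106191))
theorem Q29850 : ∀ i, i < 29850 → P i := stepQ 29849 Q29849 (allL N29849 (tt N15634 (iv1 F77447)) (tt N15261 F77446) (tt N14894 (iv2 D49071)) (tt N15479 F77442) (tt N22588 F77443) (tt N20065 F77444) (tt N56211 D106192) (tt N18163 F77445))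
theorem Q29851 : ∀ i, i < 29851 → P i := stepQ 29850 Q29850 (allL N29850 (tt N56212 D106193) (tt N56213 D106194) (tt N56211 (iv2 F163183)) (tt N14895 F77448) (tt N44144 (iv4 F110928)) (tt N33539 (iv5 F85071)) (tt N14894 (iv6 D49072)) (tt N56214 D106195))
theorem Q29852 : ∀ i, i < 29852 → P i := stepQ 29851 Q29851 (allL N29851 (tt N14895 (iv1 D49074)) (tt N18162 F77449) (tt N18160 F103361) (tt N35581 (iv3 F168067)) (tt N32317 (iv4 F165833)) (tt N56215 D106201) (tt N41114 (iv6 F103359)) (tt N18159 F103362))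
theorem Q29853 : ∀ i, i < 29853 → P i := stepQ 29852 Q29852 (allL N29852 (tt N18160 (iv1 F77453)) (tt N18159 F77454) (tt N18162 F77450) (tt N56214 (iv3 F163186)) (tt N55653 (iv4 F161168)) (tt N30383 F78429) (tt N18168 F77451) (tt N14895 (iv7 D49075)))
theorem Q29854 : ∀ i, i < 29854 → P i := stepQ 29853 Q29853 (allL N29853 (tt N45638 F327420) (tt N56216 D106203) (tt N38690 (iv2 F98656)) (tt N14897 F77455) (tt N15484 F77456) (tt N19127 F77457) (tt N14896 (iv6 D49076)) (tt N56217 D106204))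
theorem Q29855 : ∀ i, i < 29855 → P i := stepQ 29854 Q29854 (allL N29854 (tt N18168 (iv1 F77462)) (tt N14897 (iv0 D49077)) (tt N18166 F100255) (tt N35584 (iv3 F168021)) (tt N32338 (iv4 F164032)) (tt N35627 (iv5 F93008)) (tt N41473 (iv6 F104296)) (tt N18167 F100257))
theorem Q29856 : ∀ i, i < 29856 → P i := stepQ 29855 Q29855 (allL N29855 (tt N18167 (iv1 F77463)) (tt N18166 F77464) (tt N18168 F77459) (tt N56217 (iv3 F163203)) (tt N55661 (iv4 F161190)) (tt N19138 F77460) (tt N18162 F77461) (tt N14897 (iv7 D49079)))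
theorem Q29857 : ∀ i, i < 29857 → P i := stepQ 29856 Q29856 (allL N29856 (tt N56218 D106206) (tt N14898 (iv0 D49080)) (tt N56219 D106207) (tt N56220 D106208) (tt N56221 D106209) (tt N56222 D106210) (tt N56223 D106211) (tt N56224 D106212))
theorem Q29858 : ∀ i, i < 29858 → P i := stepQ 29857 Q29857 (allL N29857 (tt N14898 (iv1 D49081)) (tt N56218 F163215) (tt N56224 (iv2 F163217)) (tt N56225 D106213) (tt N56226 D106214) (tt N56227 D106215) (tt N56228 D106216) (tt N56219 F163216))
theorem Q29859 : ∀ i, i < 29859 → P i := stepQ 29858 Q29858 (allL N29858 (tt N56219 (iv1 F381059)) (tt N56224 (iv0 F381040)) (tt N14898 (iv2 D49082)) (tt N18177 F77465) (tt N35588 (iv4 F92933)) (tt N56229 D106219) (tt N35588 (iv6 F92934)) (tt N56218 (iv7 F163214)))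
theorem Q29860 : ∀ i, i < 29860 → P i := stepQ 29859 Q29859 (allL N29859 (tt N56230 D106220) (tt N56231 D106221) (tt N56229 (iv2 F163220)) (tt N14899 F77466) (tt N56232 D106222) (tt N14898 (iv5 D49083)) (tt N56233 D106223) (tt N29830 (iv7 F77467)))
theorem Q29861 : ∀ i, i < 29861 → P i := stepQ 29860 Q29860 (allL N29860 (tt N56224 (iv1 F381041)) (tt N56219 (iv0 F381058)) (tt N56218 F163211) (tt N14900 F77468) (tt N35590 (iv4 F92937)) (tt N29830 F77469) (tt N36797 F343588) (tt N14898 (iv7 D49084)))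
theorem Q29862 : ∀ i, i < 29862 → P i := stepQ 29861 Q29861 (allL N29861 (tt N56234 D106225) (tt N56235 D106226) (tt N18181 F77470) (tt N56233 (iv3 F163229)) (tt N29835 F77471) (tt N35591 (iv5 F92939)) (tt N14899 (iv6 D49085)) (tt N56236 D106227))
theorem Q29863 : ∀ i, i < 29863 → P i := stepQ 29862 Q29862 (allL N29862 (tt N32391 (iv1 F161321)) (tt N32394 (iv0 F161330)) (tt N18182 F77472) (tt N36797 (iv3 F343571)) (tt N14901 F77473) (tt N56237 D106228) (tt N14900 (iv6 D49086)) (tt N35592 (iv7 F92942)))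
theorem Q29864 : ∀ i, i < 29864 → P i := stepQ 29863 Q29863 (allL N29863 (tt N29823 (iv1 F77474)) (tt N14902 (iv0 D49087)) (tt N29822 F106573) (tt N23170 (iv3 F82959)) (tt N29890 (iv4 F82962)) (tt N39631 F100510) (tt N23168 F82961) (tt N29821 (iv7 F106576)))
theorem Q29865 : ∀ i, i < 29865 → P i := stepQ 29864 Q29864 (allL N29864 (tt N14902 (iv1 D49088)) (tt N29823 F77479) (tt N29821 (iv2 F106578)) (tt N56238 D106229) (tt N45024 (iv4 F114387)) (tt N50259 (iv5 F139351)) (tt N38203 (iv6 F114370)) (tt N29822 F106577))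
theorem Q29866 : ∀ i, i < 29866 → P i := stepQ 29865 Q29865 (allL N29865 (tt N29822 (iv1 F77480)) (tt N29821 F77478) (tt N14902 (iv2 D49089)) (tt N23207 F77475) (tt N16292 F77476) (tt N32547 (iv5 F83103)) (tt N29972 (iv6 F77698)) (tt N29823 F77477))
theorem Q29867 : ∀ i, i < 29867 → P i := stepQ 29866 Q29866 (allL N29866 (tt N14906 (iv1 F77486)) (tt N14905 (iv0 D49090)) (tt N14909 (iv2 F77482)) (tt N16303 F77481) (tt N29866 F77483) (tt N56239 D106230) (tt N16427 (iv6 F77485)) (tt N14907 F77484))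
theorem Q29868 : ∀ i, i < 29868 → P i := stepQ 29867 Q29867 (allL N29867 (tt N14909 (iv1 F77491)) (tt N14907 F77490) (tt N14905 (iv2 D49091)) (tt N21162 F77488) (tt N16324 F77492) (tt N56240 D106231) (tt N14905 (iv6 F77493)) (tt N14906 F77489))
theorem Q29869 : ∀ i, i < 29869 → P i := stepQ 29868 Q29868 (allL N29868 (tt N50278 F139395) (tt N50256 (iv0 F139339)) (tt N16324 F77494) (tt N16327 F77495) (tt N14905 (iv4 D49092)) (tt N56241 D106232) (tt N16324 F77496) (tt N50089 (iv7 F138861)))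
theorem Q29870 : ∀ i, i < 29870 → P i := stepQ 29869 Q29869 (allL N29869 (tt N32578 F83135) (tt N30407 F83136) (tt N56240 (iv2 F163246)) (tt N45213 F114804) (tt N56242 D106233) (tt N14905 (iv5 D49093)) (tt N56243 D106234) (tt N56048 (iv7 F162423)))
theorem Q29871 : ∀ i, i < 29871 → P i := stepQ 29870 Q29870 (allL N29870 (tt N16886 F77502) (tt N16889 (iv0 F77501)) (tt N18431 F77497) (tt N14906 (iv3 D49094)) (tt N18430 F77499) (tt N56244 D106235) (tt N28132 (iv6 F77500)) (tt N21162 F77498))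
theorem Q29872 : ∀ i, i < 29872 → P i := stepQ 29871 Q29871 (allL N29871 (tt N50256 F139340) (tt N50278 (iv0 F139394)) (tt N50089 (iv2 F138858)) (tt N16328 F77504) (tt N14906 (iv4 D49095)) (tt N56245 D106236) (tt N26840 (iv6 F77508)) (tt N16324 F77503))
theorem Q29873 : ∀ i, i < 29873 → P i := stepQ 29872 Q29872 (allL N29872 (tt N30407 (iv1 F163250)) (tt N32578 (iv0 F94275)) (tt N56048 (iv2 F162421)) (tt N56244 (iv3 F163254)) (tt N56246 D106237) (tt N14906 (iv5 D49096)) (tt N56247 D106238) (tt N56240 (iv7 F163248)))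
theorem Q29874 : ∀ i, i < 29874 → P i := stepQ 29873 Q29873 (allL N29873 (tt N36280 F94274) (tt N36280 (iv0 F94273)) (tt N50088 (iv2 F138851)) (tt N28132 F77505) (tt N26840 F77507) (tt N26433 (iv5 F77506)) (tt N14906 (iv6 D49097)) (tt N50088 (iv7 F138853)))
theorem Q29875 : ∀ i, i < 29875 → P i := stepQ 29874 Q29874 (allL N29874 (tt N56248 D106239) (tt N56249 D106240) (tt N14908 F77513) (tt N29826 F77514) (tt N56250 D106241) (tt N14907 (iv5 D49098)) (tt N56251 D106242) (tt N56239 (iv7 F163243)))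
theorem Q29876 : ∀ i, i < 29876 → P i := stepQ 29875 Q29875 (allL N29875 (tt N56239 F163244) (tt N14908 (iv0 D49099)) (tt N56248 (iv2 F163266)) (tt N56252 D106243) (tt N56253 D106244) (tt N36241 F115177) (tt N56254 D106245) (tt N56249 (iv7 F163270)))
theorem Q29877 : ∀ i, i < 29877 → P i := stepQ 29876 Q29876 (allL N29876 (tt N14908 (iv1 D49100)) (tt N56239 F163245) (tt N56249 (iv2 F163272)) (tt N45193 (iv3 F114755)) (tt N56255 D106246) (tt N36242 (iv5 F94167)) (tt N56256 D106247) (tt N56248 (iv7 F163268)))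
theorem Q29878 : ∀ i, i < 29878 → P i := stepQ 29877 Q29877 (allL N29877 (tt N56257 D106248) (tt N56258 D106249) (tt N56250 (iv2 F163274)) (tt N56259 D106250) (tt N14908 (iv4 D49101)) (tt N56260 D106251) (tt N56261 D106252) (tt N56262 D106253))
theorem Q29879 : ∀ i, i < 29879 → P i := stepQ 29878 Q29878 (allL N29878 (tt N56263 D106254) (tt N56264 D106255) (tt N56251 (iv2 F163275)) (tt N14911 F77515) (tt N56261 (iv4 F163285)) (tt N14931 F77516) (tt N14908 (iv6 D49102)) (tt N56265 D106256))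
theorem Q29880 : ∀ i, i < 29880 → P i := stepQ 29879 Q29879 (allL N29879 (tt N56249 (iv1 F163269)) (tt N56248 F163264) (tt N56239 (iv2 F163241)) (tt N14912 F77517) (tt N56262 (iv4 F163287)) (tt N14909 F77518) (tt N56266 D106257) (tt N14908 (iv7 D49103)))
theorem Q29881 : ∀ i, i < 29881 → P i := stepQ 29880 Q29880 (allL N29880 (tt N14927 (iv1 F77523)) (tt N36397 F94487) (tt N16427 F77519) (tt N14913 F77520) (tt N29880 F77521) (tt N56267 D106258) (tt N14909 (iv6 D49104)) (tt N14933 F77522))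
theorem Q29882 : ∀ i, i < 29882 → P i := stepQ 29881 Q29881 (allL N29881 (tt N56268 D106259) (tt N56269 D106260) (tt N56270 D106261) (tt N14910 (iv3 D49105)) (tt N56259 (iv4 F163283)) (tt N18144 F77524) (tt N56271 D106262) (tt N18178 F77525))
theorem Q29883 : ∀ i, i < 29883 → P i := stepQ 29882 Q29882 (allL N29882 (tt N32562 (iv1 F177633)) (tt N32566 F177630) (tt N29831 F77526) (tt N56271 (iv3 F163301)) (tt N14911 F77527) (tt N56272 D106265) (tt N14910 (iv6 D49106)) (tt N56273 D106266))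
theorem Q29884 : ∀ i, i < 29884 → P i := stepQ 29883 Q29883 (allL N29883 (tt N29834 (iv1 F77531)) (tt N14911 (iv0 D49107)) (tt N29832 F177866) (tt N56274 D106268) (tt N55750 (iv4 F177662)) (tt N56275 D106270) (tt N56276 D106271) (tt N29833 F177867))
theorem Q29885 : ∀ i, i < 29885 → P i := stepQ 29884 Q29884 (allL N29884 (tt N14911 (iv1 D49108)) (tt N29834 F77528) (tt N29833 (iv2 F177862)) (tt N56277 D106273) (tt N55751 (iv4 F177661)) (tt N45041 (iv5 F114422)) (tt N56278 D106275) (tt N29832 (iv7 F177865)))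
theorem Q29886 : ∀ i, i < 29886 → P i := stepQ 29885 Q29885 (allL N29885 (tt N29833 (iv1 F77532)) (tt N29832 F77533) (tt N29834 F77529) (tt N56265 (iv3 F163288)) (tt N56273 (iv4 F163306)) (tt N14937 F77530) (tt N56279 D106276) (tt N14911 (iv7 D49109)))
theorem Q29887 : ∀ i, i < 29887 → P i := stepQ 29886 Q29886 (allL N29886 (tt N56280 D106277) (tt N56281 D106278) (tt N29835 F77534) (tt N56266 (iv3 F163290)) (tt N18181 F77535) (tt N56282 D106279) (tt N14912 (iv6 D49110)) (tt N56279 (iv7 F163316)))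
theorem Q29888 : ∀ i, i < 29888 → P i := stepQ 29887 Q29887 (allL N29887 (tt N23165 F77538) (tt N23164 F77539) (tt N23167 F77536) (tt N56267 (iv3 F163292)) (tt N45018 (iv4 F114337)) (tt N14913 (iv5 D49111)) (tt N56282 (iv6 F163322)) (tt N14938 F77537))
theorem Q29889 : ∀ i, i < 29889 → P i := stepQ 29888 Q29888 (allL N29888 (tt N29972 F114358) (tt N15013 F114359) (tt N23173 (iv2 F106606)) (tt N38202 F114360) (tt N37285 F114361) (tt N56283 D106280) (tt N14914 (iv6 D49113)) (tt N29971 F114367))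
theorem Q29890 : ∀ i, i < 29890 → P i := stepQ 29889 Q29889 (allL N29889 (tt N32574 F83118) (tt N17332 (iv0 F77542)) (tt N42346 F106572) (tt N14915 (iv3 D49115)) (tt N42346 (iv4 F106026)) (tt N42621 (iv5 F106555)) (tt N56284 D106281) (tt N23171 (iv7 F106604)))
theorem Q29891 : ∀ i, i < 29891 → P i := stepQ 29890 Q29890 (allL N29890 (tt N23191 F82963) (tt N41341 (iv0 F103976)) (tt N23170 (iv2 F106574)) (tt N56284 (iv3 F163328)) (tt N29863 F82962) (tt N50281 (iv5 F139401)) (tt N14915 (iv6 D49116)) (tt N42372 F106579))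
theorem Q29892 : ∀ i, i < 29892 → P i := stepQ 29891 Q29891 (allL N29891 (tt N32736 (iv1 F83436)) (tt N50288 F139420) (tt N29590 F77543) (tt N14918 F77544) (tt N49652 (iv4 F308355)) (tt N14917 (iv5 D49117)) (tt N32893 (iv6 F83715)) (tt N26936 F77545))
theorem Q29893 : ∀ i, i < 29893 → P i := stepQ 29892 Q29892 (allL N29892 (tt N14918 (iv1 D49118)) (tt N17529 F77546) (tt N17528 (iv2 F77550)) (tt N17119 F77551) (tt N27471 F77549) (tt N17118 F77548) (tt N56285 D106283) (tt N17527 F77547))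
theorem Q29894 : ∀ i, i < 29894 → P i := stepQ 29893 Q29893 (allL N29893 (tt N14930 F77557) (tt N14929 F77556) (tt N14932 F77552) (tt N16397 F77553) (tt N21685 F77555) (tt N14919 (iv5 D49119)) (tt N56286 D106284) (tt N14928 F77554))
theorem Q29895 : ∀ i, i < 29895 → P i := stepQ 29894 Q29894 (allL N29894 (tt N16127 F77561) (tt N30050 (iv0 F77896)) (tt N14923 F77558) (tt N21914 F77559) (tt N16475 F77560) (tt N30079 (iv5 F77977)) (tt N14920 (iv6 D49120)) (tt N32171 (iv7 F82473)))
theorem Q29896 : ∀ i, i < 29896 → P i := stepQ 29895 Q29895 (allL N29895 (tt N14925 (iv1 F77564)) (tt N14921 (iv0 D49121)) (tt N16446 (iv2 F83420)) (tt N29568 F77563) (tt N16446 F77562) (tt N42419 (iv5 F106162)) (tt N56287 D106285) (tt N16473 F83421))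
theorem Q29897 : ∀ i, i < 29897 → P i := stepQ 29896 Q29896 (allL N29896 (tt N42623 (iv1 F106613)) (tt N42621 (iv0 F106556)) (tt N16474 F77565) (tt N22039 F77566) (tt N21321 F77567) (tt N14921 (iv5 D49122)) (tt N56288 D106286) (tt N42670 (iv7 F106786)))
theorem Q29898 : ∀ i, i < 29898 → P i := stepQ 29897 Q29897 (allL N29897 (tt N27118 F77571) (tt N51241 F144562) (tt N16475 F77568) (tt N22040 F77569) (tt N14923 F77570) (tt N56289 D106287) (tt N14921 (iv6 D49123)) (tt N51239 (iv7 F144553)))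
theorem Q29899 : ∀ i, i < 29899 → P i := stepQ 29898 Q29898 (allL N29898 (tt N40857 (iv1 F319950)) (tt N40847 F318361) (tt N45061 (iv2 F114464)) (tt N42218 F314513) (tt N23385 F77572) (tt N56290 D106290) (tt N14922 (iv6 D49124)) (tt N40469 (iv7 F316826)))
theorem Q29900 : ∀ i, i < 29900 → P i := stepQ 29899 Q29899 (allL N29899 (tt N32171 (iv1 F82472)) (tt N14923 (iv0 D49125)) (tt N16127 (iv2 F77575)) (tt N14956 F77573) (tt N29899 F77574) (tt N56291 D106292) (tt N36280 (iv6 F94271)) (tt N30050 (iv7 F77895)))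
theorem Q29901 : ∀ i, i < 29901 → P i := stepQ 29900 Q29900 (allL N29900 (tt N30083 (iv1 F82411)) (tt N30078 (iv0 F77976)) (tt N30079 F77978) (tt N38311 (iv3 F97919)) (tt N56292 D106293) (tt N14923 (iv5 D49126)) (tt N56290 (iv6 F163354)) (tt N30080 (iv7 F77979)))
theorem Q29902 : ∀ i, i < 29902 → P i := stepQ 29901 Q29901 (allL N29901 (tt N30050 F77897) (tt N16127 (iv0 F77577)) (tt N32171 F82474) (tt N19047 F77576) (tt N51239 (iv4 F144550)) (tt N30080 F77980) (tt N36397 (iv6 F94485)) (tt N14923 (iv7 D49127)))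
theorem Q29903 : ∀ i, i < 29903 → P i := stepQ 29902 Q29902 (allL N29902 (tt N56287 F163347) (tt N56293 D106294) (tt N56094 (iv2 F162622)) (tt N16488 F77578) (tt N14927 F77579) (tt N56294 D106295) (tt N14925 (iv6 D49128)) (tt N56295 D106296))
theorem Q29904 : ∀ i, i < 29904 → P i := stepQ 29903 Q29903 (allL N29903 (tt N36387 F290365) (tt N40467 (iv0 F319136)) (tt N33252 F316768) (tt N45205 (iv3 F114787)) (tt N33249 F316769) (tt N56296 D106299) (tt N14926 (iv6 D49129)) (tt N40456 (iv7 F319132)))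
theorem Q29905 : ∀ i, i < 29905 → P i := stepQ 29904 Q29904 (allL N29904 (tt N36403 (iv1 F164497)) (tt N45172 (iv0 F114677)) (tt N56098 (iv2 F162644)) (tt N44985 (iv3 F114285)) (tt N56297 D106302) (tt N14927 (iv5 D49130)) (tt N56296 (iv6 F163375)) (tt N56298 D106303))
theorem Q29906 : ∀ i, i < 29906 → P i := stepQ 29905 Q29905 (allL N29905 (tt N16427 (iv1 F77580)) (tt N14933 F77581) (tt N36397 F94486) (tt N44976 (iv3 F114255)) (tt N56295 (iv4 F163371)) (tt N56298 (iv5 F163376)) (tt N32171 F82475) (tt N14927 (iv7 D49131)))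
theorem Q29907 : ∀ i, i < 29907 → P i := stepQ 29906 Q29906 (allL N29906 (tt N14932 (iv1 F77584)) (tt N14928 (iv0 D49132)) (tt N14929 (iv2 F77583)) (tt N21916 (iv3 F77586)) (tt N33834 (iv4 F85798)) (tt N16352 F77582) (tt N56299 D106304) (tt N14930 F77585))
theorem Q29908 : ∀ i, i < 29908 → P i := stepQ 29907 Q29907 (allL N29907 (tt N56300 D106305) (tt N56301 D106306) (tt N14931 F77587) (tt N23867 F77588) (tt N17913 F77589) (tt N56251 (iv5 F163277)) (tt N14928 (iv6 D49133)) (tt N56302 D106307))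
theorem Q29909 : ∀ i, i < 29909 → P i := stepQ 29908 Q29908 (allL N29908 (tt N56303 D106308) (tt N55769 (iv0 F342993)) (tt N56299 (iv2 F163378)) (tt N22499 F315371) (tt N22512 F315372) (tt N51467 (iv5 F145081)) (tt N14929 (iv6 D49134)) (tt N56304 D106310))
theorem Q29910 : ∀ i, i < 29910 → P i := stepQ 29909 Q29909 (allL N29909 (tt N17098 (iv1 F77594)) (tt N17104 (iv0 F77593)) (tt N21915 F77590) (tt N14930 (iv3 D49135)) (tt N43021 (iv4 F107954)) (tt N17531 F77591) (tt N56305 D106311) (tt N21916 F77592))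
theorem Q29911 : ∀ i, i < 29911 → P i := stepQ 29910 Q29910 (allL N29910 (tt N23855 F290264) (tt N46643 F312195) (tt N42639 (iv2 F106682)) (tt N56305 (iv3 F163389)) (tt N42638 (iv4 F106681)) (tt N42639 (iv5 F106685)) (tt N14930 (iv6 D49136)) (tt N56306 D106314))
theorem Q29912 : ∀ i, i < 29912 → P i := stepQ 29911 Q29911 (allL N29911 (tt N56302 (iv1 F163387)) (tt N14931 (iv0 D49137)) (tt N56300 (iv2 F191137)) (tt N56307 D106316) (tt N42652 (iv4 F191132)) (tt N56308 D106318) (tt N56309 D106319) (tt N56301 (iv7 F191134)))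
theorem Q29913 : ∀ i, i < 29913 → P i := stepQ 29912 Q29912 (allL N29912 (tt N14931 (iv1 D49138)) (tt N56302 F163386) (tt N56301 (iv2 F191133)) (tt N56310 D106321) (tt N56311 D106322) (tt N56312 D106323) (tt N56313 D106324) (tt N56300 (iv7 F191138)))
theorem Q29914 : ∀ i, i < 29914 → P i := stepQ 29913 Q29913 (allL N29913 (tt N56301 (iv1 F163381)) (tt N56300 F163385) (tt N56302 (iv2 F163382)) (tt N14937 F77595) (tt N22320 F77596) (tt N56265 (iv5 F163289)) (tt N56314 D106325) (tt N14931 (iv7 D49139)))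
theorem Q29915 : ∀ i, i < 29915 → P i := stepQ 29914 Q29914 (allL N29914 (tt N42615 (iv1 F191131)) (tt N56315 D106327) (tt N56286 (iv2 F163340)) (tt N14934 F77597) (tt N22299 F77598) (tt N56316 D106328) (tt N14932 (iv6 D49140)) (tt N56314 (iv7 F163395)))
theorem Q29916 : ∀ i, i < 29916 → P i := stepQ 29915 Q29915 (allL N29915 (tt N56317 D106329) (tt N56318 D106330) (tt N36398 (iv2 F94489)) (tt N14938 F77599) (tt N56319 D106331) (tt N14933 (iv5 D49141)) (tt N56316 (iv6 F163397)) (tt N56267 (iv7 F163293)))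
theorem Q29917 : ∀ i, i < 29917 → P i := stepQ 29916 Q29916 (allL N29916 (tt N56320 D106342) (tt N56321 D106343) (tt N23162 F77601) (tt N56316 (iv3 F163396)) (tt N56322 D106344) (tt N14934 (iv5 D49144)) (tt N14938 F77602) (tt N56323 D106345))
theorem Q29918 : ∀ i, i < 29918 → P i := stepQ 29917 Q29917 (allL N29917 (tt N23161 (iv1 F77607)) (tt N23160 F77608) (tt N23163 F77603) (tt N56314 (iv3 F163393)) (tt N14937 F77604) (tt N56323 (iv5 F163410)) (tt N14937 F77605) (tt N14934 (iv7 D49145)))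
theorem Q29919 : ∀ i, i < 29919 → P i := stepQ 29918 Q29918 (allL N29918 (tt N56324 D106352) (tt N55766 (iv0 F357303)) (tt N56325 D106354) (tt N14935 (iv3 D49147)) (tt N56326 D106355) (tt N56327 D106356) (tt N56328 D106357) (tt N29846 F163464))
theorem Q29920 : ∀ i, i < 29920 → P i := stepQ 29919 Q29919 (allL N29919 (tt N56329 D106365) (tt N56330 D106366) (tt N29844 (iv2 F163470)) (tt N56327 (iv3 F163422)) (tt N56331 D106367) (tt N14935 (iv5 D49149)) (tt N56332 D106368) (tt N29847 F163466))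
theorem Q29921 : ∀ i, i < 29921 → P i := stepQ 29920 Q29920 (allL N29920 (tt N23860 (iv1 F163438)) (tt N56333 D106371) (tt N29845 (iv2 F163472)) (tt N56328 (iv3 F163423)) (tt N32951 (iv4 F177640)) (tt N29999 F77751) (tt N14935 (iv6 D49150)) (tt N56334 D106372))
theorem Q29922 : ∀ i, i < 29922 → P i := stepQ 29921 Q29921 (allL N29921 (tt N22074 F334809) (tt N56335 D106375) (tt N56336 D106376) (tt N14936 (iv3 D49152)) (tt N56337 D106377) (tt N56338 D106378) (tt N56339 D106379) (tt N29843 (iv7 F163467)))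
theorem Q29923 : ∀ i, i < 29923 → P i := stepQ 29922 Q29922 (allL N29922 (tt N56330 (iv1 F163431)) (tt N56329 F163434) (tt N29847 F163461) (tt N56338 (iv3 F163443)) (tt N56340 D106383) (tt N14936 (iv5 D49154)) (tt N56341 D106384) (tt N29844 (iv7 F163471)))
theorem Q29924 : ∀ i, i < 29924 → P i := stepQ 29923 Q29923 (allL N29923 (tt N56342 D106385) (tt N55768 F163452) (tt N29848 F163457) (tt N56339 (iv3 F163444)) (tt N32954 (iv4 F177654)) (tt N56343 D106386) (tt N14936 (iv6 D49155)) (tt N56344 D106387))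
theorem Q29925 : ∀ i, i < 29925 → P i := stepQ 29924 Q29924 (allL N29924 (tt N23167 (iv1 F77612)) (tt N14938 (iv0 D49156)) (tt N23164 (iv2 F77613)) (tt N56345 D106388) (tt N44966 (iv4 F114210)) (tt N19399 F77611) (tt N56346 D106389) (tt N23165 (iv7 F77614)))
theorem Q29926 : ∀ i, i < 29926 → P i := stepQ 29925 Q29925 (allL N29925 (tt N14938 (iv1 D49157)) (tt N23167 F77615) (tt N23165 F77618) (tt N56347 D106390) (tt N44967 (iv4 F114217)) (tt N18633 (iv5 F77617)) (tt N56348 D106391) (tt N23164 F77616))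
theorem Q29927 : ∀ i, i < 29927 → P i := stepQ 29926 Q29926 (allL N29926 (tt N32966 (iv1 F83789)) (tt N32968 (iv0 F83791)) (tt N23166 F77619) (tt N56349 D106392) (tt N14938 (iv4 D49158)) (tt N45019 (iv5 F114343)) (tt N56322 (iv6 F163408)) (tt N45018 (iv7 F114338)))
theorem Q29928 : ∀ i, i < 29928 → P i := stepQ 29927 Q29927 (allL N29927 (tt N56350 D106393) (tt N20615 F163549) (tt N19889 F77620) (tt N20117 F77621) (tt N36013 (iv4 F93806)) (tt N22605 F77622) (tt N14939 (iv6 D49159)) (tt N56351 D106395))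
theorem Q29929 : ∀ i, i < 29929 → P i := stepQ 29928 Q29928 (allL N29928 (tt N56352 D106396) (tt N56353 D106397) (tt N56354 D106398) (tt N14940 (iv3 D49160)) (tt N14951 F77623) (tt N56355 D106399) (tt N32223 (iv6 F82558)) (tt N30337 (iv7 F78345)))
theorem Q29930 : ∀ i, i < 29930 → P i := stepQ 29929 Q29929 (allL N29929 (tt N18287 F77624) (tt N18302 F77625) (tt N38649 (iv2 F98529)) (tt N56355 (iv3 F163561)) (tt N39125 (iv4 F99450)) (tt N14940 (iv5 D49161)) (tt N56356 D106400) (tt N39386 (iv7 F100066)))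
theorem Q29931 : ∀ i, i < 29931 → P i := stepQ 29930 Q29930 (allL N29930 (tt N20838 F77628) (tt N20842 F77629) (tt N15063 F77626) (tt N56357 D106401) (tt N14941 (iv4 D49162)) (tt N35565 (iv5 F92853)) (tt N56358 D106402) (tt N15069 F77627))
theorem Q29932 : ∀ i, i < 29932 → P i := stepQ 29931 Q29931 (allL N29931 (tt N35813 F93304) (tt N56359 D106403) (tt N15064 F77630) (tt N22605 F77631) (tt N56358 (iv4 F163565)) (tt N20117 F77632) (tt N14941 (iv6 D49163)) (tt N56360 D106404))
theorem Q29933 : ∀ i, i < 29933 → P i := stepQ 29932 Q29932 (allL N29932 (tt N44360 F163597) (tt N56361 D106405) (tt N15076 F77633) (tt N31565 (iv3 F80904)) (tt N35556 (iv4 F92841)) (tt N29491 F77634) (tt N14943 (iv6 D49164)) (tt N32307 (iv7 F82688)))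
theorem Q29934 : ∀ i, i < 29934 → P i := stepQ 29933 Q29933 (allL N29933 (tt N56362 D106406) (tt N56363 D106407) (tt N56364 D106408) (tt N14944 (iv3 D49165)) (tt N32223 (iv4 F82557)) (tt N56365 D106409) (tt N14951 F77635) (tt N56366 D106410))
theorem Q29935 : ∀ i, i < 29935 → P i := stepQ 29934 Q29934 (allL N29934 (tt N31452 (iv1 F80683)) (tt N30642 (iv0 F79048)) (tt N15082 F77636) (tt N56365 (iv3 F163608)) (tt N35568 (iv4 F92869)) (tt N14944 (iv5 D49166)) (tt N30345 (iv6 F78356)) (tt N35567 (iv7 F92867)))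
theorem Q29936 : ∀ i, i < 29936 → P i := stepQ 29935 Q29935 (allL N29935 (tt N15080 (iv1 F77639)) (tt N15079 F77640) (tt N15083 F77637) (tt N56366 (iv3 F163609)) (tt N14945 F77638) (tt N35567 (iv5 F92864)) (tt N30342 (iv6 F78351)) (tt N14944 (iv7 D49167)))
theorem Q29937 : ∀ i, i < 29937 → P i := stepQ 29936 Q29936 (allL N29936 (tt N15147 (iv1 F77644)) (tt N15146 F77645) (tt N15084 F77641) (tt N32226 (iv3 F82567)) (tt N30342 (iv4 F78350)) (tt N29936 F77642) (tt N14945 (iv6 D49168)) (tt N14952 F77643))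
theorem Q29938 : ∀ i, i < 29938 → P i := stepQ 29937 Q29937 (allL N29937 (tt N56367 D106411) (tt N20544 F102194) (tt N16621 F77646) (tt N14948 F77647) (tt N29664 F77648) (tt N38457 (iv5 F98330)) (tt N14946 (iv6 D49169)) (tt N56368 D106412))
theorem Q29939 : ∀ i, i < 29939 → P i := stepQ 29938 Q29938 (allL N29938 (tt N40854 F102876) (tt N56369 D106413) (tt N56370 D106414) (tt N14947 (iv3 D49170)) (tt N29662 F77649) (tt N16069 F77650) (tt N56371 D106415) (tt N15130 F77651))
theorem Q29940 : ∀ i, i < 29940 → P i := stepQ 29939 Q29939 (allL N29939 (tt N36176 (iv1 F103601)) (tt N36178 (iv0 F96435)) (tt N15122 F77652) (tt N56371 (iv3 F163636)) (tt N14948 F77653) (tt N56372 D106416) (tt N14947 (iv6 D49171)) (tt N56373 D106417))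
theorem Q29941 : ∀ i, i < 29941 → P i := stepQ 29940 Q29940 (allL N29940 (tt N15126 (iv1 F77660)) (tt N14948 (iv0 D49172)) (tt N15123 F102098) (tt N16707 F95185) (tt N31495 F95186) (tt N56374 D106418) (tt N44233 (iv6 F111174)) (tt N15124 F102099))
theorem Q29942 : ∀ i, i < 29942 → P i := stepQ 29941 Q29941 (allL N29941 (tt N14948 (iv1 D49173)) (tt N15126 F77654) (tt N15124 F102167) (tt N20092 F102171) (tt N31496 F102172) (tt N56375 D106419) (tt N56376 D106420) (tt N15123 F102168))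
theorem Q29943 : ∀ i, i < 29943 → P i := stepQ 29942 Q29942 (allL N29942 (tt N18684 F77657) (tt N56377 D106421) (tt N15125 F77655) (tt N38457 (iv3 F98328)) (tt N37674 (iv4 F96432)) (tt N14948 (iv5 D49174)) (tt N15001 F77656) (tt N56378 D106422))
theorem Q29944 : ∀ i, i < 29944 → P i := stepQ 29943 Q29943 (allL N29943 (tt N15124 (iv1 F77661)) (tt N15123 F77662) (tt N15126 F77658) (tt N56368 (iv3 F163617)) (tt N56373 (iv4 F163641)) (tt N56378 (iv5 F163665)) (tt N15134 F77659) (tt N14948 (iv7 D49175)))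
theorem Q29945 : ∀ i, i < 29945 → P i := stepQ 29944 Q29944 (allL N29944 (tt N56379 D106423) (tt N56380 D106424) (tt N56381 D106425) (tt N14949 (iv3 D49176)) (tt N16631 F77663) (tt N18150 F77664) (tt N56382 D106426) (tt N15121 F77665))
theorem Q29946 : ∀ i, i < 29946 → P i := stepQ 29945 Q29945 (allL N29945 (tt N56383 D106427) (tt N56384 D106428) (tt N15131 F77666) (tt N56382 (iv3 F163679)) (tt N14950 F77667) (tt N56385 D106429) (tt N14949 (iv6 D49177)) (tt N56386 D106430))
theorem Q29947 : ∀ i, i < 29947 → P i := stepQ 29946 Q29946 (allL N29946 (tt N15134 (iv1 F77672)) (tt N14950 (iv0 D49178)) (tt N15132 F163586) (tt N56350 F163587) (tt N31506 F163588) (tt N20121 (iv5 F82456)) (tt N56387 D106431) (tt N15133 F163589))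
theorem Q29948 : ∀ i, i < 29948 → P i := stepQ 29947 Q29947 (allL N29947 (tt N14950 (iv1 D49179)) (tt N15134 F77668) (tt N15133 F163590) (tt N20596 F163591) (tt N31507 F163592) (tt N20122 F163593) (tt N44360 F163594) (tt N15132 F163595))
theorem Q29949 : ∀ i, i < 29949 → P i := stepQ 29948 Q29948 (allL N29948 (tt N15133 (iv1 F77673)) (tt N15132 F77674) (tt N15134 F77669) (tt N16637 F77670) (tt N56386 (iv4 F163686)) (tt N32122 (iv5 F82374)) (tt N15126 F77671) (tt N14950 (iv7 D49180)))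
theorem Q29950 : ∀ i, i < 29950 → P i := stepQ 29949 Q29949 (allL N29949 (tt N30334 (iv1 F78341)) (tt N14951 (iv0 D49181)) (tt N30336 F359118) (tt N56388 D106433) (tt N56389 D106434) (tt N41480 (iv5 F228319)) (tt N56390 D106436) (tt N30335 F359119))
theorem Q29951 : ∀ i, i < 29951 → P i := stepQ 29950 Q29950 (allL N29950 (tt N14951 (iv1 D49182)) (tt N30334 F78340) (tt N30335 (iv2 F359114)) (tt N56391 D106438) (tt N56392 D106439) (tt N41481 (iv5 F228389)) (tt N56393 D106441) (tt N30336 (iv7 F359115)))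
theorem Q29952 : ∀ i, i < 29952 → P i := stepQ 29951 Q29951 (allL N29951 (tt N30336 (iv1 F78343)) (tt N30335 F78342) (tt N14951 (iv2 D49183)) (tt N15141 F77675) (tt N56354 (iv4 F163559)) (tt N30323 (iv5 F78330)) (tt N56364 (iv6 F163607)) (tt N30334 (iv7 F78339)))
theorem Q29953 : ∀ i, i < 29953 → P i := stepQ 29952 Q29952 (allL N29952 (tt N15084 (iv1 F77676)) (tt N14952 (iv0 D49184)) (tt N15146 (iv2 F165472)) (tt N56394 D106443) (tt N31528 (iv4 F165543)) (tt N56395 D106445) (tt N56396 D106446) (tt N15147 F165471))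
theorem Q29954 : ∀ i, i < 29954 → P i := stepQ 29953 Q29953 (allL N29953 (tt N14952 (iv1 D49185)) (tt N15084 F77677) (tt N15147 F165470) (tt N16658 (iv3 F165544)) (tt N31529 (iv4 F165545)) (tt N56397 D106450) (tt N56398 D106451) (tt N15146 (iv7 F165473)))
theorem Q29955 : ∀ i, i < 29955 → P i := stepQ 29954 Q29954 (allL N29954 (tt N14983 F77680) (tt N14985 F77681) (tt N19132 F77678) (tt N56399 D106452) (tt N14953 (iv4 D49186)) (tt N37721 (iv5 F96509)) (tt N30287 (iv6 F78296)) (tt N19131 F77679))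
theorem Q29956 : ∀ i, i < 29956 → P i := stepQ 29955 Q29955 (allL N29955 (tt N56400 D106453) (tt N56401 D106454) (tt N56402 D106455) (tt N14954 (iv3 D49187)) (tt N38939 (iv4 F99049)) (tt N37777 (iv5 F96579)) (tt N56403 D106456) (tt N30052 (iv7 F77899)))
theorem Q29957 : ∀ i, i < 29957 → P i := stepQ 29956 Q29956 (allL N29956 (tt N37685 (iv1 F164038)) (tt N37686 (iv0 F164036)) (tt N30046 (iv2 F77882)) (tt N56403 (iv3 F163710)) (tt N14955 F77682) (tt N56404 D106459) (tt N14954 (iv6 D49188)) (tt N56405 D106460))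
theorem Q29958 : ∀ i, i < 29958 → P i := stepQ 29957 Q29957 (allL N29957 (tt N30049 (iv1 F77891)) (tt N14955 (iv0 D49189)) (tt N30047 (iv2 F165619)) (tt N56406 D106462) (tt N56407 D106463) (tt N30820 F79542) (tt N32290 F82666) (tt N30048 (iv7 F165624)))
theorem Q29959 : ∀ i, i < 29959 → P i := stepQ 29958 Q29958 (allL N29958 (tt N14955 (iv1 D49190)) (tt N30049 F77890) (tt N30048 F165625) (tt N18938 (iv3 F165627)) (tt N56408 D106466) (tt N30819 (iv5 F79540)) (tt N56409 D106467) (tt N30047 F165626))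
theorem Q29960 : ∀ i, i < 29960 → P i := stepQ 29959 Q29959 (allL N29959 (tt N30048 (iv1 F77884)) (tt N30047 F77889) (tt N30049 (iv2 F77885)) (tt N38942 (iv3 F99056)) (tt N56405 (iv4 F163711)) (tt N16243 F77683) (tt N30056 (iv6 F77908)) (tt N14955 (iv7 D49191)))
theorem Q29961 : ∀ i, i < 29961 → P i := stepQ 29960 Q29960 (allL N29960 (tt N15017 F77684) (tt N15018 F77685) (tt N29982 F77728) (tt N56291 (iv3 F163357)) (tt N37668 (iv4 F96419)) (tt N14956 (iv5 D49192)) (tt N50726 (iv6 F142156)) (tt N29981 F77724))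
theorem Q29962 : ∀ i, i < 29962 → P i := stepQ 29961 Q29961 (allL N29961 (tt N15018 F77687) (tt N15017 F77688) (tt N29981 F77723) (tt N15163 F77686) (tt N37662 (iv4 F96404)) (tt N14957 (iv5 D49193)) (tt N56410 D106468) (tt N29982 (iv7 F77726)))
theorem Q29963 : ∀ i, i < 29963 → P i := stepQ 29962 Q29962 (allL N29962 (tt N15014 F77691) (tt N15012 F77692) (tt N19450 F77689) (tt N21971 F77690) (tt N37722 (iv4 F96518)) (tt N14958 (iv5 D49194)) (tt N56411 D106469) (tt N29974 (iv7 F77701)))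
theorem Q29964 : ∀ i, i < 29964 → P i := stepQ 29963 Q29963 (allL N29963 (tt N56412 D106470) (tt N56413 D106471) (tt N30051 (iv2 F77898)) (tt N51510 (iv3 F145401)) (tt N37780 (iv4 F96582)) (tt N46113 (iv5 F120346)) (tt N14959 (iv6 D49195)) (tt N54904 (iv7 F356103)))
theorem Q29965 : ∀ i, i < 29965 → P i := stepQ 29964 Q29964 (allL N29964 (tt N56414 D106473) (tt N56415 D106474) (tt N56416 D106475) (tt N14961 (iv3 D49196)) (tt N38668 (iv4 F98585)) (tt N37779 (iv5 F96581)) (tt N56417 D106476) (tt N30045 (iv7 F77881)))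
theorem Q29966 : ∀ i, i < 29966 → P i := stepQ 29965 Q29965 (allL N29965 (tt N37702 F96479) (tt N37704 (iv0 F96488)) (tt N30053 (iv2 F77900)) (tt N56417 (iv3 F163719)) (tt N14962 F77693) (tt N56418 D106477) (tt N14961 (iv6 D49197)) (tt N56419 D106478))
theorem Q29967 : ∀ i, i < 29967 → P i := stepQ 29966 Q29966 (allL N29966 (tt N30056 (iv1 F77914)) (tt N14962 (iv0 D49198)) (tt N30054 (iv2 F77912)) (tt N33014 F83880) (tt N56420 D106479) (tt N39150 (iv5 F99517)) (tt N56421 D106480) (tt N30055 F77913))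
theorem Q29968 : ∀ i, i < 29968 → P i := stepQ 29967 Q29967 (allL N29967 (tt N14962 (iv1 D49199)) (tt N30056 F77910) (tt N30055 (iv2 F77906)) (tt N38742 (iv3 F98725)) (tt N36748 (iv4 F95150)) (tt N32208 (iv5 F82537)) (tt N19541 (iv6 F77694)) (tt N30054 (iv7 F77911)))
theorem Q29969 : ∀ i, i < 29969 → P i := stepQ 29968 Q29968 (allL N29968 (tt N30055 (iv1 F77902)) (tt N30054 F77909) (tt N30056 (iv2 F77907)) (tt N38255 (iv3 F97784)) (tt N56419 (iv4 F163720)) (tt N37254 (iv5 F95712)) (tt N30049 (iv6 F77888)) (tt N14962 (iv7 D49200)))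
theorem Q29970 : ∀ i, i < 29970 → P i := stepQ 29969 Q29969 (allL N29969 (tt N34683 (iv1 F88574)) (tt N32123 (iv0 F82380)) (tt N37515 (iv2 F96179)) (tt N14964 F77695) (tt N56422 D106481) (tt N14963 (iv5 D49201)) (tt N56423 D106482) (tt N29580 F77696))
theorem Q29971 : ∀ i, i < 29971 → P i := stepQ 29970 Q29970 (allL N29970 (tt N56424 D106483) (tt N56425 D106484) (tt N30058 (iv2 F77918)) (tt N56423 (iv3 F163732)) (tt N37778 (iv4 F96580)) (tt N32961 (iv5 F83783)) (tt N14964 (iv6 D49202)) (tt N56426 D106485))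
theorem Q29972 : ∀ i, i < 29972 → P i := stepQ 29971 Q29971 (allL N29971 (tt N26560 (iv1 F82989)) (tt N14965 (iv0 D49203)) (tt N30060 (iv2 F114372)) (tt N37284 F95755) (tt N38203 F97647) (tt N51506 F145399) (tt N45024 (iv6 F114388)) (tt N29888 (iv7 F114367)))
theorem Q29973 : ∀ i, i < 29973 → P i := stepQ 29972 Q29972 (allL N29972 (tt N30060 (iv1 F77926)) (tt N29888 (iv0 F114358)) (tt N14965 (iv2 D49205)) (tt N22786 F77697) (tt N30063 (iv4 F77939)) (tt N27236 (iv5 F82956)) (tt N29865 F77698) (tt N26560 (iv7 F82993)))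
theorem Q29974 : ∀ i, i < 29974 → P i := stepQ 29973 Q29973 (allL N29973 (tt N27239 F114374) (tt N27120 (iv0 F86647)) (tt N27236 F82964) (tt N14966 F77699) (tt N56427 D106486) (tt N14965 (iv5 D49206)) (tt N56428 D106487) (tt N27237 (iv7 F82967)))
theorem Q29975 : ∀ i, i < 29975 → P i := stepQ 29974 Q29974 (allL N29974 (tt N14966 (iv1 D49207)) (tt N14968 F77700) (tt N19408 (iv2 F77703)) (tt N38340 (iv3 F98037)) (tt N37673 (iv4 F96428)) (tt N15006 F77702) (tt N45163 (iv6 F114664)) (tt N29962 F77701))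
theorem Q29976 : ∀ i, i < 29976 → P i := stepQ 29975 Q29975 (allL N29975 (tt N56429 D106488) (tt N56430 D106489) (tt N30059 (iv2 F77919)) (tt N56428 (iv3 F163737)) (tt N37758 (iv4 F96560)) (tt N16343 F77704) (tt N14966 (iv6 D49208)) (tt N56431 D106490))
theorem Q29977 : ∀ i, i < 29977 → P i := stepQ 29976 Q29976 (allL N29976 (tt N38312 (iv1 F97931)) (tt N19053 F77707) (tt N38315 F97941) (tt N14968 F77705) (tt N30418 F319148) (tt N14967 (iv5 D49209)) (tt N30417 (iv6 F321187)) (tt N22789 F77706))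
theorem Q29978 : ∀ i, i < 29978 → P i := stepQ 29977 Q29977 (allL N29977 (tt N45124 (iv1 F114579)) (tt N21650 (iv0 F77711)) (tt N26557 (iv2 F82995)) (tt N14969 F77708) (tt N15235 F77709) (tt N44953 (iv5 F114177)) (tt N14967 (iv6 D49210)) (tt N18388 F77710))
theorem Q29979 : ∀ i, i < 29979 → P i := stepQ 29978 Q29978 (allL N29978 (tt N56432 D106493) (tt N56433 D106494) (tt N30061 (iv2 F77933)) (tt N30417 F322881) (tt N30420 (iv4 F324327)) (tt N56434 D106495) (tt N14968 (iv6 D49211)) (tt N56435 D106496))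
theorem Q29980 : ∀ i, i < 29980 → P i := stepQ 29979 Q29979 (allL N29979 (tt N16436 F77717) (tt N16434 F77718) (tt N21902 F77715) (tt N44953 F114179) (tt N56436 D106497) (tt N14969 (iv5 D49212)) (tt N56434 (iv6 F163743)) (tt N18389 F77716))
theorem Q29981 : ∀ i, i < 29981 → P i := stepQ 29980 Q29980 (allL N29980 (tt N34090 F86720) (tt N34089 (iv0 F86718)) (tt N38263 (iv2 F97797)) (tt N14971 F77719) (tt N56437 D106498) (tt N14970 (iv5 D49213)) (tt N56438 D106499) (tt N22795 F77720))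
theorem Q29982 : ∀ i, i < 29982 → P i := stepQ 29981 Q29981 (allL N29981 (tt N14973 (iv1 F77722)) (tt N14971 (iv0 D49214)) (tt N29961 (iv2 F77723)) (tt N55582 (iv3 F340329)) (tt N36913 (iv4 F95330)) (tt N15005 F77721) (tt N55588 (iv6 F348092)) (tt N29960 (iv7 F77724)))
theorem Q29983 : ∀ i, i < 29983 → P i := stepQ 29982 Q29982 (allL N29982 (tt N14971 (iv1 D49215)) (tt N14973 F77725) (tt N29960 (iv2 F77728)) (tt N16153 (iv3 F77729)) (tt N37750 (iv4 F96551)) (tt N15004 F77727) (tt N50010 (iv6 F138554)) (tt N29961 F77726))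
theorem Q29984 : ∀ i, i < 29984 → P i := stepQ 29983 Q29983 (allL N29983 (tt N56439 D106502) (tt N56440 D106503) (tt N30065 (iv2 F77946)) (tt N56438 (iv3 F163751)) (tt N37740 (iv4 F96535)) (tt N18408 F77730) (tt N14971 (iv6 D49216)) (tt N56441 D106504))
theorem Q29985 : ∀ i, i < 29985 → P i := stepQ 29984 Q29984 (allL N29984 (tt N14972 (iv1 D49217)) (tt N30063 F77943) (tt N30062 F77935) (tt N32417 (iv3 F82807)) (tt N32451 (iv4 F82866)) (tt N56442 D106505) (tt N32416 F82806) (tt N29553 F77731))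
theorem Q29986 : ∀ i, i < 29986 → P i := stepQ 29985 Q29985 (allL N29985 (tt N29553 F77733) (tt N30062 F77936) (tt N14972 (iv2 D49218)) (tt N18967 F77732) (tt N26560 (iv4 F82992)) (tt N56443 D106506) (tt N26558 (iv6 F82987)) (tt N30063 (iv7 F77941)))
theorem Q29987 : ∀ i, i < 29987 → P i := stepQ 29986 Q29986 (allL N29986 (tt N49484 (iv1 F136657)) (tt N56444 D106507) (tt N56443 (iv2 F163763)) (tt N14973 F77734) (tt N56445 D106508) (tt N14972 (iv5 D49219)) (tt N56446 D106509) (tt N30064 (iv7 F77945)))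
theorem Q29988 : ∀ i, i < 29988 → P i := stepQ 29987 Q29987 (allL N29987 (tt N28477 F94211) (tt N26793 (iv0 F82823)) (tt N26558 (iv2 F82986)) (tt N14974 F77735) (tt N26442 (iv4 F82969)) (tt N56447 D106510) (tt N14972 (iv6 D49220)) (tt N26561 (iv7 F82981)))
theorem Q29989 : ∀ i, i < 29989 → P i := stepQ 29988 Q29988 (allL N29988 (tt N56448 D106511) (tt N56449 D106512) (tt N30066 (iv2 F77948)) (tt N56446 (iv3 F163771)) (tt N37723 (iv4 F96520)) (tt N56450 D106513) (tt N14973 (iv6 D49221)) (tt N56451 D106514))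
theorem Q29990 : ∀ i, i < 29990 → P i := stepQ 29989 Q29989 (allL N29989 (tt N18482 F77740) (tt N18481 F77741) (tt N30067 (iv2 F77949)) (tt N56447 (iv3 F163773)) (tt N42943 (iv4 F107778)) (tt N14974 (iv5 D49222)) (tt N56450 (iv6 F163775)) (tt N29529 F77739))
theorem Q29991 : ∀ i, i < 29991 → P i := stepQ 29990 Q29990 (allL N29990 (tt N29578 F77743) (tt N16179 F77744) (tt N30635 (iv2 F79011)) (tt N56452 D106515) (tt N14975 (iv4 D49223)) (tt N16112 F77742) (tt N56453 D106516) (tt N32153 (iv7 F82428)))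
theorem Q29992 : ∀ i, i < 29992 → P i := stepQ 29991 Q29991 (allL N29991 (tt N56454 D106517) (tt N56455 D106518) (tt N32182 (iv2 F82490)) (tt N14979 F77745) (tt N56453 (iv4 F163778)) (tt N32584 (iv5 F83149)) (tt N14975 (iv6 D49224)) (tt N56456 D106519))
theorem Q29993 : ∀ i, i < 29993 → P i := stepQ 29992 Q29992 (allL N29992 (tt N46005 (iv1 F120073)) (tt N32589 (iv0 F83166)) (tt N17177 (iv2 F77747)) (tt N14976 (iv3 D49225)) (tt N56457 D106520) (tt N15225 F77746) (tt N56458 D106521) (tt N30087 (iv7 F77993)))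
theorem Q29994 : ∀ i, i < 29994 → P i := stepQ 29993 Q29993 (allL N29993 (tt N56459 D106522) (tt N56460 D106523) (tt N30086 (iv2 F77991)) (tt N56458 (iv3 F163783)) (tt N37697 (iv4 F96472)) (tt N29836 F77748) (tt N14976 (iv6 D49226)) (tt N56461 D106524))
theorem Q29995 : ∀ i, i < 29995 → P i := stepQ 29994 Q29994 (allL N29994 (tt N32618 F83233) (tt N56442 (iv0 F163761)) (tt N51505 (iv2 F145395)) (tt N14977 (iv3 D49227)) (tt N56462 D106525) (tt N15713 F77749) (tt N56463 D106526) (tt N30085 (iv7 F77990)))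
theorem Q29996 : ∀ i, i < 29996 → P i := stepQ 29995 Q29995 (allL N29995 (tt N56464 D106527) (tt N52036 (iv0 F356951)) (tt N30088 (iv2 F77995)) (tt N56463 (iv3 F163786)) (tt N37680 (iv4 F96439)) (tt N44974 (iv5 F114239)) (tt N14977 (iv6 D49228)) (tt N56465 D106529))
theorem Q29997 : ∀ i, i < 29997 → P i := stepQ 29996 Q29996 (allL N29996 (tt N56466 D106530) (tt N56467 D106531) (tt N56468 D106532) (tt N14978 (iv3 D49229)) (tt N56452 (iv4 F163776)) (tt N30039 (iv5 F77862)) (tt N56469 D106533) (tt N30038 F77860))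
theorem Q29998 : ∀ i, i < 29998 → P i := stepQ 29997 Q29997 (allL N29997 (tt N56470 D106534) (tt N56471 D106535) (tt N30090 (iv2 F77998)) (tt N56469 (iv3 F163787)) (tt N14979 F77750) (tt N56472 D106536) (tt N14978 (iv6 D49230)) (tt N56473 D106537))
theorem Q29999 : ∀ i, i < 29999 → P i := stepQ 29998 Q29998 (allL N29998 (tt N30093 (iv1 F78006)) (tt N14979 (iv0 D49231)) (tt N30091 F163476) (tt N56474 D106538) (tt N56475 D106539) (tt N46045 (iv5 F120141)) (tt N52095 (iv6 F376746)) (tt N30092 (iv7 F163474)))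
theorem Q30000 : ∀ i, i < 30000 → P i := stepQ 29999 Q29999 (allL N29999 (tt N14979 (iv1 D49232)) (tt N30093 F78005) (tt N30092 (iv2 F163477)) (tt N56476 D106541) (tt N56477 D106542) (tt N29920 (iv5 F77751)) (tt N56478 D106543) (tt N30091 F163478))
theorem Q30001 : ∀ i, i < 30001 → P i := stepQ 30000 Q30000 (allL N30000 (tt N30092 (iv1 F78000)) (tt N30091 F78004) (tt N30093 (iv2 F78002)) (tt N56456 (iv3 F163779)) (tt N56473 (iv4 F163788)) (tt N32587 (iv5 F83153)) (tt N56479 D106544) (tt N14979 (iv7 D49233)))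
theorem Q30002 : ∀ i, i < 30002 → P i := stepQ 30001 Q30001 (allL N30001 (tt N56480 D106545) (tt N56481 D106546) (tt N30094 (iv2 F78007)) (tt N32181 (iv3 F82489)) (tt N30042 (iv4 F77874)) (tt N45055 (iv5 F114449)) (tt N14980 (iv6 D49234)) (tt N56479 (iv7 F163791)))
theorem Q30003 : ∀ i, i < 30003 → P i := stepQ 30002 Q30002 (allL N30002 (tt N18243 (iv1 F77755)) (tt N14981 (iv0 D49235)) (tt N19140 (iv2 F77754)) (tt N19566 (iv3 F77757)) (tt N19345 F77753) (tt N16052 F77752) (tt N56482 D106547) (tt N19139 F77756))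
theorem Q30004 : ∀ i, i < 30004 → P i := stepQ 30003 Q30003 (allL N30003 (tt N18978 F77760) (tt N18976 F77761) (tt N35927 (iv2 F93591)) (tt N55711 (iv3 F333525)) (tt N14981 (iv4 D49236)) (tt N19815 F77759) (tt N56483 D106549) (tt N19141 F77758))
theorem Q30005 : ∀ i, i < 30005 → P i := stepQ 30004 Q30004 (allL N30004 (tt N56484 D106550) (tt N56485 D106551) (tt N35928 (iv2 F93595)) (tt N14984 F77766) (tt N56483 (iv4 F163799)) (tt N18165 F77767) (tt N14981 (iv6 D49237)) (tt N56486 D106552))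
theorem Q30006 : ∀ i, i < 30006 → P i := stepQ 30005 Q30005 (allL N30005 (tt N15002 F77770) (tt N15008 F77771) (tt N19130 F77768) (tt N56487 D106553) (tt N14982 (iv4 D49238)) (tt N37750 (iv5 F96550)) (tt N31504 (iv6 F80795)) (tt N19128 F77769))
theorem Q30007 : ∀ i, i < 30007 → P i := stepQ 30006 Q30006 (allL N30006 (tt N56488 D106554) (tt N55659 (iv0 F325762)) (tt N56489 D106556) (tt N14983 (iv3 D49239)) (tt N55711 (iv4 F333526)) (tt N56490 D106557) (tt N56491 D106558) (tt N19144 F77772))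
theorem Q30008 : ∀ i, i < 30008 → P i := stepQ 30007 Q30007 (allL N30007 (tt N15185 F77776) (tt N15034 F77777) (tt N19134 F77773) (tt N56490 (iv3 F163812)) (tt N15026 F77775) (tt N14983 (iv5 D49240)) (tt N56490 (iv6 F333535)) (tt N19145 F77774))
theorem Q30009 : ∀ i, i < 30009 → P i := stepQ 30008 Q30008 (allL N30008 (tt N56407 (iv1 F165621)) (tt N56408 (iv0 F165628)) (tt N19135 F77778) (tt N56491 (iv3 F163814)) (tt N14984 F77779) (tt N56491 (iv5 F333543)) (tt N14983 (iv6 D49241)) (tt N56492 D106563))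
theorem Q30010 : ∀ i, i < 30010 → P i := stepQ 30009 Q30009 (allL N30009 (tt N14984 (iv1 D49243)) (tt N19138 F77781) (tt N19137 F161440) (tt N32410 (iv3 F164070)) (tt N56493 D106567) (tt N18057 (iv5 F77782)) (tt N56494 D106568) (tt N19136 F161441))
theorem Q30011 : ∀ i, i < 30011 → P i := stepQ 30010 Q30010 (allL N30010 (tt N19137 (iv1 F77788)) (tt N19136 F77789) (tt N19138 F77784) (tt N56486 (iv3 F163802)) (tt N56492 (iv4 F163820)) (tt N18168 F77785) (tt N19150 F77786) (tt N14984 (iv7 D49244)))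
theorem Q30012 : ∀ i, i < 30012 → P i := stepQ 30011 Q30011 (allL N30011 (tt N56495 D106569) (tt N56496 D106570) (tt N56497 D106571) (tt N14985 (iv3 D49245)) (tt N44323 (iv4 F111641)) (tt N56498 D106572) (tt N56499 D106573) (tt N19133 F77790))
theorem Q30013 : ∀ i, i < 30013 → P i := stepQ 30012 Q30012 (allL N30012 (tt N15034 F77794) (tt N15185 F77795) (tt N19145 F77791) (tt N56498 (iv3 F163842)) (tt N15025 F77792) (tt N14985 (iv5 D49246)) (tt N56500 D106574) (tt N19134 F77793))
theorem Q30014 : ∀ i, i < 30014 → P i := stepQ 30013 Q30013 (allL N30013 (tt N56420 F163724) (tt N36748 (iv0 F95151)) (tt N19146 F77796) (tt N56499 (iv3 F163844)) (tt N14986 F77797) (tt N56501 D106575) (tt N14985 (iv6 D49247)) (tt N56502 D106576))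
theorem Q30015 : ∀ i, i < 30015 → P i := stepQ 30014 Q30014 (allL N30014 (tt N19150 (iv1 F77804)) (tt N14986 (iv0 D49248)) (tt N19147 (iv2 F77800)) (tt N31505 (iv3 F80797)) (tt N56503 D106577) (tt N31490 (iv5 F80761)) (tt N36739 (iv6 F95139)) (tt N19148 F77799))
theorem Q30016 : ∀ i, i < 30016 → P i := stepQ 30015 Q30015 (allL N30015 (tt N56504 D106578) (tt N37035 (iv0 F168045)) (tt N19149 F77805) (tt N44326 (iv3 F111648)) (tt N37261 (iv4 F95731)) (tt N14986 (iv5 D49249)) (tt N14987 F77806) (tt N33538 (iv7 F85070)))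
theorem Q30017 : ∀ i, i < 30017 → P i := stepQ 30016 Q30016 (allL N30016 (tt N19148 (iv1 F77809)) (tt N19147 F77810) (tt N19150 F77807) (tt N44327 (iv3 F111651)) (tt N56502 (iv4 F163849)) (tt N33538 (iv5 F85069)) (tt N19138 F77808) (tt N14986 (iv7 D49250)))
theorem Q30018 : ∀ i, i < 30018 → P i := stepQ 30017 Q30017 (allL N30017 (tt N56505 D106579) (tt N56506 D106580) (tt N35929 (iv2 F93598)) (tt N14990 F77812) (tt N19808 F77813) (tt N30358 (iv5 F78381)) (tt N14988 (iv6 D49251)) (tt N56507 D106581))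
theorem Q30019 : ∀ i, i < 30019 → P i := stepQ 30018 Q30018 (allL N30018 (tt N56508 D106582) (tt N56509 D106583) (tt N56510 D106584) (tt N14989 (iv3 D49252)) (tt N19806 F77814) (tt N56511 D106585) (tt N56512 D106586) (tt N19161 F77815))
theorem Q30020 : ∀ i, i < 30020 → P i := stepQ 30019 Q30019 (allL N30019 (tt N37673 (iv1 F96430)) (tt N37670 (iv0 F96424)) (tt N19155 F77816) (tt N56511 (iv3 F164146)) (tt N15018 F77818) (tt N14989 (iv5 D49253)) (tt N56513 D106587) (tt N19162 F77817))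
theorem Q30021 : ∀ i, i < 30021 → P i := stepQ 30020 Q30020 (allL N30020 (tt N56514 D106588) (tt N56515 D106589) (tt N19156 F77819) (tt N56512 (iv3 F164148)) (tt N14990 F77820) (tt N56516 D106590) (tt N14989 (iv6 D49254)) (tt N56517 D106591))
theorem Q30022 : ∀ i, i < 30022 → P i := stepQ 30021 Q30021 (allL N30021 (tt N14990 (iv1 D49256)) (tt N19159 F77821) (tt N19158 F100243) (tt N36704 (iv3 F168068)) (tt N56518 D106592) (tt N31533 (iv5 F80845)) (tt N56519 D106593) (tt N19157 F100245))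
theorem Q30023 : ∀ i, i < 30023 → P i := stepQ 30022 Q30022 (allL N30022 (tt N19158 (iv1 F77825)) (tt N19157 F77826) (tt N19159 F77822) (tt N56507 (iv3 F163861)) (tt N56517 (iv4 F164157)) (tt N30362 (iv5 F78392)) (tt N19166 F77823) (tt N14990 (iv7 D49257)))
theorem Q30024 : ∀ i, i < 30024 → P i := stepQ 30023 Q30023 (allL N30023 (tt N56520 D106594) (tt N56521 D106595) (tt N31390 (iv2 F80574)) (tt N14993 F77827) (tt N19595 F77828) (tt N16263 F77829) (tt N14991 (iv6 D49258)) (tt N56522 D106596))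
theorem Q30025 : ∀ i, i < 30025 → P i := stepQ 30024 Q30024 (allL N30024 (tt N56523 D106597) (tt N56524 D106598) (tt N56525 D106599) (tt N14992 (iv3 D49259)) (tt N19593 F77830) (tt N56526 D106600) (tt N56527 D106601) (tt N19154 F77831))
theorem Q30026 : ∀ i, i < 30026 → P i := stepQ 30025 Q30025 (allL N30025 (tt N37670 (iv1 F96425)) (tt N37673 (iv0 F96429)) (tt N19162 F77832) (tt N56526 (iv3 F164181)) (tt N15017 F77833) (tt N14992 (iv5 D49260)) (tt N56528 D106602) (tt N19155 F77834))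
theorem Q30027 : ∀ i, i < 30027 → P i := stepQ 30026 Q30026 (allL N30026 (tt N56529 D106603) (tt N56530 D106604) (tt N19163 F77835) (tt N56527 (iv3 F164183)) (tt N14993 F77836) (tt N55628 (iv5 F332801)) (tt N14992 (iv6 D49261)) (tt N56531 D106606))
theorem Q30028 : ∀ i, i < 30028 → P i := stepQ 30027 Q30027 (allL N30027 (tt N19166 (iv1 F77841)) (tt N14993 (iv0 D49262)) (tt N19164 F103379) (tt N35627 (iv3 F168040)) (tt N35711 F327657) (tt N35584 (iv5 F92922)) (tt N56532 D106609) (tt N19165 F103380))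
theorem Q30029 : ∀ i, i < 30029 → P i := stepQ 30028 Q30028 (allL N30028 (tt N19165 (iv1 F77842)) (tt N19164 F77843) (tt N19166 F77838) (tt N56522 (iv3 F164170)) (tt N56531 (iv4 F164190)) (tt N16269 F77839) (tt N19159 F77840) (tt N14993 (iv7 D49264)))
theorem Q30030 : ∀ i, i < 30030 → P i := stepQ 30029 Q30029 (allL N30029 (tt N56533 D106612) (tt N56534 D106613) (tt N56535 D106614) (tt N14994 (iv3 D49265)) (tt N19704 F77845) (tt N56536 D106615) (tt N56537 D106616) (tt N19170 F77846))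
theorem Q30031 : ∀ i, i < 30031 → P i := stepQ 30030 Q30030 (allL N30030 (tt N37668 (iv1 F96422)) (tt N37662 (iv0 F96405)) (tt N19168 F77847) (tt N56536 (iv3 F164217)) (tt N15014 F77849) (tt N14994 (iv5 D49266)) (tt N56538 D106617) (tt N19171 F77848))
theorem Q30032 : ∀ i, i < 30032 → P i := stepQ 30031 Q30031 (allL N30031 (tt N37081 F164014) (tt N56518 F164164) (tt N19169 F77850) (tt N56537 (iv3 F164219)) (tt N15041 F77851) (tt N56539 D106618) (tt N14994 (iv6 D49267)) (tt N56540 D106619))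
theorem Q30033 : ∀ i, i < 30033 → P i := stepQ 30032 Q30032 (allL N30032 (tt N56541 D106620) (tt N56542 D106621) (tt N56543 D106622) (tt N14995 (iv3 D49268)) (tt N35946 (iv4 F93629)) (tt N56544 D106623) (tt N56545 D106624) (tt N19167 F77852))
theorem Q30034 : ∀ i, i < 30034 → P i := stepQ 30033 Q30033 (allL N30033 (tt N37662 (iv1 F96406)) (tt N37668 (iv0 F96421)) (tt N19171 F77853) (tt N56544 (iv3 F164235)) (tt N15012 F77854) (tt N14995 (iv5 D49269)) (tt N56546 D106625) (tt N19168 F77855))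
theorem Q30035 : ∀ i, i < 30035 → P i := stepQ 30034 Q30034 (allL N30034 (tt N35711 F327647) (tt N37131 (iv0 F168041)) (tt N19172 F77856) (tt N56545 (iv3 F164237)) (tt N15042 F77857) (tt N32409 F327648) (tt N14995 (iv6 D49270)) (tt N56547 D106627))
theorem Q30036 : ∀ i, i < 30036 → P i := stepQ 30035 Q30035 (allL N30035 (tt N56548 D106628) (tt N14996 (iv0 D49271)) (tt N56549 D106629) (tt N56550 D106630) (tt N56551 D106631) (tt N56552 D106632) (tt N56553 D106633) (tt N56554 D106634))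
theorem Q30037 : ∀ i, i < 30037 → P i := stepQ 30036 Q30036 (allL N30036 (tt N14996 (iv1 D49272)) (tt N56548 F164250) (tt N56554 (iv2 F164252)) (tt N56555 D106635) (tt N56556 D106636) (tt N56557 D106637) (tt N56558 D106638) (tt N56549 F164251))
theorem Q30038 : ∀ i, i < 30038 → P i := stepQ 30037 Q30037 (allL N30037 (tt N56549 (iv1 F330442)) (tt N56554 (iv0 F330446)) (tt N14996 (iv2 D49273)) (tt N19175 F77858) (tt N36714 (iv4 F95092)) (tt N56559 D106641) (tt N36714 (iv6 F95093)) (tt N56548 (iv7 F164249)))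
theorem Q30039 : ∀ i, i < 30039 → P i := stepQ 30038 Q30038 (allL N30038 (tt N56560 D106642) (tt N56561 D106643) (tt N56559 (iv2 F164255)) (tt N14997 F77859) (tt N56562 D106644) (tt N14996 (iv5 D49274)) (tt N56563 D106645) (tt N29996 (iv7 F77860)))
theorem Q30040 : ∀ i, i < 30040 → P i := stepQ 30039 Q30039 (allL N30039 (tt N56554 (iv1 F330447)) (tt N56549 (iv0 F330441)) (tt N56548 F164246) (tt N14998 F77861) (tt N36716 (iv4 F95096)) (tt N29996 F77862) (tt N56564 D106646) (tt N14996 (iv7 D49275)))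
theorem Q30041 : ∀ i, i < 30041 → P i := stepQ 30040 Q30040 (allL N30040 (tt N15027 (iv1 F77865)) (tt N14997 (iv0 D49276)) (tt N19178 (iv2 F77866)) (tt N56565 D106647) (tt N15011 F77864) (tt N15002 F77863) (tt N56566 D106648) (tt N19179 (iv7 F77867)))
theorem Q30042 : ∀ i, i < 30042 → P i := stepQ 30041 Q30041 (allL N30041 (tt N14997 (iv1 D49277)) (tt N15027 F77868) (tt N19179 (iv2 F77872)) (tt N56567 D106649) (tt N15007 F77871) (tt N15008 F77870) (tt N56568 D106650) (tt N19178 F77869))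
theorem Q30043 : ∀ i, i < 30043 → P i := stepQ 30042 Q30042 (allL N30042 (tt N56569 D106651) (tt N56570 D106652) (tt N19180 F77873) (tt N56563 (iv3 F164265)) (tt N30001 F77874) (tt N36719 (iv5 F95108)) (tt N14997 (iv6 D49278)) (tt N56571 D106653))
theorem Q30044 : ∀ i, i < 30044 → P i := stepQ 30043 Q30043 (allL N30043 (tt N36872 (iv1 F95277)) (tt N36871 F95276) (tt N19181 F77875) (tt N56564 (iv3 F164266)) (tt N14999 F77876) (tt N56572 D106654) (tt N14998 (iv6 D49279)) (tt N36720 (iv7 F95111)))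
theorem Q30045 : ∀ i, i < 30045 → P i := stepQ 30044 Q30044 (allL N30044 (tt N56573 D106655) (tt N56574 D106656) (tt N19393 F77877) (tt N19412 F77878) (tt N37671 (iv4 F96426)) (tt N16151 F77879) (tt N15000 (iv6 D49280)) (tt N56575 D106657))
theorem Q30046 : ∀ i, i < 30046 → P i := stepQ 30045 Q30045 (allL N30045 (tt N56576 D106658) (tt N56577 D106659) (tt N56578 D106660) (tt N15002 (iv3 D49281)) (tt N19687 F77880) (tt N56565 (iv5 F164267)) (tt N56579 D106661) (tt N29964 F77881))
theorem Q30047 : ∀ i, i < 30047 → P i := stepQ 30046 Q30046 (allL N30046 (tt N36971 (iv1 F164047)) (tt N56493 F164040) (tt N29956 F77882) (tt N56579 (iv3 F164299)) (tt N15003 F77883) (tt N56580 D106662) (tt N15002 (iv6 D49282)) (tt N56581 D106663))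
theorem Q30048 : ∀ i, i < 30048 → P i := stepQ 30047 Q30047 (allL N30047 (tt N29959 (iv1 F77889)) (tt N15003 (iv0 D49283)) (tt N29957 F165619) (tt N31826 (iv3 F165576)) (tt N37681 (iv4 F165575)) (tt N31824 (iv5 F165579)) (tt N38431 (iv6 F98279)) (tt N29958 (iv7 F165626)))
theorem Q30049 : ∀ i, i < 30049 → P i := stepQ 30048 Q30048 (allL N30048 (tt N15003 (iv1 D49284)) (tt N29959 F77884) (tt N29958 (iv2 F165625)) (tt N39243 (iv3 F165574)) (tt N37682 (iv4 F165573)) (tt N35601 (iv5 F92956)) (tt N56582 D106670) (tt N29957 F165624))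
theorem Q30050 : ∀ i, i < 30050 → P i := stepQ 30049 Q30049 (allL N30049 (tt N29958 (iv1 F77890)) (tt N29957 F77891) (tt N29959 F77885) (tt N19691 F77886) (tt N56581 (iv4 F164303)) (tt N29500 F77887) (tt N29968 F77888) (tt N15003 (iv7 D49285)))
theorem Q30051 : ∀ i, i < 30051 → P i := stepQ 30050 Q30050 (allL N30050 (tt N29894 F77896) (tt N29901 (iv0 F77897)) (tt N16155 F77892) (tt N15005 (iv3 D49286)) (tt N30050 F77893) (tt N55582 (iv5 F340330)) (tt N16155 F77894) (tt N29899 F77895))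
theorem Q30052 : ∀ i, i < 30052 → P i := stepQ 30051 Q30051 (allL N30051 (tt N56583 D106671) (tt N56584 D106672) (tt N29963 F77898) (tt N55794 (iv3 F161800)) (tt N56568 (iv4 F164274)) (tt N42730 (iv5 F107026)) (tt N15007 (iv6 D49287)) (tt N56585 D106673))
theorem Q30053 : ∀ i, i < 30053 → P i := stepQ 30052 Q30052 (allL N30052 (tt N56586 D106674) (tt N56587 D106675) (tt N56588 D106676) (tt N15008 (iv3 D49288)) (tt N38930 (iv4 F99031)) (tt N56567 (iv5 F164271)) (tt N56589 D106677) (tt N29955 F77899))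
theorem Q30054 : ∀ i, i < 30054 → P i := stepQ 30053 Q30053 (allL N30053 (tt N56503 F163856) (tt N36742 (iv0 F95145)) (tt N29965 F77900) (tt N56589 (iv3 F164364)) (tt N15009 F77901) (tt N56590 D106678) (tt N15008 (iv6 D49289)) (tt N56591 D106679))
theorem Q30055 : ∀ i, i < 30055 → P i := stepQ 30054 Q30054 (allL N30054 (tt N29968 (iv1 F77909)) (tt N15009 (iv0 D49290)) (tt N29966 F77912) (tt N38461 (iv3 F98339)) (tt N37698 (iv4 F163726)) (tt N56592 D106680) (tt N56593 D106681) (tt N29967 F77911))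
theorem Q30056 : ∀ i, i < 30056 → P i := stepQ 30055 Q30055 (allL N30055 (tt N15009 (iv1 D49291)) (tt N29968 F77902) (tt N29967 F77906) (tt N19344 F77905) (tt N37699 (iv4 F96475)) (tt N19882 (iv5 F77904)) (tt N18662 (iv6 F77903)) (tt N29966 (iv7 F77913)))
theorem Q30057 : ∀ i, i < 30057 → P i := stepQ 30056 Q30056 (allL N30056 (tt N29967 (iv1 F77910)) (tt N29966 F77914) (tt N29968 F77907) (tt N38932 (iv3 F99036)) (tt N56591 (iv4 F164367)) (tt N38178 (iv5 F97597)) (tt N29959 F77908) (tt N15009 (iv7 D49292)))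
theorem Q30058 : ∀ i, i < 30058 → P i := stepQ 30057 Q30057 (allL N30057 (tt N56283 (iv1 F163326)) (tt N56594 D106682) (tt N27232 F77915) (tt N15011 F77916) (tt N56595 D106683) (tt N15010 (iv5 D49293)) (tt N56596 D106684) (tt N27234 F77917))
theorem Q30059 : ∀ i, i < 30059 → P i := stepQ 30058 Q30058 (allL N30058 (tt N56597 D106685) (tt N56598 D106686) (tt N29970 F77918) (tt N56596 (iv3 F164388)) (tt N56566 (iv4 F164270)) (tt N44958 (iv5 F114191)) (tt N15011 (iv6 D49294)) (tt N56599 D106687))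
theorem Q30060 : ∀ i, i < 30060 → P i := stepQ 30059 Q30059 (allL N30059 (tt N56600 D106688) (tt N56601 D106689) (tt N29975 F77919) (tt N44495 (iv3 F112314)) (tt N56546 (iv4 F164239)) (tt N29545 F77920) (tt N15012 (iv6 D49295)) (tt N56602 D106690))
theorem Q30061 : ∀ i, i < 30061 → P i := stepQ 30060 Q30060 (allL N30060 (tt N15013 (iv1 D49297)) (tt N29972 F77926) (tt N29971 F114372) (tt N56603 D106691) (tt N37284 (iv4 F95753)) (tt N56594 (iv5 F164382)) (tt N42372 F114371) (tt N23173 (iv7 F114368)))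
theorem Q30062 : ∀ i, i < 30062 → P i := stepQ 30061 Q30061 (allL N30061 (tt N56604 D106692) (tt N56605 D106693) (tt N29978 F77933) (tt N51514 (iv3 F145402)) (tt N56538 (iv4 F164222)) (tt N42942 (iv5 F107776)) (tt N15014 (iv6 D49301)) (tt N56606 D106694))
theorem Q30063 : ∀ i, i < 30063 → P i := stepQ 30062 Q30062 (allL N30062 (tt N29985 (iv1 F77936)) (tt N15016 (iv0 D49302)) (tt N29984 (iv2 F77935)) (tt N23314 F77934) (tt N37279 (iv4 F95742)) (tt N56607 D106695) (tt N45178 F114691) (tt N16381 F77937))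
theorem Q30064 : ∀ i, i < 30064 → P i := stepQ 30063 Q30063 (allL N30063 (tt N29984 (iv1 F77943)) (tt N16381 F77942) (tt N15016 (iv2 D49303)) (tt N19433 F77938) (tt N29972 F77939) (tt N56608 D106696) (tt N16292 F77940) (tt N29985 F77941))
theorem Q30065 : ∀ i, i < 30065 → P i := stepQ 30064 Q30064 (allL N30064 (tt N56609 D106697) (tt N50180 (iv0 F139176)) (tt N56608 (iv2 F164418)) (tt N15017 F77944) (tt N51317 (iv4 F144717)) (tt N15016 (iv5 D49304)) (tt N56610 D106698) (tt N29986 F77945))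
theorem Q30066 : ∀ i, i < 30066 → P i := stepQ 30065 Q30065 (allL N30065 (tt N56611 D106699) (tt N56612 D106700) (tt N29983 F77946) (tt N56610 (iv3 F164430)) (tt N56528 (iv4 F164186)) (tt N16294 F77947) (tt N15017 (iv6 D49305)) (tt N56613 D106701))
theorem Q30067 : ∀ i, i < 30067 → P i := stepQ 30066 Q30066 (allL N30066 (tt N56614 D106702) (tt N56615 D106703) (tt N29988 F77948) (tt N44501 (iv3 F112349)) (tt N56513 (iv4 F164151)) (tt N56616 D106704) (tt N15018 (iv6 D49306)) (tt N56617 D106705))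
theorem Q30068 : ∀ i, i < 30068 → P i := stepQ 30067 Q30067 (allL N30067 (tt N16428 F77951) (tt N16426 F77952) (tt N29989 F77949) (tt N44502 (iv3 F112351)) (tt N56618 D106706) (tt N15019 (iv5 D49307)) (tt N56616 (iv6 F164441)) (tt N16281 F77950))
theorem Q30069 : ∀ i, i < 30069 → P i := stepQ 30068 Q30068 (allL N30068 (tt N15024 (iv1 F77965)) (tt N15022 F77967) (tt N15020 (iv2 D49308)) (tt N23311 F77968) (tt N31363 (iv4 F80519)) (tt N56619 D106707) (tt N36242 (iv6 F94165)) (tt N15021 (iv7 F77953)))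
theorem Q30070 : ∀ i, i < 30070 → P i := stepQ 30069 Q30069 (allL N30069 (tt N36251 (iv1 F94202)) (tt N23306 F78807) (tt N15240 (iv2 F77955)) (tt N15020 (iv3 D49309)) (tt N15238 F77954) (tt N56620 D106708) (tt N20933 (iv6 F77956)) (tt N15245 (iv7 F77957)))
theorem Q30071 : ∀ i, i < 30071 → P i := stepQ 30070 Q30070 (allL N30070 (tt N56621 D106709) (tt N45025 (iv0 F114393)) (tt N31363 (iv2 F80518)) (tt N19402 F77958) (tt N15020 (iv4 D49310)) (tt N56622 D106710) (tt N56623 D106711) (tt N37289 (iv7 F95768)))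
theorem Q30072 : ∀ i, i < 30072 → P i := stepQ 30071 Q30071 (allL N30071 (tt N32172 F82478) (tt N56291 (iv0 F163358)) (tt N56619 (iv2 F164452)) (tt N56620 (iv3 F164458)) (tt N56624 D106712) (tt N15020 (iv5 D49311)) (tt N56625 D106713) (tt N56626 D106714))
theorem Q30073 : ∀ i, i < 30073 → P i := stepQ 30072 Q30072 (allL N30072 (tt N16355 F77961) (tt N15176 (iv0 F77960)) (tt N36242 F94166) (tt N20933 F77959) (tt N56623 (iv4 F164471)) (tt N56249 F163271) (tt N15020 (iv6 D49312)) (tt N36241 F94160))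
theorem Q30074 : ∀ i, i < 30074 → P i := stepQ 30073 Q30073 (allL N30073 (tt N15022 (iv1 F77966)) (tt N15024 (iv0 F77964)) (tt N15021 F77962) (tt N15245 F77963) (tt N37289 (iv4 F95767)) (tt N56626 (iv5 F164477)) (tt N56627 D106715) (tt N15020 (iv7 D49313)))
theorem Q30075 : ∀ i, i < 30075 → P i := stepQ 30074 Q30074 (allL N30074 (tt N17533 F77972) (tt N23314 F77973) (tt N23312 (iv2 F77971)) (tt N15021 (iv3 D49314)) (tt N18220 F77970) (tt N56628 D106716) (tt N53664 F154335) (tt N23311 F77969))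
theorem Q30076 : ∀ i, i < 30076 → P i := stepQ 30075 Q30075 (allL N30075 (tt N45025 F114392) (tt N56621 F164465) (tt N37289 (iv2 F95766)) (tt N31365 (iv3 F80522)) (tt N15021 (iv4 D49315)) (tt N56629 D106717) (tt N50290 (iv6 F139430)) (tt N31363 F80520))
theorem Q30077 : ∀ i, i < 30077 → P i := stepQ 30076 Q30076 (allL N30076 (tt N56291 F163359) (tt N32172 F163360) (tt N56626 (iv2 F164475)) (tt N56628 (iv3 F164487)) (tt N56630 D106718) (tt N15021 (iv5 D49316)) (tt N56631 D106719) (tt N56619 (iv7 F164454)))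
theorem Q30078 : ∀ i, i < 30078 → P i := stepQ 30077 Q30077 (allL N30077 (tt N36247 F139431) (tt N23260 F139432) (tt N56627 (iv2 F164480)) (tt N53664 (iv3 F154330)) (tt N50290 F139433) (tt N56317 (iv5 F163398)) (tt N15021 (iv6 D49317)) (tt N56632 D106720))
theorem Q30079 : ∀ i, i < 30079 → P i := stepQ 30078 Q30078 (allL N30078 (tt N29900 F77976) (tt N56633 D106721) (tt N15023 F77974) (tt N16162 F77975) (tt N56634 D106722) (tt N15022 (iv5 D49318)) (tt N56635 D106723) (tt N32139 (iv7 F82409)))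
theorem Q30080 : ∀ i, i < 30080 → P i := stepQ 30079 Q30079 (allL N30079 (tt N32139 (iv1 F82412)) (tt N15023 (iv0 D49319)) (tt N29900 (iv2 F77978)) (tt N42962 (iv3 F107808)) (tt N56636 D106724) (tt N29894 F77977) (tt N56637 D106725) (tt N56633 (iv7 F164499)))
theorem Q30081 : ∀ i, i < 30081 → P i := stepQ 30080 Q30080 (allL N30080 (tt N15023 (iv1 D49320)) (tt N32139 F82410) (tt N56633 (iv2 F164501)) (tt N37510 (iv3 F96171)) (tt N56638 D106726) (tt N29901 (iv5 F77980)) (tt N56639 D106727) (tt N29900 F77979))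
theorem Q30082 : ∀ i, i < 30082 → P i := stepQ 30081 Q30081 (allL N30081 (tt N55574 (iv1 F340323)) (tt N55578 (iv0 F356895)) (tt N56634 (iv2 F164502)) (tt N56640 D106730) (tt N15023 (iv4 D49321)) (tt N56641 D106731) (tt N56642 D106732) (tt N56643 D106733))
theorem Q30083 : ∀ i, i < 30083 → P i := stepQ 30082 Q30082 (allL N30082 (tt N56644 D106734) (tt N56645 D106735) (tt N56635 (iv2 F164503)) (tt N15028 F77981) (tt N56642 (iv4 F164513)) (tt N23199 F77982) (tt N15023 (iv6 D49322)) (tt N56646 D106736))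
theorem Q30084 : ∀ i, i < 30084 → P i := stepQ 30083 Q30083 (allL N30083 (tt N56633 (iv1 F164498)) (tt N29900 F82411) (tt N32139 (iv2 F82407)) (tt N15029 F77983) (tt N56643 (iv4 F164515)) (tt N15024 F77984) (tt N56647 D106737) (tt N15023 (iv7 D49323)))
theorem Q30085 : ∀ i, i < 30085 → P i := stepQ 30084 Q30084 (allL N30084 (tt N36242 (iv1 F94162)) (tt N36241 F94159) (tt N15176 F77985) (tt N15030 F77986) (tt N30084 F77987) (tt N56648 D106738) (tt N15024 (iv6 D49324)) (tt N16355 F77988))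
theorem Q30086 : ∀ i, i < 30086 → P i := stepQ 30085 Q30085 (allL N30085 (tt N56607 (iv1 F164416)) (tt N55763 (iv0 F161588)) (tt N34080 (iv2 F86695)) (tt N15025 (iv3 D49325)) (tt N56649 D106739) (tt N15178 F77989) (tt N56650 D106740) (tt N29994 F77990))
theorem Q30087 : ∀ i, i < 30087 → P i := stepQ 30086 Q30086 (allL N30086 (tt N56651 D106741) (tt N56652 D106742) (tt N29993 F77991) (tt N56650 (iv3 F164525)) (tt N56500 (iv4 F163846)) (tt N45000 (iv5 F114326)) (tt N15025 (iv6 D49326)) (tt N56653 D106743))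
theorem Q30088 : ∀ i, i < 30088 → P i := stepQ 30087 Q30087 (allL N30087 (tt N23837 (iv1 F77994)) (tt N34091 F86723) (tt N34093 (iv2 F86721)) (tt N15026 (iv3 D49327)) (tt N56654 D106744) (tt N15179 F77992) (tt N56654 (iv6 F333550)) (tt N29992 F77993))
theorem Q30089 : ∀ i, i < 30089 → P i := stepQ 30088 Q30088 (allL N30088 (tt N56655 D106746) (tt N56656 D106747) (tt N29995 F77995) (tt N56654 (iv3 F333549)) (tt N56490 (iv4 F333534)) (tt N32976 (iv5 F83802)) (tt N15026 (iv6 D49328)) (tt N56657 D106748))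
theorem Q30090 : ∀ i, i < 30090 → P i := stepQ 30089 Q30089 (allL N30089 (tt N56658 D106749) (tt N56659 D106750) (tt N56660 D106751) (tt N15027 (iv3 D49329)) (tt N56640 (iv4 F164511)) (tt N19177 F77996) (tt N56661 D106752) (tt N19176 F77997))
theorem Q30091 : ∀ i, i < 30091 → P i := stepQ 30090 Q30090 (allL N30090 (tt N56662 D106753) (tt N56663 D106754) (tt N29997 F77998) (tt N56661 (iv3 F164549)) (tt N15028 F77999) (tt N56664 D106755) (tt N15027 (iv6 D49330)) (tt N56665 D106756))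
theorem Q30092 : ∀ i, i < 30092 → P i := stepQ 30091 Q30091 (allL N30091 (tt N30000 (iv1 F78004)) (tt N15028 (iv0 D49331)) (tt N29998 (iv2 F163476)) (tt N56666 D106757) (tt N56667 D106758) (tt N56334 F163479) (tt N56668 D106759) (tt N29999 (iv7 F163478)))
theorem Q30093 : ∀ i, i < 30093 → P i := stepQ 30092 Q30092 (allL N30092 (tt N15028 (iv1 D49332)) (tt N30000 F78000) (tt N29999 F163477) (tt N56669 D106760) (tt N56670 D106761) (tt N29845 (iv5 F78001)) (tt N56671 D106762) (tt N29998 F163474))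
theorem Q30094 : ∀ i, i < 30094 → P i := stepQ 30093 Q30093 (allL N30093 (tt N29999 (iv1 F78005)) (tt N29998 F78006) (tt N30000 F78002) (tt N56646 (iv3 F164516)) (tt N56665 (iv4 F164554)) (tt N23202 F78003) (tt N56672 D106763) (tt N15028 (iv7 D49333)))
theorem Q30095 : ∀ i, i < 30095 → P i := stepQ 30094 Q30094 (allL N30094 (tt N56673 D106764) (tt N56674 D106765) (tt N30001 F78007) (tt N56647 (iv3 F164518)) (tt N19180 F78008) (tt N56675 D106766) (tt N15029 (iv6 D49334)) (tt N56672 (iv7 F164571)))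
theorem Q30096 : ∀ i, i < 30096 → P i := stepQ 30095 Q30095 (allL N30095 (tt N23188 F78011) (tt N23187 F78012) (tt N23190 F78009) (tt N56648 (iv3 F164520)) (tt N45053 (iv4 F114439)) (tt N15030 (iv5 D49335)) (tt N56675 (iv6 F164577)) (tt N16357 F78010))
theorem Q30097 : ∀ i, i < 30097 → P i := stepQ 30096 Q30096 (allL N30096 (tt N30120 (iv1 F78045)) (tt N15031 (iv0 D49336)) (tt N30118 (iv2 F165483)) (tt N56676 D106768) (tt N56514 (iv4 F165533)) (tt N56677 D106770) (tt N39016 (iv6 F99167)) (tt N30119 F165482))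
theorem Q30098 : ∀ i, i < 30098 → P i := stepQ 30097 Q30097 (allL N30097 (tt N15031 (iv1 D49337)) (tt N30120 F78044) (tt N30119 F165481) (tt N19613 F165528) (tt N56515 (iv4 F165530)) (tt N30348 (iv5 F78359)) (tt N56678 D106774) (tt N30118 (iv7 F165484)))
theorem Q30099 : ∀ i, i < 30099 → P i := stepQ 30098 Q30098 (allL N30098 (tt N30119 (iv1 F78039)) (tt N30118 F78043) (tt N30120 (iv2 F78040)) (tt N38944 (iv3 F99065)) (tt N37752 (iv4 F96557)) (tt N32035 (iv5 F82121)) (tt N30123 (iv6 F78049)) (tt N15031 (iv7 D49338)))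
theorem Q30100 : ∀ i, i < 30100 → P i := stepQ 30099 Q30099 (allL N30099 (tt N30123 (iv1 F78052)) (tt N15032 (iv0 D49339)) (tt N30121 (iv2 F168180)) (tt N33019 F168179) (tt N56529 (iv4 F165666)) (tt N55610 (iv5 F161077)) (tt N56679 D106778) (tt N30122 (iv7 F168181)))
theorem Q30101 : ∀ i, i < 30101 → P i := stepQ 30100 Q30100 (allL N30100 (tt N15032 (iv1 D49340)) (tt N30123 F78051) (tt N30122 F168182) (tt N45898 F327664) (tt N56530 (iv4 F165656)) (tt N45897 F327665) (tt N39013 (iv6 F161080)) (tt N30121 F168183))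
theorem Q30102 : ∀ i, i < 30102 → P i := stepQ 30101 Q30101 (allL N30101 (tt N30122 (iv1 F78046)) (tt N30121 F78050) (tt N30123 (iv2 F78047)) (tt N31663 (iv3 F81128)) (tt N37759 (iv4 F96561)) (tt N16219 F78013) (tt N30120 (iv6 F78042)) (tt N15032 (iv7 D49341)))
theorem Q30103 : ∀ i, i < 30103 → P i := stepQ 30102 Q30102 (allL N30102 (tt N56680 D106782) (tt N15033 (iv0 D49342)) (tt N56681 D106783) (tt N56682 D106784) (tt N56683 D106785) (tt N52596 (iv5 F358362)) (tt N56684 D106787) (tt N56685 D106788))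
theorem Q30104 : ∀ i, i < 30104 → P i := stepQ 30103 Q30103 (allL N30103 (tt N15033 (iv1 D49343)) (tt N56680 F164587) (tt N56685 (iv2 F164589)) (tt N56686 D106789) (tt N56687 D106790) (tt N52608 (iv5 F358363)) (tt N56688 D106792) (tt N56681 F164588))
theorem Q30105 : ∀ i, i < 30105 → P i := stepQ 30104 Q30104 (allL N30104 (tt N56681 (iv1 F358359)) (tt N56685 (iv0 F358354)) (tt N15033 (iv2 D49344)) (tt N30126 (iv3 F78053)) (tt N33030 (iv4 F83928)) (tt N56689 D106795) (tt N39020 (iv6 F99175)) (tt N56680 (iv7 F164586)))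
theorem Q30106 : ∀ i, i < 30106 → P i := stepQ 30105 Q30105 (allL N30105 (tt N52614 (iv1 F340398)) (tt N52617 (iv0 F358371)) (tt N56689 (iv2 F164592)) (tt N15034 F78014) (tt N48762 F330364) (tt N15033 (iv5 D49345)) (tt N48764 (iv6 F330367)) (tt N31374 (iv7 F80533)))
theorem Q30107 : ∀ i, i < 30107 → P i := stepQ 30106 Q30106 (allL N30106 (tt N56685 (iv1 F358355)) (tt N56681 (iv0 F358358)) (tt N56680 F164585) (tt N15035 F78015) (tt N33032 (iv4 F83932)) (tt N31374 (iv5 F80532)) (tt N56690 D106800) (tt N15033 (iv7 D49346)))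
theorem Q30108 : ∀ i, i < 30108 → P i := stepQ 30107 Q30107 (allL N30107 (tt N56691 D106801) (tt N56692 D106802) (tt N30129 (iv2 F78056)) (tt N48764 F330368) (tt N31379 (iv4 F80544)) (tt N39022 (iv5 F99177)) (tt N15034 (iv6 D49347)) (tt N56693 D106803))
theorem Q30109 : ∀ i, i < 30109 → P i := stepQ 30108 Q30108 (allL N30108 (tt N32556 F329384) (tt N36875 (iv0 F102058)) (tt N30130 (iv2 F78057)) (tt N56690 (iv3 F164594)) (tt N15036 F78016) (tt N56694 D106804) (tt N15035 (iv6 D49348)) (tt N36790 (iv7 F95206)))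
theorem Q30110 : ∀ i, i < 30110 → P i := stepQ 30109 Q30109 (allL N30109 (tt N30117 (iv1 F78038)) (tt N15036 (iv0 D49349)) (tt N30131 (iv2 F102152)) (tt N38949 F102063) (tt N37784 F102050) (tt N56695 D106805) (tt N56375 (iv6 F163654)) (tt N30132 (iv7 F102156)))
theorem Q30111 : ∀ i, i < 30111 → P i := stepQ 30110 Q30110 (allL N30110 (tt N15036 (iv1 D49350)) (tt N30117 F78037) (tt N30132 F102153) (tt N19607 F102071) (tt N37785 F102072) (tt N56696 D106806) (tt N56697 D106807) (tt N30131 F102146))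
theorem Q30112 : ∀ i, i < 30112 → P i := stepQ 30111 Q30111 (allL N30111 (tt N36694 (iv1 F95049)) (tt N19204 F78019) (tt N18683 F78017) (tt N56698 D106808) (tt N15037 (iv4 D49351)) (tt N36718 (iv5 F95104)) (tt N56699 D106809) (tt N18663 F78018))
theorem Q30113 : ∀ i, i < 30113 → P i := stepQ 30112 Q30112 (allL N30112 (tt N56378 (iv1 F163668)) (tt N15125 (iv0 F78021)) (tt N18684 F78020) (tt N32984 (iv3 F83823)) (tt N56699 (iv4 F164604)) (tt N30164 (iv5 F78132)) (tt N15037 (iv6 D49352)) (tt N56377 (iv7 F163658)))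
theorem Q30114 : ∀ i, i < 30114 → P i := stepQ 30113 Q30113 (allL N30113 (tt N32343 F82732) (tt N32346 (iv0 F92950)) (tt N19822 F78022) (tt N32235 (iv3 F82585)) (tt N36711 (iv4 F95090)) (tt N18048 F78023) (tt N15038 (iv6 D49353)) (tt N56700 D106810))
theorem Q30115 : ∀ i, i < 30115 → P i := stepQ 30114 Q30114 (allL N30114 (tt N56701 D106811) (tt N56702 D106812) (tt N56703 D106813) (tt N15039 (iv3 D49354)) (tt N19790 F78024) (tt N56704 D106814) (tt N15043 F78025) (tt N56705 D106815))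
theorem Q30116 : ∀ i, i < 30116 → P i := stepQ 30115 Q30115 (allL N30115 (tt N18672 F78027) (tt N18687 F78028) (tt N19824 F78026) (tt N56704 (iv3 F164616)) (tt N56706 D106816) (tt N15039 (iv5 D49355)) (tt N56707 D106817) (tt N56706 (iv7 F164624)))
theorem Q30117 : ∀ i, i < 30117 → P i := stepQ 30116 Q30116 (allL N30116 (tt N18060 (iv1 F78031)) (tt N18649 F78032) (tt N18695 F78029) (tt N56705 (iv3 F164617)) (tt N15040 F78030) (tt N56706 (iv5 F164621)) (tt N56708 D106818) (tt N15039 (iv7 D49356)))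
theorem Q30118 : ∀ i, i < 30118 → P i := stepQ 30117 Q30117 (allL N30117 (tt N30110 (iv1 F78037)) (tt N30109 F78038) (tt N19825 F78033) (tt N19792 F78034) (tt N56708 (iv4 F164628)) (tt N30117 F78035) (tt N15040 (iv6 D49357)) (tt N15046 F78036))
theorem Q30119 : ∀ i, i < 30119 → P i := stepQ 30118 Q30118 (allL N30118 (tt N30098 (iv1 F78043)) (tt N15041 (iv0 D49358)) (tt N30096 F165483) (tt N32996 (iv3 F165527)) (tt N37724 (iv4 F165525)) (tt N56709 D106822) (tt N32346 (iv6 F82735)) (tt N30097 F165484))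
theorem Q30120 : ∀ i, i < 30120 → P i := stepQ 30119 Q30119 (allL N30119 (tt N15041 (iv1 D49359)) (tt N30098 F78039) (tt N30097 (iv2 F165481)) (tt N39247 (iv3 F168151)) (tt N37725 (iv4 F104284)) (tt N56396 (iv5 F163703)) (tt N56710 D106825) (tt N30096 (iv7 F165482)))
theorem Q30121 : ∀ i, i < 30121 → P i := stepQ 30120 Q30120 (allL N30120 (tt N30097 (iv1 F78044)) (tt N30096 F78045) (tt N30098 F78040) (tt N19709 F78041) (tt N56540 (iv4 F164225)) (tt N30177 (iv5 F78361)) (tt N30101 F78042) (tt N15041 (iv7 D49360)))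
theorem Q30122 : ∀ i, i < 30122 → P i := stepQ 30121 Q30121 (allL N30121 (tt N30101 (iv1 F78050)) (tt N15042 (iv0 D49361)) (tt N30099 F168180) (tt N38508 (iv3 F168009)) (tt N35690 F332792) (tt N32263 (iv5 F82633)) (tt N56711 D106829) (tt N30100 (iv7 F168183)))
theorem Q30123 : ∀ i, i < 30123 → P i := stepQ 30122 Q30122 (allL N30122 (tt N15042 (iv1 D49362)) (tt N30101 F78046) (tt N30100 (iv2 F168182)) (tt N19750 (iv3 F168184)) (tt N37741 (iv4 F165593)) (tt N31177 (iv5 F168187)) (tt N38486 (iv6 F98366)) (tt N30099 F168181))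
theorem Q30124 : ∀ i, i < 30124 → P i := stepQ 30123 Q30123 (allL N30123 (tt N30100 (iv1 F78051)) (tt N30099 F78052) (tt N30101 F78047) (tt N38937 (iv3 F99043)) (tt N56547 (iv4 F164242)) (tt N29487 F78048) (tt N30098 F78049) (tt N15042 (iv7 D49363)))
theorem Q30125 : ∀ i, i < 30125 → P i := stepQ 30124 Q30124 (allL N30124 (tt N56712 D106833) (tt N15043 (iv0 D49364)) (tt N56713 D106834) (tt N38034 (iv3 F213163)) (tt N56714 D106835) (tt N56715 D106836) (tt N56716 D106837) (tt N38062 (iv7 F213171)))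
theorem Q30126 : ∀ i, i < 30126 → P i := stepQ 30125 Q30125 (allL N30125 (tt N15043 (iv1 D49365)) (tt N56712 F164641) (tt N38062 (iv2 F213170)) (tt N56717 D106839) (tt N56718 D106840) (tt N56719 D106841) (tt N56720 D106842) (tt N56713 F164642))
theorem Q30127 : ∀ i, i < 30127 → P i := stepQ 30126 Q30126 (allL N30126 (tt N56713 (iv1 F213173)) (tt N38062 F97292) (tt N15043 (iv2 D49366)) (tt N30104 F78053) (tt N39251 (iv4 F99708)) (tt N56721 D106844) (tt N56703 (iv6 F164614)) (tt N56712 (iv7 F164640)))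
theorem Q30128 : ∀ i, i < 30128 → P i := stepQ 30127 Q30127 (allL N30127 (tt N56722 D106845) (tt N56723 D106846) (tt N56721 (iv2 F164645)) (tt N15044 F78054) (tt N56435 F325498) (tt N15043 (iv5 D49367)) (tt N56724 D106848) (tt N30420 (iv7 F78522)))
theorem Q30129 : ∀ i, i < 30129 → P i := stepQ 30128 Q30128 (allL N30128 (tt N38062 F97291) (tt N56713 (iv0 F213172)) (tt N56712 F164638) (tt N15045 F78055) (tt N37920 (iv4 F96943)) (tt N30420 (iv5 F78521)) (tt N37751 (iv6 F326348)) (tt N15043 (iv7 D49368)))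
theorem Q30130 : ∀ i, i < 30130 → P i := stepQ 30129 Q30129 (allL N30129 (tt N56725 D106850) (tt N56726 D106851) (tt N30107 F78056) (tt N56724 (iv3 F164647)) (tt N30425 (iv4 F78526)) (tt N56707 (iv5 F164626)) (tt N15044 (iv6 D49369)) (tt N56727 D106852))
theorem Q30131 : ∀ i, i < 30131 → P i := stepQ 30130 Q30130 (allL N30130 (tt N37788 (iv1 F103575)) (tt N37791 (iv0 F102066)) (tt N30108 F78057) (tt N37751 (iv3 F326347)) (tt N15046 F78058) (tt N37749 F325499) (tt N15045 (iv6 D49370)) (tt N56708 (iv7 F164629)))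
theorem Q30132 : ∀ i, i < 30132 → P i := stepQ 30131 Q30131 (allL N30131 (tt N19825 (iv1 F78059)) (tt N15046 (iv0 D49371)) (tt N30109 F102152) (tt N19734 F102052) (tt N36872 F102053) (tt N56728 D106854) (tt N30284 F78293) (tt N30110 (iv7 F102146)))
theorem Q30133 : ∀ i, i < 30133 → P i := stepQ 30132 Q30132 (allL N30132 (tt N15046 (iv1 D49372)) (tt N19825 F78060) (tt N30110 (iv2 F102153)) (tt N38938 F102065) (tt N36871 F102064) (tt N56729 D106855) (tt N56730 D106856) (tt N30109 F102156))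
theorem Q30134 : ∀ i, i < 30134 → P i := stepQ 30133 Q30133 (allL N30133 (tt N15414 F78066) (tt N15416 F78067) (tt N16262 F78061) (tt N56731 D106857) (tt N15047 (iv4 D49373)) (tt N15490 (iv5 F78065)) (tt N56732 D106858) (tt N20419 F78062))
theorem Q30135 : ∀ i, i < 30135 → P i := stepQ 30134 Q30134 (allL N30134 (tt N56733 D106859) (tt N32021 (iv0 F167994)) (tt N16263 F78068) (tt N55685 (iv3 F161393)) (tt N56732 (iv4 F164674)) (tt N31390 (iv5 F80575)) (tt N15047 (iv6 D49374)) (tt N56734 D106861))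
theorem Q30136 : ∀ i, i < 30136 → P i := stepQ 30135 Q30135 (allL N30135 (tt N16264 (iv1 F78073)) (tt N15279 F78074) (tt N16265 F78069) (tt N32025 (iv3 F82070)) (tt N15051 F78070) (tt N15725 F78071) (tt N20422 F78072) (tt N15048 (iv7 D49375)))
theorem Q30137 : ∀ i, i < 30137 → P i := stepQ 30136 Q30136 (allL N30136 (tt N56735 D106862) (tt N56736 D106863) (tt N56737 D106864) (tt N15049 (iv3 D49376)) (tt N20304 F78075) (tt N56738 D106865) (tt N28456 F329668) (tt N20423 F78076))
theorem Q30138 : ∀ i, i < 30138 → P i := stepQ 30137 Q30137 (allL N30137 (tt N20464 F78080) (tt N20463 F78081) (tt N16666 F78077) (tt N56738 (iv3 F164691)) (tt N15491 F78078) (tt N15049 (iv5 D49377)) (tt N30998 F351224) (tt N20424 F78079))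
theorem Q30139 : ∀ i, i < 30139 → P i := stepQ 30138 Q30138 (allL N30138 (tt N41178 (iv1 F103461)) (tt N56739 D106868) (tt N16667 F78082) (tt N28456 F329666) (tt N15050 F78083) (tt N56740 D106869) (tt N15049 (iv6 D49378)) (tt N28455 F329667))
theorem Q30140 : ∀ i, i < 30140 → P i := stepQ 30139 Q30139 (allL N30139 (tt N16669 (iv1 F78088)) (tt N16668 F78089) (tt N16670 F78084) (tt N20309 F78085) (tt N28455 (iv4 F329511)) (tt N31576 (iv5 F80927)) (tt N20427 F78086) (tt N15050 (iv7 D49379)))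
theorem Q30141 : ∀ i, i < 30141 → P i := stepQ 30140 Q30140 (allL N30140 (tt N56741 D106871) (tt N56742 D106872) (tt N56743 D106873) (tt N15052 (iv3 D49380)) (tt N20520 F78090) (tt N56744 D106874) (tt N56745 D106875) (tt N20592 F78091))
theorem Q30142 : ∀ i, i < 30142 → P i := stepQ 30141 Q30141 (allL N30141 (tt N20607 F78095) (tt N20606 F78096) (tt N16705 F78092) (tt N56744 (iv3 F164713)) (tt N15483 F78093) (tt N15052 (iv5 D49381)) (tt N56746 D106876) (tt N20593 F78094))
theorem Q30143 : ∀ i, i < 30143 → P i := stepQ 30142 Q30142 (allL N30142 (tt N56747 D106877) (tt N56748 D106878) (tt N16706 F78097) (tt N56745 (iv3 F164715)) (tt N15054 F78098) (tt N56749 D106879) (tt N15052 (iv6 D49382)) (tt N56750 D106880))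
theorem Q30144 : ∀ i, i < 30144 → P i := stepQ 30143 Q30143 (allL N30143 (tt N16710 (iv1 F78103)) (tt N15054 (iv0 D49383)) (tt N16707 F102100) (tt N20091 F102187) (tt N56751 D106881) (tt N56752 D106882) (tt N20259 (iv6 F80931)) (tt N16708 F102101))
theorem Q30145 : ∀ i, i < 30145 → P i := stepQ 30144 Q30144 (allL N30144 (tt N15054 (iv1 D49384)) (tt N16710 F78099) (tt N16708 F102096) (tt N15124 F102055) (tt N56753 D106883) (tt N38833 (iv5 F98851)) (tt N56754 D106884) (tt N16707 F102097))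
theorem Q30146 : ∀ i, i < 30146 → P i := stepQ 30145 Q30145 (allL N30145 (tt N16708 (iv1 F78104)) (tt N16707 F78105) (tt N16710 F78100) (tt N20525 F78101) (tt N56750 (iv4 F164725)) (tt N37433 (iv5 F95959)) (tt N20597 F78102) (tt N15054 (iv7 D49385)))
theorem Q30147 : ∀ i, i < 30147 → P i := stepQ 30146 Q30146 (allL N30146 (tt N56755 D106885) (tt N56756 D106886) (tt N56757 D106887) (tt N15055 (iv3 D49386)) (tt N55860 (iv4 F161968)) (tt N56758 D106888) (tt N56759 D106889) (tt N38652 (iv7 F98541)))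
theorem Q30148 : ∀ i, i < 30148 → P i := stepQ 30147 Q30147 (allL N30147 (tt N33218 (iv1 F84218)) (tt N33213 (iv0 F84196)) (tt N38650 (iv2 F98534)) (tt N56758 (iv3 F164749)) (tt N15471 F78106) (tt N15055 (iv5 D49387)) (tt N56760 D106890) (tt N38653 (iv7 F98544)))
theorem Q30149 : ∀ i, i < 30149 → P i := stepQ 30148 Q30148 (allL N30148 (tt N56751 F164732) (tt N56753 (iv0 F164741)) (tt N38651 (iv2 F98539)) (tt N56759 (iv3 F164750)) (tt N36669 (iv4 F94993)) (tt N56761 D106891) (tt N15055 (iv6 D49388)) (tt N56762 D106892))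
theorem Q30150 : ∀ i, i < 30150 → P i := stepQ 30149 Q30149 (allL N30149 (tt N56763 D106893) (tt N56764 D106894) (tt N55383 (iv2 F329346)) (tt N15056 (iv3 D49389)) (tt N19898 F78107) (tt N56765 D106896) (tt N52453 (iv6 F328556)) (tt N20142 F78108))
theorem Q30151 : ∀ i, i < 30151 → P i := stepQ 30150 Q30150 (allL N30150 (tt N33213 (iv1 F84197)) (tt N33218 (iv0 F84217)) (tt N38653 (iv2 F98542)) (tt N56765 (iv3 F164765)) (tt N15459 F78109) (tt N15056 (iv5 D49390)) (tt N56766 D106898) (tt N38650 (iv7 F98535)))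
theorem Q30152 : ∀ i, i < 30152 → P i := stepQ 30151 Q30151 (allL N30151 (tt N20613 (iv1 F166088)) (tt N20616 F166087) (tt N38654 (iv2 F98547)) (tt N52453 (iv3 F328555)) (tt N36670 (iv4 F94995)) (tt N56767 D106901) (tt N15056 (iv6 D49391)) (tt N55376 (iv7 F360802)))
theorem Q30153 : ∀ i, i < 30153 → P i := stepQ 30152 Q30152 (allL N30152 (tt N56768 D106903) (tt N15057 (iv0 D49392)) (tt N56769 D106904) (tt N56770 D106905) (tt N56771 D106906) (tt N56772 D106907) (tt N56773 D106908) (tt N56774 D106909))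
theorem Q30154 : ∀ i, i < 30154 → P i := stepQ 30153 Q30153 (allL N30153 (tt N15057 (iv1 D49393)) (tt N56768 F164774) (tt N56774 (iv2 F164778)) (tt N56775 D106910) (tt N56776 D106911) (tt N56777 D106912) (tt N56778 D106913) (tt N56769 F164775))
theorem Q30155 : ∀ i, i < 30155 → P i := stepQ 30154 Q30154 (allL N30154 (tt N56769 (iv1 F181251)) (tt N56774 (iv0 F181254)) (tt N15057 (iv2 D49394)) (tt N38657 (iv3 F98549)) (tt N15141 F78110) (tt N50368 (iv5 F336079)) (tt N30720 (iv6 F79281)) (tt N56768 (iv7 F164773)))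
theorem Q30156 : ∀ i, i < 30156 → P i := stepQ 30155 Q30155 (allL N30155 (tt N56779 D106917) (tt N56780 D106918) (tt N50368 (iv2 F336077)) (tt N15058 F78111) (tt N50122 (iv4 F336041)) (tt N15057 (iv5 D49395)) (tt N50121 (iv6 F332992)) (tt N56781 D106921))
theorem Q30157 : ∀ i, i < 30157 → P i := stepQ 30156 Q30156 (allL N30156 (tt N56774 (iv1 F181255)) (tt N56769 (iv0 F181250)) (tt N56768 F164770) (tt N15059 F78112) (tt N15143 F78113) (tt N56781 (iv5 F164786)) (tt N56782 D106922) (tt N15057 (iv7 D49396)))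
theorem Q30158 : ∀ i, i < 30158 → P i := stepQ 30157 Q30157 (allL N30157 (tt N15492 (iv1 F78116)) (tt N15058 (iv0 D49397)) (tt N38659 F98556) (tt N56783 D106923) (tt N15446 (iv4 F78115)) (tt N15410 F78114) (tt N56784 D106924) (tt N38660 (iv7 F98559)))
theorem Q30159 : ∀ i, i < 30159 → P i := stepQ 30158 Q30158 (allL N30158 (tt N15058 (iv1 D49398)) (tt N15492 F78117) (tt N38660 F98561) (tt N56785 D106925) (tt N15421 (iv4 F78119)) (tt N15440 F78118) (tt N56786 D106926) (tt N38659 F98557))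
theorem Q30160 : ∀ i, i < 30160 → P i := stepQ 30159 Q30159 (allL N30159 (tt N15491 F78122) (tt N15490 F78123) (tt N15494 F78120) (tt N56787 D106927) (tt N15058 (iv4 D49399)) (tt N15402 F78121) (tt N56788 D106928) (tt N15401 F78124))
theorem Q30161 : ∀ i, i < 30161 → P i := stepQ 30160 Q30160 (allL N30160 (tt N56789 D106929) (tt N56790 D106930) (tt N38661 (iv2 F98563)) (tt N50121 (iv3 F332991)) (tt N56788 (iv4 F164796)) (tt N30726 (iv5 F79289)) (tt N15058 (iv6 D49400)) (tt N50376 (iv7 F351188)))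
theorem Q30162 : ∀ i, i < 30162 → P i := stepQ 30161 Q30161 (allL N30161 (tt N38660 (iv1 F98558)) (tt N38659 F98555) (tt N15492 F78125) (tt N56781 (iv3 F164785)) (tt N15401 F78126) (tt N15059 F78127) (tt N56791 D106932) (tt N15058 (iv7 D49401)))
theorem Q30163 : ∀ i, i < 30163 → P i := stepQ 30162 Q30162 (allL N30162 (tt N56792 D106933) (tt N56793 D106934) (tt N20417 F78128) (tt N56782 (iv3 F164787)) (tt N15060 F78129) (tt N56794 D106935) (tt N15059 (iv6 D49402)) (tt N30728 (iv7 F79292)))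
theorem Q30164 : ∀ i, i < 30164 → P i := stepQ 30163 Q30163 (allL N30163 (tt N15383 (iv1 F78130)) (tt N15060 (iv0 D49403)) (tt N16785 F163974) (tt N20303 F168211) (tt N56795 D106936) (tt N56796 D106937) (tt N56797 D106938) (tt N20418 F101636))
theorem Q30165 : ∀ i, i < 30165 → P i := stepQ 30164 Q30164 (allL N30164 (tt N56798 D106939) (tt N56799 D106940) (tt N36769 (iv2 F95176)) (tt N37242 (iv3 F95696)) (tt N44441 (iv4 F112134)) (tt N30112 F78132) (tt N15061 (iv6 D49405)) (tt N32047 (iv7 F82162)))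
theorem Q30166 : ∀ i, i < 30166 → P i := stepQ 30165 Q30165 (allL N30165 (tt N15063 (iv1 D49406)) (tt N15069 F78133) (tt N20842 (iv2 F78136)) (tt N56800 D106941) (tt N15301 F78135) (tt N56801 D106942) (tt N30396 (iv6 F78461)) (tt N20838 F78134))
theorem Q30167 : ∀ i, i < 30167 → P i := stepQ 30166 Q30166 (allL N30166 (tt N56802 D106943) (tt N56803 D106944) (tt N56804 D106945) (tt N15063 (iv3 D49407)) (tt N44158 (iv4 F110968)) (tt N56805 D106946) (tt N56806 D106947) (tt N44205 (iv7 F111115)))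
theorem Q30168 : ∀ i, i < 30168 → P i := stepQ 30167 Q30167 (allL N30167 (tt N35568 (iv1 F92872)) (tt N15772 F78137) (tt N35565 F92856) (tt N56805 (iv3 F164830)) (tt N35566 F92862) (tt N15063 (iv5 D49408)) (tt N56807 D106948) (tt N35566 (iv7 F92859)))
theorem Q30169 : ∀ i, i < 30169 → P i := stepQ 30168 Q30168 (allL N30168 (tt N56808 D106949) (tt N56809 D106950) (tt N56358 (iv2 F163564)) (tt N56806 (iv3 F164831)) (tt N15064 F78138) (tt N56810 D106951) (tt N15063 (iv6 D49409)) (tt N56811 D106952))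
theorem Q30170 : ∀ i, i < 30170 → P i := stepQ 30169 Q30169 (allL N30169 (tt N56360 (iv1 F163577)) (tt N15064 (iv0 D49410)) (tt N35813 (iv2 F111337)) (tt N37246 (iv3 F111330)) (tt N44449 (iv4 F165073)) (tt N18912 F78139) (tt N15096 (iv6 F78140)) (tt N56359 (iv7 F163568)))
theorem Q30171 : ∀ i, i < 30171 → P i := stepQ 30170 Q30170 (allL N30170 (tt N15064 (iv1 D49411)) (tt N56360 F163576) (tt N56359 (iv2 F163570)) (tt N30705 F111339) (tt N44450 F112143) (tt N18911 (iv5 F78141)) (tt N56812 D106954) (tt N35813 F111336))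
theorem Q30172 : ∀ i, i < 30172 → P i := stepQ 30171 Q30171 (allL N30171 (tt N56359 (iv1 F163567)) (tt N35813 (iv0 F100082)) (tt N56360 (iv2 F163572)) (tt N20138 F78142) (tt N56811 (iv4 F164841)) (tt N20123 F78143) (tt N32034 F82118) (tt N15064 (iv7 D49412)))
theorem Q30173 : ∀ i, i < 30173 → P i := stepQ 30172 Q30172 (allL N30172 (tt N44183 (iv1 F111051)) (tt N19235 F78146) (tt N22616 F78144) (tt N56813 D106955) (tt N15067 (iv4 D49413)) (tt N56814 D106956) (tt N41243 (iv6 F111122)) (tt N22604 F78145))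
theorem Q30174 : ∀ i, i < 30174 → P i := stepQ 30173 Q30173 (allL N30173 (tt N56815 D106957) (tt N20318 (iv0 F78149)) (tt N22617 F78147) (tt N15070 F78148) (tt N41243 (iv4 F111121)) (tt N38924 (iv5 F99022)) (tt N15067 (iv6 D49414)) (tt N56816 D106958))
theorem Q30175 : ∀ i, i < 30175 → P i := stepQ 30174 Q30174 (allL N30174 (tt N56817 D106959) (tt N56818 D106960) (tt N56819 D106961) (tt N15069 (iv3 D49415)) (tt N56813 (iv4 F164852)) (tt N56820 D106962) (tt N56821 D106963) (tt N56357 (iv7 F163563)))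
theorem Q30176 : ∀ i, i < 30176 → P i := stepQ 30175 Q30175 (allL N30175 (tt N15772 F78150) (tt N35568 F92871) (tt N35566 F92861) (tt N56820 (iv3 F164871)) (tt N35565 (iv4 F92854)) (tt N15069 (iv5 D49416)) (tt N56822 D106964) (tt N35565 F92857))
theorem Q30177 : ∀ i, i < 30177 → P i := stepQ 30176 Q30176 (allL N30176 (tt N41462 (iv1 F165535)) (tt N30360 (iv0 F78386)) (tt N41459 F104281) (tt N56821 (iv3 F164872)) (tt N15070 F78151) (tt N56823 D106966) (tt N15069 (iv6 D49417)) (tt N41460 (iv7 F104282)))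
theorem Q30178 : ∀ i, i < 30178 → P i := stepQ 30177 Q30177 (allL N30177 (tt N32034 (iv1 F82114)) (tt N15070 (iv0 D49418)) (tt N32035 (iv2 F82120)) (tt N20224 (iv3 F79362)) (tt N56824 D106967) (tt N30120 F78361) (tt N32038 (iv6 F82128)) (tt N15093 F78362))
theorem Q30179 : ∀ i, i < 30179 → P i := stepQ 30178 Q30178 (allL N30178 (tt N56825 D106968) (tt N56826 D106969) (tt N37393 (iv2 F95911)) (tt N38924 (iv3 F99020)) (tt N56827 D106970) (tt N15070 (iv5 D49419)) (tt N15072 F78152) (tt N56593 (iv7 F164379)))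
theorem Q30180 : ∀ i, i < 30180 → P i := stepQ 30179 Q30179 (allL N30179 (tt N15093 (iv1 F78153)) (tt N32035 F82123) (tt N32034 F82116) (tt N56816 (iv3 F164866)) (tt N41460 F104283) (tt N56593 (iv5 F164378)) (tt N56360 (iv6 F163575)) (tt N15070 (iv7 D49420)))
theorem Q30181 : ∀ i, i < 30181 → P i := stepQ 30180 Q30180 (allL N30180 (tt N18647 F78156) (tt N18646 F78157) (tt N18669 F78154) (tt N56237 (iv3 F343581)) (tt N15072 (iv4 D49421)) (tt N36797 (iv5 F95216)) (tt N56827 (iv6 F164885)) (tt N18670 F78155))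
theorem Q30182 : ∀ i, i < 30182 → P i := stepQ 30181 Q30181 (allL N30181 (tt N56828 D106972) (tt N56829 D106973) (tt N31776 F330477) (tt N15074 (iv3 D49422)) (tt N44164 (iv4 F110996)) (tt N31630 (iv5 F330482)) (tt N56830 D106976) (tt N35557 (iv7 F92843)))
theorem Q30183 : ∀ i, i < 30183 → P i := stepQ 30182 Q30182 (allL N30182 (tt N41204 (iv1 F103636)) (tt N41200 (iv0 F103625)) (tt N35555 (iv2 F92837)) (tt N31630 F330484) (tt N35558 (iv4 F92845)) (tt N15074 (iv5 D49423)) (tt N31626 (iv6 F330486)) (tt N35558 (iv7 F92846)))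
theorem Q30184 : ∀ i, i < 30184 → P i := stepQ 30183 Q30183 (allL N30183 (tt N56831 D106978) (tt N56832 D106979) (tt N35556 (iv2 F92840)) (tt N56830 (iv3 F164890)) (tt N15076 F78158) (tt N56833 D106980) (tt N15074 (iv6 D49424)) (tt N56834 D106981))
theorem Q30185 : ∀ i, i < 30185 → P i := stepQ 30184 Q30184 (allL N30184 (tt N32307 (iv1 F82691)) (tt N15076 (iv0 D49425)) (tt N44360 F111770) (tt N56835 D106982) (tt N56836 D106983) (tt N56837 D106984) (tt N15133 F99520) (tt N56361 (iv7 F163602)))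
theorem Q30186 : ∀ i, i < 30186 → P i := stepQ 30185 Q30185 (allL N30185 (tt N15076 (iv1 D49426)) (tt N32307 F82690) (tt N56361 (iv2 F163604)) (tt N30710 (iv3 F111772)) (tt N56838 D106985) (tt N55684 (iv5 F161233)) (tt N56839 D106986) (tt N44360 F111771))
theorem Q30187 : ∀ i, i < 30187 → P i := stepQ 30186 Q30186 (allL N30186 (tt N56361 (iv1 F163601)) (tt N44360 (iv0 F163596)) (tt N32307 (iv2 F82687)) (tt N44167 (iv3 F111008)) (tt N56834 (iv4 F164893)) (tt N29490 F78159) (tt N44234 (iv6 F111467)) (tt N15076 (iv7 D49427)))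
theorem Q30188 : ∀ i, i < 30188 → P i := stepQ 30187 Q30187 (allL N30187 (tt N56840 D106987) (tt N56841 D106988) (tt N56842 D106989) (tt N15077 (iv3 D49428)) (tt N39415 (iv4 F100142)) (tt N56843 D106990) (tt N56844 D106991) (tt N35554 (iv7 F92836)))
theorem Q30189 : ∀ i, i < 30189 → P i := stepQ 30188 Q30188 (allL N30188 (tt N41200 (iv1 F103626)) (tt N41204 (iv0 F103635)) (tt N35558 (iv2 F92844)) (tt N56843 (iv3 F164908)) (tt N35555 (iv4 F92839)) (tt N15077 (iv5 D49429)) (tt N56845 D106992) (tt N35555 (iv7 F92838)))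
theorem Q30190 : ∀ i, i < 30190 → P i := stepQ 30189 Q30189 (allL N30189 (tt N41190 (iv1 F165807)) (tt N41193 (iv0 F111245)) (tt N35559 (iv2 F92847)) (tt N56844 (iv3 F164909)) (tt N15078 F78160) (tt N56846 D106994) (tt N15077 (iv6 D49430)) (tt N56847 D106995))
theorem Q30191 : ∀ i, i < 30191 → P i := stepQ 30190 Q30190 (allL N30190 (tt N44234 (iv1 F111469)) (tt N15078 (iv0 D49431)) (tt N44232 F111455) (tt N20258 F111456) (tt N56848 D106996) (tt N32193 F82514) (tt N56849 D106997) (tt N44233 F111457))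
theorem Q30192 : ∀ i, i < 30192 → P i := stepQ 30191 Q30191 (allL N30191 (tt N15078 (iv1 D49432)) (tt N44234 F111468) (tt N44233 F111451) (tt N56850 D106998) (tt N56851 D106999) (tt N32194 F93060) (tt N15123 F93061) (tt N44232 (iv7 F111453)))
theorem Q30193 : ∀ i, i < 30193 → P i := stepQ 30192 Q30192 (allL N30192 (tt N44233 (iv1 F111168)) (tt N44232 (iv0 F111167)) (tt N44234 (iv2 F111464)) (tt N39413 (iv3 F100133)) (tt N56847 (iv4 F164910)) (tt N39391 (iv5 F100078)) (tt N32307 F82689) (tt N15078 (iv7 D49433)))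
theorem Q30194 : ∀ i, i < 30194 → P i := stepQ 30193 Q30193 (allL N30193 (tt N56852 D107000) (tt N56853 D107001) (tt N31458 (iv2 F80696)) (tt N44407 (iv3 F111978)) (tt N30196 (iv4 F78164)) (tt N15079 (iv5 D49434)) (tt N56854 D107002) (tt N20843 F78161))
theorem Q30195 : ∀ i, i < 30195 → P i := stepQ 30194 Q30194 (allL N30194 (tt N56836 (iv1 F171954)) (tt N56838 (iv0 F164902)) (tt N31459 (iv2 F80699)) (tt N44408 (iv3 F111980)) (tt N15218 F78162) (tt N56855 D107004) (tt N15079 (iv6 D49435)) (tt N56856 D107005))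
theorem Q30196 : ∀ i, i < 30196 → P i := stepQ 30195 Q30195 (allL N30195 (tt N56857 D107006) (tt N56858 D107007) (tt N55234 (iv2 F295621)) (tt N15080 (iv3 D49436)) (tt N31483 (iv4 F80745)) (tt N56859 D107009) (tt N51052 (iv6 F295631)) (tt N31457 (iv7 F80695)))
theorem Q30197 : ∀ i, i < 30197 → P i := stepQ 30196 Q30196 (allL N30196 (tt N56853 (iv1 F164941)) (tt N56852 (iv0 F164938)) (tt N20843 F78163) (tt N56859 (iv3 F164949)) (tt N30193 F78164) (tt N15080 (iv5 D49437)) (tt N56860 D107011) (tt N31458 (iv7 F80697)))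
theorem Q30198 : ∀ i, i < 30198 → P i := stepQ 30197 Q30197 (allL N30197 (tt N56848 (iv1 F164935)) (tt N56851 (iv0 F164933)) (tt N20835 F78165) (tt N51052 (iv3 F295630)) (tt N18020 F78166) (tt N56861 D107012) (tt N15080 (iv6 D49438)) (tt N55244 (iv7 F345176)))
theorem Q30199 : ∀ i, i < 30199 → P i := stepQ 30198 Q30198 (allL N30198 (tt N56862 D107014) (tt N15081 (iv0 D49439)) (tt N56863 D107015) (tt N56864 D107016) (tt N56865 D107017) (tt N56866 D107018) (tt N56867 D107019) (tt N56868 D107020))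
theorem Q30200 : ∀ i, i < 30200 → P i := stepQ 30199 Q30199 (allL N30199 (tt N15081 (iv1 D49440)) (tt N56862 F164960) (tt N56868 (iv2 F164962)) (tt N56869 D107021) (tt N56870 D107022) (tt N56871 D107023) (tt N56872 D107024) (tt N56863 F164961))
theorem Q30201 : ∀ i, i < 30201 → P i := stepQ 30200 Q30200 (allL N30200 (tt N56863 (iv1 F358682)) (tt N56868 (iv0 F358709)) (tt N15081 (iv2 D49441)) (tt N56364 (iv3 F163606)) (tt N30720 (iv4 F79280)) (tt N56873 D107027) (tt N15141 F78167) (tt N56862 (iv7 F164959)))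
theorem Q30202 : ∀ i, i < 30202 → P i := stepQ 30201 Q30201 (allL N30201 (tt N56874 D107028) (tt N56875 D107029) (tt N56873 (iv2 F164965)) (tt N15082 F78168) (tt N47104 (iv4 F332997)) (tt N15081 (iv5 D49442)) (tt N56876 D107031) (tt N47103 F332995))
theorem Q30203 : ∀ i, i < 30203 → P i := stepQ 30202 Q30202 (allL N30202 (tt N56868 (iv1 F358710)) (tt N56863 (iv0 F358681)) (tt N56862 F164958) (tt N15083 F78169) (tt N30722 (iv4 F79284)) (tt N47103 F332994) (tt N56877 D107033) (tt N15081 (iv7 D49443)))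
theorem Q30204 : ∀ i, i < 30204 → P i := stepQ 30203 Q30203 (allL N30203 (tt N15082 (iv1 D49444)) (tt N35567 (iv0 F92865)) (tt N30642 (iv2 F79046)) (tt N56878 D107034) (tt N22752 (iv4 F78171)) (tt N18018 F78170) (tt N56879 D107035) (tt N31452 (iv7 F80680)))
theorem Q30205 : ∀ i, i < 30205 → P i := stepQ 30204 Q30204 (allL N30204 (tt N35566 (iv1 F92858)) (tt N35565 F92855) (tt N35568 (iv2 F92868)) (tt N56880 D107036) (tt N15082 (iv4 D49445)) (tt N15773 F78172) (tt N56881 D107037) (tt N15772 (iv7 F78173)))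
theorem Q30206 : ∀ i, i < 30206 → P i := stepQ 30205 Q30205 (allL N30205 (tt N56882 D107038) (tt N56883 D107039) (tt N30345 (iv2 F78355)) (tt N56876 (iv3 F164966)) (tt N56881 (iv4 F164976)) (tt N15144 F78174) (tt N15082 (iv6 D49446)) (tt N56884 D107040))
theorem Q30207 : ∀ i, i < 30207 → P i := stepQ 30206 Q30206 (allL N30206 (tt N30642 (iv1 F79049)) (tt N31452 (iv0 F80682)) (tt N35567 (iv2 F92863)) (tt N47103 F332993) (tt N15772 F78175) (tt N15083 F78176) (tt N47123 (iv6 F332996)) (tt N15082 (iv7 D49447)))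
theorem Q30208 : ∀ i, i < 30208 → P i := stepQ 30207 Q30207 (allL N30207 (tt N30341 (iv1 F78348)) (tt N30340 F78352) (tt N30342 (iv2 F78349)) (tt N56877 (iv3 F164970)) (tt N15084 F78177) (tt N56885 D107042) (tt N15083 (iv6 D49448)) (tt N15145 F78178))
theorem Q30209 : ∀ i, i < 30209 → P i := stepQ 30208 Q30208 (allL N30208 (tt N18272 F78181) (tt N20355 F78182) (tt N16602 F78179) (tt N56886 D107043) (tt N15085 (iv4 D49449)) (tt N33163 (iv5 F84156)) (tt N44216 (iv6 F111133)) (tt N16600 F78180))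
theorem Q30210 : ∀ i, i < 30210 → P i := stepQ 30209 Q30209 (allL N30209 (tt N16586 (iv1 F78184)) (tt N15086 (iv0 D49450)) (tt N16604 (iv2 F78183)) (tt N56887 D107044) (tt N30823 (iv4 F79550)) (tt N33131 (iv5 F84115)) (tt N56888 D107045) (tt N16605 F78185))
theorem Q30211 : ∀ i, i < 30211 → P i := stepQ 30210 Q30210 (allL N30210 (tt N56889 D107046) (tt N56890 D107047) (tt N56891 D107048) (tt N15086 (iv3 D49451)) (tt N15094 F78186) (tt N56892 D107049) (tt N56893 D107050) (tt N16614 F78187))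
theorem Q30212 : ∀ i, i < 30212 → P i := stepQ 30211 Q30211 (allL N30211 (tt N56894 D107051) (tt N36685 (iv0 F95027)) (tt N16607 F78188) (tt N56892 (iv3 F164996)) (tt N32062 (iv4 F82202)) (tt N15086 (iv5 D49452)) (tt N56895 D107052) (tt N16615 F78189))
theorem Q30213 : ∀ i, i < 30213 → P i := stepQ 30212 Q30212 (allL N30212 (tt N56896 D107053) (tt N41182 (iv0 F111355)) (tt N16608 F78190) (tt N56893 (iv3 F164998)) (tt N15087 F78191) (tt N56897 D107054) (tt N15086 (iv6 D49453)) (tt N56898 D107055))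
theorem Q30214 : ∀ i, i < 30214 → P i := stepQ 30213 Q30213 (allL N30213 (tt N16610 (iv1 F78197)) (tt N16609 F78198) (tt N16612 F78192) (tt N15099 F78193) (tt N56898 (iv4 F165013)) (tt N19961 F78194) (tt N16619 F78195) (tt N15087 (iv7 D49454)))
theorem Q30215 : ∀ i, i < 30215 → P i := stepQ 30214 Q30214 (allL N30214 (tt N15385 F78204) (tt N16192 F78205) (tt N16190 F78199) (tt N15502 F78200) (tt N15088 (iv4 D49455)) (tt N19409 F78203) (tt N15963 F78201) (tt N15362 F78202))
theorem Q30216 : ∀ i, i < 30216 → P i := stepQ 30215 Q30215 (allL N30215 (tt N30327 F180531) (tt N30332 (iv0 F180532)) (tt N56899 D107058) (tt N15090 (iv3 D49456)) (tt N39392 (iv4 F100084)) (tt N21020 F78206) (tt N56900 D107059) (tt N21018 F78207))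
theorem Q30217 : ∀ i, i < 30217 → P i := stepQ 30216 Q30216 (allL N30216 (tt N56901 D107060) (tt N56902 D107061) (tt N21021 F78208) (tt N56900 (iv3 F165024)) (tt N15091 F78209) (tt N56903 D107062) (tt N15090 (iv6 D49457)) (tt N56904 D107063))
theorem Q30218 : ∀ i, i < 30218 → P i := stepQ 30217 Q30217 (allL N30217 (tt N32038 F82131) (tt N15091 (iv0 D49458)) (tt N32036 (iv2 F165512)) (tt N56905 D107065) (tt N41468 (iv4 F165715)) (tt N56906 D107067) (tt N30351 F78364) (tt N32037 (iv7 F165510)))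
theorem Q30219 : ∀ i, i < 30219 → P i := stepQ 30218 Q30218 (allL N30218 (tt N15091 (iv1 D49459)) (tt N32038 F82130) (tt N32037 (iv2 F165509)) (tt N20360 (iv3 F165612)) (tt N41469 (iv4 F104292)) (tt N55645 (iv5 F161157)) (tt N56799 (iv6 F165688)) (tt N32036 (iv7 F165513)))
theorem Q30220 : ∀ i, i < 30220 → P i := stepQ 30219 Q30219 (allL N30219 (tt N32037 (iv1 F82125)) (tt N32036 F82129) (tt N32038 (iv2 F82126)) (tt N39396 (iv3 F100090)) (tt N56904 (iv4 F165037)) (tt N16228 F78210) (tt N32035 (iv6 F82122)) (tt N15091 (iv7 D49460)))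
theorem Q30221 : ∀ i, i < 30221 → P i := stepQ 30220 Q30220 (allL N30220 (tt N56907 D107071) (tt N56908 D107072) (tt N56909 D107073) (tt N15092 (iv3 D49461)) (tt N20443 F78211) (tt N21018 F78212) (tt N56910 D107074) (tt N21020 F78213))
theorem Q30222 : ∀ i, i < 30222 → P i := stepQ 30221 Q30221 (allL N30221 (tt N30643 F79051) (tt N56911 D107075) (tt N21019 F78214) (tt N56910 (iv3 F165053)) (tt N15093 F78215) (tt N56912 D107076) (tt N15092 (iv6 D49462)) (tt N56824 (iv7 F164875)))
theorem Q30223 : ∀ i, i < 30223 → P i := stepQ 30222 Q30222 (allL N30222 (tt N32041 (iv1 F82135)) (tt N15094 (iv0 D49464)) (tt N32040 (iv2 F182514)) (tt N41543 (iv3 F166897)) (tt N56913 D107079) (tt N35806 (iv5 F166899)) (tt N56914 D107081) (tt N32039 (iv7 F182515)))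
theorem Q30224 : ∀ i, i < 30224 → P i := stepQ 30223 Q30223 (allL N30223 (tt N15094 (iv1 D49465)) (tt N32041 F82137) (tt N32039 F182518) (tt N56915 D107083) (tt N56916 D107084) (tt N35807 (iv5 F182523)) (tt N56917 D107086) (tt N32040 F182519))
theorem Q30225 : ∀ i, i < 30225 → P i := stepQ 30224 Q30224 (allL N30224 (tt N32040 (iv1 F82136)) (tt N32039 F82132) (tt N15094 (iv2 D49466)) (tt N35808 (iv3 F93287)) (tt N56891 (iv4 F164992)) (tt N30298 (iv5 F78311)) (tt N56918 D107087) (tt N32041 (iv7 F82134)))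
theorem Q30226 : ∀ i, i < 30226 → P i := stepQ 30225 Q30225 (allL N30225 (tt N55138 (iv1 F351316)) (tt N56919 D107089) (tt N56918 (iv2 F165063)) (tt N15095 F78218) (tt N56893 (iv4 F164999)) (tt N56920 D107090) (tt N15094 (iv6 D49467)) (tt N56921 D107091))
theorem Q30227 : ∀ i, i < 30227 → P i := stepQ 30226 Q30226 (allL N30226 (tt N35811 (iv1 F93300)) (tt N15095 (iv0 D49468)) (tt N30370 F111250) (tt N56922 D107092) (tt N15777 F111251) (tt N56923 D107093) (tt N56808 (iv6 F164838)) (tt N30372 F111252))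
theorem Q30228 : ∀ i, i < 30228 → P i := stepQ 30227 Q30227 (allL N30227 (tt N15095 (iv1 D49469)) (tt N35811 F93299) (tt N30372 F111247) (tt N56924 D107094) (tt N15778 F111248) (tt N56925 D107095) (tt N56926 D107096) (tt N30370 F111249))
theorem Q30229 : ∀ i, i < 30229 → P i := stepQ 30228 Q30228 (allL N30228 (tt N56927 D107097) (tt N56928 D107098) (tt N35810 (iv2 F93294)) (tt N56920 (iv3 F165064)) (tt N26583 F335536) (tt N15095 (iv5 D49470)) (tt N30302 (iv6 F78313)) (tt N56929 D107100))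
theorem Q30230 : ∀ i, i < 30230 → P i := stepQ 30229 Q30229 (allL N30229 (tt N30372 (iv1 F111357)) (tt N30370 (iv0 F111358)) (tt N35811 (iv2 F93295)) (tt N56921 (iv3 F165065)) (tt N15099 F78219) (tt N56929 (iv5 F165071)) (tt N32044 (iv6 F82143)) (tt N15095 (iv7 D49471)))
theorem Q30231 : ∀ i, i < 30231 → P i := stepQ 30230 Q30230 (allL N30230 (tt N31476 F111269) (tt N15154 F111270) (tt N31473 F111271) (tt N56930 D107101) (tt N15096 (iv4 D49474)) (tt N56931 D107102) (tt N44449 (iv6 F165074)) (tt N31474 F111272))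
theorem Q30232 : ∀ i, i < 30232 → P i := stepQ 30231 Q30231 (allL N30231 (tt N19993 F78221) (tt N39115 F99430) (tt N35812 F111279) (tt N33065 F111281) (tt N41094 (iv4 F111278)) (tt N15096 (iv5 D49475)) (tt N56932 D107103) (tt N35814 F111280))
theorem Q30233 : ∀ i, i < 30233 → P i := stepQ 30232 Q30232 (allL N30232 (tt N15154 F111260) (tt N31476 F111261) (tt N31474 F111262) (tt N56933 D107104) (tt N15097 (iv4 D49478)) (tt N56934 D107105) (tt N56935 D107106) (tt N31473 F111263))
theorem Q30234 : ∀ i, i < 30234 → P i := stepQ 30233 Q30233 (allL N30233 (tt N30347 F78358) (tt N30351 (iv0 F164848)) (tt N35815 (iv2 F111377)) (tt N40143 F111376) (tt N56935 (iv4 F165078)) (tt N56812 (iv5 F164845)) (tt N15097 (iv6 D49480)) (tt N56812 (iv7 F164846)))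
theorem Q30235 : ∀ i, i < 30235 → P i := stepQ 30234 Q30234 (allL N30234 (tt N32195 (iv1 F82515)) (tt N15098 (iv0 D49481)) (tt N32193 (iv2 F111459)) (tt N39410 F164928) (tt N55240 (iv4 F295854)) (tt N44232 (iv5 F111166)) (tt N56936 D107108) (tt N32194 (iv7 F111454)))
theorem Q30236 : ∀ i, i < 30236 → P i := stepQ 30235 Q30235 (allL N30235 (tt N15098 (iv1 D49482)) (tt N32195 F82513) (tt N32194 F111452) (tt N20543 F111170) (tt N55239 (iv4 F295848)) (tt N44233 F111169) (tt N20540 F111171) (tt N32193 F111458))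
theorem Q30237 : ∀ i, i < 30237 → P i := stepQ 30236 Q30236 (allL N30236 (tt N56937 D107110) (tt N56938 D107111) (tt N29184 (iv2 F331315)) (tt N56939 D107112) (tt N15098 (iv4 D49483)) (tt N29183 F331300) (tt N15100 F78225) (tt N56940 D107114))
theorem Q30238 : ∀ i, i < 30238 → P i := stepQ 30237 Q30237 (allL N30237 (tt N32194 (iv1 F82508)) (tt N32193 F82512) (tt N32195 (iv2 F82510)) (tt N19961 F78226) (tt N56940 (iv4 F165093)) (tt N15099 F78227) (tt N32192 (iv6 F82507)) (tt N15098 (iv7 D49484)))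
theorem Q30239 : ∀ i, i < 30239 → P i := stepQ 30238 Q30238 (allL N30238 (tt N56941 D107115) (tt N56942 D107116) (tt N56943 D107117) (tt N15100 (iv3 D49485)) (tt N19956 F78228) (tt N37465 (iv5 F96053)) (tt N56939 (iv6 F165088)) (tt N32107 (iv7 F82357)))
theorem Q30240 : ∀ i, i < 30240 → P i := stepQ 30239 Q30239 (allL N30239 (tt N56394 (iv1 F168294)) (tt N44294 (iv0 F168291)) (tt N31022 (iv2 F79790)) (tt N16681 F78229) (tt N55927 (iv4 F162170)) (tt N30239 F78230) (tt N15101 (iv6 D49486)) (tt N31568 (iv7 F80909)))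
theorem Q30241 : ∀ i, i < 30241 → P i := stepQ 30240 Q30240 (allL N30240 (tt N56944 D107120) (tt N37255 (iv0 F95717)) (tt N15107 F78231) (tt N16587 F78232) (tt N41236 (iv4 F103705)) (tt N30874 (iv5 F79626)) (tt N15102 (iv6 D49487)) (tt N56945 D107121))
theorem Q30242 : ∀ i, i < 30242 → P i := stepQ 30241 Q30241 (allL N30241 (tt N22617 F78236) (tt N56816 F164868) (tt N20318 F78233) (tt N19392 F78234) (tt N55894 (iv4 F162068)) (tt N19924 F78235) (tt N15104 (iv6 D49488)) (tt N56815 (iv7 F164861)))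
theorem Q30243 : ∀ i, i < 30243 → P i := stepQ 30242 Q30242 (allL N30242 (tt N56905 (iv1 F168330)) (tt N56946 D107123) (tt N31024 (iv2 F79797)) (tt N15450 F78237) (tt N55891 (iv4 F162060)) (tt N15436 F78238) (tt N15105 (iv6 D49489)) (tt N56947 D107124))
theorem Q30244 : ∀ i, i < 30244 → P i := stepQ 30243 Q30243 (allL N30243 (tt N56948 D107125) (tt N56949 D107126) (tt N56950 D107127) (tt N15106 (iv3 D49490)) (tt N15112 F78239) (tt N56951 D107128) (tt N56952 D107129) (tt N31025 (iv7 F79800)))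
theorem Q30245 : ∀ i, i < 30245 → P i := stepQ 30244 Q30244 (allL N30244 (tt N29620 F78242) (tt N29676 F78243) (tt N29673 F78240) (tt N56951 (iv3 F165110)) (tt N31016 (iv4 F79775)) (tt N15106 (iv5 D49491)) (tt N56953 D107130) (tt N29672 F78241))
theorem Q30246 : ∀ i, i < 30246 → P i := stepQ 30245 Q30245 (allL N30245 (tt N41568 F104419) (tt N33559 (iv0 F85113)) (tt N41236 (iv2 F103704)) (tt N56952 (iv3 F165112)) (tt N15107 F78244) (tt N56954 D107131) (tt N15106 (iv6 D49492)) (tt N41570 F104426))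
theorem Q30247 : ∀ i, i < 30247 → P i := stepQ 30246 Q30246 (allL N30246 (tt N56945 (iv1 F165105)) (tt N15107 (iv0 D49493)) (tt N56944 F165097) (tt N20056 F162150) (tt N55920 F162149) (tt N55639 F162151) (tt N56955 D107132) (tt N37255 F162152))
theorem Q30248 : ∀ i, i < 30248 → P i := stepQ 30247 Q30247 (allL N30247 (tt N15107 (iv1 D49494)) (tt N56945 F165104) (tt N37255 (iv2 F95714)) (tt N16691 F78246) (tt N55921 F162143) (tt N31604 (iv5 F81004)) (tt N20007 (iv6 F78245)) (tt N56944 (iv7 F165099)))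
theorem Q30249 : ∀ i, i < 30249 → P i := stepQ 30248 Q30248 (allL N30248 (tt N56956 D107133) (tt N56957 D107134) (tt N30874 (iv2 F79624)) (tt N15116 F78247) (tt N31273 (iv4 F80320)) (tt N15107 (iv5 D49495)) (tt N15110 F78248) (tt N56958 D107135))
theorem Q30250 : ∀ i, i < 30250 → P i := stepQ 30249 Q30249 (allL N30249 (tt N37255 (iv1 F95718)) (tt N56944 F165100) (tt N56945 (iv2 F165101)) (tt N15117 F78249) (tt N41570 (iv4 F104425)) (tt N56958 (iv5 F165119)) (tt N31029 (iv6 F79808)) (tt N15107 (iv7 D49496)))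
theorem Q30251 : ∀ i, i < 30251 → P i := stepQ 30250 Q30250 (allL N30250 (tt N35808 (iv1 F93289)) (tt N15112 (iv0 D49497)) (tt N35807 (iv2 F182522)) (tt N33480 F84887) (tt N56959 D107137) (tt N32039 F180733) (tt N56960 D107139) (tt N35806 (iv7 F182500)))
theorem Q30252 : ∀ i, i < 30252 → P i := stepQ 30251 Q30251 (allL N30251 (tt N15112 (iv1 D49498)) (tt N35808 F93291) (tt N35806 (iv2 F182499)) (tt N56961 D107141) (tt N56962 D107142) (tt N32040 F180739) (tt N56963 D107144) (tt N35807 (iv7 F182524)))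
theorem Q30253 : ∀ i, i < 30253 → P i := stepQ 30252 Q30252 (allL N30252 (tt N35807 (iv1 F93290)) (tt N35806 F93286) (tt N15112 (iv2 D49499)) (tt N32041 (iv3 F82133)) (tt N56950 (iv4 F165109)) (tt N30274 (iv5 F78287)) (tt N40400 F331811) (tt N35808 (iv7 F93288)))
theorem Q30254 : ∀ i, i < 30254 → P i := stepQ 30253 Q30253 (allL N30253 (tt N56964 D107146) (tt N56965 D107147) (tt N40400 (iv2 F331805)) (tt N15113 F78250) (tt N56952 (iv4 F165113)) (tt N40313 F331789) (tt N15112 (iv6 D49500)) (tt N40403 (iv7 F331807)))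
theorem Q30255 : ∀ i, i < 30255 → P i := stepQ 30254 Q30254 (allL N30254 (tt N56966 D107150) (tt N56967 D107151) (tt N32043 (iv2 F82140)) (tt N40313 (iv3 F331787)) (tt N56968 D107152) (tt N15113 (iv5 D49503)) (tt N30278 (iv6 F78289)) (tt N40402 (iv7 F331788)))
theorem Q30256 : ∀ i, i < 30256 → P i := stepQ 30255 Q30255 (allL N30255 (tt N30396 (iv1 F83905)) (tt N30392 (iv0 F83906)) (tt N32044 (iv2 F82141)) (tt N40403 (iv3 F331806)) (tt N15117 F78251) (tt N40402 F331800) (tt N35811 (iv6 F93297)) (tt N15113 (iv7 D49504)))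
theorem Q30257 : ∀ i, i < 30257 → P i := stepQ 30256 Q30256 (allL N30256 (tt N21029 F78253) (tt N15168 F78263) (tt N21026 F78254) (tt N56969 D107154) (tt N15114 (iv4 D49505)) (tt N56970 D107155) (tt N56971 D107156) (tt N21027 F78252))
theorem Q30258 : ∀ i, i < 30258 → P i := stepQ 30257 Q30257 (allL N30257 (tt N31904 (iv1 F165554)) (tt N55609 F161075) (tt N32046 (iv2 F82157)) (tt N15466 F78256) (tt N56972 D107157) (tt N15114 (iv5 D49506)) (tt N55611 (iv6 F161086)) (tt N15455 F78257))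
theorem Q30259 : ∀ i, i < 30259 → P i := stepQ 30258 Q30258 (allL N30258 (tt N56799 (iv1 F164823)) (tt N56798 F164821) (tt N32047 (iv2 F82161)) (tt N20471 F78258) (tt N56971 (iv4 F165132)) (tt N30286 F78295) (tt N15114 (iv6 D49507)) (tt N36769 (iv7 F95179)))
theorem Q30260 : ∀ i, i < 30260 → P i := stepQ 30259 Q30259 (allL N30259 (tt N15168 (iv1 F78262)) (tt N21029 F78261) (tt N21027 F78259) (tt N56973 D107158) (tt N15115 (iv4 D49508)) (tt N56974 D107159) (tt N30639 F79038) (tt N21026 F78260))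
theorem Q30261 : ∀ i, i < 30261 → P i := stepQ 30260 Q30260 (allL N30260 (tt N32051 (iv1 F82172)) (tt N15116 (iv0 D49509)) (tt N32048 F161347) (tt N20474 F161348) (tt N56975 D107160) (tt N56839 (iv5 F164904)) (tt N55683 (iv6 F161232)) (tt N32049 F161349))
theorem Q30262 : ∀ i, i < 30262 → P i := stepQ 30261 Q30261 (allL N30261 (tt N15116 (iv1 D49510)) (tt N32051 F82171) (tt N32049 (iv2 F161350)) (tt N39540 (iv3 F170914)) (tt N56976 D107162) (tt N56387 (iv5 F163697)) (tt N56977 D107163) (tt N32048 (iv7 F161351)))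
theorem Q30263 : ∀ i, i < 30263 → P i := stepQ 30262 Q30262 (allL N30262 (tt N41511 (iv1 F166491)) (tt N41514 (iv0 F104337)) (tt N32050 (iv2 F82165)) (tt N56978 D107165) (tt N15116 (iv4 D49511)) (tt N56979 D107166) (tt N15118 F78264) (tt N56980 D107167))
theorem Q30264 : ∀ i, i < 30264 → P i := stepQ 30263 Q30263 (allL N30263 (tt N32049 (iv1 F82163)) (tt N32048 F82170) (tt N32051 (iv2 F82167)) (tt N56958 (iv3 F165118)) (tt N56980 (iv4 F165160)) (tt N15117 F78265) (tt N32257 (iv6 F82618)) (tt N15116 (iv7 D49512)))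
theorem Q30265 : ∀ i, i < 30265 → P i := stepQ 30264 Q30264 (allL N30264 (tt N56981 D107168) (tt N56982 D107169) (tt N56983 D107170) (tt N15118 (iv3 D49513)) (tt N31271 (iv4 F80318)) (tt N56984 D107171) (tt N56978 (iv6 F165159)) (tt N32273 (iv7 F82646)))
theorem Q30266 : ∀ i, i < 30266 → P i := stepQ 30265 Q30265 (allL N30265 (tt N16245 F78267) (tt N16248 F78268) (tt N32053 (iv2 F82174)) (tt N56984 (iv3 F165162)) (tt N16314 F78266) (tt N15118 (iv5 D49514)) (tt N36772 (iv6 F328853)) (tt N32055 (iv7 F82185)))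
theorem Q30267 : ∀ i, i < 30267 → P i := stepQ 30266 Q30266 (allL N30266 (tt N16588 (iv1 F78271)) (tt N15119 (iv0 D49515)) (tt N16622 (iv2 F78270)) (tt N56985 D107173) (tt N15635 F78269) (tt N56894 (iv5 F165000)) (tt N56986 D107174) (tt N16623 F78272))
theorem Q30268 : ∀ i, i < 30268 → P i := stepQ 30267 Q30267 (allL N30267 (tt N56987 D107175) (tt N56988 D107176) (tt N56989 D107177) (tt N15119 (iv3 D49516)) (tt N15121 F78273) (tt N56990 D107178) (tt N56991 D107179) (tt N16631 F78274))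
theorem Q30269 : ∀ i, i < 30269 → P i := stepQ 30268 Q30268 (allL N30268 (tt N33080 (iv1 F84054)) (tt N33077 (iv0 F84049)) (tt N16625 F78275) (tt N56990 (iv3 F165179)) (tt N35769 (iv4 F93208)) (tt N15119 (iv5 D49517)) (tt N56992 D107180) (tt N16632 F78276))
theorem Q30270 : ∀ i, i < 30270 → P i := stepQ 30269 Q30269 (allL N30269 (tt N56993 D107181) (tt N56994 D107182) (tt N16626 F78277) (tt N56991 (iv3 F165181)) (tt N15120 F78278) (tt N56995 D107183) (tt N15119 (iv6 D49518)) (tt N56996 D107184))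
theorem Q30271 : ∀ i, i < 30271 → P i := stepQ 30270 Q30270 (allL N30270 (tt N15120 (iv1 D49520)) (tt N16630 F78279) (tt N16628 F99947) (tt N19887 F102017) (tt N56997 D107185) (tt N39089 (iv5 F99364)) (tt N56998 D107186) (tt N16627 F99948))
theorem Q30272 : ∀ i, i < 30272 → P i := stepQ 30271 Q30271 (allL N30271 (tt N16628 (iv1 F78285)) (tt N16627 F78286) (tt N16630 F78280) (tt N15126 F78281) (tt N56996 (iv4 F165188)) (tt N19829 F78282) (tt N16637 F78283) (tt N15120 (iv7 D49521)))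
theorem Q30273 : ∀ i, i < 30273 → P i := stepQ 30272 Q30272 (allL N30272 (tt N56381 (iv1 F163676)) (tt N15121 (iv0 D49522)) (tt N56380 (iv2 F172121)) (tt N56999 D107188) (tt N57000 D107189) (tt N30296 (iv5 F172110)) (tt N57001 D107191) (tt N56379 (iv7 F172111)))
theorem Q30274 : ∀ i, i < 30274 → P i := stepQ 30273 Q30273 (allL N30273 (tt N15121 (iv1 D49523)) (tt N56381 F163678) (tt N56379 F172112) (tt N57002 D107193) (tt N57003 D107194) (tt N30297 (iv5 F172113)) (tt N56829 (iv6 F351319)) (tt N56380 (iv7 F172123)))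
theorem Q30275 : ∀ i, i < 30275 → P i := stepQ 30274 Q30274 (allL N30274 (tt N56380 (iv1 F163677)) (tt N56379 F163671) (tt N15121 (iv2 D49524)) (tt N56370 (iv3 F163626)) (tt N56989 (iv4 F165175)) (tt N30252 F78287) (tt N57004 D107197) (tt N56381 (iv7 F163675)))
theorem Q30276 : ∀ i, i < 30276 → P i := stepQ 30275 Q30275 (allL N30275 (tt N33304 (iv1 F331816)) (tt N57005 D107199) (tt N57004 (iv2 F165214)) (tt N15122 F78288) (tt N56991 (iv4 F165182)) (tt N57006 D107200) (tt N15121 (iv6 D49525)) (tt N57007 D107201))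
theorem Q30277 : ∀ i, i < 30277 → P i := stepQ 30276 Q30276 (allL N30276 (tt N56373 (iv1 F163644)) (tt N15122 (iv0 D49526)) (tt N36176 (iv2 F103598)) (tt N57008 D107202) (tt N15786 F103596) (tt N57009 D107203) (tt N41193 (iv6 F103619)) (tt N36178 F103597))
theorem Q30278 : ∀ i, i < 30278 → P i := stepQ 30277 Q30277 (allL N30277 (tt N15122 (iv1 D49527)) (tt N56373 F163643) (tt N36178 F103600) (tt N57010 D107204) (tt N15787 F102059) (tt N57011 D107205) (tt N57012 D107206) (tt N36176 F103599))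
theorem Q30279 : ∀ i, i < 30279 → P i := stepQ 30278 Q30278 (allL N30278 (tt N57013 D107207) (tt N57014 D107208) (tt N56372 (iv2 F163638)) (tt N57006 (iv3 F165215)) (tt N57015 D107209) (tt N15122 (iv5 D49528)) (tt N30254 F78289) (tt N57016 D107210))
theorem Q30280 : ∀ i, i < 30280 → P i := stepQ 30279 Q30279 (allL N30279 (tt N36178 (iv1 F96436)) (tt N36176 (iv0 F102037)) (tt N56373 (iv2 F163640)) (tt N57007 (iv3 F165217)) (tt N15126 F78290) (tt N57016 (iv5 F165224)) (tt N56386 (iv6 F163687)) (tt N15122 (iv7 D49529)))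
theorem Q30281 : ∀ i, i < 30281 → P i := stepQ 30280 Q30280 (allL N30280 (tt N20094 F102178) (tt N20087 F102179) (tt N20091 F102182) (tt N15123 (iv3 D49531)) (tt N57017 D107211) (tt N57018 D107212) (tt N56850 (iv6 F164919)) (tt N20092 F102183))
theorem Q30282 : ∀ i, i < 30282 → P i := stepQ 30281 Q30281 (allL N30281 (tt N31498 F102174) (tt N15136 F102175) (tt N31495 F102176) (tt N57019 D107213) (tt N15123 (iv4 D49532)) (tt N57020 D107214) (tt N56851 (iv6 F164931)) (tt N31496 F102177))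
theorem Q30283 : ∀ i, i < 30283 → P i := stepQ 30282 Q30282 (allL N30282 (tt N57021 D107215) (tt N56678 (iv0 F165502)) (tt N56374 (iv2 F163647)) (tt N57018 (iv3 F165229)) (tt N57022 D107217) (tt N15123 (iv5 D49533)) (tt N57023 D107218) (tt N56375 (iv7 F163653)))
theorem Q30284 : ∀ i, i < 30284 → P i := stepQ 30283 Q30283 (allL N30283 (tt N15136 F102056) (tt N31498 F102057) (tt N31496 F102170) (tt N57024 D107219) (tt N15124 (iv4 D49537)) (tt N57025 D107220) (tt N57026 D107221) (tt N31495 F102166))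
theorem Q30285 : ∀ i, i < 30285 → P i := stepQ 30284 Q30284 (allL N30284 (tt N56678 (iv1 F165503)) (tt N57021 F165231) (tt N56375 (iv2 F163651)) (tt N38833 (iv3 F102054)) (tt N57027 D107222) (tt N15124 (iv5 D49538)) (tt N30131 (iv6 F78293)) (tt N56374 (iv7 F163650)))
theorem Q30286 : ∀ i, i < 30286 → P i := stepQ 30285 Q30285 (allL N30285 (tt N56709 F164880) (tt N56396 (iv0 F165490)) (tt N56376 (iv2 F163655)) (tt N56754 (iv3 F164743)) (tt N57026 (iv4 F165239)) (tt N56825 (iv5 F164878)) (tt N15124 (iv6 D49539)) (tt N56849 (iv7 F164916)))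
theorem Q30287 : ∀ i, i < 30287 → P i := stepQ 30286 Q30286 (allL N30286 (tt N15125 (iv1 D49540)) (tt N56378 F163667) (tt N56377 (iv2 F163661)) (tt N37432 F95958) (tt N57028 D107224) (tt N30258 (iv5 F78295)) (tt N38433 (iv6 F98285)) (tt N18684 F78294))
theorem Q30288 : ∀ i, i < 30288 → P i := stepQ 30287 Q30287 (allL N30287 (tt N18688 F96511) (tt N57029 D107225) (tt N37674 (iv2 F96431)) (tt N57030 D107226) (tt N15125 (iv4 D49541)) (tt N29507 F342867) (tt N29954 F78296) (tt N57031 D107228))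
theorem Q30289 : ∀ i, i < 30289 → P i := stepQ 30288 Q30288 (allL N30288 (tt N56377 (iv1 F163657)) (tt N18684 F99522) (tt N56378 (iv2 F163663)) (tt N19829 F78297) (tt N57031 (iv4 F165250)) (tt N15126 F78298) (tt N56575 (iv6 F164288)) (tt N15125 (iv7 D49542)))
theorem Q30290 : ∀ i, i < 30290 → P i := stepQ 30289 Q30289 (allL N30289 (tt N57032 D107229) (tt N57033 D107230) (tt N15129 F78299) (tt N16589 F78300) (tt N29667 F78301) (tt N19929 F78302) (tt N15127 (iv6 D49543)) (tt N57034 D107231))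
theorem Q30291 : ∀ i, i < 30291 → P i := stepQ 30290 Q30290 (allL N30290 (tt N57035 D107232) (tt N57036 D107233) (tt N57037 D107234) (tt N15128 (iv3 D49544)) (tt N15130 F78303) (tt N57038 D107235) (tt N57039 D107236) (tt N29662 F78304))
theorem Q30292 : ∀ i, i < 30292 → P i := stepQ 30291 Q30291 (allL N30291 (tt N55884 (iv1 F162038)) (tt N20864 F78307) (tt N29666 F78305) (tt N57038 (iv3 F165281)) (tt N31118 (iv4 F79969)) (tt N15128 (iv5 D49545)) (tt N57040 D107237) (tt N29663 F78306))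
theorem Q30293 : ∀ i, i < 30293 → P i := stepQ 30292 Q30292 (allL N30292 (tt N57041 D107238) (tt N36204 (iv0 F104362)) (tt N29667 F78308) (tt N57039 (iv3 F165283)) (tt N15129 F78309) (tt N57042 D107239) (tt N15128 (iv6 D49546)) (tt N57043 D107240))
theorem Q30294 : ∀ i, i < 30294 → P i := stepQ 30293 Q30293 (allL N30293 (tt N57034 (iv1 F165273)) (tt N15129 (iv0 D49547)) (tt N57032 F165254) (tt N20121 F163600) (tt N55949 (iv4 F166137)) (tt N56350 F163543) (tt N57044 D107242) (tt N57033 (iv7 F165259)))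
theorem Q30295 : ∀ i, i < 30295 → P i := stepQ 30294 Q30294 (allL N30294 (tt N15129 (iv1 D49548)) (tt N57034 F165272) (tt N57033 F165265) (tt N16732 F163550) (tt N55950 (iv4 F166500)) (tt N20615 F163551) (tt N44218 (iv6 F163531)) (tt N57032 F165256))
theorem Q30296 : ∀ i, i < 30296 → P i := stepQ 30295 Q30295 (allL N30295 (tt N57033 (iv1 F165258)) (tt N57032 (iv0 F165257)) (tt N57034 (iv2 F165267)) (tt N15134 F78310) (tt N57043 (iv4 F165294)) (tt N37248 (iv5 F95706)) (tt N56368 (iv6 F163620)) (tt N15129 (iv7 D49549)))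
theorem Q30297 : ∀ i, i < 30297 → P i := stepQ 30296 Q30296 (allL N30296 (tt N56370 (iv1 F163630)) (tt N15130 (iv0 D49550)) (tt N56369 F163632) (tt N33375 F84647) (tt N57045 D107244) (tt N30272 F172110) (tt N56840 (iv6 F323815)) (tt N40854 (iv7 F102875)))
theorem Q30298 : ∀ i, i < 30298 → P i := stepQ 30297 Q30297 (allL N30297 (tt N15130 (iv1 D49551)) (tt N56370 F163635) (tt N40854 (iv2 F163634)) (tt N57046 D107247) (tt N57047 D107248) (tt N30273 F172113) (tt N57048 D107250) (tt N56369 F163633))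
theorem Q30299 : ∀ i, i < 30299 → P i := stepQ 30298 Q30298 (allL N30298 (tt N56369 (iv1 F163631)) (tt N40854 F102877) (tt N15130 (iv2 D49552)) (tt N56381 (iv3 F163672)) (tt N57037 (iv4 F165276)) (tt N30224 F78311) (tt N57049 D107251) (tt N56370 (iv7 F163629)))
theorem Q30300 : ∀ i, i < 30300 → P i := stepQ 30299 Q30299 (allL N30299 (tt N40396 F342500) (tt N57050 D107253) (tt N57049 (iv2 F165299)) (tt N15131 F78312) (tt N57039 (iv4 F165284)) (tt N57051 D107254) (tt N15130 (iv6 D49553)) (tt N57052 D107255))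
theorem Q30301 : ∀ i, i < 30301 → P i := stepQ 30300 Q30300 (allL N30300 (tt N56386 F163693) (tt N15131 (iv0 D49554)) (tt N56383 (iv2 F166403)) (tt N57053 D107257) (tt N15791 F163694) (tt N57054 D107258) (tt N57055 D107259) (tt N56384 (iv7 F166413)))
theorem Q30302 : ∀ i, i < 30302 → P i := stepQ 30301 Q30301 (allL N30301 (tt N15131 (iv1 D49555)) (tt N56386 F163689) (tt N56384 (iv2 F166412)) (tt N57056 D107261) (tt N15792 F163690) (tt N57057 D107262) (tt N56831 (iv6 F166503)) (tt N56383 (iv7 F166404)))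
theorem Q30303 : ∀ i, i < 30303 → P i := stepQ 30302 Q30302 (allL N30302 (tt N57058 D107264) (tt N57059 D107265) (tt N56385 (iv2 F163683)) (tt N57051 (iv3 F165300)) (tt N50350 (iv4 F335534)) (tt N15131 (iv5 D49556)) (tt N30228 F78313) (tt N57060 D107267))
theorem Q30304 : ∀ i, i < 30304 → P i := stepQ 30303 Q30303 (allL N30303 (tt N56384 (iv1 F163681)) (tt N56383 F163688) (tt N56386 (iv2 F163685)) (tt N57052 (iv3 F165302)) (tt N15134 F78314) (tt N57060 (iv5 F165313)) (tt N56373 (iv6 F163642)) (tt N15131 (iv7 D49557)))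
theorem Q30305 : ∀ i, i < 30305 → P i := stepQ 30304 Q30304 (allL N30304 (tt N31509 F104347) (tt N15138 F104348) (tt N31506 F104349) (tt N57061 D107268) (tt N15132 (iv4 D49560)) (tt N57062 D107269) (tt N57063 D107270) (tt N31507 F104350))
theorem Q30306 : ∀ i, i < 30306 → P i := stepQ 30305 Q30305 (allL N30305 (tt N20123 F82119) (tt N20117 (iv0 F82462)) (tt N20121 F163582) (tt N16731 F104351) (tt N57064 D107271) (tt N15132 (iv5 D49561)) (tt N57065 D107272) (tt N20122 F163583))
theorem Q30307 : ∀ i, i < 30307 → P i := stepQ 30306 Q30306 (allL N30306 (tt N56398 F163707) (tt N57066 D107273) (tt N56387 (iv2 F163696)) (tt N20614 F104344) (tt N57063 (iv4 F165315)) (tt N32049 F82164) (tt N15132 (iv6 D49562)) (tt N56839 (iv7 F164905)))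
theorem Q30308 : ∀ i, i < 30308 → P i := stepQ 30307 Q30307 (allL N30307 (tt N19889 F161385) (tt N56351 F163537) (tt N20615 F104361) (tt N15133 (iv3 D49564)) (tt N57067 D107274) (tt N57033 (iv5 F165260)) (tt N56835 (iv6 F164895)) (tt N56350 (iv7 F163545)))
theorem Q30309 : ∀ i, i < 30309 → P i := stepQ 30308 Q30308 (allL N30308 (tt N15138 F104356) (tt N31509 F104357) (tt N31507 F104358) (tt N57068 D107275) (tt N15133 (iv4 D49565)) (tt N57069 D107276) (tt N56836 (iv6 F164899)) (tt N31506 F104359))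
theorem Q30310 : ∀ i, i < 30310 → P i := stepQ 30309 Q30309 (allL N30309 (tt N20117 (iv1 F99521)) (tt N20123 (iv0 F99519)) (tt N20122 F163584) (tt N57033 F165266) (tt N57070 D107277) (tt N15133 (iv5 D49566)) (tt N32190 (iv6 F82506)) (tt N20121 F163585))
theorem Q30311 : ∀ i, i < 30311 → P i := stepQ 30310 Q30310 (allL N30310 (tt N20678 (iv1 F78317)) (tt N15135 (iv0 D49568)) (tt N20682 (iv2 F102826)) (tt N57071 D107278) (tt N40595 F102825) (tt N30316 F172098) (tt N47727 (iv6 F322898)) (tt N20681 (iv7 F102827)))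
theorem Q30312 : ∀ i, i < 30312 → P i := stepQ 30311 Q30311 (allL N30311 (tt N15135 (iv1 D49569)) (tt N20678 F78321) (tt N20681 F102829) (tt N57072 D107281) (tt N33355 (iv4 F84559)) (tt N30317 F172102) (tt N44406 (iv6 F320212)) (tt N20682 (iv7 F102822)))
theorem Q30313 : ∀ i, i < 30313 → P i := stepQ 30312 Q30312 (allL N30312 (tt N20682 (iv1 F78322)) (tt N20681 F78320) (tt N15135 (iv2 D49570)) (tt N31493 (iv3 F80766)) (tt N16746 F78318) (tt N30387 (iv5 F78438)) (tt N57073 D107284) (tt N20678 F78319))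
theorem Q30314 : ∀ i, i < 30314 → P i := stepQ 30313 Q30313 (allL N30313 (tt N57074 D107285) (tt N57075 D107286) (tt N57073 (iv2 F165349)) (tt N15136 F78323) (tt N16748 F78324) (tt N57076 D107287) (tt N15135 (iv6 D49571)) (tt N57077 D107288))
theorem Q30315 : ∀ i, i < 30315 → P i := stepQ 30314 Q30314 (allL N30314 (tt N57078 D107289) (tt N57079 D107290) (tt N31497 (iv2 F80774)) (tt N57076 (iv3 F165351)) (tt N57080 D107291) (tt N15136 (iv5 D49574)) (tt N30389 (iv6 F78441)) (tt N57081 D107292))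
theorem Q30316 : ∀ i, i < 30316 → P i := stepQ 30315 Q30315 (allL N30315 (tt N31496 (iv1 F80773)) (tt N31495 F80779) (tt N31498 (iv2 F80776)) (tt N57077 (iv3 F165352)) (tt N18346 F78325) (tt N57081 (iv5 F165357)) (tt N31509 (iv6 F80808)) (tt N15136 (iv7 D49575)))
theorem Q30317 : ∀ i, i < 30317 → P i := stepQ 30316 Q30316 (allL N30316 (tt N31493 (iv1 F80769)) (tt N15137 (iv0 D49576)) (tt N31492 (iv2 F172097)) (tt N57082 D107294) (tt N57083 D107295) (tt N30310 (iv5 F172098)) (tt N56857 (iv6 F366087)) (tt N31491 (iv7 F172099)))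
theorem Q30318 : ∀ i, i < 30318 → P i := stepQ 30317 Q30317 (allL N30317 (tt N15137 (iv1 D49577)) (tt N31493 F80771) (tt N31491 F172100) (tt N57084 D107299) (tt N57085 D107300) (tt N30311 (iv5 F172102)) (tt N57086 D107302) (tt N31492 F172101))
theorem Q30319 : ∀ i, i < 30319 → P i := stepQ 30318 Q30318 (allL N30318 (tt N31492 (iv1 F80770)) (tt N31491 F80765) (tt N15137 (iv2 D49578)) (tt N20678 F78326) (tt N55205 (iv4 F356917)) (tt N30365 (iv5 F78398)) (tt N55204 (iv6 F356923)) (tt N31493 (iv7 F80768)))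
theorem Q30320 : ∀ i, i < 30320 → P i := stepQ 30319 Q30319 (allL N30319 (tt N57087 D107305) (tt N57088 D107306) (tt N55205 (iv2 F356915)) (tt N18352 F78327) (tt N15137 (iv4 D49579)) (tt N52033 (iv5 F356910)) (tt N55125 (iv6 F350560)) (tt N31485 (iv7 F80750)))
theorem Q30321 : ∀ i, i < 30321 → P i := stepQ 30320 Q30320 (allL N30320 (tt N57089 D107309) (tt N57090 D107310) (tt N55204 (iv2 F356920)) (tt N15138 F78328) (tt N55125 (iv4 F350559)) (tt N57091 D107311) (tt N15137 (iv6 D49580)) (tt N55214 (iv7 F356934)))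
theorem Q30322 : ∀ i, i < 30322 → P i := stepQ 30321 Q30321 (allL N30321 (tt N57092 D107313) (tt N57093 D107314) (tt N31508 (iv2 F80804)) (tt N57091 (iv3 F165372)) (tt N57094 D107315) (tt N15138 (iv5 D49583)) (tt N30367 (iv6 F78405)) (tt N57095 D107316))
theorem Q30323 : ∀ i, i < 30323 → P i := stepQ 30322 Q30322 (allL N30322 (tt N31507 (iv1 F80803)) (tt N31506 F80809) (tt N31509 (iv2 F80806)) (tt N55214 (iv3 F356932)) (tt N30405 (iv4 F78477)) (tt N57095 (iv5 F165376)) (tt N31498 (iv6 F80778)) (tt N15138 (iv7 D49584)))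
theorem Q30324 : ∀ i, i < 30324 → P i := stepQ 30323 Q30323 (allL N30323 (tt N15140 (iv1 F78332)) (tt N15139 (iv0 D49585)) (tt N15143 (iv2 F78329)) (tt N30334 (iv3 F78338)) (tt N56768 (iv4 F164772)) (tt N29951 F78330) (tt N57096 D107317) (tt N15141 F78331))
theorem Q30325 : ∀ i, i < 30325 → P i := stepQ 30324 Q30324 (allL N30324 (tt N15143 (iv1 F336118)) (tt N15141 (iv0 F336119)) (tt N15139 (iv2 D49586)) (tt N57097 D107320) (tt N57098 D107321) (tt N41475 F336114) (tt N57099 D107323) (tt N15140 (iv7 F78333)))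
theorem Q30326 : ∀ i, i < 30326 → P i := stepQ 30325 Q30325 (allL N30325 (tt N57084 (iv1 F220494)) (tt N57100 D107325) (tt N57101 D107326) (tt N15139 (iv3 D49587)) (tt N39615 F100500) (tt N57102 D107327) (tt N57103 D107328) (tt N57104 D107329))
theorem Q30327 : ∀ i, i < 30327 → P i := stepQ 30326 Q30326 (allL N30326 (tt N57105 D107330) (tt N57106 D107331) (tt N57098 (iv2 F165381)) (tt N57107 D107332) (tt N15139 (iv4 D49588)) (tt N57108 D107333) (tt N57109 D107334) (tt N57110 D107335))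
theorem Q30328 : ∀ i, i < 30328 → P i := stepQ 30327 Q30327 (allL N30327 (tt N41476 (iv1 F180530)) (tt N30215 (iv0 F180531)) (tt N41475 F336113) (tt N57102 (iv3 F165386)) (tt N57111 D107338) (tt N15139 (iv5 D49589)) (tt N57112 D107339) (tt N41474 (iv7 F336117)))
theorem Q30329 : ∀ i, i < 30329 → P i := stepQ 30328 Q30328 (allL N30328 (tt N57113 D107341) (tt N57024 (iv0 F360689)) (tt N57099 (iv2 F165385)) (tt N57103 (iv3 F165387)) (tt N57109 (iv4 F165391)) (tt N57114 D107343) (tt N15139 (iv6 D49590)) (tt N57115 D107344))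
theorem Q30330 : ∀ i, i < 30330 → P i := stepQ 30329 Q30329 (allL N30329 (tt N15141 F336124) (tt N15143 F336125) (tt N15140 F78334) (tt N57104 (iv3 F165388)) (tt N57110 (iv4 F165393)) (tt N41474 F336126) (tt N57116 D107345) (tt N15139 (iv7 D49591)))
theorem Q30331 : ∀ i, i < 30331 → P i := stepQ 30330 Q30330 (allL N30330 (tt N57117 D107346) (tt N57071 F165402) (tt N57118 D107347) (tt N15140 (iv3 D49592)) (tt N57119 D107348) (tt N57120 D107349) (tt N57121 D107350) (tt N57097 (iv7 F165380)))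
theorem Q30332 : ∀ i, i < 30332 → P i := stepQ 30331 Q30331 (allL N30331 (tt N57106 (iv1 F165390)) (tt N57105 F165394) (tt N57110 (iv2 F165392)) (tt N57122 D107351) (tt N15140 (iv4 D49593)) (tt N57123 D107352) (tt N57124 D107353) (tt N57098 (iv7 F165382)))
theorem Q30333 : ∀ i, i < 30333 → P i := stepQ 30332 Q30332 (allL N30332 (tt N30215 F180532) (tt N41476 F180533) (tt N41474 (iv2 F336116)) (tt N57120 (iv3 F165408)) (tt N57125 D107354) (tt N15140 (iv5 D49594)) (tt N57126 D107355) (tt N41475 F336115))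
theorem Q30334 : ∀ i, i < 30334 → P i := stepQ 30333 Q30333 (allL N30333 (tt N57061 (iv1 F388220)) (tt N57127 D107357) (tt N57116 (iv2 F165399)) (tt N57121 (iv3 F165409)) (tt N57124 (iv4 F165412)) (tt N57128 D107358) (tt N15140 (iv6 D49595)) (tt N57129 D107359))
theorem Q30335 : ∀ i, i < 30335 → P i := stepQ 30334 Q30334 (allL N30334 (tt N29950 (iv1 F78340)) (tt N29949 F78341) (tt N15142 F78337) (tt N30323 F78338) (tt N57130 D107370) (tt N15141 (iv5 D49598)) (tt N57131 D107371) (tt N29951 F78339))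
theorem Q30336 : ∀ i, i < 30336 → P i := stepQ 30335 Q30335 (allL N30335 (tt N29951 (iv1 F78342)) (tt N15142 (iv0 D49599)) (tt N29950 F359114) (tt N57132 D107373) (tt N57133 D107374) (tt N56907 (iv5 F220042)) (tt N57134 D107376) (tt N29949 (iv7 F359119)))
theorem Q30337 : ∀ i, i < 30337 → P i := stepQ 30336 Q30336 (allL N30336 (tt N15142 (iv1 D49600)) (tt N29951 F78343) (tt N29949 (iv2 F359118)) (tt N57135 D107378) (tt N57136 D107379) (tt N56908 (iv5 F223614)) (tt N57137 D107381) (tt N29950 F359115))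
theorem Q30338 : ∀ i, i < 30338 → P i := stepQ 30337 Q30337 (allL N30337 (tt N36226 F94108) (tt N57138 D107382) (tt N57130 (iv2 F165416)) (tt N19990 F78344) (tt N15142 (iv4 D49601)) (tt N57139 D107383) (tt N57140 D107384) (tt N29928 F78345))
theorem Q30339 : ∀ i, i < 30339 → P i := stepQ 30338 Q30338 (allL N30338 (tt N57141 D107385) (tt N57142 D107386) (tt N57131 (iv2 F165421)) (tt N15144 F78346) (tt N57140 (iv4 F165433)) (tt N56876 (iv5 F164967)) (tt N15142 (iv6 D49602)) (tt N57143 D107387))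
theorem Q30340 : ∀ i, i < 30340 → P i := stepQ 30339 Q30339 (allL N30339 (tt N57144 D107388) (tt N57145 D107389) (tt N57096 (iv2 F165377)) (tt N15145 F78347) (tt N56782 (iv4 F164788)) (tt N57146 D107390) (tt N15143 (iv6 D49603)) (tt N56877 (iv7 F164971)))
theorem Q30341 : ∀ i, i < 30341 → P i := stepQ 30340 Q30340 (allL N30340 (tt N30207 (iv1 F78352)) (tt N15144 (iv0 D49604)) (tt N30343 F163992) (tt N57147 D107391) (tt N15801 F163993) (tt N57148 D107392) (tt N57149 D107393) (tt N30344 F163994))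
theorem Q30342 : ∀ i, i < 30342 → P i := stepQ 30341 Q30341 (allL N30341 (tt N15144 (iv1 D49605)) (tt N30207 F78348) (tt N30344 F163986) (tt N41050 F163987) (tt N15802 F163988) (tt N57150 D107394) (tt N57151 D107395) (tt N30343 F163989))
theorem Q30343 : ∀ i, i < 30343 → P i := stepQ 30342 Q30342 (allL N30342 (tt N30344 (iv1 F78354)) (tt N30343 F78353) (tt N30207 F78349) (tt N57143 (iv3 F165434)) (tt N29936 F78350) (tt N56884 (iv5 F164977)) (tt N29935 F78351) (tt N15144 (iv7 D49606)))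
theorem Q30344 : ∀ i, i < 30344 → P i := stepQ 30343 Q30343 (allL N30343 (tt N30342 (iv1 F78353)) (tt N15145 (iv0 D49607)) (tt N30340 (iv2 F163992)) (tt N57152 D107396) (tt N18380 F163980) (tt N57153 D107397) (tt N57154 D107398) (tt N30341 (iv7 F163989)))
theorem Q30345 : ∀ i, i < 30345 → P i := stepQ 30344 Q30344 (allL N30344 (tt N15145 (iv1 D49608)) (tt N30342 F78354) (tt N30341 (iv2 F163986)) (tt N57155 D107399) (tt N21008 F163977) (tt N57156 D107400) (tt N57157 D107401) (tt N30340 (iv7 F163994)))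
theorem Q30346 : ∀ i, i < 30346 → P i := stepQ 30345 Q30345 (allL N30345 (tt N57158 D107402) (tt N57159 D107403) (tt N30205 F78355) (tt N57146 (iv3 F165436)) (tt N57160 D107404) (tt N15145 (iv5 D49609)) (tt N29934 F78356) (tt N56885 (iv7 F164980)))
theorem Q30347 : ∀ i, i < 30347 → P i := stepQ 30346 Q30346 (allL N30346 (tt N31530 F165539) (tt N15800 F165540) (tt N31528 (iv2 F165542)) (tt N57161 D107411) (tt N15146 (iv4 D49612)) (tt N57162 D107412) (tt N57163 D107413) (tt N31529 F165541))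
theorem Q30348 : ∀ i, i < 30348 → P i := stepQ 30347 Q30347 (allL N30347 (tt N57164 D107414) (tt N30233 (iv0 F78358)) (tt N56395 (iv2 F165477)) (tt N44298 (iv3 F165671)) (tt N57165 D107415) (tt N15146 (iv5 D49613)) (tt N57166 D107416) (tt N56397 (iv7 F165515)))
theorem Q30349 : ∀ i, i < 30349 → P i := stepQ 30348 Q30348 (allL N30348 (tt N56376 F164850) (tt N56849 (iv0 F164917)) (tt N56396 (iv2 F165479)) (tt N38583 (iv3 F165536)) (tt N57163 (iv4 F165674)) (tt N30097 F78359) (tt N15146 (iv6 D49614)) (tt N56709 F165487))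
theorem Q30350 : ∀ i, i < 30350 → P i := stepQ 30349 Q30349 (allL N30349 (tt N31022 (iv1 F168327)) (tt N31568 (iv0 F168328)) (tt N44294 F165550) (tt N15147 (iv3 D49616)) (tt N57167 D107419) (tt N57168 D107420) (tt N57169 D107421) (tt N56394 (iv7 F165474)))
theorem Q30351 : ∀ i, i < 30351 → P i := stepQ 30350 Q30350 (allL N30350 (tt N15800 F165546) (tt N31530 F165547) (tt N31529 F165548) (tt N57170 D107422) (tt N15147 (iv4 D49617)) (tt N57171 D107423) (tt N57172 D107424) (tt N31528 F165549))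
theorem Q30352 : ∀ i, i < 30352 → P i := stepQ 30351 Q30351 (allL N30351 (tt N30233 F164848) (tt N57164 F165677) (tt N56397 F165514) (tt N57168 (iv3 F165697)) (tt N57173 D107425) (tt N15147 (iv5 D49618)) (tt N30217 (iv6 F78364)) (tt N56395 (iv7 F165478)))
theorem Q30353 : ∀ i, i < 30353 → P i := stepQ 30352 Q30352 (allL N30352 (tt N56839 F164906) (tt N56387 (iv0 F163698)) (tt N56398 F165468) (tt N57169 (iv3 F165699)) (tt N57172 (iv4 F165700)) (tt N30912 F79670) (tt N15147 (iv6 D49619)) (tt N57066 F165466))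
theorem Q30354 : ∀ i, i < 30354 → P i := stepQ 30353 Q30353 (allL N30353 (tt N57174 D107426) (tt N57175 D107427) (tt N57176 D107428) (tt N15148 (iv3 D49620)) (tt N33263 (iv4 F84350)) (tt N21014 F78365) (tt N57177 D107429) (tt N21010 F78366))
theorem Q30355 : ∀ i, i < 30355 → P i := stepQ 30354 Q30354 (allL N30354 (tt N57178 D107430) (tt N57179 D107431) (tt N21015 F78367) (tt N57177 (iv3 F165709)) (tt N15149 F78368) (tt N57180 D107432) (tt N15148 (iv6 D49621)) (tt N57181 D107433))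
theorem Q30356 : ∀ i, i < 30356 → P i := stepQ 30355 Q30355 (allL N30355 (tt N21017 (iv1 F78373)) (tt N15149 (iv0 D49622)) (tt N20858 (iv2 F100153)) (tt N20798 F168087) (tt N56901 (iv4 F165030)) (tt N57182 D107435) (tt N41453 (iv6 F104270)) (tt N21016 F93348))
theorem Q30357 : ∀ i, i < 30357 → P i := stepQ 30356 Q30356 (allL N30356 (tt N15149 (iv1 D49623)) (tt N21017 F78369) (tt N21016 F93346) (tt N16105 F100157) (tt N56902 (iv4 F165026)) (tt N35833 (iv5 F93340)) (tt N37912 F100158) (tt N20858 F100159))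
theorem Q30358 : ∀ i, i < 30358 → P i := stepQ 30357 Q30357 (allL N30357 (tt N21016 (iv1 F78374)) (tt N20858 (iv0 F100151)) (tt N21017 F78370) (tt N40342 (iv3 F101613)) (tt N57181 (iv4 F165724)) (tt N18402 F78371) (tt N21012 F78372) (tt N15149 (iv7 D49624)))
theorem Q30359 : ∀ i, i < 30359 → P i := stepQ 30358 Q30358 (allL N30358 (tt N38697 F98666) (tt N57183 D107436) (tt N39450 (iv2 F100296)) (tt N15152 F78380) (tt N39120 (iv4 F99439)) (tt N30017 F78381) (tt N15150 (iv6 D49625)) (tt N57184 D107437))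
theorem Q30360 : ∀ i, i < 30360 → P i := stepQ 30359 Q30359 (allL N30359 (tt N57185 D107438) (tt N57186 D107439) (tt N57187 D107440) (tt N15151 (iv3 D49626)) (tt N39119 (iv4 F99436)) (tt N21010 F78382) (tt N57188 D107441) (tt N21014 F78383))
theorem Q30361 : ∀ i, i < 30361 → P i := stepQ 30360 Q30360 (allL N30360 (tt N30176 F78386) (tt N57189 D107442) (tt N21011 F78384) (tt N57188 (iv3 F165752)) (tt N15152 F78385) (tt N57190 D107443) (tt N15151 (iv6 D49627)) (tt N57191 D107444))
theorem Q30362 : ∀ i, i < 30362 → P i := stepQ 30361 Q30361 (allL N30361 (tt N15152 (iv1 D49628)) (tt N21012 F78387) (tt N20876 (iv2 F78389)) (tt N20806 (iv3 F78390)) (tt N56911 (iv4 F165057)) (tt N36739 (iv5 F95138)) (tt N31456 (iv6 F80691)) (tt N18019 F78388))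
theorem Q30363 : ∀ i, i < 30363 → P i := stepQ 30362 Q30362 (allL N30362 (tt N20876 (iv1 F78394)) (tt N18019 F78395) (tt N21012 F78391) (tt N57184 (iv3 F165741)) (tt N57191 (iv4 F165761)) (tt N30022 F78392) (tt N21017 F78393) (tt N15152 (iv7 D49629)))
theorem Q30364 : ∀ i, i < 30364 → P i := stepQ 30363 Q30363 (allL N30363 (tt N21024 (iv1 F78396)) (tt N15153 (iv0 D49630)) (tt N21023 F180669) (tt N57192 D107446) (tt N40251 F180670) (tt N31470 (iv5 F180711)) (tt N57193 D107449) (tt N21022 F180671))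
theorem Q30365 : ∀ i, i < 30365 → P i := stepQ 30364 Q30364 (allL N30364 (tt N15153 (iv1 D49631)) (tt N21024 F78401) (tt N21022 (iv2 F180666)) (tt N57194 D107451) (tt N33275 (iv4 F84374)) (tt N31471 F180716) (tt N57195 D107453) (tt N21023 (iv7 F180665)))
theorem Q30366 : ∀ i, i < 30366 → P i := stepQ 30365 Q30365 (allL N30365 (tt N21023 (iv1 F78402)) (tt N21022 F78400) (tt N15153 (iv2 D49632)) (tt N31472 (iv3 F80714)) (tt N16797 F78397) (tt N30318 F78398) (tt N22271 (iv6 F322054)) (tt N21024 F78399))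
theorem Q30367 : ∀ i, i < 30367 → P i := stepQ 30366 Q30366 (allL N30366 (tt N57196 D107455) (tt N57197 D107456) (tt N22271 (iv2 F322053)) (tt N15154 F78403) (tt N16798 F78404) (tt N57198 D107457) (tt N15153 (iv6 D49633)) (tt N22161 F320384))
theorem Q30368 : ∀ i, i < 30368 → P i := stepQ 30367 Q30367 (allL N30367 (tt N57199 D107459) (tt N57200 D107460) (tt N31475 (iv2 F80722)) (tt N57198 (iv3 F165770)) (tt N50844 (iv4 F339907)) (tt N15154 (iv5 D49636)) (tt N30321 F78405) (tt N51063 (iv7 F339942)))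
theorem Q30369 : ∀ i, i < 30369 → P i := stepQ 30368 Q30368 (allL N30368 (tt N31474 (iv1 F80721)) (tt N31473 F80726) (tt N31476 (iv2 F80723)) (tt N22161 F320598) (tt N15158 F78406) (tt N51063 (iv5 F339941)) (tt N21029 F78407) (tt N15154 (iv7 D49637)))
theorem Q30370 : ∀ i, i < 30370 → P i := stepQ 30369 Q30369 (allL N30369 (tt N31412 F111362) (tt N31394 (iv0 F111369)) (tt N31410 (iv2 F111416)) (tt N15155 (iv3 D49639)) (tt N40062 F101098) (tt N30829 (iv5 F111365)) (tt N44453 (iv6 F112146)) (tt N31411 (iv7 F111415)))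
theorem Q30371 : ∀ i, i < 30371 → P i := stepQ 30370 Q30370 (allL N30370 (tt N30229 F111358) (tt N18151 F111359) (tt N30226 (iv2 F111250)) (tt N57201 D107463) (tt N15155 (iv4 D49640)) (tt N57202 D107464) (tt N44454 (iv6 F112158)) (tt N30227 (iv7 F111249)))
theorem Q30372 : ∀ i, i < 30372 → P i := stepQ 30371 Q30371 (allL N30371 (tt N18279 F111429) (tt N55878 F162028) (tt N39481 (iv2 F111375)) (tt N15156 (iv3 D49642)) (tt N39128 F111190) (tt N36025 (iv5 F111432)) (tt N57203 D107465) (tt N31477 (iv7 F103509)))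
theorem Q30373 : ∀ i, i < 30373 → P i := stepQ 30372 Q30372 (allL N30372 (tt N18151 F111356) (tt N30229 F111357) (tt N30227 (iv2 F111247)) (tt N57204 D107466) (tt N15156 (iv4 D49643)) (tt N57205 D107467) (tt N57206 D107468) (tt N30226 (iv7 F111252)))
theorem Q30374 : ∀ i, i < 30374 → P i := stepQ 30373 Q30373 (allL N30373 (tt N36237 F100229) (tt N41453 F104271) (tt N31478 (iv2 F103512)) (tt N57203 (iv3 F165782)) (tt N57206 (iv4 F165787)) (tt N44457 (iv5 F112159)) (tt N15156 (iv6 D49644)) (tt N44457 (iv7 F112160)))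
theorem Q30375 : ∀ i, i < 30375 → P i := stepQ 30374 Q30374 (allL N30374 (tt N31482 (iv1 F80743)) (tt N15157 (iv0 D49645)) (tt N31479 (iv2 F103545)) (tt N38707 (iv3 F167834)) (tt N55059 (iv4 F331320)) (tt N20833 (iv5 F80744)) (tt N57207 D107471) (tt N31480 F103541))
theorem Q30376 : ∀ i, i < 30376 → P i := stepQ 30375 Q30375 (allL N30375 (tt N15157 (iv1 D49646)) (tt N31482 F80742) (tt N31480 F103546) (tt N57208 D107472) (tt N55060 (iv4 F331324)) (tt N20834 (iv5 F82353)) (tt N31488 (iv6 F82355)) (tt N31479 F103544))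
theorem Q30377 : ∀ i, i < 30377 → P i := stepQ 30376 Q30376 (allL N30376 (tt N55240 (iv1 F295852)) (tt N55239 (iv0 F295846)) (tt N31481 (iv2 F80737)) (tt N33918 F319606) (tt N15157 (iv4 D49647)) (tt N51051 (iv5 F295845)) (tt N15161 F78410) (tt N42951 (iv7 F321406)))
theorem Q30378 : ∀ i, i < 30378 → P i := stepQ 30377 Q30377 (allL N30377 (tt N15272 F78415) (tt N15280 F78416) (tt N30442 (iv2 F78565)) (tt N15160 F78413) (tt N44157 (iv4 F110964)) (tt N15159 (iv5 D49649)) (tt N33539 (iv6 F85072)) (tt N19143 F78414))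
theorem Q30379 : ∀ i, i < 30379 → P i := stepQ 30378 Q30378 (allL N30378 (tt N37459 (iv1 F96035)) (tt N37461 (iv0 F96040)) (tt N31484 (iv2 F80746)) (tt N44415 (iv3 F112016)) (tt N16128 F78417) (tt N15161 (iv5 D49650)) (tt N52662 (iv6 F294549)) (tt N30648 (iv7 F79061)))
theorem Q30380 : ∀ i, i < 30380 → P i := stepQ 30379 Q30379 (allL N30379 (tt N37461 (iv1 F96041)) (tt N37459 (iv0 F96034)) (tt N30648 (iv2 F79060)) (tt N52667 (iv3 F295477)) (tt N15163 (iv4 D49651)) (tt N16114 F78418) (tt N57209 D107478) (tt N31484 (iv7 F80748)))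
theorem Q30381 : ∀ i, i < 30381 → P i := stepQ 30380 Q30380 (allL N30380 (tt N57210 D107479) (tt N57211 D107480) (tt N32173 (iv2 F82479)) (tt N56410 (iv3 F163714)) (tt N57209 (iv4 F165811)) (tt N56410 (iv5 F163715)) (tt N15163 (iv6 D49652)) (tt N57212 D107481))
theorem Q30382 : ∀ i, i < 30382 → P i := stepQ 30381 Q30381 (allL N30381 (tt N57213 D107482) (tt N57214 D107483) (tt N57215 D107484) (tt N15164 (iv3 D49653)) (tt N15167 F78419) (tt N41163 (iv5 F103448)) (tt N57216 D107485) (tt N20788 F78420))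
theorem Q30383 : ∀ i, i < 30383 → P i := stepQ 30382 Q30382 (allL N30382 (tt N57217 D107486) (tt N37258 (iv0 F95724)) (tt N16829 F78421) (tt N57216 (iv3 F165821)) (tt N15165 F78422) (tt N57218 D107487) (tt N15164 (iv6 D49654)) (tt N57219 D107488))
theorem Q30384 : ∀ i, i < 30384 → P i := stepQ 30383 Q30383 (allL N30383 (tt N16832 (iv1 F78426)) (tt N15165 (iv0 D49655)) (tt N16830 F78430) (tt N57220 D107489) (tt N39523 (iv4 F100366)) (tt N29852 (iv5 F78429)) (tt N37708 (iv6 F96496)) (tt N16831 F78428))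
theorem Q30385 : ∀ i, i < 30385 → P i := stepQ 30384 Q30384 (allL N30384 (tt N16831 (iv1 F78427)) (tt N16830 F78433) (tt N16832 F78423) (tt N15172 F78424) (tt N57219 (iv4 F165838)) (tt N35608 (iv5 F92976)) (tt N20793 F78425) (tt N15165 (iv7 D49656)))
theorem Q30386 : ∀ i, i < 30386 → P i := stepQ 30385 Q30385 (allL N30385 (tt N31472 (iv1 F80717)) (tt N15167 (iv0 D49657)) (tt N31471 (iv2 F180714)) (tt N57221 D107491) (tt N57222 D107492) (tt N21022 F166889) (tt N57223 D107494) (tt N31470 F180713))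
theorem Q30387 : ∀ i, i < 30387 → P i := stepQ 30386 Q30386 (allL N30386 (tt N15167 (iv1 D49658)) (tt N31472 F80719) (tt N31470 F180712) (tt N57224 D107496) (tt N57225 D107497) (tt N21023 (iv5 F166900)) (tt N57226 D107499) (tt N31471 (iv7 F180715)))
theorem Q30388 : ∀ i, i < 30388 → P i := stepQ 30387 Q30387 (allL N30387 (tt N31471 (iv1 F80718)) (tt N31470 F80713) (tt N15167 (iv2 D49659)) (tt N21024 F78437) (tt N57215 (iv4 F165817)) (tt N30312 F78438) (tt N57227 D107500) (tt N31472 (iv7 F80716)))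
theorem Q30389 : ∀ i, i < 30389 → P i := stepQ 30388 Q30388 (allL N30388 (tt N57228 D107501) (tt N57229 D107502) (tt N57227 (iv2 F165846)) (tt N15168 F78439) (tt N57216 (iv4 F165822)) (tt N57230 D107503) (tt N15167 (iv6 D49660)) (tt N57231 D107504))
theorem Q30390 : ∀ i, i < 30390 → P i := stepQ 30389 Q30389 (allL N30389 (tt N53957 (iv1 F331778)) (tt N57232 D107506) (tt N21028 F78440) (tt N57230 (iv3 F165848)) (tt N57233 D107507) (tt N15168 (iv5 D49661)) (tt N30314 F78441) (tt N57234 D107508))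
theorem Q30391 : ∀ i, i < 30391 → P i := stepQ 30390 Q30390 (allL N30390 (tt N21027 (iv1 F78444)) (tt N21026 F78445) (tt N21029 F78442) (tt N57231 (iv3 F165850)) (tt N15172 F78443) (tt N57234 (iv5 F165855)) (tt N31476 (iv6 F80725)) (tt N15168 (iv7 D49662)))
theorem Q30392 : ∀ i, i < 30392 → P i := stepQ 30391 Q30391 (allL N30391 (tt N57235 D107509) (tt N18300 F100429) (tt N39564 (iv2 F100425)) (tt N15169 (iv3 D49663)) (tt N39142 (iv4 F99487)) (tt N57236 D107510) (tt N57237 D107511) (tt N21033 F78446))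
theorem Q30393 : ∀ i, i < 30393 → P i := stepQ 30392 Q30392 (allL N30392 (tt N30255 F83906) (tt N16070 F83907) (tt N21031 F78447) (tt N57238 D107512) (tt N15169 (iv4 D49664)) (tt N57239 D107513) (tt N57240 D107514) (tt N21034 F78448))
theorem Q30394 : ∀ i, i < 30394 → P i := stepQ 30393 Q30393 (allL N30393 (tt N18079 (iv1 F78452)) (tt N18078 F78453) (tt N18080 F78449) (tt N57236 (iv3 F165865)) (tt N57241 D107515) (tt N15169 (iv5 D49665)) (tt N18090 (iv6 F78451)) (tt N18035 F78450))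
theorem Q30395 : ∀ i, i < 30395 → P i := stepQ 30394 Q30394 (allL N30394 (tt N37912 F100279) (tt N41202 F103631) (tt N21032 F78454) (tt N57237 (iv3 F165868)) (tt N57240 (iv4 F165875)) (tt N18691 F78456) (tt N15169 (iv6 D49666)) (tt N18690 F78455))
theorem Q30396 : ∀ i, i < 30396 → P i := stepQ 30395 Q30395 (allL N30395 (tt N18297 F80457) (tt N31420 F80634) (tt N31419 (iv2 F80633)) (tt N15170 (iv3 D49667)) (tt N33272 F84365) (tt N18073 F78457) (tt N19547 F78458) (tt N21030 F78459))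
theorem Q30397 : ∀ i, i < 30397 → P i := stepQ 30396 Q30396 (allL N30396 (tt N16070 F83904) (tt N30255 F83905) (tt N21034 F78460) (tt N57242 D107516) (tt N15170 (iv4 D49668)) (tt N57243 D107517) (tt N30165 F78461) (tt N21031 F78462))
theorem Q30398 : ∀ i, i < 30398 → P i := stepQ 30397 Q30397 (allL N30397 (tt N21038 (iv1 F78468)) (tt N15171 (iv0 D49669)) (tt N21035 (iv2 F166398)) (tt N57244 D107519) (tt N57245 D107520) (tt N57246 D107521) (tt N35876 (iv6 F93417)) (tt N21036 F166397))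
theorem Q30399 : ∀ i, i < 30399 → P i := stepQ 30398 Q30398 (allL N30398 (tt N15171 (iv1 D49670)) (tt N21038 F78463) (tt N21036 F166396) (tt N57247 D107523) (tt N57248 D107524) (tt N31510 (iv5 F80814)) (tt N35607 F94075) (tt N21035 (iv7 F166399)))
theorem Q30400 : ∀ i, i < 30400 → P i := stepQ 30399 Q30399 (allL N30399 (tt N56975 (iv1 F165150)) (tt N56976 (iv0 F165148)) (tt N21037 F78464) (tt N57249 D107525) (tt N15171 (iv4 D49671)) (tt N57250 D107526) (tt N15174 F78465) (tt N57251 D107527))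
theorem Q30401 : ∀ i, i < 30401 → P i := stepQ 30400 Q30400 (allL N30400 (tt N21036 (iv1 F78469)) (tt N21035 F78470) (tt N21038 F78466) (tt N35608 (iv3 F92975)) (tt N57251 (iv4 F165898)) (tt N15172 F78467) (tt N32092 (iv6 F82310)) (tt N15171 (iv7 D49672)))
theorem Q30402 : ∀ i, i < 30402 → P i := stepQ 30401 Q30401 (allL N30401 (tt N57252 D107528) (tt N57253 D107529) (tt N57254 D107530) (tt N15174 (iv3 D49673)) (tt N35603 (iv4 F92966)) (tt N57255 D107531) (tt N57249 (iv6 F165894)) (tt N32275 (iv7 F82648)))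
theorem Q30403 : ∀ i, i < 30403 → P i := stepQ 30402 Q30402 (allL N30402 (tt N16230 F78473) (tt N16239 F78474) (tt N21040 F78471) (tt N57255 (iv3 F165902)) (tt N16272 F78472) (tt N15174 (iv5 D49674)) (tt N57256 D107532) (tt N32276 (iv7 F82651)))
theorem Q30404 : ∀ i, i < 30404 → P i := stepQ 30403 Q30403 (allL N30403 (tt N15793 (iv1 F78479)) (tt N15175 (iv0 D49675)) (tt N15791 (iv2 F166402)) (tt N39744 (iv3 F166214)) (tt N56383 F165334) (tt N36189 (iv5 F94054)) (tt N41515 (iv6 F104338)) (tt N15792 (iv7 F166407)))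
theorem Q30405 : ∀ i, i < 30405 → P i := stepQ 30404 Q30404 (allL N30404 (tt N15175 (iv1 D49676)) (tt N15793 F78475) (tt N15792 F166408) (tt N36112 (iv3 F166138)) (tt N56384 F163682) (tt N36190 F94057) (tt N30495 (iv6 F94058)) (tt N15791 F166409))
theorem Q30406 : ∀ i, i < 30406 → P i := stepQ 30405 Q30405 (allL N30405 (tt N15792 (iv1 F78480)) (tt N15791 F78481) (tt N15793 F78476) (tt N36191 (iv3 F94061)) (tt N30322 F78477) (tt N32101 (iv5 F82335)) (tt N15789 F78478) (tt N15175 (iv7 D49677)))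
theorem Q30407 : ∀ i, i < 30407 → P i := stepQ 30406 Q30406 (allL N30406 (tt N15176 (iv1 D49678)) (tt N16355 F78482) (tt N36241 (iv2 F94161)) (tt N36249 (iv3 F94196)) (tt N57257 D107537) (tt N56248 F163265) (tt N56632 (iv6 F164494)) (tt N36242 (iv7 F94163)))
theorem Q30408 : ∀ i, i < 30408 → P i := stepQ 30407 Q30407 (allL N30407 (tt N29869 (iv1 F83136)) (tt N29872 F163250) (tt N56648 (iv2 F164519)) (tt N15177 F78483) (tt N57258 D107538) (tt N15176 (iv5 D49679)) (tt N57259 D107539) (tt N32468 (iv7 F82903)))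
theorem Q30409 : ∀ i, i < 30409 → P i := stepQ 30408 Q30408 (allL N30408 (tt N16239 F78486) (tt N16230 F78487) (tt N32276 (iv2 F82649)) (tt N57260 D107540) (tt N15177 (iv4 D49680)) (tt N15666 F78484) (tt N57261 D107541) (tt N21040 F78485))
theorem Q30410 : ∀ i, i < 30410 → P i := stepQ 30409 Q30409 (allL N30409 (tt N56207 F163179) (tt N57262 D107542) (tt N32470 (iv2 F82905)) (tt N57259 (iv3 F165918)) (tt N57261 (iv4 F165921)) (tt N32140 (iv5 F82413)) (tt N15177 (iv6 D49681)) (tt N57263 D107543))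
theorem Q30411 : ∀ i, i < 30411 → P i := stepQ 30410 Q30410 (allL N30410 (tt N15178 (iv1 D49682)) (tt N27231 F78488) (tt N31361 F80508) (tt N32131 (iv3 F82397)) (tt N16157 (iv4 F78490)) (tt N56444 (iv5 F163767)) (tt N16157 (iv6 F78491)) (tt N26481 F78489))
theorem Q30412 : ∀ i, i < 30412 → P i := stepQ 30411 Q30411 (allL N30411 (tt N15181 (iv1 F78494)) (tt N15180 (iv0 D49683)) (tt N15184 (iv2 F78493)) (tt N31362 (iv3 F80514)) (tt N15237 F78492) (tt N21972 (iv5 F78513)) (tt N18386 (iv6 F78496)) (tt N15182 F78495))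
theorem Q30413 : ∀ i, i < 30413 → P i := stepQ 30412 Q30412 (allL N30412 (tt N15184 (iv1 F78501)) (tt N15182 F78500) (tt N15180 (iv2 D49684)) (tt N37286 (iv3 F95758)) (tt N17340 F78497) (tt N43062 (iv5 F108009)) (tt N20936 F78498) (tt N15181 F78499))
theorem Q30414 : ∀ i, i < 30414 → P i := stepQ 30413 Q30413 (allL N30413 (tt N43006 (iv1 F107894)) (tt N38340 (iv0 F98039)) (tt N43062 F108010) (tt N19016 F78502) (tt N57264 D107544) (tt N15180 (iv5 D49685)) (tt N57265 D107545) (tt N37282 (iv7 F95749)))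
theorem Q30415 : ∀ i, i < 30415 → P i := stepQ 30414 Q30414 (allL N30414 (tt N38340 (iv1 F98040)) (tt N43006 (iv0 F107893)) (tt N37282 (iv2 F95747)) (tt N50972 (iv3 F143183)) (tt N57266 D107546) (tt N15181 (iv5 D49687)) (tt N57267 D107547) (tt N43062 (iv7 F108012)))
theorem Q30416 : ∀ i, i < 30416 → P i := stepQ 30415 Q30415 (allL N30415 (tt N21940 F78505) (tt N21974 (iv0 F78506)) (tt N15183 F78504) (tt N31368 (iv3 F80526)) (tt N57268 D107548) (tt N15182 (iv5 D49689)) (tt N57269 D107549) (tt N21972 (iv7 F78512)))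
theorem Q30417 : ∀ i, i < 30417 → P i := stepQ 30416 Q30416 (allL N30416 (tt N15183 (iv1 D49690)) (tt N21972 F78511) (tt N21974 (iv2 F78509)) (tt N27123 (iv3 F78510)) (tt N57270 D107550) (tt N21941 F78508) (tt N57271 D107551) (tt N21940 F78507))
theorem Q30418 : ∀ i, i < 30418 → P i := stepQ 30417 Q30417 (allL N30417 (tt N57272 D107552) (tt N57273 D107553) (tt N57268 (iv2 F165924)) (tt N29978 (iv3 F322881)) (tt N15183 (iv4 D49691)) (tt N57274 D107555) (tt N29976 F321187) (tt N57275 D107557))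
theorem Q30419 : ∀ i, i < 30419 → P i := stepQ 30418 Q30418 (allL N30418 (tt N57276 D107558) (tt N57277 D107559) (tt N57269 (iv2 F165926)) (tt N15186 F78514) (tt N29976 (iv4 F319148)) (tt N21539 F78515) (tt N15183 (iv6 D49692)) (tt N44494 F316779))
theorem Q30420 : ∀ i, i < 30420 → P i := stepQ 30419 Q30419 (allL N30419 (tt N21974 (iv1 F78519)) (tt N21940 F78520) (tt N21972 F78516) (tt N15187 F78517) (tt N57275 (iv4 F165943)) (tt N15184 F78518) (tt N57278 D107561) (tt N15183 (iv7 D49693)))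
theorem Q30421 : ∀ i, i < 30421 → P i := stepQ 30420 Q30420 (allL N30420 (tt N57279 D107562) (tt N57280 D107563) (tt N56538 (iv2 F325494)) (tt N15185 (iv3 D49694)) (tt N29978 F324327) (tt N30128 F78521) (tt N19168 F324328) (tt N30127 F78522))
theorem Q30422 : ∀ i, i < 30422 → P i := stepQ 30421 Q30421 (allL N30421 (tt N56667 (iv1 F177832)) (tt N56670 (iv0 F177833)) (tt N31375 (iv2 F80534)) (tt N19168 (iv3 F322878)) (tt N15186 F78523) (tt N19167 (iv5 F322879)) (tt N15185 (iv6 D49695)) (tt N56544 F321186))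
theorem Q30423 : ∀ i, i < 30423 → P i := stepQ 30422 Q30422 (allL N30422 (tt N31378 (iv1 F80542)) (tt N15186 (iv0 D49696)) (tt N31376 (iv2 F161770)) (tt N57281 D107570) (tt N56470 (iv4 F177618)) (tt N55829 (iv5 F161881)) (tt N57282 D107572) (tt N31377 (iv7 F161789)))
theorem Q30424 : ∀ i, i < 30424 → P i := stepQ 30423 Q30423 (allL N30423 (tt N15186 (iv1 D49697)) (tt N31378 F80541) (tt N31377 F161771) (tt N57283 D107573) (tt N56471 (iv4 F177621)) (tt N16538 (iv5 F78524)) (tt N57284 D107575) (tt N31376 F161769))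
theorem Q30425 : ∀ i, i < 30425 → P i := stepQ 30424 Q30424 (allL N30424 (tt N31377 (iv1 F80536)) (tt N31376 F80540) (tt N31378 (iv2 F80538)) (tt N44494 F316778) (tt N56544 (iv4 F319142)) (tt N23831 F78525) (tt N57285 D107576) (tt N15186 (iv7 D49698)))
theorem Q30426 : ∀ i, i < 30426 → P i := stepQ 30425 Q30425 (allL N30425 (tt N51539 F157310) (tt N57286 D107577) (tt N31379 (iv2 F80543)) (tt N57278 (iv3 F165948)) (tt N30129 F78526) (tt N45089 (iv5 F114504)) (tt N15187 (iv6 D49699)) (tt N57285 (iv7 F165964)))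
theorem Q30427 : ∀ i, i < 30427 → P i := stepQ 30426 Q30426 (allL N30426 (tt N16080 (iv1 F78528)) (tt N15190 (iv0 D49700)) (tt N16193 (iv2 F78529)) (tt N57287 D107578) (tt N15393 F78527) (tt N57288 D107579) (tt N57289 D107580) (tt N15468 (iv7 F78530)))
theorem Q30428 : ∀ i, i < 30428 → P i := stepQ 30427 Q30427 (allL N30427 (tt N15190 (iv1 D49701)) (tt N16080 F78531) (tt N15468 (iv2 F78534)) (tt N57290 D107581) (tt N15467 F78533) (tt N57291 D107582) (tt N57292 D107583) (tt N16193 F78532))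
theorem Q30429 : ∀ i, i < 30429 → P i := stepQ 30428 Q30428 (allL N30428 (tt N57293 D107584) (tt N57294 D107585) (tt N57295 D107586) (tt N15190 (iv3 D49702)) (tt N31888 (iv4 F81630)) (tt N57296 D107587) (tt N30563 (iv6 F78876)) (tt N31247 (iv7 F80273)))
theorem Q30430 : ∀ i, i < 30430 → P i := stepQ 30429 Q30429 (allL N30429 (tt N57297 D107588) (tt N57298 D107589) (tt N30431 (iv2 F78535)) (tt N57296 (iv3 F165984)) (tt N33087 (iv4 F84058)) (tt N15190 (iv5 D49703)) (tt N57299 D107590) (tt N31248 (iv7 F80274)))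
theorem Q30431 : ∀ i, i < 30431 → P i := stepQ 30430 Q30430 (allL N30430 (tt N57300 D107591) (tt N57301 D107592) (tt N57302 D107593) (tt N15191 (iv3 D49704)) (tt N38388 (iv4 F98178)) (tt N57303 D107594) (tt N30565 (iv6 F78878)) (tt N32058 (iv7 F82193)))
theorem Q30432 : ∀ i, i < 30432 → P i := stepQ 30431 Q30431 (allL N30431 (tt N32232 (iv1 F82582)) (tt N30876 (iv0 F79628)) (tt N30429 F78535) (tt N57303 (iv3 F165996)) (tt N56894 (iv4 F165001)) (tt N15191 (iv5 D49705)) (tt N57304 D107595) (tt N32059 (iv7 F82195)))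
theorem Q30433 : ∀ i, i < 30433 → P i := stepQ 30432 Q30432 (allL N30432 (tt N37241 (iv1 F95695)) (tt N37243 (iv0 F95700)) (tt N15202 F78536) (tt N48084 (iv3 F318485)) (tt N15192 (iv4 D49706)) (tt N46090 F329175) (tt N55956 (iv6 F162217)) (tt N15205 F78537))
theorem Q30434 : ∀ i, i < 30434 → P i := stepQ 30433 Q30433 (allL N30433 (tt N37243 (iv1 F95701)) (tt N37241 (iv0 F95694)) (tt N15205 F78538) (tt N57305 D107598) (tt N15193 (iv4 D49707)) (tt N57306 D107599) (tt N57307 D107600) (tt N15202 F78539))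
theorem Q30435 : ∀ i, i < 30435 → P i := stepQ 30434 Q30434 (allL N30434 (tt N44483 (iv1 F112247)) (tt N16794 (iv0 F78542)) (tt N15206 F78540) (tt N30598 (iv3 F78965)) (tt N57307 (iv4 F166010)) (tt N19192 F78541) (tt N15193 (iv6 D49708)) (tt N44482 (iv7 F112240)))
theorem Q30436 : ∀ i, i < 30436 → P i := stepQ 30435 Q30435 (allL N30435 (tt N32225 (iv1 F82565)) (tt N15365 F78545) (tt N15208 F78543) (tt N57308 D107601) (tt N15194 (iv4 D49709)) (tt N57309 D107602) (tt N57310 D107603) (tt N15211 F78544))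
theorem Q30437 : ∀ i, i < 30437 → P i := stepQ 30436 Q30436 (allL N30436 (tt N30653 (iv1 F166076)) (tt N57311 D107605) (tt N15209 F78546) (tt N31399 (iv3 F80596)) (tt N57310 (iv4 F166019)) (tt N15647 F78547) (tt N15194 (iv6 D49710)) (tt N57312 D107606))
theorem Q30438 : ∀ i, i < 30438 → P i := stepQ 30437 Q30437 (allL N30437 (tt N15195 (iv1 D49711)) (tt N15216 F78548) (tt N15214 (iv2 F78551)) (tt N55067 (iv3 F331338)) (tt N15509 F78550) (tt N57313 D107608) (tt N44108 F323326) (tt N15213 F78549))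
theorem Q30439 : ∀ i, i < 30439 → P i := stepQ 30438 Q30438 (allL N30438 (tt N48110 (iv1 F321285)) (tt N48109 (iv0 F321286)) (tt N35455 F319238) (tt N15195 (iv3 D49712)) (tt N30572 (iv4 F78896)) (tt N57314 D107613) (tt N18267 F78552) (tt N48111 F319239))
theorem Q30440 : ∀ i, i < 30440 → P i := stepQ 30439 Q30439 (allL N30439 (tt N38236 (iv1 F97740)) (tt N38166 (iv0 F97574)) (tt N15215 F78553) (tt N57314 (iv3 F166040)) (tt N33037 (iv4 F83947)) (tt N15195 (iv5 D49713)) (tt N57315 D107615) (tt N33035 (iv7 F83943)))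
theorem Q30441 : ∀ i, i < 30441 → P i := stepQ 30440 Q30440 (allL N30440 (tt N15214 (iv1 F78556)) (tt N15213 F78557) (tt N15216 F78554) (tt N48111 (iv3 F318514)) (tt N15196 F78555) (tt N33035 (iv5 F83940)) (tt N57316 D107616) (tt N15195 (iv7 D49714)))
theorem Q30442 : ∀ i, i < 30442 → P i := stepQ 30441 Q30441 (allL N30441 (tt N18342 (iv1 F78561)) (tt N18341 F78562) (tt N15217 F78558) (tt N30575 (iv3 F78907)) (tt N57316 (iv4 F166045)) (tt N30441 F78559) (tt N15196 (iv6 D49715)) (tt N18270 F78560))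
theorem Q30443 : ∀ i, i < 30443 → P i := stepQ 30442 Q30442 (allL N30442 (tt N15197 (iv1 D49716)) (tt N19563 F78563) (tt N30377 F78565) (tt N30594 (iv3 F78950)) (tt N22607 F78566) (tt N20006 (iv5 F78564)) (tt N57317 D107617) (tt N30580 (iv7 F78928)))
theorem Q30444 : ∀ i, i < 30444 → P i := stepQ 30443 Q30443 (allL N30443 (tt N18988 F78567) (tt N39039 F99219) (tt N30581 (iv2 F78930)) (tt N57318 D107618) (tt N15197 (iv4 D49717)) (tt N44179 (iv5 F111036)) (tt N57319 D107619) (tt N30597 (iv7 F78960)))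
theorem Q30445 : ∀ i, i < 30445 → P i := stepQ 30444 Q30444 (allL N30444 (tt N57320 D107620) (tt N57321 D107621) (tt N30582 (iv2 F78934)) (tt N15203 F78568) (tt N57319 (iv4 F166056)) (tt N20157 F78569) (tt N15197 (iv6 D49718)) (tt N57322 D107622))
theorem Q30446 : ∀ i, i < 30446 → P i := stepQ 30445 Q30445 (allL N30445 (tt N15198 (iv1 D49719)) (tt N15700 F78570) (tt N15631 F78575) (tt N20422 (iv3 F78574)) (tt N15866 F78572) (tt N20022 F78573) (tt N32025 (iv6 F82071)) (tt N15862 F78571))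
theorem Q30447 : ∀ i, i < 30447 → P i := stepQ 30446 Q30446 (allL N30446 (tt N18928 F78576) (tt N18930 F78577) (tt N35919 (iv2 F93563)) (tt N57323 D107623) (tt N15199 (iv4 D49720)) (tt N33033 (iv5 F83933)) (tt N57324 D107624) (tt N35920 (iv7 F93573)))
theorem Q30448 : ∀ i, i < 30448 → P i := stepQ 30447 Q30447 (allL N30447 (tt N36907 (iv1 F169869)) (tt N57325 D107626) (tt N35680 (iv2 F93112)) (tt N30692 (iv3 F79237)) (tt N57324 (iv4 F166220)) (tt N35674 (iv5 F93106)) (tt N15199 (iv6 D49721)) (tt N57326 D107627))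
theorem Q30449 : ∀ i, i < 30449 → P i := stepQ 30448 Q30448 (allL N30448 (tt N15200 (iv1 D49722)) (tt N20841 F78578) (tt N16064 F78584) (tt N15756 (iv3 F78582)) (tt N18155 F78580) (tt N18062 F78581) (tt N18681 (iv6 F78583)) (tt N15751 F78579))
theorem Q30450 : ∀ i, i < 30450 → P i := stepQ 30449 Q30449 (allL N30449 (tt N30729 (iv1 F79296)) (tt N18899 F78586) (tt N18789 F78585) (tt N57327 D107628) (tt N15201 (iv4 D49723)) (tt N57328 D107629) (tt N57329 D107630) (tt N38164 (iv7 F97567)))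
theorem Q30451 : ∀ i, i < 30451 → P i := stepQ 30450 Q30450 (allL N30450 (tt N57330 D107631) (tt N57331 D107632) (tt N18785 F78587) (tt N30584 (iv3 F78939)) (tt N57329 (iv4 F166228)) (tt N18773 F78588) (tt N15201 (iv6 D49724)) (tt N57332 D107633))
theorem Q30452 : ∀ i, i < 30452 → P i := stepQ 30451 Q30451 (allL N30451 (tt N15205 (iv1 F78590)) (tt N15202 (iv0 D49725)) (tt N37241 (iv2 F95692)) (tt N57333 D107634) (tt N19379 F78589) (tt N57334 D107635) (tt N57335 D107636) (tt N37243 (iv7 F95699)))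
theorem Q30453 : ∀ i, i < 30453 → P i := stepQ 30452 Q30452 (allL N30452 (tt N15202 (iv1 D49726)) (tt N15205 F78591) (tt N37243 (iv2 F95698)) (tt N57336 D107637) (tt N19378 F78592) (tt N57337 D107638) (tt N39538 (iv6 F100408)) (tt N37241 (iv7 F95693)))
theorem Q30454 : ∀ i, i < 30454 → P i := stepQ 30453 Q30453 (allL N30453 (tt N57304 (iv1 F360181)) (tt N57338 D107640) (tt N57339 D107641) (tt N15202 (iv3 D49727)) (tt N57318 (iv4 F166055)) (tt N57340 D107642) (tt N34230 F345599) (tt N57305 (iv7 F166004)))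
theorem Q30455 : ∀ i, i < 30455 → P i := stepQ 30454 Q30454 (allL N30454 (tt N57341 D107644) (tt N32224 (iv0 F82560)) (tt N46090 (iv2 F328841)) (tt N57340 (iv3 F166249)) (tt N33034 F83938) (tt N15202 (iv5 D49728)) (tt N22084 (iv6 F328858)) (tt N57306 (iv7 F166007)))
theorem Q30456 : ∀ i, i < 30456 → P i := stepQ 30455 Q30455 (allL N30455 (tt N57342 D107646) (tt N57343 D107647) (tt N55956 (iv2 F162216)) (tt N34230 (iv3 F345598)) (tt N15203 F78593) (tt N34228 F345597) (tt N15202 (iv6 D49729)) (tt N57344 D107649))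
theorem Q30457 : ∀ i, i < 30457 → P i := stepQ 30456 Q30456 (allL N30456 (tt N44463 (iv1 F112185)) (tt N15203 (iv0 D49730)) (tt N20886 (iv2 F101945)) (tt N30591 (iv3 F111406)) (tt N57345 D107650) (tt N36127 F93987) (tt N18289 F93873) (tt N44464 (iv7 F112188)))
theorem Q30458 : ∀ i, i < 30458 → P i := stepQ 30457 Q30457 (allL N30457 (tt N44464 (iv1 F112189)) (tt N20886 F112184) (tt N44463 F112180) (tt N57322 (iv3 F166217)) (tt N57344 (iv4 F166258)) (tt N55868 (iv5 F161995)) (tt N44482 F112242) (tt N15203 (iv7 D49732)))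
theorem Q30459 : ∀ i, i < 30459 → P i := stepQ 30458 Q30458 (allL N30458 (tt N19530 (iv1 F78596)) (tt N15204 (iv0 D49733)) (tt N19547 (iv2 F78595)) (tt N30576 F78916) (tt N22676 F78594) (tt N30740 (iv5 F79332)) (tt N31419 F80632) (tt N19546 F78597))
theorem Q30460 : ∀ i, i < 30460 → P i := stepQ 30459 Q30459 (allL N30459 (tt N20202 F78600) (tt N20200 F78601) (tt N19564 F78598) (tt N57346 D107651) (tt N15204 (iv4 D49734)) (tt N31589 (iv5 F80952)) (tt N57347 D107652) (tt N19548 F78599))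
theorem Q30461 : ∀ i, i < 30461 → P i := stepQ 30460 Q30460 (allL N30460 (tt N57348 D107653) (tt N21009 (iv0 F78604)) (tt N19565 F78602) (tt N15206 F78603) (tt N57347 (iv4 F166265)) (tt N36722 (iv5 F95118)) (tt N15204 (iv6 D49735)) (tt N57349 D107654))
theorem Q30462 : ∀ i, i < 30462 → P i := stepQ 30461 Q30461 (allL N30461 (tt N48086 (iv1 F321899)) (tt N35426 F320219) (tt N48085 (iv2 F322393)) (tt N15205 (iv3 D49736)) (tt N57346 (iv4 F166262)) (tt N57350 D107658) (tt N57351 D107659) (tt N48084 F320618))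
theorem Q30463 : ∀ i, i < 30463 → P i := stepQ 30462 Q30462 (allL N30462 (tt N32224 (iv1 F82561)) (tt N57341 F166253) (tt N57306 (iv2 F166005)) (tt N57350 (iv3 F166279)) (tt N33033 F83934) (tt N15205 (iv5 D49737)) (tt N57352 D107660) (tt N46090 F329176))
theorem Q30464 : ∀ i, i < 30464 → P i := stepQ 30463 Q30463 (allL N30463 (tt N57353 D107661) (tt N39398 (iv0 F100106)) (tt N57307 (iv2 F166009)) (tt N57351 (iv3 F166280)) (tt N15206 F78605) (tt N57354 D107662) (tt N15205 (iv6 D49738)) (tt N57355 D107663))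
theorem Q30465 : ∀ i, i < 30465 → P i := stepQ 30464 Q30464 (allL N30464 (tt N15206 (iv1 D49739)) (tt N44482 F112239) (tt N16794 F78608) (tt N20861 F78609) (tt N39372 (iv4 F100050)) (tt N18236 (iv5 F78607)) (tt N16792 (iv6 F78606)) (tt N44483 (iv7 F112246)))
theorem Q30466 : ∀ i, i < 30466 → P i := stepQ 30465 Q30465 (allL N30465 (tt N16794 (iv1 F78610)) (tt N44483 F112248) (tt N44482 F112238) (tt N57349 (iv3 F166274)) (tt N57355 (iv4 F166283)) (tt N36988 (iv5 F95393)) (tt N44463 F112183) (tt N15206 (iv7 D49740)))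
theorem Q30467 : ∀ i, i < 30467 → P i := stepQ 30466 Q30466 (allL N30466 (tt N57356 D107664) (tt N57357 D107665) (tt N32147 (iv2 F82416)) (tt N15209 F78611) (tt N44170 (iv4 F111021)) (tt N32064 (iv5 F82211)) (tt N15207 (iv6 D49741)) (tt N57358 D107666))
theorem Q30468 : ∀ i, i < 30468 → P i := stepQ 30467 Q30467 (allL N30467 (tt N15211 (iv1 F78613)) (tt N15208 (iv0 D49742)) (tt N32225 (iv2 F82562)) (tt N57359 D107667) (tt N15366 F78612) (tt N57341 (iv5 F166251)) (tt N57360 D107668) (tt N15365 F78614))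
theorem Q30469 : ∀ i, i < 30469 → P i := stepQ 30468 Q30468 (allL N30468 (tt N57361 D107669) (tt N57362 D107670) (tt N57363 D107671) (tt N15208 (iv3 D49743)) (tt N44168 (iv4 F111013)) (tt N57364 D107672) (tt N57365 D107673) (tt N44259 (iv7 F111507)))
theorem Q30470 : ∀ i, i < 30470 → P i := stepQ 30469 Q30469 (allL N30469 (tt N57366 D107674) (tt N57367 D107675) (tt N57309 (iv2 F166015)) (tt N57364 (iv3 F166299)) (tt N33026 (iv4 F83923)) (tt N15208 (iv5 D49744)) (tt N57368 D107676) (tt N55910 (iv7 F162124)))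
theorem Q30471 : ∀ i, i < 30471 → P i := stepQ 30470 Q30470 (allL N30470 (tt N57369 D107677) (tt N57370 D107678) (tt N57310 (iv2 F166018)) (tt N57365 (iv3 F166300)) (tt N15209 F78615) (tt N57371 D107679) (tt N15208 (iv6 D49745)) (tt N57372 D107680))
theorem Q30472 : ∀ i, i < 30472 → P i := stepQ 30471 Q30471 (allL N30471 (tt N57312 F166028) (tt N15209 (iv0 D49746)) (tt N30653 F166142) (tt N30607 F166133) (tt N57373 D107681) (tt N57374 D107682) (tt N18321 F95305) (tt N57311 (iv7 F166144)))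
theorem Q30473 : ∀ i, i < 30473 → P i := stepQ 30472 Q30472 (allL N30472 (tt N15209 (iv1 D49747)) (tt N57312 F166027) (tt N57311 F166145) (tt N15220 F166146) (tt N57375 D107683) (tt N35915 F166147) (tt N57376 D107684) (tt N30653 F166148))
theorem Q30474 : ∀ i, i < 30474 → P i := stepQ 30473 Q30473 (allL N30473 (tt N57311 (iv1 F166022)) (tt N30653 (iv0 F166075)) (tt N57312 (iv2 F166023)) (tt N57358 (iv3 F166292)) (tt N57372 (iv4 F166313)) (tt N15697 (iv5 F80302)) (tt N55909 (iv6 F162120)) (tt N15209 (iv7 D49748)))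
theorem Q30475 : ∀ i, i < 30475 → P i := stepQ 30474 Q30474 (allL N30474 (tt N53530 (iv1 F329704)) (tt N53524 (iv0 F329693)) (tt N31400 (iv2 F80598)) (tt N15212 F78616) (tt N31582 (iv4 F80946)) (tt N15411 F78617) (tt N15210 (iv6 D49749)) (tt N57377 D107687))
theorem Q30476 : ∀ i, i < 30476 → P i := stepQ 30475 Q30475 (allL N30475 (tt N57378 D107688) (tt N25175 (iv0 F321287)) (tt N57379 D107690) (tt N15211 (iv3 D49750)) (tt N31580 (iv4 F80941)) (tt N57380 D107691) (tt N51216 (iv6 F335390)) (tt N57308 (iv7 F166014)))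
theorem Q30477 : ∀ i, i < 30477 → P i := stepQ 30476 Q30476 (allL N30476 (tt N57367 (iv1 F166306)) (tt N57366 F166303) (tt N55910 (iv2 F162123)) (tt N57380 (iv3 F166326)) (tt N33023 (iv4 F83918)) (tt N15211 (iv5 D49751)) (tt N57381 D107693) (tt N57309 (iv7 F166017)))
theorem Q30478 : ∀ i, i < 30478 → P i := stepQ 30477 Q30477 (allL N30477 (tt N57382 D107694) (tt N57383 D107695) (tt N55908 (iv2 F162116)) (tt N51216 (iv3 F335389)) (tt N15212 F78618) (tt N57384 D107696) (tt N15211 (iv6 D49752)) (tt N57385 D107697))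
theorem Q30479 : ∀ i, i < 30479 → P i := stepQ 30478 Q30478 (allL N30478 (tt N55909 (iv1 F162122)) (tt N15212 (iv0 D49753)) (tt N55907 F162095) (tt N15222 F101919) (tt N34381 (iv4 F319214)) (tt N20893 F101920) (tt N57386 D107699) (tt N20895 F101921))
theorem Q30480 : ∀ i, i < 30480 → P i := stepQ 30479 Q30479 (allL N30479 (tt N15212 (iv1 D49754)) (tt N55909 F162121) (tt N20895 F101888) (tt N30614 F101890) (tt N44110 (iv4 F321638)) (tt N30614 (iv5 F93885)) (tt N18311 (iv6 F93887)) (tt N55907 (iv7 F162100)))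
theorem Q30481 : ∀ i, i < 30481 → P i := stepQ 30480 Q30480 (allL N30480 (tt N20895 F162017) (tt N55907 F162101) (tt N55909 (iv2 F162118)) (tt N57377 (iv3 F166323)) (tt N57385 (iv4 F166328)) (tt N20887 F111397) (tt N57312 (iv6 F166026)) (tt N15212 (iv7 D49755)))
theorem Q30482 : ∀ i, i < 30482 → P i := stepQ 30481 Q30481 (allL N30481 (tt N48119 F323266) (tt N57387 D107702) (tt N57388 D107703) (tt N15213 (iv3 D49756)) (tt N32155 (iv4 F82433)) (tt N42014 F339808) (tt N57389 D107705) (tt N55067 (iv7 F331339)))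
theorem Q30483 : ∀ i, i < 30483 → P i := stepQ 30482 Q30482 (allL N30482 (tt N57390 D107706) (tt N37009 (iv0 F95409)) (tt N38855 (iv2 F98905)) (tt N42014 (iv3 F339807)) (tt N33017 (iv4 F83890)) (tt N15213 (iv5 D49757)) (tt N41692 F330332) (tt N57313 (iv7 F166033)))
theorem Q30484 : ∀ i, i < 30484 → P i := stepQ 30483 Q30483 (allL N30483 (tt N57373 (iv1 F167353)) (tt N57375 (iv0 F166316)) (tt N39287 (iv2 F99859)) (tt N57389 (iv3 F166347)) (tt N30732 (iv4 F79311)) (tt N57391 D107709) (tt N15213 (iv6 D49758)) (tt N57392 D107710))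
theorem Q30485 : ∀ i, i < 30485 → P i := stepQ 30484 Q30484 (allL N30484 (tt N57393 D107711) (tt N57394 D107712) (tt N57395 D107713) (tt N15214 (iv3 D49759)) (tt N33101 (iv4 F84081)) (tt N47498 F323563) (tt N57396 D107715) (tt N39286 (iv7 F99858)))
theorem Q30486 : ∀ i, i < 30486 → P i := stepQ 30485 Q30485 (allL N30485 (tt N37009 (iv1 F95410)) (tt N57390 F166352) (tt N57313 (iv2 F166031)) (tt N47498 (iv3 F321881)) (tt N19610 F78619) (tt N15214 (iv5 D49760)) (tt N57397 D107716) (tt N38855 (iv7 F98906)))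
theorem Q30487 : ∀ i, i < 30487 → P i := stepQ 30486 Q30486 (allL N30486 (tt N34381 F321263) (tt N44110 (iv0 F321637)) (tt N44108 F323323) (tt N57396 (iv3 F166355)) (tt N30733 (iv4 F79313)) (tt N57398 D107717) (tt N15214 (iv6 D49761)) (tt N44109 F323324))
theorem Q30488 : ∀ i, i < 30488 → P i := stepQ 30487 Q30487 (allL N30487 (tt N33035 (iv1 F83942)) (tt N15215 (iv0 D49767)) (tt N38236 (iv2 F97736)) (tt N57399 D107737) (tt N23842 F326284) (tt N18899 F78625) (tt N23841 F326285) (tt N38166 (iv7 F97572)))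
theorem Q30489 : ∀ i, i < 30489 → P i := stepQ 30488 Q30488 (allL N30488 (tt N15215 (iv1 D49768)) (tt N33035 (iv0 F83941)) (tt N38166 (iv2 F97571)) (tt N47521 F324292) (tt N18935 (iv4 F79298)) (tt N30729 F79297) (tt N57400 D107740) (tt N38236 (iv7 F97738)))
theorem Q30490 : ∀ i, i < 30490 → P i := stepQ 30489 Q30489 (allL N30489 (tt N33034 (iv1 F83936)) (tt N33033 F83935) (tt N33037 (iv2 F83946)) (tt N42352 (iv3 F321541)) (tt N15215 (iv4 D49769)) (tt N16574 F78626) (tt N57401 D107742) (tt N16573 (iv7 F78627)))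
theorem Q30491 : ∀ i, i < 30491 → P i := stepQ 30490 Q30490 (allL N30490 (tt N57402 D107743) (tt N57403 D107744) (tt N57315 (iv2 F166042)) (tt N37077 F319583) (tt N57401 (iv4 F166377)) (tt N18338 F78628) (tt N15215 (iv6 D49770)) (tt N57404 D107745))
theorem Q30492 : ∀ i, i < 30492 → P i := stepQ 30491 Q30491 (allL N30491 (tt N38166 (iv1 F97575)) (tt N38236 (iv0 F97739)) (tt N33035 (iv2 F83939)) (tt N34573 F316238) (tt N16573 F78629) (tt N15216 F78630) (tt N57405 D107746) (tt N15215 (iv7 D49771)))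
theorem Q30493 : ∀ i, i < 30493 → P i := stepQ 30492 Q30492 (allL N30492 (tt N57406 D107747) (tt N39845 (iv0 F101316)) (tt N57316 (iv2 F166044)) (tt N34639 F313848) (tt N15217 F78631) (tt N34638 (iv5 F316305)) (tt N15216 (iv6 D49772)) (tt N18340 F78632))
theorem Q30494 : ∀ i, i < 30494 → P i := stepQ 30493 Q30493 (allL N30493 (tt N18270 (iv1 F78633)) (tt N15217 (iv0 D49773)) (tt N18342 (iv2 F171844)) (tt N57407 D107750) (tt N57408 D107751) (tt N41217 (iv5 F103659)) (tt N57409 D107752) (tt N18341 F171843))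
theorem Q30495 : ∀ i, i < 30495 → P i := stepQ 30494 Q30494 (allL N30494 (tt N15217 (iv1 D49774)) (tt N18270 F78634) (tt N18341 F171842) (tt N31449 (iv3 F168333)) (tt N57410 D107755) (tt N57411 D107756) (tt N37055 F95464) (tt N18342 (iv7 F171845)))
theorem Q30496 : ∀ i, i < 30496 → P i := stepQ 30495 Q30495 (allL N30495 (tt N31462 (iv1 F80706)) (tt N15218 (iv0 D49775)) (tt N31460 (iv2 F166410)) (tt N57412 D107758) (tt N57413 D107759) (tt N57414 D107760) (tt N30404 F94058) (tt N31461 (iv7 F166417)))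
theorem Q30497 : ∀ i, i < 30497 → P i := stepQ 30496 Q30496 (allL N30496 (tt N15218 (iv1 D49776)) (tt N31462 F80705) (tt N31461 F166418) (tt N57415 D107761) (tt N57416 D107762) (tt N35877 (iv5 F93418)) (tt N57246 (iv6 F165888)) (tt N31460 (iv7 F166411)))
theorem Q30498 : ∀ i, i < 30498 → P i := stepQ 30497 Q30497 (allL N30497 (tt N31461 (iv1 F80701)) (tt N31460 F80704) (tt N31462 (iv2 F80702)) (tt N15221 F78635) (tt N56856 (iv4 F164946)) (tt N15706 F78636) (tt N20836 F78637) (tt N15218 (iv7 D49777)))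
theorem Q30499 : ∀ i, i < 30499 → P i := stepQ 30498 Q30498 (allL N30498 (tt N30609 F166078) (tt N30571 (iv0 F166080)) (tt N30607 F166143) (tt N15219 (iv3 D49779)) (tt N57417 D107763) (tt N57418 D107764) (tt N18361 F78640) (tt N30608 (iv7 F166175)))
theorem Q30500 : ∀ i, i < 30500 → P i := stepQ 30499 Q30499 (allL N30499 (tt N18131 F78641) (tt N18122 (iv0 F78642)) (tt N30654 (iv2 F79069)) (tt N57418 (iv3 F166515)) (tt N23622 F325051) (tt N15219 (iv5 D49780)) (tt N30654 (iv6 F79070)) (tt N18149 F78666))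
theorem Q30501 : ∀ i, i < 30501 → P i := stepQ 30500 Q30500 (allL N30500 (tt N18192 F78646) (tt N18193 (iv0 F78647)) (tt N21068 F78662) (tt N57376 (iv3 F166317)) (tt N39952 (iv4 F100902)) (tt N15663 F78644) (tt N15220 (iv6 D49783)) (tt N18360 F78645))
theorem Q30502 : ∀ i, i < 30502 → P i := stepQ 30501 Q30501 (allL N30501 (tt N18382 F78693) (tt N19269 (iv0 F78694)) (tt N20894 F78690) (tt N57386 (iv3 F166331)) (tt N22783 F312225) (tt N19209 F78691) (tt N15222 (iv6 D49785)) (tt N18350 F78692))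
theorem Q30503 : ∀ i, i < 30503 → P i := stepQ 30502 Q30502 (allL N30502 (tt N15223 (iv1 D49807)) (tt N30671 F79103) (tt N30670 F200110) (tt N57419 D107848) (tt N22847 F166586) (tt N21674 (iv5 F312653)) (tt N42872 F310474) (tt N30669 (iv7 F200114)))
theorem Q30504 : ∀ i, i < 30504 → P i := stepQ 30503 Q30503 (allL N30503 (tt N30670 (iv1 F79097)) (tt N30669 F79102) (tt N30671 (iv2 F79098)) (tt N21555 (iv3 F311676)) (tt N30688 (iv4 F79226)) (tt N18378 F78711) (tt N21553 F309496) (tt N15223 (iv7 D49808)))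
theorem Q30505 : ∀ i, i < 30505 → P i := stepQ 30504 Q30504 (allL N30504 (tt N40593 (iv1 F102229)) (tt N40592 F102226) (tt N30672 (iv2 F79105)) (tt N33859 (iv3 F313487)) (tt N57420 D107852) (tt N15224 (iv5 D49809)) (tt N30685 (iv6 F79204)) (tt N18379 F78712))
theorem Q30506 : ∀ i, i < 30506 → P i := stepQ 30505 Q30505 (allL N30505 (tt N17178 (iv1 F78716)) (tt N15225 (iv0 D49810)) (tt N17175 (iv2 F78715)) (tt N26384 F78713) (tt N32800 (iv4 F83557)) (tt N44499 (iv5 F112344)) (tt N21250 F78714) (tt N17176 F78717))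
theorem Q30507 : ∀ i, i < 30507 → P i := stepQ 30506 Q30506 (allL N30506 (tt N22830 (iv1 F78726)) (tt N15227 (iv0 D49813)) (tt N22827 (iv2 F105744)) (tt N43443 (iv3 F190791)) (tt N22829 (iv4 F301917)) (tt N57421 D107859) (tt N21700 (iv6 F302969)) (tt N22828 (iv7 F105746)))
theorem Q30508 : ∀ i, i < 30508 → P i := stepQ 30507 Q30507 (allL N30507 (tt N15227 (iv1 D49814)) (tt N22830 F78723) (tt N22828 F105747) (tt N54296 (iv3 F304061)) (tt N38348 F112460) (tt N41034 F305203) (tt N41036 (iv6 F305337)) (tt N22827 F105745))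
theorem Q30509 : ∀ i, i < 30509 → P i := stepQ 30508 Q30508 (allL N30508 (tt N22828 (iv1 F78727)) (tt N22827 F78728) (tt N22830 F78724) (tt N25385 (iv3 F303444)) (tt N21738 (iv4 F305255)) (tt N38348 F305261) (tt N21737 (iv6 F305336)) (tt N15227 (iv7 D49815)))
theorem Q30510 : ∀ i, i < 30510 → P i := stepQ 30509 Q30509 (allL N30509 (tt N16906 F78733) (tt N16894 (iv0 F78735)) (tt N16903 F78729) (tt N16904 F78730) (tt N26083 F78731) (tt N23330 F78734) (tt N15229 (iv6 D49816)) (tt N16904 F78732))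
theorem Q30511 : ∀ i, i < 30511 → P i := stepQ 30510 Q30510 (allL N30510 (tt N37625 (iv1 F96350)) (tt N19500 F78738) (tt N37627 F96354) (tt N21987 (iv3 F309946)) (tt N15231 (iv4 D49817)) (tt N57422 D107863) (tt N45231 (iv6 F309386)) (tt N21981 F307964))
theorem Q30512 : ∀ i, i < 30512 → P i := stepQ 30511 Q30511 (allL N30511 (tt N42474 F307341) (tt N42470 F307342) (tt N45249 (iv2 F114908)) (tt N15232 F78739) (tt N45231 (iv4 F309385)) (tt N22534 F78740) (tt N15231 (iv6 D49818)) (tt N45229 F307343))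
theorem Q30513 : ∀ i, i < 30513 → P i := stepQ 30512 Q30512 (allL N30512 (tt N21737 F307315) (tt N15232 (iv0 D49819)) (tt N22833 (iv2 F189538)) (tt N57423 D107869) (tt N34320 F307316) (tt N25176 (iv5 F87387)) (tt N40211 F316149) (tt N22834 F189537))
theorem Q30514 : ∀ i, i < 30514 → P i := stepQ 30513 Q30513 (allL N30513 (tt N15232 (iv1 D49820)) (tt N21737 F307313) (tt N22834 F189536) (tt N57424 D107873) (tt N34321 F307314) (tt N25177 (iv5 F92358)) (tt N42304 (iv6 F309327)) (tt N22833 (iv7 F189539)))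
theorem Q30515 : ∀ i, i < 30515 → P i := stepQ 30514 Q30514 (allL N30514 (tt N57425 D107876) (tt N57426 D107877) (tt N37469 (iv2 F96055)) (tt N22302 (iv3 F313362)) (tt N15233 (iv4 D49822)) (tt N57427 D107878) (tt N22301 (iv6 F311641)) (tt N22797 F78748))
theorem Q30516 : ∀ i, i < 30516 → P i := stepQ 30515 Q30515 (allL N30515 (tt N22787 (iv1 F78751)) (tt N15234 (iv0 D49823)) (tt N22791 (iv2 F78750)) (tt N19071 F78753) (tt N46130 F310705) (tt N15318 F78749) (tt N45273 (iv6 F114994)) (tt N22790 F78752))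
theorem Q30517 : ∀ i, i < 30517 → P i := stepQ 30516 Q30516 (allL N30516 (tt N38313 (iv1 F97935)) (tt N19056 F78755) (tt N38321 F97961) (tt N22440 (iv3 F312045)) (tt N15234 (iv4 D49824)) (tt N42294 (iv5 F312048)) (tt N22437 F309853) (tt N22792 F78754))
theorem Q30518 : ∀ i, i < 30518 → P i := stepQ 30517 Q30517 (allL N30517 (tt N25485 F307422) (tt N46191 (iv0 F308053)) (tt N45248 (iv2 F114906)) (tt N15236 F78756) (tt N22437 (iv4 F307998)) (tt N42936 (iv5 F107751)) (tt N15234 (iv6 D49825)) (tt N42699 (iv7 F308051)))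
theorem Q30519 : ∀ i, i < 30519 → P i := stepQ 30518 Q30518 (allL N30518 (tt N15236 (iv1 D49827)) (tt N22803 F78757) (tt N22801 (iv2 F86571)) (tt N57428 D107889) (tt N23892 (iv4 F308891)) (tt N20381 (iv5 F309122)) (tt N22513 (iv6 F78758)) (tt N22800 (iv7 F86573)))
theorem Q30520 : ∀ i, i < 30520 → P i := stepQ 30519 Q30519 (allL N30519 (tt N15250 F78769) (tt N15249 F78767) (tt N15253 F78765) (tt N30674 (iv3 F79114)) (tt N22016 F78768) (tt N15237 (iv5 D49829)) (tt N57429 D107891) (tt N15248 F78766))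
theorem Q30521 : ∀ i, i < 30521 → P i := stepQ 30520 Q30520 (allL N30520 (tt N44488 (iv1 F112263)) (tt N17008 (iv0 F78777)) (tt N30676 (iv2 F79128)) (tt N15238 (iv3 D49830)) (tt N19402 F78770) (tt N57430 D107892) (tt N20932 F78771) (tt N15244 F78772))
theorem Q30522 : ∀ i, i < 30522 → P i := stepQ 30521 Q30521 (allL N30521 (tt N19059 F78780) (tt N35494 (iv0 F311354)) (tt N15241 F78778) (tt N57430 (iv3 F166708)) (tt N28287 F310768) (tt N15238 (iv5 D49831)) (tt N28286 F310769) (tt N15246 F78779))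
theorem Q30523 : ∀ i, i < 30523 → P i := stepQ 30522 Q30522 (allL N30522 (tt N15245 F78784) (tt N15240 (iv0 D49832)) (tt N36251 (iv2 F94197)) (tt N37279 (iv3 F95741)) (tt N19369 F78781) (tt N57431 D107894) (tt N29705 (iv6 F78782)) (tt N23306 (iv7 F78783)))
theorem Q30524 : ∀ i, i < 30524 → P i := stepQ 30523 Q30523 (allL N30523 (tt N15240 (iv1 D49833)) (tt N15245 F78785) (tt N23306 F78787) (tt N16363 F78788) (tt N17542 (iv4 F78786)) (tt N57432 D107895) (tt N16362 F78789) (tt N36251 (iv7 F94200)))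
theorem Q30525 : ∀ i, i < 30525 → P i := stepQ 30524 Q30524 (allL N30524 (tt N23314 F78792) (tt N17533 F78793) (tt N23311 F78790) (tt N15240 (iv3 D49834)) (tt N18219 F78791) (tt N57433 D107896) (tt N36248 F94190) (tt N23312 F78794))
theorem Q30526 : ∀ i, i < 30526 → P i := stepQ 30525 Q30525 (allL N30525 (tt N22008 F78796) (tt N21999 F78797) (tt N56620 (iv2 F164457)) (tt N57433 (iv3 F166724)) (tt N57434 D107897) (tt N15240 (iv5 D49835)) (tt N57435 D107898) (tt N57436 D107899))
theorem Q30527 : ∀ i, i < 30527 → P i := stepQ 30526 Q30526 (allL N30526 (tt N17537 F78800) (tt N23294 F78801) (tt N20933 F78798) (tt N36248 (iv3 F94187)) (tt N15242 F78799) (tt N57437 D107900) (tt N15240 (iv6 D49836)) (tt N20930 (iv7 F78802)))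
theorem Q30528 : ∀ i, i < 30528 → P i := stepQ 30527 Q30527 (allL N30527 (tt N23306 F78806) (tt N36251 F94201) (tt N15245 F78803) (tt N23312 F78804) (tt N15243 F78805) (tt N57436 (iv5 F166729)) (tt N45317 (iv6 F115154)) (tt N15240 (iv7 D49837)))
theorem Q30529 : ∀ i, i < 30529 → P i := stepQ 30528 Q30528 (allL N30528 (tt N22009 F78812) (tt N22002 F78813) (tt N28287 (iv2 F309780)) (tt N57438 D107903) (tt N15241 (iv4 D49839)) (tt N57439 D107904) (tt N24782 F307764) (tt N57440 D107906))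
theorem Q30530 : ∀ i, i < 30530 → P i := stepQ 30529 Q30529 (allL N30529 (tt N35494 (iv1 F311355)) (tt N19059 (iv0 F78817)) (tt N15246 F78814) (tt N19038 F78815) (tt N57440 (iv4 F166743)) (tt N15243 F78816) (tt N48457 F313277) (tt N15241 (iv7 D49841)))
theorem Q30531 : ∀ i, i < 30531 → P i := stepQ 30530 Q30530 (allL N30530 (tt N17008 F78820) (tt N44488 F112264) (tt N15244 (iv2 D49842)) (tt N18217 F78818) (tt N19403 F78819) (tt N38332 (iv5 F97988)) (tt N45326 (iv6 F115246)) (tt N30676 (iv7 F79130)))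
theorem Q30532 : ∀ i, i < 30532 → P i := stepQ 30531 Q30531 (allL N30531 (tt N57441 D107911) (tt N19079 (iv0 F95771)) (tt N38332 (iv2 F97987)) (tt N15246 F78821) (tt N38294 (iv4 F97872)) (tt N15244 (iv5 D49843)) (tt N57442 D107912) (tt N57430 (iv7 F166709)))
theorem Q30533 : ∀ i, i < 30533 → P i := stepQ 30532 Q30532 (allL N30532 (tt N57443 D107913) (tt N20977 F115250) (tt N45326 (iv2 F115243)) (tt N15247 F78822) (tt N37291 (iv4 F95772)) (tt N57444 D107914) (tt N15244 (iv6 D49844)) (tt N45318 (iv7 F115162)))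
theorem Q30534 : ∀ i, i < 30534 → P i := stepQ 30533 Q30533 (allL N30533 (tt N21999 F78823) (tt N22008 F78824) (tt N57436 (iv2 F166727)) (tt N56626 (iv3 F164476)) (tt N57445 D107915) (tt N15245 (iv5 D49845)) (tt N57446 D107916) (tt N56620 (iv7 F164459)))
theorem Q30535 : ∀ i, i < 30535 → P i := stepQ 30534 Q30534 (allL N30534 (tt N57447 D107917) (tt N23340 (iv0 F78826)) (tt N45317 (iv2 F115152)) (tt N56627 (iv3 F164481)) (tt N15247 F78825) (tt N57448 D107918) (tt N15245 (iv6 D49846)) (tt N45319 (iv7 F115171)))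
theorem Q30536 : ∀ i, i < 30536 → P i := stepQ 30535 Q30535 (allL N30535 (tt N22002 F78827) (tt N22009 F78828) (tt N57440 (iv2 F166742)) (tt N57449 D107919) (tt N15246 (iv4 D49847)) (tt N57450 D107920) (tt N57451 D107921) (tt N28287 F311988))
theorem Q30537 : ∀ i, i < 30537 → P i := stepQ 30536 Q30536 (allL N30536 (tt N43082 F308876) (tt N46532 (iv0 F311022)) (tt N48457 F313274) (tt N57442 (iv3 F166755)) (tt N57451 (iv4 F166779)) (tt N57452 D107924) (tt N15246 (iv6 D49848)) (tt N47673 F313269))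
theorem Q30538 : ∀ i, i < 30538 → P i := stepQ 30537 Q30537 (allL N30537 (tt N17057 F78831) (tt N21881 (iv0 F78832)) (tt N21883 F78829) (tt N57444 (iv3 F166764)) (tt N57453 D107926) (tt N15247 (iv5 D49849)) (tt N57452 (iv6 F166781)) (tt N21884 F78830))
theorem Q30539 : ∀ i, i < 30539 → P i := stepQ 30538 Q30538 (allL N30538 (tt N15253 (iv1 F78834)) (tt N15248 (iv0 D49850)) (tt N15249 (iv2 F78835)) (tt N32801 (iv3 F83563)) (tt N43121 (iv4 F108157)) (tt N19490 F78833) (tt N34833 F305315) (tt N15250 (iv7 F78836)))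
theorem Q30540 : ∀ i, i < 30540 → P i := stepQ 30539 Q30539 (allL N30539 (tt N15248 (iv1 D49851)) (tt N15253 F78837) (tt N15250 (iv2 F78840)) (tt N19479 (iv3 F78841)) (tt N43120 (iv4 F108151)) (tt N19478 F78839) (tt N57454 D107928) (tt N15249 F78838))
theorem Q30541 : ∀ i, i < 30541 → P i := stepQ 30540 Q30540 (allL N30540 (tt N21949 F78844) (tt N22019 F78845) (tt N15251 F78842) (tt N34481 (iv3 F312878)) (tt N15248 (iv4 D49852)) (tt N57455 D107930) (tt N46734 (iv6 F313616)) (tt N22016 F78843))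
theorem Q30542 : ∀ i, i < 30542 → P i := stepQ 30541 Q30541 (allL N30541 (tt N57456 D107932) (tt N46557 F311811) (tt N15252 F78846) (tt N27718 F311262) (tt N46734 (iv4 F313615)) (tt N21535 F78847) (tt N15248 (iv6 D49853)) (tt N46581 (iv7 F313555)))
theorem Q30543 : ∀ i, i < 30543 → P i := stepQ 30542 Q30542 (allL N30542 (tt N43014 (iv1 F107940)) (tt N43015 (iv0 F107943)) (tt N43121 F108158) (tt N57457 D107934) (tt N15249 (iv4 D49854)) (tt N57458 D107935) (tt N44559 F309238) (tt N43120 F108154))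
theorem Q30544 : ∀ i, i < 30544 → P i := stepQ 30543 Q30543 (allL N30543 (tt N36428 (iv1 F94573)) (tt N36427 F94572) (tt N36430 (iv2 F94579)) (tt N15250 (iv3 D49856)) (tt N37379 (iv4 F95896)) (tt N32802 (iv5 F83569)) (tt N57459 D107940) (tt N32801 F83565))
theorem Q30545 : ∀ i, i < 30545 → P i := stepQ 30544 Q30544 (allL N30544 (tt N43015 (iv1 F107944)) (tt N43014 (iv0 F107939)) (tt N43120 F108153) (tt N57460 D107941) (tt N15250 (iv4 D49857)) (tt N57461 D107942) (tt N57462 D107943) (tt N43121 (iv7 F108156)))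
theorem Q30546 : ∀ i, i < 30546 → P i := stepQ 30545 Q30545 (allL N30545 (tt N44485 (iv1 F247541)) (tt N57463 D107945) (tt N57454 (iv2 F166788)) (tt N57459 (iv3 F166807)) (tt N57462 (iv4 F166808)) (tt N57464 D107946) (tt N15250 (iv6 D49858)) (tt N48766 F307735))
theorem Q30547 : ∀ i, i < 30547 → P i := stepQ 30546 Q30546 (allL N30546 (tt N15251 (iv1 D49859)) (tt N22016 F78848) (tt N22019 (iv2 F78851)) (tt N57465 D107948) (tt N21950 F78850) (tt N57466 D107949) (tt N57467 D107950) (tt N21949 F78849))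
theorem Q30548 : ∀ i, i < 30548 → P i := stepQ 30547 Q30547 (allL N30547 (tt N34879 (iv1 F312685)) (tt N57468 D107952) (tt N34536 (iv2 F312655)) (tt N15251 (iv3 D49860)) (tt N15254 F78852) (tt N57469 D107954) (tt N42769 (iv6 F311672)) (tt N30666 (iv7 F79092)))
theorem Q30549 : ∀ i, i < 30549 → P i := stepQ 30548 Q30548 (allL N30548 (tt N57470 D107956) (tt N57471 D107957) (tt N57455 (iv2 F166793)) (tt N57469 (iv3 F166821)) (tt N57472 D107958) (tt N15251 (iv5 D49861)) (tt N57473 D107959) (tt N57474 D107960))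
theorem Q30550 : ∀ i, i < 30550 → P i := stepQ 30549 Q30549 (allL N30549 (tt N57475 D107961) (tt N46720 F314399) (tt N46734 (iv2 F313614)) (tt N42769 (iv3 F311671)) (tt N15252 F78853) (tt N57476 D107963) (tt N15251 (iv6 D49862)) (tt N57477 D107964))
theorem Q30551 : ∀ i, i < 30551 → P i := stepQ 30550 Q30550 (allL N30550 (tt N22019 (iv1 F78856)) (tt N21949 F78857) (tt N22016 F78854) (tt N30666 (iv3 F79091)) (tt N15253 F78855) (tt N57474 (iv5 F166829)) (tt N57478 D107965) (tt N15251 (iv7 D49863)))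
theorem Q30552 : ∀ i, i < 30552 → P i := stepQ 30551 Q30551 (allL N30551 (tt N46581 (iv1 F313553)) (tt N15252 (iv0 D49864)) (tt N57456 (iv2 F166802)) (tt N25459 (iv3 F305243)) (tt N53289 (iv4 F311966)) (tt N25450 (iv5 F303810)) (tt N25453 (iv6 F305244)) (tt N46557 F311815))
theorem Q30553 : ∀ i, i < 30553 → P i := stepQ 30552 Q30552 (allL N30552 (tt N15252 (iv1 D49865)) (tt N46581 (iv0 F313552)) (tt N46557 F311813) (tt N57479 D107969) (tt N52718 (iv4 F313612)) (tt N45741 (iv5 F257173)) (tt N27679 (iv6 F314252)) (tt N57456 (iv7 F166801)))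
theorem Q30554 : ∀ i, i < 30554 → P i := stepQ 30553 Q30553 (allL N30553 (tt N46557 F311812) (tt N57456 F166799) (tt N46581 (iv2 F313554)) (tt N15258 F78858) (tt N57477 (iv4 F166831)) (tt N21550 F78859) (tt N57480 D107972) (tt N15252 (iv7 D49866)))
theorem Q30555 : ∀ i, i < 30555 → P i := stepQ 30554 Q30554 (allL N30554 (tt N57481 D107973) (tt N57482 D107974) (tt N57429 (iv2 F166705)) (tt N15259 F78860) (tt N57478 (iv4 F166833)) (tt N41685 (iv5 F104729)) (tt N15253 (iv6 D49867)) (tt N57480 (iv7 F166837)))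
theorem Q30556 : ∀ i, i < 30556 → P i := stepQ 30555 Q30555 (allL N30555 (tt N15254 (iv1 D49869)) (tt N30663 F79087) (tt N30664 F212679) (tt N57483 D107981) (tt N57484 D107982) (tt N25254 (iv5 F312666)) (tt N42804 (iv6 F312667)) (tt N30665 F212680))
theorem Q30557 : ∀ i, i < 30557 → P i := stepQ 30556 Q30556 (allL N30556 (tt N21817 F309490) (tt N46516 F309491) (tt N30685 (iv2 F79203)) (tt N42770 (iv3 F311673)) (tt N45484 (iv4 F116014)) (tt N15255 (iv5 D49873)) (tt N30672 (iv6 F79106)) (tt N38329 (iv7 F311131)))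
theorem Q30558 : ∀ i, i < 30558 → P i := stepQ 30557 Q30557 (allL N30557 (tt N37589 F184653) (tt N21579 (iv0 F184654)) (tt N37588 (iv2 F184625)) (tt N15256 (iv3 D49875)) (tt N47351 (iv4 F313492)) (tt N45742 (iv5 F119567)) (tt N57485 D107998) (tt N30687 (iv7 F79218)))
theorem Q30559 : ∀ i, i < 30559 → P i := stepQ 30558 Q30558 (allL N30558 (tt N34575 F307236) (tt N42854 (iv0 F309009)) (tt N30686 (iv2 F79215)) (tt N57485 (iv3 F166862)) (tt N21756 (iv4 F309190)) (tt N19487 F78868) (tt N15256 (iv6 D49876)) (tt N21754 (iv7 F309087)))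
theorem Q30560 : ∀ i, i < 30560 → P i := stepQ 30559 Q30559 (allL N30559 (tt N30690 (iv1 F79231)) (tt N30689 F79230) (tt N30688 (iv2 F79225)) (tt N57480 (iv3 F166836)) (tt N30671 (iv4 F79099)) (tt N41689 (iv5 F104736)) (tt N15258 (iv6 D49879)) (tt N15259 F78871))
theorem Q30561 : ∀ i, i < 30561 → P i := stepQ 30560 Q30560 (allL N30560 (tt N30688 (iv1 F79229)) (tt N15259 (iv0 D49880)) (tt N30689 F200022) (tt N37581 F326047) (tt N20295 F104785) (tt N57486 D108003) (tt N42641 (iv6 F106692)) (tt N30690 (iv7 F200027)))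
theorem Q30562 : ∀ i, i < 30562 → P i := stepQ 30561 Q30561 (allL N30561 (tt N15259 (iv1 D49881)) (tt N30688 F79228) (tt N30690 (iv2 F200026)) (tt N19503 (iv3 F237438)) (tt N20296 F104782) (tt N57487 D108006) (tt N39920 F316343) (tt N30689 F200025))
theorem Q30563 : ∀ i, i < 30563 → P i := stepQ 30562 Q30562 (allL N30562 (tt N15680 (iv1 F78874)) (tt N15262 (iv0 D49882)) (tt N29493 (iv2 F78873)) (tt N57488 D108008) (tt N15836 F78872) (tt N57489 D108009) (tt N57490 D108010) (tt N15884 F78875))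
theorem Q30564 : ∀ i, i < 30564 → P i := stepQ 30563 Q30563 (allL N30563 (tt N21368 F78877) (tt N57491 D108011) (tt N57492 D108012) (tt N15262 (iv3 D49883)) (tt N31125 (iv4 F79979)) (tt N57493 D108013) (tt N30428 F78876) (tt N31986 (iv7 F81962)))
theorem Q30565 : ∀ i, i < 30565 → P i := stepQ 30564 Q30564 (allL N30564 (tt N57494 D108014) (tt N32294 (iv0 F82672)) (tt N30566 (iv2 F78879)) (tt N57493 (iv3 F166915)) (tt N31091 F79918) (tt N15262 (iv5 D49884)) (tt N57495 D108015) (tt N31987 (iv7 F81965)))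
theorem Q30566 : ∀ i, i < 30566 → P i := stepQ 30565 Q30565 (allL N30565 (tt N57496 D108016) (tt N25334 F321445) (tt N57497 D108018) (tt N15263 (iv3 D49885)) (tt N38688 (iv4 F98646)) (tt N57498 D108019) (tt N30430 F78878) (tt N31317 (iv7 F80431)))
theorem Q30567 : ∀ i, i < 30567 → P i := stepQ 30566 Q30566 (allL N30566 (tt N55618 (iv1 F161101)) (tt N31669 (iv0 F81149)) (tt N30564 F78879) (tt N57498 (iv3 F166936)) (tt N31815 (iv4 F81401)) (tt N15263 (iv5 D49886)) (tt N57499 D108020) (tt N31318 (iv7 F80433)))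
theorem Q30568 : ∀ i, i < 30568 → P i := stepQ 30567 Q30567 (allL N30567 (tt N15264 (iv1 D49887)) (tt N15265 F78880) (tt N15275 (iv2 F78883)) (tt N20897 (iv3 F78884)) (tt N44183 (iv4 F111053)) (tt N16066 F78882) (tt N29644 (iv6 F78885)) (tt N15274 F78881))
theorem Q30569 : ∀ i, i < 30569 → P i := stepQ 30568 Q30568 (allL N30568 (tt N38172 (iv1 F97589)) (tt N39414 (iv0 F100140)) (tt N15276 F78886) (tt N57500 D108021) (tt N15264 (iv4 D49888)) (tt N57501 D108022) (tt N36128 (iv6 F93989)) (tt N15282 F78887))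
theorem Q30570 : ∀ i, i < 30570 → P i := stepQ 30569 Q30569 (allL N30569 (tt N39414 (iv1 F100141)) (tt N38172 (iv0 F97588)) (tt N15282 F78888) (tt N57502 D108023) (tt N15265 (iv4 D49889)) (tt N57503 D108024) (tt N41247 (iv6 F103719)) (tt N15276 F78889))
theorem Q30571 : ∀ i, i < 30571 → P i := stepQ 30570 Q30570 (allL N30570 (tt N32206 (iv1 F82530)) (tt N15815 F78892) (tt N15285 F78890) (tt N57504 D108025) (tt N15266 (iv4 D49890)) (tt N57505 D108026) (tt N57506 D108027) (tt N15288 F78891))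
theorem Q30572 : ∀ i, i < 30572 → P i := stepQ 30571 Q30571 (allL N30571 (tt N30498 F166080) (tt N57507 D108028) (tt N15286 F78893) (tt N19676 F78894) (tt N57506 (iv4 F166957)) (tt N16042 F78895) (tt N15266 (iv6 D49891)) (tt N57508 D108029))
theorem Q30573 : ∀ i, i < 30573 → P i := stepQ 30572 Q30572 (allL N30572 (tt N57509 D108030) (tt N57510 D108031) (tt N57511 D108032) (tt N15267 (iv3 D49892)) (tt N30438 F78896) (tt N57512 D108033) (tt N29619 F78897) (tt N57513 D108034))
theorem Q30574 : ∀ i, i < 30574 → P i := stepQ 30573 Q30573 (allL N30573 (tt N44184 (iv1 F111060)) (tt N56814 (iv0 F164857)) (tt N15293 F78898) (tt N57512 (iv3 F166971)) (tt N22654 F78899) (tt N15267 (iv5 D49893)) (tt N57514 D108035) (tt N22652 (iv7 F78900)))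
theorem Q30575 : ∀ i, i < 30575 → P i := stepQ 30574 Q30574 (allL N30574 (tt N15291 (iv1 F78904)) (tt N15290 F78905) (tt N15294 F78901) (tt N57513 (iv3 F166973)) (tt N15268 F78902) (tt N22652 F78903) (tt N57515 D108036) (tt N15267 (iv7 D49894)))
theorem Q30576 : ∀ i, i < 30576 → P i := stepQ 30575 Q30575 (allL N30575 (tt N29679 (iv1 F78910)) (tt N29678 F78911) (tt N15295 F78906) (tt N30441 F78907) (tt N57515 (iv4 F166980)) (tt N30575 F78908) (tt N15268 (iv6 D49895)) (tt N29622 F78909))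
theorem Q30577 : ∀ i, i < 30577 → P i := stepQ 30576 Q30576 (allL N30576 (tt N15269 (iv1 D49896)) (tt N19671 F78912) (tt N20840 (iv2 F78914)) (tt N30458 (iv3 F78916)) (tt N19934 (iv4 F78915)) (tt N18274 F78913) (tt N36073 F93924) (tt N31293 (iv7 F80348)))
theorem Q30578 : ∀ i, i < 30578 → P i := stepQ 30577 Q30577 (allL N30577 (tt N19421 F78917) (tt N37802 (iv0 F96622)) (tt N35540 (iv2 F92796)) (tt N57516 D108037) (tt N15269 (iv4 D49897)) (tt N39108 (iv5 F99405)) (tt N57517 D108038) (tt N35542 (iv7 F92803)))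
theorem Q30579 : ∀ i, i < 30579 → P i := stepQ 30578 Q30578 (allL N30578 (tt N54494 (iv1 F328174)) (tt N53977 (iv0 F328164)) (tt N35541 (iv2 F92800)) (tt N15277 F78918) (tt N57517 (iv4 F166989)) (tt N33171 (iv5 F84168)) (tt N15269 (iv6 D49898)) (tt N57518 D108041))
theorem Q30580 : ∀ i, i < 30580 → P i := stepQ 30579 Q30579 (allL N30579 (tt N16140 F78922) (tt N16139 F78923) (tt N16142 F78919) (tt N19654 F78920) (tt N20046 F78924) (tt N15271 (iv5 D49899)) (tt N57519 D108042) (tt N15813 F78921))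
theorem Q30581 : ∀ i, i < 30581 → P i := stepQ 30580 Q30580 (allL N30580 (tt N15280 (iv1 F78927)) (tt N15272 (iv0 D49900)) (tt N19143 (iv2 F78926)) (tt N19667 F78929) (tt N44156 (iv4 F110954)) (tt N18244 F78925) (tt N57520 D108043) (tt N30442 F78928))
theorem Q30582 : ∀ i, i < 30582 → P i := stepQ 30581 Q30581 (allL N30581 (tt N19832 F78932) (tt N20045 F78933) (tt N30443 F78930) (tt N57521 D108044) (tt N15272 (iv4 D49901)) (tt N22650 F78931) (tt N57522 D108045) (tt N37418 (iv7 F95943)))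
theorem Q30583 : ∀ i, i < 30583 → P i := stepQ 30582 Q30582 (allL N30582 (tt N57523 D108046) (tt N57524 D108047) (tt N30444 F78934) (tt N38407 (iv3 F98223)) (tt N57522 (iv4 F167011)) (tt N39186 (iv5 F99609)) (tt N15272 (iv6 D49902)) (tt N57525 D108048))
theorem Q30584 : ∀ i, i < 30584 → P i := stepQ 30583 Q30583 (allL N30583 (tt N22616 F78936) (tt N22604 F78937) (tt N19235 F78935) (tt N57526 D108049) (tt N15274 (iv4 D49903)) (tt N57527 D108050) (tt N57528 D108051) (tt N44183 (iv7 F111052)))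
theorem Q30585 : ∀ i, i < 30585 → P i := stepQ 30584 Q30584 (allL N30584 (tt N41575 (iv1 F104433)) (tt N41574 F104432) (tt N19233 F78938) (tt N30450 F78939) (tt N57528 (iv4 F167043)) (tt N18249 F78940) (tt N15274 (iv6 D49904)) (tt N41569 (iv7 F104422)))
theorem Q30586 : ∀ i, i < 30586 → P i := stepQ 30585 Q30585 (allL N30585 (tt N22604 F78942) (tt N22616 F78943) (tt N44183 F111054) (tt N44313 (iv3 F111594)) (tt N15275 (iv4 D49905)) (tt N57529 D108052) (tt N33559 (iv6 F85111)) (tt N19235 F78941))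
theorem Q30587 : ∀ i, i < 30587 → P i := stepQ 30586 Q30586 (allL N30586 (tt N15282 (iv1 F78945)) (tt N15276 (iv0 D49906)) (tt N38172 (iv2 F97586)) (tt N57530 D108053) (tt N19695 F78944) (tt N57531 D108054) (tt N57532 D108055) (tt N39414 (iv7 F100139)))
theorem Q30588 : ∀ i, i < 30588 → P i := stepQ 30587 Q30587 (allL N30587 (tt N15276 (iv1 D49907)) (tt N15282 F78946) (tt N39414 (iv2 F100138)) (tt N57533 D108056) (tt N18903 F78947) (tt N57534 D108057) (tt N57535 D108058) (tt N38172 (iv7 F97587)))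
theorem Q30589 : ∀ i, i < 30589 → P i := stepQ 30588 Q30588 (allL N30588 (tt N57536 D108059) (tt N57537 D108060) (tt N57538 D108061) (tt N15276 (iv3 D49908)) (tt N57516 (iv4 F166988)) (tt N57539 D108062) (tt N57540 D108063) (tt N57502 (iv7 F166946)))
theorem Q30590 : ∀ i, i < 30590 → P i := stepQ 30589 Q30589 (allL N30589 (tt N57541 D108064) (tt N32205 (iv0 F82525)) (tt N57501 (iv2 F166942)) (tt N57539 (iv3 F167075)) (tt N22651 F78964) (tt N15276 (iv5 D49909)) (tt N57542 D108065) (tt N57503 (iv7 F166949)))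
theorem Q30591 : ∀ i, i < 30591 → P i := stepQ 30590 Q30590 (allL N30590 (tt N57543 D108066) (tt N57544 D108067) (tt N36128 (iv2 F93988)) (tt N57540 (iv3 F167077)) (tt N15277 F78948) (tt N57545 D108068) (tt N15276 (iv6 D49910)) (tt N57546 D108069))
theorem Q30592 : ∀ i, i < 30592 → P i := stepQ 30591 Q30591 (allL N30591 (tt N36129 (iv1 F93995)) (tt N15277 (iv0 D49911)) (tt N22761 (iv2 F111404)) (tt N30456 F111406) (tt N57547 D108070) (tt N44464 (iv5 F112187)) (tt N29635 F93760) (tt N36127 (iv7 F111405)))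
theorem Q30593 : ∀ i, i < 30593 → P i := stepQ 30592 Q30592 (allL N30592 (tt N15277 (iv1 D49912)) (tt N36129 F93994) (tt N36127 F111399) (tt N15299 F111400) (tt N57548 D108071) (tt N20886 F111401) (tt N41297 F111402) (tt N22761 F111403))
theorem Q30594 : ∀ i, i < 30594 → P i := stepQ 30593 Q30593 (allL N30593 (tt N36127 (iv1 F93986)) (tt N22761 (iv0 F101926)) (tt N36129 (iv2 F93990)) (tt N57518 (iv3 F166995)) (tt N57546 (iv4 F167087)) (tt N36010 (iv5 F93795)) (tt N41233 (iv6 F103696)) (tt N15277 (iv7 D49913)))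
theorem Q30595 : ∀ i, i < 30595 → P i := stepQ 30594 Q30594 (allL N30594 (tt N18657 (iv1 F78952)) (tt N15278 (iv0 D49914)) (tt N19668 (iv2 F78951)) (tt N30442 F78950) (tt N20219 F78949) (tt N31242 (iv5 F80258)) (tt N30886 F80263) (tt N19667 F78953))
theorem Q30596 : ∀ i, i < 30596 → P i := stepQ 30595 Q30595 (allL N30595 (tt N20354 F78956) (tt N20348 F78957) (tt N19673 F78954) (tt N57549 D108072) (tt N15278 (iv4 D49915)) (tt N30769 (iv5 F79406)) (tt N40348 (iv6 F101623)) (tt N19669 F78955))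
theorem Q30597 : ∀ i, i < 30597 → P i := stepQ 30596 Q30596 (allL N30596 (tt N57550 D108073) (tt N30825 (iv0 F79555)) (tt N19674 F78958) (tt N15283 F78959) (tt N40348 (iv4 F101622)) (tt N37653 (iv5 F96389)) (tt N15278 (iv6 D49916)) (tt N41248 (iv7 F103721)))
theorem Q30598 : ∀ i, i < 30598 → P i := stepQ 30597 Q30597 (allL N30597 (tt N20045 F78961) (tt N19832 F78962) (tt N37418 F95942) (tt N57551 D108074) (tt N15280 (iv4 D49917)) (tt N22651 (iv5 F78963)) (tt N57552 D108075) (tt N30443 F78960))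
theorem Q30599 : ∀ i, i < 30599 → P i := stepQ 30598 Q30598 (allL N30598 (tt N41120 F166012) (tt N36022 (iv0 F93823)) (tt N38463 (iv2 F98341)) (tt N30434 F78965) (tt N57552 (iv4 F167102)) (tt N37688 (iv5 F96458)) (tt N15280 (iv6 D49918)) (tt N41119 (iv7 F103398)))
theorem Q30600 : ∀ i, i < 30600 → P i := stepQ 30599 Q30599 (allL N30599 (tt N57553 D108076) (tt N57554 D108077) (tt N57555 D108078) (tt N15282 (iv3 D49919)) (tt N57549 (iv4 F167093)) (tt N57556 D108079) (tt N57557 D108080) (tt N57500 (iv7 F166941)))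
theorem Q30601 : ∀ i, i < 30601 → P i := stepQ 30600 Q30600 (allL N30600 (tt N32205 (iv1 F82526)) (tt N57541 F167080) (tt N57503 (iv2 F166947)) (tt N57556 (iv3 F167105)) (tt N22650 F78966) (tt N15282 (iv5 D49920)) (tt N57558 D108081) (tt N57501 (iv7 F166943)))
theorem Q30602 : ∀ i, i < 30602 → P i := stepQ 30601 Q30601 (allL N30601 (tt N57559 D108082) (tt N40085 (iv0 F101148)) (tt N41247 (iv2 F103718)) (tt N57557 (iv3 F167108)) (tt N15283 F78967) (tt N57560 D108083) (tt N15282 (iv6 D49921)) (tt N41249 (iv7 F103725)))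
theorem Q30603 : ∀ i, i < 30603 → P i := stepQ 30602 Q30602 (allL N30602 (tt N57561 D108084) (tt N57562 D108085) (tt N35544 (iv2 F92808)) (tt N15286 F78968) (tt N39099 (iv4 F99394)) (tt N31323 (iv5 F80442)) (tt N15284 (iv6 D49923)) (tt N57563 D108086))
theorem Q30604 : ∀ i, i < 30604 → P i := stepQ 30603 Q30603 (allL N30603 (tt N15288 (iv1 F78970)) (tt N15285 (iv0 D49924)) (tt N32206 (iv2 F82527)) (tt N57564 D108087) (tt N15816 F78969) (tt N57541 (iv5 F167078)) (tt N57565 D108088) (tt N15815 F78971))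
theorem Q30605 : ∀ i, i < 30605 → P i := stepQ 30604 Q30604 (allL N30604 (tt N57566 D108089) (tt N57567 D108090) (tt N57568 D108091) (tt N15285 (iv3 D49925)) (tt N39097 (iv4 F99389)) (tt N57569 D108092) (tt N57570 D108093) (tt N36062 (iv7 F93891)))
theorem Q30606 : ∀ i, i < 30606 → P i := stepQ 30605 Q30605 (allL N30605 (tt N57571 D108094) (tt N57572 D108095) (tt N57505 (iv2 F166953)) (tt N57569 (iv3 F167128)) (tt N22643 F78972) (tt N15285 (iv5 D49926)) (tt N57573 D108096) (tt N36063 (iv7 F93893)))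
theorem Q30607 : ∀ i, i < 30607 → P i := stepQ 30606 Q30606 (allL N30606 (tt N57574 D108097) (tt N57575 D108098) (tt N57506 (iv2 F166956)) (tt N57570 (iv3 F167129)) (tt N15286 F78973) (tt N57576 D108099) (tt N15285 (iv6 D49927)) (tt N57577 D108100))
theorem Q30608 : ∀ i, i < 30608 → P i := stepQ 30607 Q30607 (allL N30607 (tt N57508 (iv1 F166967)) (tt N15286 (iv0 D49928)) (tt N30498 (iv2 F166143)) (tt N30471 (iv3 F166133)) (tt N57578 D108101) (tt N57579 D108102) (tt N29659 (iv6 F95304)) (tt N57507 (iv7 F166959)))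
theorem Q30609 : ∀ i, i < 30609 → P i := stepQ 30608 Q30608 (allL N30608 (tt N15286 (iv1 D49929)) (tt N57508 F166966) (tt N57507 F166960) (tt N15309 F166172) (tt N57580 D108103) (tt N35805 F166173) (tt N41584 F166174) (tt N30498 F166175))
theorem Q30610 : ∀ i, i < 30610 → P i := stepQ 30609 Q30609 (allL N30609 (tt N57507 (iv1 F166958)) (tt N30498 (iv0 F166078)) (tt N57508 (iv2 F166962)) (tt N57563 (iv3 F167119)) (tt N57577 (iv4 F167172)) (tt N16096 (iv5 F82016)) (tt N36061 (iv6 F93882)) (tt N15286 (iv7 D49930)))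
theorem Q30611 : ∀ i, i < 30611 → P i := stepQ 30610 Q30610 (allL N30610 (tt N57581 D108104) (tt N57582 D108105) (tt N19678 F78974) (tt N15289 F78975) (tt N30762 (iv4 F79401)) (tt N15748 F78976) (tt N15287 (iv6 D49931)) (tt N57583 D108106))
theorem Q30612 : ∀ i, i < 30612 → P i := stepQ 30611 Q30611 (allL N30611 (tt N57584 D108107) (tt N57585 D108108) (tt N57586 D108109) (tt N15288 (iv3 D49932)) (tt N30760 (iv4 F79396)) (tt N57587 D108110) (tt N57588 D108111) (tt N57504 (iv7 F166952)))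
theorem Q30613 : ∀ i, i < 30613 → P i := stepQ 30612 Q30612 (allL N30612 (tt N57572 (iv1 F167164)) (tt N57571 F167132) (tt N36063 (iv2 F93892)) (tt N57587 (iv3 F167189)) (tt N22640 F78977) (tt N15288 (iv5 D49933)) (tt N57589 D108112) (tt N57505 (iv7 F166955)))
theorem Q30614 : ∀ i, i < 30614 → P i := stepQ 30613 Q30613 (allL N30613 (tt N57590 D108113) (tt N57591 D108114) (tt N36060 (iv2 F93878)) (tt N57588 (iv3 F167194)) (tt N15289 F78978) (tt N57592 D108115) (tt N15288 (iv6 D49934)) (tt N57593 D108116))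
theorem Q30615 : ∀ i, i < 30615 → P i := stepQ 30614 Q30614 (allL N30614 (tt N15289 (iv1 D49936)) (tt N36061 F93884) (tt N20995 F321600) (tt N30479 (iv3 F101890)) (tt N57594 D108117) (tt N30479 F93885) (tt N29651 (iv6 F93886)) (tt N36059 (iv7 F162099)))
theorem Q30616 : ∀ i, i < 30616 → P i := stepQ 30615 Q30615 (allL N30615 (tt N20995 F321599) (tt N36059 F93883) (tt N36061 (iv2 F93880)) (tt N57583 (iv3 F167183)) (tt N57593 (iv4 F167198)) (tt N33483 (iv5 F101932)) (tt N57508 (iv6 F166965)) (tt N15289 (iv7 D49937)))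
theorem Q30617 : ∀ i, i < 30617 → P i := stepQ 30616 Q30616 (allL N30616 (tt N57595 D108118) (tt N57596 D108119) (tt N57597 D108120) (tt N15290 (iv3 D49938)) (tt N35554 (iv4 F92835)) (tt N57597 F167203) (tt N57598 D108121) (tt N39415 (iv7 F100143)))
theorem Q30618 : ∀ i, i < 30618 → P i := stepQ 30617 Q30617 (allL N30617 (tt N57599 D108122) (tt N37896 (iv0 F96857)) (tt N39512 (iv2 F100351)) (tt N57597 (iv3 F167202)) (tt N22634 F78979) (tt N15290 (iv5 D49939)) (tt N57600 D108123) (tt N39416 (iv7 F100145)))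
theorem Q30619 : ∀ i, i < 30619 → P i := stepQ 30618 Q30618 (allL N30618 (tt N57578 (iv1 F167180)) (tt N57580 (iv0 F167179)) (tt N44217 (iv2 F111134)) (tt N57598 (iv3 F167204)) (tt N31565 (iv4 F80905)) (tt N57601 D108124) (tt N15290 (iv6 D49940)) (tt N57602 D108125))
theorem Q30620 : ∀ i, i < 30620 → P i := stepQ 30619 Q30619 (allL N30619 (tt N37896 F96859) (tt N57599 F167208) (tt N39416 (iv2 F100144)) (tt N15291 (iv3 D49941)) (tt N20047 F78980) (tt N15291 F96860) (tt N57603 D108126) (tt N39512 (iv7 F100354)))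
theorem Q30621 : ∀ i, i < 30621 → P i := stepQ 30620 Q30620 (allL N30620 (tt N41298 F103855) (tt N57594 (iv0 F167201)) (tt N39412 (iv2 F100130)) (tt N57603 (iv3 F167212)) (tt N19988 F78982) (tt N57604 D108127) (tt N15291 (iv6 D49943)) (tt N57605 D108128))
theorem Q30622 : ∀ i, i < 30622 → P i := stepQ 30621 Q30621 (allL N30621 (tt N57606 D108129) (tt N15292 (iv0 D49944)) (tt N40005 (iv2 F210269)) (tt N57607 D108131) (tt N40004 (iv4 F210281)) (tt N57608 D108133) (tt N57609 D108134) (tt N57610 D108135))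
theorem Q30623 : ∀ i, i < 30623 → P i := stepQ 30622 Q30622 (allL N30622 (tt N15292 (iv1 D49945)) (tt N57606 F167220) (tt N57610 (iv2 F167222)) (tt N57611 D108136) (tt N40008 (iv4 F210265)) (tt N57612 D108137) (tt N42749 (iv6 F315169)) (tt N40005 (iv7 F210270)))
theorem Q30624 : ∀ i, i < 30624 → P i := stepQ 30623 Q30623 (allL N30623 (tt N40005 F101022) (tt N57610 (iv0 F210271)) (tt N15292 (iv2 D49946)) (tt N57511 (iv3 F166968)) (tt N15313 F78983) (tt N57613 D108140) (tt N29670 F78984) (tt N57606 (iv7 F167219)))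
theorem Q30625 : ∀ i, i < 30625 → P i := stepQ 30624 Q30624 (allL N30624 (tt N57614 D108141) (tt N57615 D108142) (tt N57613 (iv2 F167224)) (tt N15293 F78985) (tt N57616 D108143) (tt N15292 (iv5 D49947)) (tt N57617 D108144) (tt N57618 D108145))
theorem Q30626 : ∀ i, i < 30626 → P i := stepQ 30625 Q30625 (allL N30625 (tt N57610 (iv1 F210272)) (tt N40005 (iv0 F101021)) (tt N57606 F167217) (tt N15294 F78986) (tt N15315 F78987) (tt N57618 (iv5 F167229)) (tt N57619 D108146) (tt N15292 (iv7 D49948)))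
theorem Q30627 : ∀ i, i < 30627 → P i := stepQ 30626 Q30626 (allL N30626 (tt N22652 (iv1 F78990)) (tt N15293 (iv0 D49949)) (tt N44184 (iv2 F111055)) (tt N57620 D108147) (tt N22619 (iv4 F78989)) (tt N22604 F78988) (tt N57621 D108148) (tt N56814 (iv7 F164856)))
theorem Q30628 : ∀ i, i < 30628 → P i := stepQ 30627 Q30627 (allL N30627 (tt N15293 (iv1 D49950)) (tt N22652 F78991) (tt N56814 (iv2 F164854)) (tt N22602 (iv3 F78993)) (tt N22608 F78994) (tt N22616 F78992) (tt N57622 D108149) (tt N44184 (iv7 F111057)))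
theorem Q30629 : ∀ i, i < 30629 → P i := stepQ 30628 Q30628 (allL N30628 (tt N22651 F78998) (tt N22650 F78999) (tt N22654 F78996) (tt N57623 D108150) (tt N15293 (iv4 D49951)) (tt N22600 F78997) (tt N57624 D108151) (tt N22599 F79000))
theorem Q30630 : ∀ i, i < 30630 → P i := stepQ 30629 Q30629 (allL N30629 (tt N57625 D108152) (tt N57626 D108153) (tt N57514 (iv2 F166976)) (tt N57617 (iv3 F167226)) (tt N57624 (iv4 F167242)) (tt N29675 F79001) (tt N15293 (iv6 D49952)) (tt N57627 D108154))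
theorem Q30631 : ∀ i, i < 30631 → P i := stepQ 30630 Q30630 (allL N30630 (tt N56814 (iv1 F164858)) (tt N44184 (iv0 F111059)) (tt N22652 F79002) (tt N57618 (iv3 F167228)) (tt N22599 F79003) (tt N15294 F79004) (tt N57628 D108155) (tt N15293 (iv7 D49953)))
theorem Q30632 : ∀ i, i < 30632 → P i := stepQ 30631 Q30631 (allL N30631 (tt N57167 F165694) (tt N57629 D108156) (tt N57515 (iv2 F166979)) (tt N57619 (iv3 F167230)) (tt N15295 F79005) (tt N57630 D108157) (tt N15294 (iv6 D49954)) (tt N29677 F79006))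
theorem Q30633 : ∀ i, i < 30633 → P i := stepQ 30632 Q30632 (allL N30632 (tt N29622 (iv1 F79007)) (tt N15295 (iv0 D49955)) (tt N29679 F202553) (tt N39839 F100713) (tt N57631 D108159) (tt N57632 D108160) (tt N57633 D108161) (tt N29678 F202554))
theorem Q30634 : ∀ i, i < 30634 → P i := stepQ 30633 Q30633 (allL N30633 (tt N15295 (iv1 D49956)) (tt N29622 F79008) (tt N29678 (iv2 F202551)) (tt N41075 (iv3 F168110)) (tt N57634 D108164) (tt N57635 D108165) (tt N37937 F96964) (tt N29679 (iv7 F202552)))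
theorem Q30635 : ∀ i, i < 30635 → P i := stepQ 30634 Q30634 (allL N30634 (tt N57636 D108166) (tt N57637 D108167) (tt N48040 (iv2 F314314)) (tt N15296 (iv3 D49957)) (tt N15298 F79009) (tt N57638 D108169) (tt N43402 (iv6 F316058)) (tt N22766 F79010))
theorem Q30636 : ∀ i, i < 30636 → P i := stepQ 30635 Q30635 (allL N30635 (tt N16441 F79014) (tt N16170 F79015) (tt N29990 F79011) (tt N57638 (iv3 F167270)) (tt N16162 F79013) (tt N15296 (iv5 D49958)) (tt N57639 D108171) (tt N22767 F79012))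
theorem Q30637 : ∀ i, i < 30637 → P i := stepQ 30636 Q30636 (allL N30636 (tt N41170 F167022) (tt N57640 D108172) (tt N32098 (iv2 F82327)) (tt N43402 F318274) (tt N15297 F79016) (tt N57641 D108173) (tt N15296 (iv6 D49959)) (tt N57642 D108174))
theorem Q30638 : ∀ i, i < 30638 → P i := stepQ 30637 Q30637 (allL N30637 (tt N15297 (iv1 D49960)) (tt N32101 F82338) (tt N32100 (iv2 F103504)) (tt N57524 (iv3 F167018)) (tt N37271 F163691) (tt N31454 (iv5 F80687)) (tt N41188 (iv6 F103482)) (tt N32099 (iv7 F103502)))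
theorem Q30639 : ∀ i, i < 30639 → P i := stepQ 30638 Q30638 (allL N30638 (tt N32100 (iv1 F82331)) (tt N32099 F82337) (tt N32101 (iv2 F82333)) (tt N15300 F79017) (tt N57642 (iv4 F167279)) (tt N15793 F79018) (tt N22770 F79019) (tt N15297 (iv7 D49961)))
theorem Q30640 : ∀ i, i < 30640 → P i := stepQ 30639 Q30639 (allL N30639 (tt N15767 (iv1 F79036)) (tt N15302 (iv0 D49969)) (tt N22750 (iv2 F79037)) (tt N57643 D108191) (tt N22613 F79035) (tt N56852 (iv5 F164936)) (tt N30259 (iv6 F79038)) (tt N22749 (iv7 F79039)))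
theorem Q30641 : ∀ i, i < 30641 → P i := stepQ 30640 Q30640 (allL N30640 (tt N15302 (iv1 D49970)) (tt N15767 F79040) (tt N22749 (iv2 F79043)) (tt N57644 D108192) (tt N18685 F79042) (tt N56853 (iv5 F164943)) (tt N57645 D108193) (tt N22750 F79041))
theorem Q30642 : ∀ i, i < 30642 → P i := stepQ 30641 Q30641 (allL N30641 (tt N57646 D108194) (tt N57647 D108195) (tt N57648 D108196) (tt N15302 (iv3 D49971)) (tt N15304 F79044) (tt N57649 D108197) (tt N57650 D108198) (tt N22751 F79045))
theorem Q30643 : ∀ i, i < 30643 → P i := stepQ 30642 Q30642 (allL N30642 (tt N29934 F79048) (tt N30206 F79049) (tt N30203 F79046) (tt N57649 (iv3 F167312)) (tt N31452 (iv4 F80681)) (tt N15302 (iv5 D49972)) (tt N57651 D108199) (tt N22752 F79047))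
theorem Q30644 : ∀ i, i < 30644 → P i := stepQ 30643 Q30643 (allL N30643 (tt N41479 (iv1 F164008)) (tt N30221 (iv0 F79051)) (tt N35550 (iv2 F92820)) (tt N57650 (iv3 F167316)) (tt N15303 F79050) (tt N57652 D108200) (tt N15302 (iv6 D49973)) (tt N41264 (iv7 F103749)))
theorem Q30645 : ∀ i, i < 30645 → P i := stepQ 30644 Q30644 (allL N30644 (tt N22759 (iv1 F79052)) (tt N15304 (iv0 D49974)) (tt N22758 (iv2 F212154)) (tt N35371 (iv3 F311283)) (tt N57653 D108203) (tt N35369 (iv5 F310701)) (tt N41551 F318455) (tt N22757 F212153))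
theorem Q30646 : ∀ i, i < 30646 → P i := stepQ 30645 Q30645 (allL N30645 (tt N15304 (iv1 D49975)) (tt N22759 F79056) (tt N22757 F212152) (tt N57654 D108207) (tt N57655 D108208) (tt N35378 (iv5 F310703)) (tt N57656 D108210) (tt N22758 (iv7 F212155)))
theorem Q30647 : ∀ i, i < 30647 → P i := stepQ 30646 Q30646 (allL N30646 (tt N22758 (iv1 F79057)) (tt N22757 F79055) (tt N15304 (iv2 D49976)) (tt N22772 F79053) (tt N57648 (iv4 F167306)) (tt N38347 (iv5 F98053)) (tt N41535 F324906) (tt N22759 F79054))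
theorem Q30648 : ∀ i, i < 30648 → P i := stepQ 30647 Q30647 (allL N30647 (tt N41537 F340813) (tt N33481 F340814) (tt N41535 F324904) (tt N15305 F79058) (tt N57650 (iv4 F167317)) (tt N44510 F309113) (tt N15304 (iv6 D49977)) (tt N40210 (iv7 F101357)))
theorem Q30649 : ∀ i, i < 30649 → P i := stepQ 30648 Q30648 (allL N30648 (tt N37257 (iv1 F95721)) (tt N37250 (iv0 F95708)) (tt N30379 F79060) (tt N39984 (iv3 F100979)) (tt N16156 F79062) (tt N15306 (iv5 D49979)) (tt N57657 D108217) (tt N30378 F79061))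
theorem Q30650 : ∀ i, i < 30650 → P i := stepQ 30649 Q30649 (allL N30649 (tt N57658 D108218) (tt N57659 D108219) (tt N32103 (iv2 F82343)) (tt N39985 (iv3 F100980)) (tt N15307 F79063) (tt N57660 D108220) (tt N15306 (iv6 D49980)) (tt N57661 D108221))
theorem Q30651 : ∀ i, i < 30651 → P i := stepQ 30650 Q30650 (allL N30650 (tt N32106 (iv1 F82356)) (tt N15307 (iv0 D49981)) (tt N32104 (iv2 F166441)) (tt N57662 D108222) (tt N57663 D108223) (tt N57664 D108224) (tt N36190 (iv6 F94059)) (tt N32105 F166440))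
theorem Q30652 : ∀ i, i < 30652 → P i := stepQ 30651 Q30651 (allL N30651 (tt N15307 (iv1 D49982)) (tt N32106 F82352) (tt N32105 F166438) (tt N57665 D108225) (tt N57666 D108226) (tt N35745 (iv5 F93175)) (tt N57667 D108227) (tt N32104 (iv7 F166439)))
theorem Q30653 : ∀ i, i < 30653 → P i := stepQ 30652 Q30652 (allL N30652 (tt N32105 (iv1 F82347)) (tt N32104 (iv0 F82346)) (tt N32106 (iv2 F82348)) (tt N15310 F79064) (tt N57661 (iv4 F167334)) (tt N16103 F79065) (tt N21908 (iv6 F319409)) (tt N15307 (iv7 D49983)))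
theorem Q30654 : ∀ i, i < 30654 → P i := stepQ 30653 Q30653 (allL N30653 (tt N30473 F166075) (tt N30436 F166076) (tt N30471 (iv2 F166142)) (tt N15308 (iv3 D49984)) (tt N57668 D108228) (tt N57669 D108229) (tt N29689 F79067) (tt N30472 (iv7 F166148)))
theorem Q30655 : ∀ i, i < 30655 → P i := stepQ 30654 Q30654 (allL N30654 (tt N18201 F79072) (tt N18194 (iv0 F79073)) (tt N30499 F79069) (tt N57669 (iv3 F167355)) (tt N23553 F325083) (tt N15308 (iv5 D49985)) (tt N30499 F79070) (tt N18212 F79071))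
theorem Q30656 : ∀ i, i < 30656 → P i := stepQ 30655 Q30655 (allL N30655 (tt N15312 (iv1 F79079)) (tt N15311 (iv0 D49987)) (tt N15315 (iv2 F79075)) (tt N18622 F312657) (tt N57606 (iv4 F167218)) (tt N23108 F312658) (tt N57670 D108231) (tt N15313 F79078))
theorem Q30657 : ∀ i, i < 30657 → P i := stepQ 30656 Q30656 (allL N30656 (tt N15315 F167155) (tt N15313 F167156) (tt N15311 (iv2 D49988)) (tt N57671 D108232) (tt N57672 D108233) (tt N17966 (iv5 F313761)) (tt N57673 D108235) (tt N15312 (iv7 F79080)))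
theorem Q30658 : ∀ i, i < 30658 → P i := stepQ 30657 Q30657 (allL N30657 (tt N44397 (iv1 F245502)) (tt N57674 D108237) (tt N44268 F167150) (tt N15311 (iv3 D49989)) (tt N44266 (iv4 F167141)) (tt N25251 (iv5 F313367)) (tt N57675 D108239) (tt N44272 F167151))
theorem Q30659 : ∀ i, i < 30659 → P i := stepQ 30658 Q30658 (allL N30658 (tt N57676 D108240) (tt N57677 D108241) (tt N57672 (iv2 F167371)) (tt N57505 F167053) (tt N15311 (iv4 D49990)) (tt N57504 (iv5 F167058)) (tt N57678 D108242) (tt N57587 (iv7 F167190)))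
theorem Q30660 : ∀ i, i < 30660 → P i := stepQ 30659 Q30659 (allL N30659 (tt N57679 D108247) (tt N44377 F317397) (tt N57673 (iv2 F167376)) (tt N57675 (iv3 F167379)) (tt N57678 (iv4 F167385)) (tt N57680 D108249) (tt N15311 (iv6 D49992)) (tt N57681 D108250))
theorem Q30661 : ∀ i, i < 30661 → P i := stepQ 30660 Q30660 (allL N30660 (tt N15313 F167152) (tt N15315 F167153) (tt N15312 F79081) (tt N44272 F167154) (tt N57587 F167191) (tt N17018 (iv5 F313760)) (tt N17036 (iv6 F315141)) (tt N15311 (iv7 D49993)))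
theorem Q30662 : ∀ i, i < 30662 → P i := stepQ 30661 Q30661 (allL N30661 (tt N57682 D108252) (tt N44366 (iv0 F221948)) (tt N57683 D108254) (tt N15312 (iv3 D49994)) (tt N48088 (iv4 F315162)) (tt N21591 (iv5 F315163)) (tt N21759 (iv6 F315164)) (tt N57671 (iv7 F167370)))
theorem Q30663 : ∀ i, i < 30663 → P i := stepQ 30662 Q30662 (allL N30662 (tt N57677 (iv1 F167383)) (tt N57676 F167381) (tt N57587 (iv2 F167192)) (tt N57684 D108258) (tt N15312 (iv4 D49995)) (tt N57586 F167193) (tt N21762 (iv6 F315167)) (tt N57672 (iv7 F167372)))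
theorem Q30664 : ∀ i, i < 30664 → P i := stepQ 30663 Q30663 (allL N30663 (tt N30555 (iv1 F79087)) (tt N21794 (iv0 F310483)) (tt N15314 F79084) (tt N17429 (iv3 F310465)) (tt N57685 D108266) (tt N15313 (iv5 D50000)) (tt N46485 (iv6 F310496)) (tt N23108 (iv7 F310478)))
theorem Q30665 : ∀ i, i < 30665 → P i := stepQ 30664 Q30664 (allL N30664 (tt N23108 (iv1 F310476)) (tt N15314 (iv0 D50001)) (tt N30555 (iv2 F212679)) (tt N57686 D108269) (tt N57687 D108270) (tt N35479 (iv5 F310481)) (tt N33851 (iv6 F310482)) (tt N21794 (iv7 F310486)))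
theorem Q30666 : ∀ i, i < 30666 → P i := stepQ 30665 Q30665 (allL N30665 (tt N15314 (iv1 D50002)) (tt N23108 (iv0 F310475)) (tt N21794 (iv2 F310485)) (tt N57688 D108273) (tt N49646 (iv4 F310490)) (tt N35478 (iv5 F310491)) (tt N21767 (iv6 F310492)) (tt N30555 (iv7 F212680)))
theorem Q30667 : ∀ i, i < 30667 → P i := stepQ 30666 Q30666 (allL N30666 (tt N57689 D108277) (tt N57690 D108278) (tt N57685 (iv2 F167407)) (tt N30550 F79091) (tt N15314 (iv4 D50003)) (tt N57691 D108279) (tt N57692 D108280) (tt N30547 F79092))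
theorem Q30668 : ∀ i, i < 30668 → P i := stepQ 30667 Q30667 (allL N30667 (tt N42575 (iv1 F310497)) (tt N42571 (iv0 F310498)) (tt N46485 (iv2 F310495)) (tt N15316 F79093) (tt N57692 (iv4 F167422)) (tt N29701 F79094) (tt N15314 (iv6 D50004)) (tt N42513 (iv7 F310500)))
theorem Q30669 : ∀ i, i < 30669 → P i := stepQ 30668 Q30668 (allL N30668 (tt N57693 D108284) (tt N57694 D108285) (tt N57670 (iv2 F167365)) (tt N15317 F79095) (tt N57619 (iv4 F167231)) (tt N57695 D108286) (tt N15315 (iv6 D50005)) (tt N20553 F79096))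
theorem Q30670 : ∀ i, i < 30670 → P i := stepQ 30669 Q30669 (allL N30669 (tt N30503 (iv1 F79102)) (tt N15316 (iv0 D50006)) (tt N21850 (iv2 F310471)) (tt N57696 D108288) (tt N34430 (iv4 F167442)) (tt N33827 (iv5 F310508)) (tt N21827 F308390) (tt N30502 F200114))
theorem Q30671 : ∀ i, i < 30671 → P i := stepQ 30670 Q30670 (allL N30670 (tt N15316 (iv1 D50007)) (tt N30503 F79097) (tt N30502 (iv2 F200110)) (tt N57697 D108293) (tt N34431 (iv4 F167445)) (tt N33826 (iv5 F310511)) (tt N57698 D108296) (tt N21850 (iv7 F310473)))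
theorem Q30672 : ∀ i, i < 30672 → P i := stepQ 30671 Q30671 (allL N30671 (tt N30502 (iv1 F79103)) (tt N21850 (iv0 F310469)) (tt N30503 F79098) (tt N42513 (iv3 F310499)) (tt N30559 F79099) (tt N29702 F79100) (tt N21837 (iv6 F309493)) (tt N15316 (iv7 D50008)))
theorem Q30673 : ∀ i, i < 30673 → P i := stepQ 30672 Q30672 (allL N30672 (tt N36235 (iv1 F94126)) (tt N36234 F94125) (tt N30504 F79105) (tt N57695 (iv3 F167428)) (tt N57699 D108297) (tt N15317 (iv5 D50009)) (tt N30556 F79106) (tt N20554 F79107))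
theorem Q30674 : ∀ i, i < 30674 → P i := stepQ 30673 Q30673 (allL N30673 (tt N19459 F79111) (tt N19462 (iv0 F79112)) (tt N29757 F79108) (tt N19066 F79109) (tt N15318 (iv4 D50010)) (tt N57700 D108298) (tt N33654 (iv6 F85368)) (tt N29758 F79110))
theorem Q30675 : ∀ i, i < 30675 → P i := stepQ 30674 Q30674 (allL N30674 (tt N15331 F79116) (tt N15330 F79117) (tt N15334 F79113) (tt N30519 F79114) (tt N17405 (iv4 F308484)) (tt N15320 (iv5 D50011)) (tt N46497 (iv6 F308485)) (tt N15329 F79115))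
theorem Q30676 : ∀ i, i < 30676 → P i := stepQ 30675 Q30675 (allL N30675 (tt N15718 F79124) (tt N15716 (iv0 F79126)) (tt N15714 F79122) (tt N18922 F79125) (tt N15322 (iv4 D50013)) (tt N57701 D108300) (tt N32412 (iv6 F82792)) (tt N15715 F79123))
theorem Q30677 : ∀ i, i < 30677 → P i := stepQ 30676 Q30676 (allL N30676 (tt N22780 F79131) (tt N23834 (iv0 F79132)) (tt N30520 F79128) (tt N15323 (iv3 D50015)) (tt N18922 F79129) (tt N37492 (iv5 F96131)) (tt N33560 (iv6 F85118)) (tt N30530 F79130))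
theorem Q30678 : ∀ i, i < 30678 → P i := stepQ 30677 Q30677 (allL N30677 (tt N22578 F79149) (tt N23383 (iv0 F79144)) (tt N23386 F79141) (tt N23379 F79142) (tt N15328 F79143) (tt N36356 (iv5 F94434)) (tt N15326 (iv6 D50020)) (tt N23387 (iv7 F79150)))
theorem Q30679 : ∀ i, i < 30679 → P i := stepQ 30678 Q30678 (allL N30678 (tt N15329 (iv1 D50023)) (tt N15334 F79160) (tt N15331 (iv2 F79165)) (tt N42502 F106306) (tt N23499 (iv4 F308483)) (tt N18510 F79162) (tt N46450 (iv6 F307229)) (tt N15330 F79161))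
theorem Q30680 : ∀ i, i < 30680 → P i := stepQ 30679 Q30679 (allL N30679 (tt N19086 F96293) (tt N42496 (iv0 F106295)) (tt N38310 (iv2 F97912)) (tt N15330 (iv3 D50025)) (tt N46426 (iv4 F308480)) (tt N18506 F79169) (tt N23498 F306648) (tt N42502 (iv7 F106304)))
theorem Q30681 : ∀ i, i < 30681 → P i := stepQ 30680 Q30680 (allL N30680 (tt N24311 (iv1 F311257)) (tt N46498 (iv0 F311258)) (tt N46497 F309106) (tt N15342 F79180) (tt N23088 (iv4 F310616)) (tt N41590 (iv5 F104506)) (tt N15334 (iv6 D50036)) (tt N45384 (iv7 F311260)))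
theorem Q30682 : ∀ i, i < 30682 → P i := stepQ 30681 Q30681 (allL N30681 (tt N19093 (iv1 F79183)) (tt N19092 F79184) (tt N19097 F79181) (tt N40040 (iv3 F101058)) (tt N15335 (iv4 D50037)) (tt N37603 (iv5 F96327)) (tt N57702 D108359) (tt N19084 F79182))
theorem Q30683 : ∀ i, i < 30683 → P i := stepQ 30682 Q30682 (allL N30682 (tt N57703 D108360) (tt N57704 D108361) (tt N19101 F79185) (tt N15336 F79186) (tt N57702 (iv4 F167535)) (tt N22571 F79187) (tt N15335 (iv6 D50038)) (tt N43987 F305281))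
theorem Q30684 : ∀ i, i < 30684 → P i := stepQ 30683 Q30683 (allL N30683 (tt N22779 (iv1 F79192)) (tt N15336 (iv0 D50039)) (tt N22777 F208047) (tt N46448 (iv3 F307210)) (tt N23662 (iv4 F307211)) (tt N36230 F318505) (tt N41261 F316860) (tt N22778 F208048))
theorem Q30685 : ∀ i, i < 30685 → P i := stepQ 30684 Q30684 (allL N30684 (tt N15336 (iv1 D50040)) (tt N22779 F79188) (tt N22778 (iv2 F208045)) (tt N57705 D108369) (tt N23663 (iv4 F307208)) (tt N36229 F318509) (tt N42697 (iv6 F307209)) (tt N22777 (iv7 F208046)))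
theorem Q30686 : ∀ i, i < 30686 → P i := stepQ 30685 Q30685 (allL N30685 (tt N24215 F309155) (tt N42841 F309156) (tt N30556 F79203) (tt N21801 (iv3 F311349)) (tt N46312 (iv4 F122772)) (tt N15338 (iv5 D50046)) (tt N30504 F79204) (tt N37508 (iv7 F309495)))
theorem Q30687 : ∀ i, i < 30687 → P i := stepQ 30686 Q30686 (allL N30686 (tt N42697 F309094) (tt N23085 F309095) (tt N30558 F79215) (tt N38367 (iv3 F109844)) (tt N33863 (iv4 F310524)) (tt N19061 F79216) (tt N15339 (iv6 D50050)) (tt N21840 F309096))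
theorem Q30688 : ∀ i, i < 30688 → P i := stepQ 30687 Q30687 (allL N30687 (tt N19091 (iv1 F184623)) (tt N42515 (iv0 F184624)) (tt N38368 (iv2 F109936)) (tt N15340 (iv3 D50051)) (tt N24740 (iv4 F311228)) (tt N29815 F79217) (tt N21841 F309090) (tt N30557 F79218))
theorem Q30689 : ∀ i, i < 30689 → P i := stepQ 30688 Q30688 (allL N30688 (tt N30561 (iv1 F79228)) (tt N30560 F79229) (tt N30559 F79225) (tt N45384 (iv3 F311259)) (tt N30503 F79226) (tt N41594 (iv5 F104510)) (tt N15341 (iv6 D50054)) (tt N15342 F79227))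
theorem Q30690 : ∀ i, i < 30690 → P i := stepQ 30689 Q30689 (allL N30689 (tt N30559 (iv1 F79230)) (tt N15342 (iv0 D50055)) (tt N30560 (iv2 F200022)) (tt N19104 (iv3 F237444)) (tt N22745 F114320) (tt N57706 D108401) (tt N21843 F305300) (tt N30561 (iv7 F200025)))
theorem Q30691 : ∀ i, i < 30691 → P i := stepQ 30690 Q30690 (allL N30690 (tt N15342 (iv1 D50056)) (tt N30559 F79231) (tt N30561 F200026) (tt N57707 D108404) (tt N22746 F114324) (tt N57708 D108405) (tt N41263 F316491) (tt N30560 F200027))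
theorem Q30692 : ∀ i, i < 30692 → P i := stepQ 30691 Q30691 (allL N30691 (tt N19683 F79234) (tt N19359 F79235) (tt N18660 F79232) (tt N57709 D108407) (tt N15344 (iv4 D50057)) (tt N19728 F79233) (tt N57710 D108408) (tt N30737 (iv7 F79320)))
theorem Q30693 : ∀ i, i < 30693 → P i := stepQ 30692 Q30692 (allL N30692 (tt N57711 D108409) (tt N37835 (iv0 F168450)) (tt N18661 F79236) (tt N30447 F79237) (tt N57710 (iv4 F167593)) (tt N38397 (iv5 F98199)) (tt N15344 (iv6 D50058)) (tt N57712 D108411))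
theorem Q30694 : ∀ i, i < 30694 → P i := stepQ 30693 Q30693 (allL N30693 (tt N19359 F79240) (tt N19683 F79239) (tt N30737 (iv2 F79319)) (tt N57713 D108412) (tt N15346 (iv4 D50059)) (tt N19729 (iv5 F79241)) (tt N57714 D108413) (tt N18660 F79238))
theorem Q30695 : ∀ i, i < 30695 → P i := stepQ 30694 Q30694 (allL N30694 (tt N57715 D108414) (tt N37654 (iv0 F96393)) (tt N30738 (iv2 F79322)) (tt N18648 F79242) (tt N57714 (iv4 F167607)) (tt N41198 (iv5 F103623)) (tt N15346 (iv6 D50060)) (tt N57716 D108415))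
theorem Q30696 : ∀ i, i < 30696 → P i := stepQ 30695 Q30695 (allL N30695 (tt N18227 F79246) (tt N15728 (iv0 F79248)) (tt N18224 F79243) (tt N15347 (iv3 D50061)) (tt N16580 F79247) (tt N18788 F79244) (tt N57717 D108416) (tt N18225 F79245))
theorem Q30697 : ∀ i, i < 30697 → P i := stepQ 30696 Q30696 (allL N30696 (tt N57718 D108417) (tt N37935 (iv0 F202543)) (tt N18694 F79249) (tt N57717 (iv3 F167617)) (tt N19719 F79250) (tt N38701 (iv5 F98673)) (tt N15347 (iv6 D50062)) (tt N57719 D108419))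
theorem Q30698 : ∀ i, i < 30698 → P i := stepQ 30697 Q30697 (allL N30697 (tt N57720 D108420) (tt N57721 D108421) (tt N30741 (iv2 F79336)) (tt N18058 F79251) (tt N19722 F79252) (tt N18044 F79253) (tt N15348 (iv6 D50063)) (tt N28068 (iv7 F327065)))
theorem Q30699 : ∀ i, i < 30699 → P i := stepQ 30698 Q30698 (allL N30698 (tt N57722 D108423) (tt N57723 D108424) (tt N57724 D108425) (tt N15349 (iv3 D50064)) (tt N29609 F79254) (tt N57725 D108426) (tt N31384 (iv6 F80560)) (tt N38763 (iv7 F98768)))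
theorem Q30700 : ∀ i, i < 30700 → P i := stepQ 30699 Q30699 (allL N30699 (tt N38667 (iv1 F98584)) (tt N38669 (iv0 F98590)) (tt N30743 (iv2 F79337)) (tt N57725 (iv3 F167638)) (tt N30772 (iv4 F79419)) (tt N15349 (iv5 D50065)) (tt N57726 D108427) (tt N30770 (iv7 F79416)))
theorem Q30701 : ∀ i, i < 30701 → P i := stepQ 30700 Q30700 (allL N30700 (tt N57727 D108428) (tt N37787 (iv0 F103577)) (tt N30745 (iv2 F79347)) (tt N18771 F79255) (tt N38764 (iv4 F98769)) (tt N30700 F79256) (tt N15350 (iv6 D50066)) (tt N31386 (iv7 F80563)))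
theorem Q30702 : ∀ i, i < 30702 → P i := stepQ 30701 Q30701 (allL N30701 (tt N57728 D108429) (tt N57729 D108430) (tt N57730 D108431) (tt N15351 (iv3 D50067)) (tt N31536 (iv4 F80849)) (tt N57731 D108432) (tt N57732 D108433) (tt N30746 (iv7 F79349)))
theorem Q30703 : ∀ i, i < 30703 → P i := stepQ 30702 Q30702 (allL N30702 (tt N38684 (iv1 F98632)) (tt N38664 (iv0 F98574)) (tt N22661 F79257) (tt N57731 (iv3 F167643)) (tt N38669 (iv4 F98588)) (tt N15351 (iv5 D50068)) (tt N57733 D108434) (tt N30747 (iv7 F79352)))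
theorem Q30704 : ∀ i, i < 30704 → P i := stepQ 30703 Q30703 (allL N30703 (tt N57734 D108435) (tt N57735 D108436) (tt N22662 F79258) (tt N57732 (iv3 F167644)) (tt N15352 F79259) (tt N57736 D108437) (tt N15351 (iv6 D50069)) (tt N57737 D108438))
theorem Q30705 : ∀ i, i < 30705 → P i := stepQ 30704 Q30704 (allL N30704 (tt N22665 (iv1 F79265)) (tt N15352 (iv0 D50070)) (tt N22663 (iv2 F101225)) (tt N39256 (iv3 F111321)) (tt N57738 D108439) (tt N20209 F79261) (tt N20345 F79260) (tt N22664 F101221))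
theorem Q30706 : ∀ i, i < 30706 → P i := stepQ 30705 Q30705 (allL N30705 (tt N15352 (iv1 D50071)) (tt N22665 F79262) (tt N22664 F101226) (tt N30170 (iv3 F111339)) (tt N57739 D108440) (tt N20208 (iv5 F79263)) (tt N57740 D108441) (tt N22663 F101224))
theorem Q30707 : ∀ i, i < 30707 → P i := stepQ 30706 Q30706 (allL N30706 (tt N22664 (iv1 F79266)) (tt N22663 F79267) (tt N22665 F79264) (tt N31541 (iv3 F80859)) (tt N57737 (iv4 F167659)) (tt N33341 (iv5 F84528)) (tt N30750 (iv6 F79368)) (tt N15352 (iv7 D50072)))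
theorem Q30708 : ∀ i, i < 30708 → P i := stepQ 30707 Q30707 (allL N30707 (tt N57741 D108442) (tt N57742 D108443) (tt N57743 D108444) (tt N15353 (iv3 D50073)) (tt N31542 (iv4 F80866)) (tt N57744 D108445) (tt N57745 D108446) (tt N30751 (iv7 F79371)))
theorem Q30709 : ∀ i, i < 30709 → P i := stepQ 30708 Q30708 (allL N30708 (tt N39965 (iv1 F100936)) (tt N39964 F100933) (tt N22691 F79268) (tt N57744 (iv3 F167676)) (tt N31665 (iv4 F81139)) (tt N15353 (iv5 D50074)) (tt N57746 D108447) (tt N30752 (iv7 F79374)))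
theorem Q30710 : ∀ i, i < 30710 → P i := stepQ 30709 Q30709 (allL N30709 (tt N40712 F111577) (tt N57747 D108448) (tt N22692 F79269) (tt N57745 (iv3 F167677)) (tt N15354 F79270) (tt N57748 D108449) (tt N15353 (iv6 D50075)) (tt N57749 D108450))
theorem Q30711 : ∀ i, i < 30711 → P i := stepQ 30710 Q30710 (allL N30710 (tt N15354 (iv1 D50077)) (tt N22695 F79271) (tt N22694 F102451) (tt N30185 F111772) (tt N57750 D108451) (tt N31007 (iv5 F79766)) (tt N40415 (iv6 F101689)) (tt N22693 (iv7 F102450)))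
theorem Q30712 : ∀ i, i < 30712 → P i := stepQ 30711 Q30711 (allL N30711 (tt N22694 (iv1 F79274)) (tt N22693 F79275) (tt N22695 F79272) (tt N31547 (iv3 F80875)) (tt N57749 (iv4 F167683)) (tt N31602 (iv5 F80991)) (tt N30756 (iv6 F79387)) (tt N15354 (iv7 D50078)))
theorem Q30713 : ∀ i, i < 30713 → P i := stepQ 30712 Q30712 (allL N30712 (tt N57751 D108452) (tt N57752 D108453) (tt N57753 D108454) (tt N15355 (iv3 D50079)) (tt N57504 (iv4 F166951)) (tt N54282 (iv5 F343123)) (tt N57754 D108456) (tt N30760 (iv7 F79397)))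
theorem Q30714 : ∀ i, i < 30714 → P i := stepQ 30713 Q30713 (allL N30713 (tt N40155 (iv1 F101264)) (tt N40151 (iv0 F101246)) (tt N30758 (iv2 F79393)) (tt N54282 (iv3 F343122)) (tt N19721 F79276) (tt N15355 (iv5 D50080)) (tt N51130 (iv6 F325751)) (tt N30761 (iv7 F79399)))
theorem Q30715 : ∀ i, i < 30715 → P i := stepQ 30714 Q30714 (allL N30714 (tt N40723 (iv1 F167689)) (tt N57750 (iv0 F167688)) (tt N30759 (iv2 F79395)) (tt N57754 (iv3 F167691)) (tt N19676 F79277) (tt N31687 F336722) (tt N15355 (iv6 D50081)) (tt N31686 (iv7 F336726)))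
theorem Q30716 : ∀ i, i < 30716 → P i := stepQ 30715 Q30715 (allL N30715 (tt N57755 D108460) (tt N57756 D108461) (tt N57757 D108462) (tt N15356 (iv3 D50082)) (tt N39100 (iv4 F99395)) (tt N57758 D108463) (tt N57759 D108464) (tt N30757 (iv7 F79392)))
theorem Q30717 : ∀ i, i < 30717 → P i := stepQ 30716 Q30716 (allL N30716 (tt N40151 (iv1 F101247)) (tt N40155 (iv0 F101263)) (tt N30761 (iv2 F79398)) (tt N57758 (iv3 F167698)) (tt N19718 F79278) (tt N15356 (iv5 D50083)) (tt N57760 D108465) (tt N30758 (iv7 F79394)))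
theorem Q30718 : ∀ i, i < 30718 → P i := stepQ 30717 Q30717 (allL N30717 (tt N39971 (iv1 F167851)) (tt N39973 (iv0 F101951)) (tt N30762 (iv2 F79400)) (tt N57759 (iv3 F167699)) (tt N19678 F79279) (tt N53205 (iv5 F345062)) (tt N15356 (iv6 D50084)) (tt N57761 D108468))
theorem Q30719 : ∀ i, i < 30719 → P i := stepQ 30718 Q30718 (allL N30718 (tt N57762 D108469) (tt N15357 (iv0 D50085)) (tt N57763 D108470) (tt N57764 D108471) (tt N57765 D108472) (tt N53741 (iv5 F357957)) (tt N57766 D108474) (tt N57767 D108475))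
theorem Q30720 : ∀ i, i < 30720 → P i := stepQ 30719 Q30719 (allL N30719 (tt N15357 (iv1 D50086)) (tt N57762 F167705) (tt N57767 (iv2 F167707)) (tt N57768 D108476) (tt N57769 D108477) (tt N53753 (iv5 F364111)) (tt N57770 D108479) (tt N57763 F167706))
theorem Q30721 : ∀ i, i < 30721 → P i := stepQ 30720 Q30720 (allL N30720 (tt N57763 (iv1 F357643)) (tt N57767 (iv0 F357646)) (tt N15357 (iv2 D50087)) (tt N30765 (iv3 F79402)) (tt N30200 F79280) (tt N28674 F332989) (tt N30154 F79281) (tt N57762 (iv7 F167704)))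
theorem Q30722 : ∀ i, i < 30722 → P i := stepQ 30721 Q30721 (allL N30721 (tt N53759 (iv1 F332983)) (tt N53762 (iv0 F332984)) (tt N28674 (iv2 F332985)) (tt N15358 F79282) (tt N28257 F332982) (tt N15357 (iv5 D50088)) (tt N28260 (iv6 F332986)) (tt N57771 D108487))
theorem Q30723 : ∀ i, i < 30723 → P i := stepQ 30722 Q30722 (allL N30722 (tt N57767 (iv1 F357647)) (tt N57763 (iv0 F357642)) (tt N57762 F167702) (tt N15359 F79283) (tt N30202 F79284) (tt N57771 (iv5 F167714)) (tt N57772 D108488) (tt N15357 (iv7 D50089)))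
theorem Q30724 : ∀ i, i < 30724 → P i := stepQ 30723 Q30723 (allL N30723 (tt N30772 (iv1 F79422)) (tt N15358 (iv0 D50090)) (tt N30768 F79409) (tt N57773 D108489) (tt N19729 F79286) (tt N19669 F79285) (tt N57774 D108490) (tt N30769 F79408))
theorem Q30725 : ∀ i, i < 30725 → P i := stepQ 30724 Q30724 (allL N30724 (tt N15358 (iv1 D50091)) (tt N30772 F79421) (tt N30769 F79407) (tt N57775 D108491) (tt N19728 (iv4 F79288)) (tt N19673 F79287) (tt N57776 D108492) (tt N30768 (iv7 F79410)))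
theorem Q30726 : ∀ i, i < 30726 → P i := stepQ 30725 Q30725 (allL N30725 (tt N38669 (iv1 F98591)) (tt N38667 (iv0 F98583)) (tt N30770 (iv2 F79412)) (tt N57777 D108493) (tt N15358 (iv4 D50092)) (tt N30744 (iv5 F79344)) (tt N57778 D108494) (tt N30743 F79341))
theorem Q30727 : ∀ i, i < 30727 → P i := stepQ 30726 Q30726 (allL N30726 (tt N57779 D108495) (tt N57780 D108496) (tt N30771 (iv2 F79417)) (tt N28260 F332990) (tt N57778 (iv4 F167722)) (tt N30160 F79289) (tt N15358 (iv6 D50093)) (tt N57781 D108497))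
theorem Q30728 : ∀ i, i < 30728 → P i := stepQ 30727 Q30727 (allL N30727 (tt N30769 (iv1 F79405)) (tt N30768 F79411) (tt N30772 (iv2 F79418)) (tt N57771 (iv3 F167713)) (tt N30743 (iv4 F79338)) (tt N15359 F79290) (tt N57782 D108498) (tt N15358 (iv7 D50094)))
theorem Q30729 : ∀ i, i < 30729 → P i := stepQ 30728 Q30728 (allL N30728 (tt N40298 (iv1 F101523)) (tt N40297 F101522) (tt N30773 (iv2 F79423)) (tt N57772 (iv3 F167715)) (tt N15360 F79291) (tt N57783 D108499) (tt N15359 (iv6 D50095)) (tt N30162 F79292))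
theorem Q30730 : ∀ i, i < 30730 → P i := stepQ 30729 Q30729 (allL N30729 (tt N20898 F79295) (tt N30449 F79296) (tt N19380 F79293) (tt N57784 D108500) (tt N15361 (iv4 D50096)) (tt N30488 (iv5 F79297)) (tt N57785 D108501) (tt N19928 F79294))
theorem Q30731 : ∀ i, i < 30731 → P i := stepQ 30730 Q30730 (allL N30730 (tt N39400 (iv1 F100117)) (tt N19981 (iv0 F79301)) (tt N19381 F79299) (tt N19856 F79300) (tt N57785 (iv4 F167729)) (tt N37300 (iv5 F95782)) (tt N15361 (iv6 D50097)) (tt N39399 (iv7 F100108)))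
theorem Q30732 : ∀ i, i < 30732 → P i := stepQ 30731 Q30731 (allL N30731 (tt N16190 (iv1 F79306)) (tt N15362 (iv0 D50098)) (tt N16192 (iv2 F79305)) (tt N15374 (iv3 F79308)) (tt N18275 F79303) (tt N16563 F79302) (tt N15437 F79304) (tt N15385 F79307))
theorem Q30733 : ∀ i, i < 30733 → P i := stepQ 30732 Q30732 (allL N30732 (tt N56835 F165261) (tt N44363 F165262) (tt N19947 F79309) (tt N16177 F79310) (tt N30483 F79311) (tt N30873 (iv5 F79622)) (tt N15363 (iv6 D50099)) (tt N57786 D108502))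
theorem Q30734 : ∀ i, i < 30734 → P i := stepQ 30733 Q30733 (allL N30733 (tt N57787 D108503) (tt N56850 (iv0 F164924)) (tt N31028 (iv2 F79803)) (tt N16611 F79312) (tt N30486 F79313) (tt N16597 F79314) (tt N15364 (iv6 D50100)) (tt N57788 D108504))
theorem Q30735 : ∀ i, i < 30735 → P i := stepQ 30734 Q30734 (allL N30734 (tt N57789 D108505) (tt N57790 D108506) (tt N57791 D108507) (tt N15365 (iv3 D50101)) (tt N15380 F79315) (tt N57792 D108508) (tt N38648 (iv6 F98527)) (tt N57359 (iv7 F166295)))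
theorem Q30736 : ∀ i, i < 30736 → P i := stepQ 30735 Q30735 (allL N30735 (tt N46090 F329174) (tt N57306 (iv0 F166008)) (tt N32224 (iv2 F82559)) (tt N57792 (iv3 F167752)) (tt N37320 (iv4 F95804)) (tt N15365 (iv5 D50102)) (tt N57793 D108509) (tt N57341 (iv7 F166254)))
theorem Q30737 : ∀ i, i < 30737 → P i := stepQ 30736 Q30736 (allL N30736 (tt N39388 (iv1 F100072)) (tt N20192 F163995) (tt N32226 (iv2 F82566)) (tt N15383 F79316) (tt N57360 (iv4 F166296)) (tt N30736 F79317) (tt N15366 (iv6 D50103)) (tt N19979 F79318))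
theorem Q30738 : ∀ i, i < 30738 → P i := stepQ 30737 Q30737 (allL N30737 (tt N36724 (iv1 F95120)) (tt N18940 F79321) (tt N30693 F79319) (tt N57794 D108510) (tt N15367 (iv4 D50104)) (tt N38683 (iv5 F98626)) (tt N40559 F328805) (tt N30691 F79320))
theorem Q30739 : ∀ i, i < 30739 → P i := stepQ 30738 Q30738 (allL N30738 (tt N57795 D108511) (tt N31426 (iv0 F80641)) (tt N30694 F79322) (tt N35921 (iv3 F93578)) (tt N40559 (iv4 F328401)) (tt N38435 (iv5 F98295)) (tt N15367 (iv6 D50105)) (tt N40558 (iv7 F328402)))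
theorem Q30740 : ∀ i, i < 30740 → P i := stepQ 30739 Q30739 (allL N30739 (tt N15412 (iv1 F79328)) (tt N15368 (iv0 D50106)) (tt N15413 (iv2 F79326)) (tt N18281 F79324) (tt N15374 F79323) (tt N31380 (iv5 F80545)) (tt N15444 F79325) (tt N15387 F79327))
theorem Q30741 : ∀ i, i < 30741 → P i := stepQ 30740 Q30740 (allL N30740 (tt N15387 (iv1 F79334)) (tt N15413 F79335) (tt N15412 F79329) (tt N18274 F79330) (tt N16053 F79331) (tt N30458 F79332) (tt N20442 F79333) (tt N15368 (iv7 D50107)))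
theorem Q30742 : ∀ i, i < 30742 → P i := stepQ 30741 Q30741 (allL N30741 (tt N52924 (iv1 F327627)) (tt N37111 (iv0 F168463)) (tt N30697 F79336) (tt N35923 (iv3 F93583)) (tt N38677 (iv4 F98617)) (tt N31405 (iv5 F80613)) (tt N15369 (iv6 D50108)) (tt N52912 (iv7 F326762)))
theorem Q30743 : ∀ i, i < 30743 → P i := stepQ 30742 Q30742 (allL N30742 (tt N57796 D108516) (tt N57797 D108517) (tt N57798 D108518) (tt N15370 (iv3 D50109)) (tt N35930 (iv4 F93601)) (tt N57799 D108519) (tt N31391 (iv6 F80576)) (tt N57800 D108520))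
theorem Q30744 : ∀ i, i < 30744 → P i := stepQ 30743 Q30743 (allL N30743 (tt N19688 F79339) (tt N19697 F79340) (tt N30699 F79337) (tt N57799 (iv3 F167773)) (tt N30727 F79338) (tt N15370 (iv5 D50110)) (tt N57801 D108521) (tt N30725 (iv7 F79341)))
theorem Q30745 : ∀ i, i < 30745 → P i := stepQ 30744 Q30744 (allL N30744 (tt N15860 (iv1 F79345)) (tt N19658 F79346) (tt N19703 F79342) (tt N57800 (iv3 F167775)) (tt N15371 F79343) (tt N30725 F79344) (tt N57802 D108522) (tt N15370 (iv7 D50111)))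
theorem Q30746 : ∀ i, i < 30746 → P i := stepQ 30745 Q30745 (allL N30745 (tt N36874 F101911) (tt N57803 D108523) (tt N30700 F79347) (tt N35932 (iv3 F93604)) (tt N57802 (iv4 F167783)) (tt N30745 F79348) (tt N15371 (iv6 D50112)) (tt N31393 (iv7 F80582)))
theorem Q30747 : ∀ i, i < 30747 → P i := stepQ 30746 Q30746 (allL N30746 (tt N57804 D108524) (tt N57805 D108525) (tt N57806 D108526) (tt N15372 (iv3 D50113)) (tt N31569 (iv4 F80910)) (tt N57807 D108527) (tt N57808 D108528) (tt N30701 F79349))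
theorem Q30748 : ∀ i, i < 30748 → P i := stepQ 30747 Q30747 (allL N30747 (tt N19680 F79353) (tt N19730 F79354) (tt N20222 F79350) (tt N57807 (iv3 F167796)) (tt N19688 F79351) (tt N15372 (iv5 D50114)) (tt N57809 D108529) (tt N30702 F79352))
theorem Q30749 : ∀ i, i < 30749 → P i := stepQ 30748 Q30748 (allL N30748 (tt N57810 D108530) (tt N20454 (iv0 F79357)) (tt N20223 F79355) (tt N57808 (iv3 F167798)) (tt N15373 F79356) (tt N35030 (iv5 F341374)) (tt N15372 (iv6 D50115)) (tt N35029 F341368))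
theorem Q30750 : ∀ i, i < 30750 → P i := stepQ 30749 Q30749 (allL N30749 (tt N20225 (iv1 F79365)) (tt N15373 (iv0 D50116)) (tt N20224 (iv2 F79361)) (tt N39400 (iv3 F100113)) (tt N47907 F341276) (tt N38674 (iv5 F98606)) (tt N20450 F79358) (tt N16662 F79360))
theorem Q30751 : ∀ i, i < 30751 → P i := stepQ 30750 Q30750 (allL N30750 (tt N16662 (iv1 F79369)) (tt N20224 F79370) (tt N20225 F79366) (tt N20322 F79367) (tt N35029 F341372) (tt N38444 (iv5 F98306)) (tt N30706 F79368) (tt N15373 (iv7 D50117)))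
theorem Q30752 : ∀ i, i < 30752 → P i := stepQ 30751 Q30751 (allL N30751 (tt N57811 D108534) (tt N57812 D108535) (tt N57813 D108536) (tt N15376 (iv3 D50118)) (tt N31572 (iv4 F80917)) (tt N57814 D108537) (tt N51039 (iv6 F335710)) (tt N30707 F79371))
theorem Q30753 : ∀ i, i < 30753 → P i := stepQ 30752 Q30752 (allL N30752 (tt N39901 (iv1 F100845)) (tt N39898 (iv0 F100835)) (tt N20256 F79372) (tt N57814 (iv3 F167827)) (tt N19705 F79373) (tt N15376 (iv5 D50119)) (tt N57815 D108539) (tt N30708 F79374))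
theorem Q30754 : ∀ i, i < 30754 → P i := stepQ 30753 Q30753 (allL N30753 (tt N57816 D108540) (tt N57817 D108541) (tt N20257 F79375) (tt N51039 (iv3 F335709)) (tt N15377 F79376) (tt N51038 (iv5 F349179)) (tt N15376 (iv6 D50120)) (tt N57818 D108543))
theorem Q30755 : ∀ i, i < 30755 → P i := stepQ 30754 Q30754 (allL N30754 (tt N20260 (iv1 F79388)) (tt N15377 (iv0 D50121)) (tt N20258 F102105) (tt N57787 F167742) (tt N57819 D108544) (tt N31575 (iv5 F80923)) (tt N57820 D108545) (tt N20259 F102106))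
theorem Q30756 : ∀ i, i < 30756 → P i := stepQ 30755 Q30755 (allL N30755 (tt N15377 (iv1 D50122)) (tt N20260 F79377) (tt N20259 F102102) (tt N44233 F111173) (tt N57821 D108546) (tt N20543 (iv5 F79378)) (tt N16707 (iv6 F79384)) (tt N20258 F102103))
theorem Q30757 : ∀ i, i < 30757 → P i := stepQ 30756 Q30756 (allL N30756 (tt N20259 (iv1 F79389)) (tt N20258 F79390) (tt N20260 F79385) (tt N31576 (iv3 F80926)) (tt N57818 (iv4 F167844)) (tt N20309 F79386) (tt N30711 F79387) (tt N15377 (iv7 D50123)))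
theorem Q30758 : ∀ i, i < 30758 → P i := stepQ 30757 Q30757 (allL N30757 (tt N57822 D108547) (tt N57823 D108548) (tt N57824 D108549) (tt N15378 (iv3 D50124)) (tt N19962 F79391) (tt N57825 D108550) (tt N57826 D108551) (tt N30715 F79392))
theorem Q30759 : ∀ i, i < 30759 → P i := stepQ 30758 Q30758 (allL N30758 (tt N39896 (iv1 F100833)) (tt N38485 (iv0 F98364)) (tt N30713 F79393) (tt N57825 (iv3 F167872)) (tt N38676 (iv4 F98613)) (tt N15378 (iv5 D50125)) (tt N57827 D108552) (tt N30716 F79394))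
theorem Q30760 : ∀ i, i < 30760 → P i := stepQ 30759 Q30759 (allL N30759 (tt N44361 (iv1 F111783)) (tt N44364 (iv0 F111782)) (tt N30714 F79395) (tt N57826 (iv3 F167874)) (tt N38662 (iv4 F98568)) (tt N57828 D108553) (tt N15378 (iv6 D50126)) (tt N57829 D108554))
theorem Q30761 : ∀ i, i < 30761 → P i := stepQ 30760 Q30760 (allL N30760 (tt N57830 D108555) (tt N57831 D108556) (tt N57832 D108557) (tt N15379 (iv3 D50127)) (tt N30611 F79396) (tt N57833 D108558) (tt N57834 D108559) (tt N30712 F79397))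
theorem Q30762 : ∀ i, i < 30762 → P i := stepQ 30761 Q30761 (allL N30761 (tt N38485 (iv1 F98365)) (tt N39896 (iv0 F100832)) (tt N30716 F79398) (tt N57833 (iv3 F167889)) (tt N36785 (iv4 F95199)) (tt N15379 (iv5 D50128)) (tt N48173 (iv6 F326581)) (tt N30713 F79399))
theorem Q30763 : ∀ i, i < 30763 → P i := stepQ 30762 Q30762 (allL N30762 (tt N57819 (iv1 F167862)) (tt N57821 (iv0 F167860)) (tt N30717 F79400) (tt N57834 (iv3 F167891)) (tt N30610 F79401) (tt N57835 D108561) (tt N15379 (iv6 D50129)) (tt N57836 D108562))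
theorem Q30764 : ∀ i, i < 30764 → P i := stepQ 30763 Q30763 (allL N30763 (tt N57837 D108563) (tt N15380 (iv0 D50130)) (tt N57838 D108564) (tt N57839 D108565) (tt N57840 D108566) (tt N57841 D108567) (tt N57842 D108568) (tt N57843 D108569))
theorem Q30765 : ∀ i, i < 30765 → P i := stepQ 30764 Q30764 (allL N30764 (tt N15380 (iv1 D50131)) (tt N57837 F167903) (tt N57843 (iv2 F167905)) (tt N17929 F317011) (tt N17956 F317012) (tt N57844 D108572) (tt N22420 (iv6 F319269)) (tt N57838 F167904))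
theorem Q30766 : ∀ i, i < 30766 → P i := stepQ 30765 Q30765 (allL N30765 (tt N57838 (iv1 F246649)) (tt N57843 (iv0 F246658)) (tt N15380 (iv2 D50132)) (tt N30720 F79402) (tt N57791 (iv4 F167751)) (tt N54051 (iv5 F332988)) (tt N38657 (iv6 F98550)) (tt N57837 (iv7 F167902)))
theorem Q30767 : ∀ i, i < 30767 → P i := stepQ 30766 Q30766 (allL N30766 (tt N57845 D108577) (tt N57846 D108578) (tt N54051 (iv2 F332987)) (tt N15381 F79403) (tt N57847 D108579) (tt N15380 (iv5 D50133)) (tt N54067 (iv6 F364314)) (tt N57848 D108581))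
theorem Q30768 : ∀ i, i < 30768 → P i := stepQ 30767 Q30767 (allL N30767 (tt N57843 (iv1 F246659)) (tt N57838 (iv0 F246648)) (tt N57837 F167900) (tt N15382 F79404) (tt N57359 (iv4 F166294)) (tt N57848 (iv5 F167914)) (tt N57849 D108582) (tt N15380 (iv7 D50134)))
theorem Q30769 : ∀ i, i < 30769 → P i := stepQ 30768 Q30768 (allL N30768 (tt N30727 (iv1 F79411)) (tt N15381 (iv0 D50135)) (tt N30723 (iv2 F79409)) (tt N57850 D108583) (tt N38683 (iv4 F98627)) (tt N36721 (iv5 F95114)) (tt N57851 D108584) (tt N30724 F79410))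
theorem Q30770 : ∀ i, i < 30770 → P i := stepQ 30769 Q30769 (allL N30769 (tt N15381 (iv1 D50136)) (tt N30727 F79405) (tt N30724 (iv2 F79407)) (tt N57852 D108585) (tt N36726 (iv4 F95127)) (tt N30595 F79406) (tt N57853 D108586) (tt N30723 (iv7 F79408)))
theorem Q30771 : ∀ i, i < 30771 → P i := stepQ 30770 Q30770 (allL N30770 (tt N19697 F79414) (tt N19688 F79415) (tt N30725 F79412) (tt N57854 D108587) (tt N15381 (iv4 D50137)) (tt N19703 F79413) (tt N57855 D108588) (tt N30699 F79416))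
theorem Q30772 : ∀ i, i < 30772 → P i := stepQ 30771 Q30771 (allL N30771 (tt N57856 D108589) (tt N57857 D108590) (tt N30726 F79417) (tt N54067 (iv3 F364312)) (tt N57855 (iv4 F167925)) (tt N38661 (iv5 F98565)) (tt N15381 (iv6 D50138)) (tt N57858 D108591))
theorem Q30773 : ∀ i, i < 30773 → P i := stepQ 30772 Q30772 (allL N30772 (tt N30724 (iv1 F79421)) (tt N30723 F79422) (tt N30727 F79418) (tt N57848 (iv3 F167913)) (tt N30699 F79419) (tt N15382 F79420) (tt N57859 D108592) (tt N15381 (iv7 D50139)))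
theorem Q30774 : ∀ i, i < 30774 → P i := stepQ 30773 Q30773 (allL N30773 (tt N56793 (iv1 F164800)) (tt N56792 F164799) (tt N30728 F79423) (tt N57849 (iv3 F167915)) (tt N15383 F79424) (tt N57860 D108593) (tt N15382 (iv6 D50140)) (tt N20417 F79425))
theorem Q30775 : ∀ i, i < 30775 → P i := stepQ 30774 Q30774 (allL N30774 (tt N16089 F79428) (tt N16086 F79429) (tt N16188 F79426) (tt N57861 D108594) (tt N15384 (iv4 D50141)) (tt N57297 (iv5 F165985)) (tt N57862 D108595) (tt N15435 F79427))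
theorem Q30776 : ∀ i, i < 30776 → P i := stepQ 30775 Q30775 (allL N30775 (tt N55627 (iv1 F167948)) (tt N57863 D108597) (tt N16189 F79430) (tt N15390 F79431) (tt N57862 (iv4 F167938)) (tt N19583 F79432) (tt N15384 (iv6 D50142)) (tt N57864 D108598))
theorem Q30777 : ∀ i, i < 30777 → P i := stepQ 30776 Q30776 (allL N30776 (tt N16659 F79436) (tt N16661 F79435) (tt N15410 F79433) (tt N57865 D108599) (tt N15386 (iv4 D50143)) (tt N38659 (iv5 F98553)) (tt N57866 D108600) (tt N15440 F79434))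
theorem Q30778 : ∀ i, i < 30778 → P i := stepQ 30777 Q30777 (allL N30777 (tt N20827 F111420) (tt N57867 D108601) (tt N15411 F79437) (tt N18279 F79438) (tt N57866 (iv4 F167965)) (tt N31400 (iv5 F80599)) (tt N15386 (iv6 D50144)) (tt N57868 D108602))
theorem Q30779 : ∀ i, i < 30779 → P i := stepQ 30778 Q30778 (allL N30778 (tt N16262 F79441) (tt N20419 F79442) (tt N15416 F79439) (tt N57869 D108603) (tt N15388 (iv4 D50145)) (tt N30965 (iv5 F79732)) (tt N31690 (iv6 F81196)) (tt N15414 F79440))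
theorem Q30780 : ∀ i, i < 30780 → P i := stepQ 30779 Q30779 (allL N30779 (tt N57870 D108604) (tt N57871 D108605) (tt N57872 D108606) (tt N15389 (iv3 D50146)) (tt N57861 (iv4 F167935)) (tt N57873 D108607) (tt N57874 D108608) (tt N15445 F79443))
theorem Q30781 : ∀ i, i < 30781 → P i := stepQ 30780 Q30780 (allL N30780 (tt N40319 (iv1 F101575)) (tt N38689 (iv0 F98652)) (tt N15421 F79444) (tt N57873 (iv3 F167987)) (tt N38660 F98562) (tt N15389 (iv5 D50147)) (tt N57875 D108609) (tt N15446 F79445))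
theorem Q30782 : ∀ i, i < 30782 → P i := stepQ 30781 Q30781 (allL N30781 (tt N57876 D108610) (tt N57877 D108611) (tt N15422 F79446) (tt N57874 (iv3 F167989)) (tt N15390 F79447) (tt N57878 D108612) (tt N15389 (iv6 D50148)) (tt N57879 D108613))
theorem Q30783 : ∀ i, i < 30783 → P i := stepQ 30782 Q30782 (allL N30782 (tt N15390 (iv1 D50150)) (tt N15426 F79449) (tt N15424 F164317) (tt N31597 (iv3 F164120)) (tt N57880 D108614) (tt N19690 (iv5 F79450)) (tt N57881 D108615) (tt N15423 F164318))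
theorem Q30784 : ∀ i, i < 30784 → P i := stepQ 30783 Q30783 (allL N30783 (tt N15424 (iv1 F79456)) (tt N15423 F79457) (tt N15426 F79452) (tt N57864 (iv3 F167956)) (tt N57879 (iv4 F168443)) (tt N19589 F79453) (tt N15451 F79454) (tt N15390 (iv7 D50151)))
theorem Q30785 : ∀ i, i < 30785 → P i := stepQ 30784 Q30784 (allL N30784 (tt N57882 D108616) (tt N57883 D108617) (tt N57884 D108618) (tt N15391 (iv3 D50152)) (tt N35639 (iv4 F93048)) (tt N57885 D108619) (tt N57886 D108620) (tt N15420 F79458))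
theorem Q30786 : ∀ i, i < 30786 → P i := stepQ 30785 Q30785 (allL N30785 (tt N38689 (iv1 F98653)) (tt N40319 (iv0 F101574)) (tt N15446 F79459) (tt N57885 (iv3 F168485)) (tt N38659 (iv4 F98554)) (tt N15391 (iv5 D50153)) (tt N57887 D108621) (tt N15421 F79460))
theorem Q30787 : ∀ i, i < 30787 → P i := stepQ 30786 Q30786 (allL N30786 (tt N40336 F101601) (tt N31645 (iv0 F98654)) (tt N15447 F79461) (tt N57886 (iv3 F168487)) (tt N15392 F79462) (tt N57888 D108622) (tt N15391 (iv6 D50154)) (tt N57889 D108623))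
theorem Q30788 : ∀ i, i < 30788 → P i := stepQ 30787 Q30787 (allL N30787 (tt N15451 (iv1 F79465)) (tt N15392 (iv0 D50155)) (tt N15448 (iv2 F79463)) (tt N31602 (iv3 F80993)) (tt N57890 D108624) (tt N31547 (iv5 F80876)) (tt N31636 (iv6 F81082)) (tt N15449 F79464))
theorem Q30789 : ∀ i, i < 30789 → P i := stepQ 30788 Q30788 (allL N30788 (tt N15449 (iv1 F79469)) (tt N15448 F79470) (tt N15451 F79466) (tt N35642 (iv3 F93063)) (tt N57889 (iv4 F168491)) (tt N20316 F79467) (tt N15426 F79468) (tt N15392 (iv7 D50156)))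
theorem Q30790 : ∀ i, i < 30790 → P i := stepQ 30789 Q30789 (allL N30789 (tt N45899 F328013) (tt N57891 D108625) (tt N16194 F79471) (tt N15395 F79472) (tt N57289 (iv4 F165973)) (tt N20472 F79473) (tt N15393 (iv6 D50157)) (tt N39536 (iv7 F100400)))
theorem Q30791 : ∀ i, i < 30791 → P i := stepQ 30790 Q30790 (allL N30790 (tt N57892 D108626) (tt N57893 D108627) (tt N57894 D108628) (tt N15394 (iv3 D50158)) (tt N57287 (iv4 F165965)) (tt N57895 D108629) (tt N57896 D108630) (tt N15470 F79474))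
theorem Q30792 : ∀ i, i < 30792 → P i := stepQ 30791 Q30791 (allL N30791 (tt N30844 (iv1 F79571)) (tt N30841 (iv0 F79567)) (tt N15459 F79475) (tt N57895 (iv3 F168510)) (tt N38653 (iv4 F98543)) (tt N15394 (iv5 D50159)) (tt N57897 D108631) (tt N15471 F79476))
theorem Q30793 : ∀ i, i < 30793 → P i := stepQ 30792 Q30792 (allL N30792 (tt N57898 D108632) (tt N57899 D108633) (tt N15460 F79477) (tt N57896 (iv3 F168512)) (tt N15395 F79478) (tt N57900 D108634) (tt N15394 (iv6 D50160)) (tt N57901 D108635))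
theorem Q30794 : ∀ i, i < 30794 → P i := stepQ 30793 Q30793 (allL N30793 (tt N15395 (iv1 D50162)) (tt N15466 F79479) (tt N15464 F101638) (tt N31609 (iv3 F168243)) (tt N57902 D108636) (tt N40302 (iv5 F101529)) (tt N57903 D108637) (tt N15463 F101639))
theorem Q30795 : ∀ i, i < 30795 → P i := stepQ 30794 Q30794 (allL N30794 (tt N15464 (iv1 F79484)) (tt N15463 F79485) (tt N15466 F79480) (tt N39536 (iv3 F100399)) (tt N57901 (iv4 F168518)) (tt N20426 F79481) (tt N15477 F79482) (tt N15395 (iv7 D50163)))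
theorem Q30796 : ∀ i, i < 30796 → P i := stepQ 30795 Q30795 (allL N30795 (tt N57904 D108638) (tt N57905 D108639) (tt N57906 D108640) (tt N15396 (iv3 D50164)) (tt N18094 F79486) (tt N57907 D108641) (tt N57908 D108642) (tt N15458 F79487))
theorem Q30797 : ∀ i, i < 30797 → P i := stepQ 30796 Q30796 (allL N30796 (tt N30841 (iv1 F79568)) (tt N30844 (iv0 F79570)) (tt N15471 F79488) (tt N57907 (iv3 F168541)) (tt N38650 (iv4 F98536)) (tt N15396 (iv5 D50165)) (tt N57909 D108643) (tt N15459 F79489))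
theorem Q30798 : ∀ i, i < 30798 → P i := stepQ 30797 Q30797 (allL N30797 (tt N57910 D108644) (tt N57911 D108645) (tt N15472 F79490) (tt N57908 (iv3 F168543)) (tt N15397 F79491) (tt N57912 D108646) (tt N15396 (iv6 D50166)) (tt N57913 D108647))
theorem Q30799 : ∀ i, i < 30799 → P i := stepQ 30798 Q30798 (allL N30798 (tt N15477 (iv1 F79496)) (tt N15397 (iv0 D50167)) (tt N15474 F101137) (tt N31614 F168283) (tt N57914 D108648) (tt N31661 (iv5 F81120)) (tt N57915 D108649) (tt N15475 F101138))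
theorem Q30800 : ∀ i, i < 30800 → P i := stepQ 30799 Q30799 (allL N30799 (tt N15475 (iv1 F79497)) (tt N15474 F79501) (tt N15477 F79493) (tt N55611 (iv3 F161083)) (tt N57913 (iv4 F168549)) (tt N19559 F79494) (tt N15466 F79495) (tt N15397 (iv7 D50169)))
theorem Q30801 : ∀ i, i < 30801 → P i := stepQ 30800 Q30800 (allL N30800 (tt N57916 D108650) (tt N57917 D108651) (tt N57918 D108652) (tt N15398 (iv3 D50170)) (tt N16244 F79502) (tt N57919 D108653) (tt N57920 D108654) (tt N15482 F79503))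
theorem Q30802 : ∀ i, i < 30802 → P i := stepQ 30801 Q30801 (allL N30801 (tt N30838 (iv1 F79564)) (tt N30832 (iv0 F79558)) (tt N15480 F79504) (tt N57919 (iv3 F168574)) (tt N20593 F79506) (tt N15398 (iv5 D50171)) (tt N57921 D108655) (tt N15483 F79505))
theorem Q30803 : ∀ i, i < 30803 → P i := stepQ 30802 Q30802 (allL N30802 (tt N31914 F168410) (tt N57902 (iv0 F168525)) (tt N15481 F79507) (tt N57920 (iv3 F168576)) (tt N18158 F79508) (tt N57922 D108656) (tt N15398 (iv6 D50172)) (tt N57923 D108657))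
theorem Q30804 : ∀ i, i < 30804 → P i := stepQ 30803 Q30803 (allL N30803 (tt N57924 D108658) (tt N57925 D108659) (tt N57926 D108660) (tt N15399 (iv3 D50173)) (tt N44145 (iv4 F110929)) (tt N50479 (iv5 F331085)) (tt N57927 D108662) (tt N15478 F79509))
theorem Q30805 : ∀ i, i < 30805 → P i := stepQ 30804 Q30804 (allL N30804 (tt N30832 (iv1 F79559)) (tt N30838 (iv0 F79563)) (tt N15483 F79510) (tt N50479 (iv3 F331084)) (tt N16705 F79511) (tt N15399 (iv5 D50174)) (tt N50478 (iv6 F331074)) (tt N15480 F79512))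
theorem Q30806 : ∀ i, i < 30806 → P i := stepQ 30805 Q30805 (allL N30805 (tt N57914 (iv1 F168560)) (tt N31946 F163208) (tt N15484 F79513) (tt N57927 (iv3 F168595)) (tt N38690 (iv4 F98658)) (tt N57928 D108664) (tt N15399 (iv6 D50175)) (tt N57929 D108665))
theorem Q30807 : ∀ i, i < 30807 → P i := stepQ 30806 Q30806 (allL N30806 (tt N56845 (iv1 F330488)) (tt N15400 (iv0 D50176)) (tt N57930 D108667) (tt N57931 D108668) (tt N57932 D108669) (tt N57933 D108670) (tt N57934 D108671) (tt N57935 D108672))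
theorem Q30808 : ∀ i, i < 30808 → P i := stepQ 30807 Q30807 (allL N30807 (tt N15400 (iv1 D50177)) (tt N56845 (iv0 F330487)) (tt N57935 (iv2 F168608)) (tt N57936 D108673) (tt N57937 D108674) (tt N57938 D108675) (tt N57939 D108676) (tt N57930 F168607))
theorem Q30809 : ∀ i, i < 30809 → P i := stepQ 30808 Q30808 (allL N30808 (tt N57930 (iv1 F356738)) (tt N57935 (iv0 F356731)) (tt N15400 (iv2 D50178)) (tt N15487 F79514) (tt N31624 (iv4 F81050)) (tt N57940 D108679) (tt N31624 (iv6 F81051)) (tt N56845 (iv7 F330491)))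
theorem Q30810 : ∀ i, i < 30810 → P i := stepQ 30809 Q30809 (allL N30809 (tt N57941 D108680) (tt N57942 D108681) (tt N57940 (iv2 F168611)) (tt N15401 F79515) (tt N57943 D108682) (tt N15400 (iv5 D50179)) (tt N57944 D108683) (tt N56787 (iv7 F164794)))
theorem Q30811 : ∀ i, i < 30811 → P i := stepQ 30810 Q30810 (allL N30810 (tt N57935 (iv1 F356732)) (tt N57930 (iv0 F356737)) (tt N56845 (iv2 F330489)) (tt N15402 F79516) (tt N31626 (iv4 F81054)) (tt N56787 (iv5 F164793)) (tt N35558 F330485) (tt N15400 (iv7 D50180)))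
theorem Q30812 : ∀ i, i < 30812 → P i := stepQ 30811 Q30811 (allL N30811 (tt N15494 (iv1 F79518)) (tt N15401 (iv0 D50181)) (tt N15490 (iv2 F79519)) (tt N57945 D108685) (tt N20424 (iv4 F79521)) (tt N16262 F79517) (tt N57946 D108686) (tt N15491 (iv7 F79520)))
theorem Q30813 : ∀ i, i < 30813 → P i := stepQ 30812 Q30812 (allL N30812 (tt N15401 (iv1 D50182)) (tt N15494 F79522) (tt N15491 (iv2 F79525)) (tt N57947 D108687) (tt N16666 (iv4 F79526)) (tt N20419 F79524) (tt N57948 D108688) (tt N15490 F79523))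
theorem Q30814 : ∀ i, i < 30814 → P i := stepQ 30813 Q30813 (allL N30813 (tt N33230 F337449) (tt N57949 D108690) (tt N15493 F79527) (tt N57944 (iv3 F168613)) (tt N56791 (iv4 F164798)) (tt N31629 (iv5 F81064)) (tt N15401 (iv6 D50183)) (tt N57950 D108691))
theorem Q30815 : ∀ i, i < 30815 → P i := stepQ 30814 Q30814 (allL N30814 (tt N31775 (iv1 F81288)) (tt N31774 F81287) (tt N15495 F79528) (tt N35558 (iv3 F330483)) (tt N15403 F79529) (tt N35557 F330480) (tt N15402 (iv6 D50184)) (tt N31630 (iv7 F81067)))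
theorem Q30816 : ∀ i, i < 30816 → P i := stepQ 30815 Q30815 (allL N30815 (tt N15405 (iv1 D50185)) (tt N16200 F79530) (tt N16056 (iv2 F79533)) (tt N57951 D108693) (tt N16055 F79532) (tt N35701 (iv5 F93132)) (tt N32447 (iv6 F82854)) (tt N18050 F79531))
theorem Q30817 : ∀ i, i < 30817 → P i := stepQ 30816 Q30816 (allL N30816 (tt N57952 D108694) (tt N57953 D108695) (tt N57954 D108696) (tt N15405 (iv3 D50186)) (tt N15420 F79534) (tt N57955 D108697) (tt N57956 D108698) (tt N35639 (iv7 F93049)))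
theorem Q30818 : ∀ i, i < 30818 → P i := stepQ 30817 Q30817 (allL N30817 (tt N18106 F79537) (tt N18039 F79538) (tt N18102 F79535) (tt N57955 (iv3 F168632)) (tt N35575 (iv4 F92900)) (tt N15405 (iv5 D50187)) (tt N57957 D108699) (tt N18103 F79536))
theorem Q30819 : ∀ i, i < 30819 → P i := stepQ 30818 Q30818 (allL N30818 (tt N31312 F164307) (tt N57958 D108700) (tt N35600 (iv2 F92954)) (tt N57956 (iv3 F168634)) (tt N15406 F79539) (tt N57959 D108701) (tt N15405 (iv6 D50188)) (tt N57960 D108702))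
theorem Q30820 : ∀ i, i < 30820 → P i := stepQ 30819 Q30819 (allL N30819 (tt N35602 (iv1 F92965)) (tt N15406 (iv0 D50189)) (tt N35601 F165653) (tt N31791 F165634) (tt N35622 (iv4 F165632)) (tt N29958 F79540) (tt N16217 (iv6 F79541)) (tt N31824 (iv7 F165652)))
theorem Q30821 : ∀ i, i < 30821 → P i := stepQ 30820 Q30820 (allL N30820 (tt N15406 (iv1 D50190)) (tt N35602 F92964) (tt N31824 (iv2 F165654)) (tt N55620 (iv3 F165663)) (tt N35623 (iv4 F172621)) (tt N29957 (iv5 F79542)) (tt N57961 D108704) (tt N35601 F165655))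
theorem Q30822 : ∀ i, i < 30822 → P i := stepQ 30821 Q30821 (allL N30821 (tt N31824 (iv1 F165578)) (tt N35601 F92963) (tt N35602 (iv2 F92960)) (tt N15426 F79543) (tt N57960 (iv4 F168641)) (tt N39017 (iv5 F99170)) (tt N35642 (iv6 F93064)) (tt N15406 (iv7 D50191)))
theorem Q30823 : ∀ i, i < 30823 → P i := stepQ 30822 Q30822 (allL N30822 (tt N38718 (iv1 F98687)) (tt N38717 F98686) (tt N20781 F79544) (tt N31246 (iv3 F80270)) (tt N33294 (iv4 F84416)) (tt N30822 F79545) (tt N15407 (iv6 D50192)) (tt N38665 (iv7 F98578)))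
theorem Q30824 : ∀ i, i < 30824 → P i := stepQ 30823 Q30823 (allL N30823 (tt N15431 F79549) (tt N16186 (iv0 F79551)) (tt N16822 F79546) (tt N15408 (iv3 D50193)) (tt N30209 F79550) (tt N16107 F79547) (tt N57962 D108705) (tt N18271 F79548))
theorem Q30825 : ∀ i, i < 30825 → P i := stepQ 30824 Q30824 (allL N30824 (tt N57963 D108706) (tt N57964 D108707) (tt N20794 F79552) (tt N57962 (iv3 F168649)) (tt N33221 (iv4 F84223)) (tt N36064 (iv5 F93896)) (tt N15408 (iv6 D50194)) (tt N57965 D108708))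
theorem Q30826 : ∀ i, i < 30826 → P i := stepQ 30825 Q30825 (allL N30825 (tt N30596 F79555) (tt N38702 F98676) (tt N38701 (iv2 F98670)) (tt N16821 F79553) (tt N33223 (iv4 F84226)) (tt N18694 F79554) (tt N15409 (iv6 D50195)) (tt N38700 F103351))
theorem Q30827 : ∀ i, i < 30827 → P i := stepQ 30826 Q30826 (allL N30826 (tt N57966 D108709) (tt N57967 D108710) (tt N57968 D108711) (tt N15410 (iv3 D50196)) (tt N55854 (iv4 F161950)) (tt N56783 (iv5 F164789)) (tt N57969 D108712) (tt N55911 (iv7 F162127)))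
theorem Q30828 : ∀ i, i < 30828 → P i := stepQ 30827 Q30827 (allL N30827 (tt N40149 (iv1 F101924)) (tt N40142 F101923) (tt N57866 (iv2 F167964)) (tt N57969 (iv3 F168659)) (tt N15411 F79556) (tt N57970 D108713) (tt N15410 (iv6 D50197)) (tt N57971 D108714))
theorem Q30829 : ∀ i, i < 30829 → P i := stepQ 30828 Q30828 (allL N30828 (tt N57868 (iv1 F167979)) (tt N15411 (iv0 D50198)) (tt N20827 F111367) (tt N57972 D108715) (tt N33231 F111368) (tt N57973 D108716) (tt N38694 (iv6 F112156)) (tt N57867 (iv7 F167970)))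
theorem Q30830 : ∀ i, i < 30830 → P i := stepQ 30829 Q30829 (allL N30829 (tt N15411 (iv1 D50199)) (tt N57868 F167978) (tt N57867 (iv2 F167973)) (tt N20792 F111363) (tt N33232 F111364) (tt N30369 F111365) (tt N57974 D108717) (tt N20827 F111366))
theorem Q30831 : ∀ i, i < 30831 → P i := stepQ 30830 Q30830 (allL N30830 (tt N57867 (iv1 F167969)) (tt N20827 F162083) (tt N57868 (iv2 F167975)) (tt N20887 F111396) (tt N57971 (iv4 F168660)) (tt N57377 (iv5 F166324)) (tt N55913 (iv6 F162137)) (tt N15411 (iv7 D50200)))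
theorem Q30832 : ∀ i, i < 30832 → P i := stepQ 30831 Q30831 (allL N30831 (tt N57975 D108718) (tt N57976 D108719) (tt N57977 D108720) (tt N15414 (iv3 D50201)) (tt N31631 (iv4 F81070)) (tt N57978 D108721) (tt N57979 D108722) (tt N57869 (iv7 F167980)))
theorem Q30833 : ∀ i, i < 30833 → P i := stepQ 30832 Q30832 (allL N30832 (tt N30801 F79558) (tt N30804 F79559) (tt N30966 F79739) (tt N57978 (iv3 F168679)) (tt N20444 F79557) (tt N15414 (iv5 D50202)) (tt N44668 (iv6 F341292)) (tt N30965 F79735))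
theorem Q30834 : ∀ i, i < 30834 → P i := stepQ 30833 Q30833 (allL N30833 (tt N57980 D108724) (tt N57981 D108725) (tt N31829 (iv2 F81423)) (tt N57979 (iv3 F168680)) (tt N15415 F79560) (tt N34992 F343731) (tt N15414 (iv6 D50203)) (tt N57982 D108727))
theorem Q30835 : ∀ i, i < 30835 → P i := stepQ 30834 Q30834 (allL N30834 (tt N31689 F81193) (tt N15415 (iv0 D50204)) (tt N31830 (iv2 F102463)) (tt N57983 D108728) (tt N57984 D108729) (tt N39939 (iv5 F100890)) (tt N31010 F79768) (tt N31831 F102465))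
theorem Q30836 : ∀ i, i < 30836 → P i := stepQ 30835 Q30835 (allL N30835 (tt N15415 (iv1 D50205)) (tt N31689 F81194) (tt N31831 F102462) (tt N39527 F165156) (tt N57985 D108730) (tt N33353 (iv5 F84553)) (tt N31635 (iv6 F84554)) (tt N31830 (iv7 F102461)))
theorem Q30837 : ∀ i, i < 30837 → P i := stepQ 30836 Q30836 (allL N30836 (tt N31831 (iv1 F81427)) (tt N31830 F81426) (tt N31689 (iv2 F81189)) (tt N31636 (iv3 F81080)) (tt N57982 (iv4 F168684)) (tt N31677 (iv5 F81177)) (tt N31602 F80995) (tt N15415 (iv7 D50206)))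
theorem Q30838 : ∀ i, i < 30838 → P i := stepQ 30837 Q30837 (allL N30837 (tt N35226 F325166) (tt N57986 D108732) (tt N47888 (iv2 F325546)) (tt N15416 (iv3 D50207)) (tt N15523 F79561) (tt N57987 D108734) (tt N47829 (iv6 F325637)) (tt N31828 (iv7 F81422)))
theorem Q30839 : ∀ i, i < 30839 → P i := stepQ 30838 Q30838 (allL N30838 (tt N30804 F79563) (tt N30801 F79564) (tt N30965 F79734) (tt N57987 (iv3 F168687)) (tt N20447 F79562) (tt N15416 (iv5 D50208)) (tt N20606 (iv6 F336701)) (tt N30966 (iv7 F79737)))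
theorem Q30840 : ∀ i, i < 30840 → P i := stepQ 30839 Q30839 (allL N30839 (tt N40425 F101701) (tt N44358 F336680) (tt N31690 (iv2 F81195)) (tt N47829 (iv3 F325635)) (tt N15417 F79565) (tt N33221 (iv5 F336691)) (tt N15416 (iv6 D50209)) (tt N31688 (iv7 F81188)))
theorem Q30841 : ∀ i, i < 30841 → P i := stepQ 30840 Q30840 (allL N30840 (tt N57988 D108739) (tt N57989 D108740) (tt N57990 D108741) (tt N15418 (iv3 D50210)) (tt N31329 (iv4 F80458)) (tt N57991 D108742) (tt N47122 F324771) (tt N40321 (iv7 F101579)))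
theorem Q30842 : ∀ i, i < 30842 → P i := stepQ 30841 Q30841 (allL N30841 (tt N30791 F79567) (tt N30796 F79568) (tt N30922 F79682) (tt N57991 (iv3 F168692)) (tt N20607 F79566) (tt N15418 (iv5 D50211)) (tt N44647 F341331) (tt N30921 F79677))
theorem Q30843 : ∀ i, i < 30843 → P i := stepQ 30842 Q30842 (allL N30842 (tt N57984 (iv1 F171736)) (tt N57985 (iv0 F168685)) (tt N40326 (iv2 F101591)) (tt N47122 F324770) (tt N31328 (iv4 F80455)) (tt N34799 (iv5 F341319)) (tt N15418 (iv6 D50212)) (tt N57992 D108747))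
theorem Q30844 : ∀ i, i < 30844 → P i := stepQ 30843 Q30843 (allL N30843 (tt N57993 D108748) (tt N57994 D108749) (tt N57995 D108750) (tt N15419 (iv3 D50213)) (tt N31857 (iv4 F81550)) (tt N57996 D108751) (tt N57997 D108752) (tt N40325 (iv7 F101590)))
theorem Q30845 : ∀ i, i < 30845 → P i := stepQ 30844 Q30844 (allL N30844 (tt N30796 F79570) (tt N30791 F79571) (tt N30921 F79676) (tt N57996 (iv3 F168697)) (tt N20606 F79569) (tt N15419 (iv5 D50214)) (tt N20447 F336704) (tt N30922 (iv7 F79679)))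
theorem Q30846 : ∀ i, i < 30846 → P i := stepQ 30845 Q30845 (allL N30845 (tt N31601 F94230) (tt N31687 F94231) (tt N31685 (iv2 F81185)) (tt N57997 (iv3 F168698)) (tt N32397 (iv4 F82767)) (tt N20448 (iv5 F336714)) (tt N15419 (iv6 D50215)) (tt N31684 (iv7 F172643)))
theorem Q30847 : ∀ i, i < 30847 → P i := stepQ 30846 Q30846 (allL N30846 (tt N57884 (iv1 F168482)) (tt N15420 (iv0 D50216)) (tt N57883 (iv2 F203759)) (tt N57998 D108757) (tt N57999 D108758) (tt N58000 D108759) (tt N58001 D108760) (tt N57882 (iv7 F203758)))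
theorem Q30848 : ∀ i, i < 30848 → P i := stepQ 30847 Q30847 (allL N30847 (tt N15420 (iv1 D50217)) (tt N57884 F168484) (tt N57882 (iv2 F203757)) (tt N58002 D108762) (tt N58003 D108763) (tt N58004 D108764) (tt N58005 D108765) (tt N57883 (iv7 F203760)))
theorem Q30849 : ∀ i, i < 30849 → P i := stepQ 30848 Q30848 (allL N30848 (tt N57883 (iv1 F168483)) (tt N57882 F168479) (tt N15420 (iv2 D50218)) (tt N57872 (iv3 F167982)) (tt N57954 (iv4 F168631)) (tt N58006 D108766) (tt N58007 D108767) (tt N57884 (iv7 F168481)))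
theorem Q30850 : ∀ i, i < 30850 → P i := stepQ 30849 Q30849 (allL N30849 (tt N58008 D108768) (tt N58009 D108769) (tt N58006 (iv2 F168704)) (tt N15421 F79572) (tt N58010 D108770) (tt N15420 (iv5 D50219)) (tt N58011 D108771) (tt N57885 (iv7 F168486)))
theorem Q30851 : ∀ i, i < 30851 → P i := stepQ 30850 Q30850 (allL N30850 (tt N58012 D108772) (tt N58013 D108773) (tt N58007 (iv2 F168705)) (tt N15422 F79573) (tt N57956 (iv4 F168635)) (tt N58014 D108774) (tt N15420 (iv6 D50220)) (tt N58015 D108775))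
theorem Q30852 : ∀ i, i < 30852 → P i := stepQ 30851 Q30851 (allL N30851 (tt N15446 (iv1 F79575)) (tt N15421 (iv0 D50221)) (tt N40319 (iv2 F101571)) (tt N58016 D108776) (tt N33229 (iv4 F84247)) (tt N15456 F79574) (tt N58017 D108777) (tt N38689 (iv7 F98650)))
theorem Q30853 : ∀ i, i < 30853 → P i := stepQ 30852 Q30852 (allL N30852 (tt N15421 (iv1 D50222)) (tt N15446 F79576) (tt N38689 (iv2 F98649)) (tt N58018 D108778) (tt N33228 (iv4 F84240)) (tt N15457 F79577) (tt N58019 D108779) (tt N40319 (iv7 F101573)))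
theorem Q30854 : ∀ i, i < 30854 → P i := stepQ 30853 Q30853 (allL N30853 (tt N58020 D108780) (tt N58021 D108781) (tt N57875 (iv2 F167990)) (tt N58011 (iv3 F168706)) (tt N56786 (iv4 F164792)) (tt N58022 D108782) (tt N15421 (iv6 D50223)) (tt N58023 D108783))
theorem Q30855 : ∀ i, i < 30855 → P i := stepQ 30854 Q30854 (allL N30854 (tt N57879 (iv1 F168447)) (tt N15422 (iv0 D50224)) (tt N57876 (iv2 F170695)) (tt N58024 D108785) (tt N32400 (iv4 F168448)) (tt N58025 D108786) (tt N31654 F168456) (tt N57877 (iv7 F170683)))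
theorem Q30856 : ∀ i, i < 30856 → P i := stepQ 30855 Q30855 (allL N30855 (tt N15422 (iv1 D50225)) (tt N57879 F168446) (tt N57877 (iv2 F170682)) (tt N58026 D108788) (tt N32401 (iv4 F169240)) (tt N58027 D108790) (tt N58028 D108791) (tt N57876 (iv7 F170697)))
theorem Q30857 : ∀ i, i < 30857 → P i := stepQ 30856 Q30856 (allL N30856 (tt N58029 D108792) (tt N58030 D108793) (tt N57878 (iv2 F168441)) (tt N58014 (iv3 F168707)) (tt N58031 D108794) (tt N15422 (iv5 D50226)) (tt N58022 (iv6 F168711)) (tt N58032 D108795))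
theorem Q30858 : ∀ i, i < 30858 → P i := stepQ 30857 Q30857 (allL N30857 (tt N57877 (iv1 F167991)) (tt N57876 F168445) (tt N57879 (iv2 F168442)) (tt N58015 (iv3 F168708)) (tt N15426 F79578) (tt N58032 (iv5 F168715)) (tt N57889 (iv6 F168492)) (tt N15422 (iv7 D50227)))
theorem Q30859 : ∀ i, i < 30859 → P i := stepQ 30858 Q30858 (allL N30858 (tt N58033 D108796) (tt N56732 F168438) (tt N31840 (iv2 F164349)) (tt N58034 D108797) (tt N15423 (iv4 D50230)) (tt N58035 D108798) (tt N31658 (iv6 F81115)) (tt N57880 (iv7 F168474)))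
theorem Q30860 : ∀ i, i < 30860 → P i := stepQ 30859 Q30859 (allL N30859 (tt N15891 F79580) (tt N19691 F79582) (tt N19367 F164309) (tt N30955 (iv3 F164328)) (tt N58036 D108799) (tt N15423 (iv5 D50231)) (tt N58037 D108800) (tt N19690 F164311))
theorem Q30861 : ∀ i, i < 30861 → P i := stepQ 30860 Q30860 (allL N30860 (tt N56732 F168436) (tt N58033 F168717) (tt N57880 (iv2 F168473)) (tt N23615 (iv3 F326652)) (tt N15424 (iv4 D50234)) (tt N58038 D108802) (tt N58039 D108803) (tt N31840 F164320))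
theorem Q30862 : ∀ i, i < 30862 → P i := stepQ 30861 Q30861 (allL N30861 (tt N31006 F79764) (tt N31010 (iv0 F81119)) (tt N57881 (iv2 F168476)) (tt N15535 F164321) (tt N58039 (iv4 F168729)) (tt N31660 (iv5 F81117)) (tt N15424 (iv6 D50236)) (tt N31660 (iv7 F81118)))
theorem Q30863 : ∀ i, i < 30863 → P i := stepQ 30862 Q30862 (allL N30862 (tt N19589 (iv1 F79591)) (tt N15425 (iv0 D50237)) (tt N19587 F101651) (tt N31661 (iv3 F168271)) (tt N58040 D108804) (tt N31614 (iv5 F81028)) (tt N58041 D108805) (tt N19588 F101652))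
theorem Q30864 : ∀ i, i < 30864 → P i := stepQ 30863 Q30863 (allL N30863 (tt N58042 D108806) (tt N58043 D108807) (tt N19586 F79586) (tt N58044 D108808) (tt N15425 (iv4 D50239)) (tt N58045 D108809) (tt N15427 F79587) (tt N58046 D108810))
theorem Q30865 : ∀ i, i < 30865 → P i := stepQ 30864 Q30864 (allL N30864 (tt N19588 (iv1 F79592)) (tt N19587 F79596) (tt N19589 F79588) (tt N39017 (iv3 F99168)) (tt N58046 (iv4 F168744)) (tt N15426 F79589) (tt N19581 F79590) (tt N15425 (iv7 D50240)))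
theorem Q30866 : ∀ i, i < 30866 → P i := stepQ 30865 Q30865 (allL N30865 (tt N15427 (iv1 D50241)) (tt N19534 F79598) (tt N19575 (iv2 F79601)) (tt N58047 D108811) (tt N15734 F79600) (tt N58048 D108812) (tt N58049 D108813) (tt N15733 F79599))
theorem Q30867 : ∀ i, i < 30867 → P i := stepQ 30866 Q30866 (allL N30866 (tt N58050 D108814) (tt N58051 D108815) (tt N58052 D108816) (tt N15427 (iv3 D50242)) (tt N18712 F79602) (tt N43739 F329776) (tt N58044 (iv6 F168741)) (tt N19576 F79603))
theorem Q30868 : ∀ i, i < 30868 → P i := stepQ 30867 Q30867 (allL N30867 (tt N34916 F329641) (tt N35070 F329642) (tt N19585 F79604) (tt N43739 (iv3 F329649)) (tt N31578 (iv4 F80939)) (tt N15427 (iv5 D50243)) (tt N58053 D108818) (tt N19577 F79605))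
theorem Q30869 : ∀ i, i < 30869 → P i := stepQ 30868 Q30868 (allL N30868 (tt N31780 (iv1 F161337)) (tt N55680 (iv0 F161246)) (tt N16199 F79606) (tt N15499 F79607) (tt N35774 (iv4 F93223)) (tt N30868 F79608) (tt N15428 (iv6 D50244)) (tt N31073 (iv7 F79897)))
theorem Q30870 : ∀ i, i < 30870 → P i := stepQ 30869 Q30869 (allL N30869 (tt N16086 F79611) (tt N16089 F79612) (tt N15435 F79609) (tt N58054 D108819) (tt N15429 (iv4 D50245)) (tt N57298 (iv5 F165992)) (tt N58055 D108820) (tt N16188 F79610))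
theorem Q30871 : ∀ i, i < 30871 → P i := stepQ 30870 Q30870 (allL N30870 (tt N31873 (iv1 F81589)) (tt N31667 (iv0 F81146)) (tt N15436 F79613) (tt N16201 F79614) (tt N58055 (iv4 F168777)) (tt N31024 (iv5 F79798)) (tt N15429 (iv6 D50246)) (tt N58056 D108821))
theorem Q30872 : ∀ i, i < 30872 → P i := stepQ 30871 Q30871 (allL N30871 (tt N16602 F79617) (tt N16600 F79618) (tt N20355 F79615) (tt N58057 D108822) (tt N15431 (iv4 D50247)) (tt N16652 (iv5 F79619)) (tt N58058 D108823) (tt N18272 F79616))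
theorem Q30873 : ∀ i, i < 30873 → P i := stepQ 30872 Q30872 (allL N30872 (tt N57220 (iv1 F171689)) (tt N57317 (iv0 F166053)) (tt N31413 (iv2 F80620)) (tt N18261 F79620) (tt N58058 (iv4 F168789)) (tt N31995 (iv5 F81988)) (tt N15431 (iv6 D50248)) (tt N58059 D108825))
theorem Q30874 : ∀ i, i < 30874 → P i := stepQ 30873 Q30873 (allL N30873 (tt N16222 F79623) (tt N31673 F81163) (tt N31672 (iv2 F81153)) (tt N16212 F79621) (tt N32076 (iv4 F82246)) (tt N30732 F79622) (tt N15433 (iv6 D50249)) (tt N31671 (iv7 F81160)))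
theorem Q30875 : ∀ i, i < 30875 → P i := stepQ 30874 Q30874 (allL N30874 (tt N57983 (iv1 F169191)) (tt N58060 D108827) (tt N30248 F79624) (tt N15512 F79625) (tt N32079 (iv4 F82255)) (tt N30240 F79626) (tt N15434 (iv6 D50250)) (tt N58061 D108828))
theorem Q30876 : ∀ i, i < 30876 → P i := stepQ 30875 Q30875 (allL N30875 (tt N58062 D108829) (tt N58063 D108830) (tt N58064 D108831) (tt N15435 (iv3 D50251)) (tt N15445 F79627) (tt N58065 D108832) (tt N58066 D108833) (tt N57861 (iv7 F167936)))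
theorem Q30877 : ∀ i, i < 30877 → P i := stepQ 30876 Q30876 (allL N30876 (tt N30431 F79628) (tt N31248 (iv0 F80275)) (tt N57298 F165994) (tt N58065 (iv3 F168809)) (tt N16651 (iv4 F80283)) (tt N15435 (iv5 D50252)) (tt N58067 D108834) (tt N57297 F165989))
theorem Q30878 : ∀ i, i < 30878 → P i := stepQ 30877 Q30877 (allL N30877 (tt N58068 D108835) (tt N31327 (iv0 F80451)) (tt N58055 (iv2 F168776)) (tt N58066 (iv3 F168810)) (tt N15436 F79629) (tt N58069 D108836) (tt N15435 (iv6 D50253)) (tt N58070 D108837))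
theorem Q30879 : ∀ i, i < 30879 → P i := stepQ 30878 Q30878 (allL N30878 (tt N58056 (iv1 F168784)) (tt N15436 (iv0 D50254)) (tt N31873 (iv2 F81586)) (tt N16226 F81587) (tt N32082 (iv4 F161138)) (tt N58071 D108838) (tt N58072 D108839) (tt N31667 F81588))
theorem Q30880 : ∀ i, i < 30880 → P i := stepQ 30879 Q30879 (allL N30879 (tt N15436 (iv1 D50255)) (tt N58056 F168783) (tt N31667 (iv2 F81142)) (tt N15543 F79632) (tt N32009 (iv4 F82031)) (tt N22625 (iv5 F79631)) (tt N15541 (iv6 F79630)) (tt N31873 (iv7 F81584)))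
theorem Q30881 : ∀ i, i < 30881 → P i := stepQ 30880 Q30880 (allL N30880 (tt N31667 (iv1 F81147)) (tt N31873 F81585) (tt N58056 (iv2 F168780)) (tt N15451 F79633) (tt N58070 (iv4 F168816)) (tt N56947 (iv5 F165107)) (tt N57864 (iv6 F167958)) (tt N15436 (iv7 D50256)))
theorem Q30882 : ∀ i, i < 30882 → P i := stepQ 30881 Q30881 (allL N30881 (tt N19867 F79637) (tt N15552 F79638) (tt N18299 F79634) (tt N58073 D108840) (tt N15438 (iv4 D50257)) (tt N19908 F79636) (tt N58074 D108841) (tt N18278 F79635))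
theorem Q30883 : ∀ i, i < 30883 → P i := stepQ 30882 Q30882 (allL N30882 (tt N39564 (iv1 F100430)) (tt N21033 (iv0 F79641)) (tt N18300 F79639) (tt N15441 F79640) (tt N58074 (iv4 F168839)) (tt N55686 (iv5 F161398)) (tt N15438 (iv6 D50258)) (tt N57235 (iv7 F165862)))
theorem Q30884 : ∀ i, i < 30884 → P i := stepQ 30883 Q30883 (allL N30883 (tt N58075 D108842) (tt N58076 D108843) (tt N58077 D108844) (tt N15440 (iv3 D50259)) (tt N58073 (iv4 F168835)) (tt N56785 (iv5 F164791)) (tt N58078 D108845) (tt N57865 (iv7 F167962)))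
theorem Q30885 : ∀ i, i < 30885 → P i := stepQ 30884 Q30884 (allL N30884 (tt N20470 F82150) (tt N20473 (iv0 F100431)) (tt N55912 (iv2 F162128)) (tt N58078 (iv3 F168845)) (tt N15441 F79642) (tt N58079 D108846) (tt N15440 (iv6 D50260)) (tt N58080 D108847))
theorem Q30886 : ∀ i, i < 30886 → P i := stepQ 30885 Q30885 (allL N30885 (tt N55913 (iv1 F162139)) (tt N15441 (iv0 D50261)) (tt N40399 F101677) (tt N16830 F101678) (tt N40313 F101679) (tt N35819 F101680) (tt N58081 D108848) (tt N35818 F101681))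
theorem Q30887 : ∀ i, i < 30887 → P i := stepQ 30886 Q30886 (allL N30886 (tt N15441 (iv1 D50262)) (tt N55913 F162138) (tt N35818 (iv2 F93308)) (tt N57317 (iv3 F166050)) (tt N39899 (iv4 F100838)) (tt N30964 (iv5 F79731)) (tt N30594 (iv6 F80263)) (tt N40399 (iv7 F101675)))
theorem Q30888 : ∀ i, i < 30888 → P i := stepQ 30887 Q30887 (allL N30887 (tt N58082 D108849) (tt N58083 D108850) (tt N32068 (iv2 F82223)) (tt N55686 (iv3 F161396)) (tt N58084 D108851) (tt N15441 (iv5 D50263)) (tt N15443 F79643) (tt N58085 D108852))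
theorem Q30889 : ∀ i, i < 30889 → P i := stepQ 30888 Q30888 (allL N30888 (tt N35818 (iv1 F93312)) (tt N40399 F101676) (tt N55913 (iv2 F162133)) (tt N57235 F165863) (tt N58080 (iv4 F168847)) (tt N58085 (iv5 F168858)) (tt N57868 (iv6 F167977)) (tt N15441 (iv7 D50264)))
theorem Q30890 : ∀ i, i < 30890 → P i := stepQ 30889 Q30889 (allL N30889 (tt N15834 F79646) (tt N15832 F79647) (tt N15851 F79644) (tt N58086 D108853) (tt N15443 (iv4 D50265)) (tt N31700 (iv5 F81213)) (tt N58084 (iv6 F168855)) (tt N15852 F79645))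
theorem Q30891 : ∀ i, i < 30891 → P i := stepQ 30890 Q30890 (allL N30890 (tt N57872 (iv1 F167984)) (tt N15445 (iv0 D50266)) (tt N57871 (iv2 F175548)) (tt N58087 D108855) (tt N58088 D108856) (tt N58089 D108857) (tt N58090 D108858) (tt N57870 (iv7 F175552)))
theorem Q30892 : ∀ i, i < 30892 → P i := stepQ 30891 Q30891 (allL N30891 (tt N15445 (iv1 D50267)) (tt N57872 F167986) (tt N57870 (iv2 F175551)) (tt N58091 D108860) (tt N58092 D108861) (tt N58093 D108862) (tt N58094 D108863) (tt N57871 (iv7 F175549)))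
theorem Q30893 : ∀ i, i < 30893 → P i := stepQ 30892 Q30892 (allL N30892 (tt N57871 (iv1 F167985)) (tt N57870 F167981) (tt N15445 (iv2 D50268)) (tt N57884 (iv3 F168480)) (tt N58064 (iv4 F168808)) (tt N58095 D108864) (tt N58096 D108865) (tt N57872 (iv7 F167983)))
theorem Q30894 : ∀ i, i < 30894 → P i := stepQ 30893 Q30893 (allL N30893 (tt N58097 D108866) (tt N58098 D108867) (tt N58095 (iv2 F168866)) (tt N15446 F79648) (tt N58099 D108868) (tt N15445 (iv5 D50269)) (tt N58100 D108869) (tt N57873 (iv7 F167988)))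
theorem Q30895 : ∀ i, i < 30895 → P i := stepQ 30894 Q30894 (allL N30894 (tt N58101 D108870) (tt N58102 D108871) (tt N58096 (iv2 F168867)) (tt N15447 F79649) (tt N58066 (iv4 F168811)) (tt N58103 D108872) (tt N15445 (iv6 D50270)) (tt N58104 D108873))
theorem Q30896 : ∀ i, i < 30896 → P i := stepQ 30895 Q30895 (allL N30895 (tt N58105 D108874) (tt N56791 (iv0 F364229)) (tt N57887 (iv2 F168488)) (tt N58100 (iv3 F168868)) (tt N56784 (iv4 F164790)) (tt N58106 D108876) (tt N15446 (iv6 D50271)) (tt N58107 D108877))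
theorem Q30897 : ∀ i, i < 30897 → P i := stepQ 30896 Q30896 (allL N30896 (tt N57889 (iv1 F168494)) (tt N15447 (iv0 D50272)) (tt N40336 (iv2 F101602)) (tt N58108 D108878) (tt N40305 F101603) (tt N58109 D108879) (tt N58110 D108880) (tt N31645 F101604))
theorem Q30898 : ∀ i, i < 30898 → P i := stepQ 30897 Q30897 (allL N30897 (tt N15447 (iv1 D50273)) (tt N57889 F168493) (tt N31645 F81207) (tt N58111 D108881) (tt N31265 F81208) (tt N58112 D108882) (tt N31264 (iv6 F81205)) (tt N40336 (iv7 F101599)))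
theorem Q30899 : ∀ i, i < 30899 → P i := stepQ 30898 Q30898 (allL N30898 (tt N58113 D108883) (tt N58114 D108884) (tt N57888 (iv2 F168489)) (tt N58103 (iv3 F168869)) (tt N58115 D108885) (tt N15447 (iv5 D50274)) (tt N58106 (iv6 F168871)) (tt N58116 D108886))
theorem Q30900 : ∀ i, i < 30900 → P i := stepQ 30899 Q30899 (allL N30899 (tt N31645 (iv1 F98655)) (tt N40336 (iv0 F101600)) (tt N57889 (iv2 F168490)) (tt N58104 (iv3 F168870)) (tt N15451 F79650) (tt N58116 (iv5 F168874)) (tt N57879 (iv6 F168444)) (tt N15447 (iv7 D50275)))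
theorem Q30901 : ∀ i, i < 30901 → P i := stepQ 30900 Q30900 (allL N30900 (tt N58117 D108887) (tt N20437 (iv0 F79651)) (tt N57890 (iv2 F168495)) (tt N35027 (iv3 F326226)) (tt N15448 (iv4 D50276)) (tt N58118 D108889) (tt N40423 (iv6 F101699)) (tt N31639 F81094))
theorem Q30902 : ∀ i, i < 30902 → P i := stepQ 30901 Q30901 (allL N30901 (tt N20437 F81267) (tt N58117 F168876) (tt N31639 (iv2 F81092)) (tt N58119 D108890) (tt N15449 (iv4 D50277)) (tt N58120 D108891) (tt N31593 (iv6 F80964)) (tt N57890 (iv7 F168496)))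
theorem Q30903 : ∀ i, i < 30903 → P i := stepQ 30902 Q30902 (allL N30902 (tt N20316 (iv1 F79658)) (tt N15450 (iv0 D50278)) (tt N20314 F81225) (tt N15558 F168230) (tt N58121 D108892) (tt N31710 F81223) (tt N33472 F168231) (tt N20315 (iv7 F81224)))
theorem Q30904 : ∀ i, i < 30904 → P i := stepQ 30903 Q30903 (allL N30903 (tt N15450 (iv1 D50279)) (tt N20316 F79652) (tt N20315 (iv2 F81226)) (tt N20449 F168261) (tt N58122 D108893) (tt N57915 (iv5 F168563)) (tt N38759 (iv6 F100749)) (tt N20314 F81227))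
theorem Q30905 : ∀ i, i < 30905 → P i := stepQ 30904 Q30904 (allL N30904 (tt N58123 D108894) (tt N58124 D108895) (tt N20313 F79653) (tt N58125 D108896) (tt N15450 (iv4 D50280)) (tt N58126 D108897) (tt N15452 F79654) (tt N58127 D108898))
theorem Q30906 : ∀ i, i < 30906 → P i := stepQ 30905 Q30905 (allL N30905 (tt N20315 (iv1 F79659)) (tt N20314 F79660) (tt N20316 F79655) (tt N56947 (iv3 F165106)) (tt N58127 (iv4 F168894)) (tt N15451 F79656) (tt N20323 F79657) (tt N15450 (iv7 D50281)))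
theorem Q30907 : ∀ i, i < 30907 → P i := stepQ 30906 Q30906 (allL N30906 (tt N58128 D108899) (tt N58129 D108900) (tt N58130 D108901) (tt N15452 (iv3 D50282)) (tt N55889 (iv4 F162054)) (tt N58131 D108902) (tt N58125 (iv6 F168891)) (tt N20319 F79661))
theorem Q30908 : ∀ i, i < 30908 → P i := stepQ 30907 Q30907 (allL N30907 (tt N38398 (iv1 F98204)) (tt N36109 (iv0 F93965)) (tt N20312 F79662) (tt N58131 (iv3 F168907)) (tt N31699 (iv4 F81204)) (tt N15452 (iv5 D50283)) (tt N58132 D108903) (tt N20320 F79663))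
theorem Q30909 : ∀ i, i < 30909 → P i := stepQ 30908 Q30908 (allL N30908 (tt N58133 D108904) (tt N58134 D108905) (tt N58135 D108906) (tt N15453 (iv3 D50284)) (tt N15458 F79664) (tt N58136 D108907) (tt N58137 D108908) (tt N18094 F79665))
theorem Q30910 : ∀ i, i < 30910 → P i := stepQ 30909 Q30909 (allL N30909 (tt N32026 (iv1 F82076)) (tt N35604 (iv0 F92969)) (tt N18092 F79666) (tt N58136 (iv3 F168917)) (tt N35582 (iv4 F92918)) (tt N15453 (iv5 D50285)) (tt N58138 D108909) (tt N18095 F79667))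
theorem Q30911 : ∀ i, i < 30911 → P i := stepQ 30910 Q30910 (allL N30910 (tt N35892 F164019) (tt N58139 D108910) (tt N18093 F79668) (tt N58137 (iv3 F168919)) (tt N15455 F79669) (tt N58140 D108911) (tt N15453 (iv6 D50286)) (tt N56972 (iv7 F165135)))
theorem Q30912 : ∀ i, i < 30912 → P i := stepQ 30911 Q30911 (allL N30911 (tt N32046 (iv1 F82160)) (tt N15455 (iv0 D50287)) (tt N55609 (iv2 F165519)) (tt N31883 F165558) (tt N35666 (iv4 F165565)) (tt N58141 D108912) (tt N16242 F92951) (tt N31904 (iv7 F165557)))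
theorem Q30913 : ∀ i, i < 30913 → P i := stepQ 30912 Q30912 (allL N30912 (tt N15455 (iv1 D50288)) (tt N32046 (iv0 F82159)) (tt N31904 (iv2 F165555)) (tt N45771 F327224) (tt N35667 (iv4 F93099)) (tt N30352 (iv5 F79670)) (tt N56906 (iv6 F165042)) (tt N55609 (iv7 F165467)))
theorem Q30914 : ∀ i, i < 30914 → P i := stepQ 30913 Q30913 (allL N30913 (tt N58142 D108913) (tt N58143 D108914) (tt N58144 D108915) (tt N15456 (iv3 D50289)) (tt N31317 (iv4 F80430)) (tt N58016 (iv5 F168709)) (tt N56871 (iv6 F358679)) (tt N38688 (iv7 F98648)))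
theorem Q30915 : ∀ i, i < 30915 → P i := stepQ 30914 Q30914 (allL N30914 (tt N31781 (iv1 F166185)) (tt N31777 (iv0 F166171)) (tt N40320 (iv2 F101576)) (tt N56871 (iv3 F358677)) (tt N31316 (iv4 F80427)) (tt N56869 (iv5 F358693)) (tt N15456 (iv6 D50290)) (tt N31692 (iv7 F81198)))
theorem Q30916 : ∀ i, i < 30916 → P i := stepQ 30915 Q30915 (allL N30915 (tt N58145 D108918) (tt N58146 D108919) (tt N58147 D108920) (tt N15457 (iv3 D50291)) (tt N31924 (iv4 F81753)) (tt N58018 (iv5 F168710)) (tt N31693 (iv6 F81200)) (tt N40318 (iv7 F101569)))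
theorem Q30917 : ∀ i, i < 30917 → P i := stepQ 30916 Q30916 (allL N30916 (tt N57906 (iv1 F168538)) (tt N15458 (iv0 D50292)) (tt N57905 (iv2 F204635)) (tt N58148 D108922) (tt N58149 D108923) (tt N58008 (iv5 F354397)) (tt N58150 D108925) (tt N57904 (iv7 F204633)))
theorem Q30918 : ∀ i, i < 30918 → P i := stepQ 30917 Q30917 (allL N30917 (tt N15458 (iv1 D50293)) (tt N57906 F168540) (tt N57904 (iv2 F204632)) (tt N58151 D108927) (tt N58152 D108928) (tt N58009 (iv5 F354403)) (tt N31695 (iv6 F348804)) (tt N57905 (iv7 F204636)))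
theorem Q30919 : ∀ i, i < 30919 → P i := stepQ 30918 Q30918 (allL N30918 (tt N57905 (iv1 F168539)) (tt N57904 F168534) (tt N15458 (iv2 D50294)) (tt N57894 (iv3 F168505)) (tt N58135 (iv4 F168912)) (tt N58153 D108931) (tt N58154 D108932) (tt N57906 (iv7 F168537)))
theorem Q30920 : ∀ i, i < 30920 → P i := stepQ 30919 Q30919 (allL N30919 (tt N58155 D108933) (tt N58156 D108934) (tt N58153 (iv2 F168941)) (tt N15459 F79671) (tt N58157 D108935) (tt N15458 (iv5 D50295)) (tt N58158 D108936) (tt N57907 (iv7 F168542)))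
theorem Q30921 : ∀ i, i < 30921 → P i := stepQ 30920 Q30920 (allL N30920 (tt N58159 D108937) (tt N58160 D108938) (tt N58154 (iv2 F168942)) (tt N15460 F79672) (tt N58137 (iv4 F168920)) (tt N58161 D108939) (tt N15458 (iv6 D50296)) (tt N58162 D108940))
theorem Q30922 : ∀ i, i < 30922 → P i := stepQ 30921 Q30921 (allL N30921 (tt N15471 (iv1 F79675)) (tt N15459 (iv0 D50297)) (tt N30844 (iv2 F79676)) (tt N58163 D108941) (tt N20456 F79674) (tt N20431 F79673) (tt N33213 F336708) (tt N30841 (iv7 F79677)))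
theorem Q30923 : ∀ i, i < 30923 → P i := stepQ 30922 Q30922 (allL N30922 (tt N15459 (iv1 D50298)) (tt N15471 F79678) (tt N30841 (iv2 F79682)) (tt N58164 D108943) (tt N20453 F79681) (tt N20434 F79680) (tt N44651 (iv6 F341329)) (tt N30844 F79679))
theorem Q30924 : ∀ i, i < 30924 → P i := stepQ 30923 Q30923 (allL N30923 (tt N58165 D108945) (tt N58166 D108946) (tt N57897 (iv2 F168513)) (tt N58158 (iv3 F168943)) (tt N56766 (iv4 F164769)) (tt N58167 D108947) (tt N15459 (iv6 D50299)) (tt N58168 D108948))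
theorem Q30925 : ∀ i, i < 30925 → P i := stepQ 30924 Q30924 (allL N30924 (tt N57901 F168522) (tt N15460 (iv0 D50300)) (tt N57898 (iv2 F202506)) (tt N58169 D108950) (tt N35816 F168014) (tt N58170 D108951) (tt N31725 (iv6 F172740)) (tt N57899 (iv7 F202521)))
theorem Q30926 : ∀ i, i < 30926 → P i := stepQ 30925 Q30925 (allL N30925 (tt N15460 (iv1 D50301)) (tt N57901 F168521) (tt N57899 (iv2 F202520)) (tt N58171 D108954) (tt N35817 (iv4 F168959)) (tt N58172 D108956) (tt N58173 D108957) (tt N57898 (iv7 F202507)))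
theorem Q30927 : ∀ i, i < 30927 → P i := stepQ 30926 Q30926 (allL N30926 (tt N58174 D108958) (tt N58175 D108959) (tt N57900 (iv2 F168516)) (tt N58161 (iv3 F168944)) (tt N58176 D108960) (tt N15460 (iv5 D50302)) (tt N58167 (iv6 F168954)) (tt N58177 D108961))
theorem Q30928 : ∀ i, i < 30928 → P i := stepQ 30927 Q30927 (allL N30927 (tt N57899 (iv1 F168514)) (tt N57898 F168520) (tt N57901 (iv2 F168517)) (tt N58162 (iv3 F168945)) (tt N15466 F79683) (tt N58177 (iv5 F168961)) (tt N57913 (iv6 F168550)) (tt N15460 (iv7 D50303)))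
theorem Q30929 : ∀ i, i < 30929 → P i := stepQ 30928 Q30928 (allL N30928 (tt N15473 (iv1 F79689)) (tt N15462 (iv0 D50304)) (tt N19550 (iv2 F79688)) (tt N15678 F79686) (tt N15708 F79685) (tt N20452 F79684) (tt N20347 F79687) (tt N18294 F79690))
theorem Q30930 : ∀ i, i < 30930 → P i := stepQ 30929 Q30929 (allL N30929 (tt N57923 (iv1 F168586)) (tt N15481 F164016) (tt N31914 F164017) (tt N58178 D108962) (tt N15463 (iv4 D50307)) (tt N58179 D108963) (tt N31730 (iv6 F81244)) (tt N57902 (iv7 F168524)))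
theorem Q30931 : ∀ i, i < 30931 → P i := stepQ 30930 Q30930 (allL N30930 (tt N40418 F101693) (tt N40415 (iv0 F101690)) (tt N31915 (iv2 F163911)) (tt N31707 (iv3 F168304)) (tt N58180 D108964) (tt N15463 (iv5 D50308)) (tt N38775 (iv6 F98790)) (tt N40302 F101640))
theorem Q30932 : ∀ i, i < 30932 → P i := stepQ 30931 Q30931 (allL N30931 (tt N15481 F100841) (tt N57923 F168585) (tt N57902 (iv2 F168523)) (tt N45624 (iv3 F326044)) (tt N15464 (iv4 D50311)) (tt N58181 D108966) (tt N58182 D108967) (tt N31914 F163936))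
theorem Q30933 : ∀ i, i < 30933 → P i := stepQ 30932 Q30932 (allL N30932 (tt N44362 F111779) (tt N31783 (iv0 F111586)) (tt N57903 (iv2 F168528)) (tt N15584 F163920) (tt N58182 (iv4 F168963)) (tt N20372 (iv5 F163942)) (tt N15464 (iv6 D50313)) (tt N31729 (iv7 F81242)))
theorem Q30934 : ∀ i, i < 30934 → P i := stepQ 30933 Q30933 (allL N30933 (tt N55912 F162130) (tt N58080 F168848) (tt N20473 F79695) (tt N58183 D108968) (tt N15465 (iv4 D50314)) (tt N58184 D108969) (tt N20218 F79696) (tt N20470 F79697))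
theorem Q30935 : ∀ i, i < 30935 → P i := stepQ 30934 Q30934 (allL N30934 (tt N31937 (iv1 F168428)) (tt N55646 (iv0 F168427)) (tt N15469 F79698) (tt N16206 F79699) (tt N57292 (iv4 F165982)) (tt N19922 F79700) (tt N15467 (iv6 D50315)) (tt N58185 D108970))
theorem Q30936 : ∀ i, i < 30936 → P i := stepQ 30935 Q30935 (allL N30935 (tt N58186 D108971) (tt N58187 D108972) (tt N58188 D108973) (tt N15468 (iv3 D50316)) (tt N15470 F79701) (tt N18310 (iv5 F330502)) (tt N58189 D108975) (tt N57287 (iv7 F165966)))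
theorem Q30937 : ∀ i, i < 30937 → P i := stepQ 30936 Q30936 (allL N30936 (tt N32070 (iv1 F82231)) (tt N32066 (iv0 F82218)) (tt N57291 (iv2 F165976)) (tt N18310 F330505) (tt N16640 F79702) (tt N15468 (iv5 D50317)) (tt N18308 (iv6 F330507)) (tt N57288 (iv7 F165968)))
theorem Q30938 : ∀ i, i < 30938 → P i := stepQ 30937 Q30937 (allL N30937 (tt N58190 D108977) (tt N58191 D108978) (tt N57292 (iv2 F165981)) (tt N58189 (iv3 F168977)) (tt N15469 F79703) (tt N58192 D108979) (tt N15468 (iv6 D50318)) (tt N58193 D108980))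
theorem Q30939 : ∀ i, i < 30939 → P i := stepQ 30938 Q30938 (allL N30938 (tt N58185 (iv1 F168974)) (tt N15469 (iv0 D50319)) (tt N31937 F168161) (tt N16241 F168162) (tt N35776 F168163) (tt N38778 F161107) (tt N58194 D108981) (tt N55646 F168164))
theorem Q30940 : ∀ i, i < 30940 → P i := stepQ 30939 Q30939 (allL N30939 (tt N15469 (iv1 D50320)) (tt N58185 F168973) (tt N55646 (iv2 F168165)) (tt N31903 F168166) (tt N35777 F168169) (tt N38779 (iv5 F100099)) (tt N31900 (iv6 F168168)) (tt N31937 (iv7 F168158)))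
theorem Q30941 : ∀ i, i < 30941 → P i := stepQ 30940 Q30940 (allL N30940 (tt N56406 F165662) (tt N58195 D108982) (tt N19922 F79704) (tt N15476 F79705) (tt N58196 D108983) (tt N15469 (iv5 D50321)) (tt N16561 F79706) (tt N58197 D108984))
theorem Q30942 : ∀ i, i < 30942 → P i := stepQ 30941 Q30941 (allL N30941 (tt N55646 F168426) (tt N31937 F168429) (tt N58185 (iv2 F168969)) (tt N15477 F79707) (tt N58193 (iv4 F168982)) (tt N58197 (iv5 F168997)) (tt N39536 F100401) (tt N15469 (iv7 D50322)))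
theorem Q30943 : ∀ i, i < 30943 → P i := stepQ 30942 Q30942 (allL N30942 (tt N57894 (iv1 F168507)) (tt N15470 (iv0 D50323)) (tt N57893 (iv2 F170033)) (tt N58198 D108986) (tt N58199 D108987) (tt N58097 (iv5 F362480)) (tt N31718 (iv6 F359287)) (tt N57892 (iv7 F170038)))
theorem Q30944 : ∀ i, i < 30944 → P i := stepQ 30943 Q30943 (allL N30943 (tt N15470 (iv1 D50324)) (tt N57894 F168509) (tt N57892 (iv2 F170037)) (tt N58200 D108991) (tt N58201 D108992) (tt N58098 (iv5 F402875)) (tt N58202 D108994) (tt N57893 (iv7 F170035)))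
theorem Q30945 : ∀ i, i < 30945 → P i := stepQ 30944 Q30944 (allL N30944 (tt N57893 (iv1 F168508)) (tt N57892 F168504) (tt N15470 (iv2 D50325)) (tt N57906 (iv3 F168535)) (tt N58188 (iv4 F168975)) (tt N58203 D108995) (tt N58204 D108996) (tt N57894 (iv7 F168506)))
theorem Q30946 : ∀ i, i < 30946 → P i := stepQ 30945 Q30945 (allL N30945 (tt N58205 D108997) (tt N58206 D108998) (tt N58203 (iv2 F169004)) (tt N15471 F79708) (tt N58207 D108999) (tt N15470 (iv5 D50326)) (tt N58208 D109000) (tt N57895 (iv7 F168511)))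
theorem Q30947 : ∀ i, i < 30947 → P i := stepQ 30946 Q30946 (allL N30946 (tt N58209 D109001) (tt N44650 (iv0 F327609)) (tt N58204 (iv2 F169005)) (tt N15472 F79709) (tt N58189 (iv4 F168978)) (tt N50553 (iv5 F327615)) (tt N15470 (iv6 D50327)) (tt N58210 D109004))
theorem Q30948 : ∀ i, i < 30948 → P i := stepQ 30947 Q30947 (allL N30947 (tt N58211 D109005) (tt N58212 D109006) (tt N57909 (iv2 F168545)) (tt N58208 (iv3 F169006)) (tt N56760 (iv4 F164751)) (tt N57857 (iv5 F351283)) (tt N15471 (iv6 D50328)) (tt N58213 D109008))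
theorem Q30949 : ∀ i, i < 30949 → P i := stepQ 30948 Q30948 (allL N30948 (tt N57913 (iv1 F168555)) (tt N15472 (iv0 D50329)) (tt N57910 (iv2 F171887)) (tt N58214 D109010) (tt N58215 D109011) (tt N58216 D109012) (tt N58217 D109013) (tt N57911 (iv7 F171920)))
theorem Q30950 : ∀ i, i < 30950 → P i := stepQ 30949 Q30949 (allL N30949 (tt N15472 (iv1 D50330)) (tt N57913 F168552) (tt N57911 (iv2 F171918)) (tt N48401 (iv3 F327438)) (tt N35900 (iv4 F168462)) (tt N58218 D109016) (tt N31702 F168472) (tt N57910 (iv7 F171888)))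
theorem Q30951 : ∀ i, i < 30951 → P i := stepQ 30950 Q30950 (allL N30950 (tt N58219 D109017) (tt N58220 D109018) (tt N57912 (iv2 F168547)) (tt N50553 (iv3 F327614)) (tt N26414 (iv4 F327616)) (tt N15472 (iv5 D50331)) (tt N57857 (iv6 F351284)) (tt N51232 (iv7 F327466)))
theorem Q30952 : ∀ i, i < 30952 → P i := stepQ 30951 Q30951 (allL N30951 (tt N57911 (iv1 F168546)) (tt N57910 F168551) (tt N57913 (iv2 F168548)) (tt N58210 (iv3 F169008)) (tt N15477 F79710) (tt N51232 (iv5 F327465)) (tt N57901 (iv6 F168519)) (tt N15472 (iv7 D50332)))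
theorem Q30953 : ∀ i, i < 30953 → P i := stepQ 30952 Q30952 (allL N30952 (tt N57929 (iv1 F168602)) (tt N15484 F168285) (tt N57914 (iv2 F168556)) (tt N24065 (iv3 F326223)) (tt N15474 (iv4 D50335)) (tt N58221 D109022) (tt N58222 D109023) (tt N31946 F168286))
theorem Q30954 : ∀ i, i < 30954 → P i := stepQ 30953 Q30953 (allL N30953 (tt N31779 F81293) (tt N58223 D109024) (tt N57915 (iv2 F168561)) (tt N15602 F168260) (tt N58222 (iv4 F169015)) (tt N20315 F79712) (tt N15474 (iv6 D50337)) (tt N31710 (iv7 F81222)))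
theorem Q30955 : ∀ i, i < 30955 → P i := stepQ 30954 Q30954 (allL N30954 (tt N15484 F168281) (tt N57929 F168601) (tt N31946 F168282) (tt N58224 D109025) (tt N15475 (iv4 D50340)) (tt N58225 D109026) (tt N31706 (iv6 F81219)) (tt N57914 (iv7 F168557)))
theorem Q30956 : ∀ i, i < 30956 → P i := stepQ 30955 Q30955 (allL N30955 (tt N15476 (iv1 D50342)) (tt N19559 F79716) (tt N18958 F164327) (tt N30859 F164328) (tt N28064 F326834) (tt N15856 (iv5 F79717)) (tt N58226 D109028) (tt N19558 F164329))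
theorem Q30957 : ∀ i, i < 30957 → P i := stepQ 30956 Q30956 (allL N30956 (tt N58227 D109029) (tt N58228 D109030) (tt N19557 F79718) (tt N58229 D109031) (tt N15476 (iv4 D50343)) (tt N48643 (iv5 F327617)) (tt N19531 F79719) (tt N58230 D109033))
theorem Q30958 : ∀ i, i < 30958 → P i := stepQ 30957 Q30957 (allL N30957 (tt N18958 (iv1 F164126)) (tt N19558 F79725) (tt N19559 F79720) (tt N58197 (iv3 F168996)) (tt N58230 (iv4 F169037)) (tt N15477 F79721) (tt N19572 F79722) (tt N15476 (iv7 D50344)))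
theorem Q30959 : ∀ i, i < 30959 → P i := stepQ 30958 Q30958 (allL N30958 (tt N57926 (iv1 F168590)) (tt N15478 (iv0 D50345)) (tt N57925 (iv2 F405753)) (tt N58231 D109035) (tt N58232 D109036) (tt N58233 D109037) (tt N58234 D109038) (tt N57924 (iv7 F405751)))
theorem Q30960 : ∀ i, i < 30960 → P i := stepQ 30959 Q30959 (allL N30959 (tt N15478 (iv1 D50346)) (tt N57926 F168592) (tt N57924 F405752) (tt N58235 D109040) (tt N58236 D109041) (tt N58237 D109042) (tt N31734 F378714) (tt N57925 (iv7 F405754)))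
theorem Q30961 : ∀ i, i < 30961 → P i := stepQ 30960 Q30960 (allL N30960 (tt N57925 (iv1 F168591)) (tt N57924 F168587) (tt N15478 (iv2 D50347)) (tt N57918 (iv3 F168568)) (tt N58238 D109044) (tt N58239 D109045) (tt N58240 D109046) (tt N57926 (iv7 F168589)))
theorem Q30962 : ∀ i, i < 30962 → P i := stepQ 30961 Q30961 (allL N30961 (tt N58241 D109047) (tt N58242 D109048) (tt N58238 (iv2 F169045)) (tt N22588 F79726) (tt N15478 (iv4 D50348)) (tt N58243 D109049) (tt N58244 D109050) (tt N44145 (iv7 F110930)))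
theorem Q30963 : ∀ i, i < 30963 → P i := stepQ 30962 Q30962 (allL N30962 (tt N58245 D109051) (tt N58246 D109052) (tt N58239 (iv2 F169046)) (tt N15480 F79727) (tt N50482 (iv4 F331069)) (tt N15478 (iv5 D50349)) (tt N58247 D109054) (tt N50479 (iv7 F331086)))
theorem Q30964 : ∀ i, i < 30964 → P i := stepQ 30963 Q30963 (allL N30963 (tt N58248 D109055) (tt N58249 D109056) (tt N58240 (iv2 F169047)) (tt N15481 F79728) (tt N58244 (iv4 F169052)) (tt N58250 D109057) (tt N15478 (iv6 D50350)) (tt N58251 D109058))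
theorem Q30965 : ∀ i, i < 30965 → P i := stepQ 30964 Q30964 (allL N30964 (tt N58252 D109059) (tt N35762 F167071) (tt N18158 F79729) (tt N56211 (iv3 F163184)) (tt N15481 F79730) (tt N30886 F79731) (tt N15479 (iv6 D50351)) (tt N58253 D109060))
theorem Q30966 : ∀ i, i < 30966 → P i := stepQ 30965 Q30965 (allL N30965 (tt N15483 (iv1 F79733)) (tt N15480 (iv0 D50352)) (tt N30838 (iv2 F79734)) (tt N58254 D109061) (tt N33213 (iv4 F84195)) (tt N30778 F79732) (tt N20456 (iv6 F336703)) (tt N30832 (iv7 F79735)))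
theorem Q30967 : ∀ i, i < 30967 → P i := stepQ 30966 Q30966 (allL N30966 (tt N15480 (iv1 D50353)) (tt N15483 F79736) (tt N30832 (iv2 F79739)) (tt N58255 D109063) (tt N33218 (iv4 F84215)) (tt N15933 F79738) (tt N45507 (iv6 F341301)) (tt N30838 F79737))
theorem Q30968 : ∀ i, i < 30968 → P i := stepQ 30967 Q30967 (allL N30967 (tt N58256 D109065) (tt N58257 D109066) (tt N57921 (iv2 F168578)) (tt N58247 (iv3 F169054)) (tt N20608 F79740) (tt N58258 D109067) (tt N15480 (iv6 D50354)) (tt N58259 D109068))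
theorem Q30969 : ∀ i, i < 30969 → P i := stepQ 30968 Q30968 (allL N30968 (tt N58260 D109069) (tt N58261 D109070) (tt N57922 (iv2 F168580)) (tt N58250 (iv3 F169055)) (tt N58262 D109071) (tt N15481 (iv5 D50357)) (tt N58258 (iv6 F169070)) (tt N58263 D109072))
theorem Q30970 : ∀ i, i < 30970 → P i := stepQ 30969 Q30969 (allL N30969 (tt N57902 (iv1 F168526)) (tt N31914 F168527) (tt N57923 (iv2 F168582)) (tt N58251 (iv3 F169056)) (tt N58253 (iv4 F169059)) (tt N58263 (iv5 F169076)) (tt N57929 (iv6 F168600)) (tt N15481 (iv7 D50358)))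
theorem Q30971 : ∀ i, i < 30971 → P i := stepQ 30970 Q30970 (allL N30970 (tt N57918 (iv1 F168571)) (tt N15482 (iv0 D50359)) (tt N57917 (iv2 F352259)) (tt N58264 D109074) (tt N58265 D109075) (tt N58266 D109076) (tt N31745 (iv6 F363306)) (tt N57916 (iv7 F352257)))
theorem Q30972 : ∀ i, i < 30972 → P i := stepQ 30971 Q30971 (allL N30971 (tt N15482 (iv1 D50360)) (tt N57918 F168573) (tt N57916 (iv2 F352256)) (tt N58267 D109079) (tt N58268 D109080) (tt N58269 D109081) (tt N58270 D109082) (tt N57917 (iv7 F352260)))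
theorem Q30973 : ∀ i, i < 30973 → P i := stepQ 30972 Q30972 (allL N30972 (tt N57917 (iv1 F168572)) (tt N57916 F168567) (tt N15482 (iv2 D50361)) (tt N57926 (iv3 F168588)) (tt N55656 (iv4 F161176)) (tt N58271 D109083) (tt N58272 D109084) (tt N57918 (iv7 F168570)))
theorem Q30974 : ∀ i, i < 30974 → P i := stepQ 30973 Q30973 (allL N30973 (tt N58273 D109085) (tt N58274 D109086) (tt N58271 (iv2 F169080)) (tt N15483 F79741) (tt N58275 D109087) (tt N15482 (iv5 D50362)) (tt N58276 D109088) (tt N57919 (iv7 F168575)))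
theorem Q30975 : ∀ i, i < 30975 → P i := stepQ 30974 Q30974 (allL N30974 (tt N58277 D109089) (tt N58278 D109090) (tt N58272 (iv2 F169081)) (tt N15484 F79742) (tt N55658 (iv4 F161184)) (tt N58279 D109091) (tt N15482 (iv6 D50363)) (tt N58280 D109092))
theorem Q30976 : ∀ i, i < 30976 → P i := stepQ 30975 Q30975 (allL N30975 (tt N58281 D109093) (tt N58282 D109094) (tt N50478 (iv2 F331072)) (tt N58276 (iv3 F169082)) (tt N56746 (iv4 F164718)) (tt N58283 D109095) (tt N15483 (iv6 D50364)) (tt N58284 D109096))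
theorem Q30977 : ∀ i, i < 30977 → P i := stepQ 30976 Q30976 (allL N30976 (tt N58285 D109097) (tt N58286 D109098) (tt N57928 (iv2 F168598)) (tt N58279 (iv3 F169083)) (tt N58287 D109099) (tt N15484 (iv5 D50367)) (tt N58283 (iv6 F169085)) (tt N58288 D109100))
theorem Q30978 : ∀ i, i < 30978 → P i := stepQ 30977 Q30977 (allL N30977 (tt N31946 F163207) (tt N57914 (iv0 F168558)) (tt N57929 (iv2 F168599)) (tt N58280 (iv3 F169084)) (tt N56217 (iv4 F163204)) (tt N58288 (iv5 F169088)) (tt N57923 (iv6 F168584)) (tt N15484 (iv7 D50368)))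
theorem Q30979 : ∀ i, i < 30979 → P i := stepQ 30978 Q30978 (allL N30978 (tt N15486 (iv1 F79746)) (tt N15485 (iv0 D50369)) (tt N15489 (iv2 F79743)) (tt N56845 (iv3 F330490)) (tt N15608 F79744) (tt N58289 D109101) (tt N56843 (iv6 F330463)) (tt N15487 F79745))
theorem Q30980 : ∀ i, i < 30980 → P i := stepQ 30979 Q30979 (allL N30979 (tt N15489 (iv1 F169972)) (tt N15487 (iv0 F169973)) (tt N15485 (iv2 D50370)) (tt N58290 D109105) (tt N18135 F169968) (tt N58291 D109107) (tt N58292 D109108) (tt N15486 (iv7 F79747)))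
theorem Q30981 : ∀ i, i < 30981 → P i := stepQ 30980 Q30980 (allL N30980 (tt N58267 (iv1 F358832)) (tt N58293 D109110) (tt N58294 D109111) (tt N15485 (iv3 D50371)) (tt N48345 F319460) (tt N58295 D109113) (tt N58296 D109114) (tt N48334 (iv7 F321449)))
theorem Q30982 : ∀ i, i < 30982 → P i := stepQ 30981 Q30981 (allL N30981 (tt N58297 D109122) (tt N58255 (iv0 F169607)) (tt N58291 (iv2 F169101)) (tt N58295 (iv3 F169105)) (tt N58298 D109124) (tt N15485 (iv5 D50373)) (tt N58299 D109125) (tt N48337 (iv7 F324497)))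
theorem Q30983 : ∀ i, i < 30983 → P i := stepQ 30982 Q30982 (allL N30982 (tt N58300 D109127) (tt N45624 (iv0 F324503)) (tt N58292 (iv2 F169103)) (tt N58296 (iv3 F169106)) (tt N17856 F323081) (tt N58301 D109129) (tt N15485 (iv6 D50374)) (tt N17855 (iv7 F324506)))
theorem Q30984 : ∀ i, i < 30984 → P i := stepQ 30983 Q30983 (allL N30983 (tt N58302 D109132) (tt N58231 (iv0 F405755)) (tt N58303 D109134) (tt N15486 (iv3 D50376)) (tt N58304 D109135) (tt N58305 D109136) (tt N46705 (iv6 F326416)) (tt N58290 (iv7 F169097)))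
theorem Q30985 : ∀ i, i < 30985 → P i := stepQ 30984 Q30984 (allL N30984 (tt N58255 (iv1 F169608)) (tt N58297 F169120) (tt N48337 F325591) (tt N58305 (iv3 F169126)) (tt N58306 D109140) (tt N15486 (iv5 D50378)) (tt N58307 D109141) (tt N58291 (iv7 F169102)))
theorem Q30986 : ∀ i, i < 30986 → P i := stepQ 30985 Q30985 (allL N30985 (tt N58308 D109155) (tt N57809 (iv0 F341390)) (tt N15488 F79753) (tt N57940 (iv3 F168612)) (tt N58309 D109157) (tt N15487 (iv5 D50382)) (tt N58310 D109158) (tt N58289 (iv7 F169090)))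
theorem Q30987 : ∀ i, i < 30987 → P i := stepQ 30986 Q30986 (allL N30986 (tt N58289 (iv1 F169092)) (tt N15488 (iv0 D50383)) (tt N58308 (iv2 F173753)) (tt N58311 D109160) (tt N58312 D109161) (tt N35226 F325167) (tt N58313 D109163) (tt N57809 (iv7 F341394)))
theorem Q30988 : ∀ i, i < 30988 → P i := stepQ 30987 Q30987 (allL N30987 (tt N15488 (iv1 D50384)) (tt N58289 F169091) (tt N57809 (iv2 F341392)) (tt N58314 D109165) (tt N58315 D109166) (tt N57986 (iv5 F170952)) (tt N20222 (iv6 F341398)) (tt N58308 (iv7 F173754)))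
theorem Q30989 : ∀ i, i < 30989 → P i := stepQ 30988 Q30988 (allL N30988 (tt N58316 D109169) (tt N58317 D109170) (tt N58309 (iv2 F169146)) (tt N58318 D109171) (tt N15488 (iv4 D50385)) (tt N48209 (iv5 F337487)) (tt N17963 F337484) (tt N58319 D109174))
theorem Q30990 : ∀ i, i < 30990 → P i := stepQ 30989 Q30989 (allL N30989 (tt N34526 (iv1 F337474)) (tt N35175 (iv0 F337475)) (tt N58310 (iv2 F169148)) (tt N15493 F79754) (tt N17963 (iv4 F337481)) (tt N31763 (iv5 F81283)) (tt N15488 (iv6 D50386)) (tt N25242 F337469))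
theorem Q30991 : ∀ i, i < 30991 → P i := stepQ 30990 Q30990 (allL N30990 (tt N57809 (iv1 F341391)) (tt N58308 F169144) (tt N58289 (iv2 F169089)) (tt N15494 F79755) (tt N58319 (iv4 F169156)) (tt N15489 F79756) (tt N58320 D109178) (tt N15488 (iv7 D50387)))
theorem Q30992 : ∀ i, i < 30992 → P i := stepQ 30991 Q30991 (allL N30991 (tt N58321 D109179) (tt N58322 D109180) (tt N56843 (iv2 F330461)) (tt N15495 F79757) (tt N15624 F79758) (tt N56842 (iv5 F330465)) (tt N15489 (iv6 D50388)) (tt N31228 (iv7 F80212)))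
theorem Q30993 : ∀ i, i < 30993 → P i := stepQ 30992 Q30992 (allL N30992 (tt N58233 (iv1 F373142)) (tt N58237 (iv0 F387469)) (tt N58323 D109184) (tt N15490 (iv3 D50389)) (tt N58324 D109185) (tt N56731 (iv5 F164671)) (tt N58325 D109186) (tt N57947 (iv7 F168620)))
theorem Q30994 : ∀ i, i < 30994 → P i := stepQ 30993 Q30993 (allL N30993 (tt N58326 D109187) (tt N58327 D109188) (tt N57946 (iv2 F168617)) (tt N58325 (iv3 F169161)) (tt N20465 F79759) (tt N58328 D109189) (tt N15490 (iv6 D50390)) (tt N58329 D109190))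
theorem Q30995 : ∀ i, i < 30995 → P i := stepQ 30994 Q30994 (allL N30994 (tt N58266 (iv1 F373318)) (tt N58269 (iv0 F204656)) (tt N58330 D109193) (tt N15491 (iv3 D50391)) (tt N58331 D109194) (tt N20436 F79760) (tt N58332 D109195) (tt N57945 (iv7 F168616)))
theorem Q30996 : ∀ i, i < 30996 → P i := stepQ 30995 Q30995 (allL N30995 (tt N58333 D109196) (tt N40393 F351208) (tt N57948 (iv2 F168621)) (tt N58332 (iv3 F169164)) (tt N30998 F351223) (tt N58334 D109198) (tt N15491 (iv6 D50392)) (tt N58335 D109199))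
theorem Q30997 : ∀ i, i < 30997 → P i := stepQ 30996 Q30996 (allL N30996 (tt N58336 D109200) (tt N58337 D109201) (tt N58338 D109202) (tt N15492 (iv3 D50393)) (tt N58318 (iv4 F169152)) (tt N20416 F79761) (tt N58339 D109203) (tt N38658 (iv7 F98552)))
theorem Q30998 : ∀ i, i < 30998 → P i := stepQ 30997 Q30997 (allL N30997 (tt N57887 (iv1 F364226)) (tt N58107 (iv0 F364228)) (tt N56791 (iv2 F164797)) (tt N58339 (iv3 F169167)) (tt N15493 F79762) (tt N58340 D109206) (tt N15492 (iv6 D50394)) (tt N58105 (iv7 F343113)))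
theorem Q30999 : ∀ i, i < 30999 → P i := stepQ 30998 Q30998 (allL N30998 (tt N57950 (iv1 F168627)) (tt N15493 (iv0 D50395)) (tt N33230 F351221) (tt N58341 D109209) (tt N30995 (iv4 F351223)) (tt N58342 D109211) (tt N30137 (iv6 F351224)) (tt N57949 F351222))
theorem Q31000 : ∀ i, i < 31000 → P i := stepQ 30999 Q30999 (allL N30999 (tt N15493 (iv1 D50396)) (tt N57950 F168626) (tt N57949 (iv2 F351218)) (tt N58343 D109214) (tt N58344 D109215) (tt N58345 D109216) (tt N40397 (iv6 F351219)) (tt N33230 (iv7 F351220)))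
theorem Q31001 : ∀ i, i < 31001 → P i := stepQ 31000 Q31000 (allL N31000 (tt N57949 (iv1 F168623)) (tt N33230 F337448) (tt N57950 (iv2 F168624)) (tt N25242 (iv3 F337465)) (tt N58105 (iv4 F343111)) (tt N31772 (iv5 F81286)) (tt N58346 D109218) (tt N15493 (iv7 D50397)))
theorem Q31002 : ∀ i, i < 31002 → P i := stepQ 31001 Q31001 (allL N31001 (tt N48400 F345411) (tt N58347 D109220) (tt N56788 (iv2 F164795)) (tt N58320 (iv3 F169158)) (tt N38661 (iv4 F98564)) (tt N58348 D109221) (tt N15494 (iv6 D50398)) (tt N58346 (iv7 F169172)))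
theorem Q31003 : ∀ i, i < 31003 → P i := stepQ 31002 Q31002 (allL N31002 (tt N31630 (iv1 F81069)) (tt N15495 (iv0 D50399)) (tt N31775 (iv2 F166446)) (tt N58349 D109222) (tt N58350 D109223) (tt N58351 D109224) (tt N58352 D109225) (tt N31774 F166447))
theorem Q31004 : ∀ i, i < 31004 → P i := stepQ 31003 Q31003 (allL N31003 (tt N15495 (iv1 D50400)) (tt N31630 F81068) (tt N31774 F166445) (tt N58353 D109226) (tt N35738 (iv4 F93168)) (tt N58354 D109227) (tt N58355 D109228) (tt N31775 (iv7 F166443)))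
theorem Q31005 : ∀ i, i < 31005 → P i := stepQ 31004 Q31004 (allL N31004 (tt N56829 (iv1 F330472)) (tt N56828 (iv0 F330474)) (tt N35557 (iv2 F330475)) (tt N56842 F330466) (tt N44237 (iv4 F330476)) (tt N15495 (iv5 D50401)) (tt N58348 (iv6 F169173)) (tt N31776 (iv7 F81289)))
theorem Q31006 : ∀ i, i < 31006 → P i := stepQ 31005 Q31005 (allL N31005 (tt N31692 F166155) (tt N40320 F166190) (tt N31781 F102483) (tt N58356 D109232) (tt N15496 (iv4 D50404)) (tt N58357 D109233) (tt N58358 D109234) (tt N31777 F102459))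
theorem Q31007 : ∀ i, i < 31007 → P i := stepQ 31006 Q31006 (allL N31006 (tt N58359 D109235) (tt N30861 (iv0 F79764)) (tt N31782 (iv2 F102467)) (tt N55683 F161352) (tt N58360 D109236) (tt N15496 (iv5 D50405)) (tt N20474 (iv6 F79765)) (tt N31778 F102460))
theorem Q31008 : ∀ i, i < 31008 → P i := stepQ 31007 Q31007 (allL N31007 (tt N57903 F168533) (tt N31729 (iv0 F81239)) (tt N31783 (iv2 F102453)) (tt N55684 F161234) (tt N58358 (iv4 F169178)) (tt N30710 F79766) (tt N15496 (iv6 D50406)) (tt N44362 (iv7 F111777)))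
theorem Q31009 : ∀ i, i < 31009 → P i := stepQ 31008 Q31008 (allL N31008 (tt N16199 F161338) (tt N31073 F161339) (tt N55680 (iv2 F161240)) (tt N15497 (iv3 D50408)) (tt N58361 D109237) (tt N58362 D109238) (tt N58363 D109239) (tt N31780 (iv7 F102481)))
theorem Q31010 : ∀ i, i < 31010 → P i := stepQ 31009 Q31009 (allL N31009 (tt N40320 (iv1 F166161)) (tt N31692 F166160) (tt N31777 F102474) (tt N58364 D109240) (tt N15497 (iv4 D50409)) (tt N58365 D109241) (tt N58366 D109242) (tt N31781 (iv7 F102482)))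
theorem Q31011 : ∀ i, i < 31011 → P i := stepQ 31010 Q31010 (allL N31010 (tt N30861 F81119) (tt N58359 F169182) (tt N31778 F102464) (tt N58362 (iv3 F169188)) (tt N58367 D109243) (tt N15497 (iv5 D50410)) (tt N30834 (iv6 F79768)) (tt N31782 (iv7 F102466)))
theorem Q31012 : ∀ i, i < 31012 → P i := stepQ 31011 Q31011 (allL N31011 (tt N31710 F101241) (tt N57915 (iv0 F168565)) (tt N31779 F102475) (tt N58363 (iv3 F169193)) (tt N58366 (iv4 F169197)) (tt N20240 F79769) (tt N15497 (iv6 D50411)) (tt N58223 (iv7 F169017)))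
theorem Q31013 : ∀ i, i < 31013 → P i := stepQ 31012 Q31012 (allL N31012 (tt N58368 D109244) (tt N58369 D109245) (tt N58370 D109246) (tt N15498 (iv3 D50412)) (tt N35773 (iv4 F93219)) (tt N55987 (iv5 F162239)) (tt N55547 (iv6 F352022)) (tt N19915 F79770))
theorem Q31014 : ∀ i, i < 31014 → P i := stepQ 31013 Q31013 (allL N31013 (tt N58371 D109248) (tt N58372 D109249) (tt N31843 (iv2 F81510)) (tt N55547 (iv3 F352020)) (tt N15499 F79771) (tt N58373 D109250) (tt N15498 (iv6 D50413)) (tt N31787 (iv7 F81319)))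
theorem Q31015 : ∀ i, i < 31015 → P i := stepQ 31014 Q31014 (allL N31014 (tt N15538 (iv1 F79772)) (tt N15499 (iv0 D50414)) (tt N15627 F161247) (tt N31788 (iv3 F161312)) (tt N58374 D109251) (tt N58375 D109252) (tt N58376 D109253) (tt N31788 (iv7 F161313)))
theorem Q31016 : ∀ i, i < 31016 → P i := stepQ 31015 Q31015 (allL N31015 (tt N58377 D109254) (tt N51989 (iv0 F354595)) (tt N58378 D109256) (tt N15500 (iv3 D50416)) (tt N31789 (iv4 F81322)) (tt N58379 D109257) (tt N58380 D109258) (tt N31844 (iv7 F81514)))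
theorem Q31017 : ∀ i, i < 31017 → P i := stepQ 31016 Q31016 (allL N31016 (tt N31867 (iv1 F81572)) (tt N31866 F81569) (tt N15518 F79774) (tt N58379 (iv3 F169220)) (tt N30244 F79775) (tt N15500 (iv5 D50417)) (tt N58381 D109259) (tt N31845 (iv7 F81517)))
theorem Q31018 : ∀ i, i < 31018 → P i := stepQ 31017 Q31017 (allL N31017 (tt N58382 D109260) (tt N58383 D109261) (tt N15519 F79776) (tt N58380 (iv3 F169221)) (tt N15501 F79777) (tt N58384 D109262) (tt N15500 (iv6 D50418)) (tt N58385 D109263))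
theorem Q31019 : ∀ i, i < 31019 → P i := stepQ 31018 Q31018 (allL N31018 (tt N15522 (iv1 F79783)) (tt N15501 (iv0 D50419)) (tt N15520 F99969) (tt N16217 F165636) (tt N58386 D109264) (tt N19351 F79778) (tt N31791 (iv6 F81326)) (tt N15521 F99970))
theorem Q31020 : ∀ i, i < 31020 → P i := stepQ 31019 Q31019 (allL N31019 (tt N15501 (iv1 D50420)) (tt N15522 F79779) (tt N15521 F99978) (tt N57863 (iv3 F167946)) (tt N58387 D109265) (tt N19350 (iv5 F79780)) (tt N58388 D109266) (tt N15520 F99979))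
theorem Q31021 : ∀ i, i < 31021 → P i := stepQ 31020 Q31020 (allL N31020 (tt N15521 (iv1 F79784)) (tt N15520 F79785) (tt N15522 F79782) (tt N31793 (iv3 F81332)) (tt N58385 (iv4 F169232)) (tt N33021 (iv5 F83910)) (tt N31805 F81378) (tt N15501 (iv7 D50421)))
theorem Q31022 : ∀ i, i < 31022 → P i := stepQ 31021 Q31021 (allL N31021 (tt N29617 F79788) (tt N29615 F79789) (tt N29647 F79786) (tt N58389 D109267) (tt N15504 (iv4 D50422)) (tt N58390 D109268) (tt N58391 D109269) (tt N19920 F79787))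
theorem Q31023 : ∀ i, i < 31023 → P i := stepQ 31022 Q31022 (allL N31022 (tt N33206 F168326) (tt N30349 F168327) (tt N30239 F79790) (tt N20783 F79791) (tt N58391 (iv4 F169255)) (tt N31022 F79792) (tt N15504 (iv6 D50423)) (tt N32207 (iv7 F82534)))
theorem Q31024 : ∀ i, i < 31024 → P i := stepQ 31023 Q31023 (allL N31023 (tt N29613 F79795) (tt N29611 F79796) (tt N29630 F79793) (tt N41134 (iv3 F103416)) (tt N15505 (iv4 D50424)) (tt N55933 (iv5 F162183)) (tt N58392 D109270) (tt N29631 F79794))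
theorem Q31025 : ∀ i, i < 31025 → P i := stepQ 31024 Q31024 (allL N31024 (tt N40168 (iv1 F169269)) (tt N58393 D109272) (tt N30242 F79797) (tt N32258 (iv3 F82623)) (tt N58392 (iv4 F169262)) (tt N30870 F79798) (tt N15505 (iv6 D50425)) (tt N58394 D109273))
theorem Q31026 : ∀ i, i < 31026 → P i := stepQ 31025 Q31025 (allL N31025 (tt N58395 D109274) (tt N58396 D109275) (tt N58397 D109276) (tt N15506 (iv3 D50426)) (tt N18150 F79799) (tt N55983 (iv5 F162236)) (tt N58398 D109277) (tt N30243 F79800))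
theorem Q31027 : ∀ i, i < 31027 → P i := stepQ 31026 Q31026 (allL N31026 (tt N55906 (iv1 F162092)) (tt N20889 F111447) (tt N33063 (iv2 F84015)) (tt N58398 (iv3 F169283)) (tt N15507 F79801) (tt N58399 D109278) (tt N15506 (iv6 D50427)) (tt N58400 D109279))
theorem Q31028 : ∀ i, i < 31028 → P i := stepQ 31027 Q31027 (allL N31027 (tt N33066 (iv1 F84024)) (tt N15507 (iv0 D50428)) (tt N33064 (iv2 F111303)) (tt N35814 F111293) (tt N58401 D109280) (tt N19987 F79802) (tt N44190 (iv6 F111070)) (tt N33065 F111305))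
theorem Q31029 : ∀ i, i < 31029 → P i := stepQ 31028 Q31028 (allL N31028 (tt N58402 D109281) (tt N39610 (iv0 F111139)) (tt N30733 F79803) (tt N16168 F79804) (tt N44108 F323325) (tt N15507 (iv5 D50430)) (tt N15509 F79805) (tt N58403 D109282))
theorem Q31030 : ∀ i, i < 31030 → P i := stepQ 31029 Q31029 (allL N31029 (tt N33065 (iv1 F84018)) (tt N33064 F84022) (tt N33066 (iv2 F84020)) (tt N18154 F79807) (tt N58400 (iv4 F169286)) (tt N58403 (iv5 F169301)) (tt N30249 F79808) (tt N15507 (iv7 D50431)))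
theorem Q31031 : ∀ i, i < 31031 → P i := stepQ 31030 Q31030 (allL N31030 (tt N54949 (iv1 F352013)) (tt N58404 D109284) (tt N58405 D109285) (tt N15511 (iv3 D50432)) (tt N32077 (iv4 F82249)) (tt N58406 D109286) (tt N58407 D109287) (tt N31849 (iv7 F81532)))
theorem Q31032 : ∀ i, i < 31032 → P i := stepQ 31031 Q31031 (allL N31031 (tt N39217 (iv1 F99653)) (tt N39220 (iv0 F99658)) (tt N31853 (iv2 F81539)) (tt N58406 (iv3 F169305)) (tt N20864 F79809) (tt N15511 (iv5 D50433)) (tt N58408 D109288) (tt N31850 (iv7 F81534)))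
theorem Q31033 : ∀ i, i < 31033 → P i := stepQ 31032 Q31032 (allL N31032 (tt N58409 D109289) (tt N58410 D109290) (tt N31854 (iv2 F81541)) (tt N58407 (iv3 F169306)) (tt N15512 F79810) (tt N58411 D109291) (tt N15511 (iv6 D50434)) (tt N58412 D109292))
theorem Q31034 : ∀ i, i < 31034 → P i := stepQ 31033 Q31033 (allL N31033 (tt N31856 (iv1 F81549)) (tt N15512 (iv0 D50435)) (tt N31833 (iv2 F161265)) (tt N31798 (iv3 F161371)) (tt N58413 D109293) (tt N58414 D109294) (tt N58415 D109295) (tt N31855 F99917))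
theorem Q31035 : ∀ i, i < 31035 → P i := stepQ 31034 Q31034 (allL N31034 (tt N31855 (iv1 F81543)) (tt N31833 (iv0 F161263)) (tt N31856 (iv2 F81544)) (tt N58061 (iv3 F168802)) (tt N58412 (iv4 F169308)) (tt N33041 (iv5 F83966)) (tt N15549 F79818) (tt N15512 (iv7 D50437)))
theorem Q31036 : ∀ i, i < 31036 → P i := stepQ 31035 Q31035 (allL N31035 (tt N58416 D109296) (tt N58417 D109297) (tt N58418 D109298) (tt N15513 (iv3 D50438)) (tt N36256 (iv4 F94212)) (tt N58419 D109299) (tt N58420 D109300) (tt N31852 (iv7 F81538)))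
theorem Q31037 : ∀ i, i < 31037 → P i := stepQ 31036 Q31036 (allL N31036 (tt N39220 (iv1 F99659)) (tt N39217 (iv0 F99652)) (tt N31850 (iv2 F81533)) (tt N58419 (iv3 F169318)) (tt N55884 (iv4 F162035)) (tt N15513 (iv5 D50439)) (tt N58421 D109301) (tt N31853 (iv7 F81540)))
theorem Q31038 : ∀ i, i < 31038 → P i := stepQ 31037 Q31037 (allL N31037 (tt N39588 F100447) (tt N58422 D109302) (tt N31851 (iv2 F81535)) (tt N58420 (iv3 F169319)) (tt N15514 F79811) (tt N58423 D109303) (tt N15513 (iv6 D50440)) (tt N58424 D109304))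
theorem Q31039 : ∀ i, i < 31039 → P i := stepQ 31038 Q31038 (allL N31038 (tt N15514 (iv1 D50441)) (tt N15549 F79815) (tt N15551 (iv2 F79813)) (tt N31805 F81377) (tt N47249 (iv4 F326037)) (tt N20014 (iv5 F79814)) (tt N31793 (iv6 F81334)) (tt N15540 F79812))
theorem Q31040 : ∀ i, i < 31040 → P i := stepQ 31039 Q31039 (allL N31039 (tt N15551 (iv1 F79820)) (tt N15540 F79821) (tt N15549 F79819) (tt N35641 (iv3 F93056)) (tt N58424 (iv4 F169324)) (tt N39096 (iv5 F99382)) (tt N31856 (iv6 F81546)) (tt N15514 (iv7 D50442)))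
theorem Q31041 : ∀ i, i < 31041 → P i := stepQ 31040 Q31040 (allL N31040 (tt N58425 D109306) (tt N58426 D109307) (tt N58427 D109308) (tt N15515 (iv3 D50443)) (tt N40325 (iv4 F101589)) (tt N58428 D109309) (tt N58429 D109310) (tt N31857 (iv7 F81551)))
theorem Q31042 : ∀ i, i < 31042 → P i := stepQ 31041 Q31041 (allL N31041 (tt N31118 (iv1 F79970)) (tt N15999 F79822) (tt N31132 F79991) (tt N58428 (iv3 F169332)) (tt N40084 (iv4 F101144)) (tt N15515 (iv5 D50444)) (tt N58430 D109311) (tt N31131 F79986))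
theorem Q31043 : ∀ i, i < 31043 → P i := stepQ 31042 Q31042 (allL N31042 (tt N58413 (iv1 F173566)) (tt N40506 (iv0 F161386)) (tt N31860 (iv2 F81556)) (tt N58429 (iv3 F169333)) (tt N40324 (iv4 F101587)) (tt N58431 D109313) (tt N15515 (iv6 D50445)) (tt N58432 D109314))
theorem Q31044 : ∀ i, i < 31044 → P i := stepQ 31043 Q31043 (allL N31043 (tt N58433 D109315) (tt N58434 D109316) (tt N58435 D109317) (tt N15516 (iv3 D50446)) (tt N31325 (iv4 F80448)) (tt N58436 D109318) (tt N58437 D109319) (tt N31859 (iv7 F81555)))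
theorem Q31045 : ∀ i, i < 31045 → P i := stepQ 31044 Q31044 (allL N31044 (tt N15999 F79823) (tt N31118 F79987) (tt N31131 F79985) (tt N58436 (iv3 F169339)) (tt N55933 (iv4 F162184)) (tt N15516 (iv5 D50447)) (tt N58438 D109320) (tt N31132 (iv7 F79989)))
theorem Q31046 : ∀ i, i < 31046 → P i := stepQ 31045 Q31045 (allL N31045 (tt N15548 F79988) (tt N47249 (iv0 F326035)) (tt N31858 (iv2 F81552)) (tt N58437 (iv3 F169340)) (tt N31323 (iv4 F80441)) (tt N58439 D109321) (tt N15516 (iv6 D50448)) (tt N47248 F326924))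
theorem Q31047 : ∀ i, i < 31047 → P i := stepQ 31046 Q31046 (allL N31046 (tt N31863 (iv1 F81561)) (tt N15517 (iv0 D50449)) (tt N31862 (iv2 F171053)) (tt N58440 D109324) (tt N45461 F325200) (tt N54402 (iv5 F321245)) (tt N58441 D109327) (tt N31861 (iv7 F171074)))
theorem Q31048 : ∀ i, i < 31048 → P i := stepQ 31047 Q31047 (allL N31047 (tt N15517 (iv1 D50450)) (tt N31863 F81563) (tt N31861 (iv2 F171073)) (tt N58442 D109329) (tt N24061 F324442) (tt N58443 D109330) (tt N46939 (iv6 F325562)) (tt N31862 (iv7 F171054)))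
theorem Q31049 : ∀ i, i < 31049 → P i := stepQ 31048 Q31048 (allL N31048 (tt N31862 (iv1 F81562)) (tt N31861 F81557) (tt N15517 (iv2 D50451)) (tt N58378 (iv3 F169219)) (tt N15529 F79824) (tt N54708 (iv5 F344552)) (tt N23720 (iv6 F326135)) (tt N31863 (iv7 F81560)))
theorem Q31050 : ∀ i, i < 31050 → P i := stepQ 31049 Q31049 (allL N31049 (tt N58444 D109334) (tt N28884 F344537) (tt N54708 (iv2 F344551)) (tt N15518 F79825) (tt N53446 (iv4 F344577)) (tt N15517 (iv5 D50452)) (tt N58445 D109337) (tt N31864 (iv7 F81565)))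
theorem Q31051 : ∀ i, i < 31051 → P i := stepQ 31050 Q31050 (allL N31050 (tt N23716 (iv1 F327201)) (tt N17502 (iv0 F327202)) (tt N23720 F326396) (tt N15519 F79826) (tt N15530 F79827) (tt N45473 (iv5 F327204)) (tt N15517 (iv6 D50453)) (tt N23719 F326397))
theorem Q31052 : ∀ i, i < 31052 → P i := stepQ 31051 Q31051 (allL N31051 (tt N31845 (iv1 F81519)) (tt N15518 (iv0 D50454)) (tt N31867 F81575) (tt N58446 D109342) (tt N38396 (iv4 F98195)) (tt N15565 F79828) (tt N58447 D109343) (tt N31866 F81571))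
theorem Q31053 : ∀ i, i < 31053 → P i := stepQ 31052 Q31052 (allL N31052 (tt N15518 (iv1 D50455)) (tt N31845 (iv0 F81518)) (tt N31866 F81570) (tt N58448 D109344) (tt N58390 (iv4 F169250)) (tt N15566 F79829) (tt N58449 D109345) (tt N31867 (iv7 F81573)))
theorem Q31054 : ∀ i, i < 31054 → P i := stepQ 31053 Q31053 (allL N31053 (tt N58450 D109346) (tt N58451 D109347) (tt N58381 (iv2 F169222)) (tt N58445 (iv3 F169353)) (tt N55986 (iv4 F162238)) (tt N58452 D109348) (tt N15518 (iv6 D50456)) (tt N58453 D109349))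
theorem Q31055 : ∀ i, i < 31055 → P i := stepQ 31054 Q31054 (allL N31054 (tt N58385 (iv1 F169236)) (tt N15519 (iv0 D50457)) (tt N58382 (iv2 F170661)) (tt N58454 D109351) (tt N58455 D109352) (tt N58456 D109353) (tt N31818 (iv6 F169860)) (tt N58383 (iv7 F170665)))
theorem Q31056 : ∀ i, i < 31056 → P i := stepQ 31055 Q31055 (allL N31055 (tt N15519 (iv1 D50458)) (tt N58385 F169234) (tt N58383 (iv2 F170664)) (tt N58457 D109356) (tt N58458 D109357) (tt N58459 D109358) (tt N58460 D109359) (tt N58382 (iv7 F170662)))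
theorem Q31057 : ∀ i, i < 31057 → P i := stepQ 31056 Q31056 (allL N31056 (tt N58461 D109360) (tt N58462 D109361) (tt N58384 (iv2 F169230)) (tt N45473 (iv3 F327203)) (tt N58463 D109362) (tt N15519 (iv5 D50459)) (tt N58452 (iv6 F169359)) (tt N58464 D109363))
theorem Q31058 : ∀ i, i < 31058 → P i := stepQ 31057 Q31057 (allL N31057 (tt N58383 (iv1 F169224)) (tt N58382 F169233) (tt N58385 (iv2 F169231)) (tt N23719 (iv3 F326232)) (tt N15522 F79830) (tt N58464 (iv5 F169365)) (tt N31872 (iv6 F81582)) (tt N15519 (iv7 D50460)))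
theorem Q31059 : ∀ i, i < 31059 → P i := stepQ 31058 Q31058 (allL N31058 (tt N57864 (iv1 F167960)) (tt N16189 F163881) (tt N55627 F165596) (tt N15520 (iv3 D50462)) (tt N17587 F326497) (tt N38928 F163882) (tt N31821 (iv6 F81412)) (tt N57863 (iv7 F167947)))
theorem Q31060 : ∀ i, i < 31060 → P i := stepQ 31059 Q31059 (allL N31059 (tt N58465 D109365) (tt N55880 F169239) (tt N58386 (iv2 F169237)) (tt N58466 D109366) (tt N15520 (iv4 D50463)) (tt N58467 D109367) (tt N31822 (iv6 F81413)) (tt N58387 (iv7 F169242)))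
theorem Q31061 : ∀ i, i < 31061 → P i := stepQ 31060 Q31060 (allL N31060 (tt N55880 (iv1 F168381)) (tt N58465 F169370) (tt N58387 (iv2 F169241)) (tt N58468 D109368) (tt N15521 (iv4 D50466)) (tt N58469 D109369) (tt N58470 D109370) (tt N58386 (iv7 F169238)))
theorem Q31062 : ∀ i, i < 31062 → P i := stepQ 31061 Q31061 (allL N31061 (tt N31235 (iv1 F161303)) (tt N58415 (iv0 F169316)) (tt N58388 (iv2 F169243)) (tt N55630 (iv3 F165594)) (tt N58470 (iv4 F169371)) (tt N31827 (iv5 F81419)) (tt N15521 (iv6 D50467)) (tt N31827 (iv7 F81420)))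
theorem Q31063 : ∀ i, i < 31063 → P i := stepQ 31062 Q31062 (allL N31062 (tt N31832 (iv1 F81432)) (tt N15523 (iv0 D50468)) (tt N16025 (iv2 F170429)) (tt N27634 F324447) (tt N58471 D109373) (tt N15620 (iv5 F170053)) (tt N23411 (iv6 F325566)) (tt N16021 (iv7 F170431)))
theorem Q31064 : ∀ i, i < 31064 → P i := stepQ 31063 Q31063 (allL N31063 (tt N15523 (iv1 D50469)) (tt N31832 F81434) (tt N16021 F170435) (tt N45462 F325185) (tt N58472 D109378) (tt N15621 (iv5 F170048)) (tt N58473 D109380) (tt N16025 F170436))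
theorem Q31065 : ∀ i, i < 31065 → P i := stepQ 31064 Q31064 (allL N31064 (tt N16025 (iv1 F170926)) (tt N16021 (iv0 F170927)) (tt N15523 (iv2 D50470)) (tt N31207 (iv3 F169600)) (tt N47888 (iv4 F325547)) (tt N31207 (iv5 F169601)) (tt N47886 (iv6 F326102)) (tt N31832 (iv7 F81431)))
theorem Q31066 : ∀ i, i < 31066 → P i := stepQ 31065 Q31065 (allL N31065 (tt N31209 F170960) (tt N29062 (iv0 F326125)) (tt N47886 (iv2 F326100)) (tt N15524 F79833) (tt N47829 (iv4 F325636)) (tt N46417 F325327) (tt N15523 (iv6 D50471)) (tt N31879 (iv7 F81607)))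
theorem Q31067 : ∀ i, i < 31067 → P i := stepQ 31066 Q31066 (allL N31066 (tt N18209 (iv1 F170950)) (tt N18205 F170946) (tt N15525 (iv2 D50475)) (tt N29467 F324411) (tt N58474 D109398) (tt N29467 F324412) (tt N35292 F324413) (tt N31300 (iv7 F80362)))
theorem Q31068 : ∀ i, i < 31068 → P i := stepQ 31067 Q31067 (allL N31067 (tt N45824 F325168) (tt N58475 D109401) (tt N58474 (iv2 F169384)) (tt N16056 F79834) (tt N15525 (iv4 D50476)) (tt N58476 D109402) (tt N35310 (iv6 F326096)) (tt N31294 (iv7 F80352)))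
theorem Q31069 : ∀ i, i < 31069 → P i := stepQ 31068 Q31068 (allL N31068 (tt N46120 (iv1 F324835)) (tt N46121 (iv0 F324831)) (tt N31309 (iv2 F80404)) (tt N24327 (iv3 F324859)) (tt N58477 D109409) (tt N15526 (iv5 D50478)) (tt N31309 (iv6 F80405)) (tt N24319 (iv7 F324123)))
theorem Q31070 : ∀ i, i < 31070 → P i := stepQ 31069 Q31069 (allL N31069 (tt N58478 D109422) (tt N45792 (iv0 F325182)) (tt N31877 (iv2 F173317)) (tt N58479 D109424) (tt N15527 (iv4 D50481)) (tt N58480 D109425) (tt N47057 (iv6 F325901)) (tt N31875 (iv7 F173328)))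
theorem Q31071 : ∀ i, i < 31071 → P i := stepQ 31070 Q31070 (allL N31070 (tt N45792 (iv1 F325183)) (tt N58478 F169412) (tt N31875 (iv2 F173327)) (tt N58481 D109444) (tt N15528 (iv4 D50486)) (tt N58482 D109445) (tt N46938 (iv6 F325899)) (tt N31877 (iv7 F173318)))
theorem Q31072 : ∀ i, i < 31072 → P i := stepQ 31071 Q31071 (allL N31071 (tt N31240 (iv1 F80382)) (tt N31240 F80381) (tt N31315 (iv2 F80419)) (tt N45989 (iv3 F326661)) (tt N16061 F79870) (tt N31071 F80063) (tt N15532 (iv6 D50502)) (tt N31315 (iv7 F80422)))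
theorem Q31073 : ∀ i, i < 31073 → P i := stepQ 31072 Q31072 (allL N31072 (tt N58483 D109497) (tt N35594 (iv0 F164101)) (tt N31658 (iv2 F164348)) (tt N22920 (iv3 F326831)) (tt N15534 (iv4 D50510)) (tt N58484 D109499) (tt N31840 (iv6 F81484)) (tt N31659 (iv7 F164335)))
theorem Q31074 : ∀ i, i < 31074 → P i := stepQ 31073 Q31073 (allL N31073 (tt N31008 (iv1 F161339)) (tt N32253 F82610) (tt N31784 (iv2 F81298)) (tt N15915 F79895) (tt N35896 (iv4 F93479)) (tt N31073 F79896) (tt N15536 (iv6 D50523)) (tt N30868 F79897))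
theorem Q31075 : ∀ i, i < 31075 → P i := stepQ 31074 Q31074 (allL N31074 (tt N58485 D109512) (tt N58486 D109513) (tt N58487 D109514) (tt N15537 (iv3 D50524)) (tt N35656 (iv4 F93079)) (tt N58488 D109515) (tt N58489 D109516) (tt N22589 F79898))
theorem Q31076 : ∀ i, i < 31076 → P i := stepQ 31075 Q31075 (allL N31075 (tt N39587 (iv1 F100444)) (tt N39590 (iv0 F100453)) (tt N31786 (iv2 F81314)) (tt N58488 (iv3 F169474)) (tt N31344 F80480) (tt N15537 (iv5 D50525)) (tt N58490 D109517) (tt N22590 F79899))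
theorem Q31077 : ∀ i, i < 31077 → P i := stepQ 31076 Q31076 (allL N31076 (tt N58372 (iv1 F169207)) (tt N58371 F169206) (tt N31787 (iv2 F81317)) (tt N58489 (iv3 F169476)) (tt N15538 F79900) (tt N58491 D109518) (tt N15537 (iv6 D50526)) (tt N31843 (iv7 F81512)))
theorem Q31078 : ∀ i, i < 31078 → P i := stepQ 31077 Q31077 (allL N31077 (tt N27358 (iv1 F340712)) (tt N52227 F340706) (tt N52225 (iv2 F340722)) (tt N15539 (iv3 D50527)) (tt N31844 (iv4 F81513)) (tt N51816 (iv5 F340714)) (tt N52236 (iv6 F328289)) (tt N31789 (iv7 F81323)))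
theorem Q31079 : ∀ i, i < 31079 → P i := stepQ 31078 Q31078 (allL N31078 (tt N31816 (iv1 F81404)) (tt N31815 F81400) (tt N15547 F79901) (tt N51816 (iv3 F340713)) (tt N16046 F79902) (tt N15539 (iv5 D50528)) (tt N51813 (iv6 F348888)) (tt N31345 (iv7 F80483)))
theorem Q31080 : ∀ i, i < 31080 → P i := stepQ 31079 Q31079 (allL N31079 (tt N47248 (iv1 F326040)) (tt N31858 (iv0 F81553)) (tt N15548 F79903) (tt N52236 (iv3 F328288)) (tt N15540 F79904) (tt N58492 D109525) (tt N15539 (iv6 D50529)) (tt N47249 (iv7 F326038)))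
theorem Q31081 : ∀ i, i < 31081 → P i := stepQ 31080 Q31080 (allL N31080 (tt N58493 D109532) (tt N58494 D109533) (tt N58495 D109534) (tt N15544 (iv3 D50534)) (tt N31643 (iv4 F81098)) (tt N58496 D109535) (tt N58497 D109536) (tt N31807 (iv7 F81384)))
theorem Q31082 : ∀ i, i < 31082 → P i := stepQ 31081 Q31081 (allL N31081 (tt N31156 (iv1 F80025)) (tt N15976 F79910) (tt N31168 F80044) (tt N58496 (iv3 F169496)) (tt N31330 (iv4 F80459)) (tt N15544 (iv5 D50535)) (tt N52185 (iv6 F323312)) (tt N31167 F80041))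
theorem Q31083 : ∀ i, i < 31083 → P i := stepQ 31082 Q31082 (allL N31082 (tt N31846 F81522) (tt N31872 F81583) (tt N31810 (iv2 F81387)) (tt N58497 (iv3 F169497)) (tt N32435 (iv4 F82842)) (tt N52186 (iv5 F329647)) (tt N15544 (iv6 D50536)) (tt N31870 F101546))
theorem Q31084 : ∀ i, i < 31084 → P i := stepQ 31083 Q31083 (allL N31083 (tt N58498 D109539) (tt N58499 D109540) (tt N58500 D109541) (tt N15545 (iv3 D50537)) (tt N31258 (iv4 F80297)) (tt N36359 F94442) (tt N58501 D109542) (tt N31809 (iv7 F81386)))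
theorem Q31085 : ∀ i, i < 31085 → P i := stepQ 31084 Q31084 (allL N31084 (tt N15976 F79911) (tt N31156 (iv0 F80024)) (tt N31167 F80040) (tt N36359 (iv3 F94440)) (tt N31326 (iv4 F80449)) (tt N15545 (iv5 D50538)) (tt N58502 D109543) (tt N31168 (iv7 F80042)))
theorem Q31086 : ∀ i, i < 31086 → P i := stepQ 31085 Q31085 (allL N31085 (tt N39579 F166132) (tt N39580 (iv0 F100439)) (tt N31808 (iv2 F81385)) (tt N58501 (iv3 F169499)) (tt N31257 (iv4 F80295)) (tt N58503 D109544) (tt N15545 (iv6 D50539)) (tt N58504 D109545))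
theorem Q31087 : ∀ i, i < 31087 → P i := stepQ 31086 Q31086 (allL N31086 (tt N31813 (iv1 F81392)) (tt N15546 (iv0 D50540)) (tt N31812 (iv2 F171333)) (tt N58505 D109547) (tt N29069 F324439) (tt N52260 (iv5 F320050)) (tt N47605 F324440) (tt N31811 (iv7 F171324)))
theorem Q31088 : ∀ i, i < 31088 → P i := stepQ 31087 Q31087 (allL N31087 (tt N15546 (iv1 D50541)) (tt N31813 F81394) (tt N31811 (iv2 F171322)) (tt N36324 (iv3 F105467)) (tt N29068 F322492) (tt N36323 F105469) (tt N49308 (iv6 F323915)) (tt N31812 (iv7 F171335)))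
theorem Q31089 : ∀ i, i < 31089 → P i := stepQ 31088 Q31088 (allL N31088 (tt N31812 (iv1 F81393)) (tt N31811 F81388) (tt N15546 (iv2 D50542)) (tt N52225 (iv3 F340723)) (tt N15555 F79912) (tt N58506 D109553) (tt N46943 (iv6 F325559)) (tt N31813 (iv7 F81391)))
theorem Q31090 : ∀ i, i < 31090 → P i := stepQ 31089 Q31089 (allL N31089 (tt N54491 (iv1 F329860)) (tt N58507 D109556) (tt N58506 (iv2 F169503)) (tt N15547 F79913) (tt N54803 (iv4 F322923)) (tt N15546 (iv5 D50543)) (tt N51853 (iv6 F348933)) (tt N31814 (iv7 F81396)))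
theorem Q31091 : ∀ i, i < 31091 → P i := stepQ 31090 Q31090 (allL N31090 (tt N31345 (iv1 F80485)) (tt N15547 (iv0 D50545)) (tt N31816 F81407) (tt N58508 D109563) (tt N31318 (iv4 F80432)) (tt N15588 F79916) (tt N58509 D109564) (tt N31815 F81403))
theorem Q31092 : ∀ i, i < 31092 → P i := stepQ 31091 Q31091 (allL N31091 (tt N15547 (iv1 D50546)) (tt N31345 (iv0 F80484)) (tt N31815 F81402) (tt N56018 (iv3 F162316)) (tt N30564 (iv4 F79918)) (tt N15589 F79917) (tt N58510 D109565) (tt N31816 (iv7 F81405)))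
theorem Q31093 : ∀ i, i < 31093 → P i := stepQ 31092 Q31092 (allL N31092 (tt N21296 F79921) (tt N31344 F80479) (tt N16046 F79919) (tt N58511 D109566) (tt N15547 (iv4 D50547)) (tt N16035 F79920) (tt N58512 D109567) (tt N31321 (iv7 F80437)))
theorem Q31094 : ∀ i, i < 31094 → P i := stepQ 31093 Q31093 (allL N31093 (tt N58513 D109568) (tt N58514 D109569) (tt N51813 (iv2 F348886)) (tt N51853 (iv3 F348932)) (tt N58512 (iv4 F169520)) (tt N58515 D109570) (tt N15547 (iv6 D50548)) (tt N58516 D109571))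
theorem Q31095 : ∀ i, i < 31095 → P i := stepQ 31094 Q31094 (allL N31094 (tt N47249 (iv1 F326036)) (tt N15548 (iv0 D50549)) (tt N47248 F326925) (tt N58517 D109572) (tt N32439 (iv4 F169331)) (tt N58518 D109573) (tt N58432 (iv6 F169337)) (tt N31858 F169330))
theorem Q31096 : ∀ i, i < 31096 → P i := stepQ 31095 Q31095 (allL N31095 (tt N58519 D109574) (tt N58520 D109575) (tt N58492 (iv2 F169482)) (tt N47255 (iv3 F326133)) (tt N58521 D109576) (tt N15548 (iv5 D50551)) (tt N58515 (iv6 F169521)) (tt N47250 (iv7 F326041)))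
theorem Q31097 : ∀ i, i < 31097 → P i := stepQ 31096 Q31096 (allL N31096 (tt N31673 (iv1 F81164)) (tt N16222 F81161) (tt N31671 F81159) (tt N15549 (iv3 D50553)) (tt N58522 D109578) (tt N39290 (iv5 F99862)) (tt N58061 (iv6 F168804)) (tt N31672 F81155))
theorem Q31098 : ∀ i, i < 31098 → P i := stepQ 31097 Q31097 (allL N31097 (tt N58422 (iv1 F169320)) (tt N39588 (iv0 F100448)) (tt N58424 (iv2 F169323)) (tt N58523 D109579) (tt N15549 (iv4 D50554)) (tt N58524 D109580) (tt N58412 (iv6 F169309)) (tt N31851 F81537))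
theorem Q31099 : ∀ i, i < 31099 → P i := stepQ 31098 Q31098 (allL N31098 (tt N20014 (iv1 F79930)) (tt N15550 (iv0 D50555)) (tt N20012 F99753) (tt N39394 (iv3 F169533)) (tt N58525 D109582) (tt N58526 D109583) (tt N39214 (iv6 F99646)) (tt N20013 F99750))
theorem Q31100 : ∀ i, i < 31100 → P i := stepQ 31099 Q31099 (allL N31099 (tt N15550 (iv1 D50556)) (tt N20014 F79923) (tt N20013 (iv2 F99752)) (tt N58527 D109584) (tt N58528 D109585) (tt N58529 D109586) (tt N38239 F99757) (tt N20012 (iv7 F99755)))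
theorem Q31101 : ∀ i, i < 31101 → P i := stepQ 31100 Q31100 (allL N31100 (tt N58530 D109587) (tt N58531 D109588) (tt N20011 F79924) (tt N58532 D109589) (tt N15550 (iv4 D50557)) (tt N58533 D109590) (tt N15552 F79925) (tt N58534 D109591))
theorem Q31102 : ∀ i, i < 31102 → P i := stepQ 31101 Q31101 (allL N31101 (tt N20013 (iv1 F79931)) (tt N20012 (iv0 F79932)) (tt N20014 F79926) (tt N15561 F79927) (tt N58534 (iv4 F169564)) (tt N15551 F79928) (tt N19944 F79929) (tt N15550 (iv7 D50558)))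
theorem Q31103 : ∀ i, i < 31103 → P i := stepQ 31102 Q31102 (allL N31102 (tt N58535 D109592) (tt N58536 D109593) (tt N58537 D109594) (tt N15552 (iv3 D50559)) (tt N15562 F79933) (tt N39722 (iv5 F100613)) (tt N58532 (iv6 F169561)) (tt N20015 F79934))
theorem Q31104 : ∀ i, i < 31104 → P i := stepQ 31103 Q31103 (allL N31103 (tt N45966 F324536) (tt N54852 F324537) (tt N31838 (iv2 F173338)) (tt N58538 D109607) (tt N15553 (iv4 D50562)) (tt N53869 (iv5 F321616)) (tt N47604 (iv6 F325639)) (tt N31836 (iv7 F173335)))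
theorem Q31105 : ∀ i, i < 31105 → P i := stepQ 31104 Q31104 (allL N31104 (tt N35031 F324421) (tt N23413 F324422) (tt N34988 F324423) (tt N15554 (iv3 D50566)) (tt N58539 D109619) (tt N31876 F105472) (tt N34896 (iv6 F325541)) (tt N31837 (iv7 F173337)))
theorem Q31106 : ∀ i, i < 31106 → P i := stepQ 31105 Q31105 (allL N31105 (tt N54852 F325299) (tt N45966 F325300) (tt N31836 (iv2 F173334)) (tt N58540 D109621) (tt N15554 (iv4 D50567)) (tt N58541 D109622) (tt N46920 (iv6 F326209)) (tt N31838 (iv7 F173339)))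
theorem Q31107 : ∀ i, i < 31107 → P i := stepQ 31106 Q31106 (allL N31106 (tt N46121 (iv1 F324832)) (tt N46120 (iv0 F324834)) (tt N24319 (iv2 F324121)) (tt N23089 (iv3 F324837)) (tt N24123 F323519) (tt N15556 (iv5 D50576)) (tt N22968 (iv6 F324838)) (tt N31309 (iv7 F80406)))
theorem Q31108 : ∀ i, i < 31108 → P i := stepQ 31107 Q31107 (allL N31107 (tt N35220 (iv1 F326120)) (tt N58473 (iv0 F170934)) (tt N52809 (iv2 F326111)) (tt N15557 (iv3 D50581)) (tt N35027 (iv4 F326227)) (tt N46362 F325325) (tt N23599 F325326) (tt N31834 F81453))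
theorem Q31109 : ∀ i, i < 31109 → P i := stepQ 31108 Q31108 (allL N31108 (tt N16660 F163916) (tt N20450 F163917) (tt N20449 F163918) (tt N15559 (iv3 D50584)) (tt N58542 D109671) (tt N31729 F163919) (tt N38259 (iv6 F97793)) (tt N20372 F79942))
theorem Q31110 : ∀ i, i < 31110 → P i := stepQ 31109 Q31109 (allL N31109 (tt N20371 (iv1 F79953)) (tt N15560 (iv0 D50585)) (tt N20368 (iv2 F79950)) (tt N58543 D109672) (tt N16104 F79948) (tt N44889 (iv5 F317151)) (tt N22163 F314884) (tt N20369 F79949))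
theorem Q31111 : ∀ i, i < 31111 → P i := stepQ 31110 Q31110 (allL N31110 (tt N15560 (iv1 D50586)) (tt N20371 F79943) (tt N20369 (iv2 F79945)) (tt N58544 D109674) (tt N16105 F79944) (tt N41838 (iv5 F318279)) (tt N33763 F316061) (tt N20368 (iv7 F79952)))
theorem Q31112 : ∀ i, i < 31112 → P i := stepQ 31111 Q31111 (allL N31111 (tt N58545 D109676) (tt N58546 D109677) (tt N58547 D109678) (tt N15560 (iv3 D50587)) (tt N58532 (iv4 F169560)) (tt N58548 D109679) (tt N15562 F79954) (tt N58549 D109680))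
theorem Q31113 : ∀ i, i < 31113 → P i := stepQ 31112 Q31112 (allL N31112 (tt N21141 (iv1 F315530)) (tt N22729 F79956) (tt N20370 F79955) (tt N58548 (iv3 F169663)) (tt N47159 (iv4 F324826)) (tt N15560 (iv5 D50588)) (tt N40831 (iv6 F102714)) (tt N39990 (iv7 F100988)))
theorem Q31114 : ∀ i, i < 31114 → P i := stepQ 31113 Q31113 (allL N31113 (tt N20369 (iv1 F79960)) (tt N20368 F79961) (tt N20371 F79957) (tt N58549 (iv3 F169664)) (tt N15561 F79958) (tt N39990 (iv5 F100989)) (tt N20234 F79959) (tt N15560 (iv7 D50589)))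
theorem Q31115 : ∀ i, i < 31115 → P i := stepQ 31114 Q31114 (allL N31114 (tt N20377 (iv1 F79962)) (tt N15562 (iv0 D50590)) (tt N20376 F205092) (tt N58550 D109683) (tt N58551 D109684) (tt N16962 F169574) (tt N58552 D109685) (tt N20375 (iv7 F205100)))
theorem Q31116 : ∀ i, i < 31116 → P i := stepQ 31115 Q31115 (allL N31115 (tt N15562 (iv1 D50591)) (tt N20377 F79966) (tt N20375 (iv2 F205099)) (tt N45267 (iv3 F321288)) (tt N58553 D109688) (tt N16963 F169670) (tt N17138 F319246) (tt N20376 F205095))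
theorem Q31117 : ∀ i, i < 31117 → P i := stepQ 31116 Q31116 (allL N31116 (tt N20376 (iv1 F79967)) (tt N20375 F79965) (tt N15562 (iv2 D50592)) (tt N20364 F79963) (tt N58537 (iv4 F169577)) (tt N40826 (iv5 F102704)) (tt N58547 (iv6 F169662)) (tt N20377 F79964))
theorem Q31118 : ∀ i, i < 31118 → P i := stepQ 31117 Q31117 (allL N31117 (tt N58554 D109690) (tt N58555 D109691) (tt N58556 D109692) (tt N15563 (iv3 D50593)) (tt N31880 (iv4 F81610)) (tt N58557 D109693) (tt N58558 D109694) (tt N31919 (iv7 F81736)))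
theorem Q31119 : ∀ i, i < 31119 → P i := stepQ 31118 Q31118 (allL N31118 (tt N31044 (iv1 F79987)) (tt N31041 F79970) (tt N15568 F79968) (tt N58557 (iv3 F169679)) (tt N30291 F79969) (tt N15563 (iv5 D50594)) (tt N58559 D109695) (tt N31920 (iv7 F81739)))
theorem Q31120 : ∀ i, i < 31120 → P i := stepQ 31119 Q31119 (allL N31119 (tt N58560 D109696) (tt N58561 D109697) (tt N15569 F79971) (tt N58558 (iv3 F169680)) (tt N15564 F79972) (tt N58562 D109698) (tt N15563 (iv6 D50595)) (tt N58563 D109699))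
theorem Q31121 : ∀ i, i < 31121 → P i := stepQ 31120 Q31120 (allL N31120 (tt N15573 (iv1 F79976)) (tt N15564 (iv0 D50596)) (tt N15570 F99778) (tt N16232 F168197) (tt N58564 D109700) (tt N39689 F100573) (tt N15594 F83964) (tt N15571 F99779))
theorem Q31122 : ∀ i, i < 31122 → P i := stepQ 31121 Q31121 (allL N31121 (tt N15564 (iv1 D50597)) (tt N15573 F79973) (tt N15571 F99761) (tt N57891 F168502) (tt N58565 D109701) (tt N39215 (iv5 F99647)) (tt N58526 (iv6 F169539)) (tt N15570 F99762))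
theorem Q31123 : ∀ i, i < 31123 → P i := stepQ 31122 Q31122 (allL N31122 (tt N15571 (iv1 F79977)) (tt N15570 F79978) (tt N15573 F79974) (tt N31885 (iv3 F81622)) (tt N58563 (iv4 F169687)) (tt N19880 F79975) (tt N31923 (iv6 F81748)) (tt N15564 (iv7 D50598)))
theorem Q31124 : ∀ i, i < 31124 → P i := stepQ 31123 Q31123 (allL N31123 (tt N58566 D109702) (tt N58567 D109703) (tt N58568 D109704) (tt N15565 (iv3 D50599)) (tt N40318 (iv4 F101568)) (tt N58446 (iv5 F169357)) (tt N58569 D109705) (tt N31924 (iv7 F81755)))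
theorem Q31125 : ∀ i, i < 31125 → P i := stepQ 31124 Q31124 (allL N31124 (tt N58374 F169209) (tt N31979 (iv0 F166164)) (tt N31926 (iv2 F81757)) (tt N58569 (iv3 F169700)) (tt N40317 (iv4 F101565)) (tt N58570 D109706) (tt N15565 (iv6 D50600)) (tt N31887 (iv7 F81629)))
theorem Q31126 : ∀ i, i < 31126 → P i := stepQ 31125 Q31125 (allL N31125 (tt N58571 D109707) (tt N48382 (iv0 F351023)) (tt N58572 D109709) (tt N15566 (iv3 D50601)) (tt N30563 F79979) (tt N58448 (iv5 F169358)) (tt N31888 (iv6 F81631)) (tt N31925 (iv7 F81756)))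
theorem Q31127 : ∀ i, i < 31127 → P i := stepQ 31126 Q31126 (allL N31126 (tt N31929 (iv1 F81764)) (tt N15567 (iv0 D50602)) (tt N31928 (iv2 F105376)) (tt N58573 D109710) (tt N50710 F325234) (tt N58444 (iv5 F171079)) (tt N58574 D109713) (tt N31927 F105377))
theorem Q31128 : ∀ i, i < 31128 → P i := stepQ 31127 Q31127 (allL N31127 (tt N15567 (iv1 D50603)) (tt N31929 F81767) (tt N31927 F105375) (tt N58575 D109714) (tt N31953 (iv4 F81871)) (tt N28884 F344546) (tt N31890 (iv6 F325240)) (tt N31928 (iv7 F105366)))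
theorem Q31129 : ∀ i, i < 31129 → P i := stepQ 31128 Q31128 (allL N31128 (tt N31928 (iv1 F81765)) (tt N31927 F81759) (tt N15567 (iv2 D50604)) (tt N58556 (iv3 F169678)) (tt N15576 F79980) (tt N58576 D109716) (tt N24636 (iv6 F325260)) (tt N31929 (iv7 F81763)))
theorem Q31130 : ∀ i, i < 31130 → P i := stepQ 31129 Q31129 (allL N31129 (tt N58577 D109718) (tt N58578 D109719) (tt N58576 (iv2 F169706)) (tt N15568 F79981) (tt N58579 D109720) (tt N15567 (iv5 D50605)) (tt N58580 D109721) (tt N31930 (iv7 F81769)))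
theorem Q31131 : ∀ i, i < 31131 → P i := stepQ 31130 Q31130 (allL N31130 (tt N24633 (iv1 F326417)) (tt N24632 (iv0 F326418)) (tt N24636 F325597) (tt N15569 F79982) (tt N15577 F79983) (tt N58581 D109724) (tt N15567 (iv6 D50606)) (tt N24515 (iv7 F326425)))
theorem Q31132 : ∀ i, i < 31132 → P i := stepQ 31131 Q31131 (allL N31131 (tt N31920 (iv1 F81741)) (tt N15568 (iv0 D50607)) (tt N31044 (iv2 F79985)) (tt N58582 D109726) (tt N55890 (iv4 F162057)) (tt N15956 F79984) (tt N58583 D109727) (tt N31041 (iv7 F79986)))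
theorem Q31133 : ∀ i, i < 31133 → P i := stepQ 31132 Q31132 (allL N31132 (tt N15568 (iv1 D50608)) (tt N31920 (iv0 F81740)) (tt N31041 (iv2 F79991)) (tt N58584 D109728) (tt N55893 (iv4 F162064)) (tt N15957 F79990) (tt N58585 D109729) (tt N31044 F79989))
theorem Q31134 : ∀ i, i < 31134 → P i := stepQ 31133 Q31133 (allL N31133 (tt N58586 D109730) (tt N58587 D109731) (tt N58559 (iv2 F169681)) (tt N58580 (iv3 F169710)) (tt N55970 (iv4 F162223)) (tt N58588 D109732) (tt N15568 (iv6 D50609)) (tt N58589 D109733))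
theorem Q31135 : ∀ i, i < 31135 → P i := stepQ 31134 Q31134 (allL N31134 (tt N58563 (iv1 F169691)) (tt N15569 (iv0 D50610)) (tt N58560 (iv2 F202526)) (tt N58590 D109735) (tt N58591 D109736) (tt N58592 D109737) (tt N58593 D109738) (tt N58561 (iv7 F202530)))
theorem Q31136 : ∀ i, i < 31136 → P i := stepQ 31135 Q31135 (allL N31135 (tt N15569 (iv1 D50611)) (tt N58563 F169689) (tt N58561 (iv2 F202529)) (tt N58594 D109740) (tt N58595 D109741) (tt N58596 D109742) (tt N58597 D109743) (tt N58560 (iv7 F202527)))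
theorem Q31137 : ∀ i, i < 31137 → P i := stepQ 31136 Q31136 (allL N31136 (tt N58598 D109744) (tt N58599 D109745) (tt N58562 (iv2 F169684)) (tt N58581 (iv3 F169711)) (tt N58600 D109746) (tt N15569 (iv5 D50612)) (tt N58588 (iv6 F169720)) (tt N58601 D109747))
theorem Q31138 : ∀ i, i < 31138 → P i := stepQ 31137 Q31137 (allL N31137 (tt N58561 (iv1 F169683)) (tt N58560 F169688) (tt N58563 (iv2 F169686)) (tt N24515 (iv3 F326424)) (tt N15573 F79992) (tt N58601 (iv5 F169731)) (tt N31936 (iv6 F81777)) (tt N15569 (iv7 D50613)))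
theorem Q31139 : ∀ i, i < 31139 → P i := stepQ 31138 Q31138 (allL N31138 (tt N39536 F163874) (tt N16194 F163875) (tt N45899 (iv2 F327548)) (tt N15570 (iv3 D50615)) (tt N45890 F327020) (tt N58602 D109749) (tt N31716 F163876) (tt N57891 (iv7 F168500)))
theorem Q31140 : ∀ i, i < 31140 → P i := stepQ 31139 Q31139 (allL N31139 (tt N58603 D109750) (tt N39230 F169743) (tt N58564 (iv2 F169692)) (tt N58604 D109751) (tt N15570 (iv4 D50616)) (tt N58605 D109752) (tt N58606 D109753) (tt N58565 (iv7 F169697)))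
theorem Q31141 : ∀ i, i < 31141 → P i := stepQ 31140 Q31140 (allL N31140 (tt N39176 F99577) (tt N39309 (iv0 F99892)) (tt N39689 (iv2 F100575)) (tt N58602 (iv3 F169738)) (tt N58607 D109754) (tt N15570 (iv5 D50617)) (tt N38846 (iv6 F98867)) (tt N39215 F99763))
theorem Q31142 : ∀ i, i < 31142 → P i := stepQ 31141 Q31141 (allL N31141 (tt N15587 F83898) (tt N15595 F83899) (tt N15594 F99771) (tt N31716 F163868) (tt N58606 (iv4 F169745)) (tt N33020 F83897) (tt N15570 (iv6 D50618)) (tt N15593 F99772))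
theorem Q31143 : ∀ i, i < 31143 → P i := stepQ 31142 Q31142 (allL N31142 (tt N39230 (iv1 F169742)) (tt N58603 F169740) (tt N58565 (iv2 F169696)) (tt N58608 D109755) (tt N15571 (iv4 D50621)) (tt N58609 D109756) (tt N58610 D109757) (tt N58564 (iv7 F169694)))
theorem Q31144 : ∀ i, i < 31144 → P i := stepQ 31143 Q31143 (allL N31143 (tt N44381 F161377) (tt N58376 (iv0 F169218)) (tt N58526 (iv2 F169538)) (tt N55643 (iv3 F168364)) (tt N58610 (iv4 F169748)) (tt N20012 F79995) (tt N15571 (iv6 D50622)) (tt N58529 (iv7 F169556)))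
theorem Q31145 : ∀ i, i < 31145 → P i := stepQ 31144 Q31144 (allL N31144 (tt N58074 F168840) (tt N58611 D109758) (tt N20078 F79996) (tt N58612 D109759) (tt N15572 (iv4 D50623)) (tt N58613 D109760) (tt N19932 F79997) (tt N20076 F79998))
theorem Q31146 : ∀ i, i < 31146 → P i := stepQ 31145 Q31145 (allL N31145 (tt N31214 F80187) (tt N47650 (iv0 F324512)) (tt N31943 (iv2 F170008)) (tt N58614 D109771) (tt N15574 (iv4 D50626)) (tt N54706 (iv5 F344570)) (tt N58615 D109773) (tt N31941 (iv7 F170000)))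
theorem Q31147 : ∀ i, i < 31147 → P i := stepQ 31146 Q31146 (allL N31146 (tt N45978 (iv1 F324516)) (tt N31982 F326932) (tt N31944 (iv2 F170012)) (tt N35510 F323083) (tt N58615 (iv4 F169768)) (tt N31909 F325609) (tt N15574 (iv6 D50628)) (tt N31909 F325610))
theorem Q31148 : ∀ i, i < 31148 → P i := stepQ 31147 Q31147 (allL N31147 (tt N31756 F169772) (tt N23415 F323088) (tt N35230 F323089) (tt N15575 (iv3 D50630)) (tt N58616 D109782) (tt N25329 (iv5 F323096)) (tt N31910 (iv6 F324520)) (tt N31942 (iv7 F170007)))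
theorem Q31149 : ∀ i, i < 31149 → P i := stepQ 31148 Q31148 (allL N31148 (tt N47650 (iv1 F324513)) (tt N31214 F169771) (tt N31941 (iv2 F169999)) (tt N58617 D109784) (tt N15575 (iv4 D50631)) (tt N53445 (iv5 F344562)) (tt N31911 F325624) (tt N31943 (iv7 F170009)))
theorem Q31150 : ∀ i, i < 31150 → P i := stepQ 31149 Q31149 (allL N31149 (tt N23908 (iv1 F325358)) (tt N15580 (iv0 D50644)) (tt N21072 (iv2 F80007)) (tt N17701 (iv3 F325291)) (tt N23538 F324935) (tt N15662 F80006) (tt N21072 (iv6 F80008)) (tt N23589 F324936))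
theorem Q31151 : ∀ i, i < 31151 → P i := stepQ 31150 Q31150 (allL N31150 (tt N31744 (iv1 F172716)) (tt N31618 (iv0 F100284)) (tt N31706 F168300) (tt N45506 (iv3 F326254)) (tt N15582 (iv4 D50651)) (tt N45620 (iv5 F343755)) (tt N31946 (iv6 F81834)) (tt N31708 (iv7 F168245)))
theorem Q31152 : ∀ i, i < 31152 → P i := stepQ 31151 Q31151 (allL N31151 (tt N33353 F168302) (tt N39939 (iv0 F168303)) (tt N31707 F168305) (tt N15583 F80014) (tt N58618 D109838) (tt N15582 (iv5 D50652)) (tt N38850 (iv6 F98881)) (tt N31709 (iv7 F168224)))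
theorem Q31153 : ∀ i, i < 31153 → P i := stepQ 31152 Q31152 (allL N31152 (tt N25264 (iv1 F314540)) (tt N39952 F100906) (tt N31916 (iv2 F81707)) (tt N58619 D109845) (tt N15583 (iv4 D50655)) (tt N41579 (iv5 F104447)) (tt N38851 (iv6 F98884)) (tt N31918 (iv7 F81733)))
theorem Q31154 : ∀ i, i < 31154 → P i := stepQ 31153 Q31153 (allL N31153 (tt N58552 (iv1 F209608)) (tt N58620 D109854) (tt N58621 D109855) (tt N15585 (iv3 D50664)) (tt N58612 (iv4 F169754)) (tt N58622 D109856) (tt N20211 F80018) (tt N20507 F80019))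
theorem Q31155 : ∀ i, i < 31155 → P i := stepQ 31154 Q31154 (allL N31154 (tt N48107 (iv1 F313712)) (tt N41054 (iv0 F103236)) (tt N20512 F80020) (tt N58622 (iv3 F169841)) (tt N45512 (iv4 F323534)) (tt N15585 (iv5 D50665)) (tt N58623 D109859) (tt N20508 F80021))
theorem Q31156 : ∀ i, i < 31156 → P i := stepQ 31155 Q31155 (allL N31155 (tt N58624 D109860) (tt N58625 D109861) (tt N51721 (iv2 F337330)) (tt N15586 (iv3 D50666)) (tt N31919 (iv4 F81735)) (tt N27613 F337312) (tt N58626 D109864) (tt N31880 (iv7 F81611)))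
theorem Q31157 : ∀ i, i < 31157 → P i := stepQ 31156 Q31156 (allL N31156 (tt N31084 F80024) (tt N31081 F80025) (tt N15591 F80022) (tt N27613 F337311) (tt N18114 F80023) (tt N15586 (iv5 D50667)) (tt N58627 D109865) (tt N31881 (iv7 F81614)))
theorem Q31158 : ∀ i, i < 31158 → P i := stepQ 31157 Q31157 (allL N31157 (tt N58628 D109866) (tt N58593 (iv0 F202531)) (tt N15592 F80026) (tt N58626 (iv3 F169854)) (tt N15587 F80027) (tt N58629 D109868) (tt N15586 (iv6 D50668)) (tt N58630 D109869))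
theorem Q31159 : ∀ i, i < 31159 → P i := stepQ 31158 Q31158 (allL N31158 (tt N15595 (iv1 F80031)) (tt N15587 (iv0 D50669)) (tt N15593 F99774) (tt N55610 F168358) (tt N58631 D109870) (tt N33019 (iv5 F83894)) (tt N58529 (iv6 F169555)) (tt N15594 F99775))
theorem Q31160 : ∀ i, i < 31160 → P i := stepQ 31159 Q31159 (allL N31159 (tt N15594 (iv1 F80032)) (tt N15593 F80033) (tt N15595 F80029) (tt N31923 (iv3 F81747)) (tt N58630 (iv4 F169862)) (tt N19798 F80030) (tt N31885 (iv6 F81623)) (tt N15587 (iv7 D50671)))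
theorem Q31161 : ∀ i, i < 31161 → P i := stepQ 31160 Q31160 (allL N31160 (tt N58632 D109871) (tt N58633 D109872) (tt N58634 D109873) (tt N15588 (iv3 D50672)) (tt N31693 (iv4 F81199)) (tt N58508 (iv5 F169515)) (tt N31924 (iv6 F81754)) (tt N31886 (iv7 F81627)))
theorem Q31162 : ∀ i, i < 31162 → P i := stepQ 31161 Q31161 (allL N31161 (tt N58635 D109874) (tt N58636 D109875) (tt N58637 D109876) (tt N15589 (iv3 D50673)) (tt N31247 (iv4 F80272)) (tt N56018 F162323) (tt N58638 D109877) (tt N31888 (iv7 F81632)))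
theorem Q31163 : ∀ i, i < 31163 → P i := stepQ 31162 Q31162 (allL N31162 (tt N31979 (iv1 F166165)) (tt N58374 F169210) (tt N31887 (iv2 F81628)) (tt N58638 (iv3 F169880)) (tt N31245 (iv4 F80268)) (tt N58639 D109878) (tt N15589 (iv6 D50674)) (tt N31926 (iv7 F81758)))
theorem Q31164 : ∀ i, i < 31164 → P i := stepQ 31163 Q31163 (allL N31163 (tt N31891 (iv1 F81637)) (tt N15590 (iv0 D50675)) (tt N31890 (iv2 F105369)) (tt N58640 D109879) (tt N31973 (iv4 F81931)) (tt N54491 (iv5 F329862)) (tt N31927 F326160) (tt N31889 (iv7 F105371)))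
theorem Q31165 : ∀ i, i < 31165 → P i := stepQ 31164 Q31164 (allL N31164 (tt N15590 (iv1 D50676)) (tt N31891 F81639) (tt N31889 F105370) (tt N58641 D109881) (tt N31947 (iv4 F81843)) (tt N58507 (iv5 F169506)) (tt N58642 D109882) (tt N31890 F105368))
theorem Q31166 : ∀ i, i < 31166 → P i := stepQ 31165 Q31165 (allL N31165 (tt N31890 (iv1 F81638)) (tt N31889 F81633) (tt N15590 (iv2 D50677)) (tt N51721 (iv3 F337331)) (tt N15598 F80035) (tt N51719 (iv5 F349486)) (tt N24050 (iv6 F325230)) (tt N31891 (iv7 F81636)))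
theorem Q31167 : ∀ i, i < 31167 → P i := stepQ 31166 Q31166 (allL N31166 (tt N58643 D109885) (tt N27644 F320043) (tt N51719 (iv2 F349484)) (tt N15591 F80036) (tt N58644 D109887) (tt N15590 (iv5 D50678)) (tt N58645 D109888) (tt N31892 (iv7 F81641)))
theorem Q31168 : ∀ i, i < 31168 → P i := stepQ 31167 Q31167 (allL N31167 (tt N31881 (iv1 F81616)) (tt N15591 (iv0 D50680)) (tt N31084 (iv2 F80040)) (tt N58646 D109893) (tt N32002 (iv4 F82006)) (tt N15923 F80039) (tt N58646 (iv6 F354556)) (tt N31081 (iv7 F80041)))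
theorem Q31169 : ∀ i, i < 31169 → P i := stepQ 31168 Q31168 (allL N31168 (tt N15591 (iv1 D50681)) (tt N31881 (iv0 F81615)) (tt N31081 (iv2 F80044)) (tt N42585 F319638) (tt N31997 (iv4 F81993)) (tt N15924 F80043) (tt N42584 (iv6 F321625)) (tt N31084 F80042))
theorem Q31170 : ∀ i, i < 31170 → P i := stepQ 31169 Q31169 (allL N31169 (tt N21343 F80047) (tt N32007 (iv0 F82027)) (tt N18114 F80045) (tt N58647 D109896) (tt N15591 (iv4 D50682)) (tt N18110 F80046) (tt N58648 D109897) (tt N31894 (iv7 F81646)))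
theorem Q31171 : ∀ i, i < 31171 → P i := stepQ 31170 Q31170 (allL N31170 (tt N58649 D109898) (tt N58650 D109899) (tt N58627 (iv2 F169855)) (tt N58645 (iv3 F169900)) (tt N58648 (iv4 F169910)) (tt N58651 D109900) (tt N15591 (iv6 D50683)) (tt N58652 D109901))
theorem Q31172 : ∀ i, i < 31172 → P i := stepQ 31171 Q31171 (allL N31171 (tt N58630 (iv1 F169875)) (tt N15592 (iv0 D50684)) (tt N58628 (iv2 F202495)) (tt N58653 D109903) (tt N35829 F169876) (tt N58461 (iv5 F173734)) (tt N58654 D109905) (tt N58593 (iv7 F202534)))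
theorem Q31173 : ∀ i, i < 31173 → P i := stepQ 31172 Q31172 (allL N31172 (tt N15592 (iv1 D50685)) (tt N58630 F169864) (tt N58593 (iv2 F202533)) (tt N58655 D109907) (tt N35830 (iv4 F170706)) (tt N58462 (iv5 F169865)) (tt N58560 (iv6 F169866)) (tt N58628 (iv7 F202496)))
theorem Q31174 : ∀ i, i < 31174 → P i := stepQ 31173 Q31173 (allL N31173 (tt N58656 D109909) (tt N58657 D109910) (tt N58629 (iv2 F169858)) (tt N45468 (iv3 F326402)) (tt N58658 D109911) (tt N15592 (iv5 D50686)) (tt N58651 (iv6 F169911)) (tt N58659 D109912))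
theorem Q31175 : ∀ i, i < 31175 → P i := stepQ 31174 Q31174 (allL N31174 (tt N58593 (iv1 F202532)) (tt N58628 F169863) (tt N58630 (iv2 F169861)) (tt N24049 F326029) (tt N15595 F80048) (tt N58659 (iv5 F169917)) (tt N31899 (iv6 F81650)) (tt N15592 (iv7 D50687)))
theorem Q31176 : ∀ i, i < 31176 → P i := stepQ 31175 Q31175 (allL N31175 (tt N58660 D109915) (tt N44147 F169930) (tt N58631 (iv2 F169877)) (tt N45907 (iv3 F327091)) (tt N15593 (iv4 D50690)) (tt N58661 D109917) (tt N58662 D109918) (tt N58606 F169746))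
theorem Q31177 : ∀ i, i < 31177 → P i := stepQ 31176 Q31176 (allL N31176 (tt N58376 F169216) (tt N44381 (iv0 F161375)) (tt N58529 (iv2 F169554)) (tt N45910 (iv3 F327090)) (tt N58662 (iv4 F169935)) (tt N20013 F80050) (tt N15593 (iv6 D50691)) (tt N58526 (iv7 F169540)))
theorem Q31178 : ∀ i, i < 31178 → P i := stepQ 31177 Q31177 (allL N31177 (tt N16206 F168185) (tt N55611 F168186) (tt N45897 (iv2 F327094)) (tt N15594 (iv3 D50693)) (tt N35689 (iv4 F174555)) (tt N30122 F168187) (tt N16232 F168188) (tt N55610 (iv7 F168355)))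
theorem Q31179 : ∀ i, i < 31179 → P i := stepQ 31178 Q31178 (allL N31178 (tt N44147 (iv1 F169929)) (tt N58660 F169927) (tt N58606 (iv2 F169744)) (tt N58663 D109920) (tt N15594 (iv4 D50694)) (tt N58664 D109921) (tt N58564 (iv6 F169693)) (tt N58631 (iv7 F169878)))
theorem Q31180 : ∀ i, i < 31180 → P i := stepQ 31179 Q31179 (allL N31179 (tt N58665 D109928) (tt N46318 F324001) (tt N31911 F170018) (tt N58666 D109930) (tt N15596 (iv4 D50699)) (tt N49730 (iv5 F322926)) (tt N31941 (iv6 F325277)) (tt N31908 (iv7 F170022)))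
theorem Q31181 : ∀ i, i < 31181 → P i := stepQ 31180 Q31180 (allL N31180 (tt N46318 F325232) (tt N58665 F170046) (tt N31908 F170023) (tt N58241 (iv3 F169048)) (tt N15597 (iv4 D50704)) (tt N58667 D109938) (tt N58668 D109939) (tt N31911 F170017))
theorem Q31182 : ∀ i, i < 31182 → P i := stepQ 31181 Q31181 (allL N31181 (tt N31982 F327012) (tt N45978 (iv0 F326182)) (tt N31909 (iv2 F170039)) (tt N48338 F325266) (tt N58668 (iv4 F170062)) (tt N31944 (iv5 F326183)) (tt N15597 (iv6 D50706)) (tt N31944 (iv7 F326428)))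
theorem Q31183 : ∀ i, i < 31183 → P i := stepQ 31182 Q31182 (allL N31182 (tt N31621 (iv1 F171523)) (tt N31754 (iv0 F171524)) (tt N31730 (iv2 F164018)) (tt N34457 (iv3 F326757)) (tt N15603 (iv4 D50732)) (tt N58669 D109991) (tt N31914 (iv6 F81699)) (tt N31728 (iv7 F163896)))
theorem Q31184 : ∀ i, i < 31184 → P i := stepQ 31183 Q31183 (allL N31183 (tt N15615 F105380) (tt N45455 (iv0 F323962)) (tt N50710 (iv2 F323958)) (tt N15604 (iv3 D50736)) (tt N31928 F81761) (tt N23793 F322511) (tt N58670 D109998) (tt N31953 (iv7 F105361)))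
theorem Q31185 : ∀ i, i < 31185 → P i := stepQ 31184 Q31184 (allL N31184 (tt N35910 F93529) (tt N44940 (iv0 F323944)) (tt N31956 F105359) (tt N58671 D110000) (tt N15604 (iv4 D50737)) (tt N47813 (iv5 F323970)) (tt N44822 (iv6 F323609)) (tt N31954 (iv7 F105362)))
theorem Q31186 : ∀ i, i < 31186 → P i := stepQ 31185 Q31185 (allL N31185 (tt N23640 (iv1 F323607)) (tt N23752 (iv0 F323971)) (tt N31957 F105360) (tt N58670 (iv3 F170135)) (tt N44822 (iv4 F323608)) (tt N31949 (iv5 F323973)) (tt N15604 (iv6 D50739)) (tt N31949 (iv7 F324469)))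
theorem Q31187 : ∀ i, i < 31187 → P i := stepQ 31186 Q31186 (allL N31186 (tt N31963 (iv1 F170446)) (tt N27635 (iv0 F323941)) (tt N31962 F105379) (tt N15605 (iv3 D50741)) (tt N58672 D110008) (tt N23795 F322500) (tt N31950 (iv6 F324480)) (tt N31955 F105356))
theorem Q31188 : ∀ i, i < 31188 → P i := stepQ 31187 Q31187 (allL N31187 (tt N44940 (iv1 F323945)) (tt N35910 F105364) (tt N31954 F105363) (tt N58673 D110010) (tt N15605 (iv4 D50742)) (tt N35427 (iv5 F323948)) (tt N31951 (iv6 F323949)) (tt N31956 F105357))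
theorem Q31189 : ∀ i, i < 31189 → P i := stepQ 31188 Q31188 (allL N31188 (tt N31960 (iv1 F81892)) (tt N31959 F81891) (tt N15607 F80125) (tt N58674 D110017) (tt N15606 (iv4 D50745)) (tt N44097 (iv5 F324186)) (tt N23124 F322718) (tt N31958 (iv7 F81874)))
theorem Q31190 : ∀ i, i < 31190 → P i := stepQ 31189 Q31189 (allL N31189 (tt N31958 (iv1 F81888)) (tt N15607 (iv0 D50747)) (tt N31960 (iv2 F170041)) (tt N58201 F169003) (tt N35533 F321462) (tt N48151 F321463) (tt N45585 F324575) (tt N31959 (iv7 F170042)))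
theorem Q31191 : ∀ i, i < 31191 → P i := stepQ 31190 Q31190 (allL N31190 (tt N15607 (iv1 D50748)) (tt N31958 (iv0 F81875)) (tt N31959 F169943) (tt N58675 D110027) (tt N25339 F321465) (tt N35486 F321466) (tt N25337 (iv6 F323128)) (tt N31960 F170040))
theorem Q31192 : ∀ i, i < 31192 → P i := stepQ 31191 Q31191 (allL N31191 (tt N40642 (iv1 F324016)) (tt N34384 (iv0 F324021)) (tt N44097 (iv2 F324185)) (tt N18186 F80128) (tt N34378 (iv4 F324192)) (tt N15607 (iv5 D50749)) (tt N58676 D110033) (tt N31961 (iv7 F81895)))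
theorem Q31193 : ∀ i, i < 31193 → P i := stepQ 31192 Q31192 (allL N31192 (tt N31230 (iv1 F80214)) (tt N31229 F80213) (tt N15624 F80162) (tt N31220 (iv3 F80199)) (tt N56843 (iv4 F330462)) (tt N31220 (iv5 F80200)) (tt N15608 (iv6 D50783)) (tt N31220 (iv7 F80201)))
theorem Q31194 : ∀ i, i < 31194 → P i := stepQ 31193 Q31193 (allL N31193 (tt N50710 (iv1 F323957)) (tt N31953 F170202) (tt N45455 (iv2 F323963)) (tt N15609 (iv3 D50786)) (tt N58677 D110119) (tt N45661 F323919) (tt N25986 (iv6 F325198)) (tt N15615 F80165))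
theorem Q31195 : ∀ i, i < 31195 → P i := stepQ 31194 Q31194 (allL N31194 (tt N58200 F170128) (tt N58678 D110122) (tt N15611 F80166) (tt N58145 F170129) (tt N15609 (iv4 D50787)) (tt N58679 D110123) (tt N45361 (iv6 F326975)) (tt N15616 F80167))
theorem Q31196 : ∀ i, i < 31196 → P i := stepQ 31195 Q31195 (allL N31195 (tt N15939 (iv1 F170940)) (tt N20519 (iv0 F170941)) (tt N15612 F80168) (tt N45661 F323916) (tt N58680 D110127) (tt N15609 (iv5 D50788)) (tt N45657 (iv6 F325196)) (tt N15617 F80169))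
theorem Q31197 : ∀ i, i < 31197 → P i := stepQ 31196 Q31196 (allL N31196 (tt N24092 (iv1 F326977)) (tt N45623 (iv0 F326978)) (tt N15613 F80170) (tt N25986 F326123) (tt N45361 (iv4 F326974)) (tt N25981 F326124) (tt N15609 (iv6 D50789)) (tt N25980 (iv7 F326982)))
theorem Q31198 : ∀ i, i < 31198 → P i := stepQ 31197 Q31197 (allL N31197 (tt N15610 (iv1 D50791)) (tt N24026 F323073) (tt N31950 (iv2 F105373)) (tt N31973 (iv3 F81932)) (tt N35905 (iv4 F170483)) (tt N52250 (iv5 F323928)) (tt N31962 F325586) (tt N45817 F323074))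
theorem Q31199 : ∀ i, i < 31199 → P i := stepQ 31198 Q31198 (allL N31198 (tt N45817 F323069) (tt N31950 F170118) (tt N15610 (iv2 D50792)) (tt N45455 (iv3 F323964)) (tt N18175 F170120) (tt N45734 (iv5 F324436)) (tt N25416 (iv6 F324472)) (tt N24026 F323070))
theorem Q31200 : ∀ i, i < 31200 → P i := stepQ 31199 Q31199 (allL N31199 (tt N18144 F80171) (tt N18177 (iv0 F80172)) (tt N18175 F170121) (tt N58681 D110138) (tt N15610 (iv4 D50793)) (tt N58682 D110139) (tt N45717 (iv6 F325222)) (tt N18176 F170122))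
theorem Q31201 : ∀ i, i < 31201 → P i := stepQ 31200 Q31200 (allL N31200 (tt N31311 (iv1 F171080)) (tt N45720 (iv0 F324454)) (tt N45734 (iv2 F324435)) (tt N15612 F80173) (tt N58475 F169603) (tt N15610 (iv5 D50794)) (tt N25433 (iv6 F324605)) (tt N25479 (iv7 F324457)))
theorem Q31202 : ∀ i, i < 31202 → P i := stepQ 31201 Q31201 (allL N31201 (tt N15616 (iv1 F80181)) (tt N15611 (iv0 D50797)) (tt N58200 (iv2 F170029)) (tt N58683 D110150) (tt N25329 F324522) (tt N58684 D110151) (tt N58685 D110152) (tt N58678 (iv7 F170260)))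
theorem Q31203 : ∀ i, i < 31203 → P i := stepQ 31202 Q31202 (allL N31202 (tt N15611 (iv1 D50798)) (tt N15616 F80177) (tt N58678 (iv2 F170262)) (tt N57893 (iv3 F170034)) (tt N25328 F323987) (tt N58686 D110153) (tt N31967 (iv6 F325248)) (tt N58200 F170030))
theorem Q31204 : ∀ i, i < 31204 → P i := stepQ 31203 Q31203 (allL N31203 (tt N58148 F168938) (tt N58687 D110155) (tt N58688 D110156) (tt N15611 (iv3 D50799)) (tt N58681 (iv4 F170292)) (tt N58689 D110157) (tt N58690 D110158) (tt N58691 D110159))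
theorem Q31205 : ∀ i, i < 31205 → P i := stepQ 31204 Q31204 (allL N31204 (tt N58692 D110160) (tt N58693 D110161) (tt N58679 (iv2 F170263)) (tt N58689 (iv3 F170309)) (tt N58694 D110162) (tt N15611 (iv5 D50800)) (tt N58695 D110163) (tt N58696 D110164))
theorem Q31206 : ∀ i, i < 31206 → P i := stepQ 31205 Q31205 (allL N31205 (tt N35267 (iv1 F326983)) (tt N35266 (iv0 F326984)) (tt N45361 (iv2 F326973)) (tt N58690 (iv3 F170310)) (tt N15613 F80178) (tt N58697 D110167) (tt N15611 (iv6 D50801)) (tt N45360 (iv7 F326986)))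
theorem Q31207 : ∀ i, i < 31207 → P i := stepQ 31206 Q31206 (allL N31206 (tt N58678 (iv1 F170259)) (tt N58200 F170133) (tt N15616 F80179) (tt N58691 (iv3 F170311)) (tt N15614 F80180) (tt N58696 (iv5 F170315)) (tt N24370 (iv6 F325623)) (tt N15611 (iv7 D50802)))
theorem Q31208 : ∀ i, i < 31208 → P i := stepQ 31207 Q31207 (allL N31207 (tt N15617 (iv1 F80185)) (tt N15612 (iv0 D50803)) (tt N15939 F169599) (tt N31064 F169600) (tt N58698 D110170) (tt N31064 F169601) (tt N58699 D110171) (tt N20519 F169602))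
theorem Q31209 : ∀ i, i < 31209 → P i := stepQ 31208 Q31208 (allL N31208 (tt N48317 F325710) (tt N48316 F325711) (tt N58680 (iv2 F170269)) (tt N58700 D110173) (tt N15612 (iv4 D50805)) (tt N58701 D110174) (tt N47876 (iv6 F326517)) (tt N58702 D110176))
theorem Q31210 : ∀ i, i < 31210 → P i := stepQ 31209 Q31209 (allL N31209 (tt N54842 F325720) (tt N31065 (iv0 F170960)) (tt N45657 F325721) (tt N25433 F325722) (tt N47876 (iv4 F326516)) (tt N25421 (iv5 F326520)) (tt N15612 (iv6 D50806)) (tt N25420 F325723))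
theorem Q31211 : ∀ i, i < 31211 → P i := stepQ 31210 Q31210 (allL N31210 (tt N20519 F170942) (tt N15939 F170943) (tt N15617 F80183) (tt N25479 F325551) (tt N58702 (iv4 F170341)) (tt N15614 F80184) (tt N23511 (iv6 F326388)) (tt N15612 (iv7 D50807)))
theorem Q31212 : ∀ i, i < 31212 → P i := stepQ 31211 Q31211 (allL N31211 (tt N25980 (iv1 F326980)) (tt N15613 (iv0 D50808)) (tt N24092 (iv2 F326987)) (tt N27973 F327539) (tt N58300 (iv4 F326988)) (tt N24087 (iv5 F326989)) (tt N31978 F327398) (tt N45623 (iv7 F326990)))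
theorem Q31213 : ∀ i, i < 31213 → P i := stepQ 31212 Q31212 (allL N31212 (tt N45623 (iv1 F326979)) (tt N24092 (iv0 F326976)) (tt N25980 (iv2 F326981)) (tt N24029 F326148) (tt N45360 (iv4 F326985)) (tt N25389 (iv5 F326991)) (tt N24027 (iv6 F326411)) (tt N15613 (iv7 D50811)))
theorem Q31214 : ∀ i, i < 31214 → P i := stepQ 31213 Q31213 (allL N31213 (tt N45455 F323967) (tt N15615 (iv0 D50813)) (tt N31953 F105378) (tt N31962 F81916) (tt N31927 F81760) (tt N46319 F323968) (tt N31973 (iv6 F325235)) (tt N50710 F323969))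
theorem Q31215 : ∀ i, i < 31215 → P i := stepQ 31214 Q31214 (allL N31214 (tt N31148 (iv1 F169771)) (tt N31145 (iv0 F80187)) (tt N24904 F324511) (tt N58703 D110205) (tt N15615 (iv4 D50816)) (tt N58704 D110206) (tt N23048 (iv6 F325606)) (tt N58677 (iv7 F170251)))
theorem Q31216 : ∀ i, i < 31216 → P i := stepQ 31215 Q31215 (allL N31215 (tt N58147 (iv1 F168935)) (tt N40318 (iv0 F101570)) (tt N58146 (iv2 F223511)) (tt N15616 (iv3 D50819)) (tt N58703 (iv4 F170379)) (tt N58705 D110216) (tt N58706 D110217) (tt N58145 (iv7 F170132)))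
theorem Q31217 : ∀ i, i < 31217 → P i := stepQ 31216 Q31216 (allL N31216 (tt N58693 (iv1 F170313)) (tt N58692 F170316) (tt N58696 (iv2 F170314)) (tt N58705 (iv3 F170385)) (tt N58707 D110218) (tt N15616 (iv5 D50820)) (tt N58708 D110219) (tt N58679 (iv7 F170264)))
theorem Q31218 : ∀ i, i < 31218 → P i := stepQ 31217 Q31217 (allL N31217 (tt N17609 (iv1 F327001)) (tt N22911 (iv0 F327002)) (tt N24370 F326178) (tt N58706 (iv3 F170386)) (tt N15618 F80190) (tt N58709 D110222) (tt N15616 (iv6 D50821)) (tt N24369 (iv7 F327011)))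
theorem Q31219 : ∀ i, i < 31219 → P i := stepQ 31218 Q31218 (allL N31218 (tt N48316 F325552) (tt N48317 (iv0 F325625)) (tt N58702 (iv2 F170340)) (tt N58710 D110224) (tt N15617 (iv4 D50822)) (tt N58711 D110225) (tt N45626 (iv6 F326389)) (tt N58680 (iv7 F170270)))
theorem Q31220 : ∀ i, i < 31220 → P i := stepQ 31219 Q31219 (allL N31219 (tt N15902 (iv1 F80196)) (tt N15901 F80197) (tt N15622 F80194) (tt N58712 D110245) (tt N15619 (iv4 D50838)) (tt N58713 D110246) (tt N58714 D110247) (tt N15903 F80195))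
theorem Q31221 : ∀ i, i < 31221 → P i := stepQ 31220 Q31220 (allL N31220 (tt N31232 (iv1 F80216)) (tt N31231 F80215) (tt N15623 F80198) (tt N31192 F80199) (tt N58714 (iv4 F170404)) (tt N31192 F80200) (tt N15619 (iv6 D50839)) (tt N31192 F80201))
theorem Q31222 : ∀ i, i < 31222 → P i := stepQ 31221 Q31221 (allL N31221 (tt N58616 (iv1 F169777)) (tt N48348 F323983) (tt N16024 (iv2 F170428)) (tt N58715 D110256) (tt N15620 (iv4 D50842)) (tt N58716 D110257) (tt N23416 (iv6 F325245)) (tt N16020 F170424))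
theorem Q31223 : ∀ i, i < 31223 → P i := stepQ 31222 Q31222 (allL N31222 (tt N46319 (iv1 F323056)) (tt N23793 F322509) (tt N46320 (iv2 F323055)) (tt N15621 (iv3 D50846)) (tt N58665 (iv4 F170045)) (tt N45462 (iv5 F323924)) (tt N23645 (iv6 F323956)) (tt N16023 F170432))
theorem Q31224 : ∀ i, i < 31224 → P i := stepQ 31223 Q31223 (allL N31223 (tt N48348 F323984) (tt N58616 (iv0 F170369)) (tt N16020 F170433) (tt N58717 D110265) (tt N15621 (iv4 D50847)) (tt N58718 D110266) (tt N46737 (iv6 F325247)) (tt N16024 F170434))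
theorem Q31225 : ∀ i, i < 31225 → P i := stepQ 31224 Q31224 (allL N31224 (tt N23509 F326994) (tt N52800 F326995) (tt N16022 F170437) (tt N23645 F325231) (tt N46737 (iv4 F325246)) (tt N23604 (iv5 F326162)) (tt N15621 (iv6 D50849)) (tt N45327 (iv7 F326163)))
theorem Q31226 : ∀ i, i < 31226 → P i := stepQ 31225 Q31225 (allL N31225 (tt N15903 (iv1 F80205)) (tt N15622 (iv0 D50850)) (tt N15902 F173297) (tt N58719 D110273) (tt N17832 F324519) (tt N58720 D110275) (tt N17831 (iv6 F325614)) (tt N15901 F173298))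
theorem Q31227 : ∀ i, i < 31227 → P i := stepQ 31226 Q31226 (allL N31226 (tt N15622 (iv1 D50851)) (tt N15903 F80206) (tt N15901 (iv2 F173292)) (tt N58721 D110278) (tt N18203 (iv4 F80207)) (tt N58722 D110279) (tt N34995 (iv6 F325612)) (tt N15902 (iv7 F173291)))
theorem Q31228 : ∀ i, i < 31228 → P i := stepQ 31227 Q31227 (allL N31227 (tt N58723 D110281) (tt N58724 D110282) (tt N58713 (iv2 F170399)) (tt N15909 F80208) (tt N58725 D110283) (tt N15622 (iv5 D50852)) (tt N58726 D110284) (tt N15904 F80209))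
theorem Q31229 : ∀ i, i < 31229 → P i := stepQ 31228 Q31228 (allL N31228 (tt N58727 D110285) (tt N58728 D110286) (tt N58714 (iv2 F170403)) (tt N15910 F80210) (tt N15623 F80211) (tt N58729 D110287) (tt N15622 (iv6 D50853)) (tt N30991 F80212))
theorem Q31230 : ∀ i, i < 31230 → P i := stepQ 31229 Q31229 (allL N31229 (tt N31192 (iv1 F80213)) (tt N15623 (iv0 D50854)) (tt N31232 (iv2 F328281)) (tt N45845 (iv3 F327352)) (tt N58730 D110290) (tt N45630 F326651) (tt N45539 (iv6 F327353)) (tt N31231 F327892))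
theorem Q31231 : ∀ i, i < 31231 → P i := stepQ 31230 Q31230 (allL N31230 (tt N15623 (iv1 D50855)) (tt N31192 F80214) (tt N31231 F327891) (tt N45664 (iv3 F328278)) (tt N58731 D110295) (tt N45631 (iv5 F328279)) (tt N45662 (iv6 F328280)) (tt N31232 (iv7 F328282)))
theorem Q31232 : ∀ i, i < 31232 → P i := stepQ 31231 Q31231 (allL N31231 (tt N31220 (iv1 F80215)) (tt N15624 (iv0 D50856)) (tt N31230 (iv2 F327891)) (tt N51607 (iv3 F327884)) (tt N58732 D110300) (tt N58733 D110301) (tt N45635 (iv6 F327887)) (tt N31229 (iv7 F327892)))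
theorem Q31233 : ∀ i, i < 31233 → P i := stepQ 31232 Q31232 (allL N31232 (tt N15624 (iv1 D50857)) (tt N31220 F80216) (tt N31229 F328281) (tt N58734 D110304) (tt N58735 D110305) (tt N58736 D110306) (tt N58737 D110307) (tt N31230 F328282))
theorem Q31234 : ∀ i, i < 31234 → P i := stepQ 31233 Q31233 (allL N31233 (tt N17569 (iv1 F324763)) (tt N17569 (iv0 F324762)) (tt N23618 F323452) (tt N17507 F323453) (tt N18148 F80234) (tt N15626 (iv5 D50864)) (tt N21067 F80235) (tt N23618 F323454))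
theorem Q31235 : ∀ i, i < 31235 → P i := stepQ 31234 Q31234 (allL N31234 (tt N31887 F166188) (tt N31926 F166189) (tt N58374 (iv2 F169208)) (tt N58738 D110321) (tt N15627 (iv4 D50869)) (tt N58739 D110322) (tt N58740 D110323) (tt N31979 (iv7 F81943)))
theorem Q31236 : ∀ i, i < 31236 → P i := stepQ 31235 Q31235 (allL N31235 (tt N58741 D110324) (tt N31061 F161303) (tt N58375 (iv2 F169211)) (tt N15629 F80238) (tt N58742 D110325) (tt N15627 (iv5 D50870)) (tt N20079 F161304) (tt N31980 (iv7 F81945)))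
theorem Q31237 : ∀ i, i < 31237 → P i := stepQ 31236 Q31236 (allL N31236 (tt N58526 F169542) (tt N58529 (iv0 F169557)) (tt N58376 (iv2 F169214)) (tt N15630 F80240) (tt N58740 (iv4 F170554)) (tt N19954 F161308) (tt N15627 (iv6 D50871)) (tt N44381 (iv7 F111838)))
theorem Q31238 : ∀ i, i < 31238 → P i := stepQ 31237 Q31237 (allL N31237 (tt N31909 (iv1 F326913)) (tt N31944 (iv0 F326426)) (tt N45978 (iv2 F326189)) (tt N15628 (iv3 D50873)) (tt N58738 (iv4 F170553)) (tt N44842 (iv5 F326193)) (tt N35320 F325273) (tt N31982 (iv7 F81949)))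
theorem Q31239 : ∀ i, i < 31239 → P i := stepQ 31238 Q31238 (allL N31238 (tt N31315 F80424) (tt N31315 (iv0 F80423)) (tt N31240 (iv2 F80247)) (tt N44842 (iv3 F326192)) (tt N16029 F80246) (tt N15628 (iv5 D50874)) (tt N31302 (iv6 F80374)) (tt N31240 (iv7 F80248)))
theorem Q31240 : ∀ i, i < 31240 → P i := stepQ 31239 Q31239 (allL N31239 (tt N31912 (iv1 F81679)) (tt N31945 (iv0 F81797)) (tt N31983 (iv2 F81950)) (tt N35320 (iv3 F325045)) (tt N15630 F80243) (tt N44837 (iv5 F325047)) (tt N15628 (iv6 D50875)) (tt N44382 (iv7 F111847)))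
theorem Q31241 : ∀ i, i < 31241 → P i := stepQ 31240 Q31240 (allL N31240 (tt N31071 (iv1 F80381)) (tt N31071 F80382) (tt N31238 F80247) (tt N23818 (iv3 F326663)) (tt N15629 (iv4 D50876)) (tt N16028 F80245) (tt N20513 F80244) (tt N31238 F80248))
theorem Q31242 : ∀ i, i < 31242 → P i := stepQ 31241 Q31241 (allL N31241 (tt N15632 (iv1 D50877)) (tt N15731 (iv0 F80255)) (tt N15749 F80254) (tt N18681 (iv3 F80252)) (tt N18045 F80250) (tt N19652 F80251) (tt N15756 (iv6 F80253)) (tt N15736 F80249))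
theorem Q31243 : ∀ i, i < 31243 → P i := stepQ 31242 Q31242 (allL N31242 (tt N15736 (iv1 F80262)) (tt N15749 F80261) (tt N15632 (iv2 D50878)) (tt N20006 F80256) (tt N15820 F80257) (tt N30594 F80258) (tt N18298 F80259) (tt N15731 F80260))
theorem Q31244 : ∀ i, i < 31244 → P i := stepQ 31243 Q31243 (allL N31243 (tt N37464 (iv1 F96048)) (tt N37463 F96045) (tt N19448 F80264) (tt N58743 D110333) (tt N15633 (iv4 D50879)) (tt N16145 F80265) (tt N58744 D110334) (tt N32109 (iv7 F82361)))
theorem Q31245 : ∀ i, i < 31245 → P i := stepQ 31244 Q31244 (allL N31244 (tt N58745 D110335) (tt N58746 D110336) (tt N19449 F80266) (tt N37518 (iv3 F96186)) (tt N58744 (iv4 F170572)) (tt N56411 (iv5 F163718)) (tt N15633 (iv6 D50880)) (tt N58747 D110337))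
theorem Q31246 : ∀ i, i < 31246 → P i := stepQ 31245 Q31245 (allL N31245 (tt N35742 (iv1 F166192)) (tt N58748 D110338) (tt N31985 (iv2 F81958)) (tt N15637 F80267) (tt N31162 F80268) (tt N31245 F80269) (tt N15634 (iv6 D50881)) (tt N31984 (iv7 F81957)))
theorem Q31247 : ∀ i, i < 31247 → P i := stepQ 31246 Q31246 (allL N31246 (tt N36168 F168124) (tt N58749 D110339) (tt N32057 (iv2 F82189)) (tt N30822 F80270) (tt N56986 (iv4 F165168)) (tt N31246 F80271) (tt N15635 (iv6 D50882)) (tt N57519 (iv7 F167002)))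
theorem Q31248 : ∀ i, i < 31248 → P i := stepQ 31247 Q31247 (allL N31247 (tt N58750 D110340) (tt N58751 D110341) (tt N58752 D110342) (tt N15636 (iv3 D50883)) (tt N31161 F80272) (tt N58753 D110343) (tt N58754 D110344) (tt N30428 F80273))
theorem Q31249 : ∀ i, i < 31249 → P i := stepQ 31248 Q31248 (allL N31248 (tt N30876 F80275) (tt N32232 (iv0 F82581)) (tt N32059 (iv2 F82194)) (tt N58753 (iv3 F170598)) (tt N36685 (iv4 F95026)) (tt N15636 (iv5 D50884)) (tt N58755 D110345) (tt N30429 F80274))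
theorem Q31250 : ∀ i, i < 31250 → P i := stepQ 31249 Q31249 (allL N31249 (tt N58756 D110346) (tt N58757 D110347) (tt N32060 (iv2 F82196)) (tt N58754 (iv3 F170601)) (tt N15637 F80276) (tt N58758 D110348) (tt N15636 (iv6 D50885)) (tt N31988 (iv7 F81969)))
theorem Q31251 : ∀ i, i < 31251 → P i := stepQ 31250 Q31250 (allL N31250 (tt N15681 (iv1 F80277)) (tt N15637 (iv0 D50886)) (tt N18210 F166166) (tt N31989 F166167) (tt N58759 D110349) (tt N58760 D110350) (tt N58761 D110351) (tt N31989 F166168))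
theorem Q31252 : ∀ i, i < 31252 → P i := stepQ 31251 Q31251 (allL N31251 (tt N58762 D110352) (tt N58763 D110353) (tt N23786 F324576) (tt N15638 (iv3 D50888)) (tt N31990 (iv4 F81972)) (tt N58764 D110355) (tt N23782 (iv6 F325679)) (tt N32061 (iv7 F82200)))
theorem Q31253 : ∀ i, i < 31253 → P i := stepQ 31252 Q31252 (allL N31252 (tt N16653 F80281) (tt N16197 F80282) (tt N15651 F80279) (tt N58764 (iv3 F170621)) (tt N16615 F80280) (tt N15638 (iv5 D50889)) (tt N58765 D110357) (tt N32062 (iv7 F82203)))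
theorem Q31254 : ∀ i, i < 31254 → P i := stepQ 31253 Q31253 (allL N31253 (tt N17587 (iv1 F325680)) (tt N17586 (iv0 F325683)) (tt N15652 F80284) (tt N23782 (iv3 F325678)) (tt N15639 F80285) (tt N17510 (iv5 F325686)) (tt N15638 (iv6 D50890)) (tt N17588 (iv7 F325689)))
theorem Q31255 : ∀ i, i < 31255 → P i := stepQ 31254 Q31254 (allL N31254 (tt N15655 (iv1 F80291)) (tt N15639 (iv0 D50891)) (tt N15653 (iv2 F170647)) (tt N35595 F168453) (tt N48318 (iv4 F325962)) (tt N18739 F80286) (tt N31992 (iv6 F81976)) (tt N15654 F170646))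
theorem Q31256 : ∀ i, i < 31256 → P i := stepQ 31255 Q31255 (allL N31255 (tt N15639 (iv1 D50892)) (tt N15655 F80287) (tt N15654 F170643) (tt N55688 (iv3 F169873)) (tt N58766 D110364) (tt N18738 (iv5 F80288)) (tt N58767 D110365) (tt N15653 (iv7 F170648)))
theorem Q31257 : ∀ i, i < 31257 → P i := stepQ 31256 Q31256 (allL N31256 (tt N15654 (iv1 F80292)) (tt N15653 F80293) (tt N15655 F80290) (tt N31994 (iv3 F81981)) (tt N17588 F326500) (tt N37093 (iv5 F95523)) (tt N32004 F82014) (tt N15639 (iv7 D50893)))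
theorem Q31258 : ∀ i, i < 31258 → P i := stepQ 31257 Q31257 (allL N31257 (tt N57244 (iv1 F170729)) (tt N58768 D110367) (tt N55686 (iv2 F161395)) (tt N15644 F80294) (tt N31085 F80295) (tt N18300 F80296) (tt N15642 (iv6 D50894)) (tt N58769 D110368))
theorem Q31259 : ∀ i, i < 31259 → P i := stepQ 31258 Q31258 (allL N31258 (tt N58770 D110369) (tt N58771 D110370) (tt N58772 D110371) (tt N15643 (iv3 D50895)) (tt N31083 F80297) (tt N58773 D110372) (tt N58774 D110373) (tt N32065 (iv7 F82215)))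
theorem Q31260 : ∀ i, i < 31260 → P i := stepQ 31259 Q31259 (allL N31259 (tt N57288 (iv1 F165971)) (tt N57291 (iv0 F165979)) (tt N32070 (iv2 F82229)) (tt N58773 (iv3 F170724)) (tt N33130 (iv4 F84109)) (tt N15643 (iv5 D50896)) (tt N58775 D110374) (tt N32066 (iv7 F82217)))
theorem Q31261 : ∀ i, i < 31261 → P i := stepQ 31260 Q31260 (allL N31260 (tt N58776 D110375) (tt N58777 D110376) (tt N32071 (iv2 F82232)) (tt N58774 (iv3 F170725)) (tt N15644 F80298) (tt N58778 D110377) (tt N15643 (iv6 D50897)) (tt N58779 D110378))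
theorem Q31262 : ∀ i, i < 31262 → P i := stepQ 31261 Q31261 (allL N31261 (tt N32073 (iv1 F82240)) (tt N15644 (iv0 D50898)) (tt N21066 F166130) (tt N31999 F166131) (tt N58780 D110379) (tt N58781 D110380) (tt N58782 D110381) (tt N32072 (iv7 F166179)))
theorem Q31263 : ∀ i, i < 31263 → P i := stepQ 31262 Q31262 (allL N31262 (tt N15644 (iv1 D50899)) (tt N32073 F82239) (tt N32072 F166180) (tt N15664 F166120) (tt N58783 D110382) (tt N55954 (iv5 F162211)) (tt N21069 (iv6 F166123)) (tt N21066 F166121))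
theorem Q31264 : ∀ i, i < 31264 → P i := stepQ 31263 Q31263 (allL N31263 (tt N32072 (iv1 F82234)) (tt N21066 (iv0 F166176)) (tt N32073 (iv2 F82235)) (tt N58769 (iv3 F170719)) (tt N58779 (iv4 F170730)) (tt N21057 F80299) (tt N15697 (iv6 F80300)) (tt N15644 (iv7 D50900)))
theorem Q31265 : ∀ i, i < 31265 → P i := stepQ 31264 Q31264 (allL N31264 (tt N15832 F80305) (tt N15834 F80306) (tt N15852 F80303) (tt N58784 D110383) (tt N15645 (iv4 D50901)) (tt N31699 (iv5 F81203)) (tt N30897 F81205) (tt N15851 F80304))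
theorem Q31266 : ∀ i, i < 31266 → P i := stepQ 31265 Q31265 (allL N31265 (tt N20420 F80309) (tt N20441 F80310) (tt N20439 F80307) (tt N15647 F80308) (tt N30897 (iv4 F81208)) (tt N31399 (iv5 F80597)) (tt N15645 (iv6 D50902)) (tt N20438 (iv7 F101543)))
theorem Q31267 : ∀ i, i < 31267 → P i := stepQ 31266 Q31266 (allL N31266 (tt N48324 F324543) (tt N47936 F324544) (tt N48325 F324598) (tt N15646 (iv3 D50903)) (tt N58784 (iv4 F170745)) (tt N58785 D110387) (tt N48255 F345516) (tt N32069 (iv7 F82228)))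
theorem Q31268 : ∀ i, i < 31268 → P i := stepQ 31267 Q31267 (allL N31267 (tt N57291 (iv1 F165980)) (tt N57288 (iv0 F165970)) (tt N32066 (iv2 F82216)) (tt N58785 (iv3 F170748)) (tt N33131 F84117) (tt N15646 (iv5 D50904)) (tt N58786 D110389) (tt N32070 (iv7 F82230)))
theorem Q31269 : ∀ i, i < 31269 → P i := stepQ 31268 Q31268 (allL N31268 (tt N32295 F94238) (tt N58787 D110390) (tt N32067 (iv2 F82219)) (tt N48255 F345514) (tt N15647 F80311) (tt N58788 D110391) (tt N15646 (iv6 D50905)) (tt N58789 D110392))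
theorem Q31270 : ∀ i, i < 31270 → P i := stepQ 31269 Q31269 (allL N31269 (tt N15647 (iv1 D50906)) (tt N15697 F80312) (tt N15698 (iv2 F80314)) (tt N32004 F82013) (tt N58790 D110393) (tt N36040 (iv5 F93850)) (tt N31994 (iv6 F81982)) (tt N15683 F80313))
theorem Q31271 : ∀ i, i < 31271 → P i := stepQ 31270 Q31270 (allL N31270 (tt N15698 (iv1 F80316)) (tt N15683 F80317) (tt N15697 F80315) (tt N20438 (iv3 F101542)) (tt N58789 (iv4 F170755)) (tt N57312 (iv5 F166025)) (tt N32073 (iv6 F82237)) (tt N15647 (iv7 D50907)))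
theorem Q31272 : ∀ i, i < 31272 → P i := stepQ 31271 Q31271 (allL N31271 (tt N58791 D110394) (tt N58792 D110395) (tt N58793 D110396) (tt N15648 (iv3 D50908)) (tt N30264 F80318) (tt N58794 D110397) (tt N58795 D110398) (tt N32074 (iv7 F82241)))
theorem Q31273 : ∀ i, i < 31273 → P i := stepQ 31272 Q31272 (allL N31272 (tt N32243 (iv1 F82597)) (tt N18126 F80319) (tt N32078 (iv2 F82251)) (tt N58794 (iv3 F170762)) (tt N33163 (iv4 F84157)) (tt N15648 (iv5 D50909)) (tt N44119 (iv6 F347894)) (tt N32075 (iv7 F82243)))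
theorem Q31274 : ∀ i, i < 31274 → P i := stepQ 31273 Q31273 (allL N31273 (tt N58780 (iv1 F170744)) (tt N58783 (iv0 F170743)) (tt N32079 (iv2 F82254)) (tt N58795 (iv3 F170763)) (tt N30248 F80320) (tt N58796 D110400) (tt N15648 (iv6 D50910)) (tt N58797 D110401))
theorem Q31275 : ∀ i, i < 31275 → P i := stepQ 31274 Q31274 (allL N31274 (tt N58798 D110402) (tt N58799 D110403) (tt N58800 D110404) (tt N15649 (iv3 D50911)) (tt N31849 (iv4 F81531)) (tt N58801 D110405) (tt N58802 D110406) (tt N32077 (iv7 F82250)))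
theorem Q31276 : ∀ i, i < 31276 → P i := stepQ 31275 Q31275 (allL N31275 (tt N18126 F80322) (tt N32243 (iv0 F82596)) (tt N32075 (iv2 F82242)) (tt N58801 (iv3 F170769)) (tt N20357 F80321) (tt N15649 (iv5 D50912)) (tt N58803 D110407) (tt N32078 (iv7 F82252)))
theorem Q31277 : ∀ i, i < 31277 → P i := stepQ 31276 Q31276 (allL N31276 (tt N15696 F81157) (tt N58790 (iv0 F170759)) (tt N32076 (iv2 F82245)) (tt N58802 (iv3 F170770)) (tt N31672 F81158) (tt N52843 (iv5 F328009)) (tt N15649 (iv6 D50913)) (tt N58522 (iv7 F169524)))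
theorem Q31278 : ∀ i, i < 31278 → P i := stepQ 31277 Q31277 (allL N31277 (tt N23789 (iv1 F323125)) (tt N15650 (iv0 D50914)) (tt N23787 (iv2 F322540)) (tt N58092 F168865) (tt N17862 F321469) (tt N22564 (iv5 F323138)) (tt N17861 (iv6 F323139)) (tt N23788 (iv7 F322537)))
theorem Q31279 : ∀ i, i < 31279 → P i := stepQ 31278 Q31278 (allL N31278 (tt N15650 (iv1 D50915)) (tt N23789 (iv0 F323124)) (tt N23788 (iv2 F322536)) (tt N58804 D110414) (tt N18001 F321470) (tt N58805 D110415) (tt N23939 (iv6 F323143)) (tt N23787 (iv7 F322541)))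
theorem Q31280 : ∀ i, i < 31280 → P i := stepQ 31279 Q31279 (allL N31279 (tt N48151 (iv1 F319476)) (tt N35486 (iv0 F319477)) (tt N23714 (iv2 F319478)) (tt N15651 F80325) (tt N35428 F317198) (tt N15650 (iv5 D50917)) (tt N17498 (iv6 F319479)) (tt N32080 (iv7 F82264)))
theorem Q31281 : ∀ i, i < 31281 → P i := stepQ 31280 Q31280 (allL N31280 (tt N32062 (iv1 F82205)) (tt N15651 (iv0 D50919)) (tt N16653 (iv2 F80329)) (tt N58806 D110425) (tt N16593 (iv4 F80331)) (tt N16198 F80328) (tt N58807 D110426) (tt N16197 (iv7 F80330)))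
theorem Q31282 : ∀ i, i < 31282 → P i := stepQ 31281 Q31281 (allL N31281 (tt N15651 (iv1 D50920)) (tt N32062 (iv0 F82204)) (tt N16197 (iv2 F80334)) (tt N58808 D110427) (tt N16655 (iv4 F80335)) (tt N16184 F80333) (tt N58809 D110428) (tt N16653 F80332))
theorem Q31283 : ∀ i, i < 31283 → P i := stepQ 31282 Q31282 (allL N31282 (tt N36685 (iv1 F95028)) (tt N56894 F165003) (tt N16615 F80336) (tt N58810 D110429) (tt N15651 (iv4 D50921)) (tt N16586 F80338) (tt N58811 D110430) (tt N16607 F80337))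
theorem Q31284 : ∀ i, i < 31284 → P i := stepQ 31283 Q31283 (allL N31283 (tt N58812 D110431) (tt N58813 D110432) (tt N58765 (iv2 F170623)) (tt N17498 F321468) (tt N58811 (iv4 F170808)) (tt N17497 (iv5 F323132)) (tt N15651 (iv6 D50922)) (tt N58814 D110434))
theorem Q31285 : ∀ i, i < 31285 → P i := stepQ 31284 Q31284 (allL N31284 (tt N17588 (iv1 F325688)) (tt N15652 (iv0 D50923)) (tt N17587 (iv2 F325681)) (tt N58815 D110435) (tt N55627 F164134) (tt N23783 (iv5 F325695)) (tt N32015 (iv6 F172576)) (tt N17586 (iv7 F325685)))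
theorem Q31286 : ∀ i, i < 31286 → P i := stepQ 31285 Q31285 (allL N31285 (tt N15652 (iv1 D50924)) (tt N17588 (iv0 F325687)) (tt N17586 (iv2 F325684)) (tt N58816 D110438) (tt N57863 (iv4 F167953)) (tt N23784 (iv5 F325702)) (tt N58817 D110440) (tt N17587 (iv7 F325682)))
theorem Q31287 : ∀ i, i < 31287 → P i := stepQ 31286 Q31286 (allL N31286 (tt N55689 (iv1 F170831)) (tt N55685 (iv0 F170699)) (tt N55687 (iv2 F170676)) (tt N15653 (iv3 D50928)) (tt N44704 (iv4 F326930)) (tt N58818 D110447) (tt N32018 (iv6 F82059)) (tt N55688 (iv7 F170678)))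
theorem Q31288 : ∀ i, i < 31288 → P i := stepQ 31287 Q31287 (allL N31287 (tt N58819 D110448) (tt N32233 F170829) (tt N48318 F326504) (tt N58820 D110449) (tt N15653 (iv4 D50929)) (tt N58821 D110450) (tt N32019 (iv6 F82060)) (tt N58766 (iv7 F170708)))
theorem Q31289 : ∀ i, i < 31289 → P i := stepQ 31288 Q31288 (allL N31288 (tt N18234 F80341) (tt N18740 F80343) (tt N18739 F170653) (tt N58818 (iv3 F170819)) (tt N58822 D110451) (tt N15653 (iv5 D50930)) (tt N58823 D110452) (tt N18738 F170654))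
theorem Q31290 : ∀ i, i < 31290 → P i := stepQ 31289 Q31289 (allL N31289 (tt N31405 F168003) (tt N35597 F168004) (tt N35596 (iv2 F171514)) (tt N15654 (iv3 D50932)) (tt N58824 D110454) (tt N37658 (iv5 F168000)) (tt N58825 D110455) (tt N35595 F170711))
theorem Q31291 : ∀ i, i < 31291 → P i := stepQ 31290 Q31290 (allL N31290 (tt N32233 (iv1 F170828)) (tt N58819 F170825) (tt N58766 (iv2 F170713)) (tt N22923 (iv3 F327254)) (tt N15654 (iv4 D50933)) (tt N48298 (iv5 F327255)) (tt N58826 D110458) (tt N48318 F326505))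
theorem Q31292 : ∀ i, i < 31292 → P i := stepQ 31291 Q31291 (allL N31291 (tt N18740 (iv1 F93614)) (tt N18234 (iv0 F80345)) (tt N18738 F170644) (tt N37658 F167999) (tt N58827 D110459) (tt N15654 (iv5 D50934)) (tt N32023 F82065) (tt N18739 F170645))
theorem Q31293 : ∀ i, i < 31293 → P i := stepQ 31292 Q31292 (allL N31292 (tt N35914 F166193) (tt N58782 (iv0 F170739)) (tt N58767 F170641) (tt N58825 (iv3 F170843)) (tt N58826 (iv4 F170844)) (tt N32024 (iv5 F82066)) (tt N15654 (iv6 D50935)) (tt N32024 (iv7 F82067)))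
theorem Q31294 : ∀ i, i < 31294 → P i := stepQ 31293 Q31293 (allL N31293 (tt N18013 F80349) (tt N18011 F80350) (tt N18682 F80346) (tt N19546 F80347) (tt N37803 (iv4 F96623)) (tt N15656 (iv5 D50936)) (tt N58828 D110460) (tt N30576 F80348))
theorem Q31295 : ∀ i, i < 31295 → P i := stepQ 31294 Q31294 (allL N31294 (tt N58829 D110461) (tt N48491 (iv0 F325568)) (tt N58830 D110463) (tt N15659 (iv3 D50937)) (tt N15661 F80351) (tt N58831 D110464) (tt N58832 D110465) (tt N31067 F80352))
theorem Q31296 : ∀ i, i < 31296 → P i := stepQ 31295 Q31295 (allL N31295 (tt N18092 F80353) (tt N18095 F80354) (tt N35604 (iv2 F92967)) (tt N58831 (iv3 F170868)) (tt N35701 (iv4 F93133)) (tt N15659 (iv5 D50938)) (tt N58833 D110466) (tt N32026 (iv7 F82075)))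
theorem Q31297 : ∀ i, i < 31297 → P i := stepQ 31296 Q31296 (allL N31296 (tt N58834 D110467) (tt N58835 D110468) (tt N35605 (iv2 F92971)) (tt N58832 (iv3 F170870)) (tt N15660 F80355) (tt N58836 D110469) (tt N15659 (iv6 D50939)) (tt N58837 D110470))
theorem Q31298 : ∀ i, i < 31298 → P i := stepQ 31297 Q31297 (allL N31297 (tt N35608 (iv1 F92980)) (tt N15660 (iv0 D50940)) (tt N35606 F166433) (tt N58082 (iv3 F172822)) (tt N58838 D110472) (tt N58839 D110473) (tt N35873 (iv6 F93411)) (tt N35607 F166431))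
theorem Q31299 : ∀ i, i < 31299 → P i := stepQ 31298 Q31298 (allL N31298 (tt N15660 (iv1 D50941)) (tt N35608 F92979) (tt N35607 (iv2 F166432)) (tt N58840 D110474) (tt N58841 D110475) (tt N58842 D110476) (tt N21036 (iv6 F104340)) (tt N35606 (iv7 F166427)))
theorem Q31300 : ∀ i, i < 31300 → P i := stepQ 31299 Q31299 (allL N31299 (tt N35607 (iv1 F92973)) (tt N35606 F92978) (tt N35608 (iv2 F92974)) (tt N15665 F80356) (tt N58837 (iv4 F170875)) (tt N16832 F80357) (tt N15706 F80358) (tt N15660 (iv7 D50942)))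
theorem Q31301 : ∀ i, i < 31301 → P i := stepQ 31300 Q31300 (allL N31300 (tt N25276 F323899) (tt N25912 (iv0 F324414)) (tt N15661 (iv2 D50945)) (tt N21074 F80360) (tt N58830 (iv4 F170853)) (tt N21074 F80361) (tt N24959 (iv6 F325174)) (tt N31066 F80362))
theorem Q31302 : ∀ i, i < 31302 → P i := stepQ 31301 Q31301 (allL N31301 (tt N24283 (iv1 F325930)) (tt N23111 (iv0 F325931)) (tt N24959 (iv2 F325173)) (tt N15662 F80366) (tt N58832 (iv4 F170871)) (tt N17701 (iv5 F325292)) (tt N15661 (iv6 D50946)) (tt N45385 F324934))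
theorem Q31303 : ∀ i, i < 31303 → P i := stepQ 31302 Q31302 (allL N31302 (tt N21073 F80383) (tt N15662 (iv0 D50947)) (tt N20513 (iv2 F80372)) (tt N23043 (iv3 F325928)) (tt N15936 F80373) (tt N23041 (iv5 F325042)) (tt N31238 F80374) (tt N20515 F80375))
theorem Q31304 : ∀ i, i < 31304 → P i := stepQ 31303 Q31303 (allL N31303 (tt N15662 (iv1 D50948)) (tt N21073 F80367) (tt N20515 (iv2 F80369)) (tt N23036 (iv3 F325926)) (tt N15937 F80368) (tt N23030 (iv5 F325043)) (tt N20515 (iv6 F80370)) (tt N20513 (iv7 F80371)))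
theorem Q31305 : ∀ i, i < 31305 → P i := stepQ 31304 Q31304 (allL N31304 (tt N20515 (iv1 F80387)) (tt N20513 F80388) (tt N21073 F80384) (tt N45385 (iv3 F324778)) (tt N15665 F80385) (tt N23589 (iv5 F324780)) (tt N15707 F80386) (tt N15662 (iv7 D50949)))
theorem Q31306 : ∀ i, i < 31306 → P i := stepQ 31305 Q31305 (allL N31305 (tt N32000 F166156) (tt N15691 F166157) (tt N31999 F166128) (tt N15663 (iv3 D50950)) (tt N25076 F315489) (tt N57376 (iv5 F166318)) (tt N35914 F93542) (tt N21069 F80389))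
theorem Q31307 : ∀ i, i < 31307 → P i := stepQ 31306 Q31306 (allL N31306 (tt N51615 (iv1 F323907)) (tt N58843 D110497) (tt N55598 (iv2 F324557)) (tt N15666 (iv3 D50952)) (tt N15668 F80392) (tt N57260 (iv5 F165919)) (tt N48448 (iv6 F325286)) (tt N21039 F80393))
theorem Q31308 : ∀ i, i < 31308 → P i := stepQ 31307 Q31307 (allL N31307 (tt N32256 F82617) (tt N58844 D110500) (tt N32277 (iv2 F82654)) (tt N48448 F326208) (tt N15667 F80394) (tt N58845 D110501) (tt N15666 (iv6 D50953)) (tt N32093 (iv7 F82314)))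
theorem Q31309 : ∀ i, i < 31309 → P i := stepQ 31308 Q31308 (allL N31308 (tt N24238 (iv1 F325175)) (tt N17988 (iv0 F325180)) (tt N25274 (iv2 F324561)) (tt N15669 F80402) (tt N48448 (iv4 F325285)) (tt N44902 (iv5 F325288)) (tt N15668 (iv6 D50957)) (tt N24957 (iv7 F325179)))
theorem Q31310 : ∀ i, i < 31310 → P i := stepQ 31309 Q31309 (allL N31309 (tt N44723 (iv1 F325049)) (tt N44837 (iv0 F325046)) (tt N31068 F80404) (tt N44902 (iv3 F325287)) (tt N46408 F324124) (tt N15669 (iv5 D50958)) (tt N31068 F80405) (tt N31106 F80406))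
theorem Q31311 : ∀ i, i < 31311 → P i := stepQ 31310 Q31310 (allL N31310 (tt N45462 (iv1 F323923)) (tt N23718 (iv0 F323906)) (tt N45461 (iv2 F323922)) (tt N15670 (iv3 D50960)) (tt N31862 F81558) (tt N29068 F322493) (tt N17492 (iv6 F323925)) (tt N24061 (iv7 F323035)))
theorem Q31312 : ∀ i, i < 31312 → P i := stepQ 31311 Q31311 (allL N31311 (tt N23734 (iv1 F323181)) (tt N31200 F171080) (tt N48492 (iv2 F323182)) (tt N15671 (iv3 D50965)) (tt N58846 D110535) (tt N24000 F321504) (tt N23937 (iv6 F323186)) (tt N23682 (iv7 F323049)))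
theorem Q31313 : ∀ i, i < 31313 → P i := stepQ 31312 Q31312 (allL N31312 (tt N58847 D110568) (tt N30818 (iv0 F164307)) (tt N35626 (iv2 F164096)) (tt N44621 (iv3 F327059)) (tt N15672 (iv4 D50979)) (tt N37758 (iv5 F328520)) (tt N32029 (iv6 F82102)) (tt N32032 (iv7 F82110)))
theorem Q31314 : ∀ i, i < 31314 → P i := stepQ 31313 Q31313 (allL N31313 (tt N29484 F164129) (tt N32286 F164130) (tt N32284 (iv2 F164338)) (tt N25298 (iv3 F327058)) (tt N15674 (iv4 D50984)) (tt N37759 (iv5 F327650)) (tt N58848 D110576) (tt N32029 (iv7 F82103)))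
theorem Q31315 : ∀ i, i < 31315 → P i := stepQ 31314 Q31314 (allL N31314 (tt N35873 F164080) (tt N35876 F164081) (tt N55696 F164082) (tt N15676 F80417) (tt N58848 (iv4 F171132)) (tt N32033 (iv5 F82112)) (tt N15674 (iv6 D50985)) (tt N32033 (iv7 F82113)))
theorem Q31316 : ∀ i, i < 31316 → P i := stepQ 31315 Q31315 (allL N31315 (tt N31238 F80423) (tt N31238 (iv0 F80424)) (tt N31071 F80419) (tt N25299 (iv3 F325858)) (tt N15676 F80420) (tt N31315 F80421) (tt N15675 (iv6 D50987)) (tt N31071 F80422))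
theorem Q31317 : ∀ i, i < 31317 → P i := stepQ 31316 Q31316 (allL N31316 (tt N58350 (iv1 F169177)) (tt N35738 (iv0 F166186)) (tt N20430 F80425) (tt N15681 F80426) (tt N30914 F80427) (tt N31316 F80428) (tt N15679 (iv6 D50988)) (tt N20299 F80429))
theorem Q31318 : ∀ i, i < 31318 → P i := stepQ 31317 Q31317 (allL N31317 (tt N48342 (iv1 F321441)) (tt N48345 F319455) (tt N48343 F323076) (tt N15680 (iv3 D50989)) (tt N30913 F80430) (tt N58849 D110583) (tt N58850 D110584) (tt N30565 F80431))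
theorem Q31319 : ∀ i, i < 31319 → P i := stepQ 31318 Q31318 (allL N31318 (tt N32294 (iv1 F82673)) (tt N57494 F166924) (tt N31987 (iv2 F81963)) (tt N58849 (iv3 F171151)) (tt N31090 F80432) (tt N15680 (iv5 D50990)) (tt N58851 D110585) (tt N30566 F80433))
theorem Q31320 : ∀ i, i < 31320 → P i := stepQ 31319 Q31319 (allL N31319 (tt N58757 (iv1 F170606)) (tt N58756 F170604) (tt N31988 (iv2 F81967)) (tt N58850 (iv3 F171153)) (tt N15681 F80434) (tt N58852 D110586) (tt N15680 (iv6 D50991)) (tt N32060 (iv7 F82198)))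
theorem Q31321 : ∀ i, i < 31321 → P i := stepQ 31320 Q31320 (allL N31320 (tt N58853 D110587) (tt N58854 D110588) (tt N58855 D110589) (tt N15682 (iv3 D50992)) (tt N32061 (iv4 F82199)) (tt N48013 (iv5 F328010)) (tt N48015 F327537) (tt N31990 (iv7 F81973)))
theorem Q31322 : ∀ i, i < 31322 → P i := stepQ 31321 Q31321 (allL N31321 (tt N32013 (iv1 F82049)) (tt N32012 F82046) (tt N15695 F80435) (tt N48013 F328396) (tt N15926 F80436) (tt N15682 (iv5 D50993)) (tt N48010 F328397) (tt N31092 F80437))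
theorem Q31323 : ∀ i, i < 31323 → P i := stepQ 31322 Q31322 (allL N31322 (tt N58522 F169526) (tt N32076 (iv0 F82247)) (tt N15696 F80438) (tt N48015 (iv3 F326952)) (tt N15683 F80439) (tt N48011 (iv5 F326954)) (tt N15682 (iv6 D50994)) (tt N58790 (iv7 F170758)))
theorem Q31324 : ∀ i, i < 31324 → P i := stepQ 31323 Q31323 (allL N31323 (tt N16285 F80443) (tt N58856 D110594) (tt N35633 (iv2 F93027)) (tt N15688 F80440) (tt N31045 F80441) (tt N30602 F80442) (tt N15686 (iv6 D50995)) (tt N32084 (iv7 F82270)))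
theorem Q31325 : ∀ i, i < 31325 → P i := stepQ 31324 Q31324 (allL N31324 (tt N15690 (iv1 F80446)) (tt N15687 (iv0 D50996)) (tt N29480 (iv2 F80445)) (tt N58857 D110595) (tt N15829 F80444) (tt N57494 (iv5 F166918)) (tt N58858 D110596) (tt N15864 F80447))
theorem Q31326 : ∀ i, i < 31326 → P i := stepQ 31325 Q31325 (allL N31325 (tt N58859 D110597) (tt N58860 D110598) (tt N42117 (iv2 F105487)) (tt N15687 (iv3 D50997)) (tt N31043 F80448) (tt N33444 (iv5 F84783)) (tt N58861 D110599) (tt N31996 (iv7 F81990)))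
theorem Q31327 : ∀ i, i < 31327 → P i := stepQ 31326 Q31326 (allL N31326 (tt N31713 (iv1 F81231)) (tt N55637 (iv0 F161142)) (tt N32002 (iv2 F82005)) (tt N33444 F84782) (tt N31084 F80449) (tt N15687 (iv5 D50998)) (tt N58862 D110600) (tt N31997 (iv7 F81992)))
theorem Q31328 : ∀ i, i < 31328 → P i := stepQ 31327 Q31327 (allL N31327 (tt N30877 F80451) (tt N58863 D110601) (tt N32003 (iv2 F82008)) (tt N58861 (iv3 F171174)) (tt N15688 F80450) (tt N58864 D110602) (tt N15687 (iv6 D50999)) (tt N32085 (iv7 F82271)))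
theorem Q31329 : ∀ i, i < 31329 → P i := stepQ 31328 Q31328 (allL N31328 (tt N58865 D110603) (tt N57247 (iv0 F171733)) (tt N20435 F80453) (tt N15691 F80454) (tt N30842 F80455) (tt N18297 F80456) (tt N15689 (iv6 D51001)) (tt N58866 D110605))
theorem Q31330 : ∀ i, i < 31330 → P i := stepQ 31329 Q31329 (allL N31329 (tt N58867 D110606) (tt N58868 D110607) (tt N58869 D110608) (tt N15690 (iv3 D51002)) (tt N30840 F80458) (tt N46760 (iv5 F324774)) (tt N24710 F323459) (tt N32001 (iv7 F82004)))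
theorem Q31331 : ∀ i, i < 31331 → P i := stepQ 31330 Q31330 (allL N31330 (tt N55637 (iv1 F161143)) (tt N31713 (iv0 F81230)) (tt N31997 (iv2 F81991)) (tt N46760 (iv3 F324773)) (tt N31081 F80459) (tt N15690 (iv5 D51003)) (tt N43145 (iv6 F324687)) (tt N32002 (iv7 F82007)))
theorem Q31332 : ∀ i, i < 31332 → P i := stepQ 31331 Q31331 (allL N31331 (tt N24736 (iv1 F319909)) (tt N58870 D110613) (tt N31998 (iv2 F81996)) (tt N24710 (iv3 F321756)) (tt N15691 F80460) (tt N43146 (iv5 F321757)) (tt N15690 (iv6 D51004)) (tt N58871 D110615))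
theorem Q31333 : ∀ i, i < 31333 → P i := stepQ 31332 Q31332 (allL N31332 (tt N15691 (iv1 D51006)) (tt N32000 F82002) (tt N21069 F166158) (tt N32072 F166181) (tt N58872 D110616) (tt N58873 D110617) (tt N32072 (iv6 F166182)) (tt N31999 F166159))
theorem Q31334 : ∀ i, i < 31334 → P i := stepQ 31333 Q31333 (allL N31333 (tt N21069 F166125) (tt N31999 F82001) (tt N32000 (iv2 F81999)) (tt N58866 (iv3 F171185)) (tt N58871 (iv4 F171198)) (tt N18305 F80461) (tt N32005 (iv6 F82020)) (tt N15691 (iv7 D51007)))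
theorem Q31335 : ∀ i, i < 31335 → P i := stepQ 31334 Q31334 (allL N31334 (tt N58874 D110618) (tt N47592 F355837) (tt N58875 D110620) (tt N15692 (iv3 D51008)) (tt N35612 (iv4 F92985)) (tt N58876 D110621) (tt N58877 D110622) (tt N32006 (iv7 F82023)))
theorem Q31336 : ∀ i, i < 31336 → P i := stepQ 31335 Q31335 (allL N31335 (tt N31894 (iv1 F81648)) (tt N18114 F80464) (tt N21343 F80462) (tt N58876 (iv3 F171212)) (tt N20086 F80463) (tt N15692 (iv5 D51009)) (tt N58878 D110623) (tt N32007 (iv7 F82026)))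
theorem Q31337 : ∀ i, i < 31337 → P i := stepQ 31336 Q31336 (allL N31336 (tt N32063 F82208) (tt N17583 F326506) (tt N32009 (iv2 F82030)) (tt N58877 (iv3 F171216)) (tt N31667 (iv4 F81144)) (tt N58879 D110624) (tt N15692 (iv6 D51010)) (tt N32082 F161139))
theorem Q31338 : ∀ i, i < 31338 → P i := stepQ 31337 Q31337 (allL N31337 (tt N41974 (iv1 F105204)) (tt N41977 (iv0 F105206)) (tt N21352 F80467) (tt N15693 (iv3 D51011)) (tt N31795 (iv4 F81342)) (tt N21328 (iv5 F80466)) (tt N58880 D110625) (tt N21344 F80465))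
theorem Q31339 : ∀ i, i < 31339 → P i := stepQ 31338 Q31338 (allL N31338 (tt N18114 F80471) (tt N31894 (iv0 F81647)) (tt N32007 (iv2 F82024)) (tt N21328 F80468) (tt N27487 (iv4 F311871)) (tt N15693 (iv5 D51012)) (tt N27486 F309693) (tt N21343 F80470))
theorem Q31340 : ∀ i, i < 31340 → P i := stepQ 31339 Q31339 (allL N31339 (tt N25076 (iv1 F313052)) (tt N58872 (iv0 F171201)) (tt N32008 (iv2 F82029)) (tt N58880 (iv3 F171220)) (tt N20063 F80472) (tt N58881 D110627) (tt N15693 (iv6 D51013)) (tt N58882 D110628))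
theorem Q31341 : ∀ i, i < 31341 → P i := stepQ 31340 Q31340 (allL N31340 (tt N23957 (iv1 F322478)) (tt N15694 (iv0 D51014)) (tt N24010 F320718) (tt N58883 D110630) (tt N17891 (iv4 F322483)) (tt N44603 F320719) (tt N17581 (iv6 F322484)) (tt N32010 (iv7 F173363)))
theorem Q31342 : ∀ i, i < 31342 → P i := stepQ 31341 Q31341 (allL N31341 (tt N15694 (iv1 D51015)) (tt N23957 (iv0 F322477)) (tt N32010 (iv2 F173360)) (tt N58884 D110635) (tt N24979 (iv4 F322487)) (tt N48359 F321457) (tt N24980 (iv6 F323122)) (tt N24010 F321458))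
theorem Q31343 : ∀ i, i < 31343 → P i := stepQ 31342 Q31342 (allL N31342 (tt N24010 F321478) (tt N32010 F82033) (tt N15694 (iv2 D51016)) (tt N58855 (iv3 F171156)) (tt N15704 F80474) (tt N58885 D110638) (tt N22505 (iv6 F323151)) (tt N23957 (iv7 F322480)))
theorem Q31344 : ∀ i, i < 31344 → P i := stepQ 31343 Q31343 (allL N31343 (tt N44897 F323585) (tt N45932 F323586) (tt N58885 (iv2 F171244)) (tt N15695 F80475) (tt N44893 F323587) (tt N15694 (iv5 D51017)) (tt N41701 (iv6 F324892)) (tt N32011 (iv7 F82041)))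
theorem Q31345 : ∀ i, i < 31345 → P i := stepQ 31344 Q31344 (allL N31344 (tt N31092 (iv1 F80479)) (tt N15695 (iv0 D51019)) (tt N32013 F82054) (tt N42010 (iv3 F105257)) (tt N31075 (iv4 F80480)) (tt N16185 F80478) (tt N48123 F347908) (tt N32012 F82048))
theorem Q31346 : ∀ i, i < 31346 → P i := stepQ 31345 Q31345 (allL N31345 (tt N31091 F80484) (tt N31090 F80485) (tt N15926 F80481) (tt N58886 D110647) (tt N15695 (iv4 D51020)) (tt N15916 F80482) (tt N58887 D110648) (tt N31078 F80483))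
theorem Q31347 : ∀ i, i < 31347 → P i := stepQ 31346 Q31346 (allL N31346 (tt N47565 (iv1 F346717)) (tt N58888 D110650) (tt N48010 (iv2 F328011)) (tt N41701 F325920) (tt N58887 (iv4 F171256)) (tt N47070 F327538) (tt N15695 (iv6 D51021)) (tt N58889 D110652))
theorem Q31348 : ∀ i, i < 31348 → P i := stepQ 31347 Q31347 (allL N31347 (tt N58790 F170760) (tt N15696 (iv0 D51022)) (tt N58522 (iv2 F169523)) (tt N24467 (iv3 F328003)) (tt N31671 (iv4 F167739)) (tt N24466 (iv5 F328004)) (tt N58797 (iv6 F170767)) (tt N32076 F167740))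
theorem Q31349 : ∀ i, i < 31349 → P i := stepQ 31348 Q31348 (allL N31348 (tt N47593 F332098) (tt N45914 (iv0 F332099)) (tt N48011 (iv2 F326953)) (tt N25297 F326089) (tt N58890 D110657) (tt N15696 (iv5 D51024)) (tt N47070 (iv6 F326962)) (tt N37123 (iv7 F326964)))
theorem Q31350 : ∀ i, i < 31350 → P i := stepQ 31349 Q31349 (allL N31349 (tt N32076 (iv1 F82248)) (tt N58522 (iv0 F169525)) (tt N58790 (iv2 F170757)) (tt N22526 F326090) (tt N15698 F80486) (tt N37123 (iv5 F326963)) (tt N23917 F326091) (tt N15696 (iv7 D51025)))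
theorem Q31351 : ∀ i, i < 31351 → P i := stepQ 31350 Q31350 (allL N31350 (tt N35638 (iv1 F93047)) (tt N35632 F93044) (tt N35637 F93042) (tt N15697 (iv3 D51026)) (tt N58891 D110659) (tt N57358 (iv5 F166293)) (tt N58769 (iv6 F170722)) (tt N32064 F82213))
theorem Q31352 : ∀ i, i < 31352 → P i := stepQ 31351 Q31351 (allL N31351 (tt N58787 (iv1 F170751)) (tt N32295 (iv0 F93076)) (tt N58789 (iv2 F170754)) (tt N58892 D110660) (tt N15697 (iv4 D51027)) (tt N58893 D110661) (tt N58779 (iv6 F170731)) (tt N32067 F82221))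
theorem Q31353 : ∀ i, i < 31353 → P i := stepQ 31352 Q31352 (allL N31352 (tt N26291 (iv1 F323031)) (tt N29070 (iv0 F323032)) (tt N29069 (iv2 F323033)) (tt N15702 (iv3 D51029)) (tt N31812 F81389) (tt N24061 (iv5 F323034)) (tt N17579 F321417) (tt N29068 F321418))
theorem Q31354 : ∀ i, i < 31354 → P i := stepQ 31353 Q31353 (allL N31353 (tt N48485 (iv1 F323039)) (tt N27634 (iv0 F323041)) (tt N51616 (iv2 F323044)) (tt N15703 (iv3 D51034)) (tt N58894 D110692) (tt N23682 (iv5 F323048)) (tt N23684 (iv6 F323050)) (tt N24000 F321423))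
theorem Q31355 : ∀ i, i < 31355 → P i := stepQ 31354 Q31354 (allL N31354 (tt N35504 (iv1 F319437)) (tt N45960 (iv0 F319436)) (tt N32028 (iv2 F171308)) (tt N58895 D110694) (tt N15703 (iv4 D51035)) (tt N42108 F171349) (tt N23694 (iv6 F319445)) (tt N24002 F317186))
theorem Q31356 : ∀ i, i < 31356 → P i := stepQ 31355 Q31355 (allL N31355 (tt N32305 F82686) (tt N29489 (iv0 F80495)) (tt N32303 F82683) (tt N46649 F325865) (tt N15706 (iv4 D51047)) (tt N58896 D110729) (tt N58837 (iv6 F170876)) (tt N32027 F82079))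
theorem Q31357 : ∀ i, i < 31357 → P i := stepQ 31356 Q31356 (allL N31356 (tt N58897 D110735) (tt N58898 D110736) (tt N58899 D110737) (tt N15711 (iv3 D51050)) (tt N15712 F80499) (tt N58900 D110738) (tt N35546 (iv6 F92814)) (tt N20095 F80500))
theorem Q31358 : ∀ i, i < 31358 → P i := stepQ 31357 Q31357 (allL N31357 (tt N19871 F80503) (tt N19878 F80504) (tt N20031 F80501) (tt N58900 (iv3 F171413)) (tt N36052 (iv4 F93867)) (tt N15711 (iv5 D51051)) (tt N58901 D110739) (tt N20030 F80502))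
theorem Q31359 : ∀ i, i < 31359 → P i := stepQ 31358 Q31358 (allL N31358 (tt N31523 (iv1 F80828)) (tt N15712 (iv0 D51052)) (tt N31525 (iv2 F102788)) (tt N58902 D110740) (tt N39757 F102791) (tt N57174 (iv5 F220816)) (tt N58903 D110742) (tt N31524 (iv7 F102790)))
theorem Q31360 : ∀ i, i < 31360 → P i := stepQ 31359 Q31359 (allL N31359 (tt N15712 (iv1 D51053)) (tt N31523 F80827) (tt N31524 F102789) (tt N40844 F102756) (tt N39760 (iv4 F102786)) (tt N57175 (iv5 F220819)) (tt N58904 D110744) (tt N31525 F102787))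
theorem Q31361 : ∀ i, i < 31361 → P i := stepQ 31360 Q31360 (allL N31360 (tt N31525 (iv1 F80830)) (tt N31524 F80829) (tt N15712 (iv2 D51054)) (tt N15796 F80505) (tt N58899 (iv4 F171409)) (tt N31512 (iv5 F80817)) (tt N35562 (iv6 F92850)) (tt N31523 (iv7 F80826)))
theorem Q31362 : ∀ i, i < 31362 → P i := stepQ 31361 Q31361 (allL N31361 (tt N17168 (iv1 F80509)) (tt N15713 (iv0 D51055)) (tt N30410 (iv2 F80508)) (tt N22005 F80507) (tt N22007 F80506) (tt N56609 (iv5 F164423)) (tt N22007 (iv6 F80511)) (tt N26085 F80510))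
theorem Q31363 : ∀ i, i < 31363 → P i := stepQ 31362 Q31362 (allL N31362 (tt N15715 (iv1 F80517)) (tt N15714 (iv0 D51056)) (tt N15718 (iv2 F80513)) (tt N30411 F80514) (tt N17339 F80512) (tt N43067 (iv5 F108017)) (tt N18410 F80515) (tt N15716 F80516))
theorem Q31364 : ∀ i, i < 31364 → P i := stepQ 31363 Q31363 (allL N31363 (tt N56603 F164405) (tt N58905 D110745) (tt N30070 F80518) (tt N15714 (iv3 D51057)) (tt N30068 F80519) (tt N58906 D110746) (tt N41301 (iv6 F103880)) (tt N30075 (iv7 F80520)))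
theorem Q31365 : ∀ i, i < 31365 → P i := stepQ 31364 Q31364 (allL N31364 (tt N33953 (iv1 F86273)) (tt N33951 (iv0 F86270)) (tt N57701 (iv2 F167457)) (tt N58906 (iv3 F171424)) (tt N58907 D110747) (tt N15714 (iv5 D51058)) (tt N58908 D110748) (tt N58909 D110749))
theorem Q31366 : ∀ i, i < 31366 → P i := stepQ 31365 Q31365 (allL N31365 (tt N15716 (iv1 F80523)) (tt N15718 F80524) (tt N15715 F80521) (tt N30075 F80522) (tt N35916 (iv4 F93546)) (tt N58909 (iv5 F171429)) (tt N41439 (iv6 F104216)) (tt N15714 (iv7 D51059)))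
theorem Q31367 : ∀ i, i < 31367 → P i := stepQ 31366 Q31366 (allL N31366 (tt N33951 (iv1 F86269)) (tt N33953 F108008) (tt N58909 (iv2 F171427)) (tt N37456 F96025) (tt N52004 (iv4 F361785)) (tt N15715 (iv5 D51060)) (tt N58910 D110751) (tt N57701 (iv7 F167459)))
theorem Q31368 : ∀ i, i < 31368 → P i := stepQ 31367 Q31367 (allL N31367 (tt N32434 F104140) (tt N34583 (iv0 F104139)) (tt N41439 F104215) (tt N38205 (iv3 F97654)) (tt N41421 F104138) (tt N42938 (iv5 F107769)) (tt N15715 (iv6 D51061)) (tt N41303 (iv7 F103886)))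
theorem Q31369 : ∀ i, i < 31369 → P i := stepQ 31368 Q31368 (allL N31368 (tt N58911 D110752) (tt N58912 D110753) (tt N15717 F80525) (tt N30415 F80526) (tt N58913 D110754) (tt N15716 (iv5 D51062)) (tt N58914 D110755) (tt N43067 (iv7 F108018)))
theorem Q31370 : ∀ i, i < 31370 → P i := stepQ 31369 Q31369 (allL N31369 (tt N43067 F108020) (tt N15717 (iv0 D51063)) (tt N58911 F171434) (tt N56289 (iv3 F163353)) (tt N58915 D110756) (tt N22040 F80527) (tt N58916 D110757) (tt N58912 (iv7 F171438)))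
theorem Q31371 : ∀ i, i < 31371 → P i := stepQ 31370 Q31370 (allL N31370 (tt N15717 (iv1 D51064)) (tt N43067 F108019) (tt N58912 F171440) (tt N38206 F97849) (tt N52026 (iv4 F356950)) (tt N38282 (iv5 F97847)) (tt N58917 D110759) (tt N58911 F171436))
theorem Q31372 : ∀ i, i < 31372 → P i := stepQ 31371 Q31371 (allL N31371 (tt N58918 D110760) (tt N58919 D110761) (tt N58913 (iv2 F171441)) (tt N58920 D110762) (tt N15717 (iv4 D51065)) (tt N58921 D110763) (tt N58922 D110764) (tt N58923 D110765))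
theorem Q31373 : ∀ i, i < 31373 → P i := stepQ 31372 Q31372 (allL N31372 (tt N58924 D110766) (tt N58925 D110767) (tt N58914 (iv2 F171443)) (tt N15720 F80528) (tt N58922 (iv4 F171453)) (tt N17335 F80529) (tt N15717 (iv6 D51066)) (tt N58926 D110768))
theorem Q31374 : ∀ i, i < 31374 → P i := stepQ 31373 Q31373 (allL N31373 (tt N58912 (iv1 F171437)) (tt N58911 F171433) (tt N43067 (iv2 F108016)) (tt N15721 F80530) (tt N58923 (iv4 F171455)) (tt N15718 F80531) (tt N58927 D110769) (tt N15717 (iv7 D51067)))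
theorem Q31375 : ∀ i, i < 31375 → P i := stepQ 31374 Q31374 (allL N31374 (tt N58928 D110770) (tt N58929 D110771) (tt N58930 D110772) (tt N15719 (iv3 D51068)) (tt N58920 (iv4 F171451)) (tt N30106 F80532) (tt N58931 D110773) (tt N30105 F80533))
theorem Q31376 : ∀ i, i < 31376 → P i := stepQ 31375 Q31375 (allL N31375 (tt N56475 (iv1 F177656)) (tt N56477 (iv0 F177657)) (tt N30421 F80534) (tt N58931 (iv3 F171467)) (tt N15720 F80535) (tt N37748 (iv5 F324326)) (tt N15719 (iv6 D51069)) (tt N58932 D110777))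
theorem Q31377 : ∀ i, i < 31377 → P i := stepQ 31376 Q31376 (allL N31376 (tt N30424 (iv1 F80540)) (tt N15720 (iv0 D51070)) (tt N30422 F161770) (tt N58933 D110778) (tt N56662 (iv4 F177802)) (tt N32934 F161768) (tt N58934 D110780) (tt N30423 (iv7 F161769)))
theorem Q31378 : ∀ i, i < 31378 → P i := stepQ 31377 Q31377 (allL N31377 (tt N15720 (iv1 D51071)) (tt N30424 F80536) (tt N30423 (iv2 F161771)) (tt N58935 D110781) (tt N56663 (iv4 F177805)) (tt N29601 (iv5 F80537)) (tt N58936 D110783) (tt N30422 F161789))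
theorem Q31379 : ∀ i, i < 31379 → P i := stepQ 31378 Q31378 (allL N31378 (tt N30423 (iv1 F80541)) (tt N30422 F80542) (tt N30424 F80538) (tt N58926 (iv3 F171457)) (tt N58932 (iv4 F171472)) (tt N17338 F80539) (tt N58937 D110784) (tt N15720 (iv7 D51072)))
theorem Q31380 : ∀ i, i < 31380 → P i := stepQ 31379 Q31379 (allL N31379 (tt N58938 D110785) (tt N58939 D110786) (tt N30425 F80543) (tt N58927 (iv3 F171459)) (tt N30107 F80544) (tt N42386 (iv5 F106098)) (tt N15721 (iv6 D51073)) (tt N58937 (iv7 F171494)))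
theorem Q31381 : ∀ i, i < 31381 → P i := stepQ 31380 Q31380 (allL N31380 (tt N15743 (iv1 F80549)) (tt N15722 (iv0 D51074)) (tt N15740 (iv2 F80548)) (tt N16139 F80547) (tt N15823 F80546) (tt N30739 F80545) (tt N40339 (iv6 F101610)) (tt N15741 F80550))
theorem Q31382 : ∀ i, i < 31382 → P i := stepQ 31381 Q31381 (allL N31381 (tt N19551 F80553) (tt N18948 F80554) (tt N19126 F80551) (tt N58940 D110787) (tt N15723 (iv4 D51075)) (tt N19601 F80552) (tt N58941 D110788) (tt N31388 (iv7 F80571)))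
theorem Q31383 : ∀ i, i < 31383 → P i := stepQ 31382 Q31382 (allL N31382 (tt N58942 D110789) (tt N36909 (iv0 F168457)) (tt N19127 F80556) (tt N35928 (iv3 F93596)) (tt N58941 (iv4 F171507)) (tt N38690 (iv5 F98659)) (tt N15723 (iv6 D51076)) (tt N58943 D110790))
theorem Q31384 : ∀ i, i < 31384 → P i := stepQ 31383 Q31383 (allL N31383 (tt N58944 D110791) (tt N37053 F166287) (tt N19153 F80557) (tt N35929 (iv3 F93599)) (tt N19592 F80558) (tt N36065 (iv5 F93900)) (tt N15725 (iv6 D51077)) (tt N58945 D110792))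
theorem Q31385 : ∀ i, i < 31385 → P i := stepQ 31384 Q31384 (allL N31384 (tt N58946 D110793) (tt N58947 D110794) (tt N58948 D110795) (tt N15726 (iv3 D51078)) (tt N18254 F80559) (tt N58949 D110796) (tt N30698 F80560) (tt N38488 (iv7 F98368)))
theorem Q31386 : ∀ i, i < 31386 → P i := stepQ 31385 Q31385 (allL N31385 (tt N38409 (iv1 F98233)) (tt N38411 (iv0 F98239)) (tt N31392 (iv2 F80577)) (tt N58949 (iv3 F171539)) (tt N44336 (iv4 F111690)) (tt N15726 (iv5 D51079)) (tt N58950 D110797) (tt N38452 (iv7 F98323)))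
theorem Q31387 : ∀ i, i < 31387 → P i := stepQ 31386 Q31386 (allL N31386 (tt N57803 (iv1 F167786)) (tt N36874 F101912) (tt N31393 (iv2 F80580)) (tt N18257 F80561) (tt N38489 (iv4 F98369)) (tt N31386 F80562) (tt N15727 (iv6 D51080)) (tt N30700 F80563))
theorem Q31388 : ∀ i, i < 31388 → P i := stepQ 31387 Q31387 (allL N31387 (tt N18225 (iv1 F80568)) (tt N18224 F80569) (tt N18227 F80564) (tt N15734 F80565) (tt N19609 F80566) (tt N15729 F80567) (tt N58951 D110798) (tt N15728 (iv7 D51081)))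
theorem Q31389 : ∀ i, i < 31389 → P i := stepQ 31388 Q31388 (allL N31388 (tt N37344 (iv1 F95850)) (tt N19353 F80572) (tt N22672 F80570) (tt N58952 D110799) (tt N15730 (iv4 D51082)) (tt N38426 (iv5 F98269)) (tt N39192 F330998) (tt N31381 F80571))
theorem Q31390 : ∀ i, i < 31390 → P i := stepQ 31389 Q31389 (allL N31389 (tt N58953 D110801) (tt N37813 (iv0 F96656)) (tt N22673 F80573) (tt N35962 (iv3 F93651)) (tt N39192 F330997) (tt N38691 (iv5 F98660)) (tt N15730 (iv6 D51083)) (tt N58954 D110802))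
theorem Q31391 : ∀ i, i < 31391 → P i := stepQ 31390 Q31390 (allL N31390 (tt N58955 D110803) (tt N37978 F168011) (tt N30023 F80574) (tt N35963 (iv3 F93653)) (tt N38420 (iv4 F98263)) (tt N30134 F80575) (tt N15732 (iv6 D51084)) (tt N58956 D110804))
theorem Q31392 : ∀ i, i < 31392 → P i := stepQ 31391 Q31391 (allL N31391 (tt N55405 (iv1 F364200)) (tt N58957 D110806) (tt N58958 D110807) (tt N15733 (iv3 D51085)) (tt N38852 (iv4 F98897)) (tt N58959 D110808) (tt N30742 F80576) (tt N58047 (iv7 F168752)))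
theorem Q31393 : ∀ i, i < 31393 → P i := stepQ 31392 Q31392 (allL N31392 (tt N19556 F80578) (tt N19568 F80579) (tt N31385 F80577) (tt N58959 (iv3 F171574)) (tt N39870 (iv4 F100769)) (tt N15733 (iv5 D51086)) (tt N58960 D110809) (tt N58048 (iv7 F168756)))
theorem Q31394 : ∀ i, i < 31394 → P i := stepQ 31393 Q31393 (allL N31393 (tt N37787 (iv1 F103578)) (tt N57727 F167640) (tt N31386 F80580) (tt N58951 (iv3 F171542)) (tt N58049 (iv4 F168760)) (tt N31393 F80581) (tt N15734 (iv6 D51087)) (tt N30745 F80582))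
theorem Q31395 : ∀ i, i < 31395 → P i := stepQ 31394 Q31394 (allL N31394 (tt N30369 F111369) (tt N57973 (iv0 F168675)) (tt N15748 F80583) (tt N32230 (iv3 F82579)) (tt N40068 (iv4 F101110)) (tt N19678 F80584) (tt N15735 (iv6 D51088)) (tt N58961 D110810))
theorem Q31396 : ∀ i, i < 31396 → P i := stepQ 31395 Q31395 (allL N31395 (tt N36175 F102036) (tt N58962 D110811) (tt N15758 F80585) (tt N33162 (iv3 F84154)) (tt N38399 (iv4 F98206)) (tt N37654 (iv5 F96392)) (tt N15737 (iv6 D51089)) (tt N58963 D110812))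
theorem Q31397 : ∀ i, i < 31397 → P i := stepQ 31396 Q31396 (allL N31396 (tt N58964 D110813) (tt N58965 D110814) (tt N58966 D110815) (tt N15738 (iv3 D51090)) (tt N20097 F80586) (tt N58967 D110816) (tt N44383 (iv6 F111872)) (tt N20526 F80587))
theorem Q31398 : ∀ i, i < 31398 → P i := stepQ 31397 Q31397 (allL N31397 (tt N20305 F80591) (tt N16688 F80592) (tt N15764 F80588) (tt N58967 (iv3 F171623)) (tt N15909 F80590) (tt N15738 (iv5 D51091)) (tt N58968 D110817) (tt N15907 F80589))
theorem Q31399 : ∀ i, i < 31399 → P i := stepQ 31398 Q31398 (allL N31398 (tt N58969 D110818) (tt N36172 (iv0 F166987)) (tt N15766 F80593) (tt N36028 (iv3 F93828)) (tt N20527 F80594) (tt N31398 F80595) (tt N15739 (iv6 D51092)) (tt N38434 (iv7 F98292)))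
theorem Q31400 : ∀ i, i < 31400 → P i := stepQ 31399 Q31399 (allL N31399 (tt N58970 D110819) (tt N58971 D110820) (tt N40339 (iv2 F101608)) (tt N30436 F80596) (tt N31550 (iv4 F80880)) (tt N31265 F80597) (tt N15740 (iv6 D51093)) (tt N40337 (iv7 F101605)))
theorem Q31401 : ∀ i, i < 31401 → P i := stepQ 31400 Q31400 (allL N31400 (tt N41189 F167840) (tt N58972 D110821) (tt N30474 F80598) (tt N36033 (iv3 F93837)) (tt N31553 (iv4 F80882)) (tt N30777 F80599) (tt N15741 (iv6 D51094)) (tt N58973 D110822))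
theorem Q31402 : ∀ i, i < 31402 → P i := stepQ 31401 Q31401 (allL N31401 (tt N58974 D110823) (tt N58975 D110824) (tt N58976 D110825) (tt N15742 (iv3 D51095)) (tt N15771 F80600) (tt N58977 D110826) (tt N15763 F80601) (tt N44384 (iv7 F111875)))
theorem Q31403 : ∀ i, i < 31403 → P i := stepQ 31402 Q31402 (allL N31402 (tt N20206 F80602) (tt N31570 (iv0 F80914)) (tt N44335 F111685) (tt N58977 (iv3 F171648)) (tt N38452 (iv4 F98321)) (tt N15742 (iv5 D51096)) (tt N58978 D110827) (tt N44336 (iv7 F111688)))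
theorem Q31404 : ∀ i, i < 31404 → P i := stepQ 31403 Q31403 (allL N31403 (tt N36172 F166985) (tt N58969 F171627) (tt N38434 (iv2 F98289)) (tt N15774 F80603) (tt N44385 (iv4 F111877)) (tt N31403 F80604) (tt N15743 (iv6 D51097)) (tt N15766 F80605))
theorem Q31405 : ∀ i, i < 31405 → P i := stepQ 31404 Q31404 (allL N31404 (tt N15847 F80609) (tt N15849 F80610) (tt N18043 F80606) (tt N58979 D110828) (tt N15744 (iv4 D51098)) (tt N15905 F80608) (tt N58980 D110829) (tt N20478 F80607))
theorem Q31406 : ∀ i, i < 31406 → P i := stepQ 31405 Q31405 (allL N31405 (tt N58981 D110830) (tt N31289 (iv0 F168003)) (tt N18044 F80611) (tt N29626 F80612) (tt N58980 (iv4 F171654)) (tt N30741 F80613) (tt N15744 (iv6 D51099)) (tt N58982 D110831))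
theorem Q31407 : ∀ i, i < 31407 → P i := stepQ 31406 Q31406 (allL N31406 (tt N58983 D110832) (tt N41218 F165729) (tt N20440 F80614) (tt N36029 (iv3 F93831)) (tt N20326 F80615) (tt N20420 F80616) (tt N15746 (iv6 D51100)) (tt N58984 D110833))
theorem Q31408 : ∀ i, i < 31408 → P i := stepQ 31407 Q31407 (allL N31407 (tt N58985 D110834) (tt N58986 D110835) (tt N51202 (iv2 F329616)) (tt N15747 (iv3 D51101)) (tt N35996 (iv4 F93750)) (tt N50643 (iv5 F329621)) (tt N25820 F329372) (tt N36066 (iv7 F93903)))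
theorem Q31409 : ∀ i, i < 31409 → P i := stepQ 31408 Q31408 (allL N31408 (tt N33256 (iv1 F84335)) (tt N19524 F80617) (tt N38404 F98212) (tt N50643 (iv3 F329620)) (tt N15906 (iv4 F80618)) (tt N15747 (iv5 D51102)) (tt N50641 (iv6 F337442)) (tt N36067 (iv7 F93905)))
theorem Q31410 : ∀ i, i < 31410 → P i := stepQ 31409 Q31409 (allL N31409 (tt N40064 (iv1 F111411)) (tt N40065 (iv0 F111408)) (tt N40068 (iv2 F101109)) (tt N25820 F329371) (tt N15748 F80619) (tt N25812 (iv5 F329612)) (tt N15747 (iv6 D51103)) (tt N25811 (iv7 F329501)))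
theorem Q31411 : ∀ i, i < 31411 → P i := stepQ 31410 Q31410 (allL N31410 (tt N58961 (iv1 F171581)) (tt N15748 (iv0 D51104)) (tt N30369 F111416) (tt N36032 (iv3 F111437)) (tt N20336 F111417) (tt N57867 F167972) (tt N38438 (iv6 F112149)) (tt N57973 (iv7 F168673)))
theorem Q31412 : ∀ i, i < 31412 → P i := stepQ 31411 Q31411 (allL N31411 (tt N15748 (iv1 D51105)) (tt N58961 F171580) (tt N57973 (iv2 F168671)) (tt N15778 F111412) (tt N20337 F111413) (tt N20827 F111414) (tt N58987 D110841) (tt N30369 F111415))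
theorem Q31413 : ∀ i, i < 31413 → P i := stepQ 31412 Q31412 (allL N31412 (tt N57973 (iv1 F168676)) (tt N30369 (iv0 F111362)) (tt N58961 (iv2 F171577)) (tt N33483 (iv3 F101931)) (tt N25811 (iv4 F329500)) (tt N57583 (iv5 F167184)) (tt N36070 (iv6 F93918)) (tt N15748 (iv7 D51106)))
theorem Q31414 : ∀ i, i < 31414 → P i := stepQ 31413 Q31413 (allL N31413 (tt N58988 D110842) (tt N33539 (iv0 F85074)) (tt N30872 F80620) (tt N15755 F80621) (tt N40157 (iv4 F101266)) (tt N40324 (iv5 F101588)) (tt N15750 (iv6 D51107)) (tt N58989 D110843))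
theorem Q31415 : ∀ i, i < 31415 → P i := stepQ 31414 Q31414 (allL N31414 (tt N15849 F80625) (tt N15847 F80626) (tt N20478 F80622) (tt N58990 D110844) (tt N15752 (iv4 D51108)) (tt N15906 F80624) (tt N58991 D110845) (tt N18043 F80623))
theorem Q31416 : ∀ i, i < 31416 → P i := stepQ 31415 Q31415 (allL N31415 (tt N40323 F171182) (tt N32397 (iv0 F82768)) (tt N36064 (iv2 F93894)) (tt N18032 F80627) (tt N58991 (iv4 F171701)) (tt N20794 F80628) (tt N15752 (iv6 D51109)) (tt N40322 (iv7 F101580)))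
theorem Q31417 : ∀ i, i < 31417 → P i := stepQ 31416 Q31416 (allL N31416 (tt N40269 F101434) (tt N58992 D110846) (tt N58993 D110847) (tt N15754 (iv3 D51110)) (tt N40156 (iv4 F101265)) (tt N58994 D110848) (tt N58995 D110849) (tt N40067 (iv7 F101108)))
theorem Q31418 : ∀ i, i < 31418 → P i := stepQ 31417 Q31417 (allL N31417 (tt N19524 F80630) (tt N33256 (iv0 F84334)) (tt N36067 (iv2 F93904)) (tt N58994 (iv3 F171705)) (tt N15905 F80629) (tt N15754 (iv5 D51111)) (tt N44916 F336747) (tt N38404 (iv7 F98214)))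
theorem Q31419 : ∀ i, i < 31419 → P i := stepQ 31418 Q31418 (allL N31418 (tt N33273 F99504) (tt N17754 F329210) (tt N36068 (iv2 F93909)) (tt N58995 (iv3 F171706)) (tt N15755 F80631) (tt N34797 (iv5 F329497)) (tt N15754 (iv6 D51112)) (tt N34796 (iv7 F329227)))
theorem Q31420 : ∀ i, i < 31420 → P i := stepQ 31419 Q31419 (allL N31419 (tt N15755 (iv1 D51114)) (tt N36070 F93919) (tt N30395 F80633) (tt N36073 (iv3 F93926)) (tt N17718 F328493) (tt N31740 (iv5 F81264)) (tt N30458 (iv6 F80632)) (tt N36069 (iv7 F93913)))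
theorem Q31421 : ∀ i, i < 31421 → P i := stepQ 31420 Q31420 (allL N31420 (tt N30395 (iv1 F80634)) (tt N36069 F93915) (tt N36070 (iv2 F93916)) (tt N58989 (iv3 F171694)) (tt N34796 (iv4 F329226)) (tt N40329 (iv5 F101593)) (tt N58961 (iv6 F171579)) (tt N15755 (iv7 D51115)))
theorem Q31422 : ∀ i, i < 31422 → P i := stepQ 31421 Q31421 (allL N31421 (tt N58996 D110853) (tt N58997 D110854) (tt N58998 D110855) (tt N15757 (iv3 D51116)) (tt N36002 (iv4 F93774)) (tt N58999 D110856) (tt N51212 (iv6 F360198)) (tt N36108 (iv7 F93961)))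
theorem Q31423 : ∀ i, i < 31423 → P i := stepQ 31422 Q31422 (allL N31422 (tt N20320 F80636) (tt N20312 F80637) (tt N38398 (iv2 F98200)) (tt N58999 (iv3 F171711)) (tt N15899 F80635) (tt N15757 (iv5 D51117)) (tt N59000 D110858) (tt N36109 (iv7 F93963)))
theorem Q31424 : ∀ i, i < 31424 → P i := stepQ 31423 Q31423 (allL N31423 (tt N40521 (iv1 F162112)) (tt N40523 (iv0 F162111)) (tt N38399 (iv2 F98205)) (tt N51212 (iv3 F360196)) (tt N15758 F80638) (tt N59001 D110859) (tt N15757 (iv6 D51118)) (tt N40562 (iv7 F101865)))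
theorem Q31425 : ∀ i, i < 31425 → P i := stepQ 31424 Q31424 (allL N31424 (tt N58963 (iv1 F171615)) (tt N15758 (iv0 D51119)) (tt N36175 F103608) (tt N33732 F328403) (tt N20536 F103610) (tt N59002 D110860) (tt N58972 F171637) (tt N58962 (iv7 F171607)))
theorem Q31426 : ∀ i, i < 31426 → P i := stepQ 31425 Q31425 (allL N31425 (tt N15758 (iv1 D51120)) (tt N58963 F171614) (tt N58962 (iv2 F171609)) (tt N15787 F101843) (tt N20537 F101844) (tt N59003 D110861) (tt N59004 D110862) (tt N36175 F103605))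
theorem Q31427 : ∀ i, i < 31427 → P i := stepQ 31426 Q31426 (allL N31426 (tt N30738 F80641) (tt N57716 F167615) (tt N37654 (iv2 F96390)) (tt N18732 F80639) (tt N38755 (iv4 F98750)) (tt N15758 (iv5 D51121)) (tt N18730 F80640) (tt N57715 (iv7 F167762)))
theorem Q31428 : ∀ i, i < 31428 → P i := stepQ 31427 Q31427 (allL N31427 (tt N58962 (iv1 F171606)) (tt N36175 (iv0 F103602)) (tt N58963 (iv2 F171611)) (tt N36006 (iv3 F93783)) (tt N40562 F101866) (tt N57715 F167763) (tt N36113 (iv6 F93972)) (tt N15758 (iv7 D51122)))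
theorem Q31429 : ∀ i, i < 31429 → P i := stepQ 31428 Q31428 (allL N31428 (tt N59005 D110863) (tt N36202 (iv0 F166483)) (tt N33171 (iv2 F84165)) (tt N15761 F80642) (tt N33052 (iv4 F83997)) (tt N35541 (iv5 F92802)) (tt N15759 (iv6 D51123)) (tt N59006 D110864))
theorem Q31430 : ∀ i, i < 31430 → P i := stepQ 31429 Q31429 (allL N31429 (tt N40605 F102261) (tt N59007 D110865) (tt N59008 D110866) (tt N15760 (iv3 D51124)) (tt N33050 (iv4 F83992)) (tt N59009 D110867) (tt N59010 D110868) (tt N33160 (iv7 F84150)))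
theorem Q31431 : ∀ i, i < 31431 → P i := stepQ 31430 Q31430 (allL N31430 (tt N20312 F80644) (tt N20320 F80645) (tt N36109 (iv2 F93962)) (tt N59009 (iv3 F171723)) (tt N15895 F80643) (tt N15760 (iv5 D51125)) (tt N59011 D110869) (tt N38398 (iv7 F98202)))
theorem Q31432 : ∀ i, i < 31432 → P i := stepQ 31431 Q31431 (allL N31431 (tt N33352 F166482) (tt N33354 (iv0 F171721)) (tt N36110 (iv2 F93967)) (tt N59010 (iv3 F171724)) (tt N15761 F80646) (tt N59012 D110870) (tt N15760 (iv6 D51126)) (tt N59013 D110871))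
theorem Q31433 : ∀ i, i < 31433 → P i := stepQ 31432 Q31432 (allL N31432 (tt N36113 (iv1 F93975)) (tt N15761 (iv0 D51127)) (tt N36111 F166457) (tt N15791 F166201) (tt N59014 D110872) (tt N36199 F166202) (tt N59015 D110873) (tt N36112 (iv7 F166456)))
theorem Q31434 : ∀ i, i < 31434 → P i := stepQ 31433 Q31433 (allL N31433 (tt N15761 (iv1 D51128)) (tt N36113 F93974) (tt N36112 (iv2 F166458)) (tt N39745 F166473) (tt N59016 D110874) (tt N59017 D110875) (tt N58970 (iv6 F171632)) (tt N36111 F166459))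
theorem Q31435 : ∀ i, i < 31435 → P i := stepQ 31434 Q31434 (allL N31434 (tt N41179 F111421) (tt N59018 D110876) (tt N19670 F80647) (tt N35541 (iv3 F92801)) (tt N54220 (iv4 F352680)) (tt N15761 (iv5 D51129)) (tt N18657 F80648) (tt N59019 D110878))
theorem Q31436 : ∀ i, i < 31436 → P i := stepQ 31435 Q31435 (allL N31435 (tt N36112 (iv1 F93969)) (tt N36111 F93973) (tt N36113 (iv2 F93970)) (tt N59006 (iv3 F171722)) (tt N59013 (iv4 F171726)) (tt N59019 (iv5 F171773)) (tt N58963 (iv6 F171613)) (tt N15761 (iv7 D51130)))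
theorem Q31437 : ∀ i, i < 31437 → P i := stepQ 31436 Q31436 (allL N31436 (tt N59020 D110879) (tt N59021 D110880) (tt N59022 D110881) (tt N15762 (iv3 D51131)) (tt N20592 F80649) (tt N59023 D110882) (tt N59024 D110883) (tt N20520 F80650))
theorem Q31438 : ∀ i, i < 31438 → P i := stepQ 31437 Q31437 (allL N31437 (tt N20534 F80654) (tt N20533 F80655) (tt N16729 F80651) (tt N59023 (iv3 F171786)) (tt N15878 F80652) (tt N15762 (iv5 D51132)) (tt N59025 D110884) (tt N20521 F80653))
theorem Q31439 : ∀ i, i < 31439 → P i := stepQ 31438 Q31438 (allL N31438 (tt N59014 (iv1 F171730)) (tt N59016 F171741) (tt N16730 F80656) (tt N59024 (iv3 F171788)) (tt N16727 F80657) (tt N59026 D110885) (tt N15762 (iv6 D51133)) (tt N59027 D110886))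
theorem Q31440 : ∀ i, i < 31440 → P i := stepQ 31439 Q31439 (allL N31439 (tt N59028 D110887) (tt N15763 (iv0 D51134)) (tt N59029 D110888) (tt N59030 D110889) (tt N59031 D110890) (tt N59032 D110891) (tt N59033 D110892) (tt N59034 D110893))
theorem Q31441 : ∀ i, i < 31441 → P i := stepQ 31440 Q31440 (allL N31440 (tt N15763 (iv1 D51135)) (tt N59028 F171802) (tt N59034 (iv2 F171805)) (tt N59035 D110894) (tt N57132 (iv4 F165424)) (tt N59036 D110895) (tt N59037 D110896) (tt N59029 F171803))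
theorem Q31442 : ∀ i, i < 31442 → P i := stepQ 31441 Q31441 (allL N31441 (tt N59029 (iv1 F359127)) (tt N59034 (iv0 F359133)) (tt N15763 (iv2 D51136)) (tt N58966 (iv3 F171617)) (tt N15796 F80658) (tt N59038 D110899) (tt N58976 (iv6 F171647)) (tt N59028 (iv7 F171801)))
theorem Q31443 : ∀ i, i < 31443 → P i := stepQ 31442 Q31442 (allL N31442 (tt N59039 D110900) (tt N59040 D110901) (tt N59038 (iv2 F171810)) (tt N15764 F80659) (tt N59041 D110902) (tt N15763 (iv5 D51137)) (tt N59042 D110903) (tt N59043 D110904))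
theorem Q31444 : ∀ i, i < 31444 → P i := stepQ 31443 Q31443 (allL N31443 (tt N59034 (iv1 F359134)) (tt N59029 (iv0 F359126)) (tt N59028 F171798) (tt N15765 F80660) (tt N15798 F80661) (tt N59043 (iv5 F171813)) (tt N39578 (iv6 F338256)) (tt N15763 (iv7 D51138)))
theorem Q31445 : ∀ i, i < 31445 → P i := stepQ 31444 Q31444 (allL N31444 (tt N15764 (iv1 D51139)) (tt N15907 F80662) (tt N16688 (iv2 F80665)) (tt N59044 D110906) (tt N15854 (iv4 F80666)) (tt N15867 F80664) (tt N44919 F329448) (tt N20305 F80663))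
theorem Q31446 : ∀ i, i < 31446 → P i := stepQ 31445 Q31445 (allL N31445 (tt N15906 F80669) (tt N15905 F80670) (tt N15909 F80667) (tt N59045 D110908) (tt N15764 (iv4 D51140)) (tt N15845 F80668) (tt N59046 D110909) (tt N15844 F80671))
theorem Q31447 : ∀ i, i < 31447 → P i := stepQ 31446 Q31446 (allL N31446 (tt N59047 D110910) (tt N59048 D110911) (tt N58968 (iv2 F171625)) (tt N59042 (iv3 F171811)) (tt N59046 (iv4 F171823)) (tt N58978 (iv5 F171649)) (tt N15764 (iv6 D51141)) (tt N59049 D110912))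
theorem Q31448 : ∀ i, i < 31448 → P i := stepQ 31447 Q31447 (allL N31447 (tt N16688 (iv1 F80675)) (tt N20305 F80676) (tt N15907 F80672) (tt N59043 (iv3 F171812)) (tt N15844 F80673) (tt N15765 F80674) (tt N59050 D110913) (tt N15764 (iv7 D51142)))
theorem Q31449 : ∀ i, i < 31449 → P i := stepQ 31448 Q31448 (allL N31448 (tt N20768 F101319) (tt N59051 D110914) (tt N20527 F80677) (tt N39578 F338257) (tt N15766 F80678) (tt N39577 (iv5 F338262)) (tt N15765 (iv6 D51143)) (tt N44385 (iv7 F111878)))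
theorem Q31450 : ∀ i, i < 31450 → P i := stepQ 31449 Q31449 (allL N31449 (tt N38434 (iv1 F98294)) (tt N15766 (iv0 D51144)) (tt N58969 (iv2 F171851)) (tt N30494 F168333) (tt N40051 F168334) (tt N59052 D110917) (tt N59053 D110918) (tt N36172 (iv7 F171847)))
theorem Q31451 : ∀ i, i < 31451 → P i := stepQ 31450 Q31450 (allL N31450 (tt N15766 (iv1 D51145)) (tt N38434 F98293) (tt N36172 (iv2 F171846)) (tt N58749 (iv3 F170584)) (tt N40052 F170585) (tt N59054 D110920) (tt N59055 D110921) (tt N58969 (iv7 F171852)))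
theorem Q31452 : ∀ i, i < 31452 → P i := stepQ 31451 Q31451 (allL N31451 (tt N59056 D110922) (tt N59057 D110923) (tt N59058 D110924) (tt N15767 (iv3 D51146)) (tt N32097 (iv4 F82326)) (tt N59059 D110925) (tt N55222 (iv6 F337155)) (tt N35549 (iv7 F92819)))
theorem Q31453 : ∀ i, i < 31453 → P i := stepQ 31452 Q31452 (allL N31452 (tt N30206 F80682) (tt N29934 F80683) (tt N22752 F80679) (tt N59059 (iv3 F171937)) (tt N30642 F80681) (tt N15767 (iv5 D51147)) (tt N59060 D110927) (tt N30203 F80680))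
theorem Q31454 : ∀ i, i < 31454 → P i := stepQ 31453 Q31453 (allL N31453 (tt N59061 D110928) (tt N59062 D110929) (tt N22753 F80684) (tt N55222 (iv3 F337154)) (tt N15768 F80685) (tt N59063 D110930) (tt N15767 (iv6 D51148)) (tt N59064 D110931))
theorem Q31455 : ∀ i, i < 31455 → P i := stepQ 31454 Q31454 (allL N31454 (tt N22756 (iv1 F80692)) (tt N15768 (iv0 D51149)) (tt N22754 (iv2 F103507)) (tt N54494 (iv3 F328176)) (tt N56808 (iv4 F164837)) (tt N30637 F80687) (tt N15777 F80686) (tt N22755 F103503))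
theorem Q31456 : ∀ i, i < 31456 → P i := stepQ 31455 Q31455 (allL N31455 (tt N15768 (iv1 D51150)) (tt N22756 F80688) (tt N22755 F103508) (tt N38439 (iv3 F111423)) (tt N56809 (iv4 F164833)) (tt N20829 (iv5 F80689)) (tt N59065 D110932) (tt N22754 F103506))
theorem Q31457 : ∀ i, i < 31457 → P i := stepQ 31456 Q31456 (allL N31456 (tt N22755 (iv1 F80693)) (tt N22754 F80694) (tt N22756 F80690) (tt N32101 (iv3 F82334)) (tt N59064 (iv4 F171956)) (tt N36191 (iv5 F94062)) (tt N30361 F80691) (tt N15768 (iv7 D51151)))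
theorem Q31458 : ∀ i, i < 31458 → P i := stepQ 31457 Q31457 (allL N31457 (tt N59066 D110933) (tt N59067 D110934) (tt N59068 D110935) (tt N15769 (iv3 D51152)) (tt N32102 (iv4 F82341)) (tt N59069 D110936) (tt N59070 D110937) (tt N30195 F80695))
theorem Q31459 : ∀ i, i < 31459 → P i := stepQ 31458 Q31458 (allL N31458 (tt N41206 (iv1 F103640)) (tt N41205 (iv0 F103639)) (tt N30193 F80696) (tt N59069 (iv3 F171971)) (tt N20843 F80698) (tt N15769 (iv5 D51153)) (tt N59071 D110938) (tt N30196 F80697))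
theorem Q31460 : ∀ i, i < 31460 → P i := stepQ 31459 Q31459 (allL N31459 (tt N59072 D110939) (tt N59073 D110940) (tt N30194 F80699) (tt N59070 (iv3 F171973)) (tt N15770 F80700) (tt N59074 D110941) (tt N15769 (iv6 D51154)) (tt N59075 D110942))
theorem Q31461 : ∀ i, i < 31461 → P i := stepQ 31460 Q31460 (allL N31460 (tt N30497 (iv1 F80704)) (tt N15770 (iv0 D51155)) (tt N30495 F166410) (tt N57561 F167113) (tt N56831 (iv4 F166502)) (tt N59076 D110943) (tt N15792 F80802) (tt N30496 F166411))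
theorem Q31462 : ∀ i, i < 31462 → P i := stepQ 31461 Q31461 (allL N31461 (tt N15770 (iv1 D51156)) (tt N30497 F80701) (tt N30496 (iv2 F166418)) (tt N58971 F171629) (tt N56832 (iv4 F164891)) (tt N35741 (iv5 F93171)) (tt N41512 (iv6 F104333)) (tt N30495 F166417))
theorem Q31463 : ∀ i, i < 31463 → P i := stepQ 31462 Q31462 (allL N31462 (tt N30496 (iv1 F80705)) (tt N30495 F80706) (tt N30497 F80702) (tt N32106 (iv3 F82349)) (tt N59075 (iv4 F171988)) (tt N18401 F80703) (tt N35553 (iv6 F92832)) (tt N15770 (iv7 D51157)))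
theorem Q31464 : ∀ i, i < 31464 → P i := stepQ 31463 Q31463 (allL N31463 (tt N59077 D110944) (tt N15771 (iv0 D51158)) (tt N59078 D110945) (tt N59079 D110946) (tt N59080 D110947) (tt N59081 D110948) (tt N59082 D110949) (tt N59083 D110950))
theorem Q31465 : ∀ i, i < 31465 → P i := stepQ 31464 Q31464 (allL N31464 (tt N15771 (iv1 D51159)) (tt N59077 F171998) (tt N59083 (iv2 F172001)) (tt N59084 D110951) (tt N59085 D110952) (tt N59086 D110953) (tt N59087 D110954) (tt N59078 F171999))
theorem Q31466 : ∀ i, i < 31466 → P i := stepQ 31465 Q31465 (allL N31465 (tt N59078 (iv1 F357635)) (tt N59083 (iv0 F357638)) (tt N15771 (iv2 D51160)) (tt N35562 (iv3 F92849)) (tt N58976 (iv4 F171646)) (tt N59088 D110957) (tt N15796 F80707) (tt N59077 (iv7 F171997)))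
theorem Q31467 : ∀ i, i < 31467 → P i := stepQ 31466 Q31466 (allL N31466 (tt N59089 D110958) (tt N59090 D110959) (tt N59088 (iv2 F172005)) (tt N15772 F80708) (tt N47080 (iv4 F333005)) (tt N15771 (iv5 D51161)) (tt N47087 F333002) (tt N56880 (iv7 F164975)))
theorem Q31468 : ∀ i, i < 31468 → P i := stepQ 31467 Q31467 (allL N31467 (tt N59083 (iv1 F357639)) (tt N59078 (iv0 F357634)) (tt N59077 F171996) (tt N15773 F80709) (tt N44384 (iv4 F111874)) (tt N56880 (iv5 F164974)) (tt N59091 D110962) (tt N15771 (iv7 D51162)))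
theorem Q31469 : ∀ i, i < 31469 → P i := stepQ 31468 Q31468 (allL N31468 (tt N59092 D110963) (tt N59093 D110964) (tt N31531 (iv2 F80841)) (tt N47087 (iv3 F333000)) (tt N47123 F332999) (tt N15799 F80710) (tt N15772 (iv6 D51163)) (tt N59094 D110965))
theorem Q31470 : ∀ i, i < 31470 → P i := stepQ 31469 Q31469 (allL N31469 (tt N31529 (iv1 F80834)) (tt N31528 F80838) (tt N31530 (iv2 F80835)) (tt N59091 (iv3 F172008)) (tt N15774 F80711) (tt N59095 D110966) (tt N15773 (iv6 D51164)) (tt N15800 F80712))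
theorem Q31471 : ∀ i, i < 31471 → P i := stepQ 31470 Q31470 (allL N31470 (tt N30387 (iv1 F80713)) (tt N15775 (iv0 D51165)) (tt N30386 (iv2 F180712)) (tt N59096 D110968) (tt N59097 D110969) (tt N30363 F180711) (tt N59098 D110971) (tt N30385 (iv7 F180713)))
theorem Q31472 : ∀ i, i < 31472 → P i := stepQ 31471 Q31471 (allL N31471 (tt N15775 (iv1 D51166)) (tt N30387 F80718) (tt N30385 F180714) (tt N59099 D110973) (tt N59100 D110974) (tt N30364 (iv5 F180716)) (tt N59101 D110976) (tt N30386 F180715))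
theorem Q31473 : ∀ i, i < 31473 → P i := stepQ 31472 Q31472 (allL N31472 (tt N30386 (iv1 F80719)) (tt N30385 F80717) (tt N15775 (iv2 D51167)) (tt N30365 F80714) (tt N41091 (iv4 F103324)) (tt N20678 F80715) (tt N43582 (iv6 F323711)) (tt N30387 F80716))
theorem Q31474 : ∀ i, i < 31474 → P i := stepQ 31473 Q31473 (allL N31473 (tt N30368 (iv1 F80726)) (tt N15776 (iv0 D51169)) (tt N30230 (iv2 F111271)) (tt N59102 D110982) (tt N18152 F111182) (tt N59103 D110983) (tt N59061 F171944) (tt N30232 (iv7 F111263)))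
theorem Q31475 : ∀ i, i < 31475 → P i := stepQ 31474 Q31474 (allL N31474 (tt N15776 (iv1 D51170)) (tt N30368 F80721) (tt N30232 (iv2 F111262)) (tt N59104 D110984) (tt N18153 F111189) (tt N59105 D110985) (tt N59106 D110986) (tt N30230 (iv7 F111272)))
theorem Q31476 : ∀ i, i < 31476 → P i := stepQ 31475 Q31475 (allL N31475 (tt N59107 D110987) (tt N59108 D110988) (tt N30367 F80722) (tt N50613 (iv3 F302684)) (tt N59109 D110989) (tt N15776 (iv5 D51171)) (tt N31508 (iv6 F80805)) (tt N59110 D110990))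
theorem Q31477 : ∀ i, i < 31477 → P i := stepQ 31476 Q31476 (allL N31476 (tt N30232 (iv1 F111261)) (tt N30230 (iv0 F111269)) (tt N30368 F80723) (tt N55135 (iv3 F302687)) (tt N15780 F80724) (tt N59110 (iv5 F172045)) (tt N30390 F80725) (tt N15776 (iv7 D51172)))
theorem Q31478 : ∀ i, i < 31478 → P i := stepQ 31477 Q31477 (allL N31477 (tt N36034 (iv1 F111443)) (tt N29624 (iv0 F111394)) (tt N36032 F111436) (tt N15777 (iv3 D51174)) (tt N20033 F111282) (tt N20830 F80731) (tt N54494 (iv6 F328178)) (tt N30371 F103509))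
theorem Q31479 : ∀ i, i < 31479 → P i := stepQ 31478 Q31478 (allL N31478 (tt N31532 F80844) (tt N31534 F100275) (tt N30373 F103512) (tt N58987 (iv3 F171683)) (tt N56926 (iv4 F165070)) (tt N59065 (iv5 F171961)) (tt N15778 (iv6 D51179)) (tt N59065 (iv7 F171962)))
theorem Q31480 : ∀ i, i < 31480 → P i := stepQ 31479 Q31479 (allL N31479 (tt N21908 F321408) (tt N15779 (iv0 D51180)) (tt N30374 F103545) (tt N59111 D110991) (tt N56937 (iv4 F165792)) (tt N35551 (iv5 F92823)) (tt N59112 D110992) (tt N30375 (iv7 F103544)))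
theorem Q31481 : ∀ i, i < 31481 → P i := stepQ 31480 Q31480 (allL N31480 (tt N15779 (iv1 D51181)) (tt N21908 F321407) (tt N30375 (iv2 F103546)) (tt N57582 F171583) (tt N56938 (iv4 F165085)) (tt N35552 F92826) (tt N29682 (iv6 F92827)) (tt N30374 (iv7 F103541)))
theorem Q31482 : ∀ i, i < 31482 → P i := stepQ 31481 Q31481 (allL N31481 (tt N59113 D110993) (tt N59114 D110994) (tt N30376 F80737) (tt N26977 F295629) (tt N15779 (iv4 D51182)) (tt N26976 (iv5 F295723)) (tt N15781 F80738) (tt N29284 (iv7 F295724)))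
theorem Q31483 : ∀ i, i < 31483 → P i := stepQ 31482 Q31482 (allL N31482 (tt N30375 (iv1 F80742)) (tt N30374 F80743) (tt N21908 F321409) (tt N35553 (iv3 F92830)) (tt N29284 F295863) (tt N15780 F80740) (tt N32106 (iv6 F82351)) (tt N15779 (iv7 D51183)))
theorem Q31484 : ∀ i, i < 31484 → P i := stepQ 31483 Q31483 (allL N31483 (tt N59115 D110998) (tt N59116 D110999) (tt N29281 (iv2 F295523)) (tt N15781 (iv3 D51184)) (tt N30195 F80745) (tt N27887 F295476) (tt N26977 (iv6 F295524)) (tt N32102 (iv7 F82342)))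
theorem Q31485 : ∀ i, i < 31485 → P i := stepQ 31484 Q31484 (allL N31484 (tt N37250 (iv1 F95709)) (tt N37257 (iv0 F95720)) (tt N30378 F80746) (tt N27887 (iv3 F295325)) (tt N16153 F80747) (tt N15781 (iv5 D51185)) (tt N27885 F294946) (tt N30379 F80748))
theorem Q31486 : ∀ i, i < 31486 → P i := stepQ 31485 Q31485 (allL N31485 (tt N59117 D111003) (tt N59118 D111004) (tt N40782 (iv2 F102643)) (tt N15782 (iv3 D51186)) (tt N15784 F80749) (tt N59119 D111005) (tt N59120 D111006) (tt N30319 F80750))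
theorem Q31487 : ∀ i, i < 31487 → P i := stepQ 31486 Q31486 (allL N31486 (tt N20812 F80753) (tt N20809 F80754) (tt N29680 F80751) (tt N59119 (iv3 F172124)) (tt N18355 F80752) (tt N15782 (iv5 D51187)) (tt N59121 D111007) (tt N36187 (iv7 F94048)))
theorem Q31488 : ∀ i, i < 31488 → P i := stepQ 31487 Q31487 (allL N31487 (tt N40560 F101857) (tt N59122 D111008) (tt N29681 F80756) (tt N59120 (iv3 F172126)) (tt N15783 F80757) (tt N59123 D111009) (tt N15782 (iv6 D51188)) (tt N59124 D111010))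
theorem Q31489 : ∀ i, i < 31489 → P i := stepQ 31488 Q31488 (allL N31488 (tt N29684 (iv1 F80762)) (tt N15783 (iv0 D51189)) (tt N29682 (iv2 F103547)) (tt N36086 F165195) (tt N59125 D111011) (tt N59126 D111012) (tt N30375 F82355) (tt N29683 (iv7 F103549)))
theorem Q31490 : ∀ i, i < 31490 → P i := stepQ 31489 Q31489 (allL N31489 (tt N15783 (iv1 D51190)) (tt N29684 F80758) (tt N29683 F103550) (tt N59127 D111013) (tt N59128 D111014) (tt N36877 (iv5 F95280)) (tt N59129 D111015) (tt N29682 F103548))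
theorem Q31491 : ∀ i, i < 31491 → P i := stepQ 31490 Q31490 (allL N31490 (tt N29683 (iv1 F80763)) (tt N29682 F80764) (tt N29684 F80759) (tt N15789 F80760) (tt N59124 (iv4 F172135)) (tt N30014 F80761) (tt N36191 (iv6 F94063)) (tt N15783 (iv7 D51191)))
theorem Q31492 : ∀ i, i < 31492 → P i := stepQ 31491 Q31491 (allL N31491 (tt N30318 (iv1 F80765)) (tt N15784 (iv0 D51192)) (tt N30317 (iv2 F172100)) (tt N59130 D111016) (tt N59131 D111017) (tt N20681 F166921) (tt N59132 D111018) (tt N30316 F172099))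
theorem Q31493 : ∀ i, i < 31493 → P i := stepQ 31492 Q31492 (allL N31492 (tt N15784 (iv1 D51193)) (tt N30318 F80770) (tt N30316 F172097) (tt N59133 D111019) (tt N59134 D111020) (tt N20682 F166927) (tt N59067 (iv6 F366907)) (tt N30317 (iv7 F172101)))
theorem Q31494 : ∀ i, i < 31494 → P i := stepQ 31493 Q31493 (allL N31493 (tt N30317 (iv1 F80771)) (tt N30316 F80769) (tt N15784 (iv2 D51194)) (tt N30312 F80766) (tt N40782 (iv4 F102644)) (tt N21024 F80767) (tt N59135 D111022) (tt N30318 F80768))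
theorem Q31495 : ∀ i, i < 31495 → P i := stepQ 31494 Q31494 (allL N31494 (tt N59136 D111023) (tt N59137 D111024) (tt N59135 (iv2 F172179)) (tt N15785 F80772) (tt N59120 (iv4 F172127)) (tt N59138 D111025) (tt N15784 (iv6 D51195)) (tt N59139 D111026))
theorem Q31496 : ∀ i, i < 31496 → P i := stepQ 31495 Q31495 (allL N31495 (tt N30315 (iv1 F80779)) (tt N15785 (iv0 D51196)) (tt N30281 (iv2 F102176)) (tt N59140 D111027) (tt N29940 (iv4 F95186)) (tt N59141 D111028) (tt N41195 (iv6 F111177)) (tt N30283 (iv7 F102166)))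
theorem Q31497 : ∀ i, i < 31497 → P i := stepQ 31496 Q31496 (allL N31496 (tt N15785 (iv1 D51197)) (tt N30315 F80773) (tt N30283 (iv2 F102170)) (tt N59142 D111029) (tt N29941 (iv4 F102172)) (tt N59143 D111030) (tt N59144 D111031) (tt N30281 (iv7 F102177)))
theorem Q31498 : ∀ i, i < 31498 → P i := stepQ 31497 Q31497 (allL N31497 (tt N59145 D111032) (tt N59146 D111033) (tt N30314 F80774) (tt N59138 (iv3 F172181)) (tt N59147 D111034) (tt N15785 (iv5 D51198)) (tt N21028 F80775) (tt N59148 D111035))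
theorem Q31499 : ∀ i, i < 31499 → P i := stepQ 31498 Q31498 (allL N31498 (tt N30283 (iv1 F102057)) (tt N30281 (iv0 F102174)) (tt N30315 F80776) (tt N59139 (iv3 F172183)) (tt N15789 F80777) (tt N59148 (iv5 F172204)) (tt N30322 F80778) (tt N15785 (iv7 D51199)))
theorem Q31500 : ∀ i, i < 31500 → P i := stepQ 31499 Q31499 (allL N31499 (tt N39720 (iv1 F103595)) (tt N29646 F103594) (tt N33732 F328374) (tt N15786 (iv3 D51201)) (tt N20106 F102076) (tt N32534 F328375) (tt N41192 (iv6 F103617)) (tt N32532 F328376))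
theorem Q31501 : ∀ i, i < 31501 → P i := stepQ 31500 Q31500 (allL N31500 (tt N36822 F100277) (tt N56519 (iv0 F164168)) (tt N36177 (iv2 F103611)) (tt N32534 F328372) (tt N29509 (iv4 F328779)) (tt N15786 (iv5 D51203)) (tt N59126 (iv6 F172143)) (tt N32531 F328373))
theorem Q31502 : ∀ i, i < 31502 → P i := stepQ 31501 Q31501 (allL N31501 (tt N56519 F164169) (tt N36822 (iv0 F95231)) (tt N32531 F328778) (tt N59003 (iv3 F171714)) (tt N32555 (iv4 F329139)) (tt N15787 (iv5 D51208)) (tt N19182 (iv6 F80786)) (tt N36177 F103612))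
theorem Q31503 : ∀ i, i < 31503 → P i := stepQ 31502 Q31502 (allL N31502 (tt N37729 F96703) (tt N36238 F100238) (tt N36179 F103533) (tt N59004 (iv3 F171716)) (tt N57012 (iv4 F165220)) (tt N37840 (iv5 F96701)) (tt N15787 (iv6 D51209)) (tt N41191 (iv7 F103531)))
theorem Q31504 : ∀ i, i < 31504 → P i := stepQ 31503 Q31503 (allL N31503 (tt N15788 (iv1 D51210)) (tt N18689 F80790) (tt N18691 F80793) (tt N57716 (iv3 F167611)) (tt N57029 (iv4 F165245)) (tt N21032 (iv5 F80792)) (tt N18676 (iv6 F80794)) (tt N18648 F80791))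
theorem Q31505 : ∀ i, i < 31505 → P i := stepQ 31504 Q31504 (allL N31504 (tt N36768 F96552) (tt N59149 D111039) (tt N36180 (iv2 F94039)) (tt N59150 D111040) (tt N15788 (iv4 D51211)) (tt N59151 D111041) (tt N30005 F80795) (tt N59152 D111042))
theorem Q31506 : ∀ i, i < 31506 → P i := stepQ 31505 Q31505 (allL N31505 (tt N18691 (iv1 F80799)) (tt N18648 F80800) (tt N18689 F80796) (tt N30014 F80797) (tt N59152 (iv4 F172215)) (tt N15789 F80798) (tt N37666 (iv6 F96413)) (tt N15788 (iv7 D51212)))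
theorem Q31507 : ∀ i, i < 31507 → P i := stepQ 31506 Q31506 (allL N31506 (tt N30322 (iv1 F80809)) (tt N15790 (iv0 D51213)) (tt N30304 (iv2 F104349)) (tt N59153 D111043) (tt N29946 (iv4 F163588)) (tt N59154 D111044) (tt N59155 D111045) (tt N30308 (iv7 F104359)))
theorem Q31508 : ∀ i, i < 31508 → P i := stepQ 31507 Q31507 (allL N31507 (tt N15790 (iv1 D51214)) (tt N30322 F80803) (tt N30308 (iv2 F104358)) (tt N59156 D111046) (tt N29947 (iv4 F163592)) (tt N59157 D111047) (tt N59072 F171978) (tt N30304 (iv7 F104350)))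
theorem Q31509 : ∀ i, i < 31509 → P i := stepQ 31508 Q31508 (allL N31508 (tt N59158 D111048) (tt N59159 D111049) (tt N30321 F80804) (tt N40868 (iv3 F102893)) (tt N59160 D111050) (tt N15790 (iv5 D51215)) (tt N31475 F80805) (tt N59161 D111051))
theorem Q31510 : ∀ i, i < 31510 → P i := stepQ 31509 Q31509 (allL N31509 (tt N30308 (iv1 F104357)) (tt N30304 (iv0 F104347)) (tt N30322 F80806) (tt N40869 (iv3 F102894)) (tt N15793 F80807) (tt N59161 (iv5 F172245)) (tt N30315 F80808) (tt N15790 (iv7 D51216)))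
theorem Q31511 : ∀ i, i < 31511 → P i := stepQ 31510 Q31510 (allL N31510 (tt N41454 F104275) (tt N35893 (iv0 F100266)) (tt N41515 (iv2 F166401)) (tt N59015 (iv3 F171731)) (tt N57055 (iv4 F165305)) (tt N30398 F80814) (tt N15791 (iv6 D51221)) (tt N41512 F166416))
theorem Q31512 : ∀ i, i < 31512 → P i := stepQ 31511 Q31511 (allL N31511 (tt N39186 F166089) (tt N39746 F166092) (tt N39745 F166472) (tt N15792 (iv3 D51223)) (tt N20130 F161378) (tt N36202 (iv5 F94078)) (tt N57561 (iv6 F167112)) (tt N39744 (iv7 F166466)))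
theorem Q31513 : ∀ i, i < 31513 → P i := stepQ 31512 Q31512 (allL N31512 (tt N15795 (iv1 F80819)) (tt N15794 (iv0 D51225)) (tt N15798 (iv2 F80816)) (tt N31523 (iv3 F80825)) (tt N59028 (iv4 F171800)) (tt N31360 F80817) (tt N59162 D111052) (tt N15796 F80818))
theorem Q31514 : ∀ i, i < 31514 → P i := stepQ 31513 Q31513 (allL N31513 (tt N15798 (iv1 F181241)) (tt N15796 (iv0 F181242)) (tt N15794 (iv2 D51226)) (tt N59163 D111055) (tt N59164 D111056) (tt N57186 (iv5 F180606)) (tt N59165 D111058) (tt N15795 (iv7 F80820)))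
theorem Q31515 : ∀ i, i < 31515 → P i := stepQ 31514 Q31514 (allL N31514 (tt N57046 (iv1 F181497)) (tt N40845 (iv0 F102891)) (tt N56771 (iv2 F181253)) (tt N15794 (iv3 D51227)) (tt N56769 (iv4 F181252)) (tt N59166 D111061) (tt N59167 D111062) (tt N56776 (iv7 F181248)))
theorem Q31516 : ∀ i, i < 31516 → P i := stepQ 31515 Q31515 (allL N31515 (tt N40598 F102890) (tt N59168 D111064) (tt N59164 (iv2 F172252)) (tt N59169 D111065) (tt N15794 (iv4 D51228)) (tt N59170 D111066) (tt N59171 D111067) (tt N59172 D111068))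
theorem Q31517 : ∀ i, i < 31517 → P i := stepQ 31516 Q31516 (allL N31516 (tt N57187 (iv1 F172283)) (tt N21014 F172280) (tt N57186 (iv2 F180604)) (tt N59166 (iv3 F172257)) (tt N59173 D111071) (tt N15794 (iv5 D51229)) (tt N59174 D111072) (tt N57185 (iv7 F180610)))
theorem Q31518 : ∀ i, i < 31518 → P i := stepQ 31517 Q31517 (allL N31517 (tt N59175 D111074) (tt N57010 (iv0 F386818)) (tt N59165 (iv2 F172256)) (tt N59167 (iv3 F172258)) (tt N59171 (iv4 F172261)) (tt N59176 D111076) (tt N15794 (iv6 D51230)) (tt N59177 D111077))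
theorem Q31519 : ∀ i, i < 31519 → P i := stepQ 31518 Q31518 (allL N31518 (tt N15796 F181245) (tt N15798 F181246) (tt N15795 F80821) (tt N56776 (iv3 F181247)) (tt N59172 (iv4 F172263)) (tt N57185 (iv5 F180609)) (tt N59178 D111078) (tt N15794 (iv7 D51231)))
theorem Q31520 : ∀ i, i < 31520 → P i := stepQ 31519 Q31519 (allL N31519 (tt N59179 D111079) (tt N56999 F172273) (tt N59180 D111080) (tt N15795 (iv3 D51232)) (tt N59181 D111081) (tt N59182 D111082) (tt N59183 D111083) (tt N59163 (iv7 F172251)))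
theorem Q31521 : ∀ i, i < 31521 → P i := stepQ 31520 Q31520 (allL N31520 (tt N59168 (iv1 F172260)) (tt N40598 (iv0 F102247)) (tt N59172 (iv2 F172262)) (tt N40045 (iv3 F101069)) (tt N15795 (iv4 D51233)) (tt N59184 D111084) (tt N59185 D111085) (tt N59164 (iv7 F172253)))
theorem Q31522 : ∀ i, i < 31522 → P i := stepQ 31521 Q31521 (allL N31521 (tt N21014 F172281) (tt N57187 (iv0 F172282)) (tt N57185 (iv2 F180608)) (tt N59182 (iv3 F172276)) (tt N59186 D111086) (tt N15795 (iv5 D51234)) (tt N59187 D111087) (tt N57186 (iv7 F180607)))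
theorem Q31523 : ∀ i, i < 31523 → P i := stepQ 31522 Q31522 (allL N31522 (tt N57053 (iv1 F393619)) (tt N59188 D111089) (tt N59178 (iv2 F172268)) (tt N59183 (iv3 F172285)) (tt N59185 (iv4 F172286)) (tt N59189 D111090) (tt N15795 (iv6 D51235)) (tt N59190 D111091))
theorem Q31524 : ∀ i, i < 31524 → P i := stepQ 31523 Q31523 (allL N31523 (tt N31359 (iv1 F80827)) (tt N31358 F80828) (tt N15797 F80824) (tt N31512 F80825) (tt N39616 (iv4 F100501)) (tt N15796 (iv5 D51238)) (tt N59191 D111101) (tt N31360 F80826))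
theorem Q31525 : ∀ i, i < 31525 → P i := stepQ 31524 Q31524 (allL N31524 (tt N31360 (iv1 F80829)) (tt N15797 (iv0 D51239)) (tt N31359 (iv2 F102789)) (tt N59192 D111102) (tt N59193 D111103) (tt N41455 (iv5 F177271)) (tt N59194 D111105) (tt N31358 F102790))
theorem Q31526 : ∀ i, i < 31526 → P i := stepQ 31525 Q31525 (allL N31525 (tt N15797 (iv1 D51240)) (tt N31360 F80830) (tt N31358 F102788) (tt N59195 D111106) (tt N20163 (iv4 F80831)) (tt N41456 (iv5 F177274)) (tt N59196 D111108) (tt N31359 (iv7 F102787)))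
theorem Q31527 : ∀ i, i < 31527 → P i := stepQ 31526 Q31526 (allL N31526 (tt N59197 D111109) (tt N59198 D111110) (tt N59191 (iv2 F172292)) (tt N15799 F80832) (tt N39617 (iv4 F100503)) (tt N47087 F333001) (tt N15797 (iv6 D51241)) (tt N59199 D111111))
theorem Q31528 : ∀ i, i < 31528 → P i := stepQ 31527 Q31527 (allL N31527 (tt N59200 D111112) (tt N59201 D111113) (tt N59162 (iv2 F172248)) (tt N15800 F80833) (tt N39578 F338258) (tt N59202 D111114) (tt N15798 (iv6 D51242)) (tt N59091 (iv7 F172009)))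
theorem Q31529 : ∀ i, i < 31529 → P i := stepQ 31528 Q31528 (allL N31528 (tt N31469 (iv1 F80838)) (tt N15799 (iv0 D51243)) (tt N30346 F165542) (tt N58179 (iv3 F351098)) (tt N29952 F165543) (tt N58178 (iv5 F351077)) (tt N59203 D111117) (tt N30350 (iv7 F165549)))
theorem Q31530 : ∀ i, i < 31530 → P i := stepQ 31529 Q31529 (allL N31529 (tt N15799 (iv1 D51244)) (tt N31469 F80834) (tt N30350 (iv2 F165548)) (tt N59204 D111118) (tt N29953 F165545) (tt N59205 D111119) (tt N59206 D111120) (tt N30346 (iv7 F165541)))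
theorem Q31531 : ∀ i, i < 31531 → P i := stepQ 31530 Q31530 (allL N31530 (tt N30350 (iv1 F165547)) (tt N30346 (iv0 F165539)) (tt N31469 F80835) (tt N59199 (iv3 F172314)) (tt N18026 F80836) (tt N59094 (iv5 F172010)) (tt N18025 F80837) (tt N15799 (iv7 D51245)))
theorem Q31532 : ∀ i, i < 31532 → P i := stepQ 31531 Q31531 (allL N31531 (tt N59207 D111121) (tt N59208 D111122) (tt N31468 F80841) (tt N59202 (iv3 F172316)) (tt N59209 D111123) (tt N15800 (iv5 D51248)) (tt N18024 F80842) (tt N59095 (iv7 F172012)))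
theorem Q31533 : ∀ i, i < 31533 → P i := stepQ 31532 Q31532 (allL N31532 (tt N44457 (iv1 F112162)) (tt N31478 (iv0 F80844)) (tt N36237 (iv2 F100241)) (tt N41087 (iv3 F168099)) (tt N59210 D111124) (tt N15801 (iv5 D51252)) (tt N41202 (iv6 F103629)) (tt N41453 (iv7 F104269)))
theorem Q31534 : ∀ i, i < 31534 → P i := stepQ 31533 Q31533 (allL N31533 (tt N36179 F96449) (tt N41191 (iv0 F103526)) (tt N36238 (iv2 F100242)) (tt N41088 (iv3 F168100)) (tt N57149 (iv4 F165438)) (tt N30021 F80845) (tt N15801 (iv6 D51253)) (tt N37729 F100263))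
theorem Q31535 : ∀ i, i < 31535 → P i := stepQ 31534 Q31534 (allL N31534 (tt N31478 (iv1 F100275)) (tt N44457 (iv0 F112161)) (tt N41453 (iv2 F104268)) (tt N20859 (iv3 F100234)) (tt N59211 D111125) (tt N15802 (iv5 D51257)) (tt N20858 (iv6 F100154)) (tt N36237 F100231))
theorem Q31536 : ∀ i, i < 31536 → P i := stepQ 31535 Q31535 (allL N31535 (tt N41512 (iv1 F104335)) (tt N41515 F104341) (tt N41454 (iv2 F104272)) (tt N18121 F100166) (tt N57151 (iv4 F165439)) (tt N18079 F80848) (tt N15802 (iv6 D51258)) (tt N35893 F100167))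
theorem Q31537 : ∀ i, i < 31537 → P i := stepQ 31536 Q31536 (allL N31536 (tt N59212 D111126) (tt N59213 D111127) (tt N59214 D111128) (tt N15803 (iv3 D51259)) (tt N30701 F80849) (tt N59215 D111129) (tt N59216 D111130) (tt N31569 (iv7 F80911)))
theorem Q31538 : ∀ i, i < 31538 → P i := stepQ 31537 Q31537 (allL N31537 (tt N44336 (iv1 F111687)) (tt N44335 F111684) (tt N20206 F80850) (tt N59215 (iv3 F172341)) (tt N19602 F80851) (tt N15803 (iv5 D51260)) (tt N59217 D111131) (tt N31570 (iv7 F80913)))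
theorem Q31539 : ∀ i, i < 31539 → P i := stepQ 31538 Q31538 (allL N31538 (tt N59218 D111132) (tt N59219 D111133) (tt N20207 F80852) (tt N59216 (iv3 F172342)) (tt N15804 F80853) (tt N59220 D111134) (tt N15803 (iv6 D51261)) (tt N59221 D111135))
theorem Q31540 : ∀ i, i < 31540 → P i := stepQ 31539 Q31539 (allL N31539 (tt N20210 (iv1 F80862)) (tt N15804 (iv0 D51262)) (tt N20208 F101219) (tt N44186 F111313) (tt N59222 D111136) (tt N22664 F80855) (tt N20307 F80854) (tt N20209 F101220))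
theorem Q31541 : ∀ i, i < 31541 → P i := stepQ 31540 Q31540 (allL N31540 (tt N15804 (iv1 D51263)) (tt N20210 F80856) (tt N20209 F101222) (tt N32121 (iv3 F111334)) (tt N59223 D111137) (tt N22663 (iv5 F80857)) (tt N41061 (iv6 F168316)) (tt N20208 F101223))
theorem Q31542 : ∀ i, i < 31542 → P i := stepQ 31541 Q31541 (allL N31541 (tt N20209 (iv1 F80863)) (tt N20208 F80865) (tt N20210 F80858) (tt N30706 F80859) (tt N59221 (iv4 F172356)) (tt N20597 F80860) (tt N20322 F80861) (tt N15804 (iv7 D51264)))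
theorem Q31543 : ∀ i, i < 31543 → P i := stepQ 31542 Q31542 (allL N31542 (tt N59224 D111138) (tt N59225 D111139) (tt N59226 D111140) (tt N15805 (iv3 D51265)) (tt N30707 F80866) (tt N59227 D111141) (tt N59228 D111142) (tt N31572 (iv7 F80918)))
theorem Q31544 : ∀ i, i < 31544 → P i := stepQ 31543 Q31543 (allL N31543 (tt N34892 F329490) (tt N34975 F329491) (tt N20237 F80867) (tt N59227 (iv3 F172369)) (tt N19594 F80868) (tt N15805 (iv5 D51266)) (tt N59229 D111143) (tt N31573 (iv7 F80920)))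
theorem Q31545 : ∀ i, i < 31545 → P i := stepQ 31544 Q31544 (allL N31544 (tt N59230 D111144) (tt N59231 D111145) (tt N20238 F80869) (tt N59228 (iv3 F172370)) (tt N15806 F80870) (tt N59232 D111146) (tt N15805 (iv6 D51267)) (tt N59233 D111147))
theorem Q31546 : ∀ i, i < 31546 → P i := stepQ 31545 Q31545 (allL N31545 (tt N20241 F80872) (tt N15806 (iv0 D51268)) (tt N20239 F102479) (tt N44218 F163555) (tt N59234 D111148) (tt N58223 F169018) (tt N16732 (iv6 F84549)) (tt N20240 F102480))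
theorem Q31547 : ∀ i, i < 31547 → P i := stepQ 31546 Q31546 (allL N31546 (tt N15806 (iv1 D51269)) (tt N20241 F80873) (tt N20240 F102476) (tt N32191 F161359) (tt N59235 D111149) (tt N31779 (iv5 F81292)) (tt N59236 D111150) (tt N20239 F102477))
theorem Q31548 : ∀ i, i < 31548 → P i := stepQ 31547 Q31547 (allL N31547 (tt N20240 (iv1 F80877)) (tt N20239 F80878) (tt N20241 F80874) (tt N30711 F80875) (tt N59233 (iv4 F172386)) (tt N30787 F80876) (tt N31576 (iv6 F80928)) (tt N15806 (iv7 D51270)))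
theorem Q31549 : ∀ i, i < 31549 → P i := stepQ 31548 Q31548 (allL N31548 (tt N59237 D111151) (tt N59238 D111152) (tt N59239 D111153) (tt N15807 (iv3 D51271)) (tt N57308 (iv4 F166013)) (tt N59240 D111154) (tt N59241 D111155) (tt N31580 (iv7 F80942)))
theorem Q31550 : ∀ i, i < 31550 → P i := stepQ 31549 Q31549 (allL N31549 (tt N17753 F328728) (tt N39859 (iv0 F100738)) (tt N31578 (iv2 F80937)) (tt N59240 (iv3 F172402)) (tt N19585 F80879) (tt N15807 (iv5 D51272)) (tt N59242 D111156) (tt N31581 (iv7 F80944)))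
theorem Q31551 : ∀ i, i < 31551 → P i := stepQ 31550 Q31550 (allL N31550 (tt N59234 (iv1 F172396)) (tt N59235 (iv0 F172395)) (tt N31579 (iv2 F80940)) (tt N59241 (iv3 F172403)) (tt N31399 F80880) (tt N59243 D111157) (tt N15807 (iv6 D51273)) (tt N59244 D111158))
theorem Q31552 : ∀ i, i < 31552 → P i := stepQ 31551 Q31551 (allL N31551 (tt N59245 D111159) (tt N59246 D111160) (tt N59247 D111161) (tt N15808 (iv3 D51274)) (tt N44171 (iv4 F111022)) (tt N59248 D111162) (tt N59249 D111163) (tt N31577 (iv7 F80936)))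
theorem Q31553 : ∀ i, i < 31553 → P i := stepQ 31552 Q31552 (allL N31552 (tt N39859 (iv1 F100739)) (tt N17753 F328727) (tt N31581 (iv2 F80943)) (tt N59248 (iv3 F172412)) (tt N19577 F80881) (tt N15808 (iv5 D51275)) (tt N59250 D111164) (tt N31578 (iv7 F80938)))
theorem Q31554 : ∀ i, i < 31554 → P i := stepQ 31553 Q31553 (allL N31553 (tt N44392 F165805) (tt N44394 (iv0 F167967)) (tt N31582 (iv2 F80945)) (tt N59249 (iv3 F172413)) (tt N31400 F80882) (tt N59251 D111165) (tt N15808 (iv6 D51276)) (tt N59252 D111166))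
theorem Q31555 : ∀ i, i < 31555 → P i := stepQ 31554 Q31554 (allL N31554 (tt N59253 D111167) (tt N15809 (iv0 D51277)) (tt N59254 D111168) (tt N59255 D111169) (tt N59256 D111170) (tt N59257 D111171) (tt N59258 D111172) (tt N59259 D111173))
theorem Q31556 : ∀ i, i < 31556 → P i := stepQ 31555 Q31555 (allL N31555 (tt N15809 (iv1 D51278)) (tt N59253 F172419) (tt N59259 (iv2 F172422)) (tt N51105 (iv3 F347693)) (tt N59260 D111175) (tt N59261 D111176) (tt N51104 (iv6 F347691)) (tt N59254 F172420))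
theorem Q31557 : ∀ i, i < 31557 → P i := stepQ 31556 Q31556 (allL N31556 (tt N59254 (iv1 F357669)) (tt N59259 (iv0 F357627)) (tt N15809 (iv2 D51279)) (tt N31585 (iv3 F80947)) (tt N32198 (iv4 F82516)) (tt N59262 D111180) (tt N38392 (iv6 F98185)) (tt N59253 (iv7 F172418)))
theorem Q31558 : ∀ i, i < 31558 → P i := stepQ 31557 Q31557 (allL N31557 (tt N59263 D111181) (tt N59264 D111182) (tt N59262 (iv2 F172426)) (tt N15810 F80883) (tt N59265 D111183) (tt N15809 (iv5 D51280)) (tt N35137 (iv6 F329885)) (tt N59266 D111185))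
theorem Q31559 : ∀ i, i < 31559 → P i := stepQ 31558 Q31558 (allL N31558 (tt N59259 (iv1 F357628)) (tt N59254 (iv0 F357668)) (tt N59253 F172417) (tt N15811 F80884) (tt N32200 (iv4 F82519)) (tt N59266 (iv5 F172429)) (tt N59267 D111186) (tt N15809 (iv7 D51281)))
theorem Q31560 : ∀ i, i < 31560 → P i := stepQ 31559 Q31559 (allL N31559 (tt N19603 (iv1 F80887)) (tt N15810 (iv0 D51282)) (tt N31588 F80955) (tt N59268 D111187) (tt N19568 (iv4 F80886)) (tt N19548 F80885) (tt N59269 D111188) (tt N31589 F80954))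
theorem Q31561 : ∀ i, i < 31561 → P i := stepQ 31560 Q31560 (allL N31560 (tt N15810 (iv1 D51283)) (tt N19603 F80888) (tt N31589 F80953) (tt N59270 D111189) (tt N19556 (iv4 F80890)) (tt N19564 F80889) (tt N35118 F356355) (tt N31588 (iv7 F80956)))
theorem Q31562 : ∀ i, i < 31562 → P i := stepQ 31561 Q31561 (allL N31561 (tt N19602 F80893) (tt N19601 F80894) (tt N19605 F80891) (tt N59271 D111191) (tt N15810 (iv4 D51284)) (tt N19539 F80892) (tt N35138 (iv6 F329886)) (tt N19538 F80895))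
theorem Q31563 : ∀ i, i < 31563 → P i := stepQ 31562 Q31562 (allL N31562 (tt N31589 (iv1 F80951)) (tt N31588 F80950) (tt N19603 F80896) (tt N59266 (iv3 F172428)) (tt N19538 F80897) (tt N15811 F80898) (tt N59272 D111196) (tt N15810 (iv7 D51286)))
theorem Q31564 : ∀ i, i < 31564 → P i := stepQ 31563 Q31563 (allL N31563 (tt N59273 D111197) (tt N59274 D111198) (tt N31591 (iv2 F80958)) (tt N59267 (iv3 F172430)) (tt N15812 F80899) (tt N59275 D111199) (tt N15811 (iv6 D51287)) (tt N20302 F80900))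
theorem Q31565 : ∀ i, i < 31565 → P i := stepQ 31564 Q31564 (allL N31564 (tt N16681 (iv1 F80901)) (tt N15812 (iv0 D51288)) (tt N16789 F168217) (tt N20418 F168218) (tt N59051 F171828) (tt N40081 (iv5 F101142)) (tt N59276 D111200) (tt N20303 F101134))
theorem Q31566 : ∀ i, i < 31566 → P i := stepQ 31565 Q31565 (allL N31565 (tt N59277 D111201) (tt N39937 (iv0 F169196)) (tt N22625 F80903) (tt N29932 F80904) (tt N30618 F80905) (tt N31667 (iv5 F81145)) (tt N15814 (iv6 D51290)) (tt N58071 (iv7 F168821)))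
theorem Q31567 : ∀ i, i < 31567 → P i := stepQ 31566 Q31566 (allL N31566 (tt N59278 D111202) (tt N59279 D111203) (tt N59280 D111204) (tt N15815 (iv3 D51291)) (tt N15825 F80906) (tt N59281 D111205) (tt N38395 (iv6 F98194)) (tt N57564 (iv7 F167123)))
theorem Q31568 : ∀ i, i < 31568 → P i := stepQ 31567 Q31567 (allL N31567 (tt N57501 (iv1 F166945)) (tt N57503 (iv0 F166950)) (tt N32205 (iv2 F82524)) (tt N59281 (iv3 F172463)) (tt N44196 (iv4 F111085)) (tt N15815 (iv5 D51292)) (tt N59282 D111206) (tt N57541 (iv7 F167081)))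
theorem Q31569 : ∀ i, i < 31569 → P i := stepQ 31568 Q31568 (allL N31568 (tt N30349 F168328) (tt N33206 F168329) (tt N32207 (iv2 F82531)) (tt N15828 F80907) (tt N57565 (iv4 F167124)) (tt N31568 F80908) (tt N15816 (iv6 D51293)) (tt N30239 F80909))
theorem Q31570 : ∀ i, i < 31570 → P i := stepQ 31569 Q31569 (allL N31569 (tt N53583 (iv1 F342223)) (tt N59283 D111208) (tt N59284 D111209) (tt N15817 (iv3 D51294)) (tt N30746 F80910) (tt N59285 D111210) (tt N59286 D111211) (tt N31536 F80911))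
theorem Q31571 : ∀ i, i < 31571 → P i := stepQ 31570 Q31570 (allL N31570 (tt N31402 F80914) (tt N39870 F100770) (tt N22679 F80912) (tt N59285 (iv3 F172471)) (tt N37656 (iv4 F96397)) (tt N15817 (iv5 D51295)) (tt N34867 F356485) (tt N31537 F80913))
theorem Q31572 : ∀ i, i < 31572 → P i := stepQ 31571 Q31571 (allL N31571 (tt N40113 F103415) (tt N33262 (iv0 F84349)) (tt N22680 F80915) (tt N59286 (iv3 F172473)) (tt N15818 F80916) (tt N59287 D111213) (tt N15817 (iv6 D51296)) (tt N40097 (iv7 F101154)))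
theorem Q31573 : ∀ i, i < 31573 → P i := stepQ 31572 Q31572 (allL N31572 (tt N59288 D111214) (tt N59289 D111215) (tt N49819 (iv2 F329725)) (tt N15821 (iv3 D51297)) (tt N30751 F80917) (tt N49432 (iv5 F335713)) (tt N27002 F335711) (tt N31542 F80918))
theorem Q31574 : ∀ i, i < 31574 → P i := stepQ 31573 Q31573 (allL N31573 (tt N39929 (iv1 F100881)) (tt N17715 F329212) (tt N22711 F80919) (tt N49432 (iv3 F335712)) (tt N37711 (iv4 F96502)) (tt N15821 (iv5 D51298)) (tt N46759 (iv6 F329502)) (tt N31543 F80920))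
theorem Q31575 : ∀ i, i < 31575 → P i := stepQ 31574 Q31574 (allL N31574 (tt N53516 F329531) (tt N40554 (iv0 F171640)) (tt N22712 F80921) (tt N27002 (iv3 F335675)) (tt N15822 F80922) (tt N27001 F335659) (tt N15821 (iv6 D51299)) (tt N53523 (iv7 F329692)))
theorem Q31576 : ∀ i, i < 31576 → P i := stepQ 31575 Q31575 (allL N31575 (tt N22715 F80924) (tt N15822 (iv0 D51300)) (tt N22713 F102165) (tt N39383 (iv3 F164929)) (tt N59290 D111223) (tt N30754 F80923) (tt N40575 (iv6 F102203)) (tt N22714 (iv7 F102108)))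
theorem Q31577 : ∀ i, i < 31577 → P i := stepQ 31576 Q31576 (allL N31576 (tt N22714 (iv1 F80929)) (tt N22713 F80933) (tt N22715 F80925) (tt N30756 F80926) (tt N53523 (iv4 F329690)) (tt N30139 F80927) (tt N31547 F80928) (tt N15822 (iv7 D51301)))
theorem Q31578 : ∀ i, i < 31578 → P i := stepQ 31577 Q31577 (allL N31577 (tt N59291 D111224) (tt N59292 D111225) (tt N59293 D111226) (tt N15823 (iv3 D51302)) (tt N22639 F80935) (tt N59294 D111227) (tt N59295 D111228) (tt N31551 F80936))
theorem Q31579 : ∀ i, i < 31579 → P i := stepQ 31578 Q31578 (allL N31578 (tt N34909 F329100) (tt N35053 F329101) (tt N31549 F80937) (tt N59294 (iv3 F172513)) (tt N30867 F80939) (tt N15823 (iv5 D51303)) (tt N59296 D111229) (tt N31552 F80938))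
theorem Q31580 : ∀ i, i < 31580 → P i := stepQ 31579 Q31579 (allL N31579 (tt N39935 (iv1 F172392)) (tt N39938 (iv0 F101612)) (tt N31550 F80940) (tt N59295 (iv3 F172515)) (tt N40339 F101611) (tt N59297 D111230) (tt N15823 (iv6 D51304)) (tt N59298 D111231))
theorem Q31581 : ∀ i, i < 31581 → P i := stepQ 31580 Q31580 (allL N31580 (tt N59299 D111232) (tt N59300 D111233) (tt N51204 (iv2 F335394)) (tt N15824 (iv3 D51305)) (tt N30475 F80941) (tt N43755 (iv5 F335398)) (tt N27062 F335391) (tt N31548 F80942))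
theorem Q31582 : ∀ i, i < 31582 → P i := stepQ 31581 Q31581 (allL N31581 (tt N35053 F329098) (tt N34909 F329099) (tt N31552 F80943) (tt N43755 F335399) (tt N38414 (iv4 F98244)) (tt N15824 (iv5 D51306)) (tt N49625 (iv6 F356361)) (tt N31549 F80944))
theorem Q31583 : ∀ i, i < 31583 → P i := stepQ 31582 Q31582 (allL N31582 (tt N59290 (iv1 F172503)) (tt N40565 (iv0 F101922)) (tt N31553 F80945) (tt N27062 (iv3 F335384)) (tt N30474 F80946) (tt N49626 (iv5 F335388)) (tt N15824 (iv6 D51307)) (tt N51205 F335383))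
theorem Q31584 : ∀ i, i < 31584 → P i := stepQ 31583 Q31583 (allL N31583 (tt N59301 D111240) (tt N15825 (iv0 D51308)) (tt N59302 D111241) (tt N59303 D111242) (tt N59304 D111243) (tt N59305 D111244) (tt N59306 D111245) (tt N59307 D111246))
theorem Q31585 : ∀ i, i < 31585 → P i := stepQ 31584 Q31584 (allL N31584 (tt N15825 (iv1 D51309)) (tt N59301 F172548) (tt N59307 (iv2 F172550)) (tt N42978 F316922) (tt N59308 D111248) (tt N59309 D111249) (tt N42983 (iv6 F319245)) (tt N59302 F172549))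
theorem Q31586 : ∀ i, i < 31586 → P i := stepQ 31585 Q31585 (allL N31585 (tt N59302 (iv1 F210276)) (tt N59307 (iv0 F210279)) (tt N15825 (iv2 D51310)) (tt N31556 F80947) (tt N59280 (iv4 F172462)) (tt N41919 F331639) (tt N38402 (iv6 F98208)) (tt N59301 (iv7 F172547)))
theorem Q31587 : ∀ i, i < 31587 → P i := stepQ 31586 Q31586 (allL N31586 (tt N41872 (iv1 F331636)) (tt N41921 (iv0 F331633)) (tt N41919 (iv2 F331631)) (tt N15826 F80948) (tt N59310 D111256) (tt N15825 (iv5 D51311)) (tt N44036 (iv6 F331637)) (tt N38558 (iv7 F98422)))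
theorem Q31588 : ∀ i, i < 31588 → P i := stepQ 31587 Q31587 (allL N31587 (tt N59307 (iv1 F210280)) (tt N59302 (iv0 F210275)) (tt N59301 F172545) (tt N15827 F80949) (tt N57564 (iv4 F167122)) (tt N38558 (iv5 F98421)) (tt N59311 D111258) (tt N15825 (iv7 D51312)))
theorem Q31589 : ∀ i, i < 31589 → P i := stepQ 31588 Q31588 (allL N31588 (tt N31562 (iv1 F80950)) (tt N15826 (iv0 D51313)) (tt N31559 (iv2 F80955)) (tt N59312 D111259) (tt N38411 (iv4 F98237)) (tt N38406 (iv5 F98219)) (tt N59313 D111260) (tt N31560 F80956))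
theorem Q31590 : ∀ i, i < 31590 → P i := stepQ 31589 Q31589 (allL N31589 (tt N15826 (iv1 D51314)) (tt N31562 F80951) (tt N31560 (iv2 F80953)) (tt N59314 D111261) (tt N38409 (iv4 F98232)) (tt N30459 F80952) (tt N59315 D111262) (tt N31559 (iv7 F80954)))
theorem Q31591 : ∀ i, i < 31591 → P i := stepQ 31590 Q31590 (allL N31590 (tt N17691 F342785) (tt N17791 (iv0 F342786)) (tt N17789 F329884) (tt N44036 F331640) (tt N38563 (iv4 F98424)) (tt N38405 (iv5 F98216)) (tt N15826 (iv6 D51315)) (tt N17788 (iv7 F329924)))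
theorem Q31592 : ∀ i, i < 31592 → P i := stepQ 31591 Q31591 (allL N31591 (tt N40052 (iv1 F101079)) (tt N40051 F101078) (tt N31563 F80958) (tt N59311 (iv3 F172558)) (tt N15828 F80959) (tt N59316 D111266) (tt N15827 (iv6 D51316)) (tt N33257 (iv7 F84338)))
theorem Q31593 : ∀ i, i < 31593 → P i := stepQ 31592 Q31592 (allL N31592 (tt N59317 D111267) (tt N59318 D111268) (tt N29481 F80960) (tt N15833 F80961) (tt N58858 (iv4 F171170)) (tt N19710 F80962) (tt N15829 (iv6 D51317)) (tt N59319 D111269))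
theorem Q31594 : ∀ i, i < 31594 → P i := stepQ 31593 Q31593 (allL N31593 (tt N18043 F80966) (tt N20478 F80967) (tt N15849 F80963) (tt N59320 D111270) (tt N15831 (iv4 D51318)) (tt N31741 (iv5 F81265)) (tt N30901 F80964) (tt N15847 F80965))
theorem Q31595 : ∀ i, i < 31595 → P i := stepQ 31594 Q31594 (allL N31594 (tt N59321 D111271) (tt N59322 D111272) (tt N59323 D111273) (tt N15832 (iv3 D51319)) (tt N58857 (iv4 F171167)) (tt N59324 D111274) (tt N59325 D111275) (tt N15869 F80968))
theorem Q31596 : ∀ i, i < 31596 → P i := stepQ 31595 Q31595 (allL N31595 (tt N38394 (iv1 F98191)) (tt N38389 (iv0 F98183)) (tt N15854 F80969) (tt N59324 (iv3 F172600)) (tt N16688 F80971) (tt N15832 (iv5 D51320)) (tt N59326 D111276) (tt N15870 F80970))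
theorem Q31597 : ∀ i, i < 31597 → P i := stepQ 31596 Q31596 (allL N31596 (tt N59327 D111277) (tt N58824 F170840) (tt N15855 F80972) (tt N59325 (iv3 F172602)) (tt N15833 F80973) (tt N49455 (iv5 F327460)) (tt N15832 (iv6 D51321)) (tt N59328 D111279))
theorem Q31598 : ∀ i, i < 31598 → P i := stepQ 31597 Q31597 (allL N31597 (tt N15833 (iv1 D51323)) (tt N15859 F80976) (tt N15857 F164330) (tt N30782 F164120) (tt N59329 D111280) (tt N19558 (iv5 F80977)) (tt N58359 (iv6 F169180)) (tt N15856 F164331))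
theorem Q31599 : ∀ i, i < 31599 → P i := stepQ 31598 Q31598 (allL N31598 (tt N15857 (iv1 F80982)) (tt N15856 F80983) (tt N15859 F80978) (tt N59319 (iv3 F172585)) (tt N59328 (iv4 F172617)) (tt N19716 F80979) (tt N15874 F80980) (tt N15833 (iv7 D51324)))
theorem Q31600 : ∀ i, i < 31600 → P i := stepQ 31599 Q31599 (allL N31599 (tt N59330 D111281) (tt N59331 D111282) (tt N59332 D111283) (tt N15834 (iv3 D51325)) (tt N29488 F80984) (tt N59333 D111284) (tt N59334 D111285) (tt N15853 F80985))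
theorem Q31601 : ∀ i, i < 31601 → P i := stepQ 31600 Q31600 (allL N31600 (tt N38389 (iv1 F98184)) (tt N38394 (iv0 F98190)) (tt N15870 F80986) (tt N59333 (iv3 F172633)) (tt N20305 F80987) (tt N15834 (iv5 D51326)) (tt N59335 D111286) (tt N15854 F80988))
theorem Q31602 : ∀ i, i < 31602 → P i := stepQ 31601 Q31601 (allL N31601 (tt N59336 D111287) (tt N30845 (iv0 F94230)) (tt N15871 F80989) (tt N59334 (iv3 F172635)) (tt N15835 F80990) (tt N57829 (iv5 F336715)) (tt N15834 (iv6 D51327)) (tt N57828 (iv7 F336721)))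
theorem Q31603 : ∀ i, i < 31603 → P i := stepQ 31602 Q31602 (allL N31602 (tt N15874 (iv1 F80996)) (tt N15835 (iv0 D51328)) (tt N15872 (iv2 F80992)) (tt N30787 F80993) (tt N59337 D111290) (tt N30711 F80991) (tt N30836 (iv6 F80995)) (tt N15873 F80994))
theorem Q31604 : ∀ i, i < 31604 → P i := stepQ 31603 Q31603 (allL N31603 (tt N15873 (iv1 F81000)) (tt N15872 F81001) (tt N15874 F80997) (tt N29492 F80998) (tt N57828 (iv4 F336719)) (tt N33216 (iv5 F84209)) (tt N15859 F80999) (tt N15835 (iv7 D51329)))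
theorem Q31605 : ∀ i, i < 31605 → P i := stepQ 31604 Q31604 (allL N31604 (tt N59338 D111291) (tt N59339 D111292) (tt N29494 F81002) (tt N15838 F81003) (tt N57490 (iv4 F166905)) (tt N30247 F81004) (tt N15836 (iv6 D51330)) (tt N59340 D111293))
theorem Q31606 : ∀ i, i < 31606 → P i := stepQ 31605 Q31605 (allL N31605 (tt N15839 (iv1 F81007)) (tt N15837 (iv0 D51331)) (tt N15875 (iv2 F81006)) (tt N59341 D111294) (tt N16679 F81005) (tt N38394 (iv5 F98188)) (tt N59342 D111295) (tt N15876 F81008))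
theorem Q31607 : ∀ i, i < 31607 → P i := stepQ 31606 Q31606 (allL N31606 (tt N59343 D111296) (tt N59344 D111297) (tt N59345 D111298) (tt N15837 (iv3 D51332)) (tt N57488 (iv4 F166882)) (tt N59346 D111299) (tt N59347 D111300) (tt N15886 F81009))
theorem Q31608 : ∀ i, i < 31608 → P i := stepQ 31607 Q31607 (allL N31607 (tt N31644 (iv1 F81101)) (tt N31641 (iv0 F81096)) (tt N15878 F81010) (tt N59346 (iv3 F172692)) (tt N16729 F81012) (tt N15837 (iv5 D51333)) (tt N58718 (iv6 F341350)) (tt N15887 F81011))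
theorem Q31609 : ∀ i, i < 31609 → P i := stepQ 31608 Q31608 (allL N31608 (tt N59348 D111302) (tt N59349 D111303) (tt N15879 F81013) (tt N59347 (iv3 F172694)) (tt N15838 F81014) (tt N46737 F341332) (tt N15837 (iv6 D51334)) (tt N59350 D111305))
theorem Q31610 : ∀ i, i < 31610 → P i := stepQ 31609 Q31609 (allL N31609 (tt N15838 (iv1 D51336)) (tt N15883 F81015) (tt N15881 F101117) (tt N30793 F168243) (tt N59351 D111306) (tt N59276 (iv5 F172453)) (tt N40080 (iv6 F101115)) (tt N15880 F101118))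
theorem Q31611 : ∀ i, i < 31611 → P i := stepQ 31610 Q31610 (allL N31610 (tt N15881 (iv1 F81019)) (tt N15880 F81020) (tt N15883 F81016) (tt N59340 (iv3 F172669)) (tt N59350 (iv4 F172708)) (tt N31676 (iv5 F81170)) (tt N15892 F81017) (tt N15838 (iv7 D51337)))
theorem Q31612 : ∀ i, i < 31612 → P i := stepQ 31611 Q31611 (allL N31611 (tt N59352 D111307) (tt N59353 D111308) (tt N59354 D111309) (tt N15839 (iv3 D51338)) (tt N18172 F81021) (tt N59355 D111310) (tt N59356 D111311) (tt N15877 F81022))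
theorem Q31613 : ∀ i, i < 31613 → P i := stepQ 31612 Q31612 (allL N31612 (tt N31641 (iv1 F81097)) (tt N31644 (iv0 F81100)) (tt N15887 F81023) (tt N59355 (iv3 F172724)) (tt N20521 F81024) (tt N15839 (iv5 D51339)) (tt N59357 D111312) (tt N15878 F81025))
theorem Q31614 : ∀ i, i < 31614 → P i := stepQ 31613 Q31613 (allL N31613 (tt N59358 D111313) (tt N59359 D111314) (tt N15888 F81026) (tt N59356 (iv3 F172726)) (tt N15840 F81027) (tt N59360 D111315) (tt N15839 (iv6 D51340)) (tt N59361 D111316))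
theorem Q31615 : ∀ i, i < 31615 → P i := stepQ 31614 Q31614 (allL N31614 (tt N15892 (iv1 F81034)) (tt N15840 (iv0 D51341)) (tt N15889 F101653) (tt N30798 (iv3 F168283)) (tt N59362 D111317) (tt N30862 F81028) (tt N40359 (iv6 F101656)) (tt N15890 F101654))
theorem Q31616 : ∀ i, i < 31616 → P i := stepQ 31615 Q31615 (allL N31615 (tt N15890 (iv1 F81035)) (tt N15889 F81038) (tt N15892 F81030) (tt N29500 F81031) (tt N59361 (iv4 F172735)) (tt N19691 F81032) (tt N15883 F81033) (tt N15840 (iv7 D51343)))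
theorem Q31617 : ∀ i, i < 31617 → P i := stepQ 31616 Q31616 (allL N31616 (tt N59363 D111318) (tt N59364 D111319) (tt N59365 D111320) (tt N15841 (iv3 D51344)) (tt N18075 F81039) (tt N59366 D111321) (tt N59367 D111322) (tt N15897 F81040))
theorem Q31618 : ∀ i, i < 31618 → P i := stepQ 31617 Q31617 (allL N31617 (tt N31638 (iv1 F81091)) (tt N31632 (iv0 F81073)) (tt N15895 F81041) (tt N59366 (iv3 F172758)) (tt N36109 (iv4 F93964)) (tt N15841 (iv5 D51345)) (tt N58722 (iv6 F343750)) (tt N15899 F81042))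
theorem Q31619 : ∀ i, i < 31619 → P i := stepQ 31618 Q31618 (allL N31618 (tt N31150 F100284) (tt N59351 (iv0 F172714)) (tt N15896 F81043) (tt N59367 (iv3 F172760)) (tt N18073 F81044) (tt N34995 F343733) (tt N15841 (iv6 D51346)) (tt N34994 (iv7 F343741)))
theorem Q31620 : ∀ i, i < 31620 → P i := stepQ 31619 Q31619 (allL N31619 (tt N59368 D111326) (tt N59369 D111327) (tt N59370 D111328) (tt N15842 (iv3 D51347)) (tt N39219 (iv4 F99655)) (tt N59371 D111329) (tt N59372 D111330) (tt N15893 F81045))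
theorem Q31621 : ∀ i, i < 31621 → P i := stepQ 31620 Q31620 (allL N31620 (tt N31632 (iv1 F81074)) (tt N31638 (iv0 F81090)) (tt N15899 F81046) (tt N59371 (iv3 F172775)) (tt N38398 (iv4 F98201)) (tt N15842 (iv5 D51348)) (tt N59373 D111331) (tt N15895 F81047))
theorem Q31622 : ∀ i, i < 31622 → P i := stepQ 31621 Q31621 (allL N31621 (tt N59362 (iv1 F172745)) (tt N31182 F171523) (tt N15900 F81048) (tt N59372 (iv3 F172777)) (tt N38397 (iv4 F98198)) (tt N59374 D111332) (tt N15842 (iv6 D51349)) (tt N59375 D111333))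
theorem Q31623 : ∀ i, i < 31623 → P i := stepQ 31622 Q31622 (allL N31622 (tt N58712 (iv1 F170398)) (tt N15843 (iv0 D51350)) (tt N59376 D111334) (tt N59377 D111335) (tt N59378 D111336) (tt N59379 D111337) (tt N59380 D111338) (tt N59381 D111339))
theorem Q31624 : ∀ i, i < 31624 → P i := stepQ 31623 Q31623 (allL N31623 (tt N15843 (iv1 D51351)) (tt N58712 F170397) (tt N59381 (iv2 F172786)) (tt N59382 D111340) (tt N59383 D111341) (tt N59384 D111342) (tt N59385 D111343) (tt N59376 F172784))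
theorem Q31625 : ∀ i, i < 31625 → P i := stepQ 31624 Q31624 (allL N31624 (tt N59376 (iv1 F361206)) (tt N59381 (iv0 F361209)) (tt N15843 (iv2 D51352)) (tt N15903 F81049) (tt N30808 F81050) (tt N59386 D111346) (tt N30808 F81051) (tt N58712 (iv7 F170396)))
theorem Q31626 : ∀ i, i < 31626 → P i := stepQ 31625 Q31625 (allL N31625 (tt N59387 D111347) (tt N59388 D111348) (tt N59386 (iv2 F172790)) (tt N15844 F81052) (tt N59389 D111349) (tt N15843 (iv5 D51353)) (tt N59390 D111350) (tt N59045 (iv7 F171821)))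
theorem Q31627 : ∀ i, i < 31627 → P i := stepQ 31626 Q31626 (allL N31626 (tt N59381 (iv1 F361210)) (tt N59376 (iv0 F361205)) (tt N58712 (iv2 F170394)) (tt N15845 F81053) (tt N30810 F81054) (tt N59045 (iv5 F171820)) (tt N30182 F330486) (tt N15843 (iv7 D51354)))
theorem Q31628 : ∀ i, i < 31628 → P i := stepQ 31627 Q31627 (allL N31627 (tt N15909 (iv1 F81056)) (tt N15844 (iv0 D51355)) (tt N15905 (iv2 F81057)) (tt N59391 D111352) (tt N36067 (iv4 F93906)) (tt N18043 F81055) (tt N59392 D111353) (tt N15906 (iv7 F81058)))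
theorem Q31629 : ∀ i, i < 31629 → P i := stepQ 31628 Q31628 (allL N31628 (tt N15844 (iv1 D51356)) (tt N15909 F81059) (tt N15906 (iv2 F81062)) (tt N59393 D111354) (tt N38404 (iv4 F98211)) (tt N20478 F81061) (tt N59394 D111355) (tt N15905 F81060))
theorem Q31630 : ∀ i, i < 31630 → P i := stepQ 31629 Q31629 (allL N31629 (tt N59395 D111356) (tt N59396 D111357) (tt N15908 F81063) (tt N59390 (iv3 F172792)) (tt N59050 (iv4 F171825)) (tt N30813 F81064) (tt N15844 (iv6 D51357)) (tt N59397 D111358))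
theorem Q31631 : ∀ i, i < 31631 → P i := stepQ 31630 Q31630 (allL N31630 (tt N31003 (iv1 F81068)) (tt N31002 F81069) (tt N15910 F81065) (tt N30182 (iv3 F330484)) (tt N15846 F81066) (tt N30181 F330482) (tt N15845 (iv6 D51358)) (tt N30814 F81067))
theorem Q31632 : ∀ i, i < 31632 → P i := stepQ 31631 Q31631 (allL N31631 (tt N59398 D111360) (tt N59399 D111361) (tt N59400 D111362) (tt N15847 (iv3 D51359)) (tt N30831 F81070) (tt N59401 D111363) (tt N59208 (iv6 F351068)) (tt N59320 (iv7 F172592)))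
theorem Q31633 : ∀ i, i < 31633 → P i := stepQ 31632 Q31632 (allL N31632 (tt N31617 F81073) (tt N31620 F81074) (tt N20480 F81071) (tt N59401 (iv3 F172815)) (tt N20328 F81072) (tt N15847 (iv5 D51360)) (tt N59402 D111365) (tt N31741 (iv7 F81270)))
theorem Q31634 : ∀ i, i < 31634 → P i := stepQ 31633 Q31633 (allL N31633 (tt N59403 D111366) (tt N59404 D111367) (tt N20476 F81075) (tt N59208 (iv3 F351066)) (tt N15848 F81076) (tt N58260 (iv5 F169072)) (tt N15847 (iv6 D51361)) (tt N59405 D111368))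
theorem Q31635 : ∀ i, i < 31635 → P i := stepQ 31634 Q31634 (allL N31634 (tt N20477 (iv1 F81083)) (tt N15848 (iv0 D51362)) (tt N20474 F102468) (tt N39539 F170917) (tt N59406 D111369) (tt N44365 (iv5 F111785)) (tt N31782 (iv6 F81296)) (tt N20475 F102469))
theorem Q31636 : ∀ i, i < 31636 → P i := stepQ 31635 Q31635 (allL N31635 (tt N15848 (iv1 D51363)) (tt N20477 F81077) (tt N20475 F102432) (tt N32049 F104343) (tt N59407 D111370) (tt N20614 (iv5 F81078)) (tt N30835 F84554) (tt N20474 F102433))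
theorem Q31637 : ∀ i, i < 31637 → P i := stepQ 31636 Q31636 (allL N31636 (tt N20475 (iv1 F81084)) (tt N20474 (iv0 F81085)) (tt N20477 F81079) (tt N30836 F81080) (tt N59405 (iv4 F172827)) (tt N20427 F81081) (tt N30787 F81082) (tt N15848 (iv7 D51364)))
theorem Q31638 : ∀ i, i < 31638 → P i := stepQ 31637 Q31637 (allL N31637 (tt N25315 F325627) (tt N59408 D111372) (tt N58698 (iv2 F170320)) (tt N15849 (iv3 D51365)) (tt N15939 F81086) (tt N59409 D111373) (tt N59410 D111374) (tt N20479 F81087))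
theorem Q31639 : ∀ i, i < 31639 → P i := stepQ 31638 Q31638 (allL N31638 (tt N31620 F81090) (tt N31617 F81091) (tt N31741 F81268) (tt N59409 (iv3 F172857)) (tt N20325 F81088) (tt N15849 (iv5 D51366)) (tt N59411 D111375) (tt N20480 F81089))
theorem Q31640 : ∀ i, i < 31640 → P i := stepQ 31639 Q31639 (allL N31639 (tt N40304 F101534) (tt N40335 F101598) (tt N30901 F81092) (tt N59410 (iv3 F172860)) (tt N15850 F81093) (tt N59412 D111376) (tt N15849 (iv6 D51367)) (tt N30900 (iv7 F81094)))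
theorem Q31641 : ∀ i, i < 31641 → P i := stepQ 31640 Q31640 (allL N31640 (tt N59413 D111377) (tt N59414 D111378) (tt N59415 D111379) (tt N15851 (iv3 D51368)) (tt N32069 (iv4 F82227)) (tt N59416 D111380) (tt N59417 D111381) (tt N58784 (iv7 F170747)))
theorem Q31642 : ∀ i, i < 31642 → P i := stepQ 31641 Q31641 (allL N31641 (tt N31607 F81096) (tt N31612 F81097) (tt N31700 F81214) (tt N59416 (iv3 F172866)) (tt N20320 F81095) (tt N15851 (iv5 D51369)) (tt N59418 D111382) (tt N31699 F81210))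
theorem Q31643 : ∀ i, i < 31643 → P i := stepQ 31642 Q31642 (allL N31642 (tt N59406 (iv1 F172840)) (tt N59407 (iv0 F172838)) (tt N58084 (iv2 F168854)) (tt N59417 (iv3 F172867)) (tt N32068 (iv4 F82225)) (tt N58174 (iv5 F168958)) (tt N15851 (iv6 D51370)) (tt N59419 D111383))
theorem Q31644 : ∀ i, i < 31644 → P i := stepQ 31643 Q31643 (allL N31643 (tt N58710 F170388) (tt N59420 D111384) (tt N59421 D111385) (tt N15852 (iv3 D51371)) (tt N31080 F81098) (tt N59422 D111386) (tt N59423 D111387) (tt N58086 (iv7 F168862)))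
theorem Q31645 : ∀ i, i < 31645 → P i := stepQ 31644 Q31644 (allL N31644 (tt N31612 F81100) (tt N31607 F81101) (tt N31699 F81209) (tt N59422 (iv3 F172875)) (tt N20312 F81099) (tt N15852 (iv5 D51372)) (tt N59424 D111388) (tt N31700 (iv7 F81212)))
theorem Q31646 : ∀ i, i < 31646 → P i := stepQ 31645 Q31645 (allL N31645 (tt N30786 F98654) (tt N30899 F98655) (tt N30897 (iv2 F81207)) (tt N59423 (iv3 F172876)) (tt N20439 F81102) (tt N59425 D111389) (tt N15852 (iv6 D51373)) (tt N30896 (iv7 F101604)))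
theorem Q31647 : ∀ i, i < 31647 → P i := stepQ 31646 Q31646 (allL N31646 (tt N59332 (iv1 F172630)) (tt N15853 (iv0 D51374)) (tt N59331 (iv2 F203769)) (tt N59426 D111391) (tt N59427 D111392) (tt N59428 D111393) (tt N59429 D111394) (tt N59330 (iv7 F203768)))
theorem Q31648 : ∀ i, i < 31648 → P i := stepQ 31647 Q31647 (allL N31647 (tt N15853 (iv1 D51375)) (tt N59332 F172632) (tt N59330 (iv2 F203767)) (tt N59430 D111396) (tt N59431 D111397) (tt N59432 D111398) (tt N59433 D111399) (tt N59331 (iv7 F203770)))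
theorem Q31649 : ∀ i, i < 31649 → P i := stepQ 31648 Q31648 (allL N31648 (tt N59331 (iv1 F172631)) (tt N59330 F172626) (tt N15853 (iv2 D51376)) (tt N59323 (iv3 F172595)) (tt N32280 (iv4 F82656)) (tt N59434 D111400) (tt N59435 D111401) (tt N59332 (iv7 F172629)))
theorem Q31650 : ∀ i, i < 31650 → P i := stepQ 31649 Q31649 (allL N31649 (tt N59436 D111402) (tt N59437 D111403) (tt N59434 (iv2 F172888)) (tt N15854 F81103) (tt N59438 D111404) (tt N15853 (iv5 D51377)) (tt N59439 D111405) (tt N59333 (iv7 F172634)))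
theorem Q31651 : ∀ i, i < 31651 → P i := stepQ 31650 Q31650 (allL N31650 (tt N59440 D111406) (tt N59441 D111407) (tt N59435 (iv2 F172889)) (tt N15855 F81104) (tt N32282 (iv4 F82659)) (tt N59442 D111408) (tt N15853 (iv6 D51378)) (tt N59443 D111409))
theorem Q31652 : ∀ i, i < 31652 → P i := stepQ 31651 Q31651 (allL N31651 (tt N15870 (iv1 F81107)) (tt N15854 (iv0 D51379)) (tt N38394 (iv2 F98187)) (tt N59444 D111410) (tt N19529 F81106) (tt N15875 F81105) (tt N59445 D111411) (tt N38389 (iv7 F98181)))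
theorem Q31653 : ∀ i, i < 31653 → P i := stepQ 31652 Q31652 (allL N31652 (tt N15854 (iv1 D51380)) (tt N15870 F81108) (tt N38389 (iv2 F98180)) (tt N59446 D111412) (tt N20301 (iv4 F81110)) (tt N15876 F81109) (tt N59447 D111413) (tt N38394 (iv7 F98189)))
theorem Q31654 : ∀ i, i < 31654 → P i := stepQ 31653 Q31653 (allL N31653 (tt N35153 (iv1 F329124)) (tt N35162 (iv0 F329125)) (tt N59326 (iv2 F172603)) (tt N59439 (iv3 F172890)) (tt N44919 (iv4 F329129)) (tt N47840 F328767) (tt N15854 (iv6 D51381)) (tt N46753 (iv7 F329130)))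
theorem Q31655 : ∀ i, i < 31655 → P i := stepQ 31654 Q31654 (allL N31654 (tt N59328 (iv1 F172620)) (tt N15855 (iv0 D51382)) (tt N59327 F172606) (tt N48319 (iv3 F327418)) (tt N35595 F168455) (tt N58220 (iv5 F169012)) (tt N30854 (iv6 F168456)) (tt N58824 (iv7 F170838)))
theorem Q31656 : ∀ i, i < 31656 → P i := stepQ 31655 Q31655 (allL N31655 (tt N15855 (iv1 D51383)) (tt N59328 F172619) (tt N58824 (iv2 F172609)) (tt N59448 D111419) (tt N35596 (iv4 F172610)) (tt N58219 F172612) (tt N59449 D111420) (tt N59327 F172608))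
theorem Q31657 : ∀ i, i < 31657 → P i := stepQ 31656 Q31656 (allL N31656 (tt N59450 D111421) (tt N59451 D111422) (tt N49455 F327966) (tt N59442 (iv3 F172891)) (tt N46754 (iv4 F328362)) (tt N15855 (iv5 D51384)) (tt N47840 (iv6 F328363)) (tt N57827 (iv7 F343099)))
theorem Q31658 : ∀ i, i < 31658 → P i := stepQ 31657 Q31657 (allL N31657 (tt N58824 (iv1 F170839)) (tt N59327 F172611) (tt N59328 (iv2 F172616)) (tt N59443 (iv3 F172892)) (tt N15859 F81111) (tt N57827 (iv5 F343098)) (tt N57828 (iv6 F336720)) (tt N15855 (iv7 D51385)))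
theorem Q31659 : ∀ i, i < 31659 → P i := stepQ 31658 Q31658 (allL N31658 (tt N59452 D111425) (tt N58980 (iv0 F171655)) (tt N31072 F164348) (tt N59453 D111426) (tt N15856 (iv4 D51388)) (tt N58286 F169087) (tt N30858 F81115) (tt N59329 (iv7 F172623)))
theorem Q31660 : ∀ i, i < 31660 → P i := stepQ 31659 Q31659 (allL N31659 (tt N58980 (iv1 F171656)) (tt N59452 F172912) (tt N59329 (iv2 F172622)) (tt N25312 (iv3 F326756)) (tt N15857 (iv4 D51391)) (tt N58285 (iv5 F169086)) (tt N59454 D111428) (tt N31072 F164335))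
theorem Q31661 : ∀ i, i < 31661 → P i := stepQ 31660 Q31660 (allL N31660 (tt N31778 F81291) (tt N31782 (iv0 F81295)) (tt N58359 F169181) (tt N15945 F164333) (tt N59454 (iv4 F172919)) (tt N30861 F81117) (tt N15857 (iv6 D51392)) (tt N30861 F81118))
theorem Q31662 : ∀ i, i < 31662 → P i := stepQ 31661 Q31661 (allL N31661 (tt N19716 F81121) (tt N15858 (iv0 D51393)) (tt N19714 F101135) (tt N30862 F168271) (tt N28067 (iv4 F325946)) (tt N30798 F81120) (tt N40566 (iv6 F102089)) (tt N19715 F101136))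
theorem Q31663 : ∀ i, i < 31663 → P i := stepQ 31662 Q31662 (allL N31662 (tt N59455 D111430) (tt N59456 D111431) (tt N19713 F81125) (tt N25585 (iv3 F327943)) (tt N15858 (iv4 D51395)) (tt N27022 (iv5 F327945)) (tt N15860 F81126) (tt N48671 F327403))
theorem Q31664 : ∀ i, i < 31664 → P i := stepQ 31663 Q31663 (allL N31663 (tt N19715 (iv1 F81131)) (tt N19714 (iv0 F81133)) (tt N19716 F81127) (tt N30101 F81128) (tt N48671 (iv4 F327068)) (tt N15859 F81129) (tt N19709 F81130) (tt N15858 (iv7 D51396)))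
theorem Q31665 : ∀ i, i < 31665 → P i := stepQ 31664 Q31664 (allL N31664 (tt N59457 D111435) (tt N59458 D111436) (tt N48668 (iv2 F328745)) (tt N15860 (iv3 D51397)) (tt N19170 F81135) (tt N50579 (iv5 F328749)) (tt N25585 F328343) (tt N19704 F81136))
theorem Q31666 : ∀ i, i < 31666 → P i := stepQ 31665 Q31665 (allL N31665 (tt N38726 (iv1 F98705)) (tt N38729 (iv0 F98708)) (tt N19712 F81137) (tt N50579 (iv3 F328748)) (tt N30708 F81139) (tt N15860 (iv5 D51398)) (tt N50577 (iv6 F336667)) (tt N19705 F81138))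
theorem Q31667 : ∀ i, i < 31667 → P i := stepQ 31666 Q31666 (allL N31666 (tt N32084 (iv1 F93035)) (tt N35633 (iv0 F93031)) (tt N16285 F81140) (tt N20420 F81141) (tt N39588 (iv4 F100446)) (tt N36029 (iv5 F93832)) (tt N15861 (iv6 D51399)) (tt N58856 (iv7 F171164)))
theorem Q31668 : ∀ i, i < 31668 → P i := stepQ 31667 Q31667 (allL N31667 (tt N30870 F81146) (tt N30880 F81147) (tt N30879 F81142) (tt N29491 F81143) (tt N31336 F81144) (tt N31565 F81145) (tt N15863 (iv6 D51400)) (tt N30878 (iv7 F81588)))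
theorem Q31669 : ∀ i, i < 31669 → P i := stepQ 31668 Q31668 (allL N31668 (tt N59459 D111440) (tt N43262 (iv0 F347817)) (tt N59460 D111442) (tt N15864 (iv3 D51401)) (tt N15869 F81148) (tt N59461 D111443) (tt N59462 D111444) (tt N58857 (iv7 F171168)))
theorem Q31670 : ∀ i, i < 31670 → P i := stepQ 31669 Q31669 (allL N31669 (tt N30566 F81149) (tt N31987 (iv0 F81966)) (tt N32294 (iv2 F82671)) (tt N59461 (iv3 F172953)) (tt N39590 (iv4 F100452)) (tt N15864 (iv5 D51402)) (tt N59463 D111445) (tt N57494 (iv7 F166925)))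
theorem Q31671 : ∀ i, i < 31671 → P i := stepQ 31670 Q31670 (allL N31670 (tt N58789 F170756) (tt N32067 (iv0 F82222)) (tt N32295 (iv2 F82674)) (tt N59462 (iv3 F172954)) (tt N15865 F81150) (tt N59464 D111446) (tt N15864 (iv6 D51403)) (tt N58787 (iv7 F170752)))
theorem Q31672 : ∀ i, i < 31672 → P i := stepQ 31671 Q31671 (allL N31671 (tt N32296 (iv1 F82679)) (tt N15865 (iv0 D51404)) (tt N31096 (iv2 F81159)) (tt N32257 (iv3 F82621)) (tt N31347 F167739) (tt N57786 (iv5 F167735)) (tt N56958 (iv6 F165120)) (tt N30873 F81160))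
theorem Q31673 : ∀ i, i < 31673 → P i := stepQ 31672 Q31672 (allL N31672 (tt N15865 (iv1 D51405)) (tt N32296 F82678) (tt N30873 F81153) (tt N15953 F81154) (tt N31276 (iv4 F81158)) (tt N19947 (iv5 F81152)) (tt N15951 (iv6 F81151)) (tt N31096 (iv7 F81155)))
theorem Q31674 : ∀ i, i < 31674 → P i := stepQ 31673 Q31673 (allL N31673 (tt N30873 (iv1 F81163)) (tt N31096 F81164) (tt N32296 (iv2 F82676)) (tt N15874 F81162) (tt N58787 F170753) (tt N39370 (iv5 F100045)) (tt N59319 (iv6 F172587)) (tt N15865 (iv7 D51406)))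
theorem Q31675 : ∀ i, i < 31675 → P i := stepQ 31674 Q31674 (allL N31674 (tt N59465 D111447) (tt N59466 D111448) (tt N59467 D111449) (tt N15867 (iv3 D51407)) (tt N20423 F81165) (tt N59044 (iv5 F171816)) (tt N28433 F329205) (tt N20304 F81166))
theorem Q31676 : ∀ i, i < 31676 → P i := stepQ 31675 Q31675 (allL N31675 (tt N41504 F104323) (tt N17718 F328489) (tt N16689 F81167) (tt N28433 (iv3 F328874)) (tt N15868 F81168) (tt N28402 (iv5 F328875)) (tt N15867 (iv6 D51408)) (tt N28401 F328490))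
theorem Q31677 : ∀ i, i < 31677 → P i := stepQ 31676 Q31676 (allL N31676 (tt N16692 (iv1 F81172)) (tt N15868 (iv0 D51409)) (tt N16690 (iv2 F81169)) (tt N56944 (iv3 F165098)) (tt N35054 (iv4 F328890)) (tt N31610 F81170) (tt N38761 (iv6 F98763)) (tt N16691 F81171))
theorem Q31678 : ∀ i, i < 31678 → P i := stepQ 31677 Q31677 (allL N31677 (tt N16691 (iv1 F81179)) (tt N16690 F81180) (tt N16692 F81175) (tt N20427 F81176) (tt N28401 F328500) (tt N30836 F81177) (tt N20309 F81178) (tt N15868 (iv7 D51410)))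
theorem Q31679 : ∀ i, i < 31679 → P i := stepQ 31678 Q31678 (allL N31678 (tt N59323 (iv1 F172597)) (tt N15869 (iv0 D51411)) (tt N59322 (iv2 F173366)) (tt N59468 D111455) (tt N59469 D111456) (tt N59470 D111457) (tt N59471 D111458) (tt N59321 (iv7 F173369)))
theorem Q31680 : ∀ i, i < 31680 → P i := stepQ 31679 Q31679 (allL N31679 (tt N15869 (iv1 D51412)) (tt N59323 F172599) (tt N59321 (iv2 F173368)) (tt N48316 F325712) (tt N59472 D111461) (tt N59473 D111462) (tt N59474 D111463) (tt N59322 (iv7 F173367)))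
theorem Q31681 : ∀ i, i < 31681 → P i := stepQ 31680 Q31680 (allL N31680 (tt N59322 (iv1 F172598)) (tt N59321 F172593) (tt N15869 (iv2 D51413)) (tt N59332 (iv3 F172627)) (tt N59460 (iv4 F172952)) (tt N59475 D111464) (tt N59476 D111465) (tt N59323 (iv7 F172596)))
theorem Q31682 : ∀ i, i < 31682 → P i := stepQ 31681 Q31681 (allL N31681 (tt N59477 D111466) (tt N59478 D111467) (tt N59475 (iv2 F172978)) (tt N15870 F81181) (tt N59479 D111468) (tt N15869 (iv5 D51414)) (tt N59480 D111469) (tt N59324 (iv7 F172601)))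
theorem Q31683 : ∀ i, i < 31683 → P i := stepQ 31682 Q31682 (allL N31682 (tt N59481 D111470) (tt N47878 F361601) (tt N59476 (iv2 F172979)) (tt N15871 F81182) (tt N59462 (iv4 F172955)) (tt N59482 D111472) (tt N15869 (iv6 D51415)) (tt N59483 D111473))
theorem Q31684 : ∀ i, i < 31684 → P i := stepQ 31683 Q31683 (allL N31683 (tt N59484 D111474) (tt N59485 D111475) (tt N59335 (iv2 F172637)) (tt N59480 (iv3 F172981)) (tt N20335 F81183) (tt N57836 (iv5 F336730)) (tt N15870 (iv6 D51416)) (tt N57835 (iv7 F345066)))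
theorem Q31685 : ∀ i, i < 31685 → P i := stepQ 31684 Q31684 (allL N31684 (tt N57828 (iv1 F336717)) (tt N15871 (iv0 D51417)) (tt N59336 F172642) (tt N59486 D111478) (tt N59487 D111479) (tt N40357 (iv5 F336724)) (tt N47786 (iv6 F341289)) (tt N30845 F172643))
theorem Q31686 : ∀ i, i < 31686 → P i := stepQ 31685 Q31685 (allL N31685 (tt N15871 (iv1 D51418)) (tt N57828 (iv0 F336716)) (tt N30845 F81185) (tt N47924 F328591) (tt N20432 F81186) (tt N33214 (iv5 F336723)) (tt N20431 (iv6 F81184)) (tt N59336 (iv7 F172641)))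
theorem Q31687 : ∀ i, i < 31687 → P i := stepQ 31686 Q31686 (allL N31686 (tt N44364 (iv1 F336727)) (tt N44361 (iv0 F336728)) (tt N57829 F336725) (tt N59482 (iv3 F172982)) (tt N38705 (iv4 F336729)) (tt N15871 (iv5 D51419)) (tt N57836 (iv6 F336731)) (tt N30714 F336726))
theorem Q31688 : ∀ i, i < 31688 → P i := stepQ 31687 Q31687 (allL N31687 (tt N30845 (iv1 F94231)) (tt N59336 F172645) (tt N57828 (iv2 F336718)) (tt N59483 (iv3 F172983)) (tt N15874 F81187) (tt N30714 (iv5 F336722)) (tt N59328 (iv6 F172618)) (tt N15871 (iv7 D51420)))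
theorem Q31689 : ∀ i, i < 31689 → P i := stepQ 31688 Q31688 (allL N31688 (tt N57748 (iv1 F336683)) (tt N58991 F171704) (tt N59337 (iv2 F172652)) (tt N25033 (iv3 F325332)) (tt N15872 (iv4 D51421)) (tt N59488 D111490) (tt N59489 D111491) (tt N30839 F81188))
theorem Q31690 : ∀ i, i < 31690 → P i := stepQ 31689 Q31689 (allL N31689 (tt N30835 (iv1 F81194)) (tt N30834 (iv0 F81193)) (tt N30836 F81189) (tt N15938 F81190) (tt N59489 (iv4 F173012)) (tt N16692 F81191) (tt N15872 (iv6 D51422)) (tt N15934 F81192))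
theorem Q31691 : ∀ i, i < 31691 → P i := stepQ 31690 Q31690 (allL N31690 (tt N58991 F171702) (tt N57748 F336690) (tt N30839 F81195) (tt N59490 D111492) (tt N15873 (iv4 D51423)) (tt N20457 (iv5 F336693)) (tt N30778 F81196) (tt N59337 (iv7 F172654)))
theorem Q31692 : ∀ i, i < 31692 → P i := stepQ 31691 Q31691 (allL N31691 (tt N59491 D111494) (tt N59492 D111495) (tt N59493 D111496) (tt N15875 (iv3 D51424)) (tt N32058 (iv4 F82192)) (tt N59444 (iv5 F172893)) (tt N59494 D111497) (tt N38388 (iv7 F98179)))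
theorem Q31693 : ∀ i, i < 31693 → P i := stepQ 31692 Q31692 (allL N31692 (tt N31009 (iv1 F166160)) (tt N31005 (iv0 F166155)) (tt N59342 (iv2 F172677)) (tt N59494 (iv3 F173028)) (tt N20299 F81197) (tt N59495 D111498) (tt N15875 (iv6 D51425)) (tt N30914 F81198))
theorem Q31694 : ∀ i, i < 31694 → P i := stepQ 31693 Q31693 (allL N31693 (tt N58717 F170487) (tt N59496 D111499) (tt N59497 D111500) (tt N15876 (iv3 D51426)) (tt N31160 F81199) (tt N59446 (iv5 F172895)) (tt N30915 F81200) (tt N59341 (iv7 F172675)))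
theorem Q31695 : ∀ i, i < 31695 → P i := stepQ 31694 Q31694 (allL N31694 (tt N59354 (iv1 F172721)) (tt N15877 (iv0 D51427)) (tt N59353 (iv2 F204649)) (tt N59498 D111502) (tt N59499 D111503) (tt N59436 (iv5 F354462)) (tt N59500 D111505) (tt N59352 (iv7 F204647)))
theorem Q31696 : ∀ i, i < 31696 → P i := stepQ 31695 Q31695 (allL N31695 (tt N15877 (iv1 D51428)) (tt N59354 F172723) (tt N59352 (iv2 F204646)) (tt N59501 D111507) (tt N59502 D111508) (tt N59437 (iv5 F220875)) (tt N30917 F348804) (tt N59353 (iv7 F204650)))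
theorem Q31697 : ∀ i, i < 31697 → P i := stepQ 31696 Q31696 (allL N31696 (tt N59353 (iv1 F172722)) (tt N59352 F172717) (tt N15877 (iv2 D51429)) (tt N59345 (iv3 F172687)) (tt N32312 (iv4 F82693)) (tt N59503 D111511) (tt N59504 D111512) (tt N59354 (iv7 F172720)))
theorem Q31698 : ∀ i, i < 31698 → P i := stepQ 31697 Q31697 (allL N31697 (tt N59505 D111513) (tt N59506 D111514) (tt N59503 (iv2 F173041)) (tt N15878 F81201) (tt N59507 D111515) (tt N15877 (iv5 D51430)) (tt N59508 D111516) (tt N59355 (iv7 F172725)))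
theorem Q31699 : ∀ i, i < 31699 → P i := stepQ 31698 Q31698 (allL N31698 (tt N59509 D111517) (tt N59510 D111518) (tt N59504 (iv2 F173042)) (tt N15879 F81202) (tt N32314 (iv4 F82696)) (tt N59511 D111519) (tt N15877 (iv6 D51431)) (tt N59512 D111520))
theorem Q31700 : ∀ i, i < 31700 → P i := stepQ 31699 Q31699 (allL N31699 (tt N15887 (iv1 F81206)) (tt N15878 (iv0 D51432)) (tt N31644 (iv2 F81209)) (tt N59513 D111521) (tt N30907 F81204) (tt N31264 F81203) (tt N59514 D111522) (tt N31641 (iv7 F81210)))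
theorem Q31701 : ∀ i, i < 31701 → P i := stepQ 31700 Q31700 (allL N31700 (tt N15878 (iv1 D51433)) (tt N15887 F81211) (tt N31641 (iv2 F81214)) (tt N59515 D111523) (tt N33259 (iv4 F84342)) (tt N30889 F81213) (tt N59516 D111524) (tt N31644 F81212))
theorem Q31702 : ∀ i, i < 31702 → P i := stepQ 31701 Q31701 (allL N31701 (tt N59517 D111525) (tt N59518 D111526) (tt N58718 (iv2 F341348)) (tt N59508 (iv3 F173043)) (tt N59025 (iv4 F171791)) (tt N16020 F341334) (tt N15878 (iv6 D51434)) (tt N58716 (iv7 F341353)))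
theorem Q31703 : ∀ i, i < 31703 → P i := stepQ 31702 Q31702 (allL N31702 (tt N59350 (iv1 F172711)) (tt N15879 (iv0 D51435)) (tt N59348 F172700) (tt N59519 D111529) (tt N35653 F168471) (tt N59520 D111530) (tt N30949 (iv6 F168472)) (tt N59349 F172699))
theorem Q31704 : ∀ i, i < 31704 → P i := stepQ 31703 Q31703 (allL N31703 (tt N15879 (iv1 D51436)) (tt N59350 F172710) (tt N59349 (iv2 F172703)) (tt N59521 D111531) (tt N35654 (iv4 F168696)) (tt N24974 (iv5 F341341)) (tt N59522 D111533) (tt N59348 F172702))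
theorem Q31705 : ∀ i, i < 31705 → P i := stepQ 31704 Q31704 (allL N31704 (tt N34799 (iv1 F341318)) (tt N24981 F341305) (tt N46737 (iv2 F341320)) (tt N59511 (iv3 F173044)) (tt N16022 (iv4 F341323)) (tt N15879 (iv5 D51437)) (tt N16020 (iv6 F341324)) (tt N35233 (iv7 F341325)))
theorem Q31706 : ∀ i, i < 31706 → P i := stepQ 31705 Q31705 (allL N31705 (tt N59349 (iv1 F172697)) (tt N59348 F172704) (tt N59350 (iv2 F172707)) (tt N59512 (iv3 F173045)) (tt N15883 F81215) (tt N35233 F341333) (tt N59361 (iv6 F172736)) (tt N15879 (iv7 D51438)))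
theorem Q31707 : ∀ i, i < 31707 → P i := stepQ 31706 Q31706 (allL N31706 (tt N34994 F343754) (tt N15896 F168301) (tt N31150 (iv2 F168300)) (tt N59523 D111537) (tt N15880 (iv4 D51441)) (tt N59524 D111538) (tt N30954 F81219) (tt N59351 (iv7 F172713)))
theorem Q31708 : ∀ i, i < 31708 → P i := stepQ 31707 Q31707 (allL N31707 (tt N59525 D111539) (tt N59236 (iv0 F172400)) (tt N31151 (iv2 F168305)) (tt N30930 F168304) (tt N34977 F332934) (tt N15880 (iv5 D51442)) (tt N38502 (iv6 F98382)) (tt N59276 (iv7 F172454)))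
theorem Q31709 : ∀ i, i < 31709 → P i := stepQ 31708 Q31708 (allL N31708 (tt N15896 F111668) (tt N34994 (iv0 F343739)) (tt N59351 (iv2 F172712)) (tt N34991 (iv3 F326030)) (tt N15881 (iv4 D51445)) (tt N47890 (iv5 F343742)) (tt N59526 D111543) (tt N31150 F168245))
theorem Q31710 : ∀ i, i < 31710 → P i := stepQ 31709 Q31709 (allL N31709 (tt N59236 F172401) (tt N59525 F173065) (tt N59276 (iv2 F172451)) (tt N15992 F168222) (tt N34980 F332940) (tt N15881 (iv5 D51446)) (tt N16789 F168223) (tt N31151 F168224))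
theorem Q31711 : ∀ i, i < 31711 → P i := stepQ 31710 Q31710 (allL N31710 (tt N39936 F100888) (tt N31011 (iv0 F101241)) (tt N40080 (iv2 F101114)) (tt N15993 F168242) (tt N59526 (iv4 F173071)) (tt N30902 (iv5 F81223)) (tt N15881 (iv6 D51447)) (tt N30953 F81222))
theorem Q31712 : ∀ i, i < 31712 → P i := stepQ 31711 Q31711 (allL N31711 (tt N36068 F93911) (tt N34796 (iv0 F329225)) (tt N17754 (iv2 F329115)) (tt N53901 (iv3 F356132)) (tt N15882 (iv4 D51448)) (tt N17682 (iv5 F329229)) (tt N22675 F81228) (tt N33273 (iv7 F84369)))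
theorem Q31713 : ∀ i, i < 31713 → P i := stepQ 31712 Q31712 (allL N31712 (tt N59527 D111547) (tt N59528 D111548) (tt N59529 D111549) (tt N15884 (iv3 D51449)) (tt N15886 F81229) (tt N59530 D111550) (tt N59531 D111551) (tt N57488 (iv7 F166883)))
theorem Q31714 : ∀ i, i < 31714 → P i := stepQ 31713 Q31713 (allL N31713 (tt N31330 F81230) (tt N31326 F81231) (tt N32329 (iv2 F82716)) (tt N59530 (iv3 F173077)) (tt N44143 (iv4 F110925)) (tt N15884 (iv5 D51450)) (tt N59532 D111552) (tt N57489 (iv7 F166886)))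
theorem Q31715 : ∀ i, i < 31715 → P i := stepQ 31714 Q31714 (allL N31714 (tt N45639 F326911) (tt N45637 F326912) (tt N32330 (iv2 F82719)) (tt N59531 (iv3 F173078)) (tt N15885 F81232) (tt N59533 D111555) (tt N15884 (iv6 D51451)) (tt N59534 D111556))
theorem Q31716 : ∀ i, i < 31716 → P i := stepQ 31715 Q31715 (allL N31715 (tt N32331 (iv1 F82726)) (tt N15885 (iv0 D51452)) (tt N23779 (iv2 F326267)) (tt N32263 (iv3 F168020)) (tt N23777 F326210) (tt N38508 (iv5 F99061)) (tt N59535 D111557) (tt N23774 (iv7 F327018)))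
theorem Q31717 : ∀ i, i < 31717 → P i := stepQ 31716 Q31716 (allL N31716 (tt N15885 (iv1 D51453)) (tt N32331 F82725) (tt N23774 (iv2 F327017)) (tt N31141 (iv3 F163868)) (tt N23772 F326211) (tt N38509 F162153) (tt N31138 (iv6 F163876)) (tt N23779 (iv7 F326269)))
theorem Q31718 : ∀ i, i < 31718 → P i := stepQ 31717 Q31717 (allL N31717 (tt N23774 (iv1 F327016)) (tt N23779 F326769) (tt N32331 (iv2 F82722)) (tt N15892 F81233) (tt N59534 (iv4 F173094)) (tt N38929 (iv5 F99029)) (tt N59340 (iv6 F172671)) (tt N15885 (iv7 D51454)))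
theorem Q31719 : ∀ i, i < 31719 → P i := stepQ 31718 Q31718 (allL N31718 (tt N59345 (iv1 F172689)) (tt N15886 (iv0 D51455)) (tt N59344 (iv2 F173103)) (tt N59536 D111559) (tt N59537 D111560) (tt N59477 (iv5 F365188)) (tt N30942 F359287) (tt N59343 (iv7 F173107)))
theorem Q31720 : ∀ i, i < 31720 → P i := stepQ 31719 Q31719 (allL N31719 (tt N15886 (iv1 D51456)) (tt N59345 F172691) (tt N59343 (iv2 F173106)) (tt N48348 F323985) (tt N48349 F323986) (tt N59478 (iv5 F403537)) (tt N59538 D111567) (tt N59344 (iv7 F173104)))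
theorem Q31721 : ∀ i, i < 31721 → P i := stepQ 31720 Q31720 (allL N31720 (tt N59344 (iv1 F172690)) (tt N59343 F172684) (tt N15886 (iv2 D51457)) (tt N59354 (iv3 F172718)) (tt N59529 (iv4 F173076)) (tt N59539 D111568) (tt N35237 F328000) (tt N59345 (iv7 F172688)))
theorem Q31722 : ∀ i, i < 31722 → P i := stepQ 31721 Q31721 (allL N31721 (tt N59540 D111570) (tt N59541 D111571) (tt N59539 (iv2 F173109)) (tt N15887 F81234) (tt N59542 D111572) (tt N15886 (iv5 D51458)) (tt N59543 D111573) (tt N59346 (iv7 F172693)))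
theorem Q31723 : ∀ i, i < 31723 → P i := stepQ 31722 Q31722 (allL N31722 (tt N35238 (iv1 F327521)) (tt N23418 (iv0 F327522)) (tt N35237 (iv2 F327523)) (tt N15888 F81235) (tt N59531 (iv4 F173079)) (tt N59544 D111576) (tt N15886 (iv6 D51459)) (tt N35236 (iv7 F327400)))
theorem Q31724 : ∀ i, i < 31724 → P i := stepQ 31723 Q31723 (allL N31723 (tt N59545 D111578) (tt N59546 D111579) (tt N59357 (iv2 F172728)) (tt N59543 (iv3 F173112)) (tt N20535 F81236) (tt N59547 D111580) (tt N15887 (iv6 D51460)) (tt N59548 D111581))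
theorem Q31725 : ∀ i, i < 31725 → P i := stepQ 31724 Q31724 (allL N31724 (tt N59361 (iv1 F172742)) (tt N15888 (iv0 D51461)) (tt N59358 (iv2 F202499)) (tt N59549 D111583) (tt N59550 D111584) (tt N59551 D111585) (tt N59552 D111586) (tt N59359 (iv7 F202505)))
theorem Q31726 : ∀ i, i < 31726 → P i := stepQ 31725 Q31725 (allL N31725 (tt N15888 (iv1 D51462)) (tt N59361 F172738) (tt N59359 (iv2 F202504)) (tt N59553 D111588) (tt N35782 F172739) (tt N59554 D111589) (tt N30924 F172740) (tt N59358 (iv7 F202500)))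
theorem Q31727 : ∀ i, i < 31727 → P i := stepQ 31726 Q31726 (allL N31726 (tt N58027 (iv1 F172741)) (tt N58025 (iv0 F168713)) (tt N59360 (iv2 F172733)) (tt N59544 (iv3 F173113)) (tt N59555 D111590) (tt N15888 (iv5 D51463)) (tt N59547 (iv6 F173115)) (tt N59556 D111591))
theorem Q31728 : ∀ i, i < 31728 → P i := stepQ 31727 Q31727 (allL N31727 (tt N59359 (iv1 F172730)) (tt N59358 F172737) (tt N59361 (iv2 F172734)) (tt N35236 (iv3 F327399)) (tt N15892 F81237) (tt N59556 (iv5 F173130)) (tt N59350 (iv6 F172709)) (tt N15888 (iv7 D51464)))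
theorem Q31729 : ∀ i, i < 31729 → P i := stepQ 31728 Q31728 (allL N31728 (tt N59375 (iv1 F172783)) (tt N15900 F168439) (tt N59362 (iv2 F172743)) (tt N23619 (iv3 F326021)) (tt N15889 (iv4 D51467)) (tt N59557 D111593) (tt N59558 D111594) (tt N31182 F163896))
theorem Q31730 : ∀ i, i < 31730 → P i := stepQ 31729 Q31729 (allL N31729 (tt N31007 F81239) (tt N40724 (iv0 F102492)) (tt N40359 (iv2 F101655)) (tt N16009 F163898) (tt N59558 (iv4 F173134)) (tt N31108 (iv5 F163919)) (tt N15889 (iv6 D51468)) (tt N30932 F81242))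
theorem Q31731 : ∀ i, i < 31731 → P i := stepQ 31730 Q31730 (allL N31730 (tt N15900 F168440) (tt N59375 F172782) (tt N31182 F164018) (tt N59559 D111595) (tt N15890 (iv4 D51471)) (tt N59560 D111596) (tt N30929 F81244) (tt N59362 (iv7 F172744)))
theorem Q31732 : ∀ i, i < 31732 → P i := stepQ 31731 Q31731 (allL N31731 (tt N59561 D111597) (tt N59562 D111598) (tt N19689 F81245) (tt N59563 D111599) (tt N15891 (iv4 D51472)) (tt N59564 D111600) (tt N19655 F81246) (tt N59565 D111601))
theorem Q31733 : ∀ i, i < 31733 → P i := stepQ 31732 Q31732 (allL N31732 (tt N19367 F164107) (tt N19690 (iv0 F81252)) (tt N19691 F81247) (tt N38929 (iv3 F99028)) (tt N59565 (iv4 F173152)) (tt N15892 F81248) (tt N19701 F81249) (tt N15891 (iv7 D51473)))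
theorem Q31734 : ∀ i, i < 31734 → P i := stepQ 31733 Q31733 (allL N31733 (tt N59370 (iv1 F172772)) (tt N15893 (iv0 D51474)) (tt N59369 (iv2 F355967)) (tt N59566 D111603) (tt N59567 D111604) (tt N59568 D111605) (tt N59569 D111606) (tt N59368 (iv7 F355965)))
theorem Q31735 : ∀ i, i < 31735 → P i := stepQ 31734 Q31734 (allL N31734 (tt N15893 (iv1 D51475)) (tt N59370 F172774) (tt N59368 (iv2 F355964)) (tt N59570 D111608) (tt N59571 D111609) (tt N59572 D111610) (tt N30959 (iv6 F378714)) (tt N59369 (iv7 F355968)))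
theorem Q31736 : ∀ i, i < 31736 → P i := stepQ 31735 Q31735 (allL N31735 (tt N59369 (iv1 F172773)) (tt N59368 F172769) (tt N15893 (iv2 D51476)) (tt N59365 (iv3 F172752)) (tt N59573 D111612) (tt N59574 D111613) (tt N59575 D111614) (tt N59370 (iv7 F172771)))
theorem Q31737 : ∀ i, i < 31737 → P i := stepQ 31736 Q31736 (allL N31736 (tt N59576 D111615) (tt N59577 D111616) (tt N59573 (iv2 F173160)) (tt N19917 F81260) (tt N15893 (iv4 D51477)) (tt N59578 D111617) (tt N59579 D111618) (tt N39219 (iv7 F99656)))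
theorem Q31738 : ∀ i, i < 31738 → P i := stepQ 31737 Q31737 (allL N31737 (tt N59580 D111619) (tt N59581 D111620) (tt N59574 (iv2 F173162)) (tt N15895 F81253) (tt N59582 D111621) (tt N15893 (iv5 D51478)) (tt N59583 D111622) (tt N59371 (iv7 F172776)))
theorem Q31739 : ∀ i, i < 31739 → P i := stepQ 31738 Q31738 (allL N31738 (tt N59584 D111623) (tt N59585 D111624) (tt N59575 (iv2 F173163)) (tt N15896 F81254) (tt N59579 (iv4 F173169)) (tt N59586 D111625) (tt N15893 (iv6 D51479)) (tt N59587 D111626))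
theorem Q31740 : ∀ i, i < 31740 → P i := stepQ 31739 Q31739 (allL N31739 (tt N16031 F81258) (tt N18010 (iv0 F81261)) (tt N18033 F81255) (tt N15894 (iv3 D51480)) (tt N19917 F81259) (tt N16100 F81256) (tt N59588 D111627) (tt N18081 F81257))
theorem Q31741 : ∀ i, i < 31741 → P i := stepQ 31740 Q31740 (allL N31740 (tt N59589 D111628) (tt N35888 F173188) (tt N18073 F81262) (tt N59588 (iv3 F173174)) (tt N15896 F81263) (tt N31419 F81264) (tt N15894 (iv6 D51481)) (tt N59590 D111629))
theorem Q31742 : ∀ i, i < 31742 → P i := stepQ 31741 Q31741 (allL N31741 (tt N15899 (iv1 F81269)) (tt N15895 (iv0 D51482)) (tt N31638 (iv2 F81268)) (tt N59591 D111630) (tt N20534 F81266) (tt N31593 F81265) (tt N59592 D111631) (tt N31632 F81270))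
theorem Q31743 : ∀ i, i < 31743 → P i := stepQ 31742 Q31742 (allL N31742 (tt N59593 D111632) (tt N40429 (iv0 F343747)) (tt N58722 (iv2 F343748)) (tt N59583 (iv3 F173170)) (tt N59011 (iv4 F171725)) (tt N15901 F343735) (tt N15895 (iv6 D51483)) (tt N58720 (iv7 F343752)))
theorem Q31744 : ∀ i, i < 31744 → P i := stepQ 31743 Q31743 (allL N31743 (tt N34992 (iv1 F343725)) (tt N34991 (iv0 F343726)) (tt N34995 (iv2 F343727)) (tt N59586 (iv3 F173171)) (tt N23120 (iv4 F343728)) (tt N15896 (iv5 D51486)) (tt N15901 (iv6 F343729)) (tt N34897 (iv7 F343730)))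
theorem Q31745 : ∀ i, i < 31745 → P i := stepQ 31744 Q31744 (allL N31744 (tt N59351 (iv1 F172715)) (tt N31150 F172716) (tt N34994 (iv2 F343740)) (tt N59587 (iv3 F173172)) (tt N59590 (iv4 F173193)) (tt N34897 F343734) (tt N59375 (iv6 F172781)) (tt N15896 (iv7 D51487)))
theorem Q31746 : ∀ i, i < 31746 → P i := stepQ 31745 Q31745 (allL N31745 (tt N59365 (iv1 F172755)) (tt N15897 (iv0 D51488)) (tt N59364 (iv2 F412130)) (tt N59594 D111640) (tt N59595 D111641) (tt N59596 D111642) (tt N30970 F363306) (tt N59363 (iv7 F412128)))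
theorem Q31747 : ∀ i, i < 31747 → P i := stepQ 31746 Q31746 (allL N31746 (tt N15897 (iv1 D51489)) (tt N59365 F172757) (tt N59363 F412129) (tt N59597 D111645) (tt N59598 D111646) (tt N59599 D111647) (tt N59600 D111648) (tt N59364 (iv7 F412133)))
theorem Q31748 : ∀ i, i < 31748 → P i := stepQ 31747 Q31747 (allL N31747 (tt N59364 (iv1 F172756)) (tt N59363 F172751) (tt N15897 (iv2 D51490)) (tt N59370 (iv3 F172770)) (tt N59601 D111649) (tt N59602 D111650) (tt N59603 D111651) (tt N59365 (iv7 F172754)))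
theorem Q31749 : ∀ i, i < 31749 → P i := stepQ 31748 Q31748 (allL N31748 (tt N59604 D111652) (tt N59605 D111653) (tt N59601 (iv2 F173208)) (tt N18036 F81271) (tt N15897 (iv4 D51491)) (tt N59606 D111654) (tt N59607 D111655) (tt N18075 F81272))
theorem Q31750 : ∀ i, i < 31750 → P i := stepQ 31749 Q31749 (allL N31749 (tt N59608 D111656) (tt N59609 D111657) (tt N59602 (iv2 F173213)) (tt N15899 F81273) (tt N58000 (iv4 F168702)) (tt N15897 (iv5 D51492)) (tt N59610 D111658) (tt N59366 (iv7 F172759)))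
theorem Q31751 : ∀ i, i < 31751 → P i := stepQ 31750 Q31750 (allL N31750 (tt N59611 D111659) (tt N59612 D111660) (tt N59603 (iv2 F173214)) (tt N15900 F81274) (tt N59607 (iv4 F173222)) (tt N59613 D111661) (tt N15897 (iv6 D51493)) (tt N59614 D111662))
theorem Q31752 : ∀ i, i < 31752 → P i := stepQ 31751 Q31751 (allL N31751 (tt N59615 D111663) (tt N59616 D111664) (tt N38397 (iv2 F98196)) (tt N18037 F81275) (tt N15900 F81276) (tt N18661 F81277) (tt N15898 (iv6 D51494)) (tt N59617 D111665))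
theorem Q31753 : ∀ i, i < 31753 → P i := stepQ 31752 Q31752 (allL N31752 (tt N59618 D111666) (tt N59619 D111667) (tt N59373 (iv2 F172778)) (tt N59610 (iv3 F173223)) (tt N59000 (iv4 F171713)) (tt N59555 (iv5 F362792)) (tt N15899 (iv6 D51495)) (tt N59620 D111669))
theorem Q31754 : ∀ i, i < 31754 → P i := stepQ 31753 Q31753 (allL N31753 (tt N58038 (iv1 F168728)) (tt N58035 (iv0 F168720)) (tt N59374 (iv2 F172779)) (tt N59613 (iv3 F173224)) (tt N59547 (iv4 F343776)) (tt N15900 (iv5 D51498)) (tt N59555 (iv6 F362793)) (tt N59621 D111671))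
theorem Q31755 : ∀ i, i < 31755 → P i := stepQ 31754 Q31754 (allL N31754 (tt N31182 F171524) (tt N59362 F172750) (tt N59375 (iv2 F172780)) (tt N59614 (iv3 F173225)) (tt N59617 (iv4 F173235)) (tt N59621 (iv5 F173241)) (tt N34994 F343757) (tt N15900 (iv7 D51499)))
theorem Q31756 : ∀ i, i < 31756 → P i := stepQ 31755 Q31755 (allL N31755 (tt N59597 (iv1 F387405)) (tt N59622 D111679) (tt N59623 D111680) (tt N15901 (iv3 D51501)) (tt N59624 D111681) (tt N59583 (iv5 F343751)) (tt N59586 (iv6 F343723)) (tt N58719 (iv7 F173299)))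
theorem Q31757 : ∀ i, i < 31757 → P i := stepQ 31756 Q31756 (allL N31756 (tt N25340 F322512) (tt N31147 (iv0 F169772)) (tt N18203 F173289) (tt N23122 (iv3 F322516)) (tt N15901 (iv4 D51502)) (tt N35031 (iv5 F323028)) (tt N23120 (iv6 F323976)) (tt N17832 (iv7 F323087)))
theorem Q31758 : ∀ i, i < 31758 → P i := stepQ 31757 Q31757 (allL N31757 (tt N59625 D111695) (tt N59566 (iv0 F355989)) (tt N59626 D111697) (tt N15902 (iv3 D51506)) (tt N59627 D111698) (tt N59628 D111699) (tt N45367 (iv6 F326167)) (tt N58721 (iv7 F173293)))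
theorem Q31759 : ∀ i, i < 31759 → P i := stepQ 31758 Q31758 (allL N31758 (tt N40429 F170930) (tt N59593 (iv0 F343743)) (tt N58720 (iv2 F173304)) (tt N59628 (iv3 F173424)) (tt N59629 D111702) (tt N15902 (iv5 D51508)) (tt N59620 (iv6 F362787)) (tt N58722 (iv7 F173295)))
theorem Q31760 : ∀ i, i < 31760 → P i := stepQ 31759 Q31759 (allL N31759 (tt N58724 (iv1 F170520)) (tt N58723 F170519) (tt N15904 F81281) (tt N59386 (iv3 F172791)) (tt N48209 (iv4 F337486)) (tt N15903 (iv5 D51510)) (tt N48208 F337482) (tt N58713 (iv7 F170400)))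
theorem Q31761 : ∀ i, i < 31761 → P i := stepQ 31760 Q31760 (allL N31760 (tt N58713 (iv1 F170402)) (tt N15904 (iv0 D51511)) (tt N58724 F172850) (tt N59630 D111709) (tt N59631 D111710) (tt N25315 F325634) (tt N59396 (iv6 F345424)) (tt N58723 F172848))
theorem Q31762 : ∀ i, i < 31762 → P i := stepQ 31761 Q31761 (allL N31761 (tt N15904 (iv1 D51512)) (tt N58713 F170401) (tt N58723 (iv2 F172849)) (tt N59632 D111712) (tt N59633 D111713) (tt N59408 F172856) (tt N59634 D111714) (tt N58724 (iv7 F172851)))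
theorem Q31763 : ∀ i, i < 31763 → P i := stepQ 31762 Q31762 (allL N31762 (tt N59635 D111715) (tt N59636 D111716) (tt N48209 (iv2 F337485)) (tt N59637 D111717) (tt N15904 (iv4 D51513)) (tt N58309 (iv5 F169147)) (tt N17812 F337483) (tt N58725 (iv7 F170522)))
theorem Q31764 : ∀ i, i < 31764 → P i := stepQ 31763 Q31763 (allL N31763 (tt N46749 (iv1 F337470)) (tt N59392 (iv0 F337471)) (tt N48208 (iv2 F337472)) (tt N15908 F81282) (tt N17812 (iv4 F337473)) (tt N30989 F81283) (tt N15904 (iv6 D51514)) (tt N48192 F337466))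
theorem Q31765 : ∀ i, i < 31765 → P i := stepQ 31764 Q31764 (allL N31764 (tt N59568 (iv1 F387850)) (tt N59572 (iv0 F395002)) (tt N59638 D111724) (tt N15905 (iv3 D51515)) (tt N59639 D111725) (tt N58979 (iv5 F171651)) (tt N59640 D111726) (tt N59393 (iv7 F172801)))
theorem Q31766 : ∀ i, i < 31766 → P i := stepQ 31765 Q31765 (allL N31765 (tt N48208 (iv1 F336743)) (tt N48192 (iv0 F336744)) (tt N59392 (iv2 F172799)) (tt N59640 (iv3 F173434)) (tt N44916 (iv4 F336745)) (tt N46683 F336742) (tt N15905 (iv6 D51516)) (tt N46749 (iv7 F336746)))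
theorem Q31767 : ∀ i, i < 31767 → P i := stepQ 31766 Q31766 (allL N31766 (tt N59596 (iv1 F354459)) (tt N59599 (iv0 F406191)) (tt N59641 D111733) (tt N15906 (iv3 D51517)) (tt N58008 (iv4 F354396)) (tt N58990 (iv5 F171698)) (tt N42918 F337434) (tt N59391 (iv7 F172798)))
theorem Q31768 : ∀ i, i < 31768 → P i := stepQ 31767 Q31767 (allL N31767 (tt N59642 D111735) (tt N59643 D111736) (tt N59394 (iv2 F172802)) (tt N42918 (iv3 F337431)) (tt N50641 (iv4 F337441)) (tt N39970 (iv5 F337432)) (tt N15906 (iv6 D51518)) (tt N39969 (iv7 F337433)))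
theorem Q31769 : ∀ i, i < 31769 → P i := stepQ 31768 Q31768 (allL N31768 (tt N59644 D111739) (tt N59645 D111740) (tt N59646 D111741) (tt N15907 (iv3 D51519)) (tt N59637 (iv4 F173430)) (tt N20526 F81284) (tt N59647 D111742) (tt N58967 (iv7 F171624)))
theorem Q31770 : ∀ i, i < 31770 → P i := stepQ 31769 Q31769 (allL N31769 (tt N59648 D111743) (tt N59649 D111744) (tt N59050 (iv2 F171824)) (tt N59647 (iv3 F173437)) (tt N15908 F81285) (tt N59650 D111745) (tt N15907 (iv6 D51520)) (tt N59651 D111746))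
theorem Q31771 : ∀ i, i < 31771 → P i := stepQ 31770 Q31770 (allL N31770 (tt N59397 (iv1 F172808)) (tt N15908 (iv0 D51521)) (tt N59395 (iv2 F362236)) (tt N59652 D111748) (tt N59653 D111749) (tt N59654 D111750) (tt N59655 D111751) (tt N59396 (iv7 F362234)))
theorem Q31772 : ∀ i, i < 31772 → P i := stepQ 31771 Q31771 (allL N31771 (tt N15908 (iv1 D51522)) (tt N59397 F172807) (tt N59396 (iv2 F362233)) (tt N59656 D111753) (tt N59657 D111754) (tt N59658 D111755) (tt N58724 (iv6 F362245)) (tt N59395 (iv7 F362237)))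
theorem Q31773 : ∀ i, i < 31773 → P i := stepQ 31772 Q31772 (allL N31772 (tt N59396 (iv1 F172803)) (tt N59395 F172806) (tt N59397 (iv2 F172804)) (tt N48192 (iv3 F337464)) (tt N59651 (iv4 F173439)) (tt N31000 F81286) (tt N59659 D111757) (tt N15908 (iv7 D51523)))
theorem Q31774 : ∀ i, i < 31774 → P i := stepQ 31773 Q31773 (allL N31773 (tt N59660 D111758) (tt N59661 D111759) (tt N59046 (iv2 F171822)) (tt N58726 (iv3 F170523)) (tt N58968 (iv4 F171626)) (tt N59662 D111760) (tt N15909 (iv6 D51524)) (tt N59659 (iv7 F173442)))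
theorem Q31775 : ∀ i, i < 31775 → P i := stepQ 31774 Q31774 (allL N31774 (tt N30814 (iv1 F81287)) (tt N15910 (iv0 D51525)) (tt N31003 (iv2 F166445)) (tt N59663 D111761) (tt N40044 F166448) (tt N56803 (iv5 F332218)) (tt N59664 D111763) (tt N31002 (iv7 F166447)))
theorem Q31776 : ∀ i, i < 31776 → P i := stepQ 31775 Q31775 (allL N31775 (tt N15910 (iv1 D51526)) (tt N30814 F81288) (tt N31002 F166446) (tt N59665 D111764) (tt N35872 (iv4 F93410)) (tt N56802 (iv5 F332222)) (tt N59666 D111766) (tt N31003 F166443))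
theorem Q31777 : ∀ i, i < 31777 → P i := stepQ 31776 Q31776 (allL N31776 (tt N59667 D111767) (tt N59668 D111768) (tt N30181 (iv2 F330477)) (tt N58729 (iv3 F170526)) (tt N44238 (iv4 F330481)) (tt N15910 (iv5 D51527)) (tt N59662 (iv6 F173443)) (tt N31004 F81289))
theorem Q31778 : ∀ i, i < 31778 → P i := stepQ 31777 Q31777 (allL N31777 (tt N30914 F166171) (tt N59342 F172680) (tt N31009 (iv2 F102474)) (tt N59669 D111770) (tt N15911 (iv4 D51530)) (tt N59670 D111771) (tt N59671 D111772) (tt N31005 (iv7 F102459)))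
theorem Q31779 : ∀ i, i < 31779 → P i := stepQ 31778 Q31778 (allL N31778 (tt N57881 (iv1 F168478)) (tt N31660 (iv0 F81291)) (tt N31010 (iv2 F102464)) (tt N32392 F161355) (tt N59672 D111773) (tt N15911 (iv5 D51531)) (tt N31830 (iv6 F81425)) (tt N31006 (iv7 F102460)))
theorem Q31780 : ∀ i, i < 31780 → P i := stepQ 31779 Q31779 (allL N31779 (tt N40080 F101116) (tt N30953 (iv0 F81293)) (tt N31011 (iv2 F102475)) (tt N32393 (iv3 F161358)) (tt N59671 (iv4 F173459)) (tt N31546 F81292) (tt N15911 (iv6 D51532)) (tt N39936 (iv7 F102478)))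
theorem Q31781 : ∀ i, i < 31781 → P i := stepQ 31780 Q31780 (allL N31780 (tt N31784 (iv1 F161340)) (tt N30868 F161337) (tt N32253 F161335) (tt N15912 (iv3 D51534)) (tt N58756 (iv4 F170603)) (tt N59673 D111774) (tt N59674 D111775) (tt N31008 F102481))
theorem Q31782 : ∀ i, i < 31782 → P i := stepQ 31781 Q31781 (allL N31781 (tt N59342 (iv1 F172681)) (tt N30914 F166185) (tt N31005 (iv2 F102483)) (tt N59675 D111776) (tt N15912 (iv4 D51535)) (tt N59676 D111777) (tt N59677 D111778) (tt N31009 F102482))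
theorem Q31783 : ∀ i, i < 31783 → P i := stepQ 31782 Q31782 (allL N31782 (tt N31660 F81295) (tt N57881 (iv0 F168477)) (tt N31006 F102467) (tt N59673 (iv3 F173462)) (tt N59678 D111779) (tt N15912 (iv5 D51536)) (tt N31634 F81296) (tt N31010 F102466))
theorem Q31784 : ∀ i, i < 31784 → P i := stepQ 31783 Q31783 (allL N31783 (tt N30932 F111586) (tt N40359 (iv0 F101657)) (tt N31007 F102453) (tt N59674 (iv3 F173465)) (tt N59677 (iv4 F173472)) (tt N22694 F81297) (tt N15912 (iv6 D51537)) (tt N40724 (iv7 F102491)))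
theorem Q31785 : ∀ i, i < 31785 → P i := stepQ 31784 Q31784 (allL N31784 (tt N55680 (iv1 F161341)) (tt N31780 F161340) (tt N31073 F81298) (tt N16210 F81299) (tt N35752 (iv4 F93187)) (tt N31784 F81300) (tt N15913 (iv6 D51538)) (tt N16199 F81301))
theorem Q31786 : ∀ i, i < 31786 → P i := stepQ 31785 Q31785 (allL N31785 (tt N18450 F81304) (tt N21372 (iv0 F81306)) (tt N59679 D111780) (tt N15914 (iv3 D51539)) (tt N21297 F81302) (tt N21311 (iv5 F81305)) (tt N59680 D111781) (tt N22586 F81303))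
theorem Q31787 : ∀ i, i < 31787 → P i := stepQ 31786 Q31786 (allL N31786 (tt N32437 (iv1 F82846)) (tt N44154 F110949) (tt N31075 F81314) (tt N21311 F81315) (tt N32013 (iv4 F82053)) (tt N15914 (iv5 D51540)) (tt N59681 D111782) (tt N22587 F81316))
theorem Q31788 : ∀ i, i < 31788 → P i := stepQ 31787 Q31787 (allL N31787 (tt N59682 D111783) (tt N59683 D111784) (tt N31076 F81317) (tt N59680 (iv3 F173482)) (tt N15915 F81318) (tt N59684 D111785) (tt N15914 (iv6 D51541)) (tt N31013 F81319))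
theorem Q31789 : ∀ i, i < 31789 → P i := stepQ 31788 Q31788 (allL N31788 (tt N15947 (iv1 F81320)) (tt N15915 (iv0 D51542)) (tt N16027 F161311) (tt N31014 F161312) (tt N59685 D111786) (tt N58415 (iv5 F169317)) (tt N59686 D111787) (tt N31014 F161313))
theorem Q31790 : ∀ i, i < 31790 → P i := stepQ 31789 Q31789 (allL N31789 (tt N51727 (iv1 F340720)) (tt N27615 (iv0 F340721)) (tt N51725 (iv2 F340707)) (tt N15916 (iv3 D51544)) (tt N31015 F81322) (tt N58886 (iv5 F171253)) (tt N59687 D111791) (tt N31077 F81323))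
theorem Q31791 : ∀ i, i < 31791 → P i := stepQ 31790 Q31790 (allL N31790 (tt N44704 F327193) (tt N44703 F327194) (tt N15927 F81324) (tt N59687 (iv3 F173514)) (tt N15917 F81325) (tt N59688 D111793) (tt N15916 (iv6 D51545)) (tt N44705 F327195))
theorem Q31792 : ∀ i, i < 31792 → P i := stepQ 31791 Q31791 (allL N31791 (tt N15930 F81328) (tt N15917 (iv0 D51546)) (tt N15928 F99974) (tt N30819 (iv3 F165634)) (tt N59689 D111795) (tt N18938 F81327) (tt N31018 F81326) (tt N15929 F99975))
theorem Q31793 : ∀ i, i < 31793 → P i := stepQ 31792 Q31792 (allL N31792 (tt N15917 (iv1 D51547)) (tt N15930 F81329) (tt N15929 F99982) (tt N59318 (iv3 F172582)) (tt N59690 D111796) (tt N18937 (iv5 F81330)) (tt N58741 (iv6 F170556)) (tt N15928 F99983))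
theorem Q31794 : ∀ i, i < 31794 → P i := stepQ 31793 Q31793 (allL N31793 (tt N15929 (iv1 F81335)) (tt N15928 F81337) (tt N15930 F81331) (tt N31020 F81332) (tt N44705 (iv4 F326923)) (tt N19839 F81333) (tt N31038 F81334) (tt N15917 (iv7 D51548)))
theorem Q31795 : ∀ i, i < 31795 → P i := stepQ 31794 Q31794 (allL N31794 (tt N15918 (iv1 D51549)) (tt N15921 F81338) (tt N20084 (iv2 F81341)) (tt N59691 D111797) (tt N29515 F81340) (tt N44154 (iv5 F110946)) (tt N59692 D111798) (tt N20083 F81339))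
theorem Q31796 : ∀ i, i < 31796 → P i := stepQ 31795 Q31795 (allL N31795 (tt N41331 (iv1 F103944)) (tt N52572 (iv0 F318868)) (tt N36328 (iv2 F94393)) (tt N15918 (iv3 D51550)) (tt N31337 F81342) (tt N21339 (iv5 F81344)) (tt N59693 D111800) (tt N27489 F317125))
theorem Q31797 : ∀ i, i < 31797 → P i := stepQ 31796 Q31796 (allL N31796 (tt N44143 (iv1 F110927)) (tt N44146 (iv0 F110933)) (tt N20086 F81345) (tt N21339 F81346) (tt N21343 F81348) (tt N15918 (iv5 D51551)) (tt N52560 (iv6 F316666)) (tt N27487 F314296))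
theorem Q31798 : ∀ i, i < 31798 → P i := stepQ 31797 Q31797 (allL N31797 (tt N59694 D111802) (tt N59695 D111803) (tt N20081 F81349) (tt N59693 (iv3 F173544)) (tt N15919 F81350) (tt N59696 D111804) (tt N15918 (iv6 D51552)) (tt N59697 D111805))
theorem Q31799 : ∀ i, i < 31799 → P i := stepQ 31798 Q31798 (allL N31798 (tt N20082 (iv1 F81356)) (tt N15919 (iv0 D51553)) (tt N20079 F99915) (tt N31033 F161371) (tt N59698 D111806) (tt N59699 D111807) (tt N58375 (iv6 F169213)) (tt N20080 F99914))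
theorem Q31800 : ∀ i, i < 31800 → P i := stepQ 31799 Q31799 (allL N31799 (tt N15919 (iv1 D51554)) (tt N20082 F81351) (tt N20080 (iv2 F99894)) (tt N15937 F161282) (tt N59700 D111808) (tt N20133 (iv5 F81352)) (tt N20514 F161283) (tt N20079 (iv7 F99891)))
theorem Q31801 : ∀ i, i < 31801 → P i := stepQ 31800 Q31800 (allL N31800 (tt N20080 (iv1 F81357)) (tt N20079 F81364) (tt N20082 F81353) (tt N39541 (iv3 F100413)) (tt N59697 (iv4 F173554)) (tt N19881 F81354) (tt N15961 (iv6 F81359)) (tt N15919 (iv7 D51555)))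
theorem Q31802 : ∀ i, i < 31802 → P i := stepQ 31801 Q31801 (allL N31801 (tt N18029 F81367) (tt N18031 F81368) (tt N18053 F81365) (tt N59701 D111809) (tt N15920 (iv4 D51556)) (tt N35663 (iv5 F93088)) (tt N32309 (iv6 F82692)) (tt N18052 F81366))
theorem Q31803 : ∀ i, i < 31803 → P i := stepQ 31802 Q31802 (allL N31802 (tt N59702 D111810) (tt N59703 D111811) (tt N52571 (iv2 F318864)) (tt N15921 (iv3 D51557)) (tt N59701 (iv4 F173582)) (tt N52568 (iv5 F316661)) (tt N55164 (iv6 F321137)) (tt N20085 F81369))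
theorem Q31804 : ∀ i, i < 31804 → P i := stepQ 31803 Q31803 (allL N31803 (tt N44146 (iv1 F110934)) (tt N44143 (iv0 F110926)) (tt N27487 F314291) (tt N52568 (iv3 F316660)) (tt N32007 (iv4 F82025)) (tt N15921 (iv5 D51558)) (tt N27485 F314292) (tt N20086 F81371))
theorem Q31805 : ∀ i, i < 31805 → P i := stepQ 31804 Q31804 (allL N31804 (tt N59704 D111816) (tt N59705 D111817) (tt N29125 F319038) (tt N55164 (iv3 F321135)) (tt N15922 F81373) (tt N29122 (iv5 F321138)) (tt N15921 (iv6 D51559)) (tt N59706 D111819))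
theorem Q31806 : ∀ i, i < 31806 → P i := stepQ 31805 Q31805 (allL N31805 (tt N15922 (iv1 D51560)) (tt N15961 F81374) (tt N15962 (iv2 F81376)) (tt N31038 (iv3 F81377)) (tt N51731 (iv4 F328684)) (tt N33072 (iv5 F84038)) (tt N31020 (iv6 F81378)) (tt N15949 F81375))
theorem Q31807 : ∀ i, i < 31807 → P i := stepQ 31806 Q31806 (allL N31806 (tt N15962 (iv1 F81382)) (tt N15949 F81383) (tt N15961 F81379) (tt N29490 F81380) (tt N59706 (iv4 F173606)) (tt N44167 (iv5 F111009)) (tt N20082 F81381) (tt N15922 (iv7 D51561)))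
theorem Q31808 : ∀ i, i < 31808 → P i := stepQ 31807 Q31807 (allL N31807 (tt N59707 D111821) (tt N59708 D111822) (tt N59709 D111823) (tt N15923 (iv3 D51562)) (tt N58086 (iv4 F168861)) (tt N58646 (iv5 F169904)) (tt N58598 (iv6 F354552)) (tt N31080 F81384))
theorem Q31809 : ∀ i, i < 31809 → P i := stepQ 31808 Q31808 (allL N31808 (tt N59698 (iv1 F173581)) (tt N59700 (iv0 F173579)) (tt N31085 F81385) (tt N58598 (iv3 F354551)) (tt N55686 (iv4 F161397)) (tt N58598 (iv5 F169726)) (tt N15923 (iv6 D51563)) (tt N59710 D111825))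
theorem Q31810 : ∀ i, i < 31810 → P i := stepQ 31809 Q31809 (allL N31809 (tt N59711 D111826) (tt N59712 D111827) (tt N59713 D111828) (tt N15924 (iv3 D51564)) (tt N32065 (iv4 F82214)) (tt N42585 F319639) (tt N59714 D111829) (tt N31083 F81386))
theorem Q31811 : ∀ i, i < 31811 → P i := stepQ 31810 Q31810 (allL N31810 (tt N15960 F81617) (tt N51731 (iv0 F328682)) (tt N31082 F81387) (tt N59714 (iv3 F173633)) (tt N32064 (iv4 F82210)) (tt N48903 F329882) (tt N15924 (iv6 D51565)) (tt N58891 (iv7 F171261)))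
theorem Q31812 : ∀ i, i < 31812 → P i := stepQ 31811 Q31811 (allL N31811 (tt N31088 (iv1 F81388)) (tt N15925 (iv0 D51566)) (tt N31087 F171322) (tt N59715 D111831) (tt N49842 F323921) (tt N58643 F171323) (tt N59716 D111832) (tt N31086 F171324))
theorem Q31813 : ∀ i, i < 31813 → P i := stepQ 31812 Q31812 (allL N31812 (tt N15925 (iv1 D51567)) (tt N31088 F81393) (tt N31086 F171333) (tt N27650 F320052) (tt N31352 (iv4 F81389)) (tt N27644 F320053) (tt N27646 (iv6 F321796)) (tt N31087 F171335))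
theorem Q31814 : ∀ i, i < 31814 → P i := stepQ 31813 Q31813 (allL N31813 (tt N31087 (iv1 F81394)) (tt N31086 F81392) (tt N15925 (iv2 D51568)) (tt N51725 (iv3 F340708)) (tt N15943 F81390) (tt N59717 D111835) (tt N23047 (iv6 F325204)) (tt N31088 F81391))
theorem Q31815 : ∀ i, i < 31815 → P i := stepQ 31814 Q31814 (allL N31814 (tt N59718 D111837) (tt N36296 (iv0 F94317)) (tt N59717 (iv2 F173648)) (tt N15926 F81395) (tt N54714 (iv4 F324387)) (tt N15925 (iv5 D51569)) (tt N59719 D111839) (tt N31089 F81396))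
theorem Q31816 : ∀ i, i < 31816 → P i := stepQ 31815 Q31815 (allL N31815 (tt N31078 (iv1 F81400)) (tt N15926 (iv0 D51571)) (tt N31091 (iv2 F81402)) (tt N59720 D111844) (tt N30566 F81401) (tt N15973 F81399) (tt N59721 D111845) (tt N31090 (iv7 F81403)))
theorem Q31817 : ∀ i, i < 31817 → P i := stepQ 31816 Q31816 (allL N31816 (tt N15926 (iv1 D51572)) (tt N31078 F81404) (tt N31090 (iv2 F81407)) (tt N59722 D111846) (tt N31987 (iv4 F81964)) (tt N15974 F81406) (tt N59723 D111847) (tt N31091 F81405))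
theorem Q31818 : ∀ i, i < 31818 → P i := stepQ 31817 Q31817 (allL N31817 (tt N59724 D111848) (tt N59725 D111849) (tt N58887 (iv2 F171255)) (tt N59719 (iv3 F173659)) (tt N48010 F328399) (tt N59726 D111850) (tt N15926 (iv6 D51573)) (tt N59727 D111851))
theorem Q31819 : ∀ i, i < 31819 → P i := stepQ 31818 Q31818 (allL N31818 (tt N44705 F327196) (tt N15927 (iv0 D51574)) (tt N44704 F327197) (tt N59728 D111852) (tt N55687 (iv4 F170677)) (tt N59729 D111853) (tt N31054 F169860) (tt N44703 F327198))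
theorem Q31820 : ∀ i, i < 31820 → P i := stepQ 31819 Q31819 (allL N31819 (tt N15927 (iv1 D51575)) (tt N44705 (iv0 F326922)) (tt N44703 (iv2 F326928)) (tt N59730 D111854) (tt N55688 (iv4 F169874)) (tt N59731 D111855) (tt N59732 D111856) (tt N44704 (iv7 F326931)))
theorem Q31821 : ∀ i, i < 31821 → P i := stepQ 31820 Q31820 (allL N31820 (tt N59733 D111857) (tt N59734 D111858) (tt N59688 (iv2 F173519)) (tt N24897 F327199) (tt N59735 D111859) (tt N15927 (iv5 D51576)) (tt N59726 (iv6 F173703)) (tt N44706 F327200))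
theorem Q31822 : ∀ i, i < 31822 → P i := stepQ 31821 Q31821 (allL N31821 (tt N59319 (iv1 F172589)) (tt N29481 F163883) (tt N59317 F172572) (tt N15928 (iv3 D51579)) (tt N34755 F327231) (tt N58195 F168988) (tt N31058 F81412) (tt N59318 (iv7 F172579)))
theorem Q31823 : ∀ i, i < 31823 → P i := stepQ 31822 Q31822 (allL N31822 (tt N59736 D111862) (tt N59692 F173538) (tt N59689 (iv2 F173525)) (tt N59737 D111863) (tt N15928 (iv4 D51580)) (tt N59738 D111864) (tt N31059 F81413) (tt N59690 (iv7 F173530)))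
theorem Q31824 : ∀ i, i < 31824 → P i := stepQ 31823 Q31823 (allL N31823 (tt N16567 F81414) (tt N18939 F81415) (tt N18938 F99980) (tt N58195 (iv3 F168989)) (tt N59739 D111865) (tt N15928 (iv5 D51581)) (tt N59740 D111866) (tt N18937 F99981))
theorem Q31825 : ∀ i, i < 31825 → P i := stepQ 31824 Q31824 (allL N31824 (tt N18048 F165577) (tt N30821 F165578) (tt N30820 F165654) (tt N15929 (iv3 D51583)) (tt N59741 D111867) (tt N30047 F165579) (tt N59742 D111868) (tt N30819 F165652))
theorem Q31826 : ∀ i, i < 31826 → P i := stepQ 31825 Q31825 (allL N31825 (tt N59692 F173537) (tt N59736 F173714) (tt N59690 (iv2 F173529)) (tt N49350 (iv3 F327946)) (tt N15929 (iv4 D51584)) (tt N59743 D111870) (tt N59744 D111871) (tt N59689 (iv7 F173527)))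
theorem Q31827 : ∀ i, i < 31827 → P i := stepQ 31826 Q31826 (allL N31826 (tt N18939 (iv1 F83844)) (tt N16567 (iv0 F81417)) (tt N18937 F99976) (tt N30047 F165576) (tt N59745 D111872) (tt N15929 (iv5 D51585)) (tt N19796 (iv6 F81418)) (tt N18938 F99977))
theorem Q31828 : ∀ i, i < 31828 → P i := stepQ 31827 Q31827 (allL N31827 (tt N31980 F161390) (tt N58375 (iv0 F169212)) (tt N58741 F170557) (tt N59742 (iv3 F173736)) (tt N59744 (iv4 F173741)) (tt N31061 F81419) (tt N15929 (iv6 D51586)) (tt N31061 F81420))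
theorem Q31829 : ∀ i, i < 31829 → P i := stepQ 31828 Q31828 (allL N31828 (tt N59746 D111873) (tt N45366 F325550) (tt N59747 D111875) (tt N15933 (iv3 D51587)) (tt N15935 F81421) (tt N58255 (iv5 F169067)) (tt N45620 (iv6 F325825)) (tt N30837 F81422))
theorem Q31830 : ∀ i, i < 31830 → P i := stepQ 31829 Q31829 (allL N31829 (tt N59748 D111877) (tt N59749 D111878) (tt N30833 F81423) (tt N45620 F326230) (tt N15934 F81424) (tt N45506 F343736) (tt N15933 (iv6 D51588)) (tt N59489 (iv7 F173013)))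
theorem Q31831 : ∀ i, i < 31831 → P i := stepQ 31830 Q31830 (allL N31830 (tt N30836 (iv1 F81426)) (tt N15934 (iv0 D51589)) (tt N30834 F102463) (tt N59750 D111880) (tt N59751 D111881) (tt N59236 (iv5 F172398)) (tt N31778 F81425) (tt N30835 F102461))
theorem Q31832 : ∀ i, i < 31832 → P i := stepQ 31831 Q31831 (allL N31831 (tt N15934 (iv1 D51590)) (tt N30836 F81427) (tt N30835 (iv2 F102462)) (tt N56957 (iv3 F173801)) (tt N59752 D111883) (tt N59525 (iv5 F173062)) (tt N20475 (iv6 F101694)) (tt N30834 (iv7 F102465)))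
theorem Q31833 : ∀ i, i < 31833 → P i := stepQ 31832 Q31832 (allL N31832 (tt N31063 (iv1 F81434)) (tt N31062 F81432) (tt N15935 (iv2 D51593)) (tt N20519 F81429) (tt N59747 (iv4 F173761)) (tt N20519 F81430) (tt N45615 (iv6 F325824)) (tt N31064 F81431))
theorem Q31834 : ∀ i, i < 31834 → P i := stepQ 31833 Q31833 (allL N31833 (tt N31034 F161263) (tt N15955 F161264) (tt N31033 F161265) (tt N15936 (iv3 D51596)) (tt N59753 D111888) (tt N44231 F161266) (tt N31980 F81946) (tt N20514 F81441))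
theorem Q31835 : ∀ i, i < 31835 → P i := stepQ 31834 Q31834 (allL N31834 (tt N31970 F170051) (tt N34462 (iv0 F325339)) (tt N58699 (iv2 F170333)) (tt N15940 F81452) (tt N59410 (iv4 F172861)) (tt N59754 D111890) (tt N15939 (iv6 D51601)) (tt N31107 (iv7 F81453)))
theorem Q31836 : ∀ i, i < 31836 → P i := stepQ 31835 Q31835 (allL N31835 (tt N24085 (iv1 F324101)) (tt N24105 (iv0 F324102)) (tt N24133 (iv2 F324099)) (tt N59754 (iv3 F173818)) (tt N59755 D111892) (tt N15940 (iv5 D51602)) (tt N24133 (iv6 F324100)) (tt N24072 (iv7 F324107)))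
theorem Q31837 : ∀ i, i < 31837 → P i := stepQ 31836 Q31836 (allL N31836 (tt N59756 D111895) (tt N29067 F324018) (tt N31105 F173334) (tt N59757 D111897) (tt N15941 (iv4 D51605)) (tt N59758 D111898) (tt N24628 (iv6 F325304)) (tt N31103 F173335))
theorem Q31838 : ∀ i, i < 31838 → P i := stepQ 31837 Q31837 (allL N31837 (tt N17829 F323896) (tt N35903 F171329) (tt N25029 F323897) (tt N15942 (iv3 D51609)) (tt N59759 D111906) (tt N25317 (iv5 F324524)) (tt N25003 (iv6 F325163)) (tt N31104 F173337))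
theorem Q31839 : ∀ i, i < 31839 → P i := stepQ 31838 Q31838 (allL N31838 (tt N29067 F325197) (tt N59756 F173837) (tt N31103 F173338) (tt N59760 D111908) (tt N15942 (iv4 D51610)) (tt N59761 D111909) (tt N59762 D111910) (tt N31105 F173339))
theorem Q31840 : ∀ i, i < 31840 → P i := stepQ 31839 Q31839 (allL N31839 (tt N15967 (iv1 F326451)) (tt N24413 (iv0 F326450)) (tt N24878 (iv2 F324538)) (tt N25003 (iv3 F325162)) (tt N59762 (iv4 F173883)) (tt N44727 (iv5 F326231)) (tt N15942 (iv6 D51612)) (tt N24626 (iv7 F326449)))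
theorem Q31841 : ∀ i, i < 31841 → P i := stepQ 31840 Q31840 (allL N31840 (tt N59763 D111943) (tt N32399 (iv0 F164100)) (tt N30858 F164349) (tt N34466 (iv3 F326755)) (tt N15944 (iv4 D51625)) (tt N59764 D111945) (tt N31072 F81484) (tt N30860 (iv7 F164320)))
theorem Q31842 : ∀ i, i < 31842 → P i := stepQ 31841 Q31841 (allL N31841 (tt N59765 D111953) (tt N59766 D111954) (tt N59767 D111955) (tt N15946 (iv3 D51634)) (tt N29510 F81505) (tt N59768 D111956) (tt N59769 D111957) (tt N19918 F81506))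
theorem Q31843 : ∀ i, i < 31843 → P i := stepQ 31842 Q31842 (allL N31842 (tt N39227 (iv1 F99667)) (tt N39226 F99665) (tt N29674 F81507) (tt N59768 (iv3 F173974)) (tt N29620 F81508) (tt N15946 (iv5 D51635)) (tt N59770 D111958) (tt N19919 F81509))
theorem Q31844 : ∀ i, i < 31844 → P i := stepQ 31843 Q31843 (allL N31843 (tt N59683 (iv1 F173491)) (tt N59682 F173488) (tt N31013 F81510) (tt N59769 (iv3 F173976)) (tt N15947 F81511) (tt N59771 D111959) (tt N15946 (iv6 D51636)) (tt N31076 F81512))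
theorem Q31845 : ∀ i, i < 31845 → P i := stepQ 31844 Q31844 (allL N31844 (tt N52566 (iv1 F340704)) (tt N59772 D111961) (tt N51730 F327380) (tt N15948 (iv3 D51637)) (tt N31077 F81513) (tt N59773 D111963) (tt N27621 (iv6 F327913)) (tt N31015 F81514))
theorem Q31846 : ∀ i, i < 31846 → P i := stepQ 31845 Q31845 (allL N31845 (tt N31052 F81518) (tt N31051 F81519) (tt N15959 F81515) (tt N59773 (iv3 F173990)) (tt N29672 F81516) (tt N15948 (iv5 D51638)) (tt N59774 D111965) (tt N31016 F81517))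
theorem Q31847 : ∀ i, i < 31847 → P i := stepQ 31846 Q31846 (allL N31846 (tt N58891 F171263) (tt N31082 (iv0 F81522)) (tt N15960 F81520) (tt N27621 F328287) (tt N15949 F81521) (tt N59775 D111966) (tt N15948 (iv6 D51639)) (tt N51731 (iv7 F328686)))
theorem Q31848 : ∀ i, i < 31848 → P i := stepQ 31847 Q31847 (allL N31847 (tt N15954 (iv1 F81524)) (tt N15952 (iv0 D51640)) (tt N29625 (iv2 F81525)) (tt N59776 D111967) (tt N18027 F81523) (tt N39226 (iv5 F99664)) (tt N59777 D111968) (tt N18063 (iv7 F81526)))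
theorem Q31849 : ∀ i, i < 31849 → P i := stepQ 31848 Q31848 (allL N31848 (tt N15952 (iv1 D51641)) (tt N15954 F81527) (tt N18063 (iv2 F81530)) (tt N59778 D111969) (tt N18061 F81529) (tt N39227 (iv5 F99668)) (tt N59704 (iv6 F173596)) (tt N29625 F81528))
theorem Q31850 : ∀ i, i < 31850 → P i := stepQ 31849 Q31849 (allL N31849 (tt N59779 D111970) (tt N55171 (iv0 F352007)) (tt N59780 D111972) (tt N15952 (iv3 D51642)) (tt N31274 F81531) (tt N59781 D111973) (tt N59782 D111974) (tt N31030 F81532))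
theorem Q31851 : ∀ i, i < 31851 → P i := stepQ 31850 Q31850 (allL N31850 (tt N35676 (iv1 F93110)) (tt N39229 (iv0 F99673)) (tt N31036 F81533) (tt N59781 (iv3 F174015)) (tt N32090 (iv4 F82278)) (tt N15952 (iv5 D51643)) (tt N59783 D111975) (tt N31031 F81534))
theorem Q31852 : ∀ i, i < 31852 → P i := stepQ 31851 Q31851 (allL N31851 (tt N32438 F82848) (tt N59784 D111976) (tt N31037 F81535) (tt N59782 (iv3 F174017)) (tt N15953 F81536) (tt N59785 D111977) (tt N15952 (iv6 D51644)) (tt N31097 (iv7 F81537)))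
theorem Q31853 : ∀ i, i < 31853 → P i := stepQ 31852 Q31852 (allL N31852 (tt N59786 D111978) (tt N59787 D111979) (tt N59788 D111980) (tt N15954 (iv3 D51645)) (tt N32052 (iv4 F82173)) (tt N59789 D111981) (tt N59790 D111982) (tt N31035 F81538))
theorem Q31854 : ∀ i, i < 31854 → P i := stepQ 31853 Q31853 (allL N31853 (tt N39229 (iv1 F99674)) (tt N35676 (iv0 F93109)) (tt N31031 F81539) (tt N59789 (iv3 F174033)) (tt N41231 (iv4 F103687)) (tt N15954 (iv5 D51646)) (tt N59791 D111983) (tt N31036 F81540))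
theorem Q31855 : ∀ i, i < 31855 → P i := stepQ 31854 Q31854 (allL N31854 (tt N59792 D111984) (tt N59793 D111985) (tt N31032 F81541) (tt N59790 (iv3 F174035)) (tt N15955 F81542) (tt N59794 D111986) (tt N15954 (iv6 D51647)) (tt N59795 D111987))
theorem Q31856 : ∀ i, i < 31856 → P i := stepQ 31855 Q31855 (allL N31855 (tt N15955 (iv1 D51649)) (tt N31034 F81543) (tt N20514 F161281) (tt N20080 F161372) (tt N59796 D111988) (tt N59797 D111989) (tt N20080 (iv6 F99578)) (tt N31033 (iv7 F99917)))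
theorem Q31857 : ∀ i, i < 31857 → P i := stepQ 31856 Q31856 (allL N31856 (tt N20514 F161280) (tt N31033 F81549) (tt N31034 F81544) (tt N32051 (iv3 F82168)) (tt N59795 (iv4 F174043)) (tt N16619 F81545) (tt N31039 F81546) (tt N15955 (iv7 D51650)))
theorem Q31858 : ∀ i, i < 31858 → P i := stepQ 31857 Q31857 (allL N31857 (tt N59798 D111990) (tt N59799 D111991) (tt N59800 D111992) (tt N15956 (iv3 D51651)) (tt N30843 F81550) (tt N58582 (iv5 F169714)) (tt N59801 D111993) (tt N31040 F81551))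
theorem Q31859 : ∀ i, i < 31859 → P i := stepQ 31858 Q31858 (allL N31858 (tt N31079 F81553) (tt N24686 F326039) (tt N31045 F81552) (tt N59801 (iv3 F174067)) (tt N35633 (iv4 F93029)) (tt N59802 D111994) (tt N15956 (iv6 D51652)) (tt N31094 (iv7 F169330)))
theorem Q31860 : ∀ i, i < 31860 → P i := stepQ 31859 Q31859 (allL N31859 (tt N59803 D111995) (tt N59804 D111996) (tt N59805 D111997) (tt N15957 (iv3 D51653)) (tt N31996 (iv4 F81989)) (tt N58584 (iv5 F169717)) (tt N59806 D111998) (tt N31043 F81555))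
theorem Q31861 : ∀ i, i < 31861 → P i := stepQ 31860 Q31860 (allL N31860 (tt N59753 F173814) (tt N59796 (iv0 F174051)) (tt N31042 F81556) (tt N59806 (iv3 F174078)) (tt N31995 (iv4 F81987)) (tt N59807 D111999) (tt N15957 (iv6 D51654)) (tt N59808 D112000))
theorem Q31862 : ∀ i, i < 31862 → P i := stepQ 31861 Q31861 (allL N31861 (tt N31048 (iv1 F81557)) (tt N15958 (iv0 D51655)) (tt N31047 F171073) (tt N59809 D112001) (tt N45793 F325557) (tt N58577 (iv5 F171076)) (tt N24684 (iv6 F326391)) (tt N31046 F171074))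
theorem Q31863 : ∀ i, i < 31863 → P i := stepQ 31862 Q31862 (allL N31862 (tt N15958 (iv1 D51656)) (tt N31048 F81562) (tt N31046 F171053) (tt N59810 D112004) (tt N31310 (iv4 F81558)) (tt N58578 (iv5 F169709)) (tt N34635 (iv6 F325208)) (tt N31047 F171054))
theorem Q31864 : ∀ i, i < 31864 → P i := stepQ 31863 Q31863 (allL N31863 (tt N31047 (iv1 F81563)) (tt N31046 F81561) (tt N15958 (iv2 D51657)) (tt N51730 (iv3 F326729)) (tt N15966 F81559) (tt N54482 (iv5 F344540)) (tt N24879 F325561) (tt N31048 F81560))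
theorem Q31865 : ∀ i, i < 31865 → P i := stepQ 31864 Q31864 (allL N31864 (tt N53401 (iv1 F344543)) (tt N54483 (iv0 F344533)) (tt N54482 (iv2 F344539)) (tt N15959 F81564) (tt N28991 F326378) (tt N15958 (iv5 D51658)) (tt N55085 (iv6 F340547)) (tt N31049 F81565))
theorem Q31866 : ∀ i, i < 31866 → P i := stepQ 31865 Q31865 (allL N31865 (tt N46249 (iv1 F325352)) (tt N27646 (iv0 F324879)) (tt N24879 (iv2 F324880)) (tt N15960 F81566) (tt N15967 F81567) (tt N52142 (iv5 F324882)) (tt N15958 (iv6 D51659)) (tt N24882 (iv7 F325354)))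
theorem Q31867 : ∀ i, i < 31867 → P i := stepQ 31866 Q31866 (allL N31866 (tt N31016 (iv1 F81569)) (tt N15959 (iv0 D51660)) (tt N31052 (iv2 F81570)) (tt N59811 D112016) (tt N55900 (iv4 F162075)) (tt N15996 F81568) (tt N59812 D112017) (tt N31051 (iv7 F81571)))
theorem Q31868 : ∀ i, i < 31868 → P i := stepQ 31867 Q31867 (allL N31867 (tt N15959 (iv1 D51661)) (tt N31016 F81572) (tt N31051 (iv2 F81575)) (tt N59813 D112018) (tt N39239 (iv4 F99693)) (tt N15997 F81574) (tt N59814 D112019) (tt N31052 F81573))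
theorem Q31869 : ∀ i, i < 31869 → P i := stepQ 31868 Q31868 (allL N31868 (tt N29676 F81579) (tt N29620 (iv0 F81580)) (tt N29672 F81576) (tt N59815 D112020) (tt N15959 (iv4 D51662)) (tt N16596 F81577) (tt N59816 D112021) (tt N29673 F81578))
theorem Q31870 : ∀ i, i < 31870 → P i := stepQ 31869 Q31869 (allL N31869 (tt N59817 D112022) (tt N59818 D112023) (tt N59774 (iv2 F173994)) (tt N55085 (iv3 F340545)) (tt N59816 (iv4 F174128)) (tt N59819 D112024) (tt N15959 (iv6 D51663)) (tt N59820 D112025))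
theorem Q31871 : ∀ i, i < 31871 → P i := stepQ 31870 Q31870 (allL N31870 (tt N51731 F329084) (tt N15960 (iv0 D51664)) (tt N58891 (iv2 F171259)) (tt N59821 D112026) (tt N35637 F101545) (tt N49166 (iv5 F329422)) (tt N59710 (iv6 F173623)) (tt N31082 (iv7 F101546)))
theorem Q31872 : ∀ i, i < 31872 → P i := stepQ 31871 Q31871 (allL N31871 (tt N59822 D112028) (tt N59823 D112029) (tt N59775 (iv2 F173996)) (tt N52142 (iv3 F324881)) (tt N59824 D112030) (tt N15960 (iv5 D51666)) (tt N59819 (iv6 F174129)) (tt N59825 D112031))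
theorem Q31873 : ∀ i, i < 31873 → P i := stepQ 31872 Q31872 (allL N31872 (tt N31082 (iv1 F81583)) (tt N58891 (iv0 F171262)) (tt N51731 (iv2 F328683)) (tt N24882 (iv3 F325353)) (tt N15962 F81581) (tt N59825 (iv5 F174134)) (tt N31057 F81582) (tt N15960 (iv7 D51667)))
theorem Q31874 : ∀ i, i < 31874 → P i := stepQ 31873 Q31873 (allL N31873 (tt N30880 (iv1 F81585)) (tt N30870 F81589) (tt N30878 F81586) (tt N15961 (iv3 D51668)) (tt N34746 F327260) (tt N44220 (iv5 F111137)) (tt N39541 (iv6 F100415)) (tt N30879 F81584))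
theorem Q31875 : ∀ i, i < 31875 → P i := stepQ 31874 Q31874 (allL N31874 (tt N59705 (iv1 F173600)) (tt N59704 (iv0 F173599)) (tt N59706 (iv2 F173605)) (tt N29129 (iv3 F319399)) (tt N15961 (iv4 D51669)) (tt N29126 (iv5 F321139)) (tt N59697 (iv6 F173555)) (tt N29125 F319040))
theorem Q31876 : ∀ i, i < 31876 → P i := stepQ 31875 Q31875 (allL N31875 (tt N45460 (iv1 F324862)) (tt N59826 D112038) (tt N31070 F173327) (tt N59827 D112039) (tt N15964 (iv4 D51672)) (tt N59828 D112040) (tt N24681 (iv6 F324866)) (tt N31069 F173328))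
theorem Q31877 : ∀ i, i < 31877 → P i := stepQ 31876 Q31876 (allL N31876 (tt N25037 F323104) (tt N24366 (iv0 F324521)) (tt N25316 (iv2 F323156)) (tt N15965 (iv3 D51676)) (tt N59829 D112047) (tt N31104 (iv5 F105472)) (tt N17852 (iv6 F324529)) (tt N25317 (iv7 F324525)))
theorem Q31878 : ∀ i, i < 31878 → P i := stepQ 31877 Q31877 (allL N31877 (tt N59826 (iv1 F174153)) (tt N45460 F325629) (tt N31069 F173317) (tt N59830 D112049) (tt N15965 (iv4 D51677)) (tt N54412 (iv5 F349504)) (tt N59831 D112051) (tt N31070 F173318))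
theorem Q31879 : ∀ i, i < 31879 → P i := stepQ 31878 Q31878 (allL N31878 (tt N23043 (iv1 F326443)) (tt N23040 (iv0 F326444)) (tt N24585 F325630) (tt N17852 F325631) (tt N59831 (iv4 F174189)) (tt N17850 (iv5 F326445)) (tt N15965 (iv6 D51679)) (tt N24583 (iv7 F326446)))
theorem Q31880 : ∀ i, i < 31880 → P i := stepQ 31879 Q31879 (allL N31879 (tt N25420 (iv1 F325336)) (tt N45657 (iv0 F325195)) (tt N54842 (iv2 F325337)) (tt N15970 (iv3 D51689)) (tt N25033 (iv4 F325333)) (tt N24127 (iv5 F325338)) (tt N45537 F324118) (tt N31065 F81607))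
theorem Q31881 : ∀ i, i < 31881 → P i := stepQ 31880 Q31880 (allL N31880 (tt N59832 D112087) (tt N59833 D112088) (tt N52223 (iv2 F337323)) (tt N15971 (iv3 D51691)) (tt N31117 F81610) (tt N27357 F337310) (tt N59834 D112091) (tt N31155 F81611))
theorem Q31882 : ∀ i, i < 31882 → P i := stepQ 31881 Q31881 (allL N31881 (tt N31168 F81615) (tt N31167 F81616) (tt N15976 F81612) (tt N27357 F337309) (tt N18198 F81613) (tt N15971 (iv5 D51692)) (tt N46276 F322543) (tt N31156 F81614))
theorem Q31883 : ∀ i, i < 31883 → P i := stepQ 31882 Q31882 (allL N31882 (tt N59835 D112093) (tt N59836 D112094) (tt N15977 F81618) (tt N59834 (iv3 F174256)) (tt N15972 F81619) (tt N59837 D112095) (tt N15971 (iv6 D51693)) (tt N59838 D112096))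
theorem Q31884 : ∀ i, i < 31884 → P i := stepQ 31883 Q31883 (allL N31883 (tt N15980 (iv1 F81624)) (tt N15972 (iv0 D51694)) (tt N15978 F99277) (tt N30911 (iv3 F165558)) (tt N59839 D112097) (tt N59840 D112098) (tt N16002 F81751) (tt N15979 F99278))
theorem Q31885 : ∀ i, i < 31885 → P i := stepQ 31884 Q31884 (allL N31884 (tt N15972 (iv1 D51695)) (tt N15980 F81620) (tt N15979 F99279) (tt N59339 F172666) (tt N59841 D112099) (tt N44296 (iv5 F111542)) (tt N40170 (iv6 F101275)) (tt N15978 F99280))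
theorem Q31886 : ∀ i, i < 31886 → P i := stepQ 31885 Q31885 (allL N31885 (tt N15979 (iv1 F81625)) (tt N15978 F81626) (tt N15980 F81621) (tt N31122 F81622) (tt N59838 (iv4 F174264)) (tt N33040 (iv5 F83957)) (tt N31159 F81623) (tt N15972 (iv7 D51696)))
theorem Q31887 : ∀ i, i < 31887 → P i := stepQ 31886 Q31886 (allL N31886 (tt N59842 D112100) (tt N59843 D112101) (tt N59844 D112102) (tt N15973 (iv3 D51697)) (tt N59341 (iv4 F172674)) (tt N59720 (iv5 F173664)) (tt N59845 D112103) (tt N31160 F81627))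
theorem Q31888 : ∀ i, i < 31888 → P i := stepQ 31887 Q31887 (allL N31887 (tt N59685 F173500) (tt N31234 (iv0 F166188)) (tt N31162 F81628) (tt N59845 (iv3 F174295)) (tt N31985 (iv4 F81959)) (tt N59846 D112104) (tt N15973 (iv6 D51698)) (tt N31124 F81629))
theorem Q31889 : ∀ i, i < 31889 → P i := stepQ 31888 Q31888 (allL N31888 (tt N59847 D112105) (tt N59848 D112106) (tt N59849 D112107) (tt N15974 (iv3 D51699)) (tt N30428 F81630) (tt N59722 (iv5 F173668)) (tt N31125 F81631) (tt N31161 F81632))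
theorem Q31890 : ∀ i, i < 31890 → P i := stepQ 31889 Q31889 (allL N31889 (tt N31165 (iv1 F81633)) (tt N15975 (iv0 D51700)) (tt N31164 (iv2 F105370)) (tt N59850 D112108) (tt N46319 F324464) (tt N59718 (iv5 F173654)) (tt N59851 D112109) (tt N31163 F105371))
theorem Q31891 : ∀ i, i < 31891 → P i := stepQ 31890 Q31890 (allL N31890 (tt N15975 (iv1 D51701)) (tt N31165 F81638) (tt N31163 F105369) (tt N36297 (iv3 F94319)) (tt N23793 F322504) (tt N36296 F94318) (tt N31127 F325240) (tt N31164 (iv7 F105368)))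
theorem Q31892 : ∀ i, i < 31892 → P i := stepQ 31891 Q31891 (allL N31891 (tt N31164 (iv1 F81639)) (tt N31163 F81637) (tt N15975 (iv2 D51702)) (tt N52223 (iv3 F337324)) (tt N15983 F81635) (tt N52222 (iv5 F320046)) (tt N47062 (iv6 F325579)) (tt N31165 F81636))
theorem Q31893 : ∀ i, i < 31893 → P i := stepQ 31892 Q31892 (allL N31892 (tt N52260 (iv1 F320049)) (tt N36323 (iv0 F94382)) (tt N52222 (iv2 F320045)) (tt N15976 F81640) (tt N54709 (iv4 F349496)) (tt N15975 (iv5 D51703)) (tt N59852 D112114) (tt N31166 F81641))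
theorem Q31894 : ∀ i, i < 31894 → P i := stepQ 31893 Q31893 (allL N31893 (tt N47059 (iv1 F326151)) (tt N23696 (iv0 F326152)) (tt N47062 (iv2 F325578)) (tt N15977 F81642) (tt N15984 F81643) (tt N59853 D112117) (tt N15975 (iv6 D51704)) (tt N46322 (iv7 F326159)))
theorem Q31895 : ∀ i, i < 31895 → P i := stepQ 31894 Q31894 (allL N31894 (tt N31338 F81647) (tt N31335 F81648) (tt N18198 F81644) (tt N59854 D112119) (tt N15976 (iv4 D51705)) (tt N18195 F81645) (tt N46273 F322542) (tt N31169 F81646))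
theorem Q31896 : ∀ i, i < 31896 → P i := stepQ 31895 Q31895 (allL N31895 (tt N59855 D112121) (tt N59856 D112122) (tt N46276 F323163) (tt N59852 (iv3 F174324)) (tt N46273 F323164) (tt N59857 D112123) (tt N15976 (iv6 D51706)) (tt N59858 D112124))
theorem Q31897 : ∀ i, i < 31897 → P i := stepQ 31896 Q31896 (allL N31896 (tt N59838 (iv1 F174274)) (tt N15977 (iv0 D51707)) (tt N59835 (iv2 F174269)) (tt N59859 D112125) (tt N56212 F173191) (tt N59860 D112126) (tt N59861 D112127) (tt N59836 F174273))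
theorem Q31898 : ∀ i, i < 31898 → P i := stepQ 31897 Q31897 (allL N31897 (tt N15977 (iv1 D51708)) (tt N59838 F174267) (tt N59836 F174272) (tt N59862 D112128) (tt N56213 (iv4 F169335)) (tt N59863 D112129) (tt N59864 D112130) (tt N59835 (iv7 F174270)))
theorem Q31899 : ∀ i, i < 31899 → P i := stepQ 31898 Q31898 (allL N31898 (tt N58431 F169334) (tt N59865 D112131) (tt N59837 (iv2 F174261)) (tt N59853 (iv3 F174325)) (tt N59866 D112132) (tt N15977 (iv5 D51709)) (tt N59857 (iv6 F174333)) (tt N59867 D112133))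
theorem Q31900 : ∀ i, i < 31900 → P i := stepQ 31899 Q31899 (allL N31899 (tt N59836 (iv1 F174260)) (tt N59835 F174266) (tt N59838 (iv2 F174263)) (tt N46322 (iv3 F326158)) (tt N15980 F81649) (tt N59867 (iv5 F174337)) (tt N31174 F81650) (tt N15977 (iv7 D51710)))
theorem Q31901 : ∀ i, i < 31901 → P i := stepQ 31900 Q31900 (allL N31900 (tt N59340 (iv1 F172673)) (tt N29494 F168167) (tt N59338 F172658) (tt N15978 (iv3 D51712)) (tt N23708 F326490) (tt N59868 D112135) (tt N30939 F168168) (tt N59339 (iv7 F172664)))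
theorem Q31902 : ∀ i, i < 31902 → P i := stepQ 31901 Q31901 (allL N31901 (tt N59869 D112136) (tt N44149 F174279) (tt N59839 (iv2 F174275)) (tt N59870 D112137) (tt N15978 (iv4 D51713)) (tt N59871 D112138) (tt N59872 D112139) (tt N59841 (iv7 F174286)))
theorem Q31903 : ∀ i, i < 31903 → P i := stepQ 31902 Q31902 (allL N31902 (tt N59797 F174059) (tt N44231 (iv0 F111163)) (tt N59840 (iv2 F174280)) (tt N59868 (iv3 F174344)) (tt N59873 D112140) (tt N15978 (iv5 D51714)) (tt N38581 (iv6 F98433)) (tt N44296 (iv7 F111543)))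
theorem Q31904 : ∀ i, i < 31904 → P i := stepQ 31903 Q31903 (allL N31903 (tt N15995 F81654) (tt N16003 (iv0 F81653)) (tt N16002 F99265) (tt N30939 (iv3 F168166)) (tt N59872 (iv4 F174350)) (tt N19838 F81652) (tt N15978 (iv6 D51715)) (tt N16001 F99266))
theorem Q31905 : ∀ i, i < 31905 → P i := stepQ 31904 Q31904 (allL N31904 (tt N29475 F165553) (tt N30257 F165554) (tt N30912 F165555) (tt N15979 (iv3 D51717)) (tt N59874 D112141) (tt N56398 F165556) (tt N59875 D112142) (tt N30911 F165557))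
theorem Q31906 : ∀ i, i < 31906 → P i := stepQ 31905 Q31905 (allL N31905 (tt N44149 (iv1 F166054)) (tt N59869 F174346) (tt N59841 (iv2 F174285)) (tt N59876 D112143) (tt N15979 (iv4 D51718)) (tt N59877 D112144) (tt N59878 D112145) (tt N59839 (iv7 F174277)))
theorem Q31907 : ∀ i, i < 31907 → P i := stepQ 31906 Q31906 (allL N31906 (tt N44231 F111165) (tt N59797 (iv0 F174058)) (tt N44296 (iv2 F111541)) (tt N56398 (iv3 F165552)) (tt N59879 D112146) (tt N15979 (iv5 D51719)) (tt N16658 (iv6 F81657)) (tt N59840 (iv7 F174282)))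
theorem Q31908 : ∀ i, i < 31908 → P i := stepQ 31907 Q31907 (allL N31907 (tt N39955 (iv1 F161376)) (tt N59686 (iv0 F173505)) (tt N40170 (iv2 F101273)) (tt N59875 (iv3 F174358)) (tt N59878 (iv4 F174363)) (tt N33070 (iv5 F84032)) (tt N15979 (iv6 D51720)) (tt N40173 (iv7 F101282)))
theorem Q31909 : ∀ i, i < 31909 → P i := stepQ 31908 Q31908 (allL N31908 (tt N31974 F81933) (tt N59880 D112148) (tt N31180 (iv2 F170023)) (tt N59881 D112149) (tt N15981 (iv4 D51723)) (tt N59882 D112150) (tt N59883 D112151) (tt N31179 F170022))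
theorem Q31910 : ∀ i, i < 31910 → P i := stepQ 31909 Q31909 (allL N31909 (tt N24884 (iv1 F325272)) (tt N31237 F326913) (tt N31181 F170039) (tt N25284 F324002) (tt N59883 (iv4 F174384)) (tt N31146 (iv5 F325609)) (tt N15981 (iv6 D51725)) (tt N31146 (iv7 F325610)))
theorem Q31911 : ∀ i, i < 31911 → P i := stepQ 31910 Q31910 (allL N31910 (tt N25330 F321451) (tt N24368 (iv0 F323092)) (tt N25328 (iv2 F322515)) (tt N15982 (iv3 D51727)) (tt N58678 F170261) (tt N31942 (iv5 F81786)) (tt N31147 F324520) (tt N25329 (iv7 F323097)))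
theorem Q31912 : ∀ i, i < 31912 → P i := stepQ 31911 Q31911 (allL N31911 (tt N59880 (iv1 F174366)) (tt N31974 F170024) (tt N31179 (iv2 F170018)) (tt N59884 D112157) (tt N15982 (iv4 D51728)) (tt N54716 (iv5 F324380)) (tt N31148 (iv6 F325624)) (tt N31180 (iv7 F170017)))
theorem Q31913 : ∀ i, i < 31913 → P i := stepQ 31912 Q31912 (allL N31912 (tt N24885 F324841) (tt N31239 F81679) (tt N24648 (iv2 F325077)) (tt N24241 (iv3 F325893)) (tt N18194 F81674) (tt N24208 F324842) (tt N15986 (iv6 D51740)) (tt N23948 (iv7 F325074)))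
theorem Q31914 : ∀ i, i < 31914 → P i := stepQ 31913 Q31913 (allL N31913 (tt N23545 (iv1 F324760)) (tt N23542 F324688) (tt N23601 (iv2 F324872)) (tt N59885 D112199) (tt N15987 (iv4 D51742)) (tt N40497 (iv5 F101780)) (tt N23550 F324689) (tt N23549 (iv7 F324871)))
theorem Q31915 : ∀ i, i < 31915 → P i := stepQ 31914 Q31914 (allL N31914 (tt N30969 (iv1 F168527)) (tt N30802 (iv0 F168410)) (tt N30929 (iv2 F164017)) (tt N35269 (iv3 F326936)) (tt N15989 (iv4 D51747)) (tt N59886 D112203) (tt N31182 F81699) (tt N30931 (iv7 F163936)))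
theorem Q31916 : ∀ i, i < 31916 → P i := stepQ 31915 Q31915 (allL N31915 (tt N20614 F163909) (tt N44365 F163910) (tt N30930 F163911) (tt N15990 F81701) (tt N59887 D112204) (tt N15989 (iv5 D51748)) (tt N38586 (iv6 F98438)) (tt N20777 F81702))
theorem Q31917 : ∀ i, i < 31917 → P i := stepQ 31916 Q31916 (allL N31916 (tt N20633 F81709) (tt N41585 (iv0 F104480)) (tt N31152 F81707) (tt N59888 D112211) (tt N15990 (iv4 D51751)) (tt N40485 F101761) (tt N38587 (iv6 F98440)) (tt N20779 F81708))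
theorem Q31918 : ∀ i, i < 31918 → P i := stepQ 31917 Q31917 (allL N31917 (tt N16022 F326919) (tt N45327 (iv0 F326032)) (tt N52800 (iv2 F326034)) (tt N15991 (iv3 D51758)) (tt N34991 (iv4 F326031)) (tt N23510 F325054) (tt N34727 F325055) (tt N23509 (iv7 F325377)))
theorem Q31919 : ∀ i, i < 31919 → P i := stepQ 31918 Q31918 (allL N31918 (tt N41585 (iv1 F104481)) (tt N20633 F81734) (tt N20779 F81731) (tt N59889 D112219) (tt N15992 (iv4 D51761)) (tt N40484 (iv5 F101758)) (tt N16790 F81732) (tt N31152 F81733))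
theorem Q31920 : ∀ i, i < 31920 → P i := stepQ 31919 Q31919 (allL N31919 (tt N59890 D112220) (tt N59891 D112221) (tt N59892 D112222) (tt N15994 (iv3 D51762)) (tt N31155 F81735) (tt N59893 D112223) (tt N59894 D112224) (tt N31117 F81736))
theorem Q31921 : ∀ i, i < 31921 → P i := stepQ 31920 Q31920 (allL N31920 (tt N31132 F81740) (tt N31131 F81741) (tt N15999 F81737) (tt N59893 (iv3 F174517)) (tt N29663 F81738) (tt N15994 (iv5 D51763)) (tt N59895 D112225) (tt N31118 F81739))
theorem Q31922 : ∀ i, i < 31922 → P i := stepQ 31921 Q31921 (allL N31921 (tt N59896 D112226) (tt N59861 (iv0 F174548)) (tt N16000 F81742) (tt N59894 (iv3 F174519)) (tt N15995 F81743) (tt N59897 D112228) (tt N15994 (iv6 D51764)) (tt N59898 D112229))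
theorem Q31923 : ∀ i, i < 31923 → P i := stepQ 31922 Q31922 (allL N31922 (tt N16003 F81745) (tt N15995 (iv0 D51765)) (tt N16001 F99261) (tt N29498 F165563) (tt N59899 D112230) (tt N19837 F81744) (tt N40173 (iv6 F101281)) (tt N16002 F99262))
theorem Q31924 : ∀ i, i < 31924 → P i := stepQ 31923 Q31923 (allL N31923 (tt N16002 (iv1 F81749)) (tt N16001 F81752) (tt N16003 F81746) (tt N31159 F81747) (tt N59898 (iv4 F174529)) (tt N32992 (iv5 F83843)) (tt N31122 F81748) (tt N15995 (iv7 D51766)))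
theorem Q31925 : ∀ i, i < 31925 → P i := stepQ 31924 Q31924 (allL N31924 (tt N59900 D112231) (tt N59901 D112232) (tt N59902 D112233) (tt N15996 (iv3 D51767)) (tt N30915 F81753) (tt N59811 (iv5 F174117)) (tt N31160 F81754) (tt N31123 F81755))
theorem Q31926 : ∀ i, i < 31926 → P i := stepQ 31925 Q31925 (allL N31925 (tt N59903 D112234) (tt N59904 D112235) (tt N59905 D112236) (tt N15997 (iv3 D51768)) (tt N31986 (iv4 F81961)) (tt N59813 (iv5 F174121)) (tt N59906 D112237) (tt N31125 F81756))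
theorem Q31927 : ∀ i, i < 31927 → P i := stepQ 31926 Q31926 (allL N31926 (tt N31234 (iv1 F166189)) (tt N59685 (iv0 F173499)) (tt N31124 F81757) (tt N59906 (iv3 F174573)) (tt N31984 (iv4 F81955)) (tt N59907 D112238) (tt N15997 (iv6 D51769)) (tt N31162 F81758))
theorem Q31928 : ∀ i, i < 31928 → P i := stepQ 31927 Q31927 (allL N31927 (tt N31128 (iv1 F81759)) (tt N15998 (iv0 D51770)) (tt N31127 (iv2 F105375)) (tt N59908 D112239) (tt N31213 (iv4 F81760)) (tt N53401 (iv5 F344544)) (tt N31163 (iv6 F326160)) (tt N31126 (iv7 F105377)))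
theorem Q31929 : ∀ i, i < 31929 → P i := stepQ 31928 Q31928 (allL N31928 (tt N15998 (iv1 D51771)) (tt N31128 F81765) (tt N31126 F105376) (tt N59909 D112241) (tt N31183 (iv4 F81761)) (tt N54483 (iv5 F344536)) (tt N59910 D112242) (tt N31127 F105366))
theorem Q31930 : ∀ i, i < 31930 → P i := stepQ 31929 Q31929 (allL N31929 (tt N31127 (iv1 F81767)) (tt N31126 F81764) (tt N15998 (iv2 D51772)) (tt N59892 (iv3 F174511)) (tt N16006 F81762) (tt N59911 D112243) (tt N22943 (iv6 F325595)) (tt N31128 F81763))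
theorem Q31931 : ∀ i, i < 31931 → P i := stepQ 31930 Q31930 (allL N31930 (tt N54402 (iv1 F321243)) (tt N58443 F171332) (tt N59911 (iv2 F174584)) (tt N15999 F81768) (tt N59912 D112245) (tt N15998 (iv5 D51773)) (tt N54513 (iv6 F352909)) (tt N31129 F81769))
theorem Q31932 : ∀ i, i < 31932 → P i := stepQ 31931 Q31931 (allL N31931 (tt N20864 F81775) (tt N55884 (iv0 F162037)) (tt N29663 F81772) (tt N59913 D112251) (tt N15999 (iv4 D51775)) (tt N16620 F81773) (tt N59914 D112252) (tt N29666 F81774))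
theorem Q31933 : ∀ i, i < 31933 → P i := stepQ 31932 Q31932 (allL N31932 (tt N59915 D112253) (tt N59916 D112254) (tt N59895 (iv2 F174521)) (tt N54513 (iv3 F352908)) (tt N59914 (iv4 F174599)) (tt N59917 D112255) (tt N15999 (iv6 D51776)) (tt N59918 D112256))
theorem Q31934 : ∀ i, i < 31934 → P i := stepQ 31933 Q31933 (allL N31933 (tt N59898 (iv1 F174535)) (tt N16000 (iv0 D51777)) (tt N59896 (iv2 F174547)) (tt N59919 D112257) (tt N35678 (iv4 F174552)) (tt N59733 (iv5 F174554)) (tt N59920 D112258) (tt N59861 F174536))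
theorem Q31935 : ∀ i, i < 31935 → P i := stepQ 31934 Q31934 (allL N31934 (tt N16000 (iv1 D51778)) (tt N59898 F174531) (tt N59861 F174534) (tt N59921 D112259) (tt N35679 (iv4 F174543)) (tt N59734 (iv5 F174532)) (tt N59835 (iv6 F174533)) (tt N59896 F174546))
theorem Q31936 : ∀ i, i < 31936 → P i := stepQ 31935 Q31935 (allL N31935 (tt N59922 D112260) (tt N59923 D112261) (tt N59897 (iv2 F174526)) (tt N24898 (iv3 F326180)) (tt N59924 D112262) (tt N16000 (iv5 D51779)) (tt N59917 (iv6 F174600)) (tt N51549 (iv7 F326853)))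
theorem Q31937 : ∀ i, i < 31937 → P i := stepQ 31936 Q31936 (allL N31936 (tt N59861 (iv1 F174549)) (tt N59896 (iv0 F174524)) (tt N59898 (iv2 F174528)) (tt N22933 (iv3 F326181)) (tt N16003 F81776) (tt N51549 (iv5 F326852)) (tt N31137 F81777) (tt N16000 (iv7 D51780)))
theorem Q31938 : ∀ i, i < 31938 → P i := stepQ 31937 Q31937 (allL N31937 (tt N30941 (iv1 F168429)) (tt N30934 F168428) (tt N30938 (iv2 F168161)) (tt N16001 (iv3 D51782)) (tt N59925 D112264) (tt N38595 (iv5 F98451)) (tt N59926 D112265) (tt N30939 F168158))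
theorem Q31939 : ∀ i, i < 31939 → P i := stepQ 31938 Q31938 (allL N31938 (tt N59927 D112266) (tt N39221 (iv0 F172747)) (tt N59899 (iv2 F174537)) (tt N55454 (iv3 F346837)) (tt N16001 (iv4 D51783)) (tt N59928 D112268) (tt N55452 (iv6 F346836)) (tt N59872 F174351))
theorem Q31940 : ∀ i, i < 31940 → P i := stepQ 31939 Q31939 (allL N31939 (tt N59686 F173506) (tt N39955 (iv0 F161374)) (tt N40173 (iv2 F101280)) (tt N59926 (iv3 F174618)) (tt N55452 (iv4 F346835)) (tt N33071 F84035) (tt N16001 (iv6 D51784)) (tt N40170 (iv7 F101274)))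
theorem Q31941 : ∀ i, i < 31941 → P i := stepQ 31940 Q31940 (allL N31940 (tt N39221 (iv1 F169229)) (tt N59927 F174622) (tt N59872 (iv2 F174349)) (tt N59929 D112270) (tt N16002 (iv4 D51787)) (tt N59930 D112271) (tt N59839 (iv6 F174276)) (tt N59899 (iv7 F174538)))
theorem Q31942 : ∀ i, i < 31942 → P i := stepQ 31941 Q31941 (allL N31941 (tt N58677 F170253) (tt N24904 (iv0 F323999)) (tt N31148 F169999) (tt N59931 D112273) (tt N16004 (iv4 D51790)) (tt N28989 F344568) (tt N31179 F325277) (tt N31145 F170000))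
theorem Q31943 : ∀ i, i < 31943 → P i := stepQ 31942 Q31942 (allL N31942 (tt N17832 (iv1 F323086)) (tt N18203 F170484) (tt N25340 F322513) (tt N16005 (iv3 D51793)) (tt N31966 (iv4 F81920)) (tt N31910 F81786) (tt N59932 D112280) (tt N31147 F170007))
theorem Q31944 : ∀ i, i < 31944 → P i := stepQ 31943 Q31943 (allL N31943 (tt N24904 F324510) (tt N58677 (iv0 F170252)) (tt N31145 F170008) (tt N59576 (iv3 F173164)) (tt N16005 (iv4 D51794)) (tt N59933 D112281) (tt N59934 D112282) (tt N31148 F170009))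
theorem Q31945 : ∀ i, i < 31945 → P i := stepQ 31944 Q31944 (allL N31944 (tt N31237 F326426) (tt N24884 F326427) (tt N31146 F170012) (tt N59932 (iv3 F174641)) (tt N59934 (iv4 F174645)) (tt N31181 F326183) (tt N16005 (iv6 D51795)) (tt N31181 F326428))
theorem Q31946 : ∀ i, i < 31946 → P i := stepQ 31945 Q31945 (allL N31945 (tt N31239 F81797) (tt N24885 F324839) (tt N23948 (iv2 F325072)) (tt N17878 (iv3 F325892)) (tt N18201 F81795) (tt N17589 F324840) (tt N16007 (iv6 D51802)) (tt N24648 (iv7 F325078)))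
theorem Q31947 : ∀ i, i < 31947 → P i := stepQ 31946 Q31946 (allL N31946 (tt N30805 (iv1 F163208)) (tt N30977 (iv0 F163207)) (tt N30954 (iv2 F168282)) (tt N23513 (iv3 F326830)) (tt N16010 (iv4 D51817)) (tt N59935 D112325) (tt N31150 F81834) (tt N30952 (iv7 F168286)))
theorem Q31948 : ∀ i, i < 31948 → P i := stepQ 31947 Q31947 (allL N31947 (tt N16023 F105374) (tt N46320 (iv0 F323053)) (tt N46319 (iv2 F323057)) (tt N16011 (iv3 D51821)) (tt N31164 F81843) (tt N31953 (iv5 F81880)) (tt N59936 D112331) (tt N23793 F321432))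
theorem Q31949 : ∀ i, i < 31949 → P i := stepQ 31948 Q31948 (allL N31948 (tt N18004 F317187) (tt N25336 F317188) (tt N23796 F317189) (tt N42048 F105344) (tt N16011 (iv4 D51822)) (tt N59937 D112333) (tt N45559 F322473) (tt N23794 F317190))
theorem Q31950 : ∀ i, i < 31950 → P i := stepQ 31949 Q31949 (allL N31949 (tt N34662 (iv1 F323065)) (tt N23770 (iv0 F323066)) (tt N23797 F321433) (tt N59936 (iv3 F174733)) (tt N45559 F321437) (tt N31185 F323973) (tt N16011 (iv6 D51824)) (tt N31185 F324469))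
theorem Q31951 : ∀ i, i < 31951 → P i := stepQ 31950 Q31950 (allL N31950 (tt N31198 (iv1 F170118)) (tt N23730 (iv0 F323071)) (tt N31197 F105373) (tt N16012 (iv3 D51826)) (tt N59938 D112339) (tt N31955 (iv5 F81885)) (tt N31186 F324480) (tt N23795 F321439))
theorem Q31952 : ∀ i, i < 31952 → P i := stepQ 31951 Q31951 (allL N31951 (tt N25336 F317191) (tt N18004 F317192) (tt N23794 F317193) (tt N59939 D112341) (tt N16012 (iv4 D51827)) (tt N48066 (iv5 F318586)) (tt N31187 F323949) (tt N23796 F317194))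
theorem Q31953 : ∀ i, i < 31953 → P i := stepQ 31952 Q31952 (allL N31952 (tt N44603 (iv1 F318598)) (tt N48359 (iv0 F319471)) (tt N48360 F317195) (tt N18114 F81854) (tt N44593 F316332) (tt N16014 (iv5 D51834)) (tt N59940 D112361) (tt N23792 (iv7 F318609)))
theorem Q31954 : ∀ i, i < 31954 → P i := stepQ 31953 Q31953 (allL N31953 (tt N31193 (iv1 F170202)) (tt N26768 (iv0 F323920)) (tt N31213 (iv2 F105378)) (tt N16015 (iv3 D51844)) (tt N31127 F81871) (tt N31947 F81880) (tt N23793 (iv6 F323972)) (tt N31183 F105361))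
theorem Q31955 : ∀ i, i < 31955 → P i := stepQ 31954 Q31954 (allL N31954 (tt N45390 (iv1 F323175)) (tt N46154 (iv0 F323169)) (tt N31187 (iv2 F105363)) (tt N42131 (iv3 F324465)) (tt N16015 (iv4 D51845)) (tt N25143 (iv5 F324467)) (tt N23794 (iv6 F324468)) (tt N31184 F105362))
theorem Q31956 : ∀ i, i < 31956 → P i := stepQ 31955 Q31955 (allL N31955 (tt N27292 (iv1 F323909)) (tt N16019 F169981) (tt N52250 (iv2 F323926)) (tt N16016 (iv3 D51849)) (tt N35786 (iv4 F93242)) (tt N31950 F81885) (tt N59941 D112395) (tt N31186 (iv7 F105356)))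
theorem Q31957 : ∀ i, i < 31957 → P i := stepQ 31956 Q31956 (allL N31956 (tt N46154 (iv1 F323170)) (tt N45390 (iv0 F323174)) (tt N31184 (iv2 F105359)) (tt N59942 D112396) (tt N16016 (iv4 D51850)) (tt N59943 D112397) (tt N45560 (iv6 F324179)) (tt N31187 (iv7 F105357)))
theorem Q31958 : ∀ i, i < 31958 → P i := stepQ 31957 Q31957 (allL N31957 (tt N23770 F325227) (tt N34662 F325228) (tt N31185 (iv2 F105360)) (tt N59941 (iv3 F174856)) (tt N45560 (iv4 F324178)) (tt N23797 (iv5 F324487)) (tt N16016 (iv6 D51852)) (tt N23797 (iv7 F324488)))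
theorem Q31959 : ∀ i, i < 31959 → P i := stepQ 31958 Q31958 (allL N31958 (tt N31190 F81875) (tt N31189 F81888) (tt N16018 F81873) (tt N48354 (iv3 F323161)) (tt N16017 (iv4 D51853)) (tt N36150 (iv5 F324571)) (tt N17483 (iv6 F324572)) (tt N31188 F81874))
theorem Q31960 : ∀ i, i < 31960 → P i := stepQ 31959 Q31959 (allL N31959 (tt N31188 (iv1 F81891)) (tt N16018 (iv0 D51855)) (tt N31190 (iv2 F169943)) (tt N59944 D112410) (tt N25342 F322522) (tt N25212 F322523) (tt N23790 (iv6 F323993)) (tt N31189 F170042))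
theorem Q31961 : ∀ i, i < 31961 → P i := stepQ 31960 Q31960 (allL N31960 (tt N16018 (iv1 D51856)) (tt N31188 F81892) (tt N31189 F170041) (tt N59945 D112413) (tt N25338 F322526) (tt N45785 F322527) (tt N45525 (iv6 F324574)) (tt N31190 (iv7 F170040)))
theorem Q31962 : ∀ i, i < 31962 → P i := stepQ 31961 Q31961 (allL N31961 (tt N22564 F324193) (tt N58805 (iv0 F170788)) (tt N36150 (iv2 F324570)) (tt N18126 F81894) (tt N22559 (iv4 F325378)) (tt N16018 (iv5 D51857)) (tt N33413 (iv6 F325380)) (tt N31191 F81895))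
theorem Q31963 : ∀ i, i < 31963 → P i := stepQ 31962 Q31962 (allL N31962 (tt N16019 (iv1 D51872)) (tt N27292 F323934) (tt N31186 (iv2 F105379)) (tt N31213 (iv3 F81916)) (tt N35787 F169775) (tt N45817 F323935) (tt N31197 (iv6 F325586)) (tt N52250 F323936))
theorem Q31964 : ∀ i, i < 31964 → P i := stepQ 31963 Q31963 (allL N31963 (tt N52250 F323937) (tt N31186 F170446) (tt N16019 (iv2 D51873)) (tt N46320 F323938) (tt N18097 F170447) (tt N48485 F323939) (tt N46284 (iv6 F325223)) (tt N27292 F323940))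
theorem Q31965 : ∀ i, i < 31965 → P i := stepQ 31964 Q31964 (allL N31964 (tt N18101 F81914) (tt N18099 (iv0 F81915)) (tt N18097 F170420) (tt N59946 D112442) (tt N16019 (iv4 D51874)) (tt N59947 D112443) (tt N46300 (iv6 F325279)) (tt N18098 F170421))
theorem Q31966 : ∀ i, i < 31966 → P i := stepQ 31965 Q31965 (allL N31965 (tt N24000 F322490) (tt N51616 (iv0 F323043)) (tt N48485 (iv2 F323040)) (tt N16021 F81917) (tt N58843 F170925) (tt N16019 (iv5 D51875)) (tt N46500 (iv6 F323911)) (tt N27634 (iv7 F323042)))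
theorem Q31967 : ∀ i, i < 31967 → P i := stepQ 31966 Q31966 (allL N31966 (tt N16024 (iv1 F81925)) (tt N16020 (iv0 D51878)) (tt N48348 F323977) (tt N59948 D112451) (tt N31942 F81920) (tt N59949 D112452) (tt N59950 D112453) (tt N58616 (iv7 F170020)))
theorem Q31968 : ∀ i, i < 31968 → P i := stepQ 31967 Q31967 (allL N31967 (tt N16020 (iv1 D51879)) (tt N16024 F81921) (tt N58616 (iv2 F170021)) (tt N59344 F172685) (tt N35230 F323090) (tt N59951 D112454) (tt N31202 F325248) (tt N48348 F323091))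
theorem Q31969 : ∀ i, i < 31969 → P i := stepQ 31968 Q31968 (allL N31968 (tt N59498 F173038) (tt N59952 D112456) (tt N59953 D112457) (tt N16020 (iv3 D51880)) (tt N59946 (iv4 F174930)) (tt N59508 (iv5 F341351)) (tt N59511 (iv6 F341321)) (tt N58715 (iv7 F170466)))
theorem Q31970 : ∀ i, i < 31970 → P i := stepQ 31969 Q31969 (allL N31969 (tt N59759 (iv1 F173876)) (tt N58091 F170973) (tt N58472 F170452) (tt N59954 D112468) (tt N16021 (iv4 D51886)) (tt N57776 (iv5 F343159)) (tt N59955 D112470) (tt N58471 (iv7 F170455)))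
theorem Q31971 : ∀ i, i < 31971 → P i := stepQ 31970 Q31970 (allL N31970 (tt N52809 (iv1 F326110)) (tt N31834 (iv0 F170051)) (tt N58473 F170453) (tt N46500 F325186) (tt N59955 (iv4 F174951)) (tt N23546 (iv5 F326117)) (tt N16021 (iv6 D51887)) (tt N35220 (iv7 F326121)))
theorem Q31972 : ∀ i, i < 31972 → P i := stepQ 31971 Q31971 (allL N31971 (tt N23605 (iv1 F326641)) (tt N23541 F325822) (tt N23604 (iv2 F326161)) (tt N23683 (iv3 F326122)) (tt N17755 (iv4 F326642)) (tt N16022 (iv5 D51891)) (tt N23546 (iv6 F326118)) (tt N17370 (iv7 F326643)))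
theorem Q31973 : ∀ i, i < 31973 → P i := stepQ 31972 Q31972 (allL N31972 (tt N52800 F326967) (tt N23509 F326968) (tt N45327 F326969) (tt N27290 F326970) (tt N35233 F326971) (tt N17370 F326972) (tt N17372 (iv6 F326993)) (tt N16022 (iv7 D51892)))
theorem Q31974 : ∀ i, i < 31974 → P i := stepQ 31973 Q31973 (allL N31973 (tt N46320 (iv1 F323054)) (tt N16023 (iv0 D51894)) (tt N23793 F322510) (tt N31197 F81932) (tt N31163 F81931) (tt N50710 (iv5 F323959)) (tt N31213 F325235) (tt N46319 (iv7 F323058)))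
theorem Q31975 : ∀ i, i < 31975 → P i := stepQ 31974 Q31974 (allL N31974 (tt N31911 (iv1 F170024)) (tt N31908 (iv0 F81933)) (tt N46318 F324459) (tt N59956 D112487) (tt N16023 (iv4 D51897)) (tt N59957 D112488) (tt N23481 (iv6 F325574)) (tt N58665 (iv7 F170449)))
theorem Q31976 : ∀ i, i < 31976 → P i := stepQ 31975 Q31975 (allL N31975 (tt N59497 (iv1 F173033)) (tt N59341 (iv0 F172676)) (tt N59496 (iv2 F382028)) (tt N16024 (iv3 D51900)) (tt N59956 (iv4 F174964)) (tt N59958 D112496) (tt N35234 (iv6 F326435)) (tt N58717 (iv7 F170486)))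
theorem Q31977 : ∀ i, i < 31977 → P i := stepQ 31976 Q31976 (allL N31976 (tt N59518 (iv1 F341345)) (tt N59517 (iv0 F341343)) (tt N58716 (iv2 F170467)) (tt N59958 (iv3 F174971)) (tt N59959 D112498) (tt N16024 (iv5 D51901)) (tt N59548 (iv6 F360055)) (tt N58718 (iv7 F170489)))
theorem Q31978 : ∀ i, i < 31978 → P i := stepQ 31977 Q31977 (allL N31977 (tt N58091 F170971) (tt N59759 (iv0 F173875)) (tt N58471 F170456) (tt N57993 (iv3 F170931)) (tt N16025 (iv4 D51903)) (tt N59960 D112504) (tt N23801 (iv6 F326454)) (tt N58472 F170451))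
theorem Q31979 : ∀ i, i < 31979 → P i := stepQ 31978 Q31978 (allL N31978 (tt N16026 (iv1 D51906)) (tt N17372 (iv0 F326992)) (tt N17546 (iv2 F327206)) (tt N22913 F327743) (tt N45328 (iv4 F327207)) (tt N17369 (iv5 F327208)) (tt N31211 (iv6 F327398)) (tt N17644 (iv7 F327205)))
theorem Q31980 : ∀ i, i < 31980 → P i := stepQ 31979 Q31979 (allL N31979 (tt N31124 F166164) (tt N31162 F166165) (tt N59685 (iv2 F173497)) (tt N59961 D112524) (tt N16027 (iv4 D51912)) (tt N59962 D112525) (tt N59963 D112526) (tt N31234 F81943))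
theorem Q31981 : ∀ i, i < 31981 → P i := stepQ 31980 Q31980 (allL N31980 (tt N58388 F169245) (tt N31827 (iv0 F161390)) (tt N58415 (iv2 F169313)) (tt N16029 F81944) (tt N59964 D112527) (tt N16027 (iv5 D51913)) (tt N31833 (iv6 F81946)) (tt N31235 F81945))
theorem Q31982 : ∀ i, i < 31982 → P i := stepQ 31981 Q31981 (allL N31981 (tt N40170 F161252) (tt N40173 F161253) (tt N59686 (iv2 F173501)) (tt N16030 F81947) (tt N59963 (iv4 F174983)) (tt N22630 (iv5 F161254)) (tt N16027 (iv6 D51914)) (tt N39955 (iv7 F100914)))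
theorem Q31983 : ∀ i, i < 31983 → P i := stepQ 31982 Q31982 (allL N31982 (tt N31146 (iv1 F326932)) (tt N31181 (iv0 F327012)) (tt N24884 (iv2 F326933)) (tt N16028 (iv3 D51915)) (tt N59961 (iv4 F174980)) (tt N23818 (iv5 F326664)) (tt N24414 F326043) (tt N31237 F81949))
theorem Q31984 : ∀ i, i < 31984 → P i := stepQ 31983 Q31983 (allL N31983 (tt N24648 (iv1 F325076)) (tt N23948 (iv0 F325070)) (tt N31239 F81950) (tt N24414 (iv3 F325082)) (tt N16030 F81951) (tt N46121 (iv5 F324833)) (tt N16028 (iv6 D51916)) (tt N24885 F323843))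
theorem Q31985 : ∀ i, i < 31985 → P i := stepQ 31984 Q31984 (allL N31984 (tt N35875 (iv1 F172683)) (tt N59965 D112532) (tt N40317 (iv2 F101563)) (tt N16034 F81954) (tt N31926 F81955) (tt N31984 F81956) (tt N16031 (iv6 D51917)) (tt N31245 F81957))
theorem Q31986 : ∀ i, i < 31986 → P i := stepQ 31985 Q31985 (allL N31985 (tt N59965 (iv1 F174993)) (tt N35875 (iv0 F172682)) (tt N31245 F81958) (tt N33254 (iv3 F84328)) (tt N31887 F81959) (tt N31985 F81960) (tt N16032 (iv6 D51918)) (tt N40317 (iv7 F101567)))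
theorem Q31987 : ∀ i, i < 31987 → P i := stepQ 31986 Q31986 (allL N31986 (tt N33445 F84790) (tt N42120 F166909) (tt N42122 F105499) (tt N16033 (iv3 D51919)) (tt N31925 F81961) (tt N59966 D112533) (tt N59967 D112534) (tt N30563 F81962))
theorem Q31988 : ∀ i, i < 31988 → P i := stepQ 31987 Q31987 (allL N31987 (tt N31669 F81966) (tt N55618 (iv0 F161100)) (tt N31318 F81963) (tt N59966 (iv3 F174998)) (tt N31816 F81964) (tt N16033 (iv5 D51920)) (tt N59968 D112535) (tt N30564 F81965))
theorem Q31989 : ∀ i, i < 31989 → P i := stepQ 31988 Q31988 (allL N31988 (tt N58361 F169187) (tt N59969 D112536) (tt N31319 F81967) (tt N59967 (iv3 F175008)) (tt N16034 F81968) (tt N47338 (iv5 F332184)) (tt N16033 (iv6 D51921)) (tt N31249 F81969))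
theorem Q31990 : ∀ i, i < 31990 → P i := stepQ 31989 Q31989 (allL N31989 (tt N16081 (iv1 F81970)) (tt N16034 (iv0 D51922)) (tt N18147 F166149) (tt N31250 (iv3 F166167)) (tt N59970 D112538) (tt N58782 (iv5 F170740)) (tt N59971 D112539) (tt N31250 (iv7 F166168)))
theorem Q31991 : ∀ i, i < 31991 → P i := stepQ 31990 Q31990 (allL N31990 (tt N59972 D112540) (tt N46268 F330731) (tt N45924 F325156) (tt N16035 (iv3 D51924)) (tt N31251 F81972) (tt N58511 (iv5 F169518)) (tt N45916 (iv6 F326088)) (tt N31320 F81973))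
theorem Q31992 : ∀ i, i < 31992 → P i := stepQ 31991 Q31991 (allL N31991 (tt N34755 F327232) (tt N46126 (iv0 F326514)) (tt N16047 F81974) (tt N45916 (iv3 F326087)) (tt N16036 F81975) (tt N59973 D112545) (tt N16035 (iv6 D51925)) (tt N46127 (iv7 F326513)))
theorem Q31993 : ∀ i, i < 31993 → P i := stepQ 31992 Q31992 (allL N31992 (tt N16050 (iv1 F81983)) (tt N16036 (iv0 D51926)) (tt N16048 F170651) (tt N32400 (iv3 F168449)) (tt N59974 D112547) (tt N19202 F81977) (tt N31254 F81976) (tt N16049 F170652))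
theorem Q31994 : ∀ i, i < 31994 → P i := stepQ 31993 Q31993 (allL N31993 (tt N16036 (iv1 D51927)) (tt N16050 F81978) (tt N16049 F170656) (tt N58458 F169364) (tt N59975 D112548) (tt N19201 (iv5 F81979)) (tt N59976 D112549) (tt N16048 F170657))
theorem Q31995 : ∀ i, i < 31995 → P i := stepQ 31994 Q31994 (allL N31994 (tt N16049 (iv1 F81984)) (tt N16048 F81985) (tt N16050 F81980) (tt N31256 F81981) (tt N46127 F326767) (tt N35977 (iv5 F93699)) (tt N31269 F81982) (tt N16036 (iv7 D51928)))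
theorem Q31996 : ∀ i, i < 31996 → P i := stepQ 31995 Q31995 (allL N31995 (tt N59977 D112550) (tt N59978 D112551) (tt N40324 (iv2 F101585)) (tt N16040 F81986) (tt N31860 F81987) (tt N30872 F81988) (tt N16038 (iv6 D51929)) (tt N59979 D112552))
theorem Q31997 : ∀ i, i < 31997 → P i := stepQ 31996 Q31996 (allL N31996 (tt N59980 D112553) (tt N59981 D112554) (tt N59982 D112555) (tt N16039 (iv3 D51930)) (tt N31859 F81989) (tt N21366 (iv5 F81995)) (tt N59983 D112556) (tt N31325 F81990))
theorem Q31998 : ∀ i, i < 31998 → P i := stepQ 31997 Q31997 (allL N31997 (tt N57489 (iv1 F166888)) (tt N32329 (iv0 F82717)) (tt N31330 F81991) (tt N21366 F81994) (tt N31168 F81993) (tt N16039 (iv5 D51931)) (tt N59984 D112557) (tt N31326 F81992))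
theorem Q31999 : ∀ i, i < 31999 → P i := stepQ 31998 Q31998 (allL N31998 (tt N34215 F319918) (tt N47344 F319919) (tt N31331 F81996) (tt N59983 (iv3 F175083)) (tt N16040 F81997) (tt N43978 (iv5 F321766)) (tt N16039 (iv6 D51932)) (tt N47342 F319920))
theorem Q32000 : ∀ i, i < 32000 → P i := stepQ 31999 Q31999 (allL N31999 (tt N31333 (iv1 F82001)) (tt N16040 (iv0 D51933)) (tt N31305 (iv2 F166128)) (tt N31261 (iv3 F166131)) (tt N34194 F317708) (tt N59985 D112563) (tt N58760 (iv6 F170614)) (tt N31332 (iv7 F166159)))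
theorem Q32001 : ∀ i, i < 32001 → P i := stepQ 32000 Q32000 (allL N32000 (tt N31332 (iv1 F82002)) (tt N31305 (iv0 F166156)) (tt N31333 F81999) (tt N59979 (iv3 F175063)) (tt N47342 (iv4 F319903)) (tt N33555 F85098) (tt N16096 (iv6 F82017)) (tt N16040 (iv7 D51935)))
theorem Q32002 : ∀ i, i < 32002 → P i := stepQ 32001 Q32001 (allL N32001 (tt N59986 D112564) (tt N59987 D112565) (tt N59988 D112566) (tt N16041 (iv3 D51936)) (tt N40321 (iv4 F101578)) (tt N59989 D112567) (tt N25051 F328217) (tt N31329 F82004))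
theorem Q32003 : ∀ i, i < 32003 → P i := stepQ 32002 Q32002 (allL N32002 (tt N32329 (iv1 F82718)) (tt N57489 (iv0 F166887)) (tt N31326 F82005) (tt N59989 (iv3 F175133)) (tt N31167 F82006) (tt N16041 (iv5 D51937)) (tt N59990 D112569) (tt N31330 F82007))
theorem Q32004 : ∀ i, i < 32004 → P i := stepQ 32003 Q32003 (allL N32003 (tt N58055 F168778) (tt N58070 F168817) (tt N31327 F82008) (tt N25051 (iv3 F327745)) (tt N16042 F82009) (tt N59991 D112570) (tt N16041 (iv6 D51938)) (tt N58068 (iv7 F168815)))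
theorem Q32005 : ∀ i, i < 32005 → P i := stepQ 32004 Q32004 (allL N32004 (tt N16042 (iv1 D51939)) (tt N16096 (iv0 F82015)) (tt N16098 (iv2 F82012)) (tt N31269 (iv3 F82013)) (tt N34747 F326669) (tt N55888 (iv5 F162050)) (tt N31256 (iv6 F82014)) (tt N16083 F82011))
theorem Q32006 : ∀ i, i < 32006 → P i := stepQ 32005 Q32005 (allL N32005 (tt N16098 (iv1 F82021)) (tt N16083 F82022) (tt N16096 F82019) (tt N40323 (iv3 F101583)) (tt N58068 (iv4 F168814)) (tt N57508 (iv5 F166964)) (tt N31333 F82020) (tt N16042 (iv7 D51940)))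
theorem Q32007 : ∀ i, i < 32007 → P i := stepQ 32006 Q32006 (allL N32006 (tt N59992 D112572) (tt N59993 D112573) (tt N42089 (iv2 F105447)) (tt N16043 (iv3 D51941)) (tt N59994 D112574) (tt N42088 F105446) (tt N59995 D112575) (tt N31334 F82023))
theorem Q32008 : ∀ i, i < 32008 → P i := stepQ 32007 Q32007 (allL N32007 (tt N31169 F82027) (tt N18198 F82028) (tt N31338 F82024) (tt N42088 (iv3 F105445)) (tt N31803 F82025) (tt N16043 (iv5 D51942)) (tt N51971 (iv6 F309692)) (tt N31335 F82026))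
theorem Q32009 : ∀ i, i < 32009 → P i := stepQ 32008 Q32008 (allL N32008 (tt N34194 (iv1 F315487)) (tt N41586 (iv0 F166126)) (tt N31339 F82029) (tt N59995 (iv3 F175149)) (tt N32292 (iv4 F82668)) (tt N59996 D112577) (tt N16043 (iv6 D51943)) (tt N47956 (iv7 F315485)))
theorem Q32010 : ∀ i, i < 32010 → P i := stepQ 32009 Q32009 (allL N32009 (tt N16095 F82032) (tt N34747 (iv0 F326501)) (tt N31336 F82030) (tt N29128 F321394) (tt N30879 F82031) (tt N59997 D112579) (tt N16044 (iv6 D51944)) (tt N34746 F327257))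
theorem Q32011 : ∀ i, i < 32011 → P i := stepQ 32010 Q32010 (allL N32010 (tt N31342 (iv1 F82033)) (tt N16045 (iv0 D51945)) (tt N31341 F173360) (tt N59472 F172977) (tt N35278 (iv4 F321480)) (tt N45933 F319482) (tt N35279 (iv6 F321481)) (tt N31340 F173363))
theorem Q32012 : ∀ i, i < 32012 → P i := stepQ 32011 Q32011 (allL N32011 (tt N48350 F323152) (tt N48157 F323153) (tt N46175 (iv2 F323588)) (tt N16046 F82040) (tt N44098 F323154) (tt N16045 (iv5 D51948)) (tt N37955 (iv6 F324582)) (tt N31343 F82041))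
theorem Q32013 : ∀ i, i < 32013 → P i := stepQ 32012 Q32012 (allL N32012 (tt N31321 (iv1 F82046)) (tt N16046 (iv0 D51950)) (tt N21296 (iv2 F82047)) (tt N59998 D112590) (tt N22590 F82045) (tt N18112 F82044) (tt N59999 D112591) (tt N31344 (iv7 F82048)))
theorem Q32014 : ∀ i, i < 32014 → P i := stepQ 32013 Q32013 (allL N32013 (tt N16046 (iv1 D51951)) (tt N31321 F82049) (tt N31344 (iv2 F82054)) (tt N21299 (iv3 F82052)) (tt N31786 F82053) (tt N18113 F82051) (tt N60000 D112592) (tt N21296 F82050))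
theorem Q32015 : ∀ i, i < 32015 → P i := stepQ 32014 Q32014 (allL N32014 (tt N60001 D112593) (tt N52502 (iv0 F348882)) (tt N58512 (iv2 F169519)) (tt N37955 F325709) (tt N51813 (iv4 F348887)) (tt N37948 (iv5 F326082)) (tt N16046 (iv6 D51952)) (tt N37947 (iv7 F326515)))
theorem Q32016 : ∀ i, i < 32016 → P i := stepQ 32015 Q32015 (allL N32015 (tt N46127 (iv1 F326512)) (tt N16047 (iv0 D51953)) (tt N34755 (iv2 F326498)) (tt N60002 D112597) (tt N59317 F172575) (tt N36963 F325143) (tt N31284 F172576) (tt N46126 F327263))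
theorem Q32017 : ∀ i, i < 32017 → P i := stepQ 32016 Q32016 (allL N32016 (tt N16047 (iv1 D51954)) (tt N46127 (iv0 F326511)) (tt N46126 F327264) (tt N60003 D112599) (tt N59318 (iv4 F172583)) (tt N36964 F325146) (tt N60004 D112601) (tt N34755 F327237))
theorem Q32018 : ∀ i, i < 32018 → P i := stepQ 32017 Q32017 (allL N32017 (tt N60005 D112602) (tt N60006 D112603) (tt N59973 (iv2 F175042)) (tt N18845 F325153) (tt N60007 D112604) (tt N16047 (iv5 D51955)) (tt N37948 (iv6 F326083)) (tt N18841 (iv7 F326084)))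
theorem Q32019 : ∀ i, i < 32019 → P i := stepQ 32018 Q32018 (allL N32018 (tt N60008 D112606) (tt N29626 F170669) (tt N58455 F170670) (tt N16048 (iv3 D51958)) (tt N58382 F169235) (tt N56485 F170671) (tt N31286 F82059) (tt N58458 F170658))
theorem Q32020 : ∀ i, i < 32020 → P i := stepQ 32019 Q32019 (allL N32019 (tt N60009 D112607) (tt N55619 (iv0 F173093)) (tt N59974 (iv2 F175048)) (tt N60010 D112608) (tt N16048 (iv4 D51959)) (tt N60011 D112609) (tt N31287 F82060) (tt N59975 (iv7 F175053)))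
theorem Q32021 : ∀ i, i < 32021 → P i := stepQ 32020 Q32020 (allL N32020 (tt N19188 F82061) (tt N19203 F82062) (tt N19202 F170659) (tt N56485 F170690) (tt N60012 D112610) (tt N16048 (iv5 D51960)) (tt N60013 D112611) (tt N19201 F170660))
theorem Q32022 : ∀ i, i < 32022 → P i := stepQ 32021 Q32021 (allL N32021 (tt N30134 F167994) (tt N32402 F167995) (tt N32401 F170681) (tt N16049 (iv3 D51962)) (tt N57877 F167996) (tt N36728 F167997) (tt N60014 D112612) (tt N32400 F170655))
theorem Q32023 : ∀ i, i < 32023 → P i := stepQ 32022 Q32022 (allL N32022 (tt N55619 F168005) (tt N60009 F175203) (tt N59975 (iv2 F175052)) (tt N60015 D112613) (tt N16049 (iv4 D51963)) (tt N60016 D112614) (tt N60017 D112615) (tt N59974 (iv7 F175050)))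
theorem Q32024 : ∀ i, i < 32024 → P i := stepQ 32023 Q32023 (allL N32023 (tt N19203 (iv1 F96616)) (tt N19188 (iv0 F82064)) (tt N19201 F170649) (tt N36728 (iv3 F167998)) (tt N60018 D112616) (tt N16049 (iv5 D51964)) (tt N31291 (iv6 F82065)) (tt N19202 F170650))
theorem Q32025 : ∀ i, i < 32025 → P i := stepQ 32024 Q32024 (allL N32024 (tt N35804 F166183) (tt N58760 (iv0 F170613)) (tt N59976 (iv2 F175055)) (tt N60014 (iv3 F175216)) (tt N60017 (iv4 F175220)) (tt N31292 F82066) (tt N16049 (iv6 D51965)) (tt N31292 F82067))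
theorem Q32026 : ∀ i, i < 32026 → P i := stepQ 32025 Q32025 (allL N32025 (tt N16054 (iv1 F82073)) (tt N16052 (iv0 D51966)) (tt N29519 (iv2 F82072)) (tt N30135 F82070) (tt N19781 F82069) (tt N18230 F82068) (tt N30445 F82071) (tt N29516 F82074))
theorem Q32027 : ∀ i, i < 32027 → P i := stepQ 32026 Q32026 (allL N32026 (tt N32261 (iv1 F82630)) (tt N30909 F82076) (tt N35701 F93134) (tt N58476 (iv3 F169387)) (tt N35604 (iv4 F92968)) (tt N16056 (iv5 D51967)) (tt N60019 D112617) (tt N31295 F82075))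
theorem Q32028 : ∀ i, i < 32028 → P i := stepQ 32027 Q32027 (allL N32027 (tt N16225 F82078) (tt N55636 F161136) (tt N32447 (iv2 F82853)) (tt N35310 F326670) (tt N16057 F82077) (tt N60020 D112618) (tt N16056 (iv6 D51968)) (tt N31355 (iv7 F82079)))
theorem Q32029 : ∀ i, i < 32029 → P i := stepQ 32028 Q32028 (allL N32028 (tt N25278 (iv1 F318603)) (tt N45814 (iv0 F318602)) (tt N31354 F171308) (tt N21363 F105468) (tt N16058 (iv4 D51971)) (tt N21361 (iv5 F105482)) (tt N34614 (iv6 F318604)) (tt N25047 (iv7 F317185)))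
theorem Q32030 : ∀ i, i < 32030 → P i := stepQ 32029 Q32029 (allL N32029 (tt N55626 F164336) (tt N16216 F164337) (tt N32409 F164094) (tt N22898 (iv3 F326753)) (tt N16059 (iv4 D51989)) (tt N19172 (iv5 F327963)) (tt N31312 F82102) (tt N31313 F82103))
theorem Q32031 : ∀ i, i < 32031 → P i := stepQ 32030 Q32030 (allL N32030 (tt N16060 (iv1 D51991)) (tt N18057 (iv0 F164071)) (tt N18059 F164058) (tt N60008 F175198) (tt N60021 D112661) (tt N18708 F164059) (tt N18072 F164060) (tt N18030 F164061))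
theorem Q32032 : ∀ i, i < 32032 → P i := stepQ 32031 Q32031 (allL N32031 (tt N18030 (iv1 F164076)) (tt N18059 (iv0 F164077)) (tt N16060 (iv2 D51992)) (tt N29522 F164093) (tt N57958 F168639) (tt N19136 F164055) (tt N60022 D112662) (tt N18057 (iv7 F164073)))
theorem Q32033 : ∀ i, i < 32033 → P i := stepQ 32032 Q32032 (allL N32032 (tt N35600 F164062) (tt N57960 F168642) (tt N57958 F168638) (tt N45494 (iv3 F326754)) (tt N16060 (iv4 D51993)) (tt N60023 D112663) (tt N60024 D112664) (tt N31312 F82110))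
theorem Q32034 : ∀ i, i < 32034 → P i := stepQ 32033 Q32033 (allL N32033 (tt N35740 F164063) (tt N35744 F164064) (tt N60022 (iv2 F175324)) (tt N16061 F82111) (tt N60024 (iv4 F175332)) (tt N31314 F82112) (tt N16060 (iv6 D51994)) (tt N31314 F82113))
theorem Q32035 : ∀ i, i < 32035 → P i := stepQ 32034 Q32034 (allL N32034 (tt N16067 (iv1 D51995)) (tt N30177 F82114) (tt N30179 (iv2 F82116)) (tt N22623 (iv3 F82117)) (tt N57189 (iv4 F165755)) (tt N56421 (iv5 F163729)) (tt N30171 (iv6 F82118)) (tt N22615 F82115))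
theorem Q32036 : ∀ i, i < 32036 → P i := stepQ 32035 Q32035 (allL N32035 (tt N30179 (iv1 F82123)) (tt N22615 F82124) (tt N30177 F82120) (tt N38168 (iv3 F100095)) (tt N41479 (iv4 F104299)) (tt N30098 F82121) (tt N30219 F82122) (tt N16067 (iv7 D51996)))
theorem Q32037 : ∀ i, i < 32037 → P i := stepQ 32036 Q32036 (allL N32036 (tt N30219 (iv1 F82129)) (tt N16068 (iv0 D51997)) (tt N30217 F165512) (tt N33070 F165614) (tt N57178 (iv4 F165710)) (tt N59875 (iv5 F174359)) (tt N56397 (iv6 F163705)) (tt N30218 F165513))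
theorem Q32038 : ∀ i, i < 32038 → P i := stepQ 32037 Q32037 (allL N32037 (tt N16068 (iv1 D51998)) (tt N30219 F82125) (tt N30218 F165509) (tt N58393 (iv3 F169265)) (tt N57179 (iv4 F165719)) (tt N32344 (iv5 F82733)) (tt N60025 D112665) (tt N30217 F165510))
theorem Q32039 : ∀ i, i < 32039 → P i := stepQ 32038 Q32038 (allL N32038 (tt N30218 (iv1 F82130)) (tt N30217 (iv0 F82131)) (tt N30219 F82126) (tt N33216 (iv3 F84208)) (tt N41485 (iv4 F104301)) (tt N29492 F82127) (tt N30177 F82128) (tt N16068 (iv7 D51999)))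
theorem Q32040 : ∀ i, i < 32040 → P i := stepQ 32039 Q32039 (allL N32039 (tt N30224 (iv1 F82132)) (tt N16069 (iv0 D52000)) (tt N30223 (iv2 F182518)) (tt N60026 D112667) (tt N60027 D112668) (tt N30250 (iv5 F180733)) (tt N60028 D112670) (tt N30222 F182515))
theorem Q32041 : ∀ i, i < 32041 → P i := stepQ 32040 Q32040 (allL N32040 (tt N16069 (iv1 D52001)) (tt N30224 F82136) (tt N30222 F182514) (tt N60029 D112672) (tt N60030 D112673) (tt N30251 (iv5 F180739)) (tt N60031 D112675) (tt N30223 (iv7 F182519)))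
theorem Q32042 : ∀ i, i < 32042 → P i := stepQ 32041 Q32041 (allL N32041 (tt N30223 (iv1 F82137)) (tt N30222 F82135) (tt N16069 (iv2 D52002)) (tt N30252 F82133) (tt N33105 (iv4 F84086)) (tt N56370 (iv5 F163628)) (tt N60032 D112676) (tt N30224 F82134))
theorem Q32043 : ∀ i, i < 32043 → P i := stepQ 32042 Q32042 (allL N32042 (tt N60033 D112677) (tt N60034 D112678) (tt N60032 (iv2 F175342)) (tt N16070 F82138) (tt N33107 (iv4 F84089)) (tt N60035 D112679) (tt N16069 (iv6 D52003)) (tt N60036 D112680))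
theorem Q32044 : ∀ i, i < 32044 → P i := stepQ 32043 Q32043 (allL N32043 (tt N60037 D112681) (tt N60038 D112682) (tt N30254 F82140) (tt N60035 (iv3 F175344)) (tt N60039 D112683) (tt N16070 (iv5 D52006)) (tt N56372 (iv6 F163639)) (tt N60040 D112684))
theorem Q32045 : ∀ i, i < 32045 → P i := stepQ 32044 Q32044 (allL N32044 (tt N21034 (iv1 F82149)) (tt N21031 (iv0 F82146)) (tt N30255 F82141) (tt N60036 (iv3 F175345)) (tt N16074 F82142) (tt N60040 (iv5 F175351)) (tt N30229 F82143) (tt N16070 (iv7 D52007)))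
theorem Q32046 : ∀ i, i < 32046 → P i := stepQ 32045 Q32045 (allL N32045 (tt N20064 (iv1 F82152)) (tt N19876 F82156) (tt N20061 F82153) (tt N16071 (iv3 D52008)) (tt N36081 (iv4 F93932)) (tt N32241 (iv5 F82593)) (tt N60041 D112685) (tt N20062 F82151))
theorem Q32047 : ∀ i, i < 32047 → P i := stepQ 32046 Q32046 (allL N32046 (tt N30912 F82159) (tt N30911 F82160) (tt N30257 F82157) (tt N32241 (iv3 F82592)) (tt N35704 (iv4 F93138)) (tt N16071 (iv5 D52009)) (tt N32264 (iv6 F82636)) (tt N29475 F82158))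
theorem Q32048 : ∀ i, i < 32048 → P i := stepQ 32047 Q32047 (allL N32047 (tt N60025 F175338) (tt N57166 (iv0 F165685)) (tt N30258 F82161) (tt N60041 (iv3 F175356)) (tt N41497 (iv4 F104319)) (tt N56377 F163660) (tt N16071 (iv6 D52010)) (tt N30164 F82162))
theorem Q32049 : ∀ i, i < 32049 → P i := stepQ 32048 Q32048 (allL N32048 (tt N30263 (iv1 F82170)) (tt N16073 (iv0 D52011)) (tt N30260 (iv2 F161347)) (tt N47343 F319908) (tt N41516 (iv4 F165144)) (tt N60042 D112687) (tt N32395 (iv6 F82765)) (tt N30261 F161351))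
theorem Q32050 : ∀ i, i < 32050 → P i := stepQ 32049 Q32049 (allL N32049 (tt N16073 (iv1 D52012)) (tt N30263 F82163) (tt N30261 F161350) (tt N31635 (iv3 F104343)) (tt N41517 (iv4 F104342)) (tt N30306 (iv5 F82164)) (tt N39527 (iv6 F165155)) (tt N30260 (iv7 F161349)))
theorem Q32051 : ∀ i, i < 32051 → P i := stepQ 32050 Q32050 (allL N32050 (tt N57245 (iv1 F166487)) (tt N57248 (iv0 F165892)) (tt N30262 F82165) (tt N60043 D112688) (tt N16073 (iv4 D52013)) (tt N60044 D112689) (tt N16076 F82166) (tt N60045 D112690))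
theorem Q32052 : ∀ i, i < 32052 → P i := stepQ 32051 Q32051 (allL N32051 (tt N30261 (iv1 F82171)) (tt N30260 F82172) (tt N30263 F82167) (tt N31856 F82168) (tt N60045 (iv4 F175374)) (tt N16074 F82169) (tt N35641 (iv6 F93054)) (tt N16073 (iv7 D52014)))
theorem Q32053 : ∀ i, i < 32053 → P i := stepQ 32052 Q32052 (allL N32052 (tt N60046 D112691) (tt N60047 D112692) (tt N60048 D112693) (tt N16076 (iv3 D52015)) (tt N31852 F82173) (tt N18688 F328854) (tt N60043 (iv6 F175370)) (tt N36256 (iv7 F94213)))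
theorem Q32054 : ∀ i, i < 32054 → P i := stepQ 32053 Q32053 (allL N32053 (tt N18411 F82177) (tt N29504 F82178) (tt N30265 F82174) (tt N18688 (iv3 F328465)) (tt N16271 F82176) (tt N16076 (iv5 D52016)) (tt N18686 (iv6 F328467)) (tt N20903 F82175))
theorem Q32055 : ∀ i, i < 32055 → P i := stepQ 32054 Q32054 (allL N32054 (tt N21187 F82181) (tt N29535 F82182) (tt N45095 (iv2 F114525)) (tt N16078 F82179) (tt N60049 D112696) (tt N16077 (iv5 D52017)) (tt N60050 D112697) (tt N20937 F82180))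
theorem Q32056 : ∀ i, i < 32056 → P i := stepQ 32055 Q32055 (allL N32055 (tt N29504 F82186) (tt N18411 F82187) (tt N20903 F82183) (tt N60051 D112698) (tt N16078 (iv4 D52018)) (tt N16211 F82184) (tt N60052 D112699) (tt N30265 F82185))
theorem Q32057 : ∀ i, i < 32057 → P i := stepQ 32056 Q32056 (allL N32056 (tt N32944 F83765) (tt N60053 D112700) (tt N20904 F82188) (tt N60050 (iv3 F175386)) (tt N60052 (iv4 F175390)) (tt N32124 (iv5 F82382)) (tt N16078 (iv6 D52019)) (tt N60054 D112701))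
theorem Q32058 : ∀ i, i < 32058 → P i := stepQ 32057 Q32057 (allL N32057 (tt N60055 D112702) (tt N57407 F168108) (tt N31246 F82189) (tt N16819 F82190) (tt N33123 (iv4 F84104)) (tt N32057 F82191) (tt N16079 (iv6 D52020)) (tt N32151 (iv7 F82424)))
theorem Q32059 : ∀ i, i < 32059 → P i := stepQ 32058 Q32058 (allL N32058 (tt N60056 D112703) (tt N59624 (iv0 F173252)) (tt N60057 D112704) (tt N16080 (iv3 D52021)) (tt N31691 F82192) (tt N60058 D112705) (tt N47290 F332199) (tt N30430 F82193))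
theorem Q32060 : ∀ i, i < 32060 → P i := stepQ 32059 Q32059 (allL N32059 (tt N57298 (iv1 F165990)) (tt N57297 F165987) (tt N31248 F82194) (tt N60058 (iv3 F175413)) (tt N33088 F84062) (tt N16080 (iv5 D52022)) (tt N60059 D112707) (tt N30431 F82195))
theorem Q32061 : ∀ i, i < 32061 → P i := stepQ 32060 Q32060 (allL N32060 (tt N59969 (iv1 F175013)) (tt N58361 (iv0 F169186)) (tt N31249 F82196) (tt N47290 (iv3 F332197)) (tt N16081 F82197) (tt N47289 F332196) (tt N16080 (iv6 D52023)) (tt N31319 F82198))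
theorem Q32062 : ∀ i, i < 32062 → P i := stepQ 32061 Q32061 (allL N32061 (tt N45926 F325673) (tt N45925 F325674) (tt N45927 F325675) (tt N16082 (iv3 D52024)) (tt N31320 F82199) (tt N60060 D112712) (tt N46263 (iv6 F326496)) (tt N31251 F82200))
theorem Q32063 : ∀ i, i < 32063 → P i := stepQ 32062 Q32062 (allL N32062 (tt N31281 F82204) (tt N31280 F82205) (tt N16094 F82201) (tt N60060 (iv3 F175428)) (tt N30211 F82202) (tt N16082 (iv5 D52025)) (tt N60061 D112714) (tt N31252 F82203))
theorem Q32064 : ∀ i, i < 32064 → P i := stepQ 32063 Q32063 (allL N32063 (tt N34746 (iv1 F326507)) (tt N31336 (iv0 F82208)) (tt N16095 F82206) (tt N46263 (iv3 F326495)) (tt N16083 F82207) (tt N60062 D112715) (tt N16082 (iv6 D52026)) (tt N34747 (iv7 F326503)))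
theorem Q32065 : ∀ i, i < 32065 → P i := stepQ 32064 Q32064 (allL N32064 (tt N18064 F82212) (tt N60063 D112716) (tt N32435 (iv2 F82840)) (tt N16087 F82209) (tt N31810 F82210) (tt N30466 F82211) (tt N16085 (iv6 D52027)) (tt N31350 (iv7 F82213)))
theorem Q32066 : ∀ i, i < 32066 → P i := stepQ 32065 Q32065 (allL N32065 (tt N60064 D112717) (tt N60065 D112718) (tt N60066 D112719) (tt N16086 (iv3 D52028)) (tt N31809 F82214) (tt N60067 D112720) (tt N60068 D112721) (tt N31258 F82215))
theorem Q32067 : ∀ i, i < 32067 → P i := stepQ 32066 Q32066 (allL N32066 (tt N30936 F82218) (tt N32238 (iv0 F82589)) (tt N31267 F82216) (tt N60067 (iv3 F175447)) (tt N33077 (iv4 F84048)) (tt N16086 (iv5 D52029)) (tt N60069 D112722) (tt N31259 F82217))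
theorem Q32068 : ∀ i, i < 32068 → P i := stepQ 32067 Q32067 (allL N32067 (tt N31670 F82222) (tt N60070 D112723) (tt N31268 F82219) (tt N60068 (iv3 F175449)) (tt N16087 F82220) (tt N60071 D112724) (tt N16086 (iv6 D52030)) (tt N31351 (iv7 F82221)))
theorem Q32069 : ∀ i, i < 32069 → P i := stepQ 32068 Q32068 (allL N32068 (tt N60072 D112725) (tt N60073 D112726) (tt N30887 F82223) (tt N16090 F82224) (tt N31642 F82225) (tt N29640 F82226) (tt N16088 (iv6 D52031)) (tt N40338 (iv7 F101607)))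
theorem Q32070 : ∀ i, i < 32070 → P i := stepQ 32069 Q32069 (allL N32069 (tt N60074 D112727) (tt N25321 F323179) (tt N60075 D112729) (tt N16089 (iv3 D52032)) (tt N31640 F82227) (tt N60076 D112730) (tt N60077 D112731) (tt N31266 F82228))
theorem Q32071 : ∀ i, i < 32071 → P i := stepQ 32070 Q32070 (allL N32070 (tt N32238 (iv1 F82590)) (tt N30936 F82231) (tt N31259 F82229) (tt N60076 (iv3 F175484)) (tt N33080 (iv4 F84052)) (tt N16089 (iv5 D52033)) (tt N60078 D112732) (tt N31267 F82230))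
theorem Q32072 : ∀ i, i < 32072 → P i := stepQ 32071 Q32071 (allL N32071 (tt N60079 D112733) (tt N60080 D112734) (tt N31260 F82232) (tt N60077 (iv3 F175486)) (tt N16090 F82233) (tt N60081 D112735) (tt N16089 (iv6 D52034)) (tt N60082 D112736))
theorem Q32073 : ∀ i, i < 32073 → P i := stepQ 32072 Q32072 (allL N32072 (tt N16090 (iv1 D52036)) (tt N31263 F82234) (tt N31262 (iv2 F166180)) (tt N31332 (iv3 F166181)) (tt N60083 D112737) (tt N60084 D112738) (tt N31332 F166182) (tt N31261 F166179))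
theorem Q32074 : ∀ i, i < 32074 → P i := stepQ 32073 Q32073 (allL N32073 (tt N31262 (iv1 F82239)) (tt N31261 F82240) (tt N31263 F82235) (tt N40338 (iv3 F101606)) (tt N60082 (iv4 F175500)) (tt N29645 F82236) (tt N31270 F82237) (tt N16090 (iv7 D52037)))
theorem Q32075 : ∀ i, i < 32075 → P i := stepQ 32074 Q32074 (allL N32074 (tt N60085 D112739) (tt N60086 D112740) (tt N46849 (iv2 F328392)) (tt N16091 (iv3 D52038)) (tt N32273 (iv4 F82645)) (tt N60087 D112742) (tt N28013 F328008) (tt N31271 F82241))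
theorem Q32076 : ∀ i, i < 32076 → P i := stepQ 32075 Q32075 (allL N32075 (tt N35769 (iv1 F93211)) (tt N18186 F82244) (tt N31275 F82242) (tt N60087 (iv3 F175521)) (tt N33068 (iv4 F84027)) (tt N16091 (iv5 D52039)) (tt N60088 D112744) (tt N31272 F82243))
theorem Q32077 : ∀ i, i < 32077 → P i := stepQ 32076 Q32076 (allL N32076 (tt N31322 F82247) (tt N31349 F82248) (tt N31276 F82245) (tt N28013 (iv3 F327535)) (tt N30873 F82246) (tt N28012 (iv5 F327536)) (tt N16091 (iv6 D52040)) (tt N31347 (iv7 F167740)))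
theorem Q32078 : ∀ i, i < 32078 → P i := stepQ 32077 Q32077 (allL N32077 (tt N60089 D112746) (tt N60090 D112747) (tt N60091 D112748) (tt N16092 (iv3 D52041)) (tt N31030 F82249) (tt N60092 D112749) (tt N60093 D112750) (tt N31274 F82250))
theorem Q32079 : ∀ i, i < 32079 → P i := stepQ 32078 Q32078 (allL N32078 (tt N18186 F82253) (tt N35769 (iv0 F93210)) (tt N31272 F82251) (tt N60092 (iv3 F175535)) (tt N33074 (iv4 F84043)) (tt N16092 (iv5 D52042)) (tt N34386 F347897) (tt N31275 F82252))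
theorem Q32080 : ∀ i, i < 32080 → P i := stepQ 32079 Q32079 (allL N32079 (tt N41583 F161387) (tt N60083 (iv0 F175507)) (tt N31273 F82254) (tt N60093 (iv3 F175537)) (tt N30874 F82255) (tt N45778 F327228) (tt N16092 (iv6 D52043)) (tt N60094 D112753))
theorem Q32081 : ∀ i, i < 32081 → P i := stepQ 32080 Q32080 (allL N32080 (tt N25212 (iv1 F321464)) (tt N45785 (iv0 F321461)) (tt N45786 (iv2 F321460)) (tt N16094 F82263) (tt N25145 F319480) (tt N16093 (iv5 D52047)) (tt N60095 D112761) (tt N31279 F82264))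
theorem Q32082 : ∀ i, i < 32082 → P i := stepQ 32081 Q32081 (allL N32081 (tt N60096 D112766) (tt N60097 D112767) (tt N60061 (iv2 F175432)) (tt N60095 (iv3 F175565)) (tt N33089 (iv4 F84063)) (tt N60098 D112768) (tt N16094 (iv6 D52049)) (tt N60099 D112769))
theorem Q32083 : ∀ i, i < 32083 → P i := stepQ 32082 Q32082 (allL N32082 (tt N34747 (iv1 F326502)) (tt N16095 (iv0 D52050)) (tt N34746 F327258) (tt N60100 D112770) (tt N30878 F161138) (tt N60101 D112771) (tt N47956 F317707) (tt N31336 (iv7 F161139)))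
theorem Q32084 : ∀ i, i < 32084 → P i := stepQ 32083 Q32083 (allL N32083 (tt N60102 D112772) (tt N60103 D112773) (tt N60062 (iv2 F175434)) (tt N34751 F325705) (tt N60104 D112774) (tt N16095 (iv5 D52051)) (tt N60098 (iv6 F175570)) (tt N34748 (iv7 F326508)))
theorem Q32085 : ∀ i, i < 32085 → P i := stepQ 32084 Q32084 (allL N32084 (tt N32440 (iv1 F93033)) (tt N31666 F93035) (tt N32439 F82849) (tt N16096 (iv3 D52053)) (tt N47248 F326926) (tt N57563 (iv5 F167120)) (tt N59979 (iv6 F175066)) (tt N31323 F82270))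
theorem Q32086 : ∀ i, i < 32086 → P i := stepQ 32085 Q32085 (allL N32085 (tt N58070 (iv1 F168818)) (tt N58055 (iv0 F168779)) (tt N58068 F168813) (tt N60105 D112776) (tt N16096 (iv4 D52054)) (tt N60106 D112777) (tt N47342 F321755) (tt N31327 F82271))
theorem Q32087 : ∀ i, i < 32087 → P i := stepQ 32086 Q32086 (allL N32086 (tt N55888 (iv1 F162053)) (tt N16097 (iv0 D52055)) (tt N55886 (iv2 F202477)) (tt N60107 D112779) (tt N60108 D112780) (tt N60109 D112781) (tt N57632 (iv6 F167253)) (tt N55887 (iv7 F202469)))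
theorem Q32088 : ∀ i, i < 32088 → P i := stepQ 32087 Q32087 (allL N32087 (tt N16097 (iv1 D52056)) (tt N55888 F162052) (tt N55887 (iv2 F202468)) (tt N57964 (iv3 F180074)) (tt N60110 D112784) (tt N60111 D112785) (tt N37893 (iv6 F175587)) (tt N55886 (iv7 F202478)))
theorem Q32089 : ∀ i, i < 32089 → P i := stepQ 32088 Q32088 (allL N32088 (tt N60112 D112786) (tt N60113 D112787) (tt N55885 (iv2 F162039)) (tt N40225 (iv3 F101373)) (tt N16097 (iv4 D52057)) (tt N60114 D112788) (tt N16102 F82272) (tt N60115 D112789))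
theorem Q32090 : ∀ i, i < 32090 → P i := stepQ 32089 Q32089 (allL N32089 (tt N55887 (iv1 F162044)) (tt N55886 (iv0 F162043)) (tt N55888 (iv2 F162048)) (tt N16106 F82273) (tt N60115 (iv4 F175591)) (tt N16098 F82274) (tt N20868 F82275) (tt N16097 (iv7 D52058)))
theorem Q32091 : ∀ i, i < 32091 → P i := stepQ 32090 Q32090 (allL N32090 (tt N29663 F82279) (tt N29666 F82280) (tt N55884 (iv2 F162034)) (tt N40224 (iv3 F101372)) (tt N31850 F82278) (tt N16102 (iv5 D52059)) (tt N60116 D112790) (tt N20864 F82277))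
theorem Q32092 : ∀ i, i < 32092 → P i := stepQ 32091 Q32091 (allL N32091 (tt N18071 (iv1 F82305)) (tt N16103 (iv0 D52079)) (tt N18072 (iv2 F82304)) (tt N40322 F101581) (tt N60117 D112837) (tt N20800 (iv5 F82307)) (tt N18059 (iv6 F82308)) (tt N18032 F82306))
theorem Q32093 : ∀ i, i < 32093 → P i := stepQ 32092 Q32092 (allL N32092 (tt N18072 (iv1 F82313)) (tt N18032 F82312) (tt N16103 (iv2 D52080)) (tt N18401 F82309) (tt N60118 D112838) (tt N32106 (iv5 F82350)) (tt N30400 F82310) (tt N18071 F82311))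
theorem Q32094 : ∀ i, i < 32094 → P i := stepQ 32093 Q32093 (allL N32093 (tt N60119 D112839) (tt N35640 (iv0 F93053)) (tt N60118 (iv2 F175696)) (tt N47744 (iv3 F326097)) (tt N16103 (iv4 D52081)) (tt N60120 D112840) (tt N41520 (iv6 F104366)) (tt N31307 F82314))
theorem Q32095 : ∀ i, i < 32095 → P i := stepQ 32094 Q32094 (allL N32094 (tt N20800 F168054) (tt N16824 F168055) (tt N20798 (iv2 F168074)) (tt N16104 (iv3 D52082)) (tt N60121 D112841) (tt N35824 F168056) (tt N36240 (iv6 F94142)) (tt N20799 F168057))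
theorem Q32096 : ∀ i, i < 32096 → P i := stepQ 32095 Q32095 (allL N32095 (tt N20945 (iv1 F82321)) (tt N16842 (iv0 F82320)) (tt N20944 F82317) (tt N16110 (iv3 D52084)) (tt N21480 F82319) (tt N56054 (iv5 F162430)) (tt N45318 (iv6 F115161)) (tt N20932 F82318))
theorem Q32097 : ∀ i, i < 32097 → P i := stepQ 32096 Q32096 (allL N32096 (tt N23294 F82324) (tt N17537 (iv0 F82325)) (tt N20930 F82322) (tt N36241 (iv3 F94158)) (tt N16110 (iv4 D52085)) (tt N56252 (iv5 F163279)) (tt N45319 (iv6 F115170)) (tt N20933 F82323))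
theorem Q32098 : ∀ i, i < 32098 → P i := stepQ 32097 Q32097 (allL N32097 (tt N60122 D112842) (tt N60123 D112843) (tt N60124 D112844) (tt N16112 (iv3 D52086)) (tt N31451 F82326) (tt N56452 (iv5 F163777)) (tt N29274 F337156) (tt N32152 (iv7 F82425)))
theorem Q32099 : ∀ i, i < 32099 → P i := stepQ 32098 Q32098 (allL N32098 (tt N37274 (iv1 F111342)) (tt N37276 F104360) (tt N30636 F82327) (tt N29274 F337153) (tt N16113 F82328) (tt N60125 D112846) (tt N16112 (iv6 D52087)) (tt N60126 D112847))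
theorem Q32100 : ∀ i, i < 32100 → P i := stepQ 32099 Q32099 (allL N32099 (tt N30638 (iv1 F82337)) (tt N16113 (iv0 D52088)) (tt N20829 F103501) (tt N57320 F166210) (tt N60127 D112848) (tt N22755 F82330) (tt N20791 F82329) (tt N30637 F103502))
theorem Q32101 : ∀ i, i < 32101 → P i := stepQ 32100 Q32100 (allL N32100 (tt N16113 (iv1 D52089)) (tt N30638 F82331) (tt N30637 F103504) (tt N38695 (iv3 F112153)) (tt N60128 D112849) (tt N22754 (iv5 F82332)) (tt N60129 D112850) (tt N20829 F103505))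
theorem Q32102 : ∀ i, i < 32102 → P i := stepQ 32101 Q32101 (allL N32101 (tt N30637 (iv1 F82338)) (tt N20829 F82340) (tt N30638 F82333) (tt N31456 F82334) (tt N60126 (iv4 F175716)) (tt N30405 F82335) (tt N20806 F82336) (tt N16113 (iv7 D52090)))
theorem Q32103 : ∀ i, i < 32103 → P i := stepQ 32102 Q32102 (allL N32102 (tt N55236 (iv1 F295617)) (tt N55235 (iv0 F295616)) (tt N55237 (iv2 F295626)) (tt N16114 (iv3 D52091)) (tt N31457 F82341) (tt N52667 (iv5 F295479)) (tt N55248 (iv6 F362351)) (tt N31483 F82342))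
theorem Q32104 : ∀ i, i < 32104 → P i := stepQ 32103 Q32103 (allL N32103 (tt N60130 D112855) (tt N60131 D112856) (tt N30649 F82343) (tt N55248 (iv3 F362349)) (tt N16115 F82344) (tt N60132 D112857) (tt N16114 (iv6 D52092)) (tt N55241 (iv7 F295869)))
theorem Q32105 : ∀ i, i < 32105 → P i := stepQ 32104 Q32104 (allL N32104 (tt N30652 F82346) (tt N16115 (iv0 D52093)) (tt N30650 F166441) (tt N57356 F166289) (tt N60133 D112859) (tt N60134 D112860) (tt N18358 F82345) (tt N30651 F166439))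
theorem Q32106 : ∀ i, i < 32106 → P i := stepQ 32105 Q32105 (allL N32105 (tt N16115 (iv1 D52094)) (tt N30652 F82347) (tt N30651 (iv2 F166438)) (tt N38704 F171749) (tt N60135 D112861) (tt N35874 (iv5 F93413)) (tt N58839 (iv6 F170878)) (tt N30650 (iv7 F166440)))
theorem Q32107 : ∀ i, i < 32107 → P i := stepQ 32106 Q32106 (allL N32106 (tt N30651 (iv1 F82352)) (tt N30650 F82356) (tt N30652 F82348) (tt N31462 F82349) (tt N55241 (iv4 F295867)) (tt N32092 F82350) (tt N31482 F82351) (tt N16115 (iv7 D52095)))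
theorem Q32108 : ∀ i, i < 32108 → P i := stepQ 32107 Q32107 (allL N32107 (tt N60136 D112862) (tt N60137 D112863) (tt N60138 D112864) (tt N16116 (iv3 D52096)) (tt N39092 (iv4 F99370)) (tt N38287 (iv5 F97860)) (tt N60139 D112865) (tt N30238 F82357))
theorem Q32109 : ∀ i, i < 32109 → P i := stepQ 32108 Q32108 (allL N32108 (tt N60133 (iv1 F175771)) (tt N60135 (iv0 F175770)) (tt N32156 (iv2 F82435)) (tt N60139 (iv3 F175777)) (tt N16167 F82358) (tt N60140 D112866) (tt N16116 (iv6 D52097)) (tt N60141 D112867))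
theorem Q32110 : ∀ i, i < 32110 → P i := stepQ 32109 Q32109 (allL N32109 (tt N37260 (iv1 F95730)) (tt N37263 (iv0 F95733)) (tt N19018 F82359) (tt N55069 (iv3 F331340)) (tt N16126 F82360) (tt N16117 (iv5 D52099)) (tt N55063 (iv6 F331357)) (tt N31243 F82361))
theorem Q32111 : ∀ i, i < 32111 → P i := stepQ 32110 Q32110 (allL N32110 (tt N60142 D112876) (tt N16118 (iv0 D52101)) (tt N60143 D112877) (tt N60144 D112878) (tt N60145 D112879) (tt N60146 D112880) (tt N60147 D112881) (tt N60148 D112882))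
theorem Q32112 : ∀ i, i < 32112 → P i := stepQ 32111 Q32111 (allL N32111 (tt N16118 (iv1 D52102)) (tt N60142 F175800) (tt N60148 (iv2 F175803)) (tt N29306 (iv3 F357654)) (tt N60149 D112884) (tt N60150 D112885) (tt N29302 (iv6 F357657)) (tt N60143 F175801))
theorem Q32113 : ∀ i, i < 32113 → P i := stepQ 32112 Q32112 (allL N32112 (tt N60143 (iv1 F357659)) (tt N60148 (iv0 F357650)) (tt N16118 (iv2 D52103)) (tt N32159 (iv3 F82437)) (tt N38712 (iv4 F98680)) (tt N60151 D112889) (tt N36679 (iv6 F95011)) (tt N60142 (iv7 F175799)))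
theorem Q32114 : ∀ i, i < 32114 → P i := stepQ 32113 Q32113 (allL N32113 (tt N60152 D112890) (tt N60153 D112891) (tt N60151 (iv2 F175809)) (tt N16119 F82364) (tt N60154 D112892) (tt N16118 (iv5 D52104)) (tt N60155 D112893) (tt N32183 (iv7 F82493)))
theorem Q32115 : ∀ i, i < 32115 → P i := stepQ 32114 Q32114 (allL N32114 (tt N60148 (iv1 F357651)) (tt N60143 (iv0 F357658)) (tt N60142 F175798) (tt N16120 F82365) (tt N38714 (iv4 F98683)) (tt N32183 (iv5 F82492)) (tt N41085 (iv6 F331499)) (tt N16118 (iv7 D52105)))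
theorem Q32116 : ∀ i, i < 32116 → P i := stepQ 32115 Q32115 (allL N32115 (tt N60156 D112895) (tt N60157 D112896) (tt N32162 (iv2 F82442)) (tt N60155 (iv3 F175810)) (tt N32188 (iv4 F82503)) (tt N36683 (iv5 F95020)) (tt N16119 (iv6 D52106)) (tt N60158 D112897))
theorem Q32117 : ∀ i, i < 32117 → P i := stepQ 32116 Q32116 (allL N32116 (tt N39853 F168119) (tt N60159 D112898) (tt N32163 (iv2 F82444)) (tt N41085 (iv3 F331498)) (tt N16121 F82366) (tt N41082 F331497) (tt N16120 (iv6 D52107)) (tt N20786 F82367))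
theorem Q32118 : ∀ i, i < 32118 → P i := stepQ 32117 Q32117 (allL N32117 (tt N16819 (iv1 F82368)) (tt N16121 (iv0 D52108)) (tt N18383 F168093) (tt N21008 F168094) (tt N60160 D112900) (tt N41115 (iv5 F103385)) (tt N56215 (iv6 F163200)) (tt N20787 F103378))
theorem Q32119 : ∀ i, i < 32119 → P i := stepQ 32118 Q32118 (allL N32118 (tt N60161 D112901) (tt N60162 D112902) (tt N28905 F329284) (tt N16122 (iv3 D52110)) (tt N28332 F329285) (tt N38211 (iv5 F97669)) (tt N28331 (iv6 F329361)) (tt N32164 (iv7 F82447)))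
theorem Q32120 : ∀ i, i < 32120 → P i := stepQ 32119 Q32119 (allL N32119 (tt N60127 (iv1 F175724)) (tt N60128 (iv0 F175727)) (tt N18910 F82370) (tt N28331 F329596) (tt N16123 F82371) (tt N60163 D112905) (tt N16122 (iv6 D52111)) (tt N28914 F329597))
theorem Q32121 : ∀ i, i < 32121 → P i := stepQ 32120 Q32120 (allL N32120 (tt N18913 (iv1 F82375)) (tt N16123 (iv0 D52112)) (tt N18911 F111322) (tt N44190 F111323) (tt N41170 (iv4 F111188)) (tt N56359 F163569) (tt N35814 F93307) (tt N18912 F111324))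
theorem Q32122 : ∀ i, i < 32122 → P i := stepQ 32121 Q32121 (allL N32121 (tt N16123 (iv1 D52113)) (tt N18913 F82372) (tt N18912 F111333) (tt N31540 F111334) (tt N57640 (iv4 F167277)) (tt N35813 (iv5 F93303)) (tt N60164 D112907) (tt N18911 F111335))
theorem Q32123 : ∀ i, i < 32123 → P i := stepQ 32122 Q32122 (allL N32122 (tt N18912 (iv1 F82376)) (tt N18911 F82377) (tt N18913 F82373) (tt N28911 F328994) (tt N28914 (iv4 F329358)) (tt N29948 F82374) (tt N32168 (iv6 F82459)) (tt N16123 (iv7 D52114)))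
theorem Q32124 : ∀ i, i < 32124 → P i := stepQ 32123 Q32123 (allL N32123 (tt N29969 F82380) (tt N34066 (iv0 F86653)) (tt N44493 (iv2 F112309)) (tt N16125 F82378) (tt N60165 D112908) (tt N16124 (iv5 D52115)) (tt N60166 D112909) (tt N23224 F82379))
theorem Q32125 : ∀ i, i < 32125 → P i := stepQ 32124 Q32124 (allL N32124 (tt N51352 F157670) (tt N60167 D112910) (tt N18926 F82381) (tt N60166 (iv3 F175834)) (tt N38185 (iv4 F97612)) (tt N32056 F82382) (tt N16125 (iv6 D52116)) (tt N60168 D112911))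
theorem Q32126 : ∀ i, i < 32126 → P i := stepQ 32125 Q32125 (allL N32125 (tt N51263 (iv1 F235285)) (tt N51373 (iv0 F235279)) (tt N19019 F82383) (tt N38317 (iv3 F97943)) (tt N55063 (iv4 F331356)) (tt N27224 F82384) (tt N16126 (iv6 D52117)) (tt N51343 F157679))
theorem Q32127 : ∀ i, i < 32127 → P i := stepQ 32126 Q32126 (allL N32126 (tt N56619 F164456) (tt N56626 F164478) (tt N56291 (iv2 F163356)) (tt N16128 F82385) (tt N55571 (iv4 F340339)) (tt N16127 (iv5 D52118)) (tt N60169 D112915) (tt N32172 (iv7 F82477)))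
theorem Q32128 : ∀ i, i < 32128 → P i := stepQ 32127 Q32127 (allL N32127 (tt N50088 (iv1 F138856)) (tt N50088 (iv0 F138855)) (tt N36280 (iv2 F94268)) (tt N16129 F82386) (tt N32127 F82387) (tt N26387 (iv5 F82388)) (tt N16127 (iv6 D52119)) (tt N36280 (iv7 F94272)))
theorem Q32129 : ∀ i, i < 32129 → P i := stepQ 32128 Q32128 (allL N32128 (tt N49334 F292446) (tt N49330 F292447) (tt N32170 (iv2 F82470)) (tt N60169 (iv3 F175846)) (tt N52662 (iv4 F294548)) (tt N26388 F82389) (tt N16128 (iv6 D52120)) (tt N49331 F292596))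
theorem Q32130 : ∀ i, i < 32130 → P i := stepQ 32129 Q32129 (allL N32129 (tt N16131 (iv1 F82395)) (tt N16130 (iv0 D52121)) (tt N16134 (iv2 F82392)) (tt N27122 F82391) (tt N17075 F82390) (tt N60170 D112919) (tt N17259 F82393) (tt N16132 F82394))
theorem Q32131 : ∀ i, i < 32131 → P i := stepQ 32130 Q32130 (allL N32130 (tt N34408 (iv1 F87481)) (tt N34413 (iv0 F87495)) (tt N37535 (iv2 F96218)) (tt N50180 (iv3 F139174)) (tt N60171 D112920) (tt N16130 (iv5 D52122)) (tt N49361 F294492) (tt N60172 D112921))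
theorem Q32132 : ∀ i, i < 32132 → P i := stepQ 32131 Q32131 (allL N32131 (tt N16132 (iv1 F82399)) (tt N16134 F82400) (tt N16131 F82396) (tt N30410 F82397) (tt N36425 (iv4 F94562)) (tt N60172 (iv5 F175859)) (tt N17176 F82398) (tt N16130 (iv7 D52123)))
theorem Q32133 : ∀ i, i < 32133 → P i := stepQ 32132 Q32132 (allL N32132 (tt N34413 (iv1 F87494)) (tt N34408 (iv0 F87482)) (tt N60172 (iv2 F175857)) (tt N56091 (iv3 F162599)) (tt N60173 D112922) (tt N16131 (iv5 D52124)) (tt N60174 D112923) (tt N37535 (iv7 F96219)))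
theorem Q32134 : ∀ i, i < 32134 → P i := stepQ 32133 Q32133 (allL N32133 (tt N60175 D112924) (tt N46030 (iv0 F120121)) (tt N16133 F82401) (tt N32175 (iv3 F82481)) (tt N58918 (iv4 F171447)) (tt N16132 (iv5 D52125)) (tt N60176 D112925) (tt N60170 (iv7 F175854)))
theorem Q32135 : ∀ i, i < 32135 → P i := stepQ 32134 Q32134 (allL N32134 (tt N60170 (iv1 F175856)) (tt N16133 (iv0 D52126)) (tt N60175 F175862) (tt N56442 (iv3 F163759)) (tt N60177 D112926) (tt N32417 F94244) (tt N60178 D112927) (tt N46030 (iv7 F120120)))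
theorem Q32136 : ∀ i, i < 32136 → P i := stepQ 32135 Q32135 (allL N32135 (tt N16133 (iv1 D52127)) (tt N60170 (iv0 F175855)) (tt N46030 (iv2 F120119)) (tt N34703 (iv3 F88606)) (tt N60179 D112928) (tt N21568 (iv5 F82402)) (tt N60180 D112929) (tt N60175 (iv7 F175864)))
theorem Q32137 : ∀ i, i < 32137 → P i := stepQ 32136 Q32136 (allL N32136 (tt N58923 F171456) (tt N58913 (iv0 F171442)) (tt N58918 F171448) (tt N60181 D112930) (tt N16133 (iv4 D52128)) (tt N59724 (iv5 F330766)) (tt N60182 D112932) (tt N58919 (iv7 F171449)))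
theorem Q32138 : ∀ i, i < 32138 → P i := stepQ 32137 Q32137 (allL N32137 (tt N60183 D112933) (tt N60184 D112934) (tt N60176 (iv2 F175866)) (tt N16137 F82403) (tt N60182 (iv4 F175876)) (tt N16405 F82404) (tt N16133 (iv6 D52129)) (tt N60185 D112935))
theorem Q32139 : ∀ i, i < 32139 → P i := stepQ 32138 Q32138 (allL N32138 (tt N46030 (iv1 F120122)) (tt N60175 F175863) (tt N60170 (iv2 F175852)) (tt N16138 F82405) (tt N58919 F171450) (tt N16134 F82406) (tt N60186 D112936) (tt N16133 (iv7 D52130)))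
theorem Q32140 : ∀ i, i < 32140 → P i := stepQ 32139 Q32139 (allL N32139 (tt N30080 (iv1 F82410)) (tt N30079 F82412) (tt N30083 F82407) (tt N16135 (iv3 D52131)) (tt N60187 D112937) (tt N29820 F82408) (tt N60188 D112938) (tt N30078 F82409))
theorem Q32141 : ∀ i, i < 32141 → P i := stepQ 32140 Q32140 (allL N32140 (tt N60189 D112939) (tt N60190 D112940) (tt N32181 (iv2 F82488)) (tt N60188 (iv3 F175886)) (tt N44472 (iv4 F112210)) (tt N30409 F82413) (tt N16135 (iv6 D52132)) (tt N60191 D112941))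
theorem Q32142 : ∀ i, i < 32142 → P i := stepQ 32141 Q32141 (allL N32141 (tt N60192 D112942) (tt N60193 D112943) (tt N60194 D112944) (tt N16136 (iv3 D52133)) (tt N60181 (iv4 F175875)) (tt N32161 (iv5 F82441)) (tt N60195 D112945) (tt N32160 F82439))
theorem Q32143 : ∀ i, i < 32143 → P i := stepQ 32142 Q32142 (allL N32142 (tt N60196 D112946) (tt N60197 D112947) (tt N32184 (iv2 F82494)) (tt N60195 (iv3 F175889)) (tt N16137 F82414) (tt N41081 (iv5 F331484)) (tt N16136 (iv6 D52134)) (tt N60198 D112949))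
theorem Q32144 : ∀ i, i < 32144 → P i := stepQ 32143 Q32143 (allL N32143 (tt N32187 (iv1 F82501)) (tt N16137 (iv0 D52135)) (tt N32185 (iv2 F161686)) (tt N60199 D112950) (tt N60200 D112951) (tt N56342 (iv5 F163447)) (tt N60201 D112952) (tt N32186 F161685))
theorem Q32145 : ∀ i, i < 32145 → P i := stepQ 32144 Q32144 (allL N32144 (tt N16137 (iv1 D52136)) (tt N32187 F82500) (tt N32186 F161683) (tt N56460 (iv3 F331451)) (tt N60202 D112954) (tt N55768 (iv5 F161606)) (tt N60203 D112955) (tt N32185 (iv7 F161684)))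
theorem Q32146 : ∀ i, i < 32146 → P i := stepQ 32145 Q32145 (allL N32145 (tt N32186 (iv1 F82496)) (tt N32185 F82499) (tt N32187 (iv2 F82497)) (tt N60185 (iv3 F175877)) (tt N60198 (iv4 F175891)) (tt N16408 F82415) (tt N60204 D112956) (tt N16137 (iv7 D52137)))
theorem Q32147 : ∀ i, i < 32147 → P i := stepQ 32146 Q32146 (allL N32146 (tt N60205 D112957) (tt N60206 D112958) (tt N32188 (iv2 F82502)) (tt N60186 (iv3 F175879)) (tt N32162 (iv4 F82443)) (tt N36409 (iv5 F94516)) (tt N16138 (iv6 D52138)) (tt N60204 (iv7 F175894)))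
theorem Q32148 : ∀ i, i < 32148 → P i := stepQ 32147 Q32147 (allL N32147 (tt N60207 D112959) (tt N57665 (iv0 F175782)) (tt N30466 F82416) (tt N40339 (iv3 F101609)) (tt N22641 F82417) (tt N32435 (iv5 F82843)) (tt N16139 (iv6 D52139)) (tt N60208 D112960))
theorem Q32149 : ∀ i, i < 32149 → P i := stepQ 32148 Q32148 (allL N32148 (tt N59111 F172051) (tt N60209 D112961) (tt N36033 (iv2 F93836)) (tt N29636 F82418) (tt N22644 F82419) (tt N29624 F82420) (tt N16140 (iv6 D52140)) (tt N60210 D112962))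
theorem Q32150 : ∀ i, i < 32150 → P i := stepQ 32149 Q32149 (allL N32149 (tt N60211 D112963) (tt N60212 D112964) (tt N60213 D112965) (tt N16141 (iv3 D52141)) (tt N16146 F82421) (tt N60214 D112966) (tt N36684 (iv6 F95022)) (tt N44221 (iv7 F111144)))
theorem Q32151 : ∀ i, i < 32151 → P i := stepQ 32150 Q32150 (allL N32150 (tt N44159 (iv1 F110974)) (tt N44160 (iv0 F110976)) (tt N44197 F111092) (tt N60214 (iv3 F175916)) (tt N57541 (iv4 F167079)) (tt N16141 (iv5 D52142)) (tt N60215 D112967) (tt N44196 F111088))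
theorem Q32152 : ∀ i, i < 32152 → P i := stepQ 32151 Q32151 (allL N32151 (tt N58749 (iv1 F170582)) (tt N36168 F168125) (tt N57519 (iv2 F166998)) (tt N16149 F82422) (tt N44222 (iv4 F111146)) (tt N32151 F82423) (tt N16142 (iv6 D52143)) (tt N32057 F82424))
theorem Q32153 : ∀ i, i < 32153 → P i := stepQ 32152 Q32152 (allL N32152 (tt N60216 D112968) (tt N60217 D112969) (tt N60218 D112970) (tt N16143 (iv3 D52144)) (tt N35549 (iv4 F92818)) (tt N56562 F164264) (tt N60219 D112971) (tt N32097 F82425))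
theorem Q32154 : ∀ i, i < 32154 → P i := stepQ 32153 Q32153 (allL N32153 (tt N16170 F82429) (tt N16441 F82430) (tt N22767 F82426) (tt N56562 (iv3 F164262)) (tt N16161 F82427) (tt N16143 (iv5 D52145)) (tt N60220 D112972) (tt N29990 F82428))
theorem Q32155 : ∀ i, i < 32155 → P i := stepQ 32154 Q32154 (allL N32154 (tt N38189 F101156) (tt N33523 (iv0 F85042)) (tt N22768 F82431) (tt N60219 (iv3 F175924)) (tt N16144 F82432) (tt N60221 D112973) (tt N16143 (iv6 D52146)) (tt N41130 (iv7 F103413)))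
theorem Q32156 : ∀ i, i < 32156 → P i := stepQ 32155 Q32155 (allL N32155 (tt N60222 D112974) (tt N60223 D112975) (tt N60224 D112976) (tt N16145 (iv3 D52147)) (tt N30481 F82433) (tt N58743 (iv5 F170570)) (tt N60225 D112977) (tt N29189 F331343))
theorem Q32157 : ∀ i, i < 32157 → P i := stepQ 32156 Q32156 (allL N32156 (tt N57663 F171778) (tt N57666 (iv0 F167345)) (tt N32108 F82435) (tt N60225 (iv3 F175936)) (tt N16177 F82436) (tt N60226 D112978) (tt N16145 (iv6 D52148)) (tt N60227 D112979))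
theorem Q32158 : ∀ i, i < 32158 → P i := stepQ 32157 Q32157 (allL N32157 (tt N60228 D112980) (tt N16146 (iv0 D52149)) (tt N60229 D112981) (tt N60230 D112982) (tt N44260 F167210) (tt N60231 D112983) (tt N60232 D112984) (tt N60233 D112985))
theorem Q32159 : ∀ i, i < 32159 → P i := stepQ 32158 Q32158 (allL N32158 (tt N16146 (iv1 D52150)) (tt N60228 F175949) (tt N60233 (iv2 F175955)) (tt N60234 D112986) (tt N60235 D112987) (tt N60236 D112988) (tt N60237 D112989) (tt N60229 F175951))
theorem Q32160 : ∀ i, i < 32160 → P i := stepQ 32159 Q32159 (allL N32159 (tt N60229 (iv1 F175953)) (tt N60233 F175956) (tt N16146 (iv2 D52151)) (tt N32112 F82437) (tt N60213 (iv4 F175915)) (tt N60238 D112990) (tt N36690 (iv6 F95037)) (tt N60228 (iv7 F175948)))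
theorem Q32161 : ∀ i, i < 32161 → P i := stepQ 32160 Q32160 (allL N32160 (tt N60239 D112991) (tt N60240 D112992) (tt N60238 (iv2 F175960)) (tt N16147 F82438) (tt N60241 D112993) (tt N16146 (iv5 D52152)) (tt N60242 D112994) (tt N32141 (iv7 F82439)))
theorem Q32162 : ∀ i, i < 32162 → P i := stepQ 32161 Q32161 (allL N32161 (tt N60233 (iv1 F175957)) (tt N60229 (iv0 F175952)) (tt N60228 F175945) (tt N16148 F82440) (tt N44221 (iv4 F111143)) (tt N32141 F82441) (tt N60243 D112995) (tt N16146 (iv7 D52153)))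
theorem Q32163 : ∀ i, i < 32163 → P i := stepQ 32162 Q32162 (allL N32162 (tt N60244 D112996) (tt N60245 D112997) (tt N32115 F82442) (tt N60242 (iv3 F175969)) (tt N32146 F82443) (tt N36693 (iv5 F95045)) (tt N16147 (iv6 D52154)) (tt N60246 D112998))
theorem Q32164 : ∀ i, i < 32164 → P i := stepQ 32163 Q32163 (allL N32163 (tt N41084 (iv1 F103318)) (tt N41083 F103317) (tt N32116 F82444) (tt N60243 (iv3 F175970)) (tt N16149 F82445) (tt N60247 D112999) (tt N16148 (iv6 D52155)) (tt N33511 (iv7 F85009)))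
theorem Q32165 : ∀ i, i < 32165 → P i := stepQ 32164 Q32164 (allL N32164 (tt N54514 (iv1 F329289)) (tt N54513 (iv0 F329288)) (tt N54516 (iv2 F329298)) (tt N16150 (iv3 D52156)) (tt N19941 F82446) (tt N37295 (iv5 F95778)) (tt N54535 (iv6 F329599)) (tt N32118 F82447))
theorem Q32166 : ∀ i, i < 32166 → P i := stepQ 32165 Q32165 (allL N32165 (tt N41129 (iv1 F103412)) (tt N33514 (iv0 F85017)) (tt N19390 F82448) (tt N54535 (iv3 F329598)) (tt N16151 F82449) (tt N60248 D113004) (tt N16150 (iv6 D52157)) (tt N41127 (iv7 F103402)))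
theorem Q32167 : ∀ i, i < 32167 → P i := stepQ 32166 Q32166 (allL N32166 (tt N19394 (iv1 F82460)) (tt N16151 (iv0 D52158)) (tt N19391 F82464) (tt N56815 (iv3 F164859)) (tt N44473 (iv4 F112212)) (tt N39014 (iv5 F99160)) (tt N60249 D113005) (tt N19392 F82463))
theorem Q32168 : ∀ i, i < 32168 → P i := stepQ 32167 Q32167 (allL N32167 (tt N16151 (iv1 D52159)) (tt N19394 F82450) (tt N19392 F82453) (tt N16684 F82454) (tt N20813 F82455) (tt N19574 (iv5 F82452)) (tt N16682 (iv6 F82451)) (tt N19391 (iv7 F82465)))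
theorem Q32169 : ∀ i, i < 32169 → P i := stepQ 32168 Q32168 (allL N32168 (tt N19392 (iv1 F82461)) (tt N19391 F82467) (tt N19394 F82457) (tt N19945 F82458) (tt N41127 F103404) (tt N56575 (iv5 F164287)) (tt N32122 F82459) (tt N16151 (iv7 D52160)))
theorem Q32170 : ∀ i, i < 32170 → P i := stepQ 32169 Q32169 (allL N32169 (tt N60250 D113006) (tt N60251 D113007) (tt N19407 F82468) (tt N45098 (iv3 F114534)) (tt N37269 (iv4 F95737)) (tt N23872 F82469) (tt N16152 (iv6 D52161)) (tt N60252 D113008))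
theorem Q32171 : ∀ i, i < 32171 → P i := stepQ 32170 Q32170 (allL N32170 (tt N60253 D113009) (tt N25996 F291605) (tt N32128 F82470) (tt N50010 (iv3 F138553)) (tt N27885 (iv4 F294191)) (tt N26783 F82471) (tt N16153 (iv6 D52162)) (tt N51570 (iv7 F178351)))
theorem Q32172 : ∀ i, i < 32172 → P i := stepQ 32171 Q32171 (allL N32171 (tt N16155 (iv1 D52163)) (tt N29899 F82472) (tt N29901 (iv2 F82474)) (tt N37524 (iv3 F96198)) (tt N32798 (iv4 F83553)) (tt N56633 F164500) (tt N29905 (iv6 F82475)) (tt N29894 F82473))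
theorem Q32173 : ∀ i, i < 32173 → P i := stepQ 32172 Q32172 (allL N32172 (tt N30076 (iv1 F163360)) (tt N30071 (iv0 F82478)) (tt N55582 (iv2 F340328)) (tt N16156 F82476) (tt N52049 (iv4 F340316)) (tt N16155 (iv5 D52164)) (tt N52048 (iv6 F348073)) (tt N32126 F82477))
theorem Q32174 : ∀ i, i < 32174 → P i := stepQ 32173 Q32173 (allL N32173 (tt N60254 D113014) (tt N60255 D113015) (tt N30380 F82479) (tt N52048 (iv3 F348072)) (tt N57657 (iv4 F167331)) (tt N55588 (iv5 F348091)) (tt N16156 (iv6 D52165)) (tt N60256 D113016))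
theorem Q32175 : ∀ i, i < 32175 → P i := stepQ 32174 Q32174 (allL N32174 (tt N38199 (iv1 F138537)) (tt N53059 F152166) (tt N43112 (iv2 F108145)) (tt N34090 (iv3 F86719)) (tt N60257 D113017) (tt N16157 (iv5 D52166)) (tt N60258 D113018) (tt N50009 (iv7 F138535)))
theorem Q32176 : ∀ i, i < 32176 → P i := stepQ 32175 Q32175 (allL N32175 (tt N60259 D113019) (tt N60260 D113020) (tt N16159 F82480) (tt N32133 F82481) (tt N60261 D113021) (tt N16158 (iv5 D52167)) (tt N60262 D113022) (tt N51306 (iv7 F144707)))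
theorem Q32177 : ∀ i, i < 32177 → P i := stepQ 32176 Q32176 (allL N32176 (tt N51306 F144709) (tt N16159 (iv0 D52168)) (tt N60259 F176061) (tt N57431 (iv3 F166717)) (tt N60263 D113023) (tt N37279 F139270) (tt N51593 F145636) (tt N60260 (iv7 F176065)))
theorem Q32178 : ∀ i, i < 32178 → P i := stepQ 32177 Q32177 (allL N32177 (tt N16159 (iv1 D52169)) (tt N51306 (iv0 F144708)) (tt N60260 (iv2 F176067)) (tt N23837 F82483) (tt N60264 D113024) (tt N23833 (iv5 F82482)) (tt N60265 D113025) (tt N60259 F176063))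
theorem Q32179 : ∀ i, i < 32179 → P i := stepQ 32178 Q32178 (allL N32178 (tt N60266 D113026) (tt N60267 D113027) (tt N60261 (iv2 F176069)) (tt N41162 (iv3 F331488)) (tt N16159 (iv4 D52170)) (tt N60268 D113029) (tt N41161 F331477) (tt N60269 D113031))
theorem Q32180 : ∀ i, i < 32180 → P i := stepQ 32179 Q32179 (allL N32179 (tt N60270 D113032) (tt N49319 F291034) (tt N60262 (iv2 F176070)) (tt N16164 F82484) (tt N41161 (iv4 F331472)) (tt N29564 F82485) (tt N16159 (iv6 D52171)) (tt N60271 D113033))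
theorem Q32181 : ∀ i, i < 32181 → P i := stepQ 32180 Q32180 (allL N32180 (tt N60260 (iv1 F176064)) (tt N60259 F176060) (tt N51306 (iv2 F144706)) (tt N16165 F82486) (tt N60269 (iv4 F176085)) (tt N16160 F82487) (tt N60272 D113034) (tt N16159 (iv7 D52172)))
theorem Q32182 : ∀ i, i < 32182 → P i := stepQ 32181 Q32181 (allL N32181 (tt N60273 D113035) (tt N60274 D113036) (tt N32140 F82488) (tt N30001 F82489) (tt N60220 (iv4 F175926)) (tt N32470 (iv5 F82906)) (tt N16161 (iv6 D52173)) (tt N60275 D113037))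
theorem Q32183 : ∀ i, i < 32183 → P i := stepQ 32182 Q32182 (allL N32182 (tt N60276 D113038) (tt N60277 D113039) (tt N29991 F82490) (tt N56635 (iv3 F164504)) (tt N57639 (iv4 F167275)) (tt N23865 F82491) (tt N16162 (iv6 D52174)) (tt N60278 D113040))
theorem Q32184 : ∀ i, i < 32184 → P i := stepQ 32183 Q32183 (allL N32183 (tt N60279 D113041) (tt N60280 D113042) (tt N60281 D113043) (tt N16163 (iv3 D52175)) (tt N41162 (iv4 F331489)) (tt N32114 F82492) (tt N20785 F331485) (tt N32113 F82493))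
theorem Q32185 : ∀ i, i < 32185 → P i := stepQ 32184 Q32184 (allL N32184 (tt N60282 D113045) (tt N52113 (iv0 F340450)) (tt N32142 F82494) (tt N20785 (iv3 F331473)) (tt N16164 F82495) (tt N20784 (iv5 F331474)) (tt N16163 (iv6 D52176)) (tt N36680 (iv7 F331476)))
theorem Q32186 : ∀ i, i < 32186 → P i := stepQ 32185 Q32185 (allL N32185 (tt N32145 (iv1 F82499)) (tt N16164 (iv0 D52177)) (tt N32143 F161686) (tt N56651 (iv3 F331450)) (tt N60283 D113050) (tt N56208 (iv5 F163180)) (tt N60284 D113051) (tt N32144 F161684))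
theorem Q32187 : ∀ i, i < 32187 → P i := stepQ 32186 Q32186 (allL N32186 (tt N16164 (iv1 D52178)) (tt N32145 F82496) (tt N32144 (iv2 F161683)) (tt N60285 D113052) (tt N60286 D113053) (tt N32606 (iv5 F83200)) (tt N49329 F292580) (tt N32143 (iv7 F161685)))
theorem Q32188 : ∀ i, i < 32188 → P i := stepQ 32187 Q32187 (allL N32187 (tt N32144 (iv1 F82500)) (tt N32143 F82501) (tt N32145 F82497) (tt N60271 (iv3 F176086)) (tt N36680 (iv4 F331475)) (tt N29567 F82498) (tt N60287 D113055) (tt N16164 (iv7 D52179)))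
theorem Q32189 : ∀ i, i < 32189 → P i := stepQ 32188 Q32188 (allL N32188 (tt N60288 D113056) (tt N60289 D113057) (tt N32146 F82502) (tt N60272 (iv3 F176088)) (tt N32115 F82503) (tt N32716 (iv5 F83378)) (tt N16165 (iv6 D52180)) (tt N60287 (iv7 F176140)))
theorem Q32190 : ∀ i, i < 32190 → P i := stepQ 32189 Q32189 (allL N32189 (tt N60290 D113058) (tt N54783 (iv0 F333131)) (tt N60291 D113060) (tt N16166 (iv3 D52181)) (tt N19523 F82504) (tt N41161 (iv5 F103445)) (tt N16169 F82505) (tt N36192 (iv7 F94067)))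
theorem Q32191 : ∀ i, i < 32191 → P i := stepQ 32190 Q32190 (allL N32190 (tt N32213 F82548) (tt N16167 (iv0 D52182)) (tt N32211 (iv2 F161365)) (tt N59277 F172461) (tt N57658 (iv4 F175748)) (tt N60292 D113061) (tt N30309 F82506) (tt N32212 F161364))
theorem Q32192 : ∀ i, i < 32192 → P i := stepQ 32191 Q32191 (allL N32191 (tt N16167 (iv1 D52183)) (tt N32213 F82547) (tt N32212 (iv2 F161363)) (tt N31546 (iv3 F161359)) (tt N57659 F167332) (tt N32393 (iv5 F82763)) (tt N60293 D113062) (tt N32211 (iv7 F161367)))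
theorem Q32193 : ∀ i, i < 32193 → P i := stepQ 32192 Q32192 (allL N32192 (tt N32212 (iv1 F82543)) (tt N32211 F82546) (tt N32213 (iv2 F82544)) (tt N39096 (iv3 F99381)) (tt N60141 (iv4 F175778)) (tt N35641 (iv5 F93057)) (tt N30237 F82507) (tt N16167 (iv7 D52184)))
theorem Q32194 : ∀ i, i < 32194 → P i := stepQ 32193 Q32193 (allL N32193 (tt N30237 (iv1 F82512)) (tt N16168 (iv0 D52185)) (tt N30234 F111459) (tt N22713 F111460) (tt N59113 (iv4 F172061)) (tt N30190 (iv5 F82514)) (tt N60294 D113063) (tt N30235 (iv7 F111458)))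
theorem Q32195 : ∀ i, i < 32195 → P i := stepQ 32194 Q32194 (allL N32194 (tt N16168 (iv1 D52186)) (tt N30237 F82508) (tt N30235 (iv2 F111452)) (tt N39384 F164922) (tt N59114 (iv4 F172067)) (tt N30191 (iv5 F93060)) (tt N39148 (iv6 F99515)) (tt N30234 F111454))
theorem Q32196 : ∀ i, i < 32196 → P i := stepQ 32195 Q32195 (allL N32195 (tt N30235 (iv1 F82513)) (tt N30234 F82515) (tt N30237 F82510) (tt N58403 (iv3 F169300)) (tt N50346 (iv4 F331305)) (tt N18154 F82511) (tt N32213 (iv6 F82545)) (tt N16168 (iv7 D52187)))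
theorem Q32197 : ∀ i, i < 32197 → P i := stepQ 32196 Q32196 (allL N32196 (tt N60295 D113064) (tt N16169 (iv0 D52188)) (tt N60296 D113065) (tt N60297 D113066) (tt N60298 D113067) (tt N60299 D113068) (tt N60300 D113069) (tt N60301 D113070))
theorem Q32198 : ∀ i, i < 32198 → P i := stepQ 32197 Q32197 (allL N32197 (tt N16169 (iv1 D52189)) (tt N60295 F176162) (tt N60301 (iv2 F176164)) (tt N60302 D113071) (tt N60303 D113072) (tt N60304 D113073) (tt N53906 (iv6 F368785)) (tt N60296 F176163))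
theorem Q32199 : ∀ i, i < 32199 → P i := stepQ 32198 Q32198 (allL N32198 (tt N60296 (iv1 F387957)) (tt N60301 (iv0 F387953)) (tt N16169 (iv2 D52190)) (tt N32216 (iv3 F82549)) (tt N31556 F82516) (tt N60305 D113077) (tt N60291 (iv6 F176146)) (tt N60295 (iv7 F176161)))
theorem Q32200 : ∀ i, i < 32200 → P i := stepQ 32199 Q32199 (allL N32199 (tt N60306 D113078) (tt N60307 D113079) (tt N60305 (iv2 F176167)) (tt N16170 F82517) (tt N60308 D113080) (tt N16169 (iv5 D52191)) (tt N60268 (iv6 F331491)) (tt N55793 (iv7 F161799)))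
theorem Q32201 : ∀ i, i < 32201 → P i := stepQ 32200 Q32200 (allL N32200 (tt N60301 (iv1 F387954)) (tt N60296 (iv0 F387956)) (tt N60295 F176159) (tt N16171 F82518) (tt N31558 F82519) (tt N55793 (iv5 F161798)) (tt N60309 D113082) (tt N16169 (iv7 D52192)))
theorem Q32202 : ∀ i, i < 32202 → P i := stepQ 32201 Q32201 (allL N32201 (tt N60310 D113083) (tt N60311 D113084) (tt N32219 (iv2 F82552)) (tt N60268 (iv3 F331490)) (tt N38210 (iv4 F97667)) (tt N41162 (iv5 F103447)) (tt N16170 (iv6 D52193)) (tt N60312 D113085))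
theorem Q32203 : ∀ i, i < 32203 → P i := stepQ 32202 Q32202 (allL N32202 (tt N36239 F168322) (tt N41086 F168337) (tt N32220 (iv2 F82553)) (tt N60309 (iv3 F176169)) (tt N16172 F82520) (tt N60313 D113086) (tt N16171 (iv6 D52194)) (tt N36193 (iv7 F94069)))
theorem Q32204 : ∀ i, i < 32204 → P i := stepQ 32203 Q32203 (allL N32203 (tt N16172 (iv1 D52196)) (tt N20783 F82522) (tt N32222 (iv2 F168372)) (tt N39367 (iv3 F168323)) (tt N60159 F175815) (tt N60314 D113087) (tt N60315 D113088) (tt N32221 F168370))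
theorem Q32205 : ∀ i, i < 32205 → P i := stepQ 32204 Q32204 (allL N32204 (tt N60316 D113089) (tt N60317 D113090) (tt N60318 D113091) (tt N16173 (iv3 D52197)) (tt N16178 F82523) (tt N57536 (iv5 F167073)) (tt N39238 (iv6 F99691)) (tt N60319 D113092))
theorem Q32206 : ∀ i, i < 32206 → P i := stepQ 32205 Q32205 (allL N32205 (tt N30589 F82525) (tt N30600 F82526) (tt N31567 F82524) (tt N57536 (iv3 F167074)) (tt N39505 (iv4 F100341)) (tt N16173 (iv5 D52198)) (tt N60320 D113093) (tt N60321 D113094))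
theorem Q32207 : ∀ i, i < 32207 → P i := stepQ 32206 Q32206 (allL N32206 (tt N18292 (iv1 F82529)) (tt N30570 F82530) (tt N30603 F82527) (tt N60319 (iv3 F176188)) (tt N16174 F82528) (tt N60321 (iv5 F176195)) (tt N60322 D113095) (tt N16173 (iv7 D52199)))
theorem Q32208 : ∀ i, i < 32208 → P i := stepQ 32207 Q32207 (allL N32207 (tt N44294 (iv1 F168292)) (tt N56394 (iv0 F168293)) (tt N31568 F82531) (tt N16181 F82532) (tt N60322 (iv4 F176199)) (tt N32207 F82533) (tt N16174 (iv6 D52200)) (tt N31022 F82534))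
theorem Q32209 : ∀ i, i < 32209 → P i := stepQ 32208 Q32208 (allL N32208 (tt N20540 F101881) (tt N60323 D113096) (tt N19882 F82535) (tt N20087 F82536) (tt N36687 (iv4 F95035)) (tt N29967 F82537) (tt N16175 (iv6 D52201)) (tt N56592 (iv7 F164373)))
theorem Q32210 : ∀ i, i < 32210 → P i := stepQ 32209 Q32209 (allL N32209 (tt N59770 (iv1 F347194)) (tt N60324 D113098) (tt N60325 D113099) (tt N16176 (iv3 D52202)) (tt N39238 (iv4 F99690)) (tt N60326 D113100) (tt N16178 F82538) (tt N41077 (iv7 F103303)))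
theorem Q32211 : ∀ i, i < 32211 → P i := stepQ 32210 Q32210 (allL N32210 (tt N20789 F82541) (tt N16828 F82542) (tt N20820 F82539) (tt N60326 (iv3 F176211)) (tt N33510 (iv4 F85006)) (tt N16176 (iv5 D52203)) (tt N60327 D113101) (tt N20819 F82540))
theorem Q32212 : ∀ i, i < 32212 → P i := stepQ 32211 Q32211 (allL N32211 (tt N32192 (iv1 F82546)) (tt N16177 (iv0 D52204)) (tt N32190 F161365) (tt N20239 F161366) (tt N60130 (iv4 F175743)) (tt N60328 D113102) (tt N20122 F163581) (tt N32191 F161367))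
theorem Q32213 : ∀ i, i < 32213 → P i := stepQ 32212 Q32212 (allL N32212 (tt N16177 (iv1 D52205)) (tt N32192 F82543) (tt N32191 F161363) (tt N44219 (iv3 F168827)) (tt N60131 (iv4 F175752)) (tt N55682 (iv5 F161230)) (tt N60329 D113103) (tt N32190 (iv7 F161364)))
theorem Q32214 : ∀ i, i < 32214 → P i := stepQ 32213 Q32213 (allL N32213 (tt N32191 (iv1 F82547)) (tt N32190 (iv0 F82548)) (tt N32192 F82544) (tt N57786 (iv3 F167733)) (tt N60227 (iv4 F175941)) (tt N32257 F82619) (tt N32195 F82545) (tt N16177 (iv7 D52206)))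
theorem Q32215 : ∀ i, i < 32215 → P i := stepQ 32214 Q32214 (allL N32214 (tt N60330 D113104) (tt N16178 (iv0 D52207)) (tt N60331 D113105) (tt N60332 D113106) (tt N60333 D113107) (tt N60334 D113108) (tt N60335 D113109) (tt N60336 D113110))
theorem Q32216 : ∀ i, i < 32216 → P i := stepQ 32215 Q32215 (allL N32215 (tt N16178 (iv1 D52208)) (tt N60330 F176227) (tt N60336 (iv2 F176229)) (tt N29160 (iv3 F355170)) (tt N60337 D113112) (tt N60338 D113113) (tt N29156 (iv6 F355171)) (tt N60331 F176228))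
theorem Q32217 : ∀ i, i < 32217 → P i := stepQ 32216 Q32216 (allL N32216 (tt N60331 (iv1 F360552)) (tt N60336 (iv0 F360553)) (tt N16178 (iv2 D52209)) (tt N32198 F82549) (tt N60318 (iv4 F176185)) (tt N60339 D113117) (tt N60325 (iv6 F176210)) (tt N60330 (iv7 F176226)))
theorem Q32218 : ∀ i, i < 32218 → P i := stepQ 32217 Q32217 (allL N32217 (tt N60340 D113118) (tt N60341 D113119) (tt N60339 (iv2 F176232)) (tt N16179 F82550) (tt N60342 D113120) (tt N16178 (iv5 D52210)) (tt N60343 D113121) (tt N32734 (iv7 F83401)))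
theorem Q32219 : ∀ i, i < 32219 → P i := stepQ 32218 Q32218 (allL N32218 (tt N60336 (iv1 F360554)) (tt N60331 (iv0 F360551)) (tt N60330 F176224) (tt N16180 F82551) (tt N60319 (iv4 F176189)) (tt N32734 (iv5 F83400)) (tt N60344 D113122) (tt N16178 (iv7 D52211)))
theorem Q32220 : ∀ i, i < 32220 → P i := stepQ 32219 Q32219 (allL N32219 (tt N60345 D113123) (tt N60346 D113124) (tt N32201 F82552) (tt N60343 (iv3 F176236)) (tt N32735 (iv4 F83402)) (tt N60327 (iv5 F176214)) (tt N16179 (iv6 D52212)) (tt N60347 D113125))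
theorem Q32221 : ∀ i, i < 32221 → P i := stepQ 32220 Q32220 (allL N32220 (tt N60160 F175821) (tt N56032 F168290) (tt N32202 F82553) (tt N60344 (iv3 F176237)) (tt N16181 F82554) (tt N60348 D113126) (tt N16180 (iv6 D52213)) (tt N41078 (iv7 F103306)))
theorem Q32222 : ∀ i, i < 32222 → P i := stepQ 32221 Q32221 (allL N32221 (tt N20049 (iv1 F82555)) (tt N16181 (iv0 D52214)) (tt N20196 F168203) (tt N39388 F168204) (tt N41084 F168205) (tt N60349 D113127) (tt N32323 F82701) (tt N32203 (iv7 F168370)))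
theorem Q32223 : ∀ i, i < 32223 → P i := stepQ 32222 Q32222 (allL N32222 (tt N16181 (iv1 D52215)) (tt N20049 F82556) (tt N32203 F168372) (tt N19911 F168373) (tt N41083 F168374) (tt N60350 D113128) (tt N60351 D113129) (tt N20196 F168375))
theorem Q32224 : ∀ i, i < 32224 → P i := stepQ 32223 Q32223 (allL N32223 (tt N48091 F318513) (tt N60352 D113131) (tt N60353 D113132) (tt N16182 (iv3 D52216)) (tt N29933 F82557) (tt N47526 F342695) (tt N29928 F82558) (tt N60354 D113134))
theorem Q32225 : ∀ i, i < 32225 → P i := stepQ 32224 Q32224 (allL N32224 (tt N30454 F82560) (tt N30462 F82561) (tt N30735 F82559) (tt N47526 (iv3 F342694)) (tt N38235 F97735) (tt N16182 (iv5 D52217)) (tt N60355 D113135) (tt N60356 D113136))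
theorem Q32226 : ∀ i, i < 32226 → P i := stepQ 32225 Q32225 (allL N32225 (tt N29638 (iv1 F82564)) (tt N30435 F82565) (tt N30467 F82562) (tt N60354 (iv3 F176262)) (tt N16183 F82563) (tt N60356 (iv5 F176269)) (tt N60357 D113137) (tt N16182 (iv7 D52218)))
theorem Q32227 : ∀ i, i < 32227 → P i := stepQ 32226 Q32226 (allL N32226 (tt N39212 (iv1 F163983)) (tt N39367 F100042) (tt N30736 F82566) (tt N29936 F82567) (tt N60357 (iv4 F176273)) (tt N32226 F82568) (tt N16183 (iv6 D52219)) (tt N19991 F82569))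
theorem Q32228 : ∀ i, i < 32228 → P i := stepQ 32227 Q32227 (allL N32227 (tt N60358 D113138) (tt N60359 D113139) (tt N42013 (iv2 F105264)) (tt N16184 (iv3 D52220)) (tt N19915 F82570) (tt N58808 (iv5 F170801)) (tt N35753 (iv6 F93191)) (tt N35773 (iv7 F93221)))
theorem Q32229 : ∀ i, i < 32229 → P i := stepQ 32228 Q32228 (allL N32228 (tt N60360 D113140) (tt N60361 D113141) (tt N42011 (iv2 F105259)) (tt N16185 (iv3 D52221)) (tt N16207 F82571) (tt N42010 F105258) (tt N16196 F82572) (tt N35751 (iv7 F93186)))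
theorem Q32230 : ∀ i, i < 32230 → P i := stepQ 32229 Q32229 (allL N32229 (tt N16600 F82576) (tt N16602 F82577) (tt N18272 F82573) (tt N60362 D113142) (tt N16186 (iv4 D52222)) (tt N16651 F82575) (tt N60363 D113143) (tt N20355 F82574))
theorem Q32231 : ∀ i, i < 32231 → P i := stepQ 32230 Q32230 (allL N32230 (tt N57972 F168669) (tt N20830 F111378) (tt N18273 F82578) (tt N31394 F82579) (tt N60363 (iv4 F176281)) (tt N38706 (iv5 F98679)) (tt N16186 (iv6 D52223)) (tt N60364 D113144))
theorem Q32232 : ∀ i, i < 32232 → P i := stepQ 32231 Q32231 (allL N32231 (tt N45747 F323180) (tt N60365 D113145) (tt N45848 (iv2 F328590)) (tt N16188 (iv3 D52224)) (tt N35599 (iv4 F92952)) (tt N60366 D113147) (tt N34649 F328216) (tt N58054 (iv7 F168775)))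
theorem Q32233 : ∀ i, i < 32233 → P i := stepQ 32232 Q32232 (allL N32232 (tt N31248 F82581) (tt N30431 F82582) (tt N57297 F165988) (tt N60366 (iv3 F176292)) (tt N16652 F82580) (tt N16188 (iv5 D52225)) (tt N60367 D113149) (tt N57298 (iv7 F165991)))
theorem Q32234 : ∀ i, i < 32234 → P i := stepQ 32233 Q32233 (allL N32233 (tt N31287 (iv1 F170829)) (tt N31290 F170828) (tt N57862 (iv2 F167937)) (tt N34649 (iv3 F327744)) (tt N16189 F82583) (tt N45487 (iv5 F327437)) (tt N16188 (iv6 D52226)) (tt N45849 F327242))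
theorem Q32235 : ∀ i, i < 32235 → P i := stepQ 32234 Q32234 (allL N32234 (tt N16189 (iv1 D52228)) (tt N57864 F167959) (tt N57863 (iv2 F167945)) (tt N16218 F165647) (tt N17586 F326499) (tt N38927 (iv5 F99026)) (tt N60368 D113152) (tt N55627 F165607))
theorem Q32236 : ∀ i, i < 32236 → P i := stepQ 32235 Q32235 (allL N32235 (tt N38861 (iv1 F168393)) (tt N45898 (iv0 F327530)) (tt N19583 F82584) (tt N30113 F82585) (tt N55840 (iv4 F161925)) (tt N16189 (iv5 D52229)) (tt N16191 F82586) (tt N60369 D113153))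
theorem Q32237 : ∀ i, i < 32237 → P i := stepQ 32236 Q32236 (allL N32236 (tt N57863 (iv1 F167940)) (tt N55627 F167954) (tt N57864 (iv2 F167955)) (tt N35602 (iv3 F92961)) (tt N45849 (iv4 F326783)) (tt N60369 (iv5 F176303)) (tt N58056 (iv6 F168782)) (tt N16189 (iv7 D52230)))
theorem Q32238 : ∀ i, i < 32238 → P i := stepQ 32237 Q32237 (allL N32237 (tt N59942 F174858) (tt N60370 D113154) (tt N60371 D113155) (tt N16193 (iv3 D52231)) (tt N18091 F82587) (tt N60372 D113156) (tt N46309 F330144) (tt N57290 (iv7 F165975)))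
theorem Q32239 : ∀ i, i < 32239 → P i := stepQ 32238 Q32238 (allL N32238 (tt N32066 F82589) (tt N32070 F82590) (tt N57288 (iv2 F165967)) (tt N60372 (iv3 F176310)) (tt N16644 F82588) (tt N16193 (iv5 D52232)) (tt N34232 (iv6 F350933)) (tt N57291 (iv7 F165978)))
theorem Q32240 : ∀ i, i < 32240 → P i := stepQ 32239 Q32239 (allL N32239 (tt N35886 (iv1 F202183)) (tt N35889 F100411) (tt N57289 (iv2 F165972)) (tt N46309 (iv3 F330142)) (tt N16194 F82591) (tt N60373 D113160) (tt N16193 (iv6 D52233)) (tt N60374 D113161))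
theorem Q32241 : ∀ i, i < 32241 → P i := stepQ 32240 Q32240 (allL N32240 (tt N16194 (iv1 D52235)) (tt N39536 F100402) (tt N57891 F168501) (tt N16233 F168362) (tt N45903 F328014) (tt N60375 D113163) (tt N60376 D113164) (tt N45899 F328015))
theorem Q32242 : ∀ i, i < 32242 → P i := stepQ 32241 Q32241 (allL N32241 (tt N57891 (iv1 F168499)) (tt N45899 F328012) (tt N39536 (iv2 F100398)) (tt N32046 F82592) (tt N60374 (iv4 F176315)) (tt N32045 F82593) (tt N58185 (iv6 F168972)) (tt N16194 (iv7 D52236)))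
theorem Q32243 : ∀ i, i < 32243 → P i := stepQ 32242 Q32242 (allL N32242 (tt N60377 D113165) (tt N60378 D113166) (tt N58674 (iv2 F170145)) (tt N16195 (iv3 D52237)) (tt N35746 (iv4 F93176)) (tt N60379 D113167) (tt N60380 D113168) (tt N35768 (iv7 F93206)))
theorem Q32244 : ∀ i, i < 32244 → P i := stepQ 32243 Q32243 (allL N32243 (tt N31275 F82596) (tt N31272 F82597) (tt N18186 F82594) (tt N60379 (iv3 F176327)) (tt N16632 F82595) (tt N16195 (iv5 D52238)) (tt N60381 D113169) (tt N35769 (iv7 F93209)))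
theorem Q32245 : ∀ i, i < 32245 → P i := stepQ 32244 Q32244 (allL N32244 (tt N45890 F327022) (tt N45903 (iv0 F327552)) (tt N18187 F82598) (tt N60380 (iv3 F176328)) (tt N18185 F82599) (tt N60382 D113170) (tt N16195 (iv6 D52239)) (tt N45902 F328021))
theorem Q32246 : ∀ i, i < 32246 → P i := stepQ 32245 Q32245 (allL N32245 (tt N60383 D113172) (tt N16196 (iv0 D52240)) (tt N60384 D113173) (tt N60385 D113174) (tt N60386 D113175) (tt N60387 D113176) (tt N60388 D113177) (tt N60389 D113178))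
theorem Q32247 : ∀ i, i < 32247 → P i := stepQ 32246 Q32246 (allL N32246 (tt N16196 (iv1 D52241)) (tt N60383 F176340) (tt N60389 (iv2 F176344)) (tt N60390 D113179) (tt N60391 D113180) (tt N60392 D113181) (tt N60393 D113182) (tt N60384 F176341))
theorem Q32248 : ∀ i, i < 32248 → P i := stepQ 32247 Q32247 (allL N32247 (tt N60384 (iv1 F381046)) (tt N60389 (iv0 F381056)) (tt N16196 (iv2 D52242)) (tt N42013 (iv3 F105265)) (tt N16252 F82600) (tt N60394 D113185) (tt N42011 F105262) (tt N60383 (iv7 F176339)))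
theorem Q32249 : ∀ i, i < 32249 → P i := stepQ 32248 Q32248 (allL N32248 (tt N60395 D113186) (tt N60396 D113187) (tt N60394 (iv2 F176349)) (tt N16197 F82601) (tt N60397 D113188) (tt N16196 (iv5 D52243)) (tt N60398 D113189) (tt N58806 (iv7 F170798)))
theorem Q32250 : ∀ i, i < 32250 → P i := stepQ 32249 Q32249 (allL N32249 (tt N60389 (iv1 F381057)) (tt N60384 (iv0 F381045)) (tt N60383 F176337) (tt N16198 F82602) (tt N16254 F82603) (tt N58806 (iv5 F170797)) (tt N46844 F327354) (tt N16196 (iv7 D52244)))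
theorem Q32251 : ∀ i, i < 32251 → P i := stepQ 32250 Q32250 (allL N32250 (tt N16652 F82607) (tt N16651 F82608) (tt N16655 F82604) (tt N60399 D113191) (tt N16197 (iv4 D52245)) (tt N16594 F82605) (tt N60400 D113192) (tt N16593 F82606))
theorem Q32252 : ∀ i, i < 32252 → P i := stepQ 32251 Q32251 (allL N32251 (tt N60401 D113193) (tt N48057 (iv0 F351337)) (tt N58809 (iv2 F170803)) (tt N60398 (iv3 F176350)) (tt N60400 (iv4 F176356)) (tt N48123 (iv5 F347903)) (tt N16197 (iv6 D52246)) (tt N60402 D113195))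
theorem Q32253 : ∀ i, i < 32253 → P i := stepQ 32252 Q32252 (allL N32252 (tt N58759 F170611) (tt N35803 F161318) (tt N35774 (iv2 F93222)) (tt N46844 (iv3 F326654)) (tt N16199 F82609) (tt N60403 D113196) (tt N16198 (iv6 D52247)) (tt N35752 (iv7 F93188)))
theorem Q32254 : ∀ i, i < 32254 → P i := stepQ 32253 Q32253 (allL N32253 (tt N31073 (iv1 F82610)) (tt N16199 (iv0 D52248)) (tt N31780 (iv2 F161335)) (tt N16260 F161329) (tt N59969 F175015) (tt N60404 D113197) (tt N60405 D113198) (tt N55680 (iv7 F161336)))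
theorem Q32255 : ∀ i, i < 32255 → P i := stepQ 32254 Q32254 (allL N32254 (tt N60406 D113199) (tt N60407 D113200) (tt N60408 D113201) (tt N16200 (iv3 D52250)) (tt N58054 (iv4 F168774)) (tt N60409 D113202) (tt N60410 D113203) (tt N35599 (iv7 F92953)))
theorem Q32256 : ∀ i, i < 32256 → P i := stepQ 32255 Q32255 (allL N32255 (tt N18039 F82614) (tt N18106 F82615) (tt N18103 F82612) (tt N60409 (iv3 F176366)) (tt N35572 (iv4 F92883)) (tt N16200 (iv5 D52251)) (tt N60411 D113204) (tt N18102 F82613))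
theorem Q32257 : ∀ i, i < 32257 → P i := stepQ 32256 Q32256 (allL N32256 (tt N60118 F175700) (tt N31307 (iv0 F82617)) (tt N35640 (iv2 F93050)) (tt N60410 (iv3 F176368)) (tt N16201 F82616) (tt N60412 D113205) (tt N16200 (iv6 D52252)) (tt N60119 (iv7 F175704)))
theorem Q32258 : ∀ i, i < 32258 → P i := stepQ 32257 Q32257 (allL N32257 (tt N35642 (iv1 F93066)) (tt N16201 (iv0 D52253)) (tt N35641 F93055) (tt N31671 F82621) (tt N35649 (iv4 F93069)) (tt N32213 (iv5 F82619)) (tt N30263 F82618) (tt N16212 (iv7 F82620)))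
theorem Q32259 : ∀ i, i < 32259 → P i := stepQ 32258 Q32258 (allL N32258 (tt N60413 D113206) (tt N58527 (iv0 F169546)) (tt N20052 F82622) (tt N31024 F82623) (tt N20810 (iv4 F82625)) (tt N16201 (iv5 D52254)) (tt N16203 F82624) (tt N60249 (iv7 F175994)))
theorem Q32260 : ∀ i, i < 32260 → P i := stepQ 32259 Q32259 (allL N32259 (tt N16212 (iv1 F82626)) (tt N35641 F93059) (tt N35642 (iv2 F93062)) (tt N58056 (iv3 F168781)) (tt N60119 (iv4 F175701)) (tt N60249 (iv5 F175993)) (tt N35602 (iv6 F92962)) (tt N16201 (iv7 D52255)))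
theorem Q32261 : ∀ i, i < 32261 → P i := stepQ 32260 Q32260 (allL N32260 (tt N60414 D113207) (tt N60415 D113208) (tt N60416 D113209) (tt N16205 (iv3 D52256)) (tt N57290 (iv4 F165974)) (tt N60417 D113210) (tt N60418 D113211) (tt N18091 F82627))
theorem Q32262 : ∀ i, i < 32262 → P i := stepQ 32261 Q32261 (allL N32261 (tt N35604 (iv1 F92970)) (tt N32026 F82630) (tt N18095 F82628) (tt N60417 (iv3 F176383)) (tt N35579 (iv4 F92912)) (tt N16205 (iv5 D52257)) (tt N60419 D113212) (tt N18092 F82629))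
theorem Q32263 : ∀ i, i < 32263 → P i := stepQ 32262 Q32262 (allL N32262 (tt N46545 (iv1 F327080)) (tt N35902 F168298) (tt N18096 F82631) (tt N60418 (iv3 F176385)) (tt N16206 F82632) (tt N37743 (iv5 F327445)) (tt N16205 (iv6 D52258)) (tt N46544 (iv7 F327086)))
theorem Q32264 : ∀ i, i < 32264 → P i := stepQ 32263 Q32263 (allL N32263 (tt N55611 F161089) (tt N16206 (iv0 D52259)) (tt N55610 (iv2 F168357)) (tt N31715 F168020) (tt N35688 F165609) (tt N30121 F82633) (tt N60420 D113216) (tt N45897 (iv7 F327095)))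
theorem Q32265 : ∀ i, i < 32265 → P i := stepQ 32264 Q32264 (allL N32264 (tt N45897 (iv1 F327093)) (tt N55610 F161087) (tt N55611 (iv2 F161082)) (tt N58185 (iv3 F168970)) (tt N46544 (iv4 F327085)) (tt N36733 (iv5 F95133)) (tt N32046 F82636) (tt N16206 (iv7 D52261)))
theorem Q32266 : ∀ i, i < 32266 → P i := stepQ 32265 Q32265 (allL N32265 (tt N60421 D113217) (tt N16207 (iv0 D52262)) (tt N60422 D113218) (tt N35785 (iv3 F169959)) (tt N47810 F318605) (tt N60423 D113220) (tt N47765 (iv6 F320731)) (tt N35793 F169992))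
theorem Q32267 : ∀ i, i < 32267 → P i := stepQ 32266 Q32266 (allL N32266 (tt N16207 (iv1 D52263)) (tt N60421 F176405) (tt N35793 (iv2 F176406)) (tt N60424 D113222) (tt N60425 D113223) (tt N60426 D113224) (tt N60427 D113225) (tt N60422 (iv7 F176407)))
theorem Q32268 : ∀ i, i < 32268 → P i := stepQ 32267 Q32267 (allL N32267 (tt N60422 (iv1 F176408)) (tt N35793 F93258) (tt N16207 (iv2 D52264)) (tt N55614 (iv3 F161090)) (tt N42011 F105261) (tt N60428 D113226) (tt N16252 F82637) (tt N60421 (iv7 F176404)))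
theorem Q32269 : ∀ i, i < 32269 → P i := stepQ 32268 Q32268 (allL N32268 (tt N60429 D113227) (tt N60430 D113228) (tt N60428 (iv2 F176414)) (tt N16208 F82638) (tt N60431 D113229) (tt N16207 (iv5 D52265)) (tt N60432 D113230) (tt N60433 D113231))
theorem Q32270 : ∀ i, i < 32270 → P i := stepQ 32269 Q32269 (allL N32269 (tt N35793 F93257) (tt N60422 F176409) (tt N60421 F176403) (tt N16209 F82639) (tt N35751 (iv4 F93185)) (tt N60433 (iv5 F176418)) (tt N60434 D113232) (tt N16207 (iv7 D52266)))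
theorem Q32271 : ∀ i, i < 32271 → P i := stepQ 32270 Q32270 (allL N32270 (tt N35575 (iv1 F92903)) (tt N35572 (iv0 F92884)) (tt N35620 F92997) (tt N60433 (iv3 F176417)) (tt N16208 (iv4 D52267)) (tt N16209 F82640) (tt N60435 D113233) (tt N16208 (iv7 F82641)))
theorem Q32272 : ∀ i, i < 32272 → P i := stepQ 32271 Q32271 (allL N32271 (tt N60436 D113234) (tt N60437 D113235) (tt N55616 (iv2 F161094)) (tt N60432 (iv3 F176415)) (tt N60435 (iv4 F176421)) (tt N16257 F82642) (tt N16208 (iv6 D52268)) (tt N60438 D113236))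
theorem Q32273 : ∀ i, i < 32273 → P i := stepQ 32272 Q32272 (allL N32272 (tt N35739 (iv1 F161315)) (tt N35743 (iv0 F161342)) (tt N35657 (iv2 F93081)) (tt N60434 (iv3 F176419)) (tt N16210 F82643) (tt N60439 D113237) (tt N16209 (iv6 D52269)) (tt N16258 F82644))
theorem Q32274 : ∀ i, i < 32274 → P i := stepQ 32273 Q32273 (allL N32273 (tt N55594 (iv1 F324563)) (tt N60440 D113239) (tt N60441 D113240) (tt N16211 (iv3 D52270)) (tt N32074 F82645) (tt N60051 (iv5 F175387)) (tt N52845 (iv6 F328007)) (tt N30264 F82646))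
theorem Q32275 : ∀ i, i < 32275 → P i := stepQ 32274 Q32274 (allL N32274 (tt N35576 F92906) (tt N35652 F93075) (tt N35650 (iv2 F93072)) (tt N52845 (iv3 F328006)) (tt N16212 F82647) (tt N60442 D113242) (tt N16211 (iv6 D52271)) (tt N35649 F93070))
theorem Q32276 : ∀ i, i < 32276 → P i := stepQ 32275 Q32275 (allL N32275 (tt N60443 D113243) (tt N60444 D113244) (tt N60445 D113245) (tt N16213 (iv3 D52272)) (tt N57951 (iv4 F168629)) (tt N60446 D113246) (tt N60447 D113247) (tt N30401 F82648))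
theorem Q32277 : ∀ i, i < 32277 → P i := stepQ 32276 Q32276 (allL N32276 (tt N18173 F82652) (tt N18170 F82653) (tt N30408 F82649) (tt N60446 (iv3 F176443)) (tt N16301 F82650) (tt N16213 (iv5 D52273)) (tt N60448 D113248) (tt N30402 F82651))
theorem Q32278 : ∀ i, i < 32278 → P i := stepQ 32277 Q32277 (allL N32277 (tt N35640 F93052) (tt N60119 F175703) (tt N31307 F82654) (tt N60447 (iv3 F176445)) (tt N18071 F82655) (tt N60449 D113249) (tt N16213 (iv6 D52274)) (tt N60118 (iv7 F175698)))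
theorem Q32279 : ∀ i, i < 32279 → P i := stepQ 32278 Q32278 (allL N32278 (tt N55633 (iv1 F161128)) (tt N16214 (iv0 D52275)) (tt N55632 (iv2 F349674)) (tt N60450 D113251) (tt N60451 D113252) (tt N60452 D113253) (tt N60453 D113254) (tt N55631 (iv7 F349672)))
theorem Q32280 : ∀ i, i < 32280 → P i := stepQ 32279 Q32279 (allL N32279 (tt N16214 (iv1 D52276)) (tt N55633 F161130) (tt N55631 (iv2 F349671)) (tt N60454 D113256) (tt N60455 D113257) (tt N46549 F349670) (tt N46537 (iv6 F349673)) (tt N55632 (iv7 F349675)))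
theorem Q32281 : ∀ i, i < 32281 → P i := stepQ 32280 Q32280 (allL N32280 (tt N55632 (iv1 F161129)) (tt N55631 F161125) (tt N16214 (iv2 D52277)) (tt N55624 (iv3 F161109)) (tt N31648 F82656) (tt N60456 D113260) (tt N60457 D113261) (tt N55633 (iv7 F161127)))
theorem Q32282 : ∀ i, i < 32282 → P i := stepQ 32281 Q32281 (allL N32281 (tt N60458 D113262) (tt N60459 D113263) (tt N60456 (iv2 F176451)) (tt N16215 F82657) (tt N60460 D113264) (tt N16214 (iv5 D52278)) (tt N60461 D113265) (tt N35864 (iv7 F93401)))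
theorem Q32283 : ∀ i, i < 32283 → P i := stepQ 32282 Q32282 (allL N32282 (tt N60462 D113266) (tt N60463 D113267) (tt N60457 (iv2 F176452)) (tt N16216 F82658) (tt N31650 F82659) (tt N60464 D113268) (tt N16214 (iv6 D52279)) (tt N60465 D113269))
theorem Q32284 : ∀ i, i < 32284 → P i := stepQ 32283 Q32283 (allL N32283 (tt N36841 (iv1 F329123)) (tt N60466 D113271) (tt N35863 (iv2 F93398)) (tt N60461 (iv3 F176465)) (tt N16343 F82660) (tt N37685 F328766) (tt N16215 (iv6 D52280)) (tt N60467 D113273))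
theorem Q32285 : ∀ i, i < 32285 → P i := stepQ 32284 Q32284 (allL N32284 (tt N16216 (iv1 D52282)) (tt N55626 F161121) (tt N31313 F164338) (tt N60468 D113274) (tt N29522 F164339) (tt N56547 (iv5 F327962)) (tt N60469 D113276) (tt N32409 F164340))
theorem Q32286 : ∀ i, i < 32286 → P i := stepQ 32285 Q32285 (allL N32285 (tt N46546 F327656) (tt N36732 F327964) (tt N37868 (iv2 F328121)) (tt N60464 (iv3 F176466)) (tt N18674 (iv4 F328355)) (tt N16216 (iv5 D52283)) (tt N37685 (iv6 F328356)) (tt N60470 D113280))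
theorem Q32287 : ∀ i, i < 32287 → P i := stepQ 32286 Q32286 (allL N32286 (tt N31313 (iv1 F164130)) (tt N32409 (iv0 F164131)) (tt N55626 (iv2 F161117)) (tt N60465 (iv3 F176467)) (tt N16219 F82661) (tt N60470 (iv5 F176477)) (tt N55636 (iv6 F161135)) (tt N16216 (iv7 D52284)))
theorem Q32288 : ∀ i, i < 32288 → P i := stepQ 32287 Q32287 (allL N32287 (tt N55695 F165637) (tt N16267 F165638) (tt N55628 F165639) (tt N60471 D113281) (tt N16217 (iv4 D52287)) (tt N19163 F332798) (tt N35622 F165633) (tt N55629 F165640))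
theorem Q32289 : ∀ i, i < 32289 → P i := stepQ 32288 Q32288 (allL N32288 (tt N18664 F82663) (tt N38433 F98287) (tt N38432 F165641) (tt N19351 F165642) (tt N60472 D113283) (tt N16217 (iv5 D52288)) (tt N60473 D113284) (tt N38431 F165643))
theorem Q32290 : ∀ i, i < 32290 → P i := stepQ 32289 Q32289 (allL N32289 (tt N16267 F165648) (tt N55695 F165649) (tt N55629 F165650) (tt N55592 (iv3 F334361)) (tt N16218 (iv4 D52291)) (tt N56531 (iv5 F332789)) (tt N60474 D113287) (tt N55628 F165651))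
theorem Q32291 : ∀ i, i < 32291 → P i := stepQ 32290 Q32290 (allL N32290 (tt N38433 (iv1 F98288)) (tt N18664 (iv0 F82665)) (tt N38431 (iv2 F165658)) (tt N38927 F165657) (tt N55694 (iv4 F332774)) (tt N16218 (iv5 D52292)) (tt N29957 (iv6 F82666)) (tt N38432 F165664))
theorem Q32292 : ∀ i, i < 32292 → P i := stepQ 32291 Q32291 (allL N32291 (tt N32392 F82762) (tt N32395 F161357) (tt N55630 (iv2 F165665)) (tt N60368 (iv3 F176300)) (tt N60474 (iv4 F176489)) (tt N57961 (iv5 F168644)) (tt N16218 (iv6 D52293)) (tt N57961 (iv7 F168645)))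
theorem Q32293 : ∀ i, i < 32293 → P i := stepQ 32292 Q32292 (allL N32292 (tt N47343 (iv1 F317715)) (tt N40416 F173771) (tt N20063 F82667) (tt N35598 (iv3 F92947)) (tt N32008 F82668) (tt N19876 F82669) (tt N16220 (iv6 D52294)) (tt N58072 (iv7 F168832)))
theorem Q32294 : ∀ i, i < 32294 → P i := stepQ 32293 Q32293 (allL N32293 (tt N46248 F320721) (tt N60475 D113289) (tt N60476 D113290) (tt N16221 (iv3 D52295)) (tt N16223 F82670) (tt N60477 D113291) (tt N60478 D113292) (tt N55617 (iv7 F161097)))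
theorem Q32295 : ∀ i, i < 32295 → P i := stepQ 32294 Q32294 (allL N32294 (tt N30564 F82672) (tt N31318 F82673) (tt N31669 F82671) (tt N60477 (iv3 F176504)) (tt N44154 (iv4 F110947)) (tt N16221 (iv5 D52296)) (tt N60479 D113293) (tt N55618 (iv7 F161099)))
theorem Q32296 : ∀ i, i < 32296 → P i := stepQ 32295 Q32295 (allL N32295 (tt N31351 F93076) (tt N31268 (iv0 F94238)) (tt N31670 F82674) (tt N60478 (iv3 F176505)) (tt N16222 F82675) (tt N60480 D113294) (tt N16221 (iv6 D52297)) (tt N60070 (iv7 F175454)))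
theorem Q32297 : ∀ i, i < 32297 → P i := stepQ 32296 Q32296 (allL N32296 (tt N31672 (iv1 F82678)) (tt N31671 F82679) (tt N31673 F82676) (tt N16228 F82677) (tt N60070 F175455) (tt N39396 (iv5 F100091)) (tt N55621 (iv6 F161106)) (tt N16222 (iv7 D52298)))
theorem Q32298 : ∀ i, i < 32298 → P i := stepQ 32297 Q32297 (allL N32297 (tt N55624 (iv1 F161111)) (tt N16223 (iv0 D52299)) (tt N55623 (iv2 F358944)) (tt N60481 D113296) (tt N60482 D113297) (tt N60483 D113298) (tt N60484 D113299) (tt N55622 (iv7 F353645)))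
theorem Q32299 : ∀ i, i < 32299 → P i := stepQ 32298 Q32298 (allL N32298 (tt N16223 (iv1 D52300)) (tt N55624 F161113) (tt N55622 (iv2 F353642)) (tt N60485 D113301) (tt N60486 D113302) (tt N60487 D113303) (tt N60488 D113304) (tt N55623 (iv7 F358945)))
theorem Q32300 : ∀ i, i < 32300 → P i := stepQ 32299 Q32299 (allL N32299 (tt N55623 (iv1 F161112)) (tt N55622 F161108) (tt N16223 (iv2 D52301)) (tt N55633 (iv3 F161126)) (tt N60476 (iv4 F176501)) (tt N60489 D113305) (tt N60490 D113306) (tt N55624 (iv7 F161110)))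
theorem Q32301 : ∀ i, i < 32301 → P i := stepQ 32300 Q32300 (allL N32300 (tt N60491 D113307) (tt N60492 D113308) (tt N60489 (iv2 F176512)) (tt N16224 F82680) (tt N60493 D113309) (tt N16223 (iv5 D52302)) (tt N60494 D113310) (tt N35862 (iv7 F93397)))
theorem Q32302 : ∀ i, i < 32302 → P i := stepQ 32301 Q32301 (allL N32301 (tt N60495 D113311) (tt N60496 D113312) (tt N60490 (iv2 F176513)) (tt N16225 F82681) (tt N60478 (iv4 F176506)) (tt N60497 D113313) (tt N16223 (iv6 D52303)) (tt N60498 D113314))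
theorem Q32303 : ∀ i, i < 32303 → P i := stepQ 32302 Q32302 (allL N32302 (tt N60499 D113315) (tt N60500 D113316) (tt N35865 (iv2 F93402)) (tt N60494 (iv3 F176515)) (tt N16341 F82682) (tt N60501 D113317) (tt N16224 (iv6 D52304)) (tt N60502 D113318))
theorem Q32304 : ∀ i, i < 32304 → P i := stepQ 32303 Q32303 (allL N32303 (tt N55636 (iv1 F161137)) (tt N16225 (iv0 D52305)) (tt N31355 (iv2 F82683)) (tt N60503 D113319) (tt N18401 F82684) (tt N60504 D113320) (tt N60505 D113321) (tt N32447 (iv7 F82855)))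
theorem Q32305 : ∀ i, i < 32305 → P i := stepQ 32304 Q32304 (allL N32304 (tt N60506 D113322) (tt N60507 D113323) (tt N55635 (iv2 F161132)) (tt N60497 (iv3 F176516)) (tt N60508 D113324) (tt N16225 (iv5 D52306)) (tt N60501 (iv6 F176518)) (tt N60509 D113325))
theorem Q32306 : ∀ i, i < 32306 → P i := stepQ 32305 Q32305 (allL N32305 (tt N32447 (iv1 F82857)) (tt N31355 (iv0 F82686)) (tt N55636 (iv2 F161133)) (tt N60498 (iv3 F176517)) (tt N16228 F82685) (tt N60509 (iv5 F176526)) (tt N55626 (iv6 F161119)) (tt N16225 (iv7 D52307)))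
theorem Q32307 : ∀ i, i < 32307 → P i := stepQ 32306 Q32306 (allL N32306 (tt N36265 (iv1 F94237)) (tt N16287 F94228) (tt N36263 F94226) (tt N60510 D113326) (tt N16226 (iv4 D52308)) (tt N60511 D113327) (tt N60512 D113328) (tt N35614 F92992))
theorem Q32308 : ∀ i, i < 32308 → P i := stepQ 32307 Q32307 (allL N32307 (tt N30185 (iv1 F82690)) (tt N30184 F82691) (tt N30186 F82687) (tt N58071 (iv3 F168820)) (tt N60513 D113329) (tt N16226 (iv5 D52309)) (tt N30192 (iv6 F82689)) (tt N29932 F82688))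
theorem Q32309 : ∀ i, i < 32309 → P i := stepQ 32308 Q32308 (allL N32308 (tt N39527 (iv1 F100374)) (tt N39526 F100379) (tt N39528 (iv2 F100375)) (tt N58072 (iv3 F168830)) (tt N60512 (iv4 F176528)) (tt N32325 F82706) (tt N16226 (iv6 D52310)) (tt N35598 (iv7 F92949)))
theorem Q32310 : ∀ i, i < 32310 → P i := stepQ 32309 Q32309 (allL N32309 (tt N16287 F93090) (tt N36265 F94236) (tt N35614 (iv2 F92988)) (tt N60514 D113330) (tt N16227 (iv4 D52311)) (tt N60515 D113331) (tt N31801 F82692) (tt N36263 (iv7 F94227)))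
theorem Q32311 : ∀ i, i < 32311 → P i := stepQ 32310 Q32310 (allL N32310 (tt N35846 (iv1 F93375)) (tt N16229 (iv0 D52312)) (tt N35845 (iv2 F355956)) (tt N60516 D113333) (tt N60517 D113334) (tt N60458 (iv5 F219256)) (tt N60518 D113336) (tt N35844 F355953))
theorem Q32312 : ∀ i, i < 32312 → P i := stepQ 32311 Q32311 (allL N32311 (tt N16229 (iv1 D52313)) (tt N35846 F93377) (tt N35844 F355952) (tt N60519 D113338) (tt N60520 D113339) (tt N60459 (iv5 F220873)) (tt N58134 (iv6 F397279)) (tt N35845 (iv7 F355957)))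
theorem Q32313 : ∀ i, i < 32313 → P i := stepQ 32312 Q32312 (allL N32312 (tt N35845 (iv1 F93376)) (tt N35844 F93372) (tt N16229 (iv2 D52314)) (tt N35837 (iv3 F93352)) (tt N31696 F82693) (tt N60521 D113342) (tt N60522 D113343) (tt N35846 (iv7 F93374)))
theorem Q32314 : ∀ i, i < 32314 → P i := stepQ 32313 Q32313 (allL N32313 (tt N52366 (iv1 F345924)) (tt N60523 D113345) (tt N60521 (iv2 F176541)) (tt N16230 F82694) (tt N39713 F106586) (tt N16229 (iv5 D52315)) (tt N60524 D113346) (tt N35847 (iv7 F93379)))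
theorem Q32315 : ∀ i, i < 32315 → P i := stepQ 32314 Q32314 (allL N32314 (tt N60525 D113347) (tt N60526 D113348) (tt N60522 (iv2 F176542)) (tt N16231 F82695) (tt N31698 F82696) (tt N60527 D113349) (tt N16229 (iv6 D52316)) (tt N60528 D113350))
theorem Q32316 : ∀ i, i < 32316 → P i := stepQ 32315 Q32315 (allL N32315 (tt N60529 D113351) (tt N60530 D113352) (tt N35841 (iv2 F93362)) (tt N60524 (iv3 F176544)) (tt N16321 F82697) (tt N60531 D113353) (tt N16230 (iv6 D52317)) (tt N60532 D113354))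
theorem Q32317 : ∀ i, i < 32317 → P i := stepQ 32316 Q32316 (allL N32316 (tt N35843 (iv1 F93371)) (tt N16231 (iv0 D52318)) (tt N35820 F165829) (tt N27720 (iv3 F326281)) (tt N18119 F168061) (tt N60533 D113355) (tt N35902 F168062) (tt N35822 F165831))
theorem Q32318 : ∀ i, i < 32318 → P i := stepQ 32317 Q32317 (allL N32317 (tt N16231 (iv1 D52319)) (tt N35843 F93370) (tt N35822 F165832) (tt N60534 D113356) (tt N29851 F165833) (tt N60535 D113357) (tt N60536 D113358) (tt N35820 F165834))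
theorem Q32319 : ∀ i, i < 32319 → P i := stepQ 32318 Q32318 (allL N32318 (tt N58836 (iv1 F170874)) (tt N60537 D113359) (tt N35842 (iv2 F93365)) (tt N60527 (iv3 F176546)) (tt N60538 D113360) (tt N16231 (iv5 D52320)) (tt N60531 (iv6 F176550)) (tt N60539 D113361))
theorem Q32320 : ∀ i, i < 32320 → P i := stepQ 32319 Q32319 (allL N32319 (tt N35822 (iv1 F95727)) (tt N35820 (iv0 F163191)) (tt N35843 (iv2 F93366)) (tt N60528 (iv3 F176547)) (tt N16235 F82698) (tt N60539 (iv5 F176554)) (tt N35851 (iv6 F93387)) (tt N16231 (iv7 D52321)))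
theorem Q32321 : ∀ i, i < 32321 → P i := stepQ 32320 Q32320 (allL N32320 (tt N55653 F161172) (tt N16246 F161173) (tt N55640 F168353) (tt N60540 D113362) (tt N16232 (iv4 D52324)) (tt N60541 D113363) (tt N35689 (iv6 F174556)) (tt N55642 (iv7 F168359)))
theorem Q32322 : ∀ i, i < 32322 → P i := stepQ 32321 Q32321 (allL N32321 (tt N39667 F165153) (tt N60293 F176153) (tt N55641 (iv2 F168350)) (tt N39689 F168198) (tt N60542 D113364) (tt N16232 (iv5 D52325)) (tt N60543 D113365) (tt N39855 F168201))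
theorem Q32323 : ∀ i, i < 32323 → P i := stepQ 32322 Q32322 (allL N32322 (tt N16246 F168360) (tt N55653 F168361) (tt N55642 F168351) (tt N60544 D113366) (tt N16233 (iv4 D52328)) (tt N60545 D113367) (tt N60546 D113368) (tt N55640 F168348))
theorem Q32324 : ∀ i, i < 32324 → P i := stepQ 32323 Q32323 (allL N32323 (tt N60293 (iv1 F176154)) (tt N39667 (iv0 F100553)) (tt N39855 (iv2 F168202)) (tt N60375 (iv3 F176320)) (tt N60547 D113369) (tt N16233 (iv5 D52329)) (tt N32221 (iv6 F82701)) (tt N55641 F168349))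
theorem Q32325 : ∀ i, i < 32325 → P i := stepQ 32324 Q32324 (allL N32324 (tt N60328 F176218) (tt N55682 (iv0 F176155)) (tt N55643 (iv2 F168367)) (tt N60376 (iv3 F176322)) (tt N60546 (iv4 F176560)) (tt N60413 (iv5 F176370)) (tt N16233 (iv6 D52330)) (tt N60420 (iv7 F176400)))
theorem Q32326 : ∀ i, i < 32326 → P i := stepQ 32325 Q32325 (allL N32325 (tt N16234 (iv1 D52331)) (tt N20056 F82704) (tt N20058 (iv2 F82707)) (tt N39135 (iv3 F99473)) (tt N60548 D113370) (tt N32308 (iv5 F82706)) (tt N39391 (iv6 F100079)) (tt N20051 F82705))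
theorem Q32327 : ∀ i, i < 32327 → P i := stepQ 32326 Q32326 (allL N32326 (tt N16829 F82709) (tt N57219 F165840) (tt N37258 (iv2 F95722)) (tt N60549 D113371) (tt N16234 (iv4 D52332)) (tt N60550 D113372) (tt N19383 F82708) (tt N57217 (iv7 F165825)))
theorem Q32328 : ∀ i, i < 32328 → P i := stepQ 32327 Q32327 (allL N32327 (tt N20058 (iv1 F82713)) (tt N20051 F82714) (tt N20056 F82710) (tt N16690 F82711) (tt N57217 (iv4 F165823)) (tt N16235 F82712) (tt N37254 (iv6 F95713)) (tt N16234 (iv7 D52333)))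
theorem Q32329 : ∀ i, i < 32329 → P i := stepQ 32328 Q32328 (allL N32328 (tt N59939 F174760) (tt N42129 (iv0 F202948)) (tt N46303 (iv2 F328344)) (tt N16236 (iv3 D52334)) (tt N16238 F82715) (tt N42097 (iv5 F105457)) (tt N23765 F327950) (tt N35838 (iv7 F93358)))
theorem Q32330 : ∀ i, i < 32330 → P i := stepQ 32329 Q32329 (allL N32329 (tt N31997 F82717) (tt N32002 F82718) (tt N31713 F82716) (tt N42097 (iv3 F105458)) (tt N39596 (iv4 F100461)) (tt N16236 (iv5 D52335)) (tt N60551 D113376) (tt N55637 (iv7 F161141)))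
theorem Q32331 : ∀ i, i < 32331 → P i := stepQ 32330 Q32330 (allL N32330 (tt N35898 (iv1 F173087)) (tt N35901 F168460) (tt N31714 F82719) (tt N23765 (iv3 F327431)) (tt N16237 F82720) (tt N60552 D113377) (tt N16236 (iv6 D52336)) (tt N46304 (iv7 F327427)))
theorem Q32332 : ∀ i, i < 32332 → P i := stepQ 32331 Q32331 (allL N32331 (tt N31716 (iv1 F82725)) (tt N31715 F82726) (tt N31717 F82722) (tt N16243 F82723) (tt N46304 (iv4 F327426)) (tt N38942 (iv5 F99057)) (tt N55639 (iv6 F161148)) (tt N16237 (iv7 D52339)))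
theorem Q32333 : ∀ i, i < 32333 → P i := stepQ 32332 Q32332 (allL N32332 (tt N35837 (iv1 F93354)) (tt N16238 (iv0 D52340)) (tt N35836 (iv2 F352264)) (tt N60553 D113381) (tt N60554 D113382) (tt N60491 (iv5 F351739)) (tt N60414 (iv6 F358987)) (tt N35835 F352263))
theorem Q32334 : ∀ i, i < 32334 → P i := stepQ 32333 Q32333 (allL N32333 (tt N16238 (iv1 D52341)) (tt N35837 F93356) (tt N35835 F352262) (tt N60555 D113386) (tt N60556 D113387) (tt N60492 (iv5 F204837)) (tt N60557 D113389) (tt N35836 (iv7 F352265)))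
theorem Q32335 : ∀ i, i < 32335 → P i := stepQ 32334 Q32334 (allL N32334 (tt N35836 (iv1 F93355)) (tt N35835 F93351) (tt N16238 (iv2 D52342)) (tt N35846 (iv3 F93373)) (tt N46303 F328514) (tt N60558 D113390) (tt N46302 F328515) (tt N35837 (iv7 F93353)))
theorem Q32336 : ∀ i, i < 32336 → P i := stepQ 32335 Q32335 (allL N32335 (tt N60559 D113392) (tt N60560 D113393) (tt N60558 (iv2 F176587)) (tt N16239 F82727) (tt N41761 (iv4 F104875)) (tt N16238 (iv5 D52343)) (tt N60561 D113394) (tt N35839 (iv7 F93360)))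
theorem Q32337 : ∀ i, i < 32337 → P i := stepQ 32336 Q32336 (allL N32336 (tt N60562 D113395) (tt N60563 D113396) (tt N46302 (iv2 F328094)) (tt N16240 F82728) (tt N23765 F327622) (tt N60564 D113397) (tt N16238 (iv6 D52344)) (tt N46305 F327623))
theorem Q32338 : ∀ i, i < 32338 → P i := stepQ 32337 Q32337 (allL N32337 (tt N60565 D113399) (tt N60566 D113400) (tt N35849 (iv2 F93381)) (tt N60561 (iv3 F176590)) (tt N16315 F82729) (tt N60567 D113401) (tt N16239 (iv6 D52345)) (tt N60568 D113402))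
theorem Q32339 : ∀ i, i < 32339 → P i := stepQ 32338 Q32338 (allL N32338 (tt N35851 (iv1 F93390)) (tt N16240 (iv0 D52346)) (tt N35832 F164031) (tt N60569 D113403) (tt N29854 F164032) (tt N60570 D113404) (tt N60571 D113405) (tt N35834 F164033))
theorem Q32340 : ∀ i, i < 32340 → P i := stepQ 32339 Q32339 (allL N32339 (tt N16240 (iv1 D52347)) (tt N35851 F93389) (tt N35834 F164025) (tt N46152 (iv3 F327062)) (tt N18132 F164026) (tt N60572 D113406) (tt N35892 F164027) (tt N35832 F164028))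
theorem Q32341 : ∀ i, i < 32341 → P i := stepQ 32340 Q32340 (allL N32340 (tt N56724 (iv1 F343617)) (tt N37758 F328929) (tt N35850 (iv2 F93384)) (tt N60564 (iv3 F176591)) (tt N56439 (iv4 F349633)) (tt N16240 (iv5 D52348)) (tt N60567 (iv6 F176593)) (tt N60573 D113409))
theorem Q32342 : ∀ i, i < 32342 → P i := stepQ 32341 Q32341 (allL N32341 (tt N35834 (iv1 F163887)) (tt N35832 (iv0 F163884)) (tt N35851 (iv2 F93385)) (tt N46305 (iv3 F327439)) (tt N16243 F82730) (tt N60573 (iv5 F176598)) (tt N35843 (iv6 F93368)) (tt N16240 (iv7 D52349)))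
theorem Q32343 : ∀ i, i < 32343 → P i := stepQ 32342 Q32342 (allL N32342 (tt N55661 F165616) (tt N16249 F165617) (tt N55644 F165507) (tt N60574 D113410) (tt N16241 (iv4 D52352)) (tt N60575 D113411) (tt N60576 D113412) (tt N55647 (iv7 F165517)))
theorem Q32344 : ∀ i, i < 32344 → P i := stepQ 32343 Q32343 (allL N32343 (tt N39017 F99173) (tt N30113 (iv0 F82732)) (tt N39015 F165499) (tt N38778 (iv3 F168160)) (tt N36817 (iv4 F165618)) (tt N16241 (iv5 D52353)) (tt N57021 F165232) (tt N39016 F165497))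
theorem Q32345 : ∀ i, i < 32345 → P i := stepQ 32344 Q32344 (allL N32344 (tt N55684 F161235) (tt N56837 F164901) (tt N55645 F165508) (tt N58194 (iv3 F168985)) (tt N60576 (iv4 F176600)) (tt N32037 F82733) (tt N16241 (iv6 D52354)) (tt N56906 (iv7 F165511)))
theorem Q32346 : ∀ i, i < 32346 → P i := stepQ 32345 Q32345 (allL N32345 (tt N16249 F165560) (tt N55661 F165561) (tt N55647 F165518) (tt N60577 D113413) (tt N16242 (iv4 D52357)) (tt N60578 D113414) (tt N35666 F165566) (tt N55644 F165506))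
theorem Q32347 : ∀ i, i < 32347 → P i := stepQ 32346 Q32346 (allL N32346 (tt N30113 F92950) (tt N39017 F99172) (tt N39016 (iv2 F165492)) (tt N19622 F165562) (tt N36818 F173729) (tt N16242 (iv5 D52358)) (tt N30118 F82735) (tt N39015 (iv7 F165498)))
theorem Q32348 : ∀ i, i < 32348 → P i := stepQ 32347 Q32347 (allL N32347 (tt N55656 (iv1 F161178)) (tt N16244 (iv0 D52360)) (tt N55655 (iv2 F204628)) (tt N60579 D113416) (tt N60580 D113417) (tt N60581 D113418) (tt N60582 D113419) (tt N55654 (iv7 F204618)))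
theorem Q32349 : ∀ i, i < 32349 → P i := stepQ 32348 Q32348 (allL N32348 (tt N16244 (iv1 D52361)) (tt N55656 F161180) (tt N55654 (iv2 F204617)) (tt N60583 D113421) (tt N60584 D113422) (tt N60585 D113423) (tt N35659 (iv6 F343544)) (tt N55655 (iv7 F204630)))
theorem Q32350 : ∀ i, i < 32350 → P i := stepQ 32349 Q32349 (allL N32349 (tt N55655 (iv1 F161179)) (tt N55654 F161174) (tt N16244 (iv2 D52362)) (tt N55650 (iv3 F161160)) (tt N57918 (iv4 F168569)) (tt N60586 D113425) (tt N47753 F331156) (tt N55656 (iv7 F161177)))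
theorem Q32351 : ∀ i, i < 32351 → P i := stepQ 32350 Q32350 (allL N32350 (tt N60587 D113427) (tt N60588 D113428) (tt N60586 (iv2 F176615)) (tt N16245 F82736) (tt N60589 D113429) (tt N16244 (iv5 D52363)) (tt N60590 D113430) (tt N55657 (iv7 F161182)))
theorem Q32352 : ∀ i, i < 32352 → P i := stepQ 32351 Q32351 (allL N32351 (tt N60591 D113431) (tt N60592 D113432) (tt N47753 (iv2 F331152)) (tt N16246 F82737) (tt N57920 (iv4 F168577)) (tt N47682 F331139) (tt N16244 (iv6 D52364)) (tt N47757 (iv7 F331153)))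
theorem Q32353 : ∀ i, i < 32353 → P i := stepQ 32352 Q32352 (allL N32352 (tt N60593 D113435) (tt N60594 D113436) (tt N36276 (iv2 F94260)) (tt N60590 (iv3 F176619)) (tt N16311 F82738) (tt N60595 D113437) (tt N16245 (iv6 D52365)) (tt N60596 D113438))
theorem Q32354 : ∀ i, i < 32354 → P i := stepQ 32353 Q32353 (allL N32353 (tt N60597 D113439) (tt N60598 D113440) (tt N55652 (iv2 F161166)) (tt N47682 F331138) (tt N60599 D113441) (tt N16246 (iv5 D52368)) (tt N60595 (iv6 F176624)) (tt N47756 (iv7 F331143)))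
theorem Q32355 : ∀ i, i < 32355 → P i := stepQ 32354 Q32354 (allL N32354 (tt N55642 (iv1 F161153)) (tt N55640 (iv0 F161150)) (tt N55653 (iv2 F161167)) (tt N47757 F331154) (tt N18162 F82739) (tt N47756 F331155) (tt N55661 (iv6 F161191)) (tt N16246 (iv7 D52369)))
theorem Q32356 : ∀ i, i < 32356 → P i := stepQ 32355 Q32355 (allL N32355 (tt N55650 (iv1 F161162)) (tt N16247 (iv0 D52370)) (tt N55649 (iv2 F174311)) (tt N60600 D113443) (tt N60601 D113444) (tt N60602 D113445) (tt N35682 (iv6 F358190)) (tt N55648 (iv7 F174313)))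
theorem Q32357 : ∀ i, i < 32357 → P i := stepQ 32356 Q32356 (allL N32356 (tt N16247 (iv1 D52371)) (tt N55650 F161164) (tt N55648 F174312) (tt N60603 D113447) (tt N59850 (iv4 F174309)) (tt N60604 D113448) (tt N60605 D113449) (tt N55649 F174310))
theorem Q32358 : ∀ i, i < 32358 → P i := stepQ 32357 Q32357 (allL N32357 (tt N55649 (iv1 F161163)) (tt N55648 F161159) (tt N16247 (iv2 D52372)) (tt N55656 (iv3 F161175)) (tt N60606 D113450) (tt N60607 D113451) (tt N60608 D113452) (tt N55650 (iv7 F161161)))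
theorem Q32359 : ∀ i, i < 32359 → P i := stepQ 32358 Q32358 (allL N32358 (tt N60609 D113453) (tt N60610 D113454) (tt N60606 (iv2 F176636)) (tt N18164 F82740) (tt N16247 (iv4 D52373)) (tt N60611 D113455) (tt N60612 D113456) (tt N44142 (iv7 F110922)))
theorem Q32360 : ∀ i, i < 32360 → P i := stepQ 32359 Q32359 (allL N32359 (tt N60613 D113457) (tt N60614 D113458) (tt N60607 (iv2 F176637)) (tt N16248 F82741) (tt N60615 D113459) (tt N16247 (iv5 D52374)) (tt N60616 D113460) (tt N36275 (iv7 F94259)))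
theorem Q32361 : ∀ i, i < 32361 → P i := stepQ 32360 Q32360 (allL N32360 (tt N60617 D113461) (tt N46282 (iv0 F358155)) (tt N60608 (iv2 F176638)) (tt N16249 F82742) (tt N60612 (iv4 F176642)) (tt N60618 D113463) (tt N16247 (iv6 D52375)) (tt N60619 D113464))
theorem Q32362 : ∀ i, i < 32362 → P i := stepQ 32361 Q32361 (allL N32361 (tt N56489 (iv1 F327328)) (tt N19144 (iv0 F327329)) (tt N55659 (iv2 F161185)) (tt N60616 (iv3 F176645)) (tt N16302 F82743) (tt N60620 D113467) (tt N16248 (iv6 D52376)) (tt N56488 F326584))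
theorem Q32363 : ∀ i, i < 32363 → P i := stepQ 32362 Q32362 (allL N32362 (tt N60621 D113469) (tt N37740 F332808) (tt N55660 (iv2 F161188)) (tt N60618 (iv3 F176646)) (tt N56600 (iv4 F332812)) (tt N16249 (iv5 D52379)) (tt N60620 (iv6 F176648)) (tt N60622 D113472))
theorem Q32364 : ∀ i, i < 32364 → P i := stepQ 32363 Q32363 (allL N32363 (tt N55647 (iv1 F165572)) (tt N55644 (iv0 F165569)) (tt N55661 (iv2 F161189)) (tt N60619 (iv3 F176647)) (tt N18168 F82744) (tt N60622 (iv5 F176652)) (tt N55653 (iv6 F161169)) (tt N16249 (iv7 D52380)))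
theorem Q32365 : ∀ i, i < 32365 → P i := stepQ 32364 Q32364 (allL N32364 (tt N16251 (iv1 F82747)) (tt N16250 (iv0 D52381)) (tt N16254 (iv2 F82745)) (tt N55662 (iv3 F161197)) (tt N60383 (iv4 F176338)) (tt N55748 (iv5 F161561)) (tt N60623 D113473) (tt N16252 F82746))
theorem Q32366 : ∀ i, i < 32366 → P i := stepQ 32365 Q32365 (allL N32365 (tt N16254 F173409) (tt N16252 F173410) (tt N16250 (iv2 D52382)) (tt N60624 D113474) (tt N60625 D113475) (tt N60626 D113476) (tt N60627 D113477) (tt N16251 (iv7 F82748)))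
theorem Q32367 : ∀ i, i < 32367 → P i := stepQ 32366 Q32366 (allL N32366 (tt N60603 (iv1 F176635)) (tt N59938 (iv0 F174756)) (tt N18204 F173274) (tt N16250 (iv3 D52383)) (tt N18143 F82749) (tt N60628 D113478) (tt N45388 (iv6 F325588)) (tt N18208 F173275))
theorem Q32368 : ∀ i, i < 32368 → P i := stepQ 32367 Q32367 (allL N32367 (tt N60629 D113480) (tt N60630 D113481) (tt N60625 (iv2 F176658)) (tt N45390 F324594) (tt N16250 (iv4 D52384)) (tt N60631 D113482) (tt N45389 (iv6 F325716)) (tt N60632 D113484))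
theorem Q32369 : ∀ i, i < 32369 → P i := stepQ 32368 Q32368 (allL N32368 (tt N60633 D113485) (tt N56984 (iv0 F355861)) (tt N60626 (iv2 F176661)) (tt N60628 (iv3 F176665)) (tt N60634 D113487) (tt N16250 (iv5 D52385)) (tt N60635 D113488) (tt N60636 D113489))
theorem Q32370 : ∀ i, i < 32370 → P i := stepQ 32369 Q32369 (allL N32369 (tt N60637 D113490) (tt N60544 (iv0 F355856)) (tt N60627 (iv2 F176663)) (tt N45388 F326414) (tt N45389 F326415) (tt N47796 F341730) (tt N16250 (iv6 D52386)) (tt N60638 D113493))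
theorem Q32371 : ∀ i, i < 32371 → P i := stepQ 32370 Q32370 (allL N32370 (tt N16252 F173406) (tt N16254 F173407) (tt N16251 F82750) (tt N18208 F173408) (tt N60632 (iv4 F176675)) (tt N60636 (iv5 F176680)) (tt N46289 (iv6 F325715)) (tt N16250 (iv7 D52387)))
theorem Q32372 : ∀ i, i < 32372 → P i := stepQ 32371 Q32371 (allL N32371 (tt N60639 D113495) (tt N60579 F176606) (tt N59627 F173420) (tt N16251 (iv3 D52388)) (tt N59626 (iv4 F173423)) (tt N60640 D113496) (tt N60641 D113497) (tt N60624 (iv7 F176655)))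
theorem Q32373 : ∀ i, i < 32373 → P i := stepQ 32372 Q32372 (allL N32372 (tt N60630 (iv1 F176671)) (tt N60629 F176676) (tt N60632 (iv2 F176673)) (tt N60056 (iv3 F175403)) (tt N16251 (iv4 D52389)) (tt N60642 D113498) (tt N60643 D113499) (tt N60625 (iv7 F176659)))
theorem Q32374 : ∀ i, i < 32374 → P i := stepQ 32373 Q32373 (allL N32373 (tt N56984 (iv1 F355862)) (tt N60633 F176681) (tt N60636 (iv2 F176678)) (tt N60640 (iv3 F176686)) (tt N60644 D113500) (tt N16251 (iv5 D52390)) (tt N56495 (iv6 F352474)) (tt N60626 (iv7 F176662)))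
theorem Q32375 : ∀ i, i < 32375 → P i := stepQ 32374 Q32374 (allL N32374 (tt N60574 (iv1 F361883)) (tt N60645 D113503) (tt N46289 F326519) (tt N60641 (iv3 F176687)) (tt N60643 (iv4 F176688)) (tt N60646 D113504) (tt N16251 (iv6 D52391)) (tt N60647 D113505))
theorem Q32376 : ∀ i, i < 32376 → P i := stepQ 32375 Q32375 (allL N32375 (tt N55747 (iv1 F161564)) (tt N55746 F161559) (tt N16253 F82754) (tt N55671 (iv3 F161206)) (tt N60648 D113506) (tt N16252 (iv5 D52394)) (tt N60649 D113507) (tt N55748 (iv7 F161562)))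
theorem Q32377 : ∀ i, i < 32377 → P i := stepQ 32376 Q32376 (allL N32376 (tt N55748 (iv1 F161563)) (tt N16253 (iv0 D52395)) (tt N55747 (iv2 F352453)) (tt N55596 (iv3 F352455)) (tt N48646 (iv4 F352456)) (tt N55594 (iv5 F352457)) (tt N28116 (iv6 F352458)) (tt N55746 (iv7 F352460)))
theorem Q32378 : ∀ i, i < 32378 → P i := stepQ 32377 Q32377 (allL N32377 (tt N16253 (iv1 D52396)) (tt N55748 F161565) (tt N55746 (iv2 F352459)) (tt N60650 D113514) (tt N60651 D113515) (tt N60440 (iv5 F352467)) (tt N60652 D113517) (tt N55747 (iv7 F352454)))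
theorem Q32379 : ∀ i, i < 32379 → P i := stepQ 32378 Q32378 (allL N32378 (tt N28114 (iv1 F383747)) (tt N60653 D113519) (tt N60648 (iv2 F176689)) (tt N55730 (iv3 F161523)) (tt N16253 (iv4 D52397)) (tt N60654 D113520) (tt N60655 D113521) (tt N55727 F161521))
theorem Q32380 : ∀ i, i < 32380 → P i := stepQ 32379 Q32379 (allL N32379 (tt N60656 D113522) (tt N60657 D113523) (tt N60649 (iv2 F176690)) (tt N16257 F82755) (tt N60655 (iv4 F176693)) (tt N60432 (iv5 F176416)) (tt N16253 (iv6 D52398)) (tt N60658 D113524))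
theorem Q32381 : ∀ i, i < 32381 → P i := stepQ 32380 Q32380 (allL N32380 (tt N60659 D113525) (tt N60660 D113526) (tt N60623 (iv2 F176653)) (tt N16258 F82756) (tt N46844 F327014) (tt N60661 D113527) (tt N16254 (iv6 D52399)) (tt N60434 (iv7 F176420)))
theorem Q32382 : ∀ i, i < 32382 → P i := stepQ 32381 Q32381 (allL N32381 (tt N60581 F176610) (tt N60585 (iv0 F204622)) (tt N60662 D113529) (tt N16255 (iv3 D52400)) (tt N60663 D113530) (tt N16266 F82757) (tt N60664 D113531) (tt N36260 (iv7 F94221)))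
theorem Q32383 : ∀ i, i < 32383 → P i := stepQ 32382 Q32382 (allL N32382 (tt N36819 (iv1 F332804)) (tt N53030 (iv0 F332861)) (tt N36270 (iv2 F94249)) (tt N60664 (iv3 F176698)) (tt N16294 F82758) (tt N37681 F332799) (tt N16255 (iv6 D52401)) (tt N60665 D113535))
theorem Q32384 : ∀ i, i < 32384 → P i := stepQ 32383 Q32383 (allL N32383 (tt N60602 (iv1 F230612)) (tt N60604 (iv0 F230613)) (tt N60666 D113538) (tt N16256 (iv3 D52402)) (tt N60667 D113539) (tt N16286 F82759) (tt N60668 D113540) (tt N36269 (iv7 F94248)))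
theorem Q32385 : ∀ i, i < 32385 → P i := stepQ 32384 Q32384 (allL N32384 (tt N60669 D113541) (tt N60670 D113542) (tt N36262 (iv2 F94223)) (tt N60668 (iv3 F176703)) (tt N16278 F82760) (tt N60671 D113543) (tt N16256 (iv6 D52403)) (tt N60672 D113544))
theorem Q32386 : ∀ i, i < 32386 → P i := stepQ 32385 Q32385 (allL N32385 (tt N55678 (iv1 F161222)) (tt N16257 (iv0 D52404)) (tt N55676 (iv2 F395766)) (tt N60673 D113546) (tt N56280 (iv4 F395521)) (tt N60674 D113548) (tt N60675 D113549) (tt N55677 F395765))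
theorem Q32387 : ∀ i, i < 32387 → P i := stepQ 32386 Q32386 (allL N32386 (tt N16257 (iv1 D52405)) (tt N55678 F161221) (tt N55677 F395764) (tt N60676 D113551) (tt N56281 (iv4 F360472)) (tt N60677 D113553) (tt N60678 D113554) (tt N55676 (iv7 F395767)))
theorem Q32388 : ∀ i, i < 32388 → P i := stepQ 32387 Q32387 (allL N32387 (tt N55677 (iv1 F161216)) (tt N55676 F161220) (tt N55678 (iv2 F161217)) (tt N60658 (iv3 F176694)) (tt N55760 (iv4 F161580)) (tt N60438 (iv5 F176422)) (tt N55753 (iv6 F161572)) (tt N16257 (iv7 D52406)))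
theorem Q32389 : ∀ i, i < 32389 → P i := stepQ 32388 Q32388 (allL N32388 (tt N35657 (iv1 F93085)) (tt N16258 (iv0 D52407)) (tt N35743 (iv2 F166434)) (tt N60679 D113555) (tt N18183 F161391) (tt N60680 D113556) (tt N60681 D113557) (tt N35739 (iv7 F166436)))
theorem Q32390 : ∀ i, i < 32390 → P i := stepQ 32389 Q32389 (allL N32389 (tt N16258 (iv1 D52408)) (tt N35657 F93084) (tt N35739 F166435) (tt N60682 D113558) (tt N18184 F161334) (tt N60683 D113559) (tt N60684 D113560) (tt N35743 F166425))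
theorem Q32391 : ∀ i, i < 32391 → P i := stepQ 32390 Q32390 (allL N32390 (tt N60685 D113561) (tt N60686 D113562) (tt N55679 (iv2 F161225)) (tt N60661 (iv3 F176695)) (tt N60687 D113563) (tt N16258 (iv5 D52409)) (tt N55752 (iv6 F161569)) (tt N60439 (iv7 F176423)))
theorem Q32392 : ∀ i, i < 32392 → P i := stepQ 32391 Q32391 (allL N32391 (tt N18107 F161320) (tt N29862 F161321) (tt N35869 F161322) (tt N60688 D113564) (tt N16259 (iv4 D52412)) (tt N56701 (iv5 F343570)) (tt N60689 D113566) (tt N35870 F161323))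
theorem Q32393 : ∀ i, i < 32393 → P i := stepQ 32392 Q32392 (allL N32392 (tt N59742 (iv1 F173740)) (tt N32291 (iv0 F82762)) (tt N55681 (iv2 F161354)) (tt N31778 (iv3 F161355)) (tt N60690 D113567) (tt N16259 (iv5 D52413)) (tt N59750 (iv6 F173782)) (tt N55683 F161353))
theorem Q32394 : ∀ i, i < 32394 → P i := stepQ 32393 Q32393 (allL N32393 (tt N55643 F168369) (tt N60420 (iv0 F176401)) (tt N55682 F161362) (tt N31779 F161358) (tt N60689 (iv4 F176712)) (tt N32191 F82763) (tt N16259 (iv6 D52414)) (tt N60328 (iv7 F176217)))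
theorem Q32395 : ∀ i, i < 32395 → P i := stepQ 32394 Q32394 (allL N32394 (tt N29862 F161330) (tt N18107 F161331) (tt N35870 F161332) (tt N60691 D113568) (tt N16260 (iv4 D52417)) (tt N56702 (iv5 F343567)) (tt N60692 D113570) (tt N35869 F161333))
theorem Q32396 : ∀ i, i < 32396 → P i := stepQ 32395 Q32395 (allL N32395 (tt N32291 (iv1 F161357)) (tt N59742 (iv0 F173739)) (tt N55683 (iv2 F161345)) (tt N60404 (iv3 F176358)) (tt N60693 D113571) (tt N16260 (iv5 D52418)) (tt N32048 F82765) (tt N55681 (iv7 F161344)))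
theorem Q32397 : ∀ i, i < 32397 → P i := stepQ 32396 Q32396 (allL N32396 (tt N56906 F165043) (tt N55645 (iv0 F163605)) (tt N55684 (iv2 F161346)) (tt N60405 (iv3 F176363)) (tt N60692 (iv4 F176715)) (tt N56361 F163603) (tt N16260 (iv6 D52419)) (tt N56837 (iv7 F164900)))
theorem Q32398 : ∀ i, i < 32398 → P i := stepQ 32397 Q32397 (allL N32397 (tt N31415 F82768) (tt N60694 D113572) (tt N20432 F82766) (tt N35633 (iv3 F93028)) (tt N30845 F82767) (tt N38662 (iv5 F98569)) (tt N16261 (iv6 D52420)) (tt N59487 (iv7 F172988)))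
theorem Q32399 : ∀ i, i < 32399 → P i := stepQ 32398 Q32398 (allL N32398 (tt N60695 D113573) (tt N60696 D113574) (tt N60697 D113575) (tt N16262 (iv3 D52421)) (tt N16266 F82769) (tt N57945 (iv5 F168615)) (tt N60698 D113576) (tt N20436 F82770))
theorem Q32400 : ∀ i, i < 32400 → P i := stepQ 32399 Q32399 (allL N32399 (tt N31840 F164100) (tt N57880 (iv0 F168475)) (tt N56732 (iv2 F164673)) (tt N60698 (iv3 F176733)) (tt N16263 F82771) (tt N60699 D113577) (tt N16262 (iv6 D52422)) (tt N58033 (iv7 F168718)))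
theorem Q32401 : ∀ i, i < 32401 → P i := stepQ 32400 Q32400 (allL N32400 (tt N56734 (iv1 F164683)) (tt N16263 (iv0 D52423)) (tt N56733 (iv2 F170673)) (tt N31992 F168449) (tt N30854 F168448) (tt N37835 (iv5 F168452)) (tt N35595 (iv6 F167597)) (tt N32021 (iv7 F170655)))
theorem Q32402 : ∀ i, i < 32402 → P i := stepQ 32401 Q32401 (allL N32401 (tt N16263 (iv1 D52424)) (tt N56734 F164682) (tt N32021 (iv2 F170681)) (tt N55881 (iv3 F169226)) (tt N30855 F169240) (tt N57711 (iv5 F167594)) (tt N60700 D113578) (tt N56733 F170667))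
theorem Q32403 : ∀ i, i < 32403 → P i := stepQ 32402 Q32402 (allL N32402 (tt N32021 (iv1 F167995)) (tt N56733 F164681) (tt N56734 (iv2 F164679)) (tt N16269 F82772) (tt N58033 (iv4 F168716)) (tt N56522 (iv5 F164172)) (tt N20441 F82773) (tt N16263 (iv7 D52425)))
theorem Q32404 : ∀ i, i < 32404 → P i := stepQ 32403 Q32403 (allL N32403 (tt N36259 (iv1 F94217)) (tt N16266 (iv0 D52426)) (tt N36258 (iv2 F203753)) (tt N60701 D113580) (tt N60702 D113581) (tt N60703 D113582) (tt N60704 D113583) (tt N36257 (iv7 F203744)))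
theorem Q32405 : ∀ i, i < 32405 → P i := stepQ 32404 Q32404 (allL N32404 (tt N16266 (iv1 D52427)) (tt N36259 F94219) (tt N36257 (iv2 F203743)) (tt N60705 D113585) (tt N60706 D113586) (tt N60707 D113587) (tt N60708 D113588) (tt N36258 (iv7 F203755)))
theorem Q32406 : ∀ i, i < 32406 → P i := stepQ 32405 Q32405 (allL N32405 (tt N36258 (iv1 F94218)) (tt N36257 F94214) (tt N16266 (iv2 D52428)) (tt N55692 (iv3 F161403)) (tt N60697 (iv4 F176728)) (tt N60662 (iv5 F176696)) (tt N60709 D113589) (tt N36259 (iv7 F94216)))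
theorem Q32407 : ∀ i, i < 32407 → P i := stepQ 32406 Q32406 (allL N32406 (tt N60710 D113590) (tt N60711 D113591) (tt N60709 (iv2 F176749)) (tt N16267 F82774) (tt N60698 (iv4 F176734)) (tt N60712 D113592) (tt N16266 (iv6 D52429)) (tt N60713 D113593))
theorem Q32408 : ∀ i, i < 32408 → P i := stepQ 32407 Q32407 (allL N32407 (tt N60714 D113594) (tt N18673 F332768) (tt N55694 (iv2 F161410)) (tt N60712 (iv3 F176750)) (tt N38431 (iv4 F332786)) (tt N16267 (iv5 D52432)) (tt N37681 (iv6 F332787)) (tt N60472 (iv7 F332777)))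
theorem Q32409 : ∀ i, i < 32409 → P i := stepQ 32408 Q32408 (allL N32408 (tt N55629 (iv1 F165585)) (tt N55628 (iv0 F165601)) (tt N55695 (iv2 F161411)) (tt N60713 (iv3 F176751)) (tt N16269 F82775) (tt N60472 (iv5 F332776)) (tt N36265 (iv6 F94235)) (tt N16267 (iv7 D52433)))
theorem Q32410 : ∀ i, i < 32410 → P i := stepQ 32409 Q32409 (allL N32409 (tt N32286 F164131) (tt N29484 F164132) (tt N32029 (iv2 F164094)) (tt N60715 D113598) (tt N16268 (iv4 D52436)) (tt N30034 (iv5 F327648)) (tt N35626 (iv6 F93004)) (tt N32284 (iv7 F164340)))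
theorem Q32411 : ∀ i, i < 32411 → P i := stepQ 32410 Q32410 (allL N32410 (tt N18089 F82777) (tt N18676 F82778) (tt N18675 F161436) (tt N30009 F164070) (tt N60470 (iv4 F328351)) (tt N16268 (iv5 D52437)) (tt N60716 D113601) (tt N18674 F161437))
theorem Q32412 : ∀ i, i < 32412 → P i := stepQ 32411 Q32411 (allL N32411 (tt N20901 (iv1 F82782)) (tt N16270 (iv0 D52443)) (tt N20900 F82787) (tt N57257 (iv3 F165912)) (tt N20954 (iv4 F82783)) (tt N16334 (iv5 F83021)) (tt N60717 D113602) (tt N20899 (iv7 F82786)))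
theorem Q32413 : ∀ i, i < 32413 → P i := stepQ 32412 Q32412 (allL N32412 (tt N16270 (iv1 D52444)) (tt N20901 F82788) (tt N20899 F82791) (tt N21481 (iv3 F82793)) (tt N20920 (iv4 F82790)) (tt N16335 F82795) (tt N30675 F82792) (tt N20900 F82789))
theorem Q32414 : ∀ i, i < 32414 → P i := stepQ 32413 Q32413 (allL N32413 (tt N32510 (iv1 F83048)) (tt N20116 F327033) (tt N23884 F82796) (tt N16271 F82797) (tt N18680 (iv4 F327576)) (tt N16270 (iv5 D52445)) (tt N18679 (iv6 F327577)) (tt N20902 F82798))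
theorem Q32415 : ∀ i, i < 32415 → P i := stepQ 32414 Q32414 (allL N32414 (tt N60718 D113605) (tt N60719 D113606) (tt N32487 (iv2 F82945)) (tt N18679 F328047) (tt N18686 (iv4 F328466)) (tt N21752 F82800) (tt N16271 (iv6 D52446)) (tt N60720 D113607))
theorem Q32416 : ∀ i, i < 32416 → P i := stepQ 32415 Q32415 (allL N32415 (tt N60721 D113608) (tt N60722 D113609) (tt N32469 (iv2 F82904)) (tt N23185 F82801) (tt N57256 (iv4 F165905)) (tt N23182 F82802) (tt N16272 (iv6 D52447)) (tt N60723 D113610))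
theorem Q32417 : ∀ i, i < 32417 → P i := stepQ 32416 Q32416 (allL N32416 (tt N21497 F82804) (tt N45179 F114696) (tt N45178 F114688) (tt N16273 (iv3 D52448)) (tt N16291 F82805) (tt N41884 (iv5 F105038)) (tt N29984 (iv6 F82806)) (tt N16384 F82803))
theorem Q32418 : ∀ i, i < 32418 → P i := stepQ 32417 Q32417 (allL N32417 (tt N34409 (iv1 F87486)) (tt N19371 (iv0 F82869)) (tt N34406 F87472) (tt N29984 F82807) (tt N41358 (iv4 F104014)) (tt N32134 (iv5 F94244)) (tt N16273 (iv6 D52450)) (tt N23854 F82808))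
theorem Q32419 : ∀ i, i < 32419 → P i := stepQ 32418 Q32418 (allL N32418 (tt N21245 F82811) (tt N21244 F82810) (tt N16276 F82809) (tt N55697 (iv3 F161449)) (tt N60724 D113611) (tt N16275 (iv5 D52451)) (tt N60725 D113612) (tt N36266 (iv7 F94241)))
theorem Q32420 : ∀ i, i < 32420 → P i := stepQ 32419 Q32419 (allL N32419 (tt N41417 F104116) (tt N43284 F108452) (tt N16277 F82812) (tt N50106 (iv3 F138875)) (tt N21501 F82813) (tt N60726 D113613) (tt N16275 (iv6 D52452)) (tt N37376 (iv7 F95890)))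
theorem Q32421 : ∀ i, i < 32421 → P i := stepQ 32420 Q32420 (allL N32420 (tt N36266 (iv1 F94242)) (tt N16276 (iv0 D52453)) (tt N21245 (iv2 F82817)) (tt N50182 (iv3 F139180)) (tt N60727 D113614) (tt N16295 F82818) (tt N60728 D113615) (tt N21244 F82819))
theorem Q32422 : ∀ i, i < 32422 → P i := stepQ 32421 Q32421 (allL N32421 (tt N16276 (iv1 D52454)) (tt N36266 (iv0 F94243)) (tt N21244 (iv2 F82815)) (tt N56038 (iv3 F162402)) (tt N60729 D113616) (tt N16296 F82814) (tt N60730 D113617) (tt N21245 (iv7 F82816)))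
theorem Q32423 : ∀ i, i < 32423 → P i := stepQ 32422 Q32422 (allL N32422 (tt N60731 D113618) (tt N60732 D113619) (tt N60724 (iv2 F176782)) (tt N60667 (iv3 F176702)) (tt N16276 (iv4 D52455)) (tt N60733 D113620) (tt N60734 D113621) (tt N36267 (iv7 F94245)))
theorem Q32424 : ∀ i, i < 32424 → P i := stepQ 32423 Q32423 (allL N32423 (tt N37409 F366026) (tt N60735 D113623) (tt N60725 (iv2 F176786)) (tt N16278 F82820) (tt N60734 (iv4 F176806)) (tt N60736 D113624) (tt N16276 (iv6 D52456)) (tt N60737 D113625))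
theorem Q32425 : ∀ i, i < 32425 → P i := stepQ 32424 Q32424 (allL N32424 (tt N37376 F95891) (tt N16277 (iv0 D52457)) (tt N41417 (iv2 F104112)) (tt N26392 (iv3 F82822)) (tt N41416 F104111) (tt N43205 (iv5 F108302)) (tt N16369 F82821) (tt N43284 (iv7 F108450)))
theorem Q32426 : ∀ i, i < 32426 → P i := stepQ 32425 Q32425 (allL N32425 (tt N16277 (iv1 D52458)) (tt N37376 F95892) (tt N43284 (iv2 F108449)) (tt N57447 (iv3 F166770)) (tt N41383 (iv4 F104070)) (tt N43204 (iv5 F108297)) (tt N41423 (iv6 F104133)) (tt N41417 (iv7 F104114)))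
theorem Q32427 : ∀ i, i < 32427 → P i := stepQ 32426 Q32426 (allL N32426 (tt N22094 F82826) (tt N22096 F82825) (tt N60726 (iv2 F176787)) (tt N16281 F82824) (tt N60738 D113626) (tt N16277 (iv5 D52459)) (tt N60736 (iv6 F176808)) (tt N44502 (iv7 F112352)))
theorem Q32428 : ∀ i, i < 32428 → P i := stepQ 32427 Q32427 (allL N32427 (tt N55703 (iv1 F161468)) (tt N16278 (iv0 D52460)) (tt N55700 (iv2 F395843)) (tt N60739 D113628) (tt N60740 D113629) (tt N60741 D113630) (tt N60742 D113631) (tt N55701 (iv7 F395846)))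
theorem Q32429 : ∀ i, i < 32429 → P i := stepQ 32428 Q32428 (allL N32428 (tt N16278 (iv1 D52461)) (tt N55703 F161467) (tt N55701 (iv2 F395845)) (tt N60743 D113633) (tt N60744 D113634) (tt N60745 D113635) (tt N60746 D113636) (tt N55700 (iv7 F395844)))
theorem Q32430 : ∀ i, i < 32430 → P i := stepQ 32429 Q32429 (allL N32429 (tt N60747 D113637) (tt N60748 D113638) (tt N55702 (iv2 F161462)) (tt N60736 (iv3 F176807)) (tt N60749 D113639) (tt N16278 (iv5 D52462)) (tt N16281 F82827) (tt N60750 D113640))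
theorem Q32431 : ∀ i, i < 32431 → P i := stepQ 32430 Q32430 (allL N32430 (tt N55701 (iv1 F161461)) (tt N55700 F161466) (tt N55703 (iv2 F161464)) (tt N60737 (iv3 F176809)) (tt N60672 (iv4 F176705)) (tt N60750 (iv5 F176816)) (tt N36273 (iv6 F94253)) (tt N16278 (iv7 D52463)))
theorem Q32432 : ∀ i, i < 32432 → P i := stepQ 32431 Q32431 (allL N32431 (tt N56627 F164484) (tt N56632 F164495) (tt N23260 F82828) (tt N16279 (iv3 D52464)) (tt N32431 F82829) (tt N32708 (iv5 F83365)) (tt N16376 F82830) (tt N36247 (iv7 F94185)))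
theorem Q32433 : ∀ i, i < 32433 → P i := stepQ 32432 Q32432 (allL N32432 (tt N18633 F82833) (tt N19399 F82835) (tt N23263 (iv2 F82836)) (tt N16280 (iv3 D52465)) (tt N18629 F82831) (tt N32705 (iv5 F83359)) (tt N16280 (iv6 F82834)) (tt N16377 F82832))
theorem Q32434 : ∀ i, i < 32434 → P i := stepQ 32433 Q32433 (allL N32433 (tt N36410 (iv1 F94520)) (tt N21903 F82837) (tt N55704 (iv2 F161469)) (tt N60751 D113641) (tt N16281 (iv4 D52466)) (tt N55704 (iv5 F161471)) (tt N60749 (iv6 F176815)) (tt N56618 (iv7 F164449)))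
theorem Q32435 : ∀ i, i < 32435 → P i := stepQ 32434 Q32434 (allL N32434 (tt N60717 F176772) (tt N31367 (iv0 F104140)) (tt N60752 D113642) (tt N16282 (iv3 D52467)) (tt N16817 F82838) (tt N32776 (iv5 F83503)) (tt N43369 (iv6 F108559)) (tt N20997 F82839))
theorem Q32436 : ∀ i, i < 32436 → P i := stepQ 32435 Q32435 (allL N32435 (tt N35632 F93026) (tt N35638 F93046) (tt N32064 F82840) (tt N20439 F82841) (tt N31082 F82842) (tt N32147 F82843) (tt N16283 (iv6 D52468)) (tt N35637 (iv7 F93043)))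
theorem Q32437 : ∀ i, i < 32437 → P i := stepQ 32436 Q32436 (allL N32436 (tt N51980 (iv1 F354593)) (tt N60753 D113644) (tt N60754 D113645) (tt N16284 (iv3 D52469)) (tt N16286 F82844) (tt N60755 D113646) (tt N60756 D113647) (tt N39589 (iv7 F100450)))
theorem Q32438 : ∀ i, i < 32438 → P i := stepQ 32437 Q32437 (allL N32437 (tt N22590 F82845) (tt N31786 F82846) (tt N39587 (iv2 F100442)) (tt N60755 (iv3 F176825)) (tt N57494 (iv4 F166919)) (tt N16284 (iv5 D52470)) (tt N52503 (iv6 F354600)) (tt N39590 (iv7 F100451)))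
theorem Q32439 : ∀ i, i < 32439 → P i := stepQ 32438 Q32438 (allL N32438 (tt N58424 (iv1 F169325)) (tt N31851 (iv0 F82848)) (tt N39588 (iv2 F100445)) (tt N60756 (iv3 F176826)) (tt N16285 F82847) (tt N60757 D113649) (tt N16284 (iv6 D52471)) (tt N58422 (iv7 F169321)))
theorem Q32440 : ∀ i, i < 32440 → P i := stepQ 32439 Q32439 (allL N32439 (tt N58856 (iv1 F171163)) (tt N16285 (iv0 D52472)) (tt N32084 (iv2 F82849)) (tt N59487 (iv3 F172989)) (tt N31094 F169331) (tt N60758 D113650) (tt N60759 D113651) (tt N35633 F93034))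
theorem Q32441 : ∀ i, i < 32441 → P i := stepQ 32440 Q32440 (allL N32440 (tt N35633 (iv1 F93032)) (tt N32084 F93033) (tt N58856 (iv2 F171166)) (tt N16289 F82850) (tt N58422 F169322) (tt N41465 (iv5 F104288)) (tt N55689 (iv6 F161401)) (tt N16285 (iv7 D52473)))
theorem Q32442 : ∀ i, i < 32442 → P i := stepQ 32441 Q32441 (allL N32441 (tt N55692 (iv1 F161405)) (tt N16286 (iv0 D52474)) (tt N55691 (iv2 F173638)) (tt N60760 D113652) (tt N51635 (iv4 F318879)) (tt N60761 D113654) (tt N51643 (iv6 F356011)) (tt N55690 (iv7 F173640)))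
theorem Q32443 : ∀ i, i < 32443 → P i := stepQ 32442 Q32442 (allL N32442 (tt N16286 (iv1 D52475)) (tt N55692 F161407) (tt N55690 F173639) (tt N55595 (iv3 F324452)) (tt N59715 (iv4 F173636)) (tt N60762 D113657) (tt N60763 D113658) (tt N55691 F173637))
theorem Q32444 : ∀ i, i < 32444 → P i := stepQ 32443 Q32443 (allL N32443 (tt N55691 (iv1 F161406)) (tt N55690 F161402) (tt N16286 (iv2 D52476)) (tt N36259 (iv3 F94215)) (tt N60754 (iv4 F176824)) (tt N60666 (iv5 F176701)) (tt N60764 D113659) (tt N55692 (iv7 F161404)))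
theorem Q32445 : ∀ i, i < 32445 → P i := stepQ 32444 Q32444 (allL N32444 (tt N60765 D113660) (tt N60766 D113661) (tt N60764 (iv2 F176852)) (tt N16287 F82851) (tt N60756 (iv4 F176827)) (tt N60767 D113662) (tt N16286 (iv6 D52477)) (tt N60768 D113663))
theorem Q32446 : ∀ i, i < 32446 → P i := stepQ 32445 Q32445 (allL N32445 (tt N60769 D113664) (tt N60770 D113665) (tt N36264 (iv2 F94232)) (tt N60767 (iv3 F176853)) (tt N60771 D113666) (tt N16287 (iv5 D52480)) (tt N60671 (iv6 F176704)) (tt N60772 D113667))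
theorem Q32447 : ∀ i, i < 32447 → P i := stepQ 32446 Q32446 (allL N32446 (tt N35614 (iv1 F92991)) (tt N36263 F94229) (tt N36265 (iv2 F94233)) (tt N60768 (iv3 F176854)) (tt N16289 F82852) (tt N60772 (iv5 F176855)) (tt N55695 (iv6 F161413)) (tt N16287 (iv7 D52481)))
theorem Q32448 : ∀ i, i < 32448 → P i := stepQ 32447 Q32447 (allL N32447 (tt N29489 (iv1 F82856)) (tt N32305 F82857) (tt N32027 F82853) (tt N60773 D113668) (tt N16288 (iv4 D52482)) (tt N60774 D113669) (tt N30815 F82854) (tt N32303 F82855))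
theorem Q32449 : ∀ i, i < 32449 → P i := stepQ 32448 Q32448 (allL N32448 (tt N26514 F82858) (tt N29530 (iv0 F82859)) (tt N32481 (iv2 F82927)) (tt N36252 (iv3 F94203)) (tt N38250 (iv4 F324787)) (tt N16290 (iv5 D52483)) (tt N38232 F324717) (tt N32480 F82930))
theorem Q32450 : ∀ i, i < 32450 → P i := stepQ 32449 Q32449 (allL N32449 (tt N20905 (iv1 F82863)) (tt N20906 (iv0 F82862)) (tt N23844 F82860) (tt N16291 (iv3 D52484)) (tt N33562 (iv4 F85127)) (tt N33671 (iv5 F85426)) (tt N23838 (iv6 F82864)) (tt N16361 F82861))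
theorem Q32451 : ∀ i, i < 32451 → P i := stepQ 32450 Q32450 (allL N32450 (tt N29530 (iv1 F82931)) (tt N26514 F82933) (tt N32480 F82929) (tt N33671 F85427) (tt N38253 F324038) (tt N16291 (iv5 D52485)) (tt N60775 D113673) (tt N32481 (iv7 F82928)))
theorem Q32452 : ∀ i, i < 32452 → P i := stepQ 32451 Q32451 (allL N32451 (tt N19397 F82868) (tt N34407 (iv0 F87479)) (tt N37279 F95743) (tt N23838 F82865) (tt N29984 F82866) (tt N60259 (iv5 F176059)) (tt N16291 (iv6 D52486)) (tt N23833 F82867))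
theorem Q32453 : ∀ i, i < 32453 → P i := stepQ 32452 Q32452 (allL N32452 (tt N50226 F139269) (tt N50227 (iv0 F139274)) (tt N16293 F82870) (tt N36266 (iv3 F94240)) (tt N60776 D113674) (tt N16292 (iv5 D52487)) (tt N60777 D113675) (tt N55697 (iv7 F161450)))
theorem Q32454 : ∀ i, i < 32454 → P i := stepQ 32453 Q32453 (allL N32453 (tt N55697 F161452) (tt N16293 (iv0 D52488)) (tt N50226 (iv2 F139265)) (tt N21170 (iv3 F82872)) (tt N60778 D113676) (tt N16308 F82871) (tt N60779 D113677) (tt N50227 (iv7 F139273)))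
theorem Q32455 : ∀ i, i < 32455 → P i := stepQ 32454 Q32454 (allL N32454 (tt N16293 (iv1 D52489)) (tt N55697 (iv0 F161451)) (tt N50227 (iv2 F139271)) (tt N60780 D113678) (tt N60781 D113679) (tt N16309 F139187) (tt N60782 D113680) (tt N50226 (iv7 F139267)))
theorem Q32456 : ∀ i, i < 32456 → P i := stepQ 32455 Q32455 (allL N32455 (tt N60783 D113681) (tt N39376 (iv0 F143111)) (tt N60776 (iv2 F176863)) (tt N60663 (iv3 F176697)) (tt N16293 (iv4 D52490)) (tt N39599 (iv5 F100470)) (tt N60784 D113682) (tt N55698 (iv7 F161453)))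
theorem Q32457 : ∀ i, i < 32457 → P i := stepQ 32456 Q32456 (allL N32456 (tt N29018 F82934) (tt N38026 F324729) (tt N60777 (iv2 F176866)) (tt N16294 F82873) (tt N60784 (iv4 F176880)) (tt N56610 (iv5 F164431)) (tt N16293 (iv6 D52491)) (tt N60785 D113684))
theorem Q32458 : ∀ i, i < 32458 → P i := stepQ 32457 Q32457 (allL N32457 (tt N36273 (iv1 F94256)) (tt N16294 (iv0 D52492)) (tt N36271 (iv2 F176893)) (tt N60786 D113686) (tt N60787 D113687) (tt N60788 D113688) (tt N60789 D113689) (tt N36272 F176896))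
theorem Q32459 : ∀ i, i < 32459 → P i := stepQ 32458 Q32458 (allL N32458 (tt N16294 (iv1 D52493)) (tt N36273 F94255) (tt N36272 F176895) (tt N60790 D113690) (tt N60791 D113691) (tt N60792 D113692) (tt N60793 D113693) (tt N36271 (iv7 F176894)))
theorem Q32460 : ∀ i, i < 32460 → P i := stepQ 32459 Q32459 (allL N32459 (tt N36272 (iv1 F94251)) (tt N36271 F94254) (tt N36273 (iv2 F94252)) (tt N60785 (iv3 F176886)) (tt N60665 (iv4 F176700)) (tt N56613 (iv5 F164434)) (tt N55703 (iv6 F161465)) (tt N16294 (iv7 D52494)))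
theorem Q32461 : ∀ i, i < 32461 → P i := stepQ 32460 Q32460 (allL N32460 (tt N17179 F82876) (tt N16554 F82877) (tt N17202 F82874) (tt N16419 F82925) (tt N32819 F83599) (tt N60794 D113694) (tt N16295 (iv6 D52495)) (tt N16402 F82875))
theorem Q32462 : ∀ i, i < 32462 → P i := stepQ 32461 Q32461 (allL N32461 (tt N21247 F82881) (tt N21246 (iv0 F82882)) (tt N16298 F82878) (tt N50229 (iv3 F139285)) (tt N60795 D113695) (tt N16297 (iv5 D52496)) (tt N37400 F325469) (tt N21238 F82879))
theorem Q32463 : ∀ i, i < 32463 → P i := stepQ 32462 Q32462 (allL N32462 (tt N21238 (iv1 F82885)) (tt N16298 (iv0 D52497)) (tt N21247 (iv2 F82886)) (tt N32622 (iv3 F83238)) (tt N60796 D113697) (tt N18403 F82884) (tt N60797 D113698) (tt N21246 (iv7 F82887)))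
theorem Q32464 : ∀ i, i < 32464 → P i := stepQ 32463 Q32463 (allL N32463 (tt N16298 (iv1 D52498)) (tt N21238 F82888) (tt N21246 (iv2 F82891)) (tt N45215 (iv3 F114806)) (tt N60798 D113699) (tt N18404 F82890) (tt N60799 D113700) (tt N21247 F82889))
theorem Q32465 : ∀ i, i < 32465 → P i := stepQ 32464 Q32464 (allL N32464 (tt N42358 (iv1 F106057)) (tt N60800 D113701) (tt N60795 (iv2 F176904)) (tt N60615 (iv3 F176643)) (tt N16298 (iv4 D52499)) (tt N60801 D113702) (tt N36880 F327153) (tt N21248 F82892))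
theorem Q32466 : ∀ i, i < 32466 → P i := stepQ 32465 Q32465 (allL N32465 (tt N19619 F325458) (tt N19800 F325459) (tt N37400 F325460) (tt N16302 F82893) (tt N36880 (iv4 F326331)) (tt N19346 (iv5 F326332)) (tt N16298 (iv6 D52500)) (tt N37402 F325461))
theorem Q32467 : ∀ i, i < 32467 → P i := stepQ 32466 Q32466 (allL N32466 (tt N16921 (iv1 F82896)) (tt N16299 (iv0 D52501)) (tt N16917 (iv2 F82895)) (tt N16309 F82894) (tt N32507 (iv4 F83034)) (tt N60780 (iv5 F176872)) (tt N22059 (iv6 F82898)) (tt N16918 F82897))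
theorem Q32468 : ∀ i, i < 32468 → P i := stepQ 32467 Q32467 (allL N32467 (tt N19417 F326695) (tt N46009 F120101) (tt N16920 F82899) (tt N16304 F82900) (tt N36764 (iv4 F327377)) (tt N16299 (iv5 D52502)) (tt N19346 F326696) (tt N16926 F82901))
theorem Q32469 : ∀ i, i < 32469 → P i := stepQ 32468 Q32468 (allL N32468 (tt N56048 F162424) (tt N56240 (iv0 F163249)) (tt N32578 (iv2 F83133)) (tt N16300 (iv3 D52503)) (tt N60802 D113709) (tt N18385 F82902) (tt N60803 D113710) (tt N30407 F82903))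
theorem Q32470 : ∀ i, i < 32470 → P i := stepQ 32469 Q32469 (allL N32469 (tt N60804 D113711) (tt N60805 D113712) (tt N32415 F82904) (tt N60803 (iv3 F176935)) (tt N41525 (iv4 F104369)) (tt N32648 (iv5 F83279)) (tt N16300 (iv6 D52504)) (tt N60806 D113713))
theorem Q32471 : ∀ i, i < 32471 → P i := stepQ 32470 Q32470 (allL N32470 (tt N56341 F163446) (tt N60807 D113714) (tt N30409 F82905) (tt N45055 (iv3 F114448)) (tt N60448 (iv4 F176447)) (tt N32181 F82906) (tt N16301 (iv6 D52505)) (tt N60808 D113715))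
theorem Q32472 : ∀ i, i < 32472 → P i := stepQ 32471 Q32471 (allL N32471 (tt N55708 (iv1 F161485)) (tt N16302 (iv0 D52506)) (tt N55706 (iv2 F343645)) (tt N60809 D113717) (tt N60810 D113718) (tt N60811 D113719) (tt N60812 D113720) (tt N55707 (iv7 F343644)))
theorem Q32473 : ∀ i, i < 32473 → P i := stepQ 32472 Q32472 (allL N32472 (tt N16302 (iv1 D52507)) (tt N55708 F161484) (tt N55707 (iv2 F343642)) (tt N60813 D113722) (tt N60814 D113723) (tt N60815 D113724) (tt N60816 D113725) (tt N55706 (iv7 F343646)))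
theorem Q32474 : ∀ i, i < 32474 → P i := stepQ 32473 Q32473 (allL N32473 (tt N60817 D113726) (tt N60813 (iv0 F343655)) (tt N45050 (iv2 F114434)) (tt N19346 F326593) (tt N36981 (iv4 F327335)) (tt N16302 (iv5 D52508)) (tt N16304 F82907) (tt N37401 F326594))
theorem Q32475 : ∀ i, i < 32475 → P i := stepQ 32474 Q32474 (allL N32474 (tt N55707 (iv1 F161479)) (tt N55706 F161483) (tt N55708 (iv2 F161480)) (tt N37402 F324646) (tt N56488 (iv4 F325755)) (tt N37401 (iv5 F325757)) (tt N36279 (iv6 F94264)) (tt N16302 (iv7 D52509)))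
theorem Q32476 : ∀ i, i < 32476 → P i := stepQ 32475 Q32475 (allL N32475 (tt N21498 F82910) (tt N21496 F82911) (tt N29829 F82908) (tt N56239 (iv3 F163242)) (tt N60818 D113730) (tt N16303 (iv5 D52510)) (tt N60819 D113731) (tt N29826 F82909))
theorem Q32477 : ∀ i, i < 32477 → P i := stepQ 32476 Q32476 (allL N32476 (tt N23215 F82912) (tt N42385 F106097) (tt N42382 F106089) (tt N36983 (iv3 F328246)) (tt N16304 (iv4 D52511)) (tt N45181 (iv5 F114705)) (tt N36981 F327834) (tt N42381 F106087))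
theorem Q32478 : ∀ i, i < 32478 → P i := stepQ 32477 Q32477 (allL N32477 (tt N21491 F82914) (tt N21488 F82915) (tt N21140 F82913) (tt N33639 (iv3 F85336)) (tt N60820 D113733) (tt N16306 (iv5 D52512)) (tt N60821 D113734) (tt N41752 (iv7 F104866)))
theorem Q32479 : ∀ i, i < 32479 → P i := stepQ 32478 Q32478 (allL N32478 (tt N21488 F82918) (tt N21491 F82919) (tt N41752 (iv2 F104864)) (tt N21231 F82916) (tt N60822 D113735) (tt N16307 (iv5 D52513)) (tt N60823 D113736) (tt N21140 F82917))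
theorem Q32480 : ∀ i, i < 32480 → P i := stepQ 32479 Q32479 (allL N32479 (tt N16558 (iv1 F82922)) (tt N44971 F114232) (tt N44970 F114223) (tt N22059 F82920) (tt N16419 F82923) (tt N60824 D113737) (tt N16309 (iv6 D52515)) (tt N16411 F82921))
theorem Q32481 : ∀ i, i < 32481 → P i := stepQ 32480 Q32480 (allL N32480 (tt N50229 (iv1 F139288)) (tt N16310 (iv0 D52516)) (tt N32450 (iv2 F82929)) (tt N56034 (iv3 F162384)) (tt N60825 D113738) (tt N29524 F82932) (tt N60826 D113739) (tt N32448 (iv7 F82930)))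
theorem Q32482 : ∀ i, i < 32482 → P i := stepQ 32481 Q32481 (allL N32481 (tt N16310 (iv1 D52517)) (tt N50229 F139287) (tt N32448 F82927) (tt N19417 (iv3 F325871)) (tt N19425 F324790) (tt N29525 (iv5 F82926)) (tt N19415 F324791) (tt N32450 F82928))
theorem Q32483 : ∀ i, i < 32483 → P i := stepQ 32482 Q32482 (allL N32482 (tt N60827 D113742) (tt N36143 F114384) (tt N50228 (iv2 F139276)) (tt N60589 (iv3 F176617)) (tt N16310 (iv4 D52518)) (tt N39373 (iv5 F100051)) (tt N26888 F82935) (tt N55705 (iv7 F161474)))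
theorem Q32484 : ∀ i, i < 32484 → P i := stepQ 32483 Q32483 (allL N32483 (tt N36279 (iv1 F94267)) (tt N16311 (iv0 D52519)) (tt N36277 (iv2 F178277)) (tt N50176 (iv3 F176998)) (tt N60828 D113745) (tt N60829 D113746) (tt N60830 D113747) (tt N36278 (iv7 F178274)))
theorem Q32485 : ∀ i, i < 32485 → P i := stepQ 32484 Q32484 (allL N32484 (tt N16311 (iv1 D52520)) (tt N36279 F94266) (tt N36278 (iv2 F178273)) (tt N60831 D113749) (tt N60832 D113750) (tt N60833 D113751) (tt N56330 (iv6 F178206)) (tt N36277 (iv7 F178278)))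
theorem Q32486 : ∀ i, i < 32486 → P i := stepQ 32485 Q32485 (allL N32485 (tt N36278 (iv1 F94262)) (tt N36277 F94265) (tt N36279 (iv2 F94263)) (tt N25925 F82936) (tt N60596 (iv4 F176625)) (tt N25924 F82937) (tt N55708 (iv6 F161482)) (tt N16311 (iv7 D52521)))
theorem Q32487 : ∀ i, i < 32487 → P i := stepQ 32486 Q32486 (allL N32486 (tt N50085 (iv1 F138844)) (tt N16332 (iv0 F82943)) (tt N21265 F82938) (tt N16313 (iv3 D52522)) (tt N16871 F82939) (tt N27222 F82940) (tt N17083 F82941) (tt N19015 F82942))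
theorem Q32488 : ∀ i, i < 32488 → P i := stepQ 32487 Q32487 (allL N32487 (tt N60834 D113753) (tt N60835 D113754) (tt N32414 F82945) (tt N41344 (iv3 F103981)) (tt N36772 (iv4 F328852)) (tt N23905 F82946) (tt N16314 (iv6 D52523)) (tt N60836 D113755))
theorem Q32489 : ∀ i, i < 32489 → P i := stepQ 32488 Q32488 (allL N32488 (tt N55713 (iv1 F161495)) (tt N16315 (iv0 D52524)) (tt N55711 (iv2 F333524)) (tt N60837 D113757) (tt N56489 (iv4 F333523)) (tt N60838 D113759) (tt N60839 D113760) (tt N55712 (iv7 F333522)))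
theorem Q32490 : ∀ i, i < 32490 → P i := stepQ 32489 Q32489 (allL N32489 (tt N16315 (iv1 D52525)) (tt N55713 F161494) (tt N55712 (iv2 F333519)) (tt N19141 (iv3 F324332)) (tt N19144 (iv4 F324333)) (tt N38996 (iv5 F324334)) (tt N60840 D113765) (tt N55711 (iv7 F333528)))
theorem Q32491 : ∀ i, i < 32491 → P i := stepQ 32490 Q32490 (allL N32490 (tt N60841 D113766) (tt N38983 F322884) (tt N42380 (iv2 F106084)) (tt N41765 (iv3 F104877)) (tt N60842 D113768) (tt N16315 (iv5 D52526)) (tt N16316 F82947) (tt N60843 D113769))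
theorem Q32492 : ∀ i, i < 32492 → P i := stepQ 32491 Q32491 (allL N32491 (tt N55712 (iv1 F161489)) (tt N55711 F161493) (tt N55713 (iv2 F161490)) (tt N41766 (iv3 F104879)) (tt N60568 (iv4 F176594)) (tt N60843 (iv5 F177017)) (tt N55716 (iv6 F161501)) (tt N16315 (iv7 D52527)))
theorem Q32493 : ∀ i, i < 32493 → P i := stepQ 32492 Q32492 (allL N32492 (tt N23189 F82948) (tt N45053 (iv0 F114441)) (tt N42379 (iv2 F106081)) (tt N60844 D113770) (tt N16316 (iv4 D52528)) (tt N45057 (iv5 F114454)) (tt N60842 (iv6 F177016)) (tt N42376 (iv7 F106074)))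
theorem Q32494 : ∀ i, i < 32494 → P i := stepQ 32493 Q32493 (allL N32493 (tt N55735 (iv1 F161531)) (tt N16342 F114373) (tt N50257 (iv2 F139341)) (tt N50277 (iv3 F139387)) (tt N20028 F82951) (tt N16318 (iv5 D52530)) (tt N60845 D113771) (tt N50258 (iv7 F139347)))
theorem Q32495 : ∀ i, i < 32495 → P i := stepQ 32494 Q32494 (allL N32494 (tt N50089 F138863) (tt N16324 (iv0 F82953)) (tt N50278 (iv2 F139390)) (tt N16319 (iv3 D52532)) (tt N50278 (iv4 F139391)) (tt N60846 D113772) (tt N56293 (iv6 F163365)) (tt N50256 (iv7 F139338)))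
theorem Q32496 : ∀ i, i < 32496 → P i := stepQ 32495 Q32495 (allL N32495 (tt N16342 F139188) (tt N55735 F161532) (tt N50258 (iv2 F139346)) (tt N60846 (iv3 F177020)) (tt N60847 D113773) (tt N16319 (iv5 D52533)) (tt N60848 D113774) (tt N50257 (iv7 F139342)))
theorem Q32497 : ∀ i, i < 32497 → P i := stepQ 32496 Q32496 (allL N32496 (tt N16548 (iv1 F83432)) (tt N27233 F83433) (tt N32764 (iv2 F83490)) (tt N56293 F163363) (tt N32749 F83464) (tt N50968 (iv5 F143175)) (tt N16319 (iv6 D52534)) (tt N16449 F82954))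
theorem Q32498 : ∀ i, i < 32498 → P i := stepQ 32497 Q32497 (allL N32497 (tt N41738 (iv1 F104838)) (tt N16320 (iv0 D52535)) (tt N50259 F139353) (tt N50280 (iv3 F139398)) (tt N39169 (iv4 F106582)) (tt N29821 (iv5 F106583)) (tt N60849 D113775) (tt N39631 F106581))
theorem Q32499 : ∀ i, i < 32499 → P i := stepQ 32498 Q32498 (allL N32498 (tt N16320 (iv1 D52536)) (tt N41738 (iv0 F104837)) (tt N39631 F106575) (tt N60850 D113776) (tt N39627 (iv4 F106580)) (tt N29822 F82955) (tt N60851 D113777) (tt N50259 (iv7 F139355)))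
theorem Q32500 : ∀ i, i < 32500 → P i := stepQ 32499 Q32499 (allL N32499 (tt N39776 (iv1 F139189)) (tt N60852 D113778) (tt N50260 (iv2 F139356)) (tt N39713 (iv3 F106585)) (tt N16320 (iv4 D52537)) (tt N60853 D113779) (tt N26933 F83014) (tt N55709 (iv7 F161486)))
theorem Q32501 : ∀ i, i < 32501 → P i := stepQ 32500 Q32500 (allL N32500 (tt N55716 (iv1 F161507)) (tt N16321 (iv0 D52538)) (tt N55714 (iv2 F161505)) (tt N60854 D113780) (tt N60593 (iv4 F204763)) (tt N51353 (iv5 F251942)) (tt N60855 D113783) (tt N55715 F161506))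
theorem Q32502 : ∀ i, i < 32502 → P i := stepQ 32501 Q32501 (allL N32501 (tt N16321 (iv1 D52539)) (tt N55716 F161503) (tt N55715 (iv2 F161498)) (tt N60856 D113784) (tt N60594 (iv4 F176623)) (tt N45146 (iv5 F114614)) (tt N55825 (iv6 F177326)) (tt N55714 (iv7 F161504)))
theorem Q32503 : ∀ i, i < 32503 → P i := stepQ 32502 Q32502 (allL N32502 (tt N55715 (iv1 F161496)) (tt N55714 F161502) (tt N55716 (iv2 F161499)) (tt N26934 F83015) (tt N60532 (iv4 F176551)) (tt N26930 F83016) (tt N55713 (iv6 F161492)) (tt N16321 (iv7 D52540)))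
theorem Q32504 : ∀ i, i < 32504 → P i := stepQ 32503 Q32503 (allL N32503 (tt N16335 (iv1 F83019)) (tt N16334 F83020) (tt N16338 F83017) (tt N41767 (iv3 F104881)) (tt N60857 D113786) (tt N16322 (iv5 D52541)) (tt N60858 D113787) (tt N16333 F83018))
theorem Q32505 : ∀ i, i < 32505 → P i := stepQ 32504 Q32504 (allL N32504 (tt N16872 F83025) (tt N16874 (iv0 F83026)) (tt N16327 F83022) (tt N16323 (iv3 D52542)) (tt N18420 F83023) (tt N39656 F327588) (tt N16323 (iv6 F83027)) (tt N16329 F83024))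
theorem Q32506 : ∀ i, i < 32506 → P i := stepQ 32505 Q32505 (allL N32505 (tt N16324 (iv1 D52544)) (tt N50089 (iv0 F138862)) (tt N50256 (iv2 F139335)) (tt N26920 (iv3 F83031)) (tt N50256 (iv4 F139336)) (tt N60859 D113790) (tt N16473 F83032) (tt N50278 (iv7 F139393)))
theorem Q32507 : ∀ i, i < 32507 → P i := stepQ 32506 Q32506 (allL N32506 (tt N60850 F177032) (tt N60860 D113791) (tt N56241 (iv2 F163251)) (tt N16326 F83033) (tt N60861 D113792) (tt N16324 (iv5 D52545)) (tt N38116 (iv6 F328042)) (tt N56245 (iv7 F163261)))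
theorem Q32508 : ∀ i, i < 32508 → P i := stepQ 32507 Q32507 (allL N32507 (tt N16330 (iv1 F83038)) (tt N16325 (iv0 D52546)) (tt N16859 (iv2 F83036)) (tt N21097 F83035) (tt N32466 F83034) (tt N60862 D113794) (tt N43202 (iv6 F108290)) (tt N18418 F83037))
theorem Q32509 : ∀ i, i < 32509 → P i := stepQ 32508 Q32508 (allL N32508 (tt N41371 (iv1 F104042)) (tt N21106 F84933) (tt N18419 F83039) (tt N23282 F83040) (tt N39650 F328480) (tt N16325 (iv5 D52547)) (tt N60863 D113795) (tt N39649 (iv7 F328830)))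
theorem Q32510 : ∀ i, i < 32510 → P i := stepQ 32509 Q32509 (allL N32509 (tt N18418 (iv1 F83044)) (tt N16859 F83045) (tt N16330 F83041) (tt N18430 F83042) (tt N16328 F83043) (tt N39649 F329165) (tt N38327 (iv6 F97968)) (tt N16325 (iv7 D52548)))
theorem Q32511 : ∀ i, i < 32511 → P i := stepQ 32510 Q32510 (allL N32510 (tt N39655 (iv1 F327034)) (tt N32413 F83048) (tt N16331 F83046) (tt N56245 (iv3 F163259)) (tt N33014 F326218) (tt N16328 F83047) (tt N60864 D113806) (tt N16326 (iv7 D52551)))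
theorem Q32512 : ∀ i, i < 32512 → P i := stepQ 32511 Q32511 (allL N32511 (tt N41755 F104873) (tt N42359 F106061) (tt N39656 F327584) (tt N56241 (iv3 F163252)) (tt N60865 D113807) (tt N16327 (iv5 D52552)) (tt N38117 (iv6 F328043)) (tt N42357 F106048))
theorem Q32513 : ∀ i, i < 32513 → P i := stepQ 32512 Q32512 (allL N32512 (tt N21265 F83053) (tt N19015 F83052) (tt N16332 F83049) (tt N26840 F83050) (tt N38327 (iv4 F97967)) (tt N25785 (iv5 F83051)) (tt N16328 (iv6 D52553)) (tt N50085 (iv7 F138841)))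
theorem Q32514 : ∀ i, i < 32514 → P i := stepQ 32513 Q32513 (allL N32513 (tt N42359 (iv1 F106062)) (tt N41755 F104874) (tt N42357 F106047) (tt N16331 F83055) (tt N60866 D113808) (tt N16329 (iv5 D52554)) (tt N60867 D113809) (tt N39656 F327589))
theorem Q32515 : ∀ i, i < 32515 → P i := stepQ 32514 Q32514 (allL N32514 (tt N19015 F83060) (tt N21265 F83059) (tt N50085 (iv2 F138839)) (tt N16332 F83056) (tt N46111 (iv4 F120334)) (tt N25782 (iv5 F83058)) (tt N16329 (iv6 D52555)) (tt N16332 F83057))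
theorem Q32516 : ∀ i, i < 32516 → P i := stepQ 32515 Q32515 (allL N32515 (tt N21106 (iv1 F84934)) (tt N41371 (iv0 F104041)) (tt N39649 (iv2 F328829)) (tt N18427 F83061) (tt N39160 F328457) (tt N16330 (iv5 D52556)) (tt N60868 D113810) (tt N18419 F83062))
theorem Q32517 : ∀ i, i < 32517 → P i := stepQ 32516 Q32516 (allL N32516 (tt N19068 F83065) (tt N41897 (iv0 F105049)) (tt N38327 (iv2 F97966)) (tt N18428 F83063) (tt N16332 F83064) (tt N42582 (iv5 F106439)) (tt N16330 (iv6 D52557)) (tt N46111 (iv7 F120337)))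
theorem Q32518 : ∀ i, i < 32518 → P i := stepQ 32517 Q32517 (allL N32517 (tt N60854 (iv1 F363889)) (tt N60869 D113815) (tt N60864 (iv2 F177074)) (tt N60867 (iv3 F177081)) (tt N38115 F327590) (tt N53978 (iv5 F155622)) (tt N16331 (iv6 D52559)) (tt N38112 (iv7 F328059)))
theorem Q32519 : ∀ i, i < 32519 → P i := stepQ 32518 Q32518 (allL N32518 (tt N16332 (iv1 D52560)) (tt N50085 (iv0 F138843)) (tt N19015 (iv2 F83069)) (tt N26915 (iv3 F83070)) (tt N16930 F83068) (tt N27211 F83067) (tt N16485 (iv6 F83071)) (tt N21265 F83066))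
theorem Q32520 : ∀ i, i < 32520 → P i := stepQ 32519 Q32519 (allL N32519 (tt N16338 (iv1 F83072)) (tt N16333 (iv0 D52561)) (tt N16334 (iv2 F83074)) (tt N60870 D113817) (tt N38976 F327475) (tt N20900 F83073) (tt N38975 (iv6 F327986)) (tt N16335 (iv7 F83075)))
theorem Q32521 : ∀ i, i < 32521 → P i := stepQ 32520 Q32520 (allL N32520 (tt N16333 (iv1 D52562)) (tt N16338 F83076) (tt N16335 (iv2 F83079)) (tt N60871 D113820) (tt N39652 F327473) (tt N20899 F83078) (tt N60872 D113822) (tt N16334 F83077))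
theorem Q32522 : ∀ i, i < 32522 → P i := stepQ 32521 Q32521 (allL N32521 (tt N60873 D113823) (tt N60874 D113824) (tt N16336 F83080) (tt N60875 D113825) (tt N16333 (iv4 D52563)) (tt N39646 (iv5 F328370)) (tt N60876 D113827) (tt N60857 (iv7 F177040)))
theorem Q32523 : ∀ i, i < 32523 → P i := stepQ 32522 Q32522 (allL N32522 (tt N33012 (iv1 F327836)) (tt N19853 F327340) (tt N16337 F83081) (tt N55719 (iv3 F161512)) (tt N60876 (iv4 F177113)) (tt N16501 F83082) (tt N16333 (iv6 D52564)) (tt N39008 (iv7 F327844)))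
theorem Q32524 : ∀ i, i < 32524 → P i := stepQ 32523 Q32523 (allL N32523 (tt N60846 F177021) (tt N60859 (iv0 F177051)) (tt N60877 D113831) (tt N16334 (iv3 D52565)) (tt N60878 D113832) (tt N57257 F165917) (tt N60879 D113833) (tt N60871 (iv7 F177095)))
theorem Q32525 : ∀ i, i < 32525 → P i := stepQ 32524 Q32524 (allL N32524 (tt N33333 F325994) (tt N39012 (iv0 F326867)) (tt N38976 (iv2 F326879)) (tt N60880 D113836) (tt N16334 (iv4 D52566)) (tt N39262 (iv5 F326887)) (tt N19740 (iv6 F326888)) (tt N39652 (iv7 F326870)))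
theorem Q32526 : ∀ i, i < 32526 → P i := stepQ 32525 Q32525 (allL N32525 (tt N19842 (iv1 F327988)) (tt N38987 (iv0 F327989)) (tt N38975 (iv2 F327985)) (tt N60879 (iv3 F177127)) (tt N19740 F327477) (tt N60881 D113841) (tt N16334 (iv6 D52567)) (tt N38973 (iv7 F327993)))
theorem Q32527 : ∀ i, i < 32527 → P i := stepQ 32526 Q32526 (allL N32526 (tt N21231 (iv1 F83084)) (tt N21235 (iv0 F83085)) (tt N60882 D113843) (tt N16335 (iv3 D52568)) (tt N60883 D113844) (tt N21481 F83083) (tt N60884 D113845) (tt N60870 (iv7 F177087)))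
theorem Q32528 : ∀ i, i < 32528 → P i := stepQ 32527 Q32527 (allL N32527 (tt N39012 (iv1 F326868)) (tt N33333 F325993) (tt N39652 (iv2 F326869)) (tt N60885 D113846) (tt N16335 (iv4 D52569)) (tt N39263 (iv5 F326877)) (tt N19749 (iv6 F326878)) (tt N38976 (iv7 F326880)))
theorem Q32529 : ∀ i, i < 32529 → P i := stepQ 32528 Q32528 (allL N32528 (tt N60886 D113849) (tt N33004 (iv0 F327979)) (tt N60872 (iv2 F177099)) (tt N60884 (iv3 F177141)) (tt N19749 F327474) (tt N60887 D113851) (tt N16335 (iv6 D52570)) (tt N60888 D113852))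
theorem Q32530 : ∀ i, i < 32530 → P i := stepQ 32529 Q32529 (allL N32529 (tt N60857 (iv1 F177043)) (tt N16336 (iv0 D52571)) (tt N60873 (iv2 F177104)) (tt N60889 D113853) (tt N60890 D113854) (tt N60891 D113855) (tt N60892 D113856) (tt N60874 (iv7 F177106)))
theorem Q32531 : ∀ i, i < 32531 → P i := stepQ 32530 Q32530 (allL N32530 (tt N16336 (iv1 D52572)) (tt N60857 (iv0 F177042)) (tt N60874 F177108) (tt N37977 (iv3 F328267)) (tt N44594 F112655) (tt N60893 D113858) (tt N37975 (iv6 F328273)) (tt N60873 F177103))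
theorem Q32532 : ∀ i, i < 32532 → P i := stepQ 32531 Q32531 (allL N32531 (tt N37731 (iv1 F328771)) (tt N60894 D113861) (tt N31501 (iv2 F328778)) (tt N16336 (iv3 D52573)) (tt N16344 F83086) (tt N18344 (iv5 F328411)) (tt N18727 (iv6 F328643)) (tt N31500 (iv7 F328373)))
theorem Q32533 : ∀ i, i < 32533 → P i := stepQ 32532 Q32532 (allL N32532 (tt N20146 F328026) (tt N55925 F328027) (tt N39646 (iv2 F328369)) (tt N18344 (iv3 F328410)) (tt N39159 (iv4 F328046)) (tt N16336 (iv5 D52574)) (tt N60895 D113868) (tt N31499 (iv7 F328376)))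
theorem Q32534 : ∀ i, i < 32534 → P i := stepQ 32533 Q32533 (allL N32533 (tt N58951 (iv1 F328640)) (tt N35966 (iv0 F328641)) (tt N60876 (iv2 F177112)) (tt N18727 (iv3 F328642)) (tt N16337 F83087) (tt N60896 D113872) (tt N16336 (iv6 D52575)) (tt N37790 F328250))
theorem Q32535 : ∀ i, i < 32535 → P i := stepQ 32534 Q32534 (allL N32534 (tt N60874 (iv1 F177105)) (tt N60873 F177102) (tt N60857 (iv2 F177039)) (tt N31500 (iv3 F328372)) (tt N16338 F83088) (tt N31499 (iv5 F328375)) (tt N60897 D113874) (tt N16336 (iv7 D52576)))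
theorem Q32536 : ∀ i, i < 32536 → P i := stepQ 32535 Q32535 (allL N32535 (tt N39008 F328248) (tt N16337 (iv0 D52577)) (tt N33012 (iv2 F328626)) (tt N60898 D113876) (tt N16585 (iv4 F328633)) (tt N60899 D113878) (tt N16584 (iv6 F328638)) (tt N19853 (iv7 F328639)))
theorem Q32537 : ∀ i, i < 32537 → P i := stepQ 32536 Q32536 (allL N32536 (tt N19853 F327341) (tt N33012 (iv0 F327835)) (tt N39008 (iv2 F327843)) (tt N16348 F83089) (tt N37790 (iv4 F327845)) (tt N16516 F83090) (tt N60900 D113885) (tt N16337 (iv7 D52579)))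
theorem Q32538 : ∀ i, i < 32538 → P i := stepQ 32537 Q32537 (allL N32537 (tt N60901 D113886) (tt N60902 D113887) (tt N60858 (iv2 F177044)) (tt N16349 F83091) (tt N60897 (iv4 F177172)) (tt N60903 D113888) (tt N16338 (iv6 D52580)) (tt N60900 (iv7 F177177)))
theorem Q32539 : ∀ i, i < 32539 → P i := stepQ 32538 Q32538 (allL N32538 (tt N16339 (iv1 D52581)) (tt N16469 F83092) (tt N16518 F83095) (tt N16497 F83096) (tt N18603 (iv4 F83094)) (tt N60904 D113889) (tt N38282 (iv6 F97843)) (tt N16490 F83093))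
theorem Q32540 : ∀ i, i < 32540 → P i := stepQ 32539 Q32539 (allL N32539 (tt N60905 D113890) (tt N60906 D113891) (tt N22134 F83097) (tt N16350 F83098) (tt N60907 D113892) (tt N16339 (iv5 D52582)) (tt N60903 (iv6 F177180)) (tt N16519 F83099))
theorem Q32541 : ∀ i, i < 32541 → P i := stepQ 32540 Q32540 (allL N32540 (tt N33639 F85339) (tt N33638 (iv0 F85333)) (tt N16340 (iv2 D52583)) (tt N55735 (iv3 F161528)) (tt N60908 D113893) (tt N18387 F83100) (tt N60909 D113894) (tt N41748 (iv7 F104858)))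
theorem Q32542 : ∀ i, i < 32542 → P i := stepQ 32541 Q32541 (allL N32541 (tt N41721 (iv1 F104821)) (tt N41733 (iv0 F104830)) (tt N60908 (iv2 F177196)) (tt N60493 (iv3 F176514)) (tt N16340 (iv4 D52584)) (tt N60910 D113895) (tt N54742 (iv6 F349121)) (tt N55741 (iv7 F161549)))
theorem Q32543 : ∀ i, i < 32543 → P i := stepQ 32542 Q32542 (allL N32542 (tt N60911 D113897) (tt N60912 D113898) (tt N60909 (iv2 F177197)) (tt N16341 F83101) (tt N54742 (iv4 F349120)) (tt N60913 D113899) (tt N16340 (iv6 D52585)) (tt N60914 D113900))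
theorem Q32544 : ∀ i, i < 32544 → P i := stepQ 32543 Q32543 (allL N32543 (tt N55740 (iv1 F161548)) (tt N16341 (iv0 D52586)) (tt N38984 (iv2 F326358)) (tt N60915 D113902) (tt N60669 (iv4 F391697)) (tt N60916 D113904) (tt N38982 F325502) (tt N55738 (iv7 F362907)))
theorem Q32545 : ∀ i, i < 32545 → P i := stepQ 32544 Q32544 (allL N32544 (tt N16341 (iv1 D52587)) (tt N55740 F161547) (tt N55738 (iv2 F362905)) (tt N38987 (iv3 F327706)) (tt N60670 (iv4 F391702)) (tt N60917 D113909) (tt N60918 D113910) (tt N38984 F327172))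
theorem Q32546 : ∀ i, i < 32546 → P i := stepQ 32545 Q32545 (allL N32545 (tt N60919 D113911) (tt N60920 D113912) (tt N55739 (iv2 F161541)) (tt N60913 (iv3 F177199)) (tt N60921 D113913) (tt N16341 (iv5 D52588)) (tt N18389 F83102) (tt N60922 D113914))
theorem Q32547 : ∀ i, i < 32547 → P i := stepQ 32546 Q32546 (allL N32546 (tt N55738 (iv1 F161540)) (tt N38984 F362883) (tt N55740 (iv2 F161544)) (tt N60914 (iv3 F177201)) (tt N60502 (iv4 F176519)) (tt N60922 (iv5 F177207)) (tt N55745 (iv6 F161555)) (tt N16341 (iv7 D52589)))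
theorem Q32548 : ∀ i, i < 32548 → P i := stepQ 32547 Q32547 (allL N32547 (tt N50257 F139345) (tt N50258 (iv0 F139348)) (tt N16342 (iv2 D52592)) (tt N41748 (iv3 F104859)) (tt N60923 D113915) (tt N29865 F83103) (tt N60924 D113916) (tt N55735 (iv7 F161530)))
theorem Q32549 : ∀ i, i < 32549 → P i := stepQ 32548 Q32548 (allL N32548 (tt N60925 D113917) (tt N60926 D113918) (tt N60923 (iv2 F177208)) (tt N60460 (iv3 F176454)) (tt N16342 (iv4 D52593)) (tt N60927 D113919) (tt N60928 D113920) (tt N55736 (iv7 F161534)))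
theorem Q32550 : ∀ i, i < 32550 → P i := stepQ 32549 Q32549 (allL N32549 (tt N29380 F139352) (tt N60929 D113921) (tt N60924 (iv2 F177211)) (tt N16343 F83104) (tt N60928 (iv4 F177277)) (tt N56428 (iv5 F163738)) (tt N16342 (iv6 D52594)) (tt N60930 D113922))
theorem Q32551 : ∀ i, i < 32551 → P i := stepQ 32550 Q32550 (allL N32550 (tt N55745 (iv1 F161558)) (tt N16343 (iv0 D52595)) (tt N55743 (iv2 F177290)) (tt N60886 (iv3 F349139)) (tt N36819 F332850) (tt N60931 D113926) (tt N60932 D113927) (tt N55744 F177293))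
theorem Q32552 : ∀ i, i < 32552 → P i := stepQ 32551 Q32551 (allL N32551 (tt N16343 (iv1 D52596)) (tt N55745 F161557) (tt N55744 F177292) (tt N60933 D113928) (tt N53030 (iv4 F332864)) (tt N60934 D113930) (tt N60935 D113931) (tt N55743 (iv7 F177291)))
theorem Q32553 : ∀ i, i < 32553 → P i := stepQ 32552 Q32552 (allL N32552 (tt N55744 (iv1 F161553)) (tt N55743 F161556) (tt N55745 (iv2 F161554)) (tt N60930 (iv3 F177283)) (tt N60467 (iv4 F176470)) (tt N56431 (iv5 F163739)) (tt N55740 (iv6 F161545)) (tt N16343 (iv7 D52597)))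
theorem Q32554 : ∀ i, i < 32554 → P i := stepQ 32553 Q32553 (allL N32553 (tt N55671 (iv1 F161209)) (tt N16344 (iv0 D52598)) (tt N55673 (iv2 F342854)) (tt N60936 D113933) (tt N56710 (iv4 F329449)) (tt N60046 (iv5 F329450)) (tt N37725 (iv6 F329451)) (tt N55672 (iv7 F329453)))
theorem Q32555 : ∀ i, i < 32555 → P i := stepQ 32554 Q32554 (allL N32554 (tt N16344 (iv1 D52599)) (tt N55671 F161208) (tt N55672 (iv2 F329452)) (tt N60937 D113938) (tt N60938 D113939) (tt N60047 (iv5 F362276)) (tt N60939 D113941) (tt N55673 (iv7 F342855)))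
theorem Q32556 : ∀ i, i < 32556 → P i := stepQ 32555 Q32555 (allL N32555 (tt N55673 (iv1 F161211)) (tt N55672 F161210) (tt N16344 (iv2 D52600)) (tt N55748 (iv3 F161560)) (tt N31501 F329139) (tt N55662 (iv5 F161198)) (tt N37788 (iv6 F329386)) (tt N55671 (iv7 F161207)))
theorem Q32557 : ∀ i, i < 32557 → P i := stepQ 32556 Q32556 (allL N32556 (tt N56708 (iv1 F329383)) (tt N30108 (iv0 F329384)) (tt N37788 (iv2 F329385)) (tt N16345 F83105) (tt N18727 F329052) (tt N60940 D113945) (tt N16344 (iv6 D52601)) (tt N37791 F329053))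
theorem Q32558 : ∀ i, i < 32558 → P i := stepQ 32557 Q32557 (allL N32557 (tt N55753 (iv1 F161575)) (tt N16345 (iv0 D52602)) (tt N55750 (iv2 F177868)) (tt N60941 D113948) (tt N29832 F177855) (tt N60942 D113950) (tt N60943 D113951) (tt N55751 (iv7 F177864)))
theorem Q32559 : ∀ i, i < 32559 → P i := stepQ 32558 Q32558 (allL N32558 (tt N16345 (iv1 D52603)) (tt N55753 F161574) (tt N55751 (iv2 F177863)) (tt N60944 D113953) (tt N29833 F177843) (tt N60945 D113955) (tt N37736 F332621) (tt N55750 (iv7 F177869)))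
theorem Q32560 : ∀ i, i < 32560 → P i := stepQ 32559 Q32559 (allL N32559 (tt N60946 D113957) (tt N60947 D113958) (tt N55752 (iv2 F161568)) (tt N60940 (iv3 F177298)) (tt N60948 D113959) (tt N16345 (iv5 D52604)) (tt N55679 (iv6 F161226)) (tt N60949 D113960))
theorem Q32561 : ∀ i, i < 32561 → P i := stepQ 32560 Q32560 (allL N32560 (tt N55751 (iv1 F161567)) (tt N55750 F161573) (tt N55753 (iv2 F161570)) (tt N37791 (iv3 F328647)) (tt N16348 F83106) (tt N60949 (iv5 F177302)) (tt N55678 (iv6 F161219)) (tt N16345 (iv7 D52605)))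
theorem Q32562 : ∀ i, i < 32562 → P i := stepQ 32561 Q32561 (allL N32561 (tt N60950 D113967) (tt N41754 (iv0 F336818)) (tt N60951 D113969) (tt N16346 (iv3 D52607)) (tt N60952 D113970) (tt N60953 D113971) (tt N60954 D113972) (tt N55758 (iv7 F193486)))
theorem Q32563 : ∀ i, i < 32563 → P i := stepQ 32562 Q32562 (allL N32562 (tt N56168 F177632) (tt N29882 F177633) (tt N55755 (iv2 F193494)) (tt N60955 D113976) (tt N16346 (iv4 D52608)) (tt N60956 D113977) (tt N60957 D113978) (tt N55759 (iv7 F193488)))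
theorem Q32564 : ∀ i, i < 32564 → P i := stepQ 32563 Q32563 (allL N32563 (tt N60958 D113980) (tt N44611 F177324) (tt N55756 (iv2 F193496)) (tt N60953 (iv3 F177311)) (tt N60959 D113981) (tt N16346 (iv5 D52609)) (tt N60960 D113982) (tt N42362 (iv7 F193480)))
theorem Q32565 : ∀ i, i < 32565 → P i := stepQ 32564 Q32564 (allL N32564 (tt N60935 (iv1 F347546)) (tt N32999 (iv0 F333503)) (tt N55757 (iv2 F193498)) (tt N60954 (iv3 F177312)) (tt N60957 (iv4 F177315)) (tt N46118 F120359) (tt N16346 (iv6 D52610)) (tt N60961 D113986))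
theorem Q32566 : ∀ i, i < 32566 → P i := stepQ 32565 Q32565 (allL N32565 (tt N60845 (iv1 F234987)) (tt N60962 D113989) (tt N47479 (iv2 F327304)) (tt N16347 (iv3 D52612)) (tt N60963 D113991) (tt N47002 F326557) (tt N60964 D113993) (tt N55754 (iv7 F193493)))
theorem Q32567 : ∀ i, i < 32567 → P i := stepQ 32566 Q32566 (allL N32566 (tt N29882 (iv1 F177630)) (tt N56168 (iv0 F177631)) (tt N55759 (iv2 F193487)) (tt N60965 D113994) (tt N16347 (iv4 D52613)) (tt N56716 (iv5 F365928)) (tt N60966 D113996) (tt N55755 (iv7 F193495)))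
theorem Q32568 : ∀ i, i < 32568 → P i := stepQ 32567 Q32567 (allL N32567 (tt N44611 (iv1 F177323)) (tt N60958 (iv0 F177322)) (tt N42362 (iv2 F193479)) (tt N47002 F326550) (tt N60967 D113997) (tt N16347 (iv5 D52614)) (tt N23210 F83109) (tt N55756 (iv7 F193497)))
theorem Q32569 : ∀ i, i < 32569 → P i := stepQ 32568 Q32568 (allL N32568 (tt N19843 F325500) (tt N38982 F325501) (tt N38980 (iv2 F326349)) (tt N60964 (iv3 F177488)) (tt N60966 (iv4 F177489)) (tt N60968 D114000) (tt N16347 (iv6 D52615)) (tt N38981 (iv7 F326357)))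
theorem Q32570 : ∀ i, i < 32570 → P i := stepQ 32569 Q32569 (allL N32569 (tt N55762 (iv1 F161585)) (tt N55761 F161584) (tt N55760 (iv2 F161579)) (tt N60900 (iv3 F177176)) (tt N55678 (iv4 F161218)) (tt N60969 D114002) (tt N16348 (iv6 D52616)) (tt N16349 F83110))
theorem Q32571 : ∀ i, i < 32571 → P i := stepQ 32570 Q32570 (allL N32570 (tt N55760 (iv1 F161583)) (tt N16349 (iv0 D52617)) (tt N55761 (iv2 F209206)) (tt N60970 D114004) (tt N35866 F377849) (tt N60971 D114006) (tt N60972 D114007) (tt N55762 (iv7 F209209)))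
theorem Q32572 : ∀ i, i < 32572 → P i := stepQ 32571 Q32571 (allL N32571 (tt N16349 (iv1 D52618)) (tt N55760 F161582) (tt N55762 (iv2 F209208)) (tt N55401 (iv3 F251770)) (tt N35867 F377845) (tt N60973 D114011) (tt N55399 (iv6 F251769)) (tt N55761 (iv7 F209207)))
theorem Q32573 : ∀ i, i < 32573 → P i := stepQ 32572 Q32572 (allL N32572 (tt N60974 D114013) (tt N60975 D114014) (tt N44969 (iv2 F114219)) (tt N60903 (iv3 F177179)) (tt N60976 D114015) (tt N16349 (iv5 D52619)) (tt N16350 F83111) (tt N60969 (iv7 F177495)))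
theorem Q32574 : ∀ i, i < 32574 → P i := stepQ 32573 Q32573 (allL N32573 (tt N44967 (iv1 F114215)) (tt N44966 F114211) (tt N32973 (iv2 F83794)) (tt N60977 D114016) (tt N16350 (iv4 D52620)) (tt N23136 F83113) (tt N60976 (iv6 F177499)) (tt N16553 F83112))
theorem Q32575 : ∀ i, i < 32575 → P i := stepQ 32574 Q32574 (allL N32574 (tt N34395 (iv1 F87463)) (tt N29889 (iv0 F83118)) (tt N21474 F83114) (tt N17440 F83115) (tt N16351 (iv4 D52621)) (tt N42024 (iv5 F105276)) (tt N21474 F83116) (tt N23196 F83117))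
theorem Q32576 : ∀ i, i < 32576 → P i := stepQ 32575 Q32575 (allL N32575 (tt N16376 F83124) (tt N16376 F83125) (tt N23197 F83119) (tt N21646 F83120) (tt N26436 F83121) (tt N27077 (iv5 F83123)) (tt N16352 (iv6 D52622)) (tt N23197 F83122))
theorem Q32577 : ∀ i, i < 32577 → P i := stepQ 32576 Q32576 (allL N32576 (tt N23198 F83131) (tt N21644 F83130) (tt N16354 F83126) (tt N16396 F83127) (tt N21323 F83129) (tt N16353 (iv5 D52623)) (tt N60978 D114017) (tt N21322 F83128))
theorem Q32578 : ∀ i, i < 32578 → P i := stepQ 32577 Q32577 (allL N32577 (tt N60979 D114018) (tt N52585 (iv0 F360947)) (tt N60978 (iv2 F177502)) (tt N16356 F83132) (tt N42006 F105254) (tt N60980 D114020) (tt N16354 (iv6 D52624)) (tt N60981 D114021))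
theorem Q32579 : ∀ i, i < 32579 → P i := stepQ 32578 Q32578 (allL N32578 (tt N29872 F94275) (tt N29869 (iv0 F83135)) (tt N32468 F83133) (tt N16357 F83134) (tt N60982 D114022) (tt N16355 (iv5 D52625)) (tt N60980 (iv6 F177508)) (tt N56648 (iv7 F164521)))
theorem Q32580 : ∀ i, i < 32580 → P i := stepQ 32579 Q32579 (allL N32579 (tt N23186 (iv1 F83143)) (tt N16356 (iv0 D52626)) (tt N23183 F177776) (tt N60983 D114024) (tt N17336 (iv4 F177778)) (tt N60984 D114026) (tt N56173 (iv6 F163138)) (tt N23184 F177777))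
theorem Q32581 : ∀ i, i < 32581 → P i := stepQ 32580 Q32580 (allL N32580 (tt N16356 (iv1 D52627)) (tt N23186 F83137) (tt N23184 (iv2 F177774)) (tt N38235 (iv3 F332576)) (tt N17337 F177773) (tt N38853 (iv5 F332588)) (tt N60985 D114031) (tt N23183 (iv7 F177775)))
theorem Q32582 : ∀ i, i < 32582 → P i := stepQ 32581 Q32581 (allL N32581 (tt N60986 D114032) (tt N38227 F333205) (tt N23185 F83138) (tt N60980 (iv3 F177507)) (tt N60987 D114034) (tt N16356 (iv5 D52628)) (tt N16357 F83139) (tt N60988 D114035))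
theorem Q32583 : ∀ i, i < 32583 → P i := stepQ 32582 Q32582 (allL N32582 (tt N23184 (iv1 F83144)) (tt N23183 F83145) (tt N23186 F83140) (tt N60981 (iv3 F177509)) (tt N23202 F83141) (tt N60988 (iv5 F177520)) (tt N23202 F83142) (tt N16356 (iv7 D52629)))
theorem Q32584 : ∀ i, i < 32584 → P i := stepQ 32583 Q32583 (allL N32583 (tt N42376 (iv1 F106076)) (tt N42379 (iv0 F106083)) (tt N23189 F83146) (tt N60989 D114036) (tt N16357 (iv4 D52630)) (tt N45054 (iv5 F114445)) (tt N60987 (iv6 F177518)) (tt N45053 (iv7 F114440)))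
theorem Q32585 : ∀ i, i < 32585 → P i := stepQ 32584 Q32584 (allL N32584 (tt N60990 D114037) (tt N60991 D114038) (tt N23865 F83147) (tt N16359 F83148) (tt N52196 (iv4 F147996)) (tt N29991 F83149) (tt N16358 (iv6 D52631)) (tt N60992 D114039))
theorem Q32586 : ∀ i, i < 32586 → P i := stepQ 32585 Q32585 (allL N32585 (tt N23202 (iv1 F83155)) (tt N16359 (iv0 D52632)) (tt N23200 (iv2 F193477)) (tt N43250 F239633) (tt N23210 (iv4 F177636)) (tt N60993 D114043) (tt N60967 F177635) (tt N23201 F193474))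
theorem Q32587 : ∀ i, i < 32587 → P i := stepQ 32586 Q32586 (allL N32586 (tt N16359 (iv1 D52633)) (tt N23202 F83150) (tt N23201 F193473) (tt N54832 (iv3 F290594)) (tt N23211 (iv4 F177659)) (tt N60994 D114048) (tt N54831 (iv6 F290551)) (tt N23200 (iv7 F193478)))
theorem Q32588 : ∀ i, i < 32588 → P i := stepQ 32587 Q32587 (allL N32587 (tt N23201 (iv1 F83156)) (tt N23200 F83157) (tt N23202 F83151) (tt N60992 (iv3 F177526)) (tt N23186 F83152) (tt N30000 F83153) (tt N23186 F83154) (tt N16359 (iv7 D52634)))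
theorem Q32589 : ∀ i, i < 32589 → P i := stepQ 32588 Q32588 (allL N32588 (tt N23844 (iv1 F83160)) (tt N16361 (iv0 D52635)) (tt N20906 (iv2 F83159)) (tt N45179 (iv3 F114692)) (tt N16804 F83158) (tt N60890 (iv5 F177148)) (tt N60995 D114050) (tt N20905 F83161))
theorem Q32590 : ∀ i, i < 32590 → P i := stepQ 32589 Q32589 (allL N32589 (tt N29992 F83166) (tt N34093 F86724) (tt N23837 F83165) (tt N57432 (iv3 F166721)) (tt N60996 D114051) (tt N16363 (iv5 D52637)) (tt N43252 (iv6 F108419)) (tt N34091 (iv7 F86725)))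
theorem Q32591 : ∀ i, i < 32591 → P i := stepQ 32590 Q32590 (allL N32590 (tt N22049 F83170) (tt N22042 F83171) (tt N16367 F83167) (tt N60997 D114052) (tt N16364 (iv4 D52638)) (tt N22465 F83168) (tt N50770 (iv6 F142378)) (tt N23845 F83169))
theorem Q32592 : ∀ i, i < 32592 → P i := stepQ 32591 Q32591 (allL N32591 (tt N16391 (iv1 F83247)) (tt N26421 (iv0 F83174)) (tt N50745 F142216) (tt N16365 (iv3 D52639)) (tt N32888 (iv4 F83706)) (tt N16401 F83172) (tt N60998 D114053) (tt N22071 F83173))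
theorem Q32593 : ∀ i, i < 32593 → P i := stepQ 32592 Q32592 (allL N32592 (tt N32850 (iv1 F83658)) (tt N43170 (iv0 F108239)) (tt N22076 F83175) (tt N22964 F83178) (tt N16365 (iv4 D52640)) (tt N22963 F83177) (tt N60999 D114054) (tt N22073 F83176))
theorem Q32594 : ∀ i, i < 32594 → P i := stepQ 32593 Q32593 (allL N32593 (tt N61000 D114055) (tt N32940 F339738) (tt N22077 F83179) (tt N60998 (iv3 F177552)) (tt N60999 (iv4 F177555)) (tt N61001 D114057) (tt N16365 (iv6 D52641)) (tt N61002 D114058))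
theorem Q32595 : ∀ i, i < 32595 → P i := stepQ 32594 Q32594 (allL N32594 (tt N43170 (iv1 F108240)) (tt N32850 (iv0 F83657)) (tt N22073 F83180) (tt N61003 D114059) (tt N16366 (iv4 D52642)) (tt N24423 F83181) (tt N61004 D114060) (tt N22076 F83182))
theorem Q32596 : ∀ i, i < 32596 → P i := stepQ 32595 Q32595 (allL N32595 (tt N29843 F359177) (tt N56336 (iv0 F359178)) (tt N22074 F83183) (tt N56087 (iv3 F162586)) (tt N61004 (iv4 F177570)) (tt N60730 (iv5 F176797)) (tt N16366 (iv6 D52643)) (tt N56335 (iv7 F334813)))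
theorem Q32597 : ∀ i, i < 32597 → P i := stepQ 32596 Q32596 (allL N32596 (tt N23845 (iv1 F83185)) (tt N16367 (iv0 D52644)) (tt N22049 (iv2 F83186)) (tt N51905 (iv3 F147432)) (tt N17065 F83184) (tt N36444 (iv5 F94625)) (tt N43182 (iv6 F303688)) (tt N22042 (iv7 F83187)))
theorem Q32598 : ∀ i, i < 32598 → P i := stepQ 32597 Q32597 (allL N32597 (tt N16367 (iv1 D52645)) (tt N23845 F83188) (tt N22042 F83191) (tt N35097 (iv3 F90848)) (tt N17068 (iv4 F83190)) (tt N36445 (iv5 F94631)) (tt N61005 D114065) (tt N22049 F83189))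
theorem Q32599 : ∀ i, i < 32599 → P i := stepQ 32598 Q32598 (allL N32598 (tt N36529 (iv1 F94757)) (tt N34211 (iv0 F86968)) (tt N22465 F83192) (tt N32889 (iv3 F83709)) (tt N22456 F83194) (tt N16367 (iv5 D52646)) (tt N61006 D114066) (tt N23847 F83193))
theorem Q32600 : ∀ i, i < 32600 → P i := stepQ 32599 Q32599 (allL N32599 (tt N61007 D114067) (tt N57381 (iv0 F335483)) (tt N50770 (iv2 F142377)) (tt N32890 (iv3 F83712)) (tt N16368 F83195) (tt N61008 D114069) (tt N16367 (iv6 D52647)) (tt N61009 D114070))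
theorem Q32601 : ∀ i, i < 32601 → P i := stepQ 32600 Q32600 (allL N32600 (tt N50771 (iv1 F142385)) (tt N16368 (iv0 D52648)) (tt N50769 F142455) (tt N26425 F142456) (tt N61010 D114071) (tt N51091 (iv5 F143470)) (tt N61011 D114072) (tt N38575 F321886))
theorem Q32602 : ∀ i, i < 32602 → P i := stepQ 32601 Q32601 (allL N32601 (tt N16368 (iv1 D52649)) (tt N50771 F142384) (tt N38575 F321884) (tt N61012 D114073) (tt N61013 D114074) (tt N50898 (iv5 F142963)) (tt N32994 (iv6 F323566)) (tt N50769 (iv7 F142459)))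
theorem Q32603 : ∀ i, i < 32603 → P i := stepQ 32602 Q32602 (allL N32602 (tt N38575 F321883) (tt N50769 F142383) (tt N50771 (iv2 F142379)) (tt N16375 F83196) (tt N61009 (iv4 F177583)) (tt N50751 F142250) (tt N23852 F83197) (tt N16368 (iv7 D52650)))
theorem Q32604 : ∀ i, i < 32604 → P i := stepQ 32603 Q32603 (allL N32603 (tt N32978 F83810) (tt N60995 (iv0 F177546)) (tt N50744 (iv2 F142209)) (tt N23335 F83198) (tt N41382 (iv4 F104063)) (tt N34135 F86802) (tt N16370 (iv6 D52651)) (tt N41423 (iv7 F104134)))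
theorem Q32605 : ∀ i, i < 32605 → P i := stepQ 32604 Q32604 (allL N32604 (tt N56304 (iv1 F364375)) (tt N56299 (iv0 F333335)) (tt N56303 (iv2 F331572)) (tt N16372 (iv3 D52653)) (tt N41534 F322648) (tt N61014 D114080) (tt N41533 (iv6 F324169)) (tt N55769 (iv7 F161687)))
theorem Q32606 : ∀ i, i < 32606 → P i := stepQ 32605 Q32605 (allL N32605 (tt N29055 F290537) (tt N61015 D114082) (tt N55767 F161689) (tt N61014 (iv3 F177590)) (tt N55505 (iv4 F161630)) (tt N16372 (iv5 D52655)) (tt N25994 F291601) (tt N55770 (iv7 F161688)))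
theorem Q32607 : ∀ i, i < 32607 → P i := stepQ 32606 Q32606 (allL N32606 (tt N29848 F163451) (tt N56344 (iv0 F163455)) (tt N55768 F161677) (tt N41533 F325367) (tt N23857 F83210) (tt N32186 F83200) (tt N16372 (iv6 D52656)) (tt N56342 F163449))
theorem Q32608 : ∀ i, i < 32608 → P i := stepQ 32607 Q32607 (allL N32607 (tt N23870 F142196) (tt N50741 F142197) (tt N50739 F161699) (tt N16373 (iv3 D52658)) (tt N61016 D114084) (tt N50878 (iv5 F142874)) (tt N61017 D114085) (tt N50738 F161697))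
theorem Q32609 : ∀ i, i < 32609 → P i := stepQ 32608 Q32608 (allL N32608 (tt N61015 (iv1 F177593)) (tt N29055 (iv0 F290535)) (tt N55770 F161611) (tt N50878 (iv3 F142873)) (tt N55422 (iv4 F160238)) (tt N16373 (iv5 D52660)) (tt N26476 (iv6 F83202)) (tt N55767 F161660))
theorem Q32610 : ∀ i, i < 32610 → P i := stepQ 32609 Q32609 (allL N32609 (tt N61018 D114086) (tt N32928 (iv0 F178922)) (tt N55771 (iv2 F161701)) (tt N61017 (iv3 F177606)) (tt N23860 F83207) (tt N61019 D114088) (tt N16373 (iv6 D52661)) (tt N61020 D114089))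
theorem Q32611 : ∀ i, i < 32611 → P i := stepQ 32610 Q32610 (allL N32610 (tt N26391 (iv1 F83213)) (tt N16374 (iv0 D52662)) (tt N26389 (iv2 F178245)) (tt N61021 D114091) (tt N27394 (iv4 F83215)) (tt N61022 D114092) (tt N60833 (iv6 F177003)) (tt N26390 F178240))
theorem Q32612 : ∀ i, i < 32612 → P i := stepQ 32611 Q32611 (allL N32611 (tt N16374 (iv1 D52663)) (tt N26391 F83203) (tt N26390 F178237) (tt N50729 F142165) (tt N27395 F83204) (tt N32692 (iv5 F83351)) (tt N51407 (iv6 F204783)) (tt N26389 (iv7 F178246)))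
theorem Q32613 : ∀ i, i < 32613 → P i := stepQ 32612 Q32612 (allL N32612 (tt N26390 (iv1 F83214)) (tt N26389 F83217) (tt N26391 F83211) (tt N50751 F142249) (tt N51940 (iv4 F147479)) (tt N16375 F83212) (tt N50730 (iv6 F142171)) (tt N16374 (iv7 D52664)))
theorem Q32614 : ∀ i, i < 32614 → P i := stepQ 32613 Q32613 (allL N32613 (tt N18632 F83220) (tt N23139 F83221) (tt N23262 F83218) (tt N18484 F83219) (tt N61023 D114095) (tt N16377 (iv5 D52665)) (tt N50874 (iv6 F142854)) (tt N32705 (iv7 F83360)))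
theorem Q32615 : ∀ i, i < 32615 → P i := stepQ 32614 Q32614 (allL N32614 (tt N34079 (iv1 F86694)) (tt N34075 (iv0 F86682)) (tt N23832 F83222) (tt N23305 F83223) (tt N43256 (iv4 F108423)) (tt N16379 (iv5 D52666)) (tt N61024 D114096) (tt N34076 (iv7 F86685)))
theorem Q32616 : ∀ i, i < 32616 → P i := stepQ 32615 Q32615 (allL N32615 (tt N34407 F87480) (tt N19397 (iv0 F83227)) (tt N23833 F83224) (tt N23306 F83225) (tt N16381 F83226) (tt N60260 F176066) (tt N16379 (iv6 D52667)) (tt N37279 (iv7 F95745)))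
theorem Q32617 : ∀ i, i < 32617 → P i := stepQ 32616 Q32616 (allL N32616 (tt N55797 (iv1 F161807)) (tt N61025 D114097) (tt N32675 (iv2 F83335)) (tt N17681 F83228) (tt N16380 (iv4 D52668)) (tt N17680 (iv5 F83230)) (tt N61026 D114098) (tt N17760 F83229))
theorem Q32618 : ∀ i, i < 32618 → P i := stepQ 32617 Q32617 (allL N32617 (tt N61027 D114099) (tt N54832 (iv0 F290591)) (tt N32676 (iv2 F83337)) (tt N23310 F83231) (tt N61026 (iv4 F177696)) (tt N61028 D114100) (tt N16380 (iv6 D52669)) (tt N61029 D114101))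
theorem Q32619 : ∀ i, i < 32619 → P i := stepQ 32618 Q32618 (allL N32618 (tt N34080 F86697) (tt N29994 (iv0 F83233)) (tt N55763 (iv2 F161586)) (tt N23313 F83232) (tt N61030 D114102) (tt N16381 (iv5 D52670)) (tt N61028 (iv6 F177698)) (tt N56607 (iv7 F164414)))
theorem Q32620 : ∀ i, i < 32620 → P i := stepQ 32619 Q32619 (allL N32619 (tt N61025 (iv1 F177689)) (tt N55797 (iv0 F161806)) (tt N17760 F83234) (tt N42246 F314108) (tt N16383 (iv4 D52671)) (tt N17758 (iv5 F83235)) (tt N61031 D114104) (tt N32675 (iv7 F83336)))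
theorem Q32621 : ∀ i, i < 32621 → P i := stepQ 32620 Q32620 (allL N32620 (tt N60983 (iv1 F336936)) (tt N61032 D114106) (tt N32674 (iv2 F83334)) (tt N34084 (iv3 F86706)) (tt N61031 (iv4 F177706)) (tt N61033 D114107) (tt N16383 (iv6 D52672)) (tt N61034 D114108))
theorem Q32622 : ∀ i, i < 32622 → P i := stepQ 32621 Q32621 (allL N32621 (tt N16384 (iv1 D52673)) (tt N45178 F114689) (tt N21497 F83237) (tt N20905 (iv3 F83236)) (tt N41341 (iv4 F103974)) (tt N61035 D114109) (tt N34407 (iv6 F87478)) (tt N45179 (iv7 F114694)))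
theorem Q32623 : ∀ i, i < 32623 → P i := stepQ 32622 Q32622 (allL N32622 (tt N26484 F83239) (tt N33670 (iv0 F85423)) (tt N50902 F142974) (tt N32462 F83238) (tt N60852 (iv4 F177033)) (tt N16384 (iv5 D52674)) (tt N61033 (iv6 F177708)) (tt N41884 (iv7 F105039)))
theorem Q32624 : ∀ i, i < 32624 → P i := stepQ 32623 Q32623 (allL N32623 (tt N43481 (iv1 F108983)) (tt N43478 F108969) (tt N16389 F83240) (tt N61036 D114110) (tt N16385 (iv4 D52675)) (tt N35339 F92113) (tt N61037 D114111) (tt N43479 (iv7 F108972)))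
theorem Q32625 : ∀ i, i < 32625 → P i := stepQ 32624 Q32624 (allL N32624 (tt N61038 D114112) (tt N61039 D114113) (tt N16390 F83241) (tt N23846 F83242) (tt N61037 (iv4 F177718)) (tt N61040 D114114) (tt N16385 (iv6 D52676)) (tt N50787 (iv7 F142463)))
theorem Q32626 : ∀ i, i < 32626 → P i := stepQ 32625 Q32625 (allL N32625 (tt N22071 F83246) (tt N50745 F142217) (tt N16391 F83243) (tt N21499 F83244) (tt N61041 D114115) (tt N16386 (iv5 D52677)) (tt N61040 (iv6 F177723)) (tt N26421 F83245))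
theorem Q32627 : ∀ i, i < 32627 → P i := stepQ 32626 Q32626 (allL N32626 (tt N50289 (iv1 F139427)) (tt N49652 (iv0 F308352)) (tt N55765 (iv2 F161594)) (tt N17393 F83248) (tt N16387 (iv4 D52678)) (tt N17392 (iv5 F83250)) (tt N61042 D114116) (tt N17784 F83249))
theorem Q32628 : ∀ i, i < 32628 → P i := stepQ 32627 Q32627 (allL N32627 (tt N56325 (iv1 F340900)) (tt N29846 (iv0 F340901)) (tt N55766 (iv2 F161601)) (tt N21931 F83251) (tt N61042 (iv4 F177731)) (tt N60779 (iv5 F176870)) (tt N16387 (iv6 D52679)) (tt N56324 (iv7 F356351)))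
theorem Q32629 : ∀ i, i < 32629 → P i := stepQ 32628 Q32628 (allL N32628 (tt N21499 (iv1 F83255)) (tt N21500 F83256) (tt N17163 F83252) (tt N16388 (iv3 D52680)) (tt N32843 (iv4 F83646)) (tt N16410 F83253) (tt N61043 D114120) (tt N17165 F83254))
theorem Q32630 : ∀ i, i < 32630 → P i := stepQ 32629 Q32629 (allL N32629 (tt N49652 (iv1 F308353)) (tt N50289 (iv0 F139426)) (tt N17784 F83257) (tt N61044 D114121) (tt N16388 (iv4 D52681)) (tt N28591 F300576) (tt N49545 (iv6 F303374)) (tt N55765 (iv7 F161596)))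
theorem Q32631 : ∀ i, i < 32631 → P i := stepQ 32630 Q32630 (allL N32630 (tt N32926 F355672) (tt N61045 D114124) (tt N55764 (iv2 F161590)) (tt N61043 (iv3 F177734)) (tt N49545 (iv4 F303373)) (tt N61046 D114125) (tt N16388 (iv6 D52682)) (tt N61047 D114126))
theorem Q32632 : ∀ i, i < 32632 → P i := stepQ 32631 Q32631 (allL N32631 (tt N43479 (iv1 F108971)) (tt N16389 (iv0 D52683)) (tt N43481 (iv2 F108978)) (tt N42449 (iv3 F106194)) (tt N32737 (iv4 F83440)) (tt N43471 F108948) (tt N61048 D114127) (tt N43478 (iv7 F108967)))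
theorem Q32633 : ∀ i, i < 32633 → P i := stepQ 32632 Q32632 (allL N32632 (tt N61049 D114128) (tt N61050 D114129) (tt N61037 (iv2 F177717)) (tt N23229 F83258) (tt N16390 F83259) (tt N61051 D114130) (tt N16389 (iv6 D52684)) (tt N61052 D114131))
theorem Q32634 : ∀ i, i < 32634 → P i := stepQ 32633 Q32633 (allL N32633 (tt N50787 (iv1 F142465)) (tt N16390 (iv0 D52685)) (tt N61038 (iv2 F347660)) (tt N61053 D114133) (tt N61054 D114134) (tt N61055 D114135) (tt N61056 D114136) (tt N61039 (iv7 F352379)))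
theorem Q32635 : ∀ i, i < 32635 → P i := stepQ 32634 Q32634 (allL N32634 (tt N16390 (iv1 D52686)) (tt N50787 F142464) (tt N61039 (iv2 F352377)) (tt N61057 D114138) (tt N61058 D114139) (tt N61059 D114140) (tt N61060 D114141) (tt N61038 (iv7 F347661)))
theorem Q32636 : ∀ i, i < 32636 → P i := stepQ 32635 Q32635 (allL N32635 (tt N61061 D114142) (tt N61062 D114143) (tt N61040 (iv2 F177721)) (tt N16394 F83260) (tt N61063 D114144) (tt N16390 (iv5 D52687)) (tt N16391 F83261) (tt N50758 (iv7 F142280)))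
theorem Q32637 : ∀ i, i < 32637 → P i := stepQ 32636 Q32636 (allL N32636 (tt N61039 (iv1 F177720)) (tt N61038 F177719) (tt N50787 (iv2 F142460)) (tt N16395 F83262) (tt N61052 (iv4 F177749)) (tt N50758 (iv5 F142279)) (tt N26401 F83263) (tt N16390 (iv7 D52688)))
theorem Q32638 : ∀ i, i < 32638 → P i := stepQ 32637 Q32637 (allL N32637 (tt N26421 (iv1 F83266)) (tt N16391 (iv0 D52689)) (tt N22071 (iv2 F83265)) (tt N21927 F83267) (tt N32887 (iv4 F83705)) (tt N16409 F83264) (tt N61064 D114145) (tt N50745 (iv7 F142218)))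
theorem Q32639 : ∀ i, i < 32639 → P i := stepQ 32638 Q32638 (allL N32638 (tt N45030 (iv1 F114411)) (tt N36576 F94828) (tt N61041 (iv2 F177725)) (tt N51902 (iv3 F147427)) (tt N16391 (iv4 D52690)) (tt N36567 (iv5 F94807)) (tt N61063 (iv6 F177755)) (tt N50746 (iv7 F142221)))
theorem Q32640 : ∀ i, i < 32640 → P i := stepQ 32639 Q32639 (allL N32639 (tt N23863 (iv1 F290501)) (tt N16394 (iv0 F290502)) (tt N23861 F290496) (tt N16392 (iv3 D52692)) (tt N52403 (iv4 F290504)) (tt N61065 D114150) (tt N61066 D114151) (tt N23858 F161673))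
theorem Q32641 : ∀ i, i < 32641 → P i := stepQ 32640 Q32640 (allL N32640 (tt N61067 D114152) (tt N61068 D114153) (tt N23856 F161674) (tt N61065 (iv3 F177766)) (tt N61069 D114154) (tt N16392 (iv5 D52694)) (tt N61070 D114155) (tt N23859 F161675))
theorem Q32642 : ∀ i, i < 32642 → P i := stepQ 32641 Q32641 (allL N32641 (tt N32942 (iv1 F177895)) (tt N61071 D114157) (tt N23857 F161676) (tt N61066 (iv3 F177768)) (tt N55768 (iv4 F161605)) (tt N36394 F94474) (tt N16392 (iv6 D52695)) (tt N61072 D114158))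
theorem Q32643 : ∀ i, i < 32643 → P i := stepQ 32642 Q32642 (allL N32642 (tt N42639 (iv1 F290268)) (tt N56306 (iv0 F290265)) (tt N46643 F313071) (tt N16393 (iv3 D52697)) (tt N46565 F313072) (tt N61073 D114163) (tt N61074 D114164) (tt N23855 F161667))
theorem Q32644 : ∀ i, i < 32644 → P i := stepQ 32643 Q32643 (allL N32643 (tt N61068 (iv1 F177885)) (tt N61067 F177770) (tt N23859 F161668) (tt N61073 (iv3 F177909)) (tt N61075 D114165) (tt N16393 (iv5 D52699)) (tt N56178 (iv6 F163140)) (tt N23856 F161669))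
theorem Q32645 : ∀ i, i < 32645 → P i := stepQ 32644 Q32644 (allL N32644 (tt N56334 F177675) (tt N29845 F177676) (tt N23860 F161670) (tt N61074 (iv3 F177911)) (tt N55771 (iv4 F161702)) (tt N61076 D114166) (tt N16393 (iv6 D52700)) (tt N56333 (iv7 F163436)))
theorem Q32646 : ∀ i, i < 32646 → P i := stepQ 32645 Q32645 (allL N32645 (tt N16394 (iv1 D52702)) (tt N23863 F83270) (tt N23858 (iv2 F290500)) (tt N46643 F313099) (tt N52404 (iv4 F149559)) (tt N32663 (iv5 F83309)) (tt N61077 D114174) (tt N23861 (iv7 F178250)))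
theorem Q32647 : ∀ i, i < 32647 → P i := stepQ 32646 Q32646 (allL N32646 (tt N61078 D114175) (tt N61079 D114176) (tt N23862 F83271) (tt N51903 (iv3 F147430)) (tt N16394 (iv4 D52703)) (tt N61080 D114177) (tt N16398 F83272) (tt N61081 D114178))
theorem Q32648 : ∀ i, i < 32648 → P i := stepQ 32647 Q32647 (allL N32647 (tt N23858 (iv1 F290499)) (tt N23861 F83277) (tt N23863 F83273) (tt N50758 (iv3 F142278)) (tt N61081 (iv4 F177928)) (tt N16395 F83274) (tt N50741 (iv6 F142193)) (tt N16394 (iv7 D52704)))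
theorem Q32649 : ∀ i, i < 32649 → P i := stepQ 32648 Q32648 (allL N32648 (tt N61082 D114179) (tt N52017 (iv0 F346178)) (tt N23182 F83278) (tt N60978 (iv3 F177503)) (tt N52198 (iv4 F148004)) (tt N32469 F83279) (tt N16396 (iv6 D52705)) (tt N61083 D114181))
theorem Q32650 : ∀ i, i < 32650 → P i := stepQ 32649 Q32649 (allL N32649 (tt N61084 D114182) (tt N55209 (iv0 F234602)) (tt N23159 F83280) (tt N56286 (iv3 F163341)) (tt N51629 (iv4 F146946)) (tt N36400 (iv5 F94496)) (tt N16397 (iv6 D52706)) (tt N61085 D114184))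
theorem Q32651 : ∀ i, i < 32651 → P i := stepQ 32650 Q32650 (allL N32650 (tt N61086 D114185) (tt N61087 D114186) (tt N23872 F83281) (tt N23876 F83282) (tt N51937 (iv4 F147475)) (tt N19407 F83283) (tt N16400 (iv6 D52707)) (tt N61088 D114187))
theorem Q32652 : ∀ i, i < 32652 → P i := stepQ 32651 Q32651 (allL N32651 (tt N16421 F83289) (tt N16413 (iv0 F83288)) (tt N16418 F83284) (tt N16402 F83285) (tt N16411 F83286) (tt N61089 D114188) (tt N16401 (iv6 D52708)) (tt N16419 F83287))
theorem Q32653 : ∀ i, i < 32653 → P i := stepQ 32652 Q32652 (allL N32652 (tt N17202 (iv1 F83292)) (tt N16402 (iv0 D52709)) (tt N16554 (iv2 F83291)) (tt N44971 (iv3 F114227)) (tt N17061 F83290) (tt N55350 (iv5 F335358)) (tt N17178 (iv6 F83294)) (tt N17179 F83293))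
theorem Q32654 : ∀ i, i < 32654 → P i := stepQ 32653 Q32653 (allL N32653 (tt N61090 D114190) (tt N56347 F163525) (tt N22078 F83295) (tt N61089 (iv3 F177965)) (tt N61091 D114191) (tt N16402 (iv5 D52710)) (tt N61001 (iv6 F177558)) (tt N60794 (iv7 F176900)))
theorem Q32655 : ∀ i, i < 32655 → P i := stepQ 32654 Q32654 (allL N32654 (tt N22085 F83299) (tt N22084 F83300) (tt N16404 F83296) (tt N61092 D114192) (tt N16403 (iv4 D52711)) (tt N22117 F83297) (tt N61093 D114193) (tt N22057 F83298))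
theorem Q32656 : ∀ i, i < 32656 → P i := stepQ 32655 Q32655 (allL N32655 (tt N61094 D114194) (tt N61095 D114195) (tt N16405 F83301) (tt N55773 (iv3 F161709)) (tt N61093 (iv4 F177981)) (tt N60176 (iv5 F175867)) (tt N16403 (iv6 D52712)) (tt N61096 D114196))
theorem Q32657 : ∀ i, i < 32657 → P i := stepQ 32656 Q32656 (allL N32656 (tt N36444 F94626) (tt N36445 F94632) (tt N22117 F83302) (tt N32756 (iv3 F83481)) (tt N22062 F83304) (tt N16404 (iv5 D52713)) (tt N61097 D114197) (tt N22087 F83303))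
theorem Q32658 : ∀ i, i < 32658 → P i := stepQ 32657 Q32657 (allL N32657 (tt N61098 D114198) (tt N61099 D114199) (tt N61093 (iv2 F177980)) (tt N32757 (iv3 F83484)) (tt N16405 F83305) (tt N61100 D114200) (tt N16404 (iv6 D52714)) (tt N61101 D114201))
theorem Q32659 : ∀ i, i < 32659 → P i := stepQ 32658 Q32658 (allL N32658 (tt N61096 (iv1 F177987)) (tt N16405 (iv0 D52715)) (tt N61094 (iv2 F352129)) (tt N61102 D114203) (tt N61103 D114204) (tt N61104 D114205) (tt N61105 D114206) (tt N61095 (iv7 F352127)))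
theorem Q32660 : ∀ i, i < 32660 → P i := stepQ 32659 Q32659 (allL N32659 (tt N16405 (iv1 D52716)) (tt N61096 F177986) (tt N61095 (iv2 F352126)) (tt N42215 F352143) (tt N61106 D114209) (tt N61107 D114210) (tt N61108 D114211) (tt N61094 (iv7 F352130)))
theorem Q32661 : ∀ i, i < 32661 → P i := stepQ 32660 Q32660 (allL N32660 (tt N61095 (iv1 F177982)) (tt N61094 F177985) (tt N61096 (iv2 F177983)) (tt N16408 F83306) (tt N61101 (iv4 F177990)) (tt N60185 (iv5 F175878)) (tt N22092 F83307) (tt N16405 (iv7 D52717)))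
theorem Q32662 : ∀ i, i < 32662 → P i := stepQ 32661 Q32661 (allL N32661 (tt N40469 (iv1 F320521)) (tt N45061 (iv0 F290344)) (tt N40857 (iv2 F319951)) (tt N16406 (iv3 D52719)) (tt N33372 F318234) (tt N61109 D114221) (tt N46634 F313105) (tt N40847 F318235))
theorem Q32663 : ∀ i, i < 32663 → P i := stepQ 32662 Q32662 (allL N32662 (tt N56209 F163182) (tt N61110 D114224) (tt N55778 (iv2 F178233)) (tt N61109 (iv3 F178002)) (tt N61111 D114225) (tt N16406 (iv5 D52721)) (tt N61112 D114226) (tt N55779 (iv7 F178229)))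
theorem Q32664 : ∀ i, i < 32664 → P i := stepQ 32663 Q32663 (allL N32663 (tt N45044 F178010) (tt N61113 D114228) (tt N46041 (iv2 F290513)) (tt N46634 F313104) (tt N36389 F114628) (tt N32645 F83309) (tt N16406 (iv6 D52722)) (tt N46049 (iv7 F178256)))
theorem Q32665 : ∀ i, i < 32665 → P i := stepQ 32664 Q32664 (allL N32664 (tt N29836 (iv1 F290558)) (tt N61114 D114232) (tt N61115 D114233) (tt N16407 (iv3 D52724)) (tt N61116 D114234) (tt N61117 D114235) (tt N61118 D114236) (tt N46044 F290536))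
theorem Q32666 : ∀ i, i < 32666 → P i := stepQ 32665 Q32665 (allL N32665 (tt N61110 (iv1 F178006)) (tt N56209 F178015) (tt N55779 (iv2 F178228)) (tt N61117 (iv3 F178029)) (tt N61119 D114237) (tt N16407 (iv5 D52726)) (tt N61120 D114238) (tt N55778 (iv7 F178234)))
theorem Q32667 : ∀ i, i < 32667 → P i := stepQ 32666 Q32666 (allL N32666 (tt N61121 D114239) (tt N45067 (iv0 F178441)) (tt N55780 (iv2 F178231)) (tt N61118 (iv3 F178030)) (tt N36392 F114633) (tt N61122 D114241) (tt N16407 (iv6 D52727)) (tt N61123 D114242))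
theorem Q32668 : ∀ i, i < 32668 → P i := stepQ 32667 Q32667 (allL N32667 (tt N16411 (iv1 D52728)) (tt N44970 F114224) (tt N16558 F83313) (tt N17179 (iv3 F83311)) (tt N29583 (iv4 F83312)) (tt N61124 D114243) (tt N17169 F83314) (tt N44971 (iv7 F114230)))
theorem Q32669 : ∀ i, i < 32669 → P i := stepQ 32668 Q32668 (allL N32668 (tt N56345 F163519) (tt N61125 D114244) (tt N55772 (iv2 F161703)) (tt N22094 F83315) (tt N61126 D114245) (tt N16411 (iv5 D52729)) (tt N61046 (iv6 F177745)) (tt N60824 (iv7 F176976)))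
theorem Q32670 : ∀ i, i < 32670 → P i := stepQ 32669 Q32669 (allL N32669 (tt N22307 F83317) (tt N55774 F161714) (tt N16416 F83316) (tt N61127 D114246) (tt N16412 (iv4 D52730)) (tt N43472 (iv5 F108949)) (tt N61128 D114247) (tt N43476 (iv7 F108962)))
theorem Q32671 : ∀ i, i < 32671 → P i := stepQ 32670 Q32670 (allL N32670 (tt N50029 F138588) (tt N61129 D114248) (tt N16417 F83318) (tt N22058 F83319) (tt N61128 (iv4 F178059)) (tt N61130 D114249) (tt N16412 (iv6 D52731)) (tt N61131 D114250))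
theorem Q32672 : ∀ i, i < 32672 → P i := stepQ 32671 Q32671 (allL N32671 (tt N16413 (iv1 D52732)) (tt N16421 F83320) (tt N16419 (iv2 F83322)) (tt N17135 (iv3 F83323)) (tt N44970 (iv4 F114222)) (tt N61132 D114251) (tt N26895 (iv6 F83324)) (tt N16418 F83321))
theorem Q32673 : ∀ i, i < 32673 → P i := stepQ 32672 Q32672 (allL N32672 (tt N61133 D114252) (tt N28476 F83327) (tt N16420 F83325) (tt N22060 F83326) (tt N61134 D114253) (tt N16413 (iv5 D52733)) (tt N61130 (iv6 F178066)) (tt N61135 D114254))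
theorem Q32674 : ∀ i, i < 32674 → P i := stepQ 32673 Q32673 (allL N32673 (tt N16419 (iv1 F83332)) (tt N16418 F83333) (tt N16421 F83328) (tt N17259 F83329) (tt N27124 F83330) (tt N61135 (iv5 F178086)) (tt N27122 F83331) (tt N16413 (iv7 D52734)))
theorem Q32675 : ∀ i, i < 32675 → P i := stepQ 32674 Q32674 (allL N32674 (tt N61136 D114255) (tt N45042 F332618) (tt N32620 F83334) (tt N34705 (iv3 F88616)) (tt N35067 (iv4 F90767)) (tt N61137 D114257) (tt N16414 (iv6 D52735)) (tt N61138 D114258))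
theorem Q32676 : ∀ i, i < 32676 → P i := stepQ 32675 Q32675 (allL N32675 (tt N35066 (iv1 F90764)) (tt N35065 F90763) (tt N32616 F83335) (tt N35041 (iv3 F90724)) (tt N16415 (iv4 D52736)) (tt N34907 (iv5 F90322)) (tt N61139 D114259) (tt N32619 F83336))
theorem Q32677 : ∀ i, i < 32677 → P i := stepQ 32676 Q32676 (allL N32676 (tt N45065 (iv1 F193482)) (tt N61140 D114261) (tt N32617 F83337) (tt N46029 (iv3 F120118)) (tt N61139 (iv4 F178098)) (tt N61141 D114262) (tt N16415 (iv6 D52737)) (tt N61142 D114263))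
theorem Q32678 : ∀ i, i < 32678 → P i := stepQ 32677 Q32677 (allL N32677 (tt N43476 (iv1 F108963)) (tt N16416 (iv0 D52738)) (tt N22307 (iv2 F87745)) (tt N42628 F106643) (tt N45021 (iv4 F114350)) (tt N22306 F87746) (tt N61143 D114264) (tt N55774 (iv7 F161715)))
theorem Q32679 : ∀ i, i < 32679 → P i := stepQ 32678 Q32678 (allL N32678 (tt N16416 (iv1 D52739)) (tt N43476 F108965) (tt N55774 F161713) (tt N17902 (iv3 F87742)) (tt N45026 (iv4 F114395)) (tt N17901 F87743) (tt N61144 D114265) (tt N22307 F87744))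
theorem Q32680 : ∀ i, i < 32680 → P i := stepQ 32679 Q32679 (allL N32679 (tt N61145 D114266) (tt N61146 D114267) (tt N61128 (iv2 F178058)) (tt N21963 F83338) (tt N16417 F83339) (tt N61147 D114268) (tt N16416 (iv6 D52740)) (tt N61148 D114269))
theorem Q32681 : ∀ i, i < 32681 → P i := stepQ 32680 Q32680 (allL N32680 (tt N61131 (iv1 F178070)) (tt N16417 (iv0 D52741)) (tt N50029 (iv2 F138586)) (tt N61149 D114270) (tt N61150 D114271) (tt N51067 (iv5 F143386)) (tt N26824 F83340) (tt N61129 (iv7 F178061)))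
theorem Q32682 : ∀ i, i < 32682 → P i := stepQ 32681 Q32681 (allL N32681 (tt N16417 (iv1 D52742)) (tt N61131 F178069) (tt N61129 F178062) (tt N41409 F320841) (tt N61151 D114273) (tt N61152 D114274) (tt N61153 D114275) (tt N50029 F138589))
theorem Q32683 : ∀ i, i < 32683 → P i := stepQ 32682 Q32682 (allL N32682 (tt N61154 D114276) (tt N61155 D114277) (tt N61130 (iv2 F178064)) (tt N16424 F83341) (tt N61156 D114278) (tt N16417 (iv5 D52743)) (tt N16420 F83342) (tt N61157 D114279))
theorem Q32684 : ∀ i, i < 32684 → P i := stepQ 32683 Q32683 (allL N32683 (tt N61129 (iv1 F178060)) (tt N50029 F178063) (tt N61131 (iv2 F178067)) (tt N16425 F83343) (tt N61148 (iv4 F178117)) (tt N61157 (iv5 F178124)) (tt N55777 (iv6 F161719)) (tt N16417 (iv7 D52744)))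
theorem Q32685 : ∀ i, i < 32685 → P i := stepQ 32684 Q32684 (allL N32684 (tt N50300 (iv1 F139481)) (tt N50304 (iv0 F139490)) (tt N61089 (iv2 F177964)) (tt N56086 (iv3 F162583)) (tt N61158 D114280) (tt N16418 (iv5 D52745)) (tt N51088 F143467) (tt N61132 (iv7 F178073)))
theorem Q32686 : ∀ i, i < 32686 → P i := stepQ 32685 Q32685 (allL N32685 (tt N50304 (iv1 F139489)) (tt N50300 (iv0 F139482)) (tt N61132 (iv2 F178071)) (tt N60794 (iv3 F176899)) (tt N61159 D114281) (tt N16419 (iv5 D52746)) (tt N61160 D114282) (tt N61089 (iv7 F177966)))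
theorem Q32687 : ∀ i, i < 32687 → P i := stepQ 32686 Q32686 (allL N32686 (tt N61135 (iv1 F178088)) (tt N16420 (iv0 D52747)) (tt N61133 F178076) (tt N61161 D114283) (tt N61162 D114284) (tt N28477 F178051) (tt N61163 D114285) (tt N28476 F178052))
theorem Q32688 : ∀ i, i < 32688 → P i := stepQ 32687 Q32687 (allL N32687 (tt N16420 (iv1 D52748)) (tt N61135 F178087) (tt N28476 F83345) (tt N61164 D114286) (tt N61165 D114287) (tt N26793 (iv5 F83344)) (tt N26874 F83346) (tt N61133 (iv7 F178077)))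
theorem Q32689 : ∀ i, i < 32689 → P i := stepQ 32688 Q32688 (allL N32688 (tt N61166 D114288) (tt N26945 F83495) (tt N61134 (iv2 F178079)) (tt N61167 D114289) (tt N16420 (iv4 D52749)) (tt N61168 D114290) (tt N61156 (iv6 F178122)) (tt N61169 D114291))
theorem Q32690 : ∀ i, i < 32690 → P i := stepQ 32689 Q32689 (allL N32689 (tt N28476 (iv1 F83349)) (tt N61133 F178078) (tt N61135 (iv2 F178083)) (tt N16432 F83347) (tt N61169 (iv4 F178150)) (tt N16421 F83348) (tt N61170 D114292) (tt N16420 (iv7 D52750)))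
theorem Q32691 : ∀ i, i < 32691 → P i := stepQ 32690 Q32690 (allL N32690 (tt N61171 D114298) (tt N29838 (iv0 F178166)) (tt N61172 D114300) (tt N16422 (iv3 D52752)) (tt N51633 (iv4 F248557)) (tt N61173 D114302) (tt N61174 D114303) (tt N36390 (iv7 F178212)))
theorem Q32692 : ∀ i, i < 32692 → P i := stepQ 32691 Q32691 (allL N32691 (tt N61175 D114305) (tt N61176 D114306) (tt N36388 (iv2 F178223)) (tt N61173 (iv3 F178163)) (tt N61177 D114307) (tt N16422 (iv5 D52754)) (tt N51061 (iv6 F205465)) (tt N36391 (iv7 F178214)))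
theorem Q32693 : ∀ i, i < 32693 → P i := stepQ 32692 Q32692 (allL N32692 (tt N45070 (iv1 F193469)) (tt N61178 D114311) (tt N36389 (iv2 F178225)) (tt N61174 (iv3 F178164)) (tt N46041 F290524) (tt N32611 F83351) (tt N16422 (iv6 D52755)) (tt N50012 (iv7 F178254)))
theorem Q32694 : ∀ i, i < 32694 → P i := stepQ 32693 Q32693 (allL N32693 (tt N33252 F316766) (tt N40456 (iv0 F319131)) (tt N40467 (iv2 F319137)) (tt N16423 (iv3 D52757)) (tt N40842 F316767) (tt N61179 D114318) (tt N61180 D114319) (tt N36387 (iv7 F178220)))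
theorem Q32695 : ∀ i, i < 32695 → P i := stepQ 32694 Q32694 (allL N32694 (tt N61176 (iv1 F178177)) (tt N61175 F178181) (tt N36391 (iv2 F178213)) (tt N61179 (iv3 F178201)) (tt N61181 D114320) (tt N16423 (iv5 D52759)) (tt N60747 (iv6 F176814)) (tt N36388 (iv7 F178224)))
theorem Q32696 : ∀ i, i < 32696 → P i := stepQ 32695 Q32695 (allL N32695 (tt N56275 F178183) (tt N45041 F178185) (tt N36392 (iv2 F178209)) (tt N61180 (iv3 F178202)) (tt N55780 (iv4 F161725)) (tt N56197 (iv5 F163170)) (tt N16423 (iv6 D52760)) (tt N61182 D114321))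
theorem Q32697 : ∀ i, i < 32697 → P i := stepQ 32696 Q32696 (allL N32696 (tt N36396 (iv1 F94482)) (tt N16424 (iv0 D52761)) (tt N36393 (iv2 F161681)) (tt N61183 D114322) (tt N61184 D114323) (tt N61072 (iv5 F177898)) (tt N61185 D114324) (tt N36394 F161680))
theorem Q32698 : ∀ i, i < 32698 → P i := stepQ 32697 Q32697 (allL N32697 (tt N16424 (iv1 D52762)) (tt N36396 F94480) (tt N36394 F161678) (tt N61186 D114325) (tt N61187 D114326) (tt N23857 (iv5 F83353)) (tt N61188 D114327) (tt N36393 (iv7 F161679)))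
theorem Q32699 : ∀ i, i < 32699 → P i := stepQ 32698 Q32698 (allL N32698 (tt N61189 D114328) (tt N61190 D114329) (tt N36395 (iv2 F94475)) (tt N61191 D114330) (tt N16424 (iv4 D52763)) (tt N61192 D114331) (tt N16431 F83354) (tt N61193 D114332))
theorem Q32700 : ∀ i, i < 32700 → P i := stepQ 32699 Q32699 (allL N32699 (tt N36394 (iv1 F94473)) (tt N36393 F94479) (tt N36396 (iv2 F94477)) (tt N61157 (iv3 F178123)) (tt N61193 (iv4 F178305)) (tt N16425 F83355) (tt N61194 D114333) (tt N16424 (iv7 D52764)))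
theorem Q32701 : ∀ i, i < 32701 → P i := stepQ 32700 Q32700 (allL N32700 (tt N42941 (iv1 F107775)) (tt N36246 (iv0 F94182)) (tt N36399 (iv2 F94492)) (tt N61195 D114334) (tt N16426 (iv4 D52765)) (tt N32709 (iv5 F83366)) (tt N57059 (iv6 F339922)) (tt N36401 (iv7 F94499)))
theorem Q32702 : ∀ i, i < 32702 → P i := stepQ 32701 Q32701 (allL N32701 (tt N59160 (iv1 F350596)) (tt N61196 D114337) (tt N36400 (iv2 F94495)) (tt N23162 F83356) (tt N57059 (iv4 F339921)) (tt N23159 F83357) (tt N16426 (iv6 D52766)) (tt N61197 D114338))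
theorem Q32703 : ∀ i, i < 32703 → P i := stepQ 32702 Q32702 (allL N32702 (tt N56318 (iv1 F163400)) (tt N56317 F163399) (tt N56267 (iv2 F163291)) (tt N16428 F83358) (tt N61198 D114339) (tt N16427 (iv5 D52767)) (tt N61199 D114340) (tt N36398 (iv7 F94491)))
theorem Q32704 : ∀ i, i < 32704 → P i := stepQ 32703 Q32703 (allL N32703 (tt N36246 (iv1 F94183)) (tt N42941 (iv0 F107774)) (tt N36401 (iv2 F94497)) (tt N61200 D114341) (tt N16428 (iv4 D52768)) (tt N32706 (iv5 F83363)) (tt N61201 D114342) (tt N36399 (iv7 F94493)))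
theorem Q32705 : ∀ i, i < 32705 → P i := stepQ 32704 Q32704 (allL N32704 (tt N61202 D114343) (tt N61203 D114344) (tt N36402 (iv2 F94500)) (tt N61199 (iv3 F178312)) (tt N61201 (iv4 F178313)) (tt N60819 (iv5 F176963)) (tt N16428 (iv6 D52769)) (tt N61204 D114345))
theorem Q32706 : ∀ i, i < 32706 → P i := stepQ 32705 Q32705 (allL N32705 (tt N16555 (iv1 F83361)) (tt N16559 F83362) (tt N36665 F94981) (tt N16429 (iv3 D52770)) (tt N61205 D114346) (tt N32432 F83359) (tt N61206 D114347) (tt N32613 F83360))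
theorem Q32707 : ∀ i, i < 32707 → P i := stepQ 32706 Q32706 (allL N32706 (tt N32784 (iv1 F83521)) (tt N22894 F83364) (tt N32780 F83508) (tt N61207 D114348) (tt N16429 (iv4 D52771)) (tt N32703 F83363) (tt N61208 D114349) (tt N32781 (iv7 F83510)))
theorem Q32708 : ∀ i, i < 32708 → P i := stepQ 32707 Q32707 (allL N32707 (tt N61209 D114350) (tt N61210 D114351) (tt N36404 (iv2 F94503)) (tt N61206 (iv3 F178317)) (tt N61208 (iv4 F178320)) (tt N61206 (iv5 F178318)) (tt N16429 (iv6 D52772)) (tt N61211 D114352))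
theorem Q32709 : ∀ i, i < 32709 → P i := stepQ 32708 Q32708 (allL N32708 (tt N56098 F162646) (tt N56298 F163377) (tt N45172 (iv2 F114675)) (tt N16430 (iv3 D52773)) (tt N61212 D114353) (tt N32431 F83365) (tt N61213 D114354) (tt N36403 (iv7 F94502)))
theorem Q32710 : ∀ i, i < 32710 → P i := stepQ 32709 Q32709 (allL N32709 (tt N22894 F83367) (tt N32784 F83520) (tt N32781 F83512) (tt N61214 D114355) (tt N16430 (iv4 D52774)) (tt N32700 F83366) (tt N56923 (iv6 F339925)) (tt N32780 F83509))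
theorem Q32711 : ∀ i, i < 32711 → P i := stepQ 32710 Q32710 (allL N32710 (tt N61215 D114357) (tt N61216 D114358) (tt N36405 (iv2 F94504)) (tt N61213 (iv3 F178321)) (tt N56923 (iv4 F339924)) (tt N26877 F83368) (tt N16430 (iv6 D52775)) (tt N61217 D114359))
theorem Q32712 : ∀ i, i < 32712 → P i := stepQ 32711 Q32711 (allL N32711 (tt N32714 F83374) (tt N16431 (iv0 D52776)) (tt N36406 (iv2 F94509)) (tt N28680 F329963) (tt N16464 F83369) (tt N32722 (iv5 F83394)) (tt N61218 D114361) (tt N36407 (iv7 F94512)))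
theorem Q32713 : ∀ i, i < 32713 → P i := stepQ 32712 Q32712 (allL N32712 (tt N16431 (iv1 D52777)) (tt N32714 F83373) (tt N36407 F94514) (tt N50366 (iv3 F327703)) (tt N16465 F83370) (tt N32719 (iv5 F83390)) (tt N59103 (iv6 F339958)) (tt N36406 (iv7 F94510)))
theorem Q32714 : ∀ i, i < 32714 → P i := stepQ 32713 Q32713 (allL N32713 (tt N61219 D114364) (tt N61220 D114365) (tt N61221 D114366) (tt N16431 (iv3 D52778)) (tt N61167 (iv4 F178147)) (tt N61222 D114367) (tt N61191 (iv6 F178304)) (tt N61223 D114368))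
theorem Q32715 : ∀ i, i < 32715 → P i := stepQ 32714 Q32714 (allL N32714 (tt N32712 (iv1 F83373)) (tt N32711 (iv0 F83374)) (tt N32715 (iv2 F83375)) (tt N61222 (iv3 F178376)) (tt N18486 F83371) (tt N16431 (iv5 D52779)) (tt N61224 D114369) (tt N18485 F83372))
theorem Q32716 : ∀ i, i < 32716 → P i := stepQ 32715 Q32715 (allL N32715 (tt N36407 (iv1 F94511)) (tt N36406 F94507) (tt N32714 F83375) (tt N61223 (iv3 F178378)) (tt N16432 F83376) (tt N18485 F83377) (tt N61225 D114370) (tt N16431 (iv7 D52780)))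
theorem Q32717 : ∀ i, i < 32717 → P i := stepQ 32716 Q32716 (allL N32716 (tt N61226 D114371) (tt N61227 D114372) (tt N36409 (iv2 F94515)) (tt N61170 (iv3 F178153)) (tt N61225 (iv4 F178382)) (tt N32188 F83378) (tt N16432 (iv6 D52781)) (tt N61194 (iv7 F178307)))
theorem Q32718 : ∀ i, i < 32718 → P i := stepQ 32717 Q32717 (allL N32717 (tt N16495 (iv1 F83380)) (tt N16433 (iv0 D52782)) (tt N16497 (iv2 F83379)) (tt N56295 (iv3 F163370)) (tt N21758 (iv4 F83382)) (tt N61228 D114373) (tt N16487 (iv6 F83385)) (tt N16488 F83381))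
theorem Q32719 : ∀ i, i < 32719 → P i := stepQ 32718 Q32718 (allL N32718 (tt N61229 D114374) (tt N61230 D114375) (tt N22051 F83386) (tt N16434 F83387) (tt N53218 (iv4 F325487)) (tt N16433 (iv5 D52783)) (tt N61231 D114377) (tt N21901 F83388))
theorem Q32720 : ∀ i, i < 32720 → P i := stepQ 32719 Q32719 (allL N32719 (tt N56618 (iv1 F164451)) (tt N55704 (iv0 F161472)) (tt N36410 (iv2 F94517)) (tt N53219 (iv3 F327163)) (tt N16434 (iv4 D52784)) (tt N32712 F83390) (tt N59159 (iv6 F339965)) (tt N21903 F83389))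
theorem Q32721 : ∀ i, i < 32721 → P i := stepQ 32720 Q32720 (allL N32720 (tt N61232 D114380) (tt N61233 D114381) (tt N36411 (iv2 F94521)) (tt N61231 (iv3 F178400)) (tt N59159 (iv4 F339964)) (tt N34700 (iv5 F88598)) (tt N16434 (iv6 D52785)) (tt N61234 D114382))
theorem Q32722 : ∀ i, i < 32722 → P i := stepQ 32721 Q32721 (allL N32721 (tt N43028 (iv1 F107972)) (tt N43027 F107968) (tt N41751 (iv2 F104860)) (tt N16436 F83391) (tt N50418 (iv4 F360974)) (tt N16435 (iv5 D52786)) (tt N61235 D114384) (tt N21882 F83392))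
theorem Q32723 : ∀ i, i < 32723 → P i := stepQ 32722 Q32722 (allL N32722 (tt N55704 (iv1 F161473)) (tt N56618 (iv0 F164450)) (tt N21903 F83393) (tt N50419 (iv3 F329912)) (tt N16436 (iv4 D52787)) (tt N32711 F83394) (tt N61236 D114386) (tt N36410 (iv7 F94519)))
theorem Q32724 : ∀ i, i < 32724 → P i := stepQ 32723 Q32723 (allL N32723 (tt N61237 D114387) (tt N61238 D114388) (tt N21904 F83395) (tt N61235 (iv3 F178411)) (tt N61236 (iv4 F178414)) (tt N60821 (iv5 F176969)) (tt N16436 (iv6 D52788)) (tt N61239 D114389))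
theorem Q32725 : ∀ i, i < 32725 → P i := stepQ 32724 Q32724 (allL N32724 (tt N55795 (iv1 F319333)) (tt N34065 (iv0 F319334)) (tt N42224 (iv2 F319181)) (tt N16437 (iv3 D52790)) (tt N42206 F316817) (tt N61240 D114394) (tt N61241 D114395) (tt N42220 (iv7 F319182)))
theorem Q32726 : ∀ i, i < 32726 → P i := stepQ 32725 Q32725 (allL N32725 (tt N32946 F83766) (tt N61242 D114396) (tt N55786 (iv2 F161736)) (tt N61240 (iv3 F178420)) (tt N61243 D114397) (tt N16437 (iv5 D52792)) (tt N61244 D114398) (tt N55788 (iv7 F161747)))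
theorem Q32727 : ∀ i, i < 32727 → P i := stepQ 32726 Q32726 (allL N32726 (tt N42365 (iv1 F193466)) (tt N60960 (iv0 F177479)) (tt N55787 (iv2 F161738)) (tt N61241 (iv3 F178421)) (tt N32769 F136454) (tt N32901 F83720) (tt N16437 (iv6 D52793)) (tt N61245 D114400))
theorem Q32728 : ∀ i, i < 32728 → P i := stepQ 32727 Q32727 (allL N32727 (tt N16483 F290389) (tt N20960 F316009) (tt N20970 (iv2 F318215)) (tt N16438 (iv3 D52795)) (tt N21160 F316010) (tt N61246 D114405) (tt N61247 D114406) (tt N20971 (iv7 F318205)))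
theorem Q32729 : ∀ i, i < 32729 → P i := stepQ 32728 Q32728 (allL N32728 (tt N61242 (iv1 F178422)) (tt N32946 F161748) (tt N55788 (iv2 F161746)) (tt N61246 (iv3 F178433)) (tt N61248 D114407) (tt N16438 (iv5 D52797)) (tt N61249 D114408) (tt N55786 (iv7 F161737)))
theorem Q32730 : ∀ i, i < 32730 → P i := stepQ 32729 Q32729 (allL N32729 (tt N61250 D114409) (tt N45997 (iv0 F178444)) (tt N55789 (iv2 F161749)) (tt N61247 (iv3 F178434)) (tt N32771 F136459) (tt N61251 D114411) (tt N16438 (iv6 D52798)) (tt N61252 D114412))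
theorem Q32731 : ∀ i, i < 32731 → P i := stepQ 32730 Q32730 (allL N32730 (tt N55792 (iv1 F161797)) (tt N16439 (iv0 D52799)) (tt N55790 (iv2 F161794)) (tt N61253 D114413) (tt N60196 (iv4 F176125)) (tt N45134 F161795) (tt N61254 D114414) (tt N45133 F161796))
theorem Q32732 : ∀ i, i < 32732 → P i := stepQ 32731 Q32731 (allL N32731 (tt N16439 (iv1 D52800)) (tt N55792 F161756) (tt N45133 (iv2 F153456)) (tt N41646 F323344) (tt N60197 (iv4 F175890)) (tt N41645 F323345) (tt N51349 (iv6 F251939)) (tt N55790 (iv7 F161757)))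
theorem Q32733 : ∀ i, i < 32733 → P i := stepQ 32732 Q32732 (allL N32732 (tt N60283 (iv1 F176136)) (tt N60286 (iv0 F176135)) (tt N55791 (iv2 F161751)) (tt N61255 D114417) (tt N16439 (iv4 D52801)) (tt N61256 D114418) (tt N16441 F83398) (tt N61257 D114419))
theorem Q32734 : ∀ i, i < 32734 → P i := stepQ 32733 Q32733 (allL N32733 (tt N45133 F114604) (tt N55790 F161755) (tt N55792 (iv2 F161753)) (tt N43060 (iv3 F108003)) (tt N61257 (iv4 F178450)) (tt N16440 F83399) (tt N61258 D114420) (tt N16439 (iv7 D52802)))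
theorem Q32735 : ∀ i, i < 32735 → P i := stepQ 32734 Q32734 (allL N32734 (tt N61259 D114421) (tt N61260 D114422) (tt N61261 D114423) (tt N16441 (iv3 D52803)) (tt N43072 (iv4 F108021)) (tt N32218 F83400) (tt N61255 (iv6 F178448)) (tt N32217 F83401))
theorem Q32736 : ∀ i, i < 32736 → P i := stepQ 32735 Q32735 (allL N32735 (tt N61262 D114424) (tt N61263 D114425) (tt N38210 (iv2 F97666)) (tt N43075 (iv3 F108023)) (tt N32219 F83402) (tt N44618 (iv5 F112704)) (tt N16442 (iv6 D52804)) (tt N61258 (iv7 F178455)))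
theorem Q32737 : ∀ i, i < 32737 → P i := stepQ 32736 Q32736 (allL N32736 (tt N26550 F83435) (tt N29891 F83436) (tt N32737 (iv2 F83437)) (tt N16445 F83434) (tt N43481 (iv4 F108980)) (tt N16443 (iv5 D52808)) (tt N61264 D114426) (tt N32742 (iv7 F83450)))
theorem Q32738 : ∀ i, i < 32738 → P i := stepQ 32737 Q32737 (allL N32737 (tt N26936 F83438) (tt N29590 F83439) (tt N32736 F83437) (tt N32793 (iv3 F83544)) (tt N32631 F83440) (tt N16444 (iv5 D52809)) (tt N61265 D114427) (tt N50288 (iv7 F139421)))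
theorem Q32739 : ∀ i, i < 32739 → P i := stepQ 32738 Q32738 (allL N32738 (tt N50746 (iv1 F142224)) (tt N61041 (iv0 F177728)) (tt N45030 (iv2 F114408)) (tt N22173 F83443) (tt N16445 (iv4 D52810)) (tt N22172 (iv5 F83444)) (tt N54426 (iv6 F346734)) (tt N36576 (iv7 F94826)))
theorem Q32740 : ∀ i, i < 32740 → P i := stepQ 32739 Q32739 (allL N32739 (tt N55821 (iv1 F206245)) (tt N16539 (iv0 F206246)) (tt N45031 (iv2 F114412)) (tt N61264 (iv3 F178462)) (tt N54426 (iv4 F346733)) (tt N60845 (iv5 F177019)) (tt N16445 (iv6 D52811)) (tt N55820 (iv7 F234967)))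
theorem Q32741 : ∀ i, i < 32741 → P i := stepQ 32740 Q32740 (allL N32740 (tt N42024 (iv1 F105279)) (tt N16502 (iv0 F83447)) (tt N42419 (iv2 F106160)) (tt N16448 F83445) (tt N22583 F83446) (tt N16446 (iv5 D52812)) (tt N36541 (iv6 F94780)) (tt N42619 (iv7 F106545)))
theorem Q32742 : ∀ i, i < 32742 → P i := stepQ 32741 Q32741 (allL N32741 (tt N56295 (iv1 F163374)) (tt N56094 (iv0 F162626)) (tt N56287 (iv2 F163343)) (tt N16449 F83448) (tt N56287 (iv4 F163345)) (tt N61266 D114432) (tt N16446 (iv6 D52813)) (tt N56293 (iv7 F163362)))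
theorem Q32743 : ∀ i, i < 32743 → P i := stepQ 32742 Q32742 (allL N32742 (tt N29590 F83453) (tt N26936 F83452) (tt N50288 F139419) (tt N23175 F83449) (tt N22215 F83451) (tt N16447 (iv5 D52814)) (tt N61267 D114433) (tt N32736 F83450))
theorem Q32744 : ∀ i, i < 32744 → P i := stepQ 32743 Q32743 (allL N32743 (tt N61041 (iv1 F177729)) (tt N50746 (iv0 F142223)) (tt N36576 (iv2 F94827)) (tt N45291 F115042) (tt N16448 (iv4 D52815)) (tt N43531 (iv5 F109154)) (tt N61268 D114434) (tt N45030 (iv7 F114409)))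
theorem Q32745 : ∀ i, i < 32745 → P i := stepQ 32744 Q32744 (allL N32744 (tt N32911 F190359) (tt N61269 D114436) (tt N45029 (iv2 F114407)) (tt N36541 F94781) (tt N61268 (iv4 F178470)) (tt N51010 (iv5 F143263)) (tt N16448 (iv6 D52816)) (tt N61270 D114437))
theorem Q32746 : ∀ i, i < 32746 → P i := stepQ 32745 Q32745 (allL N32745 (tt N44961 F114398) (tt N50294 (iv0 F139457)) (tt N50969 (iv2 F143180)) (tt N61266 (iv3 F178467)) (tt N61271 D114438) (tt N16449 (iv5 D52817)) (tt N51010 F143262) (tt N50968 F143177))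
theorem Q32747 : ∀ i, i < 32747 → P i := stepQ 32746 Q32746 (allL N32746 (tt N43243 (iv1 F108394)) (tt N43256 F108426) (tt N16454 F83454) (tt N61272 D114439) (tt N16450 (iv4 D52818)) (tt N44759 F298172) (tt N61273 D114440) (tt N42997 (iv7 F107872)))
theorem Q32748 : ∀ i, i < 32748 → P i := stepQ 32747 Q32747 (allL N32747 (tt N50084 F138833) (tt N61274 D114441) (tt N16455 F83455) (tt N33987 (iv3 F86420)) (tt N61273 (iv4 F178473)) (tt N50308 (iv5 F139493)) (tt N16450 (iv6 D52819)) (tt N61275 D114442))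
theorem Q32749 : ∀ i, i < 32749 → P i := stepQ 32748 Q32748 (allL N32748 (tt N16459 (iv1 F83457)) (tt N16451 (iv0 D52820)) (tt N16456 (iv2 F83458)) (tt N56287 (iv3 F163344)) (tt N29569 F83456) (tt N61276 D114443) (tt N29568 (iv6 F83459)) (tt N16457 (iv7 F83460)))
theorem Q32750 : ∀ i, i < 32750 → P i := stepQ 32749 Q32749 (allL N32749 (tt N16451 (iv1 D52821)) (tt N16459 F83462) (tt N16457 (iv2 F83466)) (tt N32764 (iv3 F83493)) (tt N32496 (iv4 F83464)) (tt N61277 D114444) (tt N26921 F83465) (tt N16456 F83463))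
theorem Q32751 : ∀ i, i < 32751 → P i := stepQ 32750 Q32750 (allL N32750 (tt N34063 F86646) (tt N42731 (iv0 F107029)) (tt N45021 (iv2 F114348)) (tt N16452 (iv3 D52823)) (tt N22307 F83470) (tt N23168 F83469) (tt N47535 F324638) (tt N45026 (iv7 F114396)))
theorem Q32752 : ∀ i, i < 32752 → P i := stepQ 32751 Q32751 (allL N32751 (tt N61278 D114446) (tt N61279 D114447) (tt N55782 (iv2 F161728)) (tt N18581 F83471) (tt N16452 (iv4 D52824)) (tt N18580 (iv5 F83472)) (tt N44832 F321524) (tt N43633 (iv7 F109324)))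
theorem Q32753 : ∀ i, i < 32753 → P i := stepQ 32752 Q32752 (allL N32752 (tt N42670 (iv1 F106788)) (tt N16474 (iv0 F83477)) (tt N42623 (iv2 F106609)) (tt N16453 (iv3 D52827)) (tt N23384 F83476) (tt N23171 F83475) (tt N61280 D114453) (tt N42621 (iv7 F106554)))
theorem Q32754 : ∀ i, i < 32754 → P i := stepQ 32753 Q32753 (allL N32753 (tt N61279 (iv1 F178498)) (tt N61278 F178495) (tt N43633 (iv2 F109322)) (tt N42663 F106743) (tt N16453 (iv4 D52828)) (tt N43632 F109314) (tt N61281 D114454) (tt N55782 (iv7 F161730)))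
theorem Q32755 : ∀ i, i < 32755 → P i := stepQ 32754 Q32754 (allL N32754 (tt N45995 (iv1 F235012)) (tt N51553 (iv0 F145478)) (tt N55781 (iv2 F161726)) (tt N61280 (iv3 F178506)) (tt N61281 (iv4 F178508)) (tt N61282 D114456) (tt N16453 (iv6 D52829)) (tt N47534 F326575))
theorem Q32756 : ∀ i, i < 32756 → P i := stepQ 32755 Q32755 (allL N32755 (tt N16454 (iv1 D52831)) (tt N42997 (iv0 F107873)) (tt N43256 F108425) (tt N23440 (iv3 F83479)) (tt N23832 F83478) (tt N17759 F83480) (tt N47529 (iv6 F323368)) (tt N43243 (iv7 F108391)))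
theorem Q32757 : ∀ i, i < 32757 → P i := stepQ 32756 Q32756 (allL N32756 (tt N44758 F298176) (tt N23457 (iv0 F83482)) (tt N44759 F298169) (tt N32656 F83481) (tt N22213 F83483) (tt N16454 (iv5 D52832)) (tt N61283 D114461) (tt N43257 (iv7 F108429)))
theorem Q32758 : ∀ i, i < 32758 → P i := stepQ 32757 Q32757 (allL N32757 (tt N41598 F321002) (tt N47473 (iv0 F346437)) (tt N61273 (iv2 F178472)) (tt N32657 F83484) (tt N16455 F83485) (tt N61284 D114464) (tt N16454 (iv6 D52833)) (tt N61285 D114465))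
theorem Q32759 : ∀ i, i < 32759 → P i := stepQ 32758 Q32758 (allL N32758 (tt N61275 (iv1 F178480)) (tt N16455 (iv0 D52834)) (tt N50084 (iv2 F138832)) (tt N49883 (iv3 F137765)) (tt N61286 D114466) (tt N53827 (iv5 F293428)) (tt N25568 F83486) (tt N61274 (iv7 F178475)))
theorem Q32760 : ∀ i, i < 32760 → P i := stepQ 32759 Q32759 (allL N32759 (tt N16455 (iv1 D52835)) (tt N61275 F178479) (tt N61274 F178476) (tt N40462 F319271) (tt N61287 D114469) (tt N61288 D114470) (tt N47476 F326540) (tt N50084 F138834))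
theorem Q32761 : ∀ i, i < 32761 → P i := stepQ 32760 Q32760 (allL N32760 (tt N61289 D114472) (tt N61290 D114473) (tt N50308 (iv2 F139492)) (tt N16462 F83487) (tt N58016 (iv4 F361650)) (tt N16455 (iv5 D52836)) (tt N16458 F83488) (tt N61291 D114475))
theorem Q32762 : ∀ i, i < 32762 → P i := stepQ 32761 Q32761 (allL N32761 (tt N61274 (iv1 F178474)) (tt N50084 F178477) (tt N61275 (iv2 F178478)) (tt N16463 F83489) (tt N61285 (iv4 F178522)) (tt N61291 (iv5 F178530)) (tt N55785 (iv6 F161734)) (tt N16455 (iv7 D52837)))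
theorem Q32763 : ∀ i, i < 32763 → P i := stepQ 32762 Q32762 (allL N32762 (tt N26559 (iv1 F114353)) (tt N26562 (iv0 F114352)) (tt N61276 (iv2 F178481)) (tt N50969 (iv3 F143181)) (tt N61292 D114476) (tt N16456 (iv5 D52838)) (tt N61293 D114477) (tt N61277 (iv7 F178487)))
theorem Q32764 : ∀ i, i < 32764 → P i := stepQ 32763 Q32763 (allL N32763 (tt N56094 F162627) (tt N56295 F163373) (tt N56293 F163366) (tt N16457 (iv3 D52839)) (tt N56293 F163364) (tt N61294 D114478) (tt N50278 (iv6 F139392)) (tt N56287 (iv7 F163346)))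
theorem Q32765 : ∀ i, i < 32765 → P i := stepQ 32764 Q32764 (allL N32764 (tt N29583 (iv1 F83496)) (tt N23131 (iv0 F83494)) (tt N32496 F83490) (tt N32749 F83493) (tt N16457 (iv4 D52840)) (tt N61295 D114479) (tt N26532 F83491) (tt N29569 F83492))
theorem Q32766 : ∀ i, i < 32766 → P i := stepQ 32765 Q32765 (allL N32765 (tt N26562 F106584) (tt N26559 (iv0 F83497)) (tt N61277 (iv2 F178486)) (tt N61294 (iv3 F178535)) (tt N61296 D114480) (tt N16457 (iv5 D52841)) (tt N61297 D114481) (tt N61276 (iv7 F178482)))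
theorem Q32767 : ∀ i, i < 32767 → P i := stepQ 32766 Q32766 (allL N32766 (tt N61298 D114482) (tt N61299 D114483) (tt N50307 (iv2 F139491)) (tt N58017 (iv3 F331534)) (tt N16458 (iv4 D52843)) (tt N56872 (iv5 F361661)) (tt N58016 (iv6 F361651)) (tt N50309 (iv7 F139494)))
theorem Q32768 : ∀ i, i < 32768 → P i := stepQ 32767 Q32767 (allL N32767 (tt N20973 (iv1 F316461)) (tt N16494 (iv0 F290329)) (tt N41735 F319127) (tt N16460 (iv3 D52845)) (tt N61300 D114489) (tt N61301 D114490) (tt N61302 D114491) (tt N44609 F145383))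
theorem Q32769 : ∀ i, i < 32769 → P i := stepQ 32768 Q32768 (allL N32768 (tt N61303 D114492) (tt N61304 D114493) (tt N44607 (iv2 F145385)) (tt N61301 (iv3 F178546)) (tt N61305 D114494) (tt N16460 (iv5 D52847)) (tt N61306 D114495) (tt N44610 F145384))
theorem Q32770 : ∀ i, i < 32770 → P i := stepQ 32769 Q32769 (allL N32769 (tt N45999 (iv1 F177469)) (tt N51006 F177425) (tt N44608 F145368) (tt N61302 (iv3 F178547)) (tt N32726 (iv4 F136454)) (tt N23244 F83499) (tt N16460 (iv6 D52848)) (tt N51501 (iv7 F145387)))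
theorem Q32771 : ∀ i, i < 32771 → P i := stepQ 32770 Q32770 (allL N32770 (tt N61304 (iv1 F178553)) (tt N61303 F178550) (tt N44610 (iv2 F145378)) (tt N41724 F318941) (tt N61307 D114502) (tt N16461 (iv5 D52852)) (tt N60919 (iv6 F177204)) (tt N44607 (iv7 F145377)))
theorem Q32772 : ∀ i, i < 32772 → P i := stepQ 32771 Q32771 (allL N32771 (tt N55756 F178437) (tt N42362 F178440) (tt N44611 (iv2 F145379)) (tt N41725 F318942) (tt N32729 (iv4 F136459)) (tt N32929 (iv5 F83756)) (tt N16461 (iv6 D52853)) (tt N60958 (iv7 F177321)))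
theorem Q32773 : ∀ i, i < 32773 → P i := stepQ 32772 Q32772 (allL N32772 (tt N44615 (iv1 F112701)) (tt N16462 (iv0 D52854)) (tt N44612 (iv2 F153460)) (tt N61308 D114503) (tt N61189 (iv4 F178564)) (tt N61309 D114505) (tt N61310 D114506) (tt N44613 F153459))
theorem Q32774 : ∀ i, i < 32774 → P i := stepQ 32773 Q32773 (allL N32773 (tt N16462 (iv1 D52855)) (tt N44615 F112700) (tt N44613 F153457) (tt N61311 D114507) (tt N61190 (iv4 F178303)) (tt N34692 (iv5 F88588)) (tt N61312 D114508) (tt N44612 (iv7 F153458)))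
theorem Q32775 : ∀ i, i < 32775 → P i := stepQ 32774 Q32774 (allL N32774 (tt N61313 D114509) (tt N61314 D114510) (tt N44614 (iv2 F112695)) (tt N33229 (iv3 F331529)) (tt N16462 (iv4 D52856)) (tt N33295 (iv5 F331530)) (tt N16466 F83501) (tt N40392 F331528))
theorem Q32776 : ∀ i, i < 32776 → P i := stepQ 32775 Q32775 (allL N32775 (tt N44613 (iv1 F112693)) (tt N44612 F112699) (tt N44615 (iv2 F112697)) (tt N61291 (iv3 F178529)) (tt N40392 F331527) (tt N16463 F83502) (tt N61315 D114514) (tt N16462 (iv7 D52857)))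
theorem Q32777 : ∀ i, i < 32777 → P i := stepQ 32776 Q32776 (allL N32776 (tt N61228 (iv1 F178387)) (tt N16496 (iv0 F83504)) (tt N61316 D114515) (tt N16464 (iv3 D52858)) (tt N53223 (iv4 F330003)) (tt N32434 F83503) (tt N61317 D114517) (tt N41440 (iv7 F104219)))
theorem Q32778 : ∀ i, i < 32778 → P i := stepQ 32777 Q32777 (allL N32777 (tt N61318 D114518) (tt N61319 D114519) (tt N44616 (iv2 F112702)) (tt N61317 (iv3 F178584)) (tt N61218 (iv4 F178374)) (tt N61320 D114520) (tt N16464 (iv6 D52859)) (tt N61321 D114521))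
theorem Q32779 : ∀ i, i < 32779 → P i := stepQ 32778 Q32778 (allL N32778 (tt N34358 F87372) (tt N42979 (iv0 F107839)) (tt N44051 F110758) (tt N16465 (iv3 D52860)) (tt N50869 (iv4 F329254)) (tt N23236 F83505) (tt N50240 (iv6 F139313)) (tt N41438 (iv7 F104209)))
theorem Q32780 : ∀ i, i < 32780 → P i := stepQ 32779 Q32779 (allL N32779 (tt N50120 (iv1 F345198)) (tt N50372 (iv0 F362340)) (tt N41441 (iv2 F104222)) (tt N50240 (iv3 F139312)) (tt N59103 (iv4 F339957)) (tt N23247 F83506) (tt N16465 (iv6 D52861)) (tt N50342 (iv7 F157731)))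
theorem Q32781 : ∀ i, i < 32781 → P i := stepQ 32780 Q32780 (allL N32780 (tt N32783 (iv1 F83516)) (tt N16466 (iv0 D52862)) (tt N32706 (iv2 F83508)) (tt N53814 (iv3 F365257)) (tt N18483 F83507) (tt N36401 (iv5 F94498)) (tt N61322 D114526) (tt N32709 (iv7 F83509)))
theorem Q32782 : ∀ i, i < 32782 → P i := stepQ 32781 Q32781 (allL N32781 (tt N16466 (iv1 D52863)) (tt N32783 (iv0 F83515)) (tt N32709 (iv2 F83512)) (tt N61323 D114527) (tt N18484 F83511) (tt N36399 (iv5 F94494)) (tt N57202 (iv6 F339927)) (tt N32706 F83510))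
theorem Q32783 : ∀ i, i < 32783 → P i := stepQ 32782 Q32782 (allL N32782 (tt N61324 D114529) (tt N53807 (iv0 F351129)) (tt N40391 (iv2 F331533)) (tt N16466 (iv3 D52864)) (tt N58017 (iv4 F331535)) (tt N38715 (iv5 F331536)) (tt N33229 F331531) (tt N61325 D114533))
theorem Q32784 : ∀ i, i < 32784 → P i := stepQ 32783 Q32783 (allL N32783 (tt N32781 F83515) (tt N32780 F83516) (tt N32784 (iv2 F83517)) (tt N38715 F331538) (tt N22895 F83513) (tt N16466 (iv5 D52865)) (tt N38713 (iv6 F331540)) (tt N22894 F83514))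
theorem Q32785 : ∀ i, i < 32785 → P i := stepQ 32784 Q32784 (allL N32784 (tt N32709 (iv1 F83520)) (tt N32706 F83521) (tt N32783 F83517) (tt N61325 (iv3 F178594)) (tt N16467 F83518) (tt N22894 F83519) (tt N61326 D114535) (tt N16466 (iv7 D52866)))
theorem Q32786 : ∀ i, i < 32786 → P i := stepQ 32785 Q32785 (allL N32785 (tt N61327 D114536) (tt N61328 D114537) (tt N44618 (iv2 F112703)) (tt N50310 (iv3 F139495)) (tt N61326 (iv4 F178598)) (tt N38210 (iv5 F97668)) (tt N16467 (iv6 D52867)) (tt N61315 (iv7 F178578)))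
theorem Q32787 : ∀ i, i < 32787 → P i := stepQ 32786 Q32786 (allL N32786 (tt N16509 F83525) (tt N16508 F83526) (tt N16513 F83522) (tt N28290 (iv3 F83527)) (tt N16468 (iv4 D52868)) (tt N17245 F83523) (tt N61329 D114538) (tt N16500 F83524))
theorem Q32788 : ∀ i, i < 32788 → P i := stepQ 32787 Q32787 (allL N32787 (tt N61330 D114539) (tt N61331 D114540) (tt N16517 F83528) (tt N32906 (iv3 F83731)) (tt N61329 (iv4 F178602)) (tt N61332 D114541) (tt N16468 (iv6 D52869)) (tt N61333 D114542))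
theorem Q32789 : ∀ i, i < 32789 → P i := stepQ 32788 Q32788 (allL N32788 (tt N60906 (iv1 F177189)) (tt N60905 F177186) (tt N16519 F83529) (tt N34008 (iv3 F86490)) (tt N61334 D114543) (tt N16469 (iv5 D52870)) (tt N61332 (iv6 F178605)) (tt N22134 F83530))
theorem Q32790 : ∀ i, i < 32790 → P i := stepQ 32789 Q32789 (allL N32789 (tt N17083 F83534) (tt N17085 F83537) (tt N22040 F83531) (tt N16472 F83532) (tt N18506 F83533) (tt N58911 (iv5 F171432)) (tt N16470 (iv6 D52871)) (tt N38282 (iv7 F97844)))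
theorem Q32791 : ∀ i, i < 32791 → P i := stepQ 32790 Q32790 (allL N32790 (tt N34081 (iv1 F86701)) (tt N34083 (iv0 F86704)) (tt N16482 F83538) (tt N21080 F307771) (tt N16471 (iv4 D52872)) (tt N24750 F83539) (tt N16845 (iv6 F309785)) (tt N16493 F83540))
theorem Q32792 : ∀ i, i < 32792 → P i := stepQ 32791 Q32791 (allL N32791 (tt N20971 (iv1 F314383)) (tt N20970 (iv0 F314384)) (tt N16483 F83541) (tt N46076 (iv3 F120183)) (tt N16845 F311995) (tt N41405 (iv5 F314386)) (tt N16471 (iv6 D52873)) (tt N20960 (iv7 F314388)))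
theorem Q32793 : ∀ i, i < 32793 → P i := stepQ 32792 Q32792 (allL N32792 (tt N18924 F83543) (tt N34580 (iv0 F87975)) (tt N16486 F83542) (tt N58911 F171435) (tt N41406 (iv4 F319095)) (tt N16472 (iv5 D52874)) (tt N41405 F316736) (tt N38206 (iv7 F97656)))
theorem Q32794 : ∀ i, i < 32794 → P i := stepQ 32793 Q32793 (allL N32793 (tt N16502 F83545) (tt N42024 (iv0 F105278)) (tt N42619 (iv2 F106543)) (tt N32737 F83544) (tt N23381 F83546) (tt N16473 (iv5 D52875)) (tt N61335 D114550) (tt N42419 (iv7 F106161)))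
theorem Q32795 : ∀ i, i < 32795 → P i := stepQ 32794 Q32794 (allL N32794 (tt N16474 (iv1 D52876)) (tt N42670 (iv0 F106787)) (tt N42621 (iv2 F106553)) (tt N45021 (iv3 F114349)) (tt N18439 F83547) (tt N42346 (iv5 F106027)) (tt N61336 D114551) (tt N42623 (iv7 F106611)))
theorem Q32796 : ∀ i, i < 32796 → P i := stepQ 32795 Q32795 (allL N32795 (tt N61337 D114552) (tt N61338 D114553) (tt N56288 (iv2 F163349)) (tt N16483 F83548) (tt N16776 F316007) (tt N61339 D114554) (tt N16474 (iv6 D52877)) (tt N20748 (iv7 F318080)))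
theorem Q32797 : ∀ i, i < 32797 → P i := stepQ 32796 Q32796 (allL N32796 (tt N16475 (iv1 D52878)) (tt N51239 F144554) (tt N51241 (iv2 F144558)) (tt N27121 (iv3 F83550)) (tt N51241 (iv4 F144560)) (tt N61340 D114556) (tt N51241 (iv6 F144561)) (tt N27118 F83549))
theorem Q32798 : ∀ i, i < 32798 → P i := stepQ 32797 Q32797 (allL N32797 (tt N61341 D114557) (tt N61342 D114558) (tt N56289 (iv2 F163352)) (tt N16486 F83551) (tt N55574 (iv4 F340324)) (tt N16475 (iv5 D52879)) (tt N61339 (iv6 F178629)) (tt N61343 D114559))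
theorem Q32799 : ∀ i, i < 32799 → P i := stepQ 32798 Q32798 (allL N32798 (tt N51241 (iv1 F144563)) (tt N27118 (iv0 F83554)) (tt N51239 F144552) (tt N16487 F83552) (tt N32171 F83553) (tt N61343 (iv5 F178637)) (tt N56295 (iv6 F163372)) (tt N16475 (iv7 D52880)))
theorem Q32800 : ∀ i, i < 32800 → P i := stepQ 32799 Q32799 (allL N32799 (tt N61344 D114560) (tt N21791 F190985) (tt N18499 F83555) (tt N23295 (iv3 F303423)) (tt N22992 F83556) (tt N52874 (iv5 F303425)) (tt N16478 (iv6 D52881)) (tt N36469 F300637))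
theorem Q32801 : ∀ i, i < 32801 → P i := stepQ 32800 Q32800 (allL N32800 (tt N18503 (iv1 F83561)) (tt N16479 (iv0 D52882)) (tt N18500 (iv2 F83559)) (tt N19065 F83558) (tt N30505 F83557) (tt N57441 (iv5 F166749)) (tt N41897 (iv6 F105047)) (tt N18501 F83560))
theorem Q32802 : ∀ i, i < 32802 → P i := stepQ 32801 Q32801 (allL N32801 (tt N61345 D114564) (tt N19089 F83564) (tt N18502 F83562) (tt N30538 F83563) (tt N38264 (iv4 F97800)) (tt N16479 (iv5 D52883)) (tt N52874 (iv6 F303426)) (tt N30543 (iv7 F83565)))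
theorem Q32803 : ∀ i, i < 32803 → P i := stepQ 32802 Q32802 (allL N32802 (tt N18501 (iv1 F83571)) (tt N18500 F83572) (tt N18503 F83566) (tt N19058 F83567) (tt N16487 F83568) (tt N30543 F83569) (tt N21758 F83570) (tt N16479 (iv7 D52884)))
theorem Q32804 : ∀ i, i < 32804 → P i := stepQ 32803 Q32803 (allL N32803 (tt N17200 F83575) (tt N17172 F83576) (tt N17334 F83573) (tt N53928 (iv3 F155033)) (tt N16481 (iv4 D52885)) (tt N22997 F83574) (tt N61346 D114565) (tt N42348 (iv7 F106035)))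
theorem Q32805 : ∀ i, i < 32805 → P i := stepQ 32804 Q32804 (allL N32804 (tt N61347 D114566) (tt N61348 D114567) (tt N17335 F83577) (tt N42451 (iv3 F106202)) (tt N61346 (iv4 F178654)) (tt N58914 (iv5 F171445)) (tt N16481 (iv6 D52886)) (tt N61349 D114568))
theorem Q32806 : ∀ i, i < 32806 → P i := stepQ 32805 Q32805 (allL N32805 (tt N16493 (iv1 F83579)) (tt N16482 (iv0 D52887)) (tt N34081 (iv2 F86698)) (tt N61350 D114569) (tt N23853 F83578) (tt N42862 (iv5 F107427)) (tt N61351 D114570) (tt N34083 (iv7 F86703)))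
theorem Q32807 : ∀ i, i < 32807 → P i := stepQ 32806 Q32806 (allL N32806 (tt N16482 (iv1 D52888)) (tt N16493 F83580) (tt N34083 (iv2 F86702)) (tt N46588 (iv3 F125557)) (tt N23288 F83581) (tt N37612 F307981) (tt N44925 (iv6 F309970)) (tt N34081 (iv7 F86699)))
theorem Q32808 : ∀ i, i < 32808 → P i := stepQ 32807 Q32807 (allL N32807 (tt N20960 F316008) (tt N16483 (iv0 D52890)) (tt N20971 (iv2 F318204)) (tt N42224 F321211) (tt N21304 (iv4 F318206)) (tt N61352 D114579) (tt N61353 D114580) (tt N20970 (iv7 F318216)))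
theorem Q32809 : ∀ i, i < 32809 → P i := stepQ 32808 Q32808 (allL N32808 (tt N41643 (iv1 F318224)) (tt N41646 (iv0 F318225)) (tt N41405 F316011) (tt N61339 (iv3 F178628)) (tt N41379 (iv4 F318226)) (tt N16483 (iv5 D52892)) (tt N16486 F83583) (tt N20972 (iv7 F318227)))
theorem Q32810 : ∀ i, i < 32810 → P i := stepQ 32809 Q32809 (allL N32809 (tt N41735 F319126) (tt N44609 (iv0 F290469)) (tt N16494 F83584) (tt N42671 (iv3 F106792)) (tt N20976 F313961) (tt N61354 D114593) (tt N16484 (iv6 D52894)) (tt N20973 (iv7 F316463)))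
theorem Q32811 : ∀ i, i < 32811 → P i := stepQ 32810 Q32810 (allL N32810 (tt N37292 F95776) (tt N37290 (iv0 F95769)) (tt N19014 F83585) (tt N38312 (iv3 F97928)) (tt N61355 D114594) (tt N16485 (iv5 D52895)) (tt N61356 D114595) (tt N38283 (iv7 F97852)))
theorem Q32812 : ∀ i, i < 32812 → P i := stepQ 32811 Q32811 (allL N32811 (tt N38206 (iv1 F97655)) (tt N16486 (iv0 D52896)) (tt N18924 (iv2 F83587)) (tt N44493 (iv3 F112310)) (tt N61357 D114596) (tt N18923 F83586) (tt N61358 D114597) (tt N34580 (iv7 F87973)))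
theorem Q32813 : ∀ i, i < 32813 → P i := stepQ 32812 Q32812 (allL N32812 (tt N61359 D114598) (tt N60996 (iv0 F177549)) (tt N41406 F320378) (tt N61360 D114599) (tt N16486 (iv4 D52897)) (tt N61361 D114600) (tt N41379 F320379) (tt N61362 D114601))
theorem Q32814 : ∀ i, i < 32814 → P i := stepQ 32813 Q32813 (allL N32813 (tt N34580 (iv1 F87974)) (tt N18924 (iv0 F83589)) (tt N38206 F97658) (tt N61343 (iv3 F178636)) (tt N61362 (iv4 F178689)) (tt N16487 F83588) (tt N61363 D114602) (tt N16486 (iv7 D52898)))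
theorem Q32815 : ∀ i, i < 32815 → P i := stepQ 32814 Q32814 (allL N32814 (tt N61316 (iv1 F178581)) (tt N41440 (iv0 F104221)) (tt N16496 F83590) (tt N56294 (iv3 F163367)) (tt N61364 D114603) (tt N16488 (iv5 D52899)) (tt N61354 (iv6 F178677)) (tt N61228 (iv7 F178385)))
theorem Q32816 : ∀ i, i < 32816 → P i := stepQ 32815 Q32815 (allL N32815 (tt N23841 F83591) (tt N23835 F83592) (tt N43245 F108411) (tt N61365 D114604) (tt N16489 (iv4 D52900)) (tt N44731 (iv5 F113129)) (tt N61366 D114605) (tt N43244 F108400))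
theorem Q32817 : ∀ i, i < 32817 → P i := stepQ 32816 Q32816 (allL N32816 (tt N61367 D114606) (tt N61368 D114607) (tt N46075 (iv2 F120181)) (tt N16494 F83593) (tt N61366 (iv4 F178695)) (tt N61369 D114608) (tt N16489 (iv6 D52901)) (tt N61370 D114609))
theorem Q32818 : ∀ i, i < 32818 → P i := stepQ 32817 Q32817 (allL N32817 (tt N61371 D114610) (tt N61372 D114611) (tt N56095 (iv2 F162628)) (tt N16496 F83594) (tt N61373 D114612) (tt N16490 (iv5 D52902)) (tt N61369 (iv6 F178697)) (tt N60904 (iv7 F177183)))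
theorem Q32819 : ∀ i, i < 32819 → P i := stepQ 32818 Q32818 (allL N32818 (tt N61374 D114613) (tt N61375 D114614) (tt N42497 (iv2 F106297)) (tt N18522 F83595) (tt N22994 F83596) (tt N61376 D114615) (tt N16491 (iv6 D52903)) (tt N46479 (iv7 F188324)))
theorem Q32820 : ∀ i, i < 32820 → P i := stepQ 32819 Q32819 (allL N32819 (tt N16492 (iv1 D52904)) (tt N21758 F83597) (tt N17046 F83600) (tt N43202 (iv3 F108289)) (tt N32460 (iv4 F83599)) (tt N61377 D114617) (tt N21097 F83601) (tt N21757 F83598))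
theorem Q32821 : ∀ i, i < 32821 → P i := stepQ 32820 Q32820 (allL N32820 (tt N41424 F115167) (tt N61378 D114618) (tt N44984 (iv2 F114279)) (tt N18527 F83602) (tt N54938 F322663) (tt N16492 (iv5 D52905)) (tt N61376 (iv6 F178710)) (tt N61379 D114620))
theorem Q32822 : ∀ i, i < 32822 → P i := stepQ 32821 Q32821 (allL N32821 (tt N17046 (iv1 F83607)) (tt N21757 F83608) (tt N21758 F83603) (tt N17054 F83604) (tt N16497 F83605) (tt N61379 (iv5 F178729)) (tt N18503 F83606) (tt N16492 (iv7 D52906)))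
theorem Q32823 : ∀ i, i < 32823 → P i := stepQ 32822 Q32822 (allL N32822 (tt N21092 F305331) (tt N21091 F305332) (tt N21093 (iv2 F305782)) (tt N16493 (iv3 D52907)) (tt N61365 (iv4 F178692)) (tt N37369 F305333) (tt N44606 (iv6 F307294)) (tt N21080 (iv7 F305781)))
theorem Q32824 : ∀ i, i < 32824 → P i := stepQ 32823 Q32823 (allL N32823 (tt N42701 (iv1 F106897)) (tt N42700 F106896) (tt N24752 F83609) (tt N37369 F306092) (tt N17243 F83610) (tt N16493 (iv5 D52908)) (tt N61380 D114622) (tt N24750 F83611))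
theorem Q32825 : ∀ i, i < 32825 → P i := stepQ 32824 Q32824 (allL N32824 (tt N20975 (iv1 F311533)) (tt N20974 (iv0 F311534)) (tt N20976 (iv2 F311531)) (tt N44606 F309316) (tt N16494 F83612) (tt N61381 D114625) (tt N16493 (iv6 D52909)) (tt N20961 (iv7 F311540)))
theorem Q32826 : ∀ i, i < 32826 → P i := stepQ 32825 Q32825 (allL N32825 (tt N16494 (iv1 D52911)) (tt N20973 (iv0 F316460)) (tt N44609 F290331) (tt N33632 F316822) (tt N61382 D114634) (tt N61383 D114635) (tt N61384 D114636) (tt N41735 F316823))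
theorem Q32827 : ∀ i, i < 32827 → P i := stepQ 32826 Q32826 (allL N32826 (tt N61308 (iv1 F349970)) (tt N61385 D114638) (tt N61354 (iv2 F178676)) (tt N61369 (iv3 F178696)) (tt N61386 D114639) (tt N16494 (iv5 D52912)) (tt N16496 F83613) (tt N61387 D114640))
theorem Q32828 : ∀ i, i < 32828 → P i := stepQ 32827 Q32827 (allL N32827 (tt N44609 F290470) (tt N41735 F319125) (tt N20973 (iv2 F316462)) (tt N61370 (iv3 F178698)) (tt N20961 F313962) (tt N61387 (iv5 F178738)) (tt N20960 (iv6 F314387)) (tt N16494 (iv7 D52913)))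
theorem Q32829 : ∀ i, i < 32829 → P i := stepQ 32828 Q32828 (allL N32828 (tt N61230 (iv1 F178392)) (tt N61229 F178389) (tt N21901 F83614) (tt N41751 (iv3 F104861)) (tt N53770 (iv4 F325482)) (tt N16495 (iv5 D52914)) (tt N61388 D114642) (tt N22051 F83615))
theorem Q32830 : ∀ i, i < 32830 → P i := stepQ 32829 Q32829 (allL N32829 (tt N16496 (iv1 D52915)) (tt N61228 (iv0 F178386)) (tt N41440 (iv2 F104217)) (tt N44051 (iv3 F110760)) (tt N53793 (iv4 F330000)) (tt N34583 (iv5 F87982)) (tt N61389 D114644) (tt N61316 (iv7 F178580)))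
theorem Q32831 : ∀ i, i < 32831 → P i := stepQ 32830 Q32830 (allL N32830 (tt N61390 D114645) (tt N61391 D114646) (tt N61364 (iv2 F178691)) (tt N61392 D114647) (tt N16496 (iv4 D52916)) (tt N61393 D114648) (tt N61386 (iv6 F178737)) (tt N61394 D114649))
theorem Q32832 : ∀ i, i < 32832 → P i := stepQ 32831 Q32831 (allL N32831 (tt N41440 (iv1 F104220)) (tt N61316 F178582) (tt N61228 (iv2 F178384)) (tt N60904 (iv3 F177182)) (tt N61394 (iv4 F178747)) (tt N16497 F83616) (tt N61395 D114650) (tt N16496 (iv7 D52917)))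
theorem Q32833 : ∀ i, i < 32833 → P i := stepQ 32832 Q32832 (allL N32832 (tt N17065 (iv1 F83621)) (tt N17068 (iv0 F83620)) (tt N22041 F83619) (tt N16498 (iv3 D52918)) (tt N43227 (iv4 F108364)) (tt N17441 F83617) (tt N61396 D114651) (tt N16505 F83618))
theorem Q32834 : ∀ i, i < 32834 → P i := stepQ 32833 Q32833 (allL N32833 (tt N34070 (iv1 F86670)) (tt N34073 (iv0 F86677)) (tt N16503 F83622) (tt N42649 (iv3 F106706)) (tt N16498 (iv4 D52919)) (tt N24733 F83623) (tt N41640 (iv6 F309314)) (tt N16506 F83624))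
theorem Q32835 : ∀ i, i < 32835 → P i := stepQ 32834 Q32834 (allL N32834 (tt N41647 (iv1 F313960)) (tt N45136 (iv0 F321657)) (tt N16504 F83625) (tt N61396 (iv3 F178749)) (tt N41640 F311529) (tt N61397 D114655) (tt N16498 (iv6 D52920)) (tt N45135 (iv7 F290302)))
theorem Q32836 : ∀ i, i < 32836 → P i := stepQ 32835 Q32835 (allL N32835 (tt N61398 D114657) (tt N34693 F337865) (tt N16507 F83626) (tt N45294 (iv3 F115047)) (tt N29814 F313534) (tt N61399 D114659) (tt N16499 (iv6 D52921)) (tt N36644 (iv7 F315998)))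
theorem Q32837 : ∀ i, i < 32837 → P i := stepQ 32836 Q32836 (allL N32836 (tt N16500 (iv1 D52922)) (tt N16513 F83627) (tt N16509 (iv2 F83631)) (tt N34596 F88015) (tt N21499 F83630) (tt N25082 F83629) (tt N43618 (iv6 F311816)) (tt N16508 F83628))
theorem Q32838 : ∀ i, i < 32838 → P i := stepQ 32837 Q32837 (allL N32837 (tt N45300 F115100) (tt N55180 (iv0 F159140)) (tt N48807 (iv2 F134576)) (tt N16500 (iv3 D52923)) (tt N53308 (iv4 F153307)) (tt N24754 F83632) (tt N41802 (iv6 F314971)) (tt N28290 F83633))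
theorem Q32839 : ∀ i, i < 32839 → P i := stepQ 32838 Q32838 (allL N32838 (tt N61400 D114663) (tt N41951 (iv0 F317664)) (tt N16512 F83634) (tt N41802 F315423) (tt N16501 F83635) (tt N61401 D114665) (tt N16500 (iv6 D52924)) (tt N61402 D114666))
theorem Q32840 : ∀ i, i < 32840 → P i := stepQ 32839 Q32839 (allL N32839 (tt N16516 (iv1 F83638)) (tt N16501 (iv0 D52925)) (tt N16514 F177849) (tt N61403 D114667) (tt N41626 F319877) (tt N61404 D114669) (tt N61405 D114670) (tt N16515 F177850))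
theorem Q32841 : ∀ i, i < 32841 → P i := stepQ 32840 Q32840 (allL N32840 (tt N16515 (iv1 F83639)) (tt N16514 F83640) (tt N16516 F83637) (tt N55803 (iv3 F161819)) (tt N61402 (iv4 F178778)) (tt N39008 F328251) (tt N61333 (iv6 F178607)) (tt N16501 (iv7 D52927)))
theorem Q32842 : ∀ i, i < 32842 → P i := stepQ 32841 Q32841 (allL N32841 (tt N42419 (iv1 F106164)) (tt N42619 (iv0 F106546)) (tt N16502 (iv2 D52928)) (tt N22041 F83641) (tt N22850 F83642) (tt N23196 F83643) (tt N51238 (iv6 F144548)) (tt N42024 (iv7 F105277)))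
theorem Q32843 : ∀ i, i < 32843 → P i := stepQ 32842 Q32842 (allL N32842 (tt N51287 (iv1 F290279)) (tt N51298 (iv0 F290244)) (tt N51238 (iv2 F144546)) (tt N16504 F83644) (tt N34593 (iv4 F88000)) (tt N27205 F83645) (tt N16502 (iv6 D52929)) (tt N61406 D114676))
theorem Q32844 : ∀ i, i < 32844 → P i := stepQ 32843 Q32843 (allL N32843 (tt N16506 (iv1 F83647)) (tt N16503 (iv0 D52930)) (tt N34070 (iv2 F86667)) (tt N61407 D114677) (tt N32628 F83646) (tt N42700 (iv5 F106894)) (tt N61408 D114678) (tt N34073 (iv7 F86676)))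
theorem Q32845 : ∀ i, i < 32845 → P i := stepQ 32844 Q32844 (allL N32844 (tt N16503 (iv1 D52931)) (tt N16506 F83648) (tt N34073 (iv2 F86675)) (tt N47687 (iv3 F129488)) (tt N21763 F83649) (tt N42701 (iv5 F106898)) (tt N41624 (iv6 F312332)) (tt N34070 (iv7 F86668)))
theorem Q32846 : ∀ i, i < 32846 → P i := stepQ 32845 Q32845 (allL N32845 (tt N20953 (iv1 F313956)) (tt N41641 (iv0 F313957)) (tt N41640 F311525) (tt N20928 F311526) (tt N16504 F83650) (tt N61409 D114682) (tt N16503 (iv6 D52932)) (tt N36645 (iv7 F313958)))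
theorem Q32847 : ∀ i, i < 32847 → P i := stepQ 32846 Q32846 (allL N32846 (tt N45135 (iv1 F290300)) (tt N16504 (iv0 D52933)) (tt N41647 (iv2 F317460)) (tt N45126 (iv3 F290304)) (tt N41362 F315223) (tt N61410 D114687) (tt N33585 (iv6 F317462)) (tt N45136 (iv7 F290309)))
theorem Q32848 : ∀ i, i < 32848 → P i := stepQ 32847 Q32847 (allL N32847 (tt N52859 (iv1 F290310)) (tt N45147 (iv0 F290311)) (tt N61397 (iv2 F178753)) (tt N27205 F83651) (tt N49604 (iv4 F136904)) (tt N16504 (iv5 D52935)) (tt N27203 F83652) (tt N61411 D114696))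
theorem Q32849 : ∀ i, i < 32849 → P i := stepQ 32848 Q32848 (allL N32848 (tt N45136 (iv1 F321658)) (tt N41647 F316444) (tt N45135 (iv2 F290301)) (tt N61406 (iv3 F178793)) (tt N36645 F316445) (tt N61411 (iv5 F178804)) (tt N36644 F316446) (tt N16504 (iv7 D52936)))
theorem Q32850 : ∀ i, i < 32850 → P i := stepQ 32849 Q32849 (allL N32849 (tt N17068 (iv1 F83656)) (tt N17065 F83655) (tt N16505 (iv2 D52937)) (tt N42024 (iv3 F105280)) (tt N43228 (iv4 F108371)) (tt N17440 F83653) (tt N61399 (iv6 F178763)) (tt N22041 F83654))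
theorem Q32851 : ∀ i, i < 32851 → P i := stepQ 32850 Q32850 (allL N32850 (tt N32594 F83657) (tt N32592 F83658) (tt N43228 F108373) (tt N61412 D114697) (tt N16505 (iv4 D52938)) (tt N46924 (iv5 F127748)) (tt N61413 D114698) (tt N43227 F108367))
theorem Q32852 : ∀ i, i < 32852 → P i := stepQ 32851 Q32851 (allL N32851 (tt N61414 D114699) (tt N61415 D114700) (tt N61399 (iv2 F178762)) (tt N16507 F83659) (tt N61413 (iv4 F178806)) (tt N16507 F83660) (tt N16505 (iv6 D52939)) (tt N61416 D114701))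
theorem Q32853 : ∀ i, i < 32853 → P i := stepQ 32852 Q32852 (allL N32852 (tt N41678 (iv1 F307841)) (tt N42648 F106705) (tt N33835 (iv2 F85816)) (tt N16506 (iv3 D52940)) (tt N61412 (iv4 F178805)) (tt N38369 F305856) (tt N36632 (iv6 F307845)) (tt N42649 (iv7 F106707)))
theorem Q32854 : ∀ i, i < 32854 → P i := stepQ 32853 Q32853 (allL N32853 (tt N42738 (iv1 F107037)) (tt N42737 F107036) (tt N21841 F83661) (tt N38369 F305855) (tt N17237 F83662) (tt N16506 (iv5 D52941)) (tt N38368 (iv6 F307839)) (tt N24733 F83663))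
theorem Q32855 : ∀ i, i < 32855 → P i := stepQ 32854 Q32854 (allL N32854 (tt N36643 (iv1 F312056)) (tt N36642 (iv0 F312057)) (tt N29814 (iv2 F311226)) (tt N36632 F309861) (tt N16507 F83664) (tt N29812 (iv5 F312058)) (tt N16506 (iv6 D52942)) (tt N36641 (iv7 F312059)))
theorem Q32856 : ∀ i, i < 32856 → P i := stepQ 32855 Q32855 (allL N32855 (tt N36644 F317608) (tt N16507 (iv0 D52943)) (tt N61398 (iv2 F337867)) (tt N16523 (iv3 F325987)) (tt N43849 F317609) (tt N61417 D114711) (tt N61418 D114712) (tt N34693 (iv7 F325411)))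
theorem Q32857 : ∀ i, i < 32857 → P i := stepQ 32856 Q32856 (allL N32856 (tt N16507 (iv1 D52944)) (tt N36644 F318178) (tt N34693 (iv2 F325410)) (tt N55806 (iv3 F335466)) (tt N43848 (iv4 F320372)) (tt N61419 D114716) (tt N61420 D114717) (tt N61398 (iv7 F337870)))
theorem Q32858 : ∀ i, i < 32858 → P i := stepQ 32857 Q32857 (allL N32857 (tt N34693 F337866) (tt N61398 F178766) (tt N36644 (iv2 F315997)) (tt N61416 (iv3 F178808)) (tt N36641 F314435) (tt N61416 (iv5 F178809)) (tt N45135 F290313) (tt N16507 (iv7 D52945)))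
theorem Q32859 : ∀ i, i < 32859 → P i := stepQ 32858 Q32858 (allL N32858 (tt N34598 (iv1 F88025)) (tt N34597 F88021) (tt N27725 F83665) (tt N16508 (iv3 D52946)) (tt N46891 F298864) (tt N27724 F83666) (tt N41822 (iv6 F308396)) (tt N34596 (iv7 F88014)))
theorem Q32860 : ∀ i, i < 32860 → P i := stepQ 32859 Q32859 (allL N32859 (tt N41362 (iv1 F312738)) (tt N45137 (iv0 F143141)) (tt N46568 (iv2 F125477)) (tt N41822 F310538) (tt N26419 F83667) (tt N61421 D114721) (tt N16508 (iv6 D52947)) (tt N43851 (iv7 F312739)))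
theorem Q32861 : ∀ i, i < 32861 → P i := stepQ 32860 Q32860 (allL N32860 (tt N43849 (iv1 F316641)) (tt N43848 (iv0 F316642)) (tt N43618 F314255) (tt N27714 F83668) (tt N23851 F83669) (tt N43499 F314256) (tt N16509 (iv6 D52948)) (tt N43842 (iv7 F316644)))
theorem Q32862 : ∀ i, i < 32862 → P i := stepQ 32861 Q32861 (allL N32861 (tt N29587 (iv1 F83672)) (tt N16510 (iv0 D52949)) (tt N21662 (iv2 F83671)) (tt N45297 (iv3 F115067)) (tt N23267 F83670) (tt N42853 (iv5 F107336)) (tt N41780 (iv6 F311690)) (tt N29593 F83673))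
theorem Q32863 : ∀ i, i < 32863 → P i := stepQ 32862 Q32862 (allL N32862 (tt N21662 (iv1 F83677)) (tt N29593 F83676) (tt N16510 (iv2 D52950)) (tt N48807 (iv3 F134577)) (tt N16529 F83674) (tt N29799 (iv5 F83678)) (tt N41744 (iv6 F312491)) (tt N29587 F83675))
theorem Q32864 : ∀ i, i < 32864 → P i := stepQ 32863 Q32863 (allL N32863 (tt N44492 F310770) (tt N21711 (iv0 F83683)) (tt N29799 F83679) (tt N16511 F83680) (tt N23920 F83681) (tt N16510 (iv5 D52951)) (tt N29809 (iv6 F305831)) (tt N29594 F83682))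
theorem Q32865 : ∀ i, i < 32865 → P i := stepQ 32864 Q32864 (allL N32864 (tt N61422 D114734) (tt N61421 (iv0 F312732)) (tt N24755 F83686) (tt N29809 F307810) (tt N24744 F83687) (tt N61423 D114736) (tt N16511 (iv6 D52953)) (tt N61424 D114737))
theorem Q32866 : ∀ i, i < 32866 → P i := stepQ 32865 Q32865 (allL N32865 (tt N61402 (iv1 F178780)) (tt N16512 (iv0 D52954)) (tt N61400 (iv2 F317662)) (tt N41829 F315409) (tt N61425 D114740) (tt N61400 (iv5 F317649)) (tt N42000 (iv6 F317650)) (tt N41951 F315410))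
theorem Q32867 : ∀ i, i < 32867 → P i := stepQ 32866 Q32866 (allL N32866 (tt N16512 (iv1 D52955)) (tt N61402 F178779) (tt N41951 F315416) (tt N21290 (iv3 F317171)) (tt N61426 D114745) (tt N41951 (iv5 F317653)) (tt N21287 (iv6 F317654)) (tt N61400 (iv7 F317663)))
theorem Q32868 : ∀ i, i < 32868 → P i := stepQ 32867 Q32867 (allL N32867 (tt N61427 D114748) (tt N42172 (iv0 F317673)) (tt N61401 (iv2 F178775)) (tt N41797 F315424) (tt N61428 D114750) (tt N16512 (iv5 D52956)) (tt N61423 (iv6 F178843)) (tt N61429 D114751))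
theorem Q32869 : ∀ i, i < 32869 → P i := stepQ 32868 Q32868 (allL N32868 (tt N41951 (iv1 F317665)) (tt N61400 (iv0 F178773)) (tt N61402 (iv2 F178777)) (tt N41745 F315425) (tt N16516 F83688) (tt N61429 (iv5 F178852)) (tt N61430 D114752) (tt N16512 (iv7 D52957)))
theorem Q32870 : ∀ i, i < 32870 → P i := stepQ 32869 Q32869 (allL N32869 (tt N61431 D114753) (tt N55212 (iv0 F192428)) (tt N61329 (iv2 F178600)) (tt N29595 F83689) (tt N16517 F83690) (tt N61432 D114755) (tt N16513 (iv6 D52958)) (tt N61430 (iv7 F178855)))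
theorem Q32871 : ∀ i, i < 32871 → P i := stepQ 32870 Q32870 (allL N32870 (tt N61433 D114756) (tt N61335 (iv0 F191340)) (tt N43677 (iv2 F177845)) (tt N16514 (iv3 D52960)) (tt N34298 F190164) (tt N61434 D114758) (tt N61435 D114759) (tt N40879 (iv7 F318070)))
theorem Q32872 : ∀ i, i < 32872 → P i := stepQ 32871 Q32871 (allL N32871 (tt N61436 D114765) (tt N61437 D114766) (tt N61404 (iv2 F178784)) (tt N61434 (iv3 F178857)) (tt N38134 (iv4 F329476)) (tt N16514 (iv5 D52962)) (tt N38133 (iv6 F329477)) (tt N41650 (iv7 F320195)))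
theorem Q32873 : ∀ i, i < 32873 → P i := stepQ 32872 Q32872 (allL N32872 (tt N61420 (iv1 F363907)) (tt N61438 D114770) (tt N61405 (iv2 F178786)) (tt N61435 (iv3 F178858)) (tt N33592 F318646) (tt N61439 D114771) (tt N16514 (iv6 D52963)) (tt N33588 F318647))
theorem Q32874 : ∀ i, i < 32874 → P i := stepQ 32873 Q32873 (allL N32873 (tt N22043 (iv1 F259172)) (tt N61440 D114774) (tt N61441 D114775) (tt N16515 (iv3 D52965)) (tt N41683 F323418) (tt N61442 D114777) (tt N41622 (iv6 F321736)) (tt N61403 (iv7 F178781)))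
theorem Q32875 : ∀ i, i < 32875 → P i := stepQ 32874 Q32874 (allL N32874 (tt N61437 (iv1 F178864)) (tt N61436 F178863) (tt N41650 (iv2 F320194)) (tt N61442 (iv3 F178868)) (tt N59740 (iv4 F338660)) (tt N16515 (iv5 D52967)) (tt N59739 (iv6 F328048)) (tt N61404 (iv7 F178785)))
theorem Q32876 : ∀ i, i < 32876 → P i := stepQ 32875 Q32875 (allL N32875 (tt N61331 (iv1 F178603)) (tt N61330 F178608) (tt N61333 (iv2 F178606)) (tt N16543 F83693) (tt N61430 (iv4 F178854)) (tt N61443 D114788) (tt N16516 (iv6 D52969)) (tt N16517 F83694))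
theorem Q32877 : ∀ i, i < 32877 → P i := stepQ 32876 Q32876 (allL N32876 (tt N61333 (iv1 F178610)) (tt N16517 (iv0 D52970)) (tt N61330 (iv2 F206223)) (tt N61444 D114790) (tt N61445 D114791) (tt N61446 D114792) (tt N61447 D114793) (tt N61331 (iv7 F206222)))
theorem Q32878 : ∀ i, i < 32878 → P i := stepQ 32877 Q32877 (allL N32877 (tt N16517 (iv1 D52971)) (tt N61333 F178609) (tt N61331 (iv2 F206221)) (tt N61448 D114795) (tt N61449 D114796) (tt N61450 D114797) (tt N61451 D114798) (tt N61330 (iv7 F206224)))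
theorem Q32879 : ∀ i, i < 32879 → P i := stepQ 32878 Q32878 (allL N32878 (tt N61452 D114799) (tt N61453 D114800) (tt N61332 (iv2 F178604)) (tt N16546 F83695) (tt N61454 D114801) (tt N16517 (iv5 D52972)) (tt N16519 F83696) (tt N61443 (iv7 F178873)))
theorem Q32880 : ∀ i, i < 32880 → P i := stepQ 32879 Q32879 (allL N32879 (tt N56293 (iv1 F163361)) (tt N56287 (iv0 F163348)) (tt N56295 (iv2 F163369)) (tt N16518 (iv3 D52973)) (tt N36397 (iv4 F94483)) (tt N61455 D114802) (tt N51239 F144555) (tt N56094 (iv7 F162625)))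
theorem Q32881 : ∀ i, i < 32881 → P i := stepQ 32880 Q32880 (allL N32880 (tt N61372 (iv1 F178704)) (tt N61371 F178700) (tt N60904 (iv2 F177181)) (tt N61455 (iv3 F178877)) (tt N61456 D114803) (tt N16518 (iv5 D52974)) (tt N61457 D114804) (tt N56095 (iv7 F162629)))
theorem Q32882 : ∀ i, i < 32882 → P i := stepQ 32881 Q32881 (allL N32881 (tt N17085 (iv1 F83699)) (tt N17083 F83700) (tt N38282 F97848) (tt N51239 (iv3 F144551)) (tt N19046 F83697) (tt N58912 (iv5 F171439)) (tt N16518 (iv6 D52975)) (tt N22040 F83698))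
theorem Q32883 : ∀ i, i < 32883 → P i := stepQ 32882 Q32882 (allL N32882 (tt N22134 (iv1 F83701)) (tt N16519 (iv0 D52976)) (tt N60906 F177192) (tt N61458 D114805) (tt N61459 D114806) (tt N37291 (iv5 F95773)) (tt N61460 D114807) (tt N60905 F177188))
theorem Q32884 : ∀ i, i < 32884 → P i := stepQ 32883 Q32883 (allL N32883 (tt N16519 (iv1 D52977)) (tt N22134 F83702) (tt N60905 F177187) (tt N61230 F178396) (tt N61461 D114808) (tt N45157 F114656) (tt N61462 D114809) (tt N60906 (iv7 F177190)))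
theorem Q32885 : ∀ i, i < 32885 → P i := stepQ 32884 Q32884 (allL N32884 (tt N61463 D114810) (tt N60738 (iv0 F176810)) (tt N61334 (iv2 F178611)) (tt N61464 D114811) (tt N16519 (iv4 D52978)) (tt N61465 D114812) (tt N61454 (iv6 F178876)) (tt N60907 (iv7 F177195)))
theorem Q32886 : ∀ i, i < 32886 → P i := stepQ 32885 Q32885 (allL N32885 (tt N43224 (iv1 F108359)) (tt N45032 F114414) (tt N16521 F83703) (tt N61466 D114813) (tt N16520 (iv4 D52979)) (tt N35063 F90758) (tt N61467 D114814) (tt N45028 (iv7 F114404)))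
theorem Q32887 : ∀ i, i < 32887 → P i := stepQ 32886 Q32886 (allL N32886 (tt N61468 D114815) (tt N61469 D114816) (tt N16522 F83704) (tt N34685 (iv3 F88581)) (tt N61467 (iv4 F178887)) (tt N55804 (iv5 F161825)) (tt N16520 (iv6 D52980)) (tt N51290 (iv7 F144674)))
theorem Q32888 : ∀ i, i < 32888 → P i := stepQ 32887 Q32887 (allL N32887 (tt N45028 (iv1 F114406)) (tt N16521 (iv0 D52981)) (tt N43224 (iv2 F108354)) (tt N53062 F298177) (tt N32637 F83705) (tt N44758 F298178) (tt N46996 F310712) (tt N45032 (iv7 F114415)))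
theorem Q32889 : ∀ i, i < 32889 → P i := stepQ 32888 Q32888 (allL N32888 (tt N16521 (iv1 D52982)) (tt N45028 (iv0 F114405)) (tt N45032 F114413) (tt N23458 (iv3 F83708)) (tt N32591 F83706) (tt N23457 F83707) (tt N61470 D114819) (tt N43224 (iv7 F108356)))
theorem Q32890 : ∀ i, i < 32890 → P i := stepQ 32889 Q32889 (allL N32889 (tt N35061 (iv1 F90751)) (tt N25357 (iv0 F83710)) (tt N35063 F90757) (tt N32598 F83709) (tt N22305 F83711) (tt N16521 (iv5 D52983)) (tt N46951 F323006) (tt N35062 F90755))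
theorem Q32891 : ∀ i, i < 32891 → P i := stepQ 32890 Q32890 (allL N32890 (tt N61471 D114821) (tt N61472 D114822) (tt N61467 (iv2 F178886)) (tt N32599 F83712) (tt N16522 F83713) (tt N61473 D114823) (tt N16521 (iv6 D52984)) (tt N61474 D114824))
theorem Q32892 : ∀ i, i < 32892 → P i := stepQ 32891 Q32891 (allL N32891 (tt N51290 (iv1 F144676)) (tt N16522 (iv0 D52985)) (tt N61468 (iv2 F352404)) (tt N61475 D114826) (tt N61476 D114827) (tt N61477 D114828) (tt N61478 D114829) (tt N61469 (iv7 F352402)))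
theorem Q32893 : ∀ i, i < 32893 → P i := stepQ 32892 Q32892 (allL N32892 (tt N16522 (iv1 D52986)) (tt N51290 F144675) (tt N61469 (iv2 F352401)) (tt N46626 F316379) (tt N61479 D114832) (tt N61480 D114833) (tt N61481 D114834) (tt N61468 (iv7 F352406)))
theorem Q32894 : ∀ i, i < 32894 → P i := stepQ 32893 Q32893 (allL N32893 (tt N61475 (iv1 F352420)) (tt N61482 D114836) (tt N55804 (iv2 F161823)) (tt N16525 F83714) (tt N61483 D114837) (tt N16522 (iv5 D52987)) (tt N29891 F83715) (tt N51302 (iv7 F144693)))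
theorem Q32895 : ∀ i, i < 32895 → P i := stepQ 32894 Q32894 (allL N32894 (tt N61469 (iv1 F178889)) (tt N61468 F178888) (tt N51290 (iv2 F144673)) (tt N16526 F83716) (tt N61474 (iv4 F178900)) (tt N51302 (iv5 F144692)) (tt N27230 F83717) (tt N16522 (iv7 D52988)))
theorem Q32896 : ∀ i, i < 32896 → P i := stepQ 32895 Q32895 (allL N32895 (tt N61484 D114844) (tt N61485 D114845) (tt N34691 F153463) (tt N61417 (iv3 F325988)) (tt N61486 D114846) (tt N16523 (iv5 D52992)) (tt N61487 D114847) (tt N34694 (iv7 F153465)))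
theorem Q32897 : ∀ i, i < 32897 → P i := stepQ 32896 Q32896 (allL N32896 (tt N32916 (iv1 F178551)) (tt N61488 D114848) (tt N34692 F153455) (tt N61418 (iv3 F325990)) (tt N23239 F136446) (tt N44613 F112694) (tt N16523 (iv6 D52993)) (tt N61309 (iv7 F178561)))
theorem Q32898 : ∀ i, i < 32898 → P i := stepQ 32897 Q32897 (allL N32897 (tt N32904 F324269) (tt N55807 F324270) (tt N55806 (iv2 F335465)) (tt N16524 (iv3 D52995)) (tt N61489 D114852) (tt N61490 D114853) (tt N61491 D114854) (tt N34690 F153461))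
theorem Q32899 : ∀ i, i < 32899 → P i := stepQ 32898 Q32898 (allL N32898 (tt N61485 (iv1 F178912)) (tt N61484 F178911) (tt N34694 F153466) (tt N61490 (iv3 F178917)) (tt N61492 D114855) (tt N16524 (iv5 D52997)) (tt N61493 D114856) (tt N34691 F153462))
theorem Q32900 : ∀ i, i < 32900 → P i := stepQ 32899 Q32899 (allL N32899 (tt N55829 F161885) (tt N16538 F161886) (tt N34695 (iv2 F153467)) (tt N61491 (iv3 F178918)) (tt N23242 F136443) (tt N61494 D114857) (tt N16524 (iv6 D52998)) (tt N55828 F161878))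
theorem Q32901 : ∀ i, i < 32901 → P i := stepQ 32900 Q32900 (allL N32900 (tt N34698 (iv1 F88595)) (tt N16525 (iv0 D52999)) (tt N34696 F161744) (tt N61414 (iv3 F338603)) (tt N61078 (iv4 F177933)) (tt N61495 D114859) (tt N61496 D114860) (tt N34697 F161742))
theorem Q32902 : ∀ i, i < 32902 → P i := stepQ 32901 Q32901 (allL N32901 (tt N16525 (iv1 D53000)) (tt N34698 F88594) (tt N34697 (iv2 F161741)) (tt N34688 F322982) (tt N61079 (iv4 F177921)) (tt N32726 (iv5 F83720)) (tt N61497 D114862) (tt N34696 (iv7 F161743)))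
theorem Q32903 : ∀ i, i < 32903 → P i := stepQ 32902 Q32902 (allL N32902 (tt N46048 (iv1 F178264)) (tt N46040 F290519) (tt N27760 F83721) (tt N51848 (iv3 F147339)) (tt N16525 (iv4 D53001)) (tt N61498 D114863) (tt N27758 F83722) (tt N61499 D114864))
theorem Q32904 : ∀ i, i < 32904 → P i := stepQ 32903 Q32903 (allL N32903 (tt N34697 (iv1 F88590)) (tt N34696 F88593) (tt N34698 (iv2 F88591)) (tt N51302 (iv3 F144691)) (tt N61499 (iv4 F178936)) (tt N16526 F83723) (tt N51297 (iv6 F144681)) (tt N16525 (iv7 D53002)))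
theorem Q32905 : ∀ i, i < 32905 → P i := stepQ 32904 Q32904 (allL N32904 (tt N41779 (iv1 F319342)) (tt N32897 (iv0 F324269)) (tt N29592 F83724) (tt N17525 F83725) (tt N47707 (iv4 F129555)) (tt N17522 F83726) (tt N16527 (iv6 D53003)) (tt N61500 D114867))
theorem Q32906 : ∀ i, i < 32906 → P i := stepQ 32905 Q32905 (allL N32905 (tt N47705 (iv1 F129534)) (tt N47702 (iv0 F129521)) (tt N24297 F83727) (tt N47706 (iv3 F129539)) (tt N16528 (iv4 D53004)) (tt N24296 F83728) (tt N51490 (iv6 F145310)) (tt N29591 F83729))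
theorem Q32907 : ∀ i, i < 32907 → P i := stepQ 32906 Q32906 (allL N32906 (tt N61501 D114868) (tt N61502 D114869) (tt N16530 F83730) (tt N32787 F83731) (tt N41744 F314939) (tt N61503 D114870) (tt N16529 (iv6 D53005)) (tt N41799 (iv7 F317170)))
theorem Q32908 : ∀ i, i < 32908 → P i := stepQ 32907 Q32907 (allL N32907 (tt N41799 F317594) (tt N16530 (iv0 D53006)) (tt N61501 (iv2 F332532)) (tt N61504 D114873) (tt N54965 (iv4 F190342)) (tt N61505 D114875) (tt N61506 D114876) (tt N61502 (iv7 F359583)))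
theorem Q32909 : ∀ i, i < 32909 → P i := stepQ 32908 Q32908 (allL N32908 (tt N16530 (iv1 D53007)) (tt N41799 F317595) (tt N61502 (iv2 F359581)) (tt N61507 D114878) (tt N45194 (iv4 F319823)) (tt N61508 D114880) (tt N41769 (iv6 F319824)) (tt N61501 (iv7 F332533)))
theorem Q32910 : ∀ i, i < 32910 → P i := stepQ 32909 Q32909 (allL N32909 (tt N61509 D114882) (tt N61510 D114883) (tt N61503 (iv2 F178949)) (tt N16533 F83732) (tt N61511 D114884) (tt N16530 (iv5 D53008)) (tt N23130 F83733) (tt N61512 D114885))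
theorem Q32911 : ∀ i, i < 32911 → P i := stepQ 32910 Q32910 (allL N32910 (tt N61502 (iv1 F178948)) (tt N61501 F178955) (tt N41799 F317596) (tt N16534 F83734) (tt N41745 F317597) (tt N61512 (iv5 F178962)) (tt N29598 F83735) (tt N16530 (iv7 D53009)))
theorem Q32912 : ∀ i, i < 32912 → P i := stepQ 32911 Q32911 (allL N32911 (tt N61513 D114886) (tt N32744 (iv0 F190359)) (tt N61514 D114888) (tt N16531 (iv3 D53011)) (tt N47929 F334717) (tt N61515 D114890) (tt N61516 D114891) (tt N32952 F177818))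
theorem Q32913 : ∀ i, i < 32913 → P i := stepQ 32912 Q32912 (allL N32912 (tt N61251 (iv1 F178442)) (tt N61517 D114892) (tt N32950 F177820) (tt N61515 (iv3 F178964)) (tt N61518 D114893) (tt N16531 (iv5 D53013)) (tt N61519 D114894) (tt N32953 F177821))
theorem Q32914 : ∀ i, i < 32914 → P i := stepQ 32913 Q32913 (allL N32913 (tt N23242 F178023) (tt N61520 D114895) (tt N32951 F177815) (tt N61516 (iv3 F178965)) (tt N29845 F177816) (tt N42367 F106068) (tt N16531 (iv6 D53014)) (tt N61521 D114896))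
theorem Q32915 : ∀ i, i < 32915 → P i := stepQ 32914 Q32914 (allL N32914 (tt N21953 F335504) (tt N61522 D114898) (tt N61523 D114899) (tt N16532 (iv3 D53016)) (tt N61524 D114900) (tt N61525 D114901) (tt N61526 D114902) (tt N32949 F177825))
theorem Q32916 : ∀ i, i < 32916 → P i := stepQ 32915 Q32915 (allL N32915 (tt N61517 (iv1 F178966)) (tt N61251 F178443) (tt N32953 F177827) (tt N61525 (iv3 F178979)) (tt N61527 D114903) (tt N16532 (iv5 D53018)) (tt N61528 D114904) (tt N32950 F177828))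
theorem Q32917 : ∀ i, i < 32917 → P i := stepQ 32916 Q32916 (allL N32916 (tt N41770 F325417) (tt N32896 F178551) (tt N32954 F177829) (tt N61526 (iv3 F178980)) (tt N29848 F177830) (tt N61303 (iv5 F178549)) (tt N16532 (iv6 D53019)) (tt N61529 D114906))
theorem Q32918 : ∀ i, i < 32918 → P i := stepQ 32917 Q32917 (allL N32917 (tt N32948 (iv1 F83770)) (tt N16533 (iv0 D53020)) (tt N32955 F177451) (tt N26960 F177452) (tt N61530 D114907) (tt N61531 D114908) (tt N26957 F177453) (tt N32956 F177454))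
theorem Q32919 : ∀ i, i < 32919 → P i := stepQ 32918 Q32918 (allL N32918 (tt N16533 (iv1 D53021)) (tt N32948 F83769) (tt N32956 (iv2 F177455)) (tt N61532 D114909) (tt N61533 D114910) (tt N34402 (iv5 F87469)) (tt N61534 D114911) (tt N32955 (iv7 F177456)))
theorem Q32920 : ∀ i, i < 32920 → P i := stepQ 32919 Q32919 (allL N32919 (tt N61535 D114912) (tt N61536 D114913) (tt N32957 (iv2 F83775)) (tt N61537 D114914) (tt N16533 (iv4 D53022)) (tt N61538 D114915) (tt N23136 F83738) (tt N61539 D114916))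
theorem Q32921 : ∀ i, i < 32921 → P i := stepQ 32920 Q32920 (allL N32920 (tt N32956 (iv1 F83774)) (tt N32955 F83773) (tt N32948 (iv2 F83767)) (tt N61512 (iv3 F178961)) (tt N61539 (iv4 F179007)) (tt N16534 F83739) (tt N61540 D114917) (tt N16533 (iv7 D53023)))
theorem Q32922 : ∀ i, i < 32922 → P i := stepQ 32921 Q32921 (allL N32921 (tt N43030 F259136) (tt N16535 (iv0 D53030)) (tt N43031 F259137) (tt N61440 (iv3 F259168)) (tt N61541 D114920) (tt N60950 (iv5 F336815)) (tt N43026 (iv6 F259150)) (tt N34000 F259138))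
theorem Q32923 : ∀ i, i < 32923 → P i := stepQ 32922 Q32922 (allL N32922 (tt N43031 F258990) (tt N34000 (iv0 F258991)) (tt N16535 (iv2 D53032)) (tt N55821 (iv3 F161841)) (tt N61542 D114928) (tt N61543 D114929) (tt N61544 D114930) (tt N43030 F259139))
theorem Q32924 : ∀ i, i < 32924 → P i := stepQ 32923 Q32923 (allL N32923 (tt N61545 D114931) (tt N42990 (iv0 F336779)) (tt N61542 (iv2 F179015)) (tt N61546 D114933) (tt N16535 (iv4 D53033)) (tt N61547 D114934) (tt N61548 D114935) (tt N55830 (iv7 F161895)))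
theorem Q32925 : ∀ i, i < 32925 → P i := stepQ 32924 Q32924 (allL N32924 (tt N61549 D114936) (tt N61550 D114937) (tt N61543 (iv2 F179016)) (tt N16537 F83748) (tt N61551 D114938) (tt N16535 (iv5 D53034)) (tt N61552 D114939) (tt N55831 (iv7 F161897)))
theorem Q32926 : ∀ i, i < 32926 → P i := stepQ 32925 Q32925 (allL N32925 (tt N61553 D114940) (tt N61554 D114941) (tt N61544 (iv2 F179017)) (tt N16538 F83749) (tt N61548 (iv4 F179019)) (tt N57283 (iv5 F165961)) (tt N16535 (iv6 D53035)) (tt N61555 D114942))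
theorem Q32927 : ∀ i, i < 32927 → P i := stepQ 32926 Q32926 (allL N32926 (tt N61556 D114943) (tt N32630 (iv0 F355672)) (tt N61557 D114945) (tt N16536 (iv3 D53039)) (tt N61546 (iv4 F179018)) (tt N61558 D114946) (tt N61559 D114947) (tt N45007 (iv7 F177794)))
theorem Q32928 : ∀ i, i < 32928 → P i := stepQ 32927 Q32927 (allL N32927 (tt N61122 (iv1 F178036)) (tt N61560 D114948) (tt N45005 (iv2 F177789)) (tt N61558 (iv3 F179023)) (tt N61561 D114949) (tt N16536 (iv5 D53040)) (tt N61562 D114950) (tt N45008 (iv7 F177797)))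
theorem Q32929 : ∀ i, i < 32929 → P i := stepQ 32928 Q32928 (allL N32928 (tt N32609 F178922) (tt N61563 D114951) (tt N45006 (iv2 F177783)) (tt N61559 (iv3 F179024)) (tt N16538 F83752) (tt N45045 F177624) (tt N16536 (iv6 D53041)) (tt N61564 D114952))
theorem Q32930 : ∀ i, i < 32930 → P i := stepQ 32929 Q32929 (allL N32929 (tt N16541 (iv1 F83760)) (tt N16537 (iv0 D53043)) (tt N55824 F161868) (tt N61565 D114953) (tt N61566 D114954) (tt N32771 F83756) (tt N61567 D114955) (tt N55825 (iv7 F161871)))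
theorem Q32931 : ∀ i, i < 32931 → P i := stepQ 32930 Q32930 (allL N32930 (tt N16537 (iv1 D53044)) (tt N16541 F83757) (tt N55825 F161872) (tt N61437 (iv3 F338661)) (tt N61568 D114957) (tt N61569 D114958) (tt N55715 (iv6 F177327)) (tt N55824 F161869))
theorem Q32932 : ∀ i, i < 32932 → P i := stepQ 32931 Q32931 (allL N32931 (tt N61570 D114959) (tt N61571 D114960) (tt N55826 (iv2 F161873)) (tt N61572 D114961) (tt N16537 (iv4 D53045)) (tt N61573 D114962) (tt N61574 D114963) (tt N55833 (iv7 F161903)))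
theorem Q32933 : ∀ i, i < 32933 → P i := stepQ 32932 Q32932 (allL N32932 (tt N60839 F177014) (tt N61575 D114964) (tt N55827 (iv2 F161875)) (tt N61552 (iv3 F179020)) (tt N61574 (iv4 F179055)) (tt N57284 (iv5 F165962)) (tt N16537 (iv6 D53046)) (tt N61576 D114965))
theorem Q32934 : ∀ i, i < 32934 → P i := stepQ 32933 Q32933 (allL N32933 (tt N16538 (iv1 D53049)) (tt N55829 F161884) (tt N55828 (iv2 F161887)) (tt N61438 (iv3 F331598)) (tt N61520 (iv4 F178969)) (tt N61577 D114967) (tt N61309 (iv6 F178565)) (tt N34695 F161888))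
theorem Q32935 : ∀ i, i < 32935 → P i := stepQ 32934 Q32934 (allL N32934 (tt N55828 (iv1 F161876)) (tt N34695 F161883) (tt N55829 (iv2 F161880)) (tt N61555 (iv3 F179021)) (tt N61564 (iv4 F179032)) (tt N31376 (iv5 F161768)) (tt N45132 F161766) (tt N16538 (iv7 D53050)))
theorem Q32936 : ∀ i, i < 32936 → P i := stepQ 32935 Q32935 (allL N32935 (tt N16539 (iv1 D53053)) (tt N55821 F161845) (tt N55820 (iv2 F234965)) (tt N61433 (iv3 F206241)) (tt N54432 (iv4 F346727)) (tt N60962 (iv5 F251208)) (tt N61270 (iv6 F206243)) (tt N45031 (iv7 F206247)))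
theorem Q32937 : ∀ i, i < 32937 → P i := stepQ 32936 Q32936 (allL N32936 (tt N45031 (iv1 F234964)) (tt N55820 F161840) (tt N16539 (iv2 D53054)) (tt N43030 F259141) (tt N47465 (iv4 F334789)) (tt N61578 D114979) (tt N61579 D114980) (tt N55821 (iv7 F161842)))
theorem Q32938 : ∀ i, i < 32938 → P i := stepQ 32937 Q32937 (allL N32937 (tt N46996 (iv1 F334790)) (tt N46998 (iv0 F334791)) (tt N47465 (iv2 F334788)) (tt N61580 D114983) (tt N16539 (iv4 D53055)) (tt N61581 D114984) (tt N47516 F334787) (tt N47464 (iv7 F334799)))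
theorem Q32939 : ∀ i, i < 32939 → P i := stepQ 32938 Q32938 (allL N32938 (tt N50263 (iv1 F353836)) (tt N61582 D114987) (tt N61578 (iv2 F179064)) (tt N16541 F83762) (tt N61583 D114988) (tt N16539 (iv5 D53056)) (tt N61584 D114989) (tt N55822 (iv7 F161848)))
theorem Q32940 : ∀ i, i < 32940 → P i := stepQ 32939 Q32939 (allL N32939 (tt N47591 (iv1 F353838)) (tt N51288 (iv0 F353834)) (tt N61579 (iv2 F179065)) (tt N16542 F83763) (tt N47516 (iv4 F334786)) (tt N61585 D114992) (tt N16539 (iv6 D53057)) (tt N61586 D114993))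
theorem Q32941 : ∀ i, i < 32941 → P i := stepQ 32940 Q32940 (allL N32940 (tt N32593 (iv1 F339738)) (tt N43239 (iv0 F339739)) (tt N43237 (iv2 F333226)) (tt N16540 (iv3 D53058)) (tt N61580 (iv4 F179066)) (tt N61587 D114997) (tt N61588 D114998) (tt N43236 F333225))
theorem Q32942 : ∀ i, i < 32942 → P i := stepQ 32941 Q32941 (allL N32941 (tt N61560 (iv1 F179025)) (tt N61122 (iv0 F178037)) (tt N45008 (iv2 F177796)) (tt N61587 (iv3 F179071)) (tt N61589 D114999) (tt N16540 (iv5 D53059)) (tt N61590 D115000) (tt N45005 (iv7 F177790)))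
theorem Q32943 : ∀ i, i < 32943 → P i := stepQ 32942 Q32942 (allL N32942 (tt N46039 (iv1 F161760)) (tt N32641 F177895) (tt N45009 (iv2 F177799)) (tt N61588 (iv3 F179072)) (tt N16542 F83764) (tt N61175 (iv5 F178176)) (tt N16540 (iv6 D53060)) (tt N46038 (iv7 F161864)))
theorem Q32944 : ∀ i, i < 32944 → P i := stepQ 32943 Q32943 (allL N32943 (tt N61571 (iv1 F179051)) (tt N61570 F179050) (tt N55833 (iv2 F161902)) (tt N61591 D115001) (tt N16541 (iv4 D53061)) (tt N61592 D115002) (tt N61593 D115003) (tt N55826 (iv7 F161874)))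
theorem Q32945 : ∀ i, i < 32945 → P i := stepQ 32944 Q32944 (allL N32944 (tt N41308 (iv1 F175394)) (tt N32056 (iv0 F83765)) (tt N41306 F161790) (tt N61584 (iv3 F179068)) (tt N61593 (iv4 F179075)) (tt N61594 D115004) (tt N16541 (iv6 D53062)) (tt N41307 (iv7 F161791)))
theorem Q32946 : ∀ i, i < 32946 → P i := stepQ 32945 Q32945 (allL N32945 (tt N45132 (iv1 F161763)) (tt N16542 (iv0 D53063)) (tt N45134 F161761) (tt N33586 F323346) (tt N41770 (iv4 F324271)) (tt N55790 F161758) (tt N45143 F161762) (tt N41645 F323347))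
theorem Q32947 : ∀ i, i < 32947 → P i := stepQ 32946 Q32946 (allL N32946 (tt N32728 (iv1 F161748)) (tt N32725 (iv0 F83766)) (tt N55834 (iv2 F161904)) (tt N61585 (iv3 F179069)) (tt N61595 D115006) (tt N16542 (iv5 D53065)) (tt N61594 (iv6 F179077)) (tt N61596 D115007))
theorem Q32948 : ∀ i, i < 32948 → P i := stepQ 32947 Q32947 (allL N32947 (tt N41645 F323342) (tt N45134 F161861) (tt N45132 F161764) (tt N61586 (iv3 F179070)) (tt N46038 F161863) (tt N61596 (iv5 F179079)) (tt N55829 (iv6 F161882)) (tt N16542 (iv7 D53066)))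
theorem Q32949 : ∀ i, i < 32949 → P i := stepQ 32948 Q32948 (allL N32948 (tt N32918 (iv1 F83769)) (tt N32917 F83770) (tt N32920 F83767) (tt N61443 (iv3 F178872)) (tt N61597 D115008) (tt N16543 (iv5 D53067)) (tt N60969 (iv6 F177494)) (tt N16546 F83768))
theorem Q32950 : ∀ i, i < 32950 → P i := stepQ 32949 Q32949 (allL N32949 (tt N43026 F343520) (tt N34002 (iv0 F343521)) (tt N43024 F335502) (tt N16544 (iv3 D53069)) (tt N61598 D115012) (tt N61599 D115013) (tt N61600 D115014) (tt N32914 (iv7 F177825)))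
theorem Q32951 : ∀ i, i < 32951 → P i := stepQ 32950 Q32950 (allL N32950 (tt N61601 D115015) (tt N61602 D115016) (tt N32912 (iv2 F177820)) (tt N61599 (iv3 F179096)) (tt N61603 D115017) (tt N16544 (iv5 D53071)) (tt N61604 D115018) (tt N32915 (iv7 F177828)))
theorem Q32952 : ∀ i, i < 32952 → P i := stepQ 32951 Q32951 (allL N32951 (tt N45036 (iv1 F161793)) (tt N45143 (iv0 F161792)) (tt N32913 (iv2 F177815)) (tt N61600 (iv3 F179098)) (tt N29920 F177640) (tt N45084 F114490) (tt N16544 (iv6 D53072)) (tt N45141 F177836))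
theorem Q32953 : ∀ i, i < 32953 → P i := stepQ 32952 Q32952 (allL N32952 (tt N45029 (iv1 F206233)) (tt N61270 (iv0 F206230)) (tt N61269 (iv2 F190361)) (tt N16545 (iv3 D53074)) (tt N61605 D115022) (tt N61606 D115023) (tt N61607 D115024) (tt N32911 (iv7 F177818)))
theorem Q32954 : ∀ i, i < 32954 → P i := stepQ 32953 Q32953 (allL N32953 (tt N61602 (iv1 F179103)) (tt N61601 F179100) (tt N32915 (iv2 F177827)) (tt N61606 (iv3 F179118)) (tt N61608 D115025) (tt N16545 (iv5 D53076)) (tt N61609 D115026) (tt N32912 (iv7 F177821)))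
theorem Q32955 : ∀ i, i < 32955 → P i := stepQ 32954 Q32954 (allL N32954 (tt N61309 (iv1 F178563)) (tt N34692 F178573) (tt N32916 (iv2 F177829)) (tt N61607 (iv3 F179120)) (tt N29923 F177654) (tt N61610 D115027) (tt N16545 (iv6 D53077)) (tt N61488 (iv7 F178913)))
theorem Q32956 : ∀ i, i < 32956 → P i := stepQ 32955 Q32955 (allL N32955 (tt N32920 (iv1 F83773)) (tt N16546 (iv0 D53078)) (tt N32917 (iv2 F177451)) (tt N61611 D115028) (tt N61612 D115029) (tt N61250 (iv5 F178436)) (tt N51001 F177444) (tt N32918 F177456))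
theorem Q32957 : ∀ i, i < 32957 → P i := stepQ 32956 Q32956 (allL N32956 (tt N16546 (iv1 D53079)) (tt N32920 F83774) (tt N32918 F177455) (tt N51012 (iv3 F177447)) (tt N61613 D115030) (tt N45997 (iv5 F120056)) (tt N61614 D115031) (tt N32917 (iv7 F177454)))
theorem Q32958 : ∀ i, i < 32958 → P i := stepQ 32957 Q32957 (allL N32957 (tt N61615 D115032) (tt N61616 D115033) (tt N32919 F83775) (tt N61617 D115034) (tt N16546 (iv4 D53080)) (tt N61618 D115035) (tt N16553 F83776) (tt N61597 (iv7 F179084)))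
theorem Q32959 : ∀ i, i < 32959 → P i := stepQ 32958 Q32958 (allL N32958 (tt N16549 (iv1 F83778)) (tt N16547 (iv0 D53081)) (tt N23252 (iv2 F83779)) (tt N34011 (iv3 F86494)) (tt N61619 D115036) (tt N17461 F83777) (tt N50269 (iv6 F139371)) (tt N44956 (iv7 F114185)))
theorem Q32960 : ∀ i, i < 32960 → P i := stepQ 32959 Q32959 (allL N32959 (tt N16547 (iv1 D53082)) (tt N16549 F83780) (tt N44956 F114187) (tt N61371 F178701) (tt N61620 D115037) (tt N22577 F83782) (tt N61320 (iv6 F178585)) (tt N23252 F83781))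
theorem Q32961 : ∀ i, i < 32961 → P i := stepQ 32960 Q32960 (allL N32960 (tt N61023 (iv1 F177686)) (tt N61621 D115038) (tt N44957 (iv2 F114188)) (tt N61622 D115039) (tt N16547 (iv4 D53083)) (tt N32968 (iv5 F83790)) (tt N61623 D115040) (tt N44959 (iv7 F114193)))
theorem Q32962 : ∀ i, i < 32962 → P i := stepQ 32961 Q32961 (allL N32961 (tt N61624 D115041) (tt N61625 D115042) (tt N44958 (iv2 F114190)) (tt N44053 (iv3 F110761)) (tt N61623 (iv4 F179156)) (tt N29970 F83783) (tt N16547 (iv6 D53084)) (tt N61626 D115043))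
theorem Q32963 : ∀ i, i < 32963 → P i := stepQ 32962 Q32962 (allL N32962 (tt N26946 F138894) (tt N26555 (iv0 F83787)) (tt N26943 F83784) (tt N16549 F83785) (tt N61627 D115044) (tt N16548 (iv5 D53085)) (tt N61628 D115045) (tt N26944 F83786))
theorem Q32964 : ∀ i, i < 32964 → P i := stepQ 32963 Q32963 (allL N32963 (tt N61621 (iv1 F179151)) (tt N61023 (iv0 F177685)) (tt N44959 (iv2 F114192)) (tt N61629 D115046) (tt N16549 (iv4 D53086)) (tt N32966 (iv5 F83788)) (tt N61630 D115047) (tt N44957 (iv7 F114189)))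
theorem Q32965 : ∀ i, i < 32965 → P i := stepQ 32964 Q32964 (allL N32964 (tt N61631 D115048) (tt N61632 D115049) (tt N44960 (iv2 F114194)) (tt N61628 (iv3 F179163)) (tt N61630 (iv4 F179164)) (tt N42732 (iv5 F107032)) (tt N16549 (iv6 D53087)) (tt N61633 D115050))
theorem Q32966 : ∀ i, i < 32966 → P i := stepQ 32965 Q32965 (allL N32965 (tt N41751 (iv1 F104863)) (tt N21882 (iv0 F94965)) (tt N43027 F107969) (tt N16551 (iv3 D53088)) (tt N50984 (iv4 F329799)) (tt N36662 (iv5 F94962)) (tt N61634 D115052) (tt N43028 (iv7 F107973)))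
theorem Q32967 : ∀ i, i < 32967 → P i := stepQ 32966 Q32966 (allL N32966 (tt N45019 (iv1 F114345)) (tt N29926 F83789) (tt N44962 (iv2 F114198)) (tt N61635 D115053) (tt N16551 (iv4 D53089)) (tt N32963 F83788) (tt N61636 D115054) (tt N44964 (iv7 F114206)))
theorem Q32968 : ∀ i, i < 32968 → P i := stepQ 32967 Q32967 (allL N32967 (tt N61637 D115055) (tt N61638 D115056) (tt N44963 (iv2 F114202)) (tt N61634 (iv3 F179165)) (tt N61636 (iv4 F179167)) (tt N37283 (iv5 F95752)) (tt N16551 (iv6 D53090)) (tt N61639 D115057))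
theorem Q32969 : ∀ i, i < 32969 → P i := stepQ 32968 Q32968 (allL N32968 (tt N29926 F83791) (tt N45019 F114344) (tt N44964 (iv2 F114204)) (tt N61640 D115058) (tt N16552 (iv4 D53091)) (tt N32960 F83790) (tt N61641 D115059) (tt N44962 (iv7 F114199)))
theorem Q32970 : ∀ i, i < 32970 → P i := stepQ 32969 Q32969 (allL N32969 (tt N61642 D115060) (tt N61643 D115061) (tt N44965 (iv2 F114208)) (tt N50974 (iv3 F143187)) (tt N61641 (iv4 F179169)) (tt N45058 (iv5 F114457)) (tt N16552 (iv6 D53092)) (tt N61644 D115062))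
theorem Q32971 : ∀ i, i < 32971 → P i := stepQ 32970 Q32970 (allL N32970 (tt N32973 F83797) (tt N16553 (iv0 D53093)) (tt N44966 (iv2 F114213)) (tt N61645 D115063) (tt N23164 F83792) (tt N32980 (iv5 F83812)) (tt N61646 D115064) (tt N44967 (iv7 F114216)))
theorem Q32972 : ∀ i, i < 32972 → P i := stepQ 32971 Q32971 (allL N32971 (tt N16553 (iv1 D53094)) (tt N32973 F83798) (tt N44967 F114218) (tt N61647 D115065) (tt N23165 F83793) (tt N32975 (iv5 F83801)) (tt N61648 D115066) (tt N44966 (iv7 F114214)))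
theorem Q32973 : ∀ i, i < 32973 → P i := stepQ 32972 Q32972 (allL N32972 (tt N61649 D115067) (tt N61650 D115068) (tt N61651 D115069) (tt N16553 (iv3 D53095)) (tt N61464 (iv4 F178882)) (tt N61652 D115070) (tt N61617 (iv6 F179140)) (tt N60977 (iv7 F177501)))
theorem Q32974 : ∀ i, i < 32974 → P i := stepQ 32973 Q32973 (allL N32973 (tt N32971 (iv1 F83798)) (tt N32970 (iv0 F83797)) (tt N32573 F83794) (tt N61652 (iv3 F179172)) (tt N23137 F83796) (tt N16553 (iv5 D53096)) (tt N61653 D115071) (tt N23136 F83795))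
theorem Q32975 : ∀ i, i < 32975 → P i := stepQ 32974 Q32974 (allL N32974 (tt N61164 F178138) (tt N61654 D115072) (tt N55350 (iv2 F335356)) (tt N16555 F83799) (tt N53504 (iv4 F329997)) (tt N16554 (iv5 D53097)) (tt N61655 D115074) (tt N17203 F83800))
theorem Q32976 : ∀ i, i < 32976 → P i := stepQ 32975 Q32975 (allL N32975 (tt N61619 (iv1 F179147)) (tt N61620 (iv0 F179149)) (tt N44973 (iv2 F114235)) (tt N61656 D115075) (tt N16555 (iv4 D53098)) (tt N32971 F83801) (tt N61657 D115076) (tt N36666 (iv7 F94985)))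
theorem Q32977 : ∀ i, i < 32977 → P i := stepQ 32976 Q32976 (allL N32976 (tt N61658 D115077) (tt N61659 D115078) (tt N44974 (iv2 F114238)) (tt N61655 (iv3 F179182)) (tt N61657 (iv4 F179185)) (tt N30088 F83802) (tt N16555 (iv6 D53099)) (tt N61660 D115079))
theorem Q32978 : ∀ i, i < 32978 → P i := stepQ 32977 Q32977 (allL N32977 (tt N23193 F83806) (tt N18630 F83807) (tt N22577 F83803) (tt N36244 F94175) (tt N16556 (iv4 D53100)) (tt N44956 (iv5 F114186)) (tt N18488 F83804) (tt N17461 F83805))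
theorem Q32979 : ∀ i, i < 32979 → P i := stepQ 32978 Q32978 (allL N32978 (tt N61661 D115080) (tt N32603 (iv0 F83810)) (tt N41442 (iv2 F104224)) (tt N16557 (iv3 D53101)) (tt N17346 F83808) (tt N43240 (iv5 F108387)) (tt N17344 F83809) (tt N36668 (iv7 F94991)))
theorem Q32980 : ∀ i, i < 32980 → P i := stepQ 32979 Q32979 (allL N32979 (tt N61662 D115081) (tt N50017 (iv0 F138565)) (tt N61124 (iv2 F178041)) (tt N16559 F83811) (tt N50311 (iv4 F139496)) (tt N16558 (iv5 D53102)) (tt N61663 D115082) (tt N44972 (iv7 F114234)))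
theorem Q32981 : ∀ i, i < 32981 → P i := stepQ 32980 Q32980 (allL N32980 (tt N61620 (iv1 F179150)) (tt N61619 (iv0 F179146)) (tt N36666 (iv2 F94984)) (tt N61664 D115083) (tt N16559 (iv4 D53103)) (tt N32970 F83812) (tt N61665 D115084) (tt N44973 (iv7 F114237)))
theorem Q32982 : ∀ i, i < 32982 → P i := stepQ 32981 Q32981 (allL N32981 (tt N61183 (iv1 F290532)) (tt N61666 D115086) (tt N36667 (iv2 F94986)) (tt N61663 (iv3 F179198)) (tt N61665 (iv4 F179201)) (tt N29838 F83813) (tt N16559 (iv6 D53104)) (tt N61667 D115087))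
theorem Q32983 : ∀ i, i < 32983 → P i := stepQ 32982 Q32982 (allL N32982 (tt N18777 F83816) (tt N18775 F83817) (tt N19921 F83814) (tt N61668 D115088) (tt N16561 (iv4 D53105)) (tt N55845 (iv5 F161929)) (tt N58196 (iv6 F168994)) (tt N19561 F83815))
theorem Q32984 : ∀ i, i < 32984 → P i := stepQ 32983 Q32983 (allL N32983 (tt N18775 F83820) (tt N18777 F83821) (tt N19561 F83818) (tt N61669 D115089) (tt N16562 (iv4 D53106)) (tt N55846 (iv5 F161936)) (tt N61670 D115090) (tt N19921 F83819))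
theorem Q32985 : ∀ i, i < 32985 → P i := stepQ 32984 Q32984 (allL N32984 (tt N38237 (iv1 F98733)) (tt N38742 (iv0 F98728)) (tt N19562 F83822) (tt N30112 F83823) (tt N61670 (iv4 F179209)) (tt N37242 (iv5 F95697)) (tt N16562 (iv6 D53107)) (tt N39613 (iv7 F100497)))
theorem Q32986 : ∀ i, i < 32986 → P i := stepQ 32985 Q32985 (allL N32985 (tt N56676 F168431) (tt N61671 D115091) (tt N19924 F83824) (tt N19535 F83825) (tt N55837 (iv4 F161916)) (tt N20318 F83826) (tt N16563 (iv6 D53108)) (tt N61672 D115092))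
theorem Q32987 : ∀ i, i < 32987 → P i := stepQ 32986 Q32986 (allL N32986 (tt N61673 D115093) (tt N61674 D115094) (tt N38948 (iv2 F99072)) (tt N16564 (iv3 D53109)) (tt N16572 F83827) (tt N61675 D115095) (tt N19784 F83828) (tt N37094 (iv7 F95527)))
theorem Q32988 : ∀ i, i < 32988 → P i := stepQ 32987 Q32987 (allL N32987 (tt N19199 F83832) (tt N36979 (iv0 F95387)) (tt N19926 F83829) (tt N61675 (iv3 F179227)) (tt N19977 F83831) (tt N16564 (iv5 D53110)) (tt N61675 (iv6 F179228)) (tt N19975 F83830))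
theorem Q32989 : ∀ i, i < 32989 → P i := stepQ 32988 Q32988 (allL N32988 (tt N38834 (iv1 F102162)) (tt N38949 F99074) (tt N19927 F83833) (tt N16575 F83834) (tt N37095 (iv4 F95528)) (tt N32988 F83835) (tt N16565 (iv6 D53111)) (tt N19785 F83836))
theorem Q32990 : ∀ i, i < 32990 → P i := stepQ 32989 Q32989 (allL N32989 (tt N61676 D115096) (tt N41763 F325874) (tt N61677 D115098) (tt N16566 (iv3 D53112)) (tt N19793 F83837) (tt N61678 D115099) (tt N61679 D115100) (tt N33013 (iv7 F83865)))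
theorem Q32991 : ∀ i, i < 32991 → P i := stepQ 32990 Q32990 (allL N32990 (tt N38235 (iv1 F97731)) (tt N38234 F97728) (tt N18935 F83838) (tt N61678 (iv3 F179233)) (tt N38166 (iv4 F97573)) (tt N16566 (iv5 D53113)) (tt N43253 (iv6 F327112)) (tt N23842 F326286))
theorem Q32992 : ∀ i, i < 32992 → P i := stepQ 32991 Q32991 (allL N32991 (tt N61680 D115102) (tt N61681 D115103) (tt N18936 F83839) (tt N61679 (iv3 F179234)) (tt N16567 F83840) (tt N61682 D115104) (tt N16566 (iv6 D53114)) (tt N61683 D115105))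
theorem Q32993 : ∀ i, i < 32993 → P i := stepQ 32992 Q32992 (allL N32992 (tt N18938 (iv1 F83845)) (tt N18937 (iv0 F83846)) (tt N18939 F83841) (tt N19798 F83842) (tt N61683 (iv4 F179249)) (tt N31923 F83843) (tt N33015 (iv6 F83884)) (tt N16567 (iv7 D53115)))
theorem Q32994 : ∀ i, i < 32994 → P i := stepQ 32993 Q32993 (allL N32993 (tt N61684 D115106) (tt N61685 D115107) (tt N61686 D115108) (tt N16568 (iv3 D53116)) (tt N19799 F83847) (tt N61687 D115109) (tt N61688 D115110) (tt N33016 (iv7 F83888)))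
theorem Q32995 : ∀ i, i < 32995 → P i := stepQ 32994 Q32994 (allL N32994 (tt N37314 (iv1 F95795)) (tt N37311 (iv0 F95792)) (tt N19610 F83848) (tt N61687 (iv3 F179254)) (tt N57313 (iv4 F166032)) (tt N16568 (iv5 D53117)) (tt N32601 F323566) (tt N33017 (iv7 F83891)))
theorem Q32996 : ∀ i, i < 32996 → P i := stepQ 32995 Q32995 (allL N32995 (tt N61689 D115112) (tt N61690 D115113) (tt N19611 F83849) (tt N61688 (iv3 F179255)) (tt N16569 F83850) (tt N26892 (iv5 F324891)) (tt N16568 (iv6 D53118)) (tt N61691 D115115))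
theorem Q32997 : ∀ i, i < 32997 → P i := stepQ 32996 Q32996 (allL N32996 (tt N19614 F83852) (tt N16569 (iv0 D53119)) (tt N19612 F99267) (tt N30118 F165527) (tt N61692 D115116) (tt N61693 D115117) (tt N19622 F83851) (tt N19613 F99268))
theorem Q32998 : ∀ i, i < 32998 → P i := stepQ 32997 Q32997 (allL N32997 (tt N16569 (iv1 D53120)) (tt N19614 F83853) (tt N19613 F99269) (tt N61671 F179218) (tt N61694 D115118) (tt N33209 (iv5 F84188)) (tt N61695 D115119) (tt N19612 F99270))
theorem Q32999 : ∀ i, i < 32999 → P i := stepQ 32998 Q32998 (allL N32998 (tt N19613 (iv1 F83856)) (tt N19612 F83857) (tt N19614 F83854) (tt N19805 F83855) (tt N61691 (iv4 F179261)) (tt N44162 (iv5 F110983)) (tt N33021 (iv6 F83911)) (tt N16569 (iv7 D53121)))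
theorem Q33000 : ∀ i, i < 33000 → P i := stepQ 32999 Q32999 (allL N32999 (tt N32564 F333503) (tt N61696 D115121) (tt N61697 D115122) (tt N16570 (iv3 D53122)) (tt N36701 (iv4 F95064)) (tt N61698 D115123) (tt N50956 (iv6 F333516)) (tt N33025 (iv7 F83921)))
theorem Q33001 : ∀ i, i < 33001 → P i := stepQ 33000 Q33000 (allL N33000 (tt N37308 (iv1 F95789)) (tt N37302 (iv0 F95784)) (tt N33023 (iv2 F83916)) (tt N61698 (iv3 F179286)) (tt N55910 (iv4 F162125)) (tt N16570 (iv5 D53123)) (tt N61699 D115125) (tt N33026 (iv7 F83924)))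
theorem Q33002 : ∀ i, i < 33002 → P i := stepQ 33001 Q33001 (allL N33001 (tt N61692 F179270) (tt N61694 (iv0 F179280)) (tt N33024 (iv2 F83919)) (tt N50956 (iv3 F333514)) (tt N35922 (iv4 F93580)) (tt N50955 (iv5 F335800)) (tt N16570 (iv6 D53124)) (tt N61700 D115127))
theorem Q33003 : ∀ i, i < 33003 → P i := stepQ 33002 Q33002 (allL N33002 (tt N47536 F321108) (tt N61701 D115129) (tt N61702 D115130) (tt N16571 (iv3 D53125)) (tt N38675 (iv4 F98610)) (tt N61703 D115131) (tt N61704 D115132) (tt N33022 (iv7 F83915)))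
theorem Q33004 : ∀ i, i < 33004 → P i := stepQ 33003 Q33003 (allL N33003 (tt N37302 (iv1 F95785)) (tt N37308 (iv0 F95788)) (tt N33026 (iv2 F83922)) (tt N61703 (iv3 F179291)) (tt N57309 (iv4 F166016)) (tt N16571 (iv5 D53126)) (tt N61705 D115133) (tt N33023 (iv7 F83917)))
theorem Q33005 : ∀ i, i < 33005 → P i := stepQ 33004 Q33004 (allL N33004 (tt N32528 F327979) (tt N38862 (iv0 F168380)) (tt N33027 (iv2 F83925)) (tt N61704 (iv3 F179292)) (tt N35923 (iv4 F93584)) (tt N61706 D115135) (tt N16571 (iv6 D53127)) (tt N61707 D115136))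
theorem Q33006 : ∀ i, i < 33006 → P i := stepQ 33005 Q33005 (allL N33005 (tt N61708 D115137) (tt N16572 (iv0 D53128)) (tt N61709 D115138) (tt N45142 F327781) (tt N61710 D115140) (tt N45139 (iv5 F328238)) (tt N61711 D115142) (tt N61712 D115143))
theorem Q33007 : ∀ i, i < 33007 → P i := stepQ 33006 Q33006 (allL N33006 (tt N16572 (iv1 D53129)) (tt N61708 F179296) (tt N61712 (iv2 F179298)) (tt N61713 D115144) (tt N61714 D115145) (tt N41644 F338624) (tt N61715 D115147) (tt N61709 F179297))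
theorem Q33008 : ∀ i, i < 33008 → P i := stepQ 33007 Q33007 (allL N33007 (tt N61709 (iv1 F203441)) (tt N61712 (iv0 F203437)) (tt N16572 (iv2 D53130)) (tt N33030 (iv3 F83927)) (tt N38948 (iv4 F99073)) (tt N42351 F325785) (tt N19814 F83858) (tt N61708 (iv7 F179295)))
theorem Q33009 : ∀ i, i < 33009 → P i := stepQ 33008 Q33008 (allL N33008 (tt N42354 (iv1 F329381)) (tt N42349 (iv0 F329382)) (tt N42351 (iv2 F324668)) (tt N16573 F83859) (tt N34571 (iv4 F324669)) (tt N16572 (iv5 D53131)) (tt N39009 (iv6 F99147)) (tt N42352 F323271))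
theorem Q33010 : ∀ i, i < 33010 → P i := stepQ 33009 Q33009 (allL N33009 (tt N61712 (iv1 F203438)) (tt N61709 (iv0 F203440)) (tt N61708 F179293) (tt N16574 F83860) (tt N37094 (iv4 F95526)) (tt N42352 F323270) (tt N39007 (iv6 F99143)) (tt N16572 (iv7 D53132)))
theorem Q33011 : ∀ i, i < 33011 → P i := stepQ 33010 Q33010 (allL N33010 (tt N33037 (iv1 F83950)) (tt N16573 (iv0 D53133)) (tt N33033 F93568) (tt N42736 (iv3 F328855)) (tt N57306 (iv4 F166006)) (tt N35919 (iv5 F93565)) (tt N46081 (iv6 F328860)) (tt N33034 F93569))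
theorem Q33012 : ∀ i, i < 33012 → P i := stepQ 33011 Q33011 (allL N33011 (tt N61716 D115158) (tt N61717 D115159) (tt N33036 (iv2 F83944)) (tt N39009 (iv3 F99146)) (tt N57405 (iv4 F166379)) (tt N19818 F83861) (tt N16573 (iv6 D53135)) (tt N61718 D115160))
theorem Q33013 : ∀ i, i < 33013 → P i := stepQ 33012 Q33012 (allL N33012 (tt N32536 F327835) (tt N32522 F327836) (tt N32535 F328626) (tt N39007 (iv3 F99142)) (tt N16575 F83862) (tt N61719 D115161) (tt N16574 (iv6 D53136)) (tt N19819 F83863))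
theorem Q33014 : ∀ i, i < 33014 → P i := stepQ 33013 Q33013 (allL N33013 (tt N61720 D115162) (tt N61721 D115163) (tt N61722 D115164) (tt N16576 (iv3 D53137)) (tt N19826 F83864) (tt N46007 (iv5 F326294)) (tt N46008 (iv6 F326621)) (tt N32989 F83865))
theorem Q33015 : ∀ i, i < 33015 → P i := stepQ 33014 Q33014 (allL N33014 (tt N19420 (iv1 F83881)) (tt N16577 (iv0 D53140)) (tt N19418 (iv2 F83874)) (tt N29966 (iv3 F83880)) (tt N32510 (iv4 F326218)) (tt N19888 F83871) (tt N37398 (iv6 F95922)) (tt N19344 F83873))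
theorem Q33016 : ∀ i, i < 33016 → P i := stepQ 33015 Q33015 (allL N33015 (tt N19344 (iv1 F83885)) (tt N19418 F83886) (tt N19420 F83882) (tt N19831 F83883) (tt N46009 (iv4 F326215)) (tt N39147 (iv5 F99510)) (tt N32992 F83884) (tt N16577 (iv7 D53141)))
theorem Q33017 : ∀ i, i < 33017 → P i := stepQ 33016 Q33016 (allL N33016 (tt N61723 D115172) (tt N61724 D115173) (tt N61725 D115174) (tt N16578 (iv3 D53142)) (tt N19834 F83887) (tt N61726 D115175) (tt N61727 D115176) (tt N32993 F83888))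
theorem Q33018 : ∀ i, i < 33018 → P i := stepQ 33017 Q33017 (allL N33017 (tt N38228 (iv1 F97713)) (tt N38225 (iv0 F97701)) (tt N19747 F83889) (tt N61726 (iv3 F179340)) (tt N30482 F83890) (tt N16578 (iv5 D53143)) (tt N61728 D115177) (tt N32994 F83891))
theorem Q33019 : ∀ i, i < 33019 → P i := stepQ 33018 Q33018 (allL N33018 (tt N61729 D115178) (tt N61730 D115179) (tt N19748 F83892) (tt N61727 (iv3 F179342)) (tt N16579 F83893) (tt N61731 D115180) (tt N16578 (iv6 D53144)) (tt N61732 D115181))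
theorem Q33020 : ∀ i, i < 33020 → P i := stepQ 33019 Q33019 (allL N33019 (tt N19751 F83895) (tt N16579 (iv0 D53145)) (tt N19749 F99776) (tt N30099 (iv3 F168179)) (tt N60872 (iv4 F327972)) (tt N31158 F83894) (tt N39652 (iv6 F100534)) (tt N19750 F99777))
theorem Q33021 : ∀ i, i < 33021 → P i := stepQ 33020 Q33020 (allL N33020 (tt N16579 (iv1 D53146)) (tt N19751 F83896) (tt N19750 F99769) (tt N38509 (iv3 F163867)) (tt N60888 (iv4 F327983)) (tt N31141 (iv5 F83897)) (tt N19739 (iv6 F83900)) (tt N19749 F99770))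
theorem Q33022 : ∀ i, i < 33022 → P i := stepQ 33021 Q33021 (allL N33021 (tt N19750 (iv1 F83912)) (tt N19749 (iv0 F83913)) (tt N19751 F83908) (tt N19839 F83909) (tt N61732 (iv4 F179355)) (tt N31020 F83910) (tt N32998 F83911) (tt N16579 (iv7 D53147)))
theorem Q33023 : ∀ i, i < 33023 → P i := stepQ 33022 Q33022 (allL N33022 (tt N61733 D115184) (tt N61734 D115185) (tt N61735 D115186) (tt N16580 (iv3 D53148)) (tt N19717 F83914) (tt N61736 D115187) (tt N61737 D115188) (tt N33002 F83915))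
theorem Q33024 : ∀ i, i < 33024 → P i := stepQ 33023 Q33023 (allL N33023 (tt N38218 (iv1 F97681)) (tt N38220 (iv0 F97686)) (tt N33000 F83916) (tt N61736 (iv3 F179377)) (tt N30476 F83918) (tt N16580 (iv5 D53149)) (tt N61738 D115189) (tt N33003 F83917))
theorem Q33025 : ∀ i, i < 33025 → P i := stepQ 33024 Q33024 (allL N33024 (tt N38580 (iv1 F179271)) (tt N38582 (iv0 F167620)) (tt N33001 F83919) (tt N61737 (iv3 F179379)) (tt N57717 (iv4 F167618)) (tt N53490 (iv5 F335802)) (tt N16580 (iv6 D53150)) (tt N61739 D115191))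
theorem Q33026 : ∀ i, i < 33026 → P i := stepQ 33025 Q33025 (allL N33025 (tt N60961 (iv1 F333235)) (tt N55757 (iv0 F342952)) (tt N60935 (iv2 F347547)) (tt N16581 (iv3 D53151)) (tt N18703 F83920) (tt N61740 D115195) (tt N55744 (iv6 F332852)) (tt N32999 F83921))
theorem Q33027 : ∀ i, i < 33027 → P i := stepQ 33026 Q33026 (allL N33026 (tt N38220 (iv1 F97687)) (tt N38218 (iv0 F97680)) (tt N33003 F83922) (tt N61740 (iv3 F179395)) (tt N30469 F83923) (tt N16581 (iv5 D53152)) (tt N61741 D115197) (tt N33000 F83924))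
theorem Q33028 : ∀ i, i < 33028 → P i := stepQ 33027 Q33027 (allL N33027 (tt N60872 (iv1 F327971)) (tt N60888 (iv0 F327980)) (tt N33004 F83925) (tt N55744 (iv3 F332851)) (tt N18702 F83926) (tt N61742 D115198) (tt N16581 (iv6 D53153)) (tt N60886 (iv7 F327978)))
theorem Q33029 : ∀ i, i < 33029 → P i := stepQ 33028 Q33028 (allL N33028 (tt N61743 D115200) (tt N16582 (iv0 D53154)) (tt N61744 D115201) (tt N50206 (iv3 F335808)) (tt N61745 D115203) (tt N61746 D115204) (tt N50204 (iv6 F335807)) (tt N61747 D115206))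
theorem Q33030 : ∀ i, i < 33030 → P i := stepQ 33029 Q33029 (allL N33029 (tt N16582 (iv1 D53155)) (tt N61743 F179411) (tt N61747 (iv2 F179413)) (tt N61748 D115207) (tt N61749 D115208) (tt N61750 D115209) (tt N61751 D115210) (tt N61744 F179412))
theorem Q33031 : ∀ i, i < 33031 → P i := stepQ 33030 Q33030 (allL N33030 (tt N61744 (iv1 F211590)) (tt N61747 (iv0 F211603)) (tt N16582 (iv2 D53156)) (tt N33007 F83927) (tt N30104 F83928) (tt N61752 D115213) (tt N19848 F83929) (tt N61743 (iv7 F179410)))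
theorem Q33032 : ∀ i, i < 33032 → P i := stepQ 33031 Q33031 (allL N33031 (tt N61753 D115214) (tt N61754 D115215) (tt N61752 (iv2 F179418)) (tt N16583 F83930) (tt N61755 D115216) (tt N16582 (iv5 D53157)) (tt N61756 D115217) (tt N61757 D115218))
theorem Q33033 : ∀ i, i < 33033 → P i := stepQ 33032 Q33032 (allL N33032 (tt N61747 (iv1 F211604)) (tt N61744 (iv0 F211589)) (tt N61743 F179407) (tt N16584 F83931) (tt N30106 F83932) (tt N61757 (iv5 F179423)) (tt N60898 (iv6 F328631)) (tt N16582 (iv7 D53158)))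
theorem Q33034 : ∀ i, i < 33034 → P i := stepQ 33033 Q33033 (allL N33033 (tt N30489 (iv1 F83935)) (tt N16583 (iv0 D53159)) (tt N33010 (iv2 F93568)) (tt N45091 (iv3 F329169)) (tt N30462 (iv4 F83934)) (tt N30446 F83933) (tt N61758 D115221) (tt N23883 F328842))
theorem Q33035 : ∀ i, i < 33035 → P i := stepQ 33034 Q33034 (allL N33034 (tt N16583 (iv1 D53160)) (tt N30489 F83936) (tt N23883 (iv2 F328435)) (tt N21752 (iv3 F328470)) (tt N30454 (iv4 F83938)) (tt N18679 F83937) (tt N17442 (iv6 F328473)) (tt N33010 (iv7 F93569)))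
theorem Q33036 : ∀ i, i < 33036 → P i := stepQ 33035 Q33035 (allL N33035 (tt N30488 F83941) (tt N30487 F83942) (tt N30491 F83939) (tt N61759 D115224) (tt N16583 (iv4 D53161)) (tt N30440 F83940) (tt N61760 D115225) (tt N30439 F83943))
theorem Q33037 : ∀ i, i < 33037 → P i := stepQ 33036 Q33036 (allL N33036 (tt N61761 D115226) (tt N61762 D115227) (tt N33011 F83944) (tt N61756 (iv3 F179420)) (tt N61760 (iv4 F179438)) (tt N19852 F83945) (tt N16583 (iv6 D53162)) (tt N61763 D115228))
theorem Q33038 : ∀ i, i < 33038 → P i := stepQ 33037 Q33037 (allL N33037 (tt N23883 F328840) (tt N33010 F83950) (tt N30489 F83946) (tt N61757 (iv3 F179422)) (tt N30439 F83947) (tt N16584 F83948) (tt N61764 D115229) (tt N16583 (iv7 D53163)))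
theorem Q33039 : ∀ i, i < 33039 → P i := stepQ 33038 Q33038 (allL N33038 (tt N61765 D115231) (tt N61766 D115232) (tt N61767 D115233) (tt N16586 (iv3 D53165)) (tt N41235 (iv4 F103702)) (tt N58810 (iv5 F170805)) (tt N61768 D115234) (tt N16606 F83954))
theorem Q33040 : ∀ i, i < 33040 → P i := stepQ 33039 Q33039 (allL N33039 (tt N61769 D115235) (tt N44195 (iv0 F111082)) (tt N16616 F83955) (tt N61768 (iv3 F179455)) (tt N16587 F83956) (tt N61770 D115236) (tt N16586 (iv6 D53166)) (tt N61771 D115237))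
theorem Q33041 : ∀ i, i < 33041 → P i := stepQ 33040 Q33040 (allL N33040 (tt N16619 (iv1 F83961)) (tt N16587 (iv0 D53167)) (tt N16617 (iv2 F83958)) (tt N19880 F83959) (tt N61772 D115238) (tt N31885 F83957) (tt N39036 (iv6 F99213)) (tt N16618 F83960))
theorem Q33042 : ∀ i, i < 33042 → P i := stepQ 33041 Q33041 (allL N33041 (tt N16618 (iv1 F83968)) (tt N16617 F83969) (tt N16619 F83965) (tt N56945 (iv3 F165102)) (tt N61771 (iv4 F179462)) (tt N31034 F83966) (tt N16612 F83967) (tt N16587 (iv7 D53168)))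
theorem Q33043 : ∀ i, i < 33043 → P i := stepQ 33042 Q33042 (allL N33042 (tt N61773 D115239) (tt N61774 D115240) (tt N61775 D115241) (tt N16588 (iv3 D53169)) (tt N29665 F83970) (tt N61776 D115242) (tt N61777 D115243) (tt N16624 F83971))
theorem Q33044 : ∀ i, i < 33044 → P i := stepQ 33043 Q33043 (allL N33043 (tt N33077 (iv1 F84050)) (tt N33080 (iv0 F84053)) (tt N16632 F83972) (tt N61776 (iv3 F179477)) (tt N18186 F83974) (tt N16588 (iv5 D53170)) (tt N61778 D115244) (tt N16625 F83973))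
theorem Q33045 : ∀ i, i < 33045 → P i := stepQ 33044 Q33044 (allL N33044 (tt N61779 D115245) (tt N61780 D115246) (tt N16633 F83975) (tt N61777 (iv3 F179479)) (tt N16589 F83976) (tt N61781 D115247) (tt N16588 (iv6 D53171)) (tt N61782 D115248))
theorem Q33046 : ∀ i, i < 33046 → P i := stepQ 33045 Q33045 (allL N33045 (tt N16637 (iv1 F83983)) (tt N16589 (iv0 D53172)) (tt N16634 F99897) (tt N19893 F161292) (tt N61783 D115249) (tt N19893 F83977) (tt N59797 (iv6 F174056)) (tt N16635 F99898))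
theorem Q33047 : ∀ i, i < 33047 → P i := stepQ 33046 Q33046 (allL N33046 (tt N16635 (iv1 F83984)) (tt N16634 F83985) (tt N16637 F83980) (tt N57034 (iv3 F165268)) (tt N61782 (iv4 F179486)) (tt N19940 F83981) (tt N16630 F83982) (tt N16589 (iv7 D53174)))
theorem Q33048 : ∀ i, i < 33048 → P i := stepQ 33047 Q33047 (allL N33047 (tt N61784 D115250) (tt N61785 D115251) (tt N61786 D115252) (tt N16590 (iv3 D53175)) (tt N18308 F83986) (tt N61787 D115253) (tt N16640 F330510) (tt N16642 F83987))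
theorem Q33049 : ∀ i, i < 33049 → P i := stepQ 33048 Q33048 (allL N33048 (tt N33074 (iv1 F84046)) (tt N33068 (iv0 F84028)) (tt N16640 F83988) (tt N61787 (iv3 F179502)) (tt N57291 (iv4 F165977)) (tt N16590 (iv5 D53176)) (tt N61786 (iv6 F330514)) (tt N16644 F83989))
theorem Q33050 : ∀ i, i < 33050 → P i := stepQ 33049 Q33049 (allL N33049 (tt N20583 F102027) (tt N56997 (iv0 F165203)) (tt N16641 F83990) (tt N16640 F330509) (tt N18306 F83991) (tt N16638 (iv5 F330511)) (tt N16590 (iv6 D53177)) (tt N61788 D115257))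
theorem Q33051 : ∀ i, i < 33051 → P i := stepQ 33050 Q33050 (allL N33050 (tt N61789 D115258) (tt N61790 D115259) (tt N61791 D115260) (tt N16591 (iv3 D53178)) (tt N31429 F83992) (tt N61788 (iv5 F330513)) (tt N61792 D115262) (tt N16638 F83993))
theorem Q33052 : ∀ i, i < 33052 → P i := stepQ 33051 Q33051 (allL N33051 (tt N33068 (iv1 F84029)) (tt N33074 (iv0 F84045)) (tt N16644 F83994) (tt N61788 (iv3 F330512)) (tt N57288 (iv4 F165969)) (tt N16591 (iv5 D53179)) (tt N61793 D115263) (tt N16640 F83995))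
theorem Q33053 : ∀ i, i < 33053 → P i := stepQ 33052 Q33052 (allL N33052 (tt N61783 (iv1 F179493)) (tt N20637 F166203) (tt N16645 F83996) (tt N61792 (iv3 F179522)) (tt N31428 F83997) (tt N61794 D115264) (tt N16591 (iv6 D53180)) (tt N61795 D115265))
theorem Q33054 : ∀ i, i < 33054 → P i := stepQ 33053 Q33053 (allL N33053 (tt N61796 D115266) (tt N16592 (iv0 D53181)) (tt N61797 D115267) (tt N61798 D115268) (tt N61799 D115269) (tt N61800 D115270) (tt N61801 D115271) (tt N61802 D115272))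
theorem Q33055 : ∀ i, i < 33055 → P i := stepQ 33054 Q33054 (allL N33054 (tt N16592 (iv1 D53182)) (tt N61796 F179535) (tt N61802 (iv2 F179538)) (tt N61803 D115273) (tt N61804 D115274) (tt N61805 D115275) (tt N61806 D115276) (tt N61797 F179536))
theorem Q33056 : ∀ i, i < 33056 → P i := stepQ 33055 Q33055 (allL N33055 (tt N61797 (iv1 F362204)) (tt N61802 (iv0 F345476)) (tt N16592 (iv2 D53183)) (tt N16648 F83998) (tt N19904 F83999) (tt N61807 D115279) (tt N44176 (iv6 F111032)) (tt N61796 (iv7 F179534)))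
theorem Q33057 : ∀ i, i < 33057 → P i := stepQ 33056 Q33056 (allL N33056 (tt N61808 D115280) (tt N61809 D115281) (tt N61807 (iv2 F179542)) (tt N16593 F84000) (tt N61810 D115282) (tt N16592 (iv5 D53184)) (tt N61811 D115283) (tt N60399 (iv7 F176354)))
theorem Q33058 : ∀ i, i < 33058 → P i := stepQ 33057 Q33057 (allL N33057 (tt N61802 (iv1 F345477)) (tt N61797 (iv0 F362203)) (tt N61796 F179531) (tt N16594 F84001) (tt N19906 F84002) (tt N60399 (iv5 F176353)) (tt N61812 D115284) (tt N16592 (iv7 D53185)))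
theorem Q33059 : ∀ i, i < 33059 → P i := stepQ 33058 Q33058 (allL N33058 (tt N16655 (iv1 F84004)) (tt N16593 (iv0 D53186)) (tt N16651 (iv2 F84005)) (tt N61813 D115285) (tt N57298 (iv4 F165993)) (tt N18272 F84003) (tt N61814 D115286) (tt N16652 (iv7 F84006)))
theorem Q33060 : ∀ i, i < 33060 → P i := stepQ 33059 Q33059 (allL N33059 (tt N16593 (iv1 D53187)) (tt N16655 F84007) (tt N16652 (iv2 F84010)) (tt N61815 D115287) (tt N57297 (iv4 F165986)) (tt N20355 F84009) (tt N61816 D115288) (tt N16651 F84008))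
theorem Q33061 : ∀ i, i < 33061 → P i := stepQ 33060 Q33060 (allL N33060 (tt N61817 D115289) (tt N61818 D115290) (tt N16654 F84011) (tt N61811 (iv3 F179544)) (tt N58807 (iv4 F170800)) (tt N44181 (iv5 F111045)) (tt N16593 (iv6 D53188)) (tt N61819 D115291))
theorem Q33062 : ∀ i, i < 33062 → P i := stepQ 33061 Q33061 (allL N33061 (tt N44292 (iv1 F111535)) (tt N44291 F111534) (tt N16656 F84012) (tt N61812 (iv3 F179545)) (tt N16595 F84013) (tt N61820 D115292) (tt N16594 (iv6 D53189)) (tt N44182 (iv7 F111048)))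
theorem Q33063 : ∀ i, i < 33063 → P i := stepQ 33062 Q33062 (allL N33062 (tt N61821 D115293) (tt N61822 D115294) (tt N61823 D115295) (tt N16596 (iv3 D53190)) (tt N16606 F84014) (tt N59815 (iv5 F174125)) (tt N61824 D115296) (tt N41235 (iv7 F103703)))
theorem Q33064 : ∀ i, i < 33064 → P i := stepQ 33063 Q33063 (allL N33063 (tt N33482 F111253) (tt N41290 (iv0 F162030)) (tt N31026 F84015) (tt N61824 (iv3 F179561)) (tt N16597 F84016) (tt N61825 D115297) (tt N16596 (iv6 D53191)) (tt N41292 (iv7 F111446)))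
theorem Q33065 : ∀ i, i < 33065 → P i := stepQ 33064 Q33064 (allL N33064 (tt N31029 (iv1 F84022)) (tt N16597 (iv0 D53192)) (tt N31027 F111303) (tt N20307 F111300) (tt N55902 (iv4 F162078)) (tt N20003 F84017) (tt N44186 (iv6 F111062)) (tt N20343 F111301))
theorem Q33066 : ∀ i, i < 33066 → P i := stepQ 33065 Q33065 (allL N33065 (tt N16597 (iv1 D53193)) (tt N31029 F84018) (tt N20343 F111302) (tt N30231 (iv3 F111281)) (tt N55903 F162081) (tt N20002 (iv5 F84019)) (tt N61826 D115298) (tt N31027 (iv7 F111305)))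
theorem Q33067 : ∀ i, i < 33067 → P i := stepQ 33066 Q33066 (allL N33066 (tt N20343 F111292) (tt N31027 F84024) (tt N31029 F84020) (tt N16612 F84021) (tt N41292 F111231) (tt N57788 (iv5 F167746)) (tt N56945 (iv6 F165103)) (tt N16597 (iv7 D53194)))
theorem Q33068 : ∀ i, i < 33068 → P i := stepQ 33067 Q33067 (allL N33067 (tt N61827 D115299) (tt N61828 D115300) (tt N61829 D115301) (tt N16600 (iv3 D53195)) (tt N20009 F84025) (tt N61830 D115302) (tt N61831 D115303) (tt N56886 (iv7 F164984)))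
theorem Q33069 : ∀ i, i < 33069 → P i := stepQ 33068 Q33068 (allL N33068 (tt N33048 F84028) (tt N33051 F84029) (tt N20357 F84026) (tt N61830 (iv3 F179568)) (tt N32075 F84027) (tt N16600 (iv5 D53196)) (tt N61832 D115304) (tt N33163 (iv7 F84160)))
theorem Q33070 : ∀ i, i < 33070 → P i := stepQ 33069 Q33069 (allL N33069 (tt N61833 D115305) (tt N61834 D115306) (tt N20358 F84030) (tt N61831 (iv3 F179569)) (tt N16601 F84031) (tt N61835 D115307) (tt N16600 (iv6 D53197)) (tt N61836 D115308))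
theorem Q33071 : ∀ i, i < 33071 → P i := stepQ 33070 Q33070 (allL N33070 (tt N20361 F84033) (tt N16601 (iv0 D53198)) (tt N20359 (iv2 F99258)) (tt N32036 (iv3 F165614)) (tt N61837 D115309) (tt N31907 F84032) (tt N33211 (iv6 F84190)) (tt N20360 F99257))
theorem Q33072 : ∀ i, i < 33072 → P i := stepQ 33071 Q33071 (allL N33071 (tt N16601 (iv1 D53199)) (tt N20361 F84034) (tt N20360 F99255) (tt N56946 F168332) (tt N61838 D115310) (tt N31939 (iv5 F84035)) (tt N39034 (iv6 F99208)) (tt N20359 (iv7 F99256)))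
theorem Q33073 : ∀ i, i < 33073 → P i := stepQ 33072 Q33072 (allL N33072 (tt N20360 (iv1 F84039)) (tt N20359 F84040) (tt N20361 F84036) (tt N20014 F84037) (tt N61836 (iv4 F179577)) (tt N31805 F84038) (tt N44162 (iv6 F110984)) (tt N16601 (iv7 D53200)))
theorem Q33074 : ∀ i, i < 33074 → P i := stepQ 33073 Q33073 (allL N33073 (tt N61839 D115311) (tt N61840 D115312) (tt N61841 D115313) (tt N16602 (iv3 D53201)) (tt N16671 F84041) (tt N61842 D115314) (tt N61843 D115315) (tt N20356 F84042))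
theorem Q33075 : ∀ i, i < 33075 → P i := stepQ 33074 Q33074 (allL N33074 (tt N33051 F84045) (tt N33048 F84046) (tt N33163 F84158) (tt N61842 (iv3 F179605)) (tt N32078 F84043) (tt N16602 (iv5 D53202)) (tt N61844 D115316) (tt N20357 F84044))
theorem Q33076 : ∀ i, i < 33076 → P i := stepQ 33075 Q33075 (allL N33075 (tt N61845 D115317) (tt N61846 D115318) (tt N44216 (iv2 F111132)) (tt N61843 (iv3 F179607)) (tt N16603 F84047) (tt N61847 D115319) (tt N16602 (iv6 D53203)) (tt N44215 (iv7 F111131)))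
theorem Q33077 : ∀ i, i < 33077 → P i := stepQ 33076 Q33076 (allL N33076 (tt N61848 D115320) (tt N61849 D115321) (tt N61850 D115322) (tt N16604 (iv3 D53204)) (tt N33516 (iv4 F85021)) (tt N61851 D115323) (tt N61852 D115324) (tt N41117 (iv7 F103395)))
theorem Q33078 : ∀ i, i < 33078 → P i := stepQ 33077 Q33077 (allL N33077 (tt N30268 F84049) (tt N33043 F84050) (tt N33131 F84116) (tt N61851 (iv3 F179615)) (tt N32066 F84048) (tt N16604 (iv5 D53205)) (tt N61853 D115325) (tt N33130 F84112))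
theorem Q33079 : ∀ i, i < 33079 → P i := stepQ 33078 Q33078 (allL N33078 (tt N61837 F179585) (tt N61838 (iv0 F179589)) (tt N56888 (iv2 F164987)) (tt N61852 (iv3 F179616)) (tt N33515 (iv4 F85019)) (tt N61854 D115326) (tt N16604 (iv6 D53206)) (tt N61855 D115327))
theorem Q33080 : ∀ i, i < 33080 → P i := stepQ 33079 Q33079 (allL N33079 (tt N61856 D115328) (tt N61857 D115329) (tt N61858 D115330) (tt N16605 (iv3 D53207)) (tt N20451 F84051) (tt N61859 D115331) (tt N61860 D115332) (tt N56887 (iv7 F164986)))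
theorem Q33081 : ∀ i, i < 33081 → P i := stepQ 33080 Q33080 (allL N33080 (tt N33043 F84053) (tt N30268 F84054) (tt N33130 F84111) (tt N61859 (iv3 F179623)) (tt N32070 F84052) (tt N16605 (iv5 D53208)) (tt N61861 D115333) (tt N33131 (iv7 F84114)))
theorem Q33082 : ∀ i, i < 33082 → P i := stepQ 33081 Q33081 (allL N33081 (tt N44161 F110982) (tt N44214 F111128) (tt N41118 (iv2 F103396)) (tt N61860 (iv3 F179624)) (tt N36022 (iv4 F93822)) (tt N61862 D115334) (tt N16605 (iv6 D53209)) (tt N44212 (iv7 F203867)))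
theorem Q33083 : ∀ i, i < 33083 → P i := stepQ 33082 Q33082 (allL N33082 (tt N61767 (iv1 F179452)) (tt N16606 (iv0 D53210)) (tt N61766 (iv2 F203962)) (tt N61863 D115337) (tt N61864 D115338) (tt N61865 D115339) (tt N61866 D115340) (tt N61765 (iv7 F203961)))
theorem Q33084 : ∀ i, i < 33084 → P i := stepQ 33083 Q33083 (allL N33083 (tt N16606 (iv1 D53211)) (tt N61767 F179454) (tt N61765 (iv2 F203960)) (tt N61867 D115342) (tt N61868 D115343) (tt N61869 D115344) (tt N61870 D115345) (tt N61766 (iv7 F203963)))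
theorem Q33085 : ∀ i, i < 33085 → P i := stepQ 33084 Q33084 (allL N33084 (tt N61766 (iv1 F179453)) (tt N61765 F179449) (tt N16606 (iv2 D53212)) (tt N56891 (iv3 F164991)) (tt N61823 (iv4 F179560)) (tt N61871 D115346) (tt N61872 D115347) (tt N61767 (iv7 F179451)))
theorem Q33086 : ∀ i, i < 33086 → P i := stepQ 33085 Q33085 (allL N33085 (tt N61873 D115348) (tt N61874 D115349) (tt N61871 (iv2 F179629)) (tt N16607 F84055) (tt N48006 F321477) (tt N16606 (iv5 D53213)) (tt N61875 D115351) (tt N58810 (iv7 F170806)))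
theorem Q33087 : ∀ i, i < 33087 → P i := stepQ 33086 Q33086 (allL N33086 (tt N61876 D115352) (tt N61877 D115353) (tt N61872 (iv2 F179630)) (tt N16608 F84056) (tt N61824 (iv4 F179562)) (tt N61878 D115354) (tt N16606 (iv6 D53214)) (tt N61879 D115355))
theorem Q33088 : ∀ i, i < 33088 → P i := stepQ 33087 Q33087 (allL N33087 (tt N16615 (iv1 F84059)) (tt N16607 (iv0 D53215)) (tt N56894 F165002) (tt N61880 D115356) (tt N30429 F84058) (tt N16622 F84057) (tt N61881 D115357) (tt N36685 (iv7 F95025)))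
theorem Q33089 : ∀ i, i < 33089 → P i := stepQ 33088 Q33088 (allL N33088 (tt N16607 (iv1 D53216)) (tt N16615 F84060) (tt N36685 (iv2 F95024)) (tt N61882 D115358) (tt N32059 (iv4 F84062)) (tt N16623 F84061) (tt N61883 D115359) (tt N56894 (iv7 F165004)))
theorem Q33090 : ∀ i, i < 33090 → P i := stepQ 33089 Q33089 (allL N33089 (tt N61884 D115360) (tt N61885 D115361) (tt N56895 (iv2 F165005)) (tt N61875 (iv3 F179632)) (tt N32081 F84063) (tt N61886 D115362) (tt N16607 (iv6 D53217)) (tt N61887 D115363))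
theorem Q33091 : ∀ i, i < 33091 → P i := stepQ 33090 Q33090 (allL N33090 (tt N56898 (iv1 F165016)) (tt N16608 (iv0 D53218)) (tt N56896 F165006) (tt N61888 D115364) (tt N36025 (iv4 F111431)) (tt N61889 D115365) (tt N44199 F166213) (tt N41182 (iv7 F111435)))
theorem Q33092 : ∀ i, i < 33092 → P i := stepQ 33091 Q33091 (allL N33091 (tt N16608 (iv1 D53219)) (tt N56898 F165015) (tt N41182 (iv2 F165008)) (tt N61890 D115366) (tt N36026 F165010) (tt N61891 D115367) (tt N61892 D115368) (tt N56896 F165007))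
theorem Q33093 : ∀ i, i < 33093 → P i := stepQ 33092 Q33092 (allL N33092 (tt N61893 D115369) (tt N61894 D115370) (tt N56897 (iv2 F165011)) (tt N61878 (iv3 F179633)) (tt N61895 D115371) (tt N16608 (iv5 D53220)) (tt N61886 (iv6 F179639)) (tt N61896 D115372))
theorem Q33094 : ∀ i, i < 33094 → P i := stepQ 33093 Q33093 (allL N33093 (tt N41182 F111232) (tt N56896 F165009) (tt N56898 (iv2 F165012)) (tt N61879 (iv3 F179634)) (tt N16612 F84064) (tt N61896 (iv5 F179644)) (tt N61771 (iv6 F179463)) (tt N16608 (iv7 D53221)))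
theorem Q33095 : ∀ i, i < 33095 → P i := stepQ 33094 Q33094 (allL N33094 (tt N61897 D115373) (tt N60363 (iv0 F176283)) (tt N20415 (iv2 F111217)) (tt N61898 D115374) (tt N16609 (iv4 D53224)) (tt N61899 D115375) (tt N44203 (iv6 F111105)) (tt N39491 (iv7 F100325)))
theorem Q33096 : ∀ i, i < 33096 → P i := stepQ 33095 Q33095 (allL N33095 (tt N60363 F176282) (tt N61897 F179647) (tt N39491 (iv2 F100324)) (tt N22146 F321635) (tt N16610 (iv4 D53227)) (tt N61900 D115377) (tt N61901 D115378) (tt N20415 (iv7 F111218)))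
theorem Q33097 : ∀ i, i < 33097 → P i := stepQ 33096 Q33096 (allL N33096 (tt N33208 F84187) (tt N33211 F100584) (tt N39492 (iv2 F100326)) (tt N16678 F111209) (tt N61901 (iv4 F179657)) (tt N41065 (iv5 F111225)) (tt N16610 (iv6 D53228)) (tt N41065 (iv7 F111227)))
theorem Q33098 : ∀ i, i < 33098 → P i := stepQ 33097 Q33097 (allL N33097 (tt N19961 F84068) (tt N16611 (iv0 D53229)) (tt N19959 F99940) (tt N20041 F102073) (tt N61902 D115379) (tt N20041 F84067) (tt N61903 D115380) (tt N19960 F99941))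
theorem Q33099 : ∀ i, i < 33099 → P i := stepQ 33098 Q33098 (allL N33098 (tt N61904 D115381) (tt N33733 F328848) (tt N19958 F84070) (tt N61905 D115383) (tt N16611 (iv4 D53231)) (tt N61906 D115384) (tt N16613 F84071) (tt N61907 D115385))
theorem Q33100 : ∀ i, i < 33100 → P i := stepQ 33099 Q33099 (allL N33099 (tt N19960 (iv1 F84075)) (tt N19959 (iv0 F84076)) (tt N19961 F84072) (tt N57788 (iv3 F167744)) (tt N61907 (iv4 F179676)) (tt N16612 F84073) (tt N19955 F84074) (tt N16611 (iv7 D53232)))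
theorem Q33101 : ∀ i, i < 33101 → P i := stepQ 33100 Q33100 (allL N33100 (tt N16613 (iv1 D53233)) (tt N19857 F84077) (tt N19948 (iv2 F84080)) (tt N61908 D115386) (tt N19184 F84079) (tt N55852 (iv5 F161944)) (tt N61909 D115387) (tt N19949 F84078))
theorem Q33102 : ∀ i, i < 33102 → P i := stepQ 33101 Q33101 (allL N33101 (tt N61910 D115388) (tt N61911 D115389) (tt N61912 D115390) (tt N16613 (iv3 D53234)) (tt N30484 F84081) (tt N61913 D115391) (tt N61905 (iv6 F179673)) (tt N19950 F84082))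
theorem Q33103 : ∀ i, i < 33103 → P i := stepQ 33102 Q33102 (allL N33102 (tt N39267 (iv1 F99802)) (tt N39270 (iv0 F99805)) (tt N19957 F84083) (tt N61913 (iv3 F179699)) (tt N19252 F84085) (tt N16613 (iv5 D53235)) (tt N61914 D115392) (tt N19951 F84084))
theorem Q33104 : ∀ i, i < 33104 → P i := stepQ 33103 Q33103 (allL N33103 (tt N56891 (iv1 F164994)) (tt N16614 (iv0 D53236)) (tt N56890 (iv2 F180675)) (tt N61915 D115394) (tt N61916 D115395) (tt N61917 D115396) (tt N61918 D115397) (tt N56889 (iv7 F180678)))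
theorem Q33105 : ∀ i, i < 33105 → P i := stepQ 33104 Q33104 (allL N33104 (tt N16614 (iv1 D53237)) (tt N56891 F164995) (tt N56889 (iv2 F180677)) (tt N61919 D115399) (tt N57192 (iv4 F165766)) (tt N61920 D115400) (tt N61921 D115401) (tt N56890 (iv7 F180676)))
theorem Q33106 : ∀ i, i < 33106 → P i := stepQ 33105 Q33105 (allL N33105 (tt N56890 F164990) (tt N56889 F164988) (tt N16614 (iv2 D53238)) (tt N61767 (iv3 F179450)) (tt N32041 F84086) (tt N61922 D115402) (tt N61923 D115403) (tt N56891 (iv7 F164993)))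
theorem Q33107 : ∀ i, i < 33107 → P i := stepQ 33106 Q33106 (allL N33106 (tt N61924 D115404) (tt N61925 D115405) (tt N61922 (iv2 F179705)) (tt N16615 F84087) (tt N61926 D115406) (tt N16614 (iv5 D53239)) (tt N61927 D115407) (tt N56892 (iv7 F164997)))
theorem Q33108 : ∀ i, i < 33108 → P i := stepQ 33107 Q33107 (allL N33107 (tt N61928 D115408) (tt N61929 D115409) (tt N61923 (iv2 F179706)) (tt N16616 F84088) (tt N32042 F84089) (tt N61930 D115410) (tt N16614 (iv6 D53240)) (tt N61931 D115411))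
theorem Q33109 : ∀ i, i < 33109 → P i := stepQ 33108 Q33108 (allL N33108 (tt N61932 D115412) (tt N61933 D115413) (tt N58811 (iv2 F170807)) (tt N61927 (iv3 F179709)) (tt N58765 (iv4 F170624)) (tt N61934 D115414) (tt N16615 (iv6 D53241)) (tt N61935 D115415))
theorem Q33110 : ∀ i, i < 33110 → P i := stepQ 33109 Q33109 (allL N33109 (tt N61771 (iv1 F179465)) (tt N16616 (iv0 D53242)) (tt N61769 F179457) (tt N61936 D115416) (tt N58988 F171691) (tt N61937 D115417) (tt N61938 D115418) (tt N44195 (iv7 F171692)))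
theorem Q33111 : ∀ i, i < 33111 → P i := stepQ 33110 Q33110 (allL N33110 (tt N16616 (iv1 D53243)) (tt N61771 F179464) (tt N44195 (iv2 F111081)) (tt N61939 D115419) (tt N33539 (iv4 F85073)) (tt N61940 D115420) (tt N44157 F110966) (tt N61769 (iv7 F179458)))
theorem Q33112 : ∀ i, i < 33112 → P i := stepQ 33111 Q33111 (allL N33111 (tt N61941 D115421) (tt N61942 D115422) (tt N61770 (iv2 F179460)) (tt N61930 (iv3 F179710)) (tt N61943 D115423) (tt N16616 (iv5 D53244)) (tt N61934 (iv6 F179713)) (tt N61944 D115424))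
theorem Q33113 : ∀ i, i < 33113 → P i := stepQ 33112 Q33112 (allL N33112 (tt N44195 (iv1 F111083)) (tt N61769 F179459) (tt N61771 (iv2 F179461)) (tt N61931 (iv3 F179711)) (tt N16619 F84090) (tt N61944 (iv5 F179715)) (tt N56898 (iv6 F165014)) (tt N16616 (iv7 D53245)))
theorem Q33114 : ∀ i, i < 33114 → P i := stepQ 33113 Q33113 (allL N33113 (tt N61945 D115425) (tt N58058 (iv0 F168791)) (tt N61772 (iv2 F179466)) (tt N40500 (iv3 F339850)) (tt N16617 (iv4 D53246)) (tt N40499 (iv5 F339851)) (tt N61946 D115428) (tt N20510 F84091))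
theorem Q33115 : ∀ i, i < 33115 → P i := stepQ 33114 Q33114 (allL N33114 (tt N39034 (iv1 F99206)) (tt N39033 (iv0 F99205)) (tt N39036 (iv2 F99211)) (tt N16701 F84092) (tt N61946 (iv4 F179724)) (tt N18987 F84093) (tt N16617 (iv6 D53247)) (tt N18986 F84094))
theorem Q33116 : ∀ i, i < 33116 → P i := stepQ 33115 Q33115 (allL N33115 (tt N58058 F168790) (tt N61945 F179718) (tt N20510 F84095) (tt N61947 D115429) (tt N16618 (iv4 D53248)) (tt N61948 D115430) (tt N39039 F99221) (tt N61772 (iv7 F179467)))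
theorem Q33117 : ∀ i, i < 33117 → P i := stepQ 33116 Q33116 (allL N33116 (tt N61949 D115431) (tt N61950 D115432) (tt N61951 D115433) (tt N16620 (iv3 D53249)) (tt N16624 F84096) (tt N59913 (iv5 F174596)) (tt N61952 D115434) (tt N29665 F84097))
theorem Q33118 : ∀ i, i < 33118 → P i := stepQ 33117 Q33117 (allL N33117 (tt N36181 F102035) (tt N61953 D115435) (tt N29664 F84098) (tt N61952 (iv3 F179735)) (tt N16621 F84099) (tt N39726 F347215) (tt N16620 (iv6 D53250)) (tt N61954 D115437))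
theorem Q33119 : ∀ i, i < 33119 → P i := stepQ 33118 Q33118 (allL N33118 (tt N56368 (iv1 F163622)) (tt N16621 (iv0 D53251)) (tt N56367 F163610) (tt N20523 F111140) (tt N55935 (iv4 F162186)) (tt N61955 D115438) (tt N39411 F111141) (tt N20544 F111142))
theorem Q33120 : ∀ i, i < 33120 → P i := stepQ 33119 Q33119 (allL N33119 (tt N16621 (iv1 D53252)) (tt N56368 F163621) (tt N20544 F163613) (tt N60323 F176207) (tt N55936 F163645) (tt N61956 D115439) (tt N61957 D115440) (tt N56367 F163614))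
theorem Q33121 : ∀ i, i < 33121 → P i := stepQ 33120 Q33120 (allL N33120 (tt N19694 F84102) (tt N38932 F99037) (tt N38457 (iv2 F98327)) (tt N16629 F84100) (tt N37820 (iv4 F96666)) (tt N16621 (iv5 D53253)) (tt N19409 F84101) (tt N37413 (iv7 F95937)))
theorem Q33122 : ∀ i, i < 33122 → P i := stepQ 33121 Q33121 (allL N33121 (tt N20544 F102195) (tt N56367 F163615) (tt N56368 (iv2 F163616)) (tt N16630 F84103) (tt N61954 (iv4 F179743)) (tt N37413 (iv5 F95936)) (tt N57034 (iv6 F165271)) (tt N16621 (iv7 D53254)))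
theorem Q33123 : ∀ i, i < 33123 → P i := stepQ 33122 Q33122 (allL N33122 (tt N61958 D115441) (tt N61959 D115442) (tt N61960 D115443) (tt N16622 (iv3 D53255)) (tt N33509 (iv4 F85002)) (tt N61880 (iv5 F179635)) (tt N61961 D115444) (tt N36684 (iv7 F95023)))
theorem Q33124 : ∀ i, i < 33124 → P i := stepQ 33123 Q33123 (allL N33123 (tt N44297 (iv1 F168140)) (tt N44295 (iv0 F168138)) (tt N56986 (iv2 F165167)) (tt N61961 (iv3 F179755)) (tt N32057 F84104) (tt N61962 D115445) (tt N16622 (iv6 D53256)) (tt N44222 (iv7 F111147)))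
theorem Q33125 : ∀ i, i < 33125 → P i := stepQ 33124 Q33124 (allL N33124 (tt N61963 D115446) (tt N61964 D115447) (tt N61965 D115448) (tt N16623 (iv3 D53257)) (tt N20598 F84105) (tt N61882 (iv5 F179637)) (tt N44223 (iv6 F111149)) (tt N56985 (iv7 F165165)))
theorem Q33126 : ∀ i, i < 33126 → P i := stepQ 33125 Q33125 (allL N33125 (tt N61775 (iv1 F179474)) (tt N16624 (iv0 D53258)) (tt N61774 (iv2 F218822)) (tt N61966 D115450) (tt N61967 D115451) (tt N61873 (iv5 F336248)) (tt N61968 D115453) (tt N61773 (iv7 F218821)))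
theorem Q33127 : ∀ i, i < 33127 → P i := stepQ 33126 Q33126 (allL N33126 (tt N16624 (iv1 D53259)) (tt N61775 F179476) (tt N61773 (iv2 F218820)) (tt N61969 D115455) (tt N61970 D115456) (tt N61874 (iv5 F360856)) (tt N39511 (iv6 F336208)) (tt N61774 (iv7 F218823)))
theorem Q33128 : ∀ i, i < 33128 → P i := stepQ 33127 Q33127 (allL N33127 (tt N61774 (iv1 F179475)) (tt N61773 F179470) (tt N16624 (iv2 D53260)) (tt N56989 (iv3 F165174)) (tt N61951 (iv4 F179730)) (tt N61971 D115459) (tt N61972 D115460) (tt N61775 (iv7 F179473)))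
theorem Q33129 : ∀ i, i < 33129 → P i := stepQ 33128 Q33128 (allL N33128 (tt N61973 D115461) (tt N61974 D115462) (tt N61971 (iv2 F179762)) (tt N16625 F84106) (tt N16764 F327060) (tt N16624 (iv5 D53261)) (tt N16762 F327061) (tt N61776 (iv7 F179478)))
theorem Q33130 : ∀ i, i < 33130 → P i := stepQ 33129 Q33129 (allL N33129 (tt N61975 D115465) (tt N61976 D115466) (tt N61972 (iv2 F179763)) (tt N16626 F84107) (tt N61952 (iv4 F179736)) (tt N61959 (iv5 F330553)) (tt N16624 (iv6 D53262)) (tt N61977 D115468))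
theorem Q33131 : ∀ i, i < 33131 → P i := stepQ 33130 Q33130 (allL N33130 (tt N16632 (iv1 F84110)) (tt N16625 (iv0 D53263)) (tt N33080 (iv2 F84111)) (tt N61975 (iv3 F365075)) (tt N31259 F84109) (tt N20801 F84108) (tt N61978 D115470) (tt N33077 (iv7 F84112)))
theorem Q33132 : ∀ i, i < 33132 → P i := stepQ 33131 Q33131 (allL N33131 (tt N16625 (iv1 D53264)) (tt N16632 F84113) (tt N33077 (iv2 F84116)) (tt N61979 D115471) (tt N31267 (iv4 F84117)) (tt N30209 F84115) (tt N61980 D115472) (tt N33080 F84114))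
theorem Q33133 : ∀ i, i < 33133 → P i := stepQ 33132 Q33132 (allL N33132 (tt N61966 (iv1 F326813)) (tt N61981 D115474) (tt N56992 (iv2 F165183)) (tt N16762 (iv3 F326820)) (tt N35775 (iv4 F93224)) (tt N61982 D115475) (tt N16625 (iv6 D53265)) (tt N61983 D115476))
theorem Q33134 : ∀ i, i < 33134 → P i := stepQ 33133 Q33133 (allL N33133 (tt N56996 (iv1 F165192)) (tt N16626 (iv0 D53266)) (tt N56993 F165198) (tt N61984 D115477) (tt N36086 F165193) (tt N61985 D115478) (tt N44242 (iv6 F165798)) (tt N56994 (iv7 F165197)))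
theorem Q33135 : ∀ i, i < 33135 → P i := stepQ 33134 Q33134 (allL N33134 (tt N16626 (iv1 D53267)) (tt N56996 F165191) (tt N56994 (iv2 F165199)) (tt N61986 D115479) (tt N36087 (iv4 F179780)) (tt N61987 D115481) (tt N61988 D115482) (tt N56993 F165200))
theorem Q33136 : ∀ i, i < 33136 → P i := stepQ 33135 Q33135 (allL N33135 (tt N61989 D115483) (tt N61990 D115484) (tt N56995 (iv2 F165186)) (tt N61959 (iv3 F330552)) (tt N61991 D115485) (tt N16626 (iv5 D53268)) (tt N61982 (iv6 F179776)) (tt N61992 D115486))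
theorem Q33137 : ∀ i, i < 33137 → P i := stepQ 33136 Q33136 (allL N33136 (tt N56994 (iv1 F165184)) (tt N56993 F165190) (tt N56996 (iv2 F165187)) (tt N61977 (iv3 F179767)) (tt N16630 F84118) (tt N61992 (iv5 F179782)) (tt N61782 (iv6 F179487)) (tt N16626 (iv7 D53269)))
theorem Q33138 : ∀ i, i < 33138 → P i := stepQ 33137 Q33137 (allL N33137 (tt N61788 (iv1 F179512)) (tt N16641 F102033) (tt N20583 F102034) (tt N61993 D115487) (tt N16627 (iv4 D53272)) (tt N61994 D115488) (tt N44247 (iv6 F111495)) (tt N56997 (iv7 F165202)))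
theorem Q33139 : ∀ i, i < 33139 → P i := stepQ 33138 Q33138 (allL N33138 (tt N39051 F99245) (tt N61695 (iv0 F179284)) (tt N20584 (iv2 F102038)) (tt N20112 F102016) (tt N61995 D115489) (tt N16627 (iv5 D53273)) (tt N20112 F84120) (tt N39089 F99949))
theorem Q33140 : ∀ i, i < 33140 → P i := stepQ 33139 Q33139 (allL N33139 (tt N16641 F97707) (tt N61788 F179511) (tt N56997 (iv2 F165201)) (tt N61996 D115490) (tt N16628 (iv4 D53276)) (tt N61997 D115491) (tt N61998 D115492) (tt N20583 F102019))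
theorem Q33141 : ∀ i, i < 33141 → P i := stepQ 33140 Q33140 (allL N33140 (tt N61695 F179285) (tt N39051 (iv0 F99244)) (tt N39089 (iv2 F99950)) (tt N16724 F102011) (tt N61999 D115493) (tt N16628 (iv5 D53277)) (tt N19645 F102012) (tt N20584 F102013))
theorem Q33142 : ∀ i, i < 33142 → P i := stepQ 33141 Q33141 (allL N33141 (tt N38581 F98434) (tt N38583 (iv0 F99967)) (tt N56998 (iv2 F165206)) (tt N16725 F102020) (tt N61998 (iv4 F179790)) (tt N37343 (iv5 F102025)) (tt N16628 (iv6 D53278)) (tt N44246 (iv7 F111492)))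
theorem Q33143 : ∀ i, i < 33143 → P i := stepQ 33142 Q33142 (allL N33142 (tt N37689 F96461) (tt N62000 D115494) (tt N37309 (iv2 F95790)) (tt N62001 D115495) (tt N16629 (iv4 D53279)) (tt N62002 D115496) (tt N19410 F84123) (tt N37414 (iv7 F95938)))
theorem Q33144 : ∀ i, i < 33144 → P i := stepQ 33143 Q33143 (allL N33143 (tt N56989 (iv1 F165177)) (tt N16631 (iv0 D53280)) (tt N56988 (iv2 F165339)) (tt N61990 (iv3 F330544)) (tt N57117 (iv4 F165400)) (tt N61924 (iv5 F359951)) (tt N44235 F351548) (tt N56987 (iv7 F165341)))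
theorem Q33145 : ∀ i, i < 33145 → P i := stepQ 33144 Q33144 (allL N33144 (tt N16631 (iv1 D53281)) (tt N56989 F165178) (tt N56987 F165340) (tt N62003 D115500) (tt N57071 (iv4 F165337)) (tt N61925 (iv5 F179708)) (tt N62004 D115501) (tt N56988 F165338))
theorem Q33146 : ∀ i, i < 33146 → P i := stepQ 33145 Q33145 (allL N33145 (tt N56988 F165173) (tt N56987 F165170) (tt N16631 (iv2 D53282)) (tt N61775 (iv3 F179471)) (tt N56381 (iv4 F163673)) (tt N62005 D115502) (tt N62006 D115503) (tt N56989 (iv7 F165176)))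
theorem Q33147 : ∀ i, i < 33147 → P i := stepQ 33146 Q33146 (allL N33146 (tt N61986 (iv1 F365189)) (tt N62007 D115505) (tt N62005 (iv2 F179798)) (tt N16632 F84124) (tt N62008 D115506) (tt N16631 (iv5 D53283)) (tt N62009 D115507) (tt N56990 (iv7 F165180)))
theorem Q33148 : ∀ i, i < 33148 → P i := stepQ 33147 Q33147 (allL N33147 (tt N62010 D115508) (tt N62011 D115509) (tt N62006 (iv2 F179799)) (tt N16633 F84125) (tt N56382 (iv4 F163680)) (tt N62012 D115510) (tt N16631 (iv6 D53284)) (tt N62013 D115511))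
theorem Q33149 : ∀ i, i < 33149 → P i := stepQ 33148 Q33148 (allL N33148 (tt N62014 D115512) (tt N62015 D115513) (tt N61778 (iv2 F179481)) (tt N62009 (iv3 F179800)) (tt N60381 (iv4 F176330)) (tt N62016 D115514) (tt N16632 (iv6 D53285)) (tt N62017 D115515))
theorem Q33150 : ∀ i, i < 33150 → P i := stepQ 33149 Q33149 (allL N33149 (tt N61782 F179490) (tt N16633 (iv0 D53286)) (tt N61779 (iv2 F179914)) (tt N62018 D115517) (tt N59005 F171720) (tt N62019 D115518) (tt N62020 D115519) (tt N61780 (iv7 F179917)))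
theorem Q33151 : ∀ i, i < 33151 → P i := stepQ 33150 Q33150 (allL N33150 (tt N16633 (iv1 D53287)) (tt N61782 F179489) (tt N61780 (iv2 F179916)) (tt N62021 D115521) (tt N36202 (iv4 F163599)) (tt N62022 D115522) (tt N44224 F166291) (tt N61779 (iv7 F179915)))
theorem Q33152 : ∀ i, i < 33152 → P i := stepQ 33151 Q33151 (allL N33151 (tt N53985 (iv1 F346056)) (tt N62023 D115524) (tt N61781 (iv2 F179484)) (tt N62012 (iv3 F179801)) (tt N62024 D115525) (tt N16633 (iv5 D53288)) (tt N62016 (iv6 F179803)) (tt N62025 D115526))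
theorem Q33153 : ∀ i, i < 33153 → P i := stepQ 33152 Q33152 (allL N33152 (tt N61780 (iv1 F179483)) (tt N61779 F179488) (tt N61782 (iv2 F179485)) (tt N62013 (iv3 F179802)) (tt N16637 F84126) (tt N62025 (iv5 F179810)) (tt N56996 (iv6 F165189)) (tt N16633 (iv7 D53289)))
theorem Q33154 : ∀ i, i < 33154 → P i := stepQ 33153 Q33153 (allL N33153 (tt N61795 (iv1 F179530)) (tt N16645 F166079) (tt N61783 (iv2 F179491)) (tt N62026 D115527) (tt N16634 (iv4 D53292)) (tt N62027 D115528) (tt N62028 D115529) (tt N20637 F161285))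
theorem Q33155 : ∀ i, i < 33155 → P i := stepQ 33154 Q33154 (allL N33154 (tt N44296 F111544) (tt N59840 (iv0 F174283)) (tt N59797 (iv2 F174054)) (tt N16741 F161267) (tt N62028 (iv4 F179814)) (tt N20514 (iv5 F161273)) (tt N16634 (iv6 D53293)) (tt N44231 (iv7 F111162)))
theorem Q33156 : ∀ i, i < 33156 → P i := stepQ 33155 Q33155 (allL N33155 (tt N16645 F166208) (tt N61795 F179529) (tt N20637 F161278) (tt N54666 (iv3 F329302)) (tt N16635 (iv4 D53296)) (tt N62029 D115531) (tt N44228 (iv6 F111154)) (tt N61783 (iv7 F179492)))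
theorem Q33157 : ∀ i, i < 33157 → P i := stepQ 33156 Q33156 (allL N33156 (tt N16636 (iv1 D53298)) (tt N19940 F84138) (tt N19939 F99841) (tt N20136 F111234) (tt N48854 F326313) (tt N22610 (iv5 F84139)) (tt N39851 (iv6 F100725)) (tt N19938 F99842))
theorem Q33158 : ∀ i, i < 33158 → P i := stepQ 33157 Q33157 (allL N33157 (tt N61791 (iv1 F179517)) (tt N16638 (iv0 D53301)) (tt N61790 (iv2 F330522)) (tt N62030 D115539) (tt N62031 D115540) (tt N37417 (iv5 F330524)) (tt N62032 D115542) (tt N61789 (iv7 F330526)))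
theorem Q33159 : ∀ i, i < 33159 → P i := stepQ 33158 Q33158 (allL N33158 (tt N16638 (iv1 D53302)) (tt N61791 F179519) (tt N61789 (iv2 F330525)) (tt N62033 D115544) (tt N62034 D115545) (tt N62035 D115546) (tt N44249 (iv6 F339877)) (tt N61790 (iv7 F330523)))
theorem Q33160 : ∀ i, i < 33160 → P i := stepQ 33159 Q33159 (allL N33159 (tt N61790 (iv1 F179518)) (tt N61789 F179513) (tt N16638 (iv2 D53303)) (tt N61786 (iv3 F179496)) (tt N62036 D115548) (tt N16641 F330515) (tt N61787 (iv6 F330517)) (tt N61791 (iv7 F179516)))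
theorem Q33161 : ∀ i, i < 33161 → P i := stepQ 33160 Q33160 (allL N33160 (tt N62037 D115551) (tt N62038 D115552) (tt N62036 (iv2 F179844)) (tt N19527 F84149) (tt N16638 (iv4 D53304)) (tt N62039 D115553) (tt N62040 D115554) (tt N31429 F84150))
theorem Q33162 : ∀ i, i < 33162 → P i := stepQ 33161 Q33161 (allL N33161 (tt N62041 D115559) (tt N62042 D115560) (tt N61787 (iv2 F330516)) (tt N16641 F84152) (tt N62040 (iv4 F179862)) (tt N61786 (iv5 F330520)) (tt N16638 (iv6 D53306)) (tt N62043 D115562))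
theorem Q33163 : ∀ i, i < 33163 → P i := stepQ 33162 Q33162 (allL N33162 (tt N62044 D115563) (tt N56008 F179214) (tt N18306 F84153) (tt N31395 F84154) (tt N16641 F84155) (tt N36761 (iv5 F95162)) (tt N16639 (iv6 D53307)) (tt N62045 D115564))
theorem Q33164 : ∀ i, i < 33164 → P i := stepQ 33163 Q33163 (allL N33163 (tt N16644 (iv1 F84159)) (tt N16640 (iv0 D53308)) (tt N33074 (iv2 F84158)) (tt N62046 D115565) (tt N31272 F84157) (tt N30208 F84156) (tt N62047 D115566) (tt N33068 F84160))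
theorem Q33165 : ∀ i, i < 33165 → P i := stepQ 33164 Q33164 (allL N33164 (tt N56997 (iv1 F165204)) (tt N20583 F165205) (tt N61788 (iv2 F179508)) (tt N62043 (iv3 F179865)) (tt N62045 (iv4 F179873)) (tt N61791 (iv5 F330521)) (tt N61795 (iv6 F179528)) (tt N16641 (iv7 D53313)))
theorem Q33166 : ∀ i, i < 33166 → P i := stepQ 33165 Q33165 (allL N33165 (tt N61786 (iv1 F179499)) (tt N16642 (iv0 D53314)) (tt N61785 (iv2 F351366)) (tt N57003 F165213) (tt N48117 (iv4 F351321)) (tt N62048 D115577) (tt N44256 (iv6 F351322)) (tt N61784 (iv7 F351377)))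
theorem Q33167 : ∀ i, i < 33167 → P i := stepQ 33166 Q33166 (allL N33166 (tt N16642 (iv1 D53315)) (tt N61786 F179501) (tt N61784 (iv2 F351375)) (tt N62049 D115580) (tt N62050 D115581) (tt N62051 D115582) (tt N62052 D115583) (tt N61785 (iv7 F351367)))
theorem Q33168 : ∀ i, i < 33168 → P i := stepQ 33167 Q33167 (allL N33167 (tt N61785 (iv1 F179500)) (tt N61784 F179495) (tt N16642 (iv2 D53316)) (tt N61791 (iv3 F179514)) (tt N62053 D115584) (tt N62043 (iv5 F359765)) (tt N62054 D115586) (tt N61786 (iv7 F179498)))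
theorem Q33169 : ∀ i, i < 33169 → P i := stepQ 33168 Q33168 (allL N33168 (tt N62055 D115587) (tt N62056 D115588) (tt N62053 (iv2 F179889)) (tt N18264 F84161) (tt N16642 (iv4 D53317)) (tt N62057 D115589) (tt N34233 F336274) (tt N18308 F84162))
theorem Q33170 : ∀ i, i < 33170 → P i := stepQ 33169 Q33169 (allL N33169 (tt N62042 (iv1 F357046)) (tt N62041 (iv0 F359762)) (tt N62043 (iv2 F359764)) (tt N16644 F84163) (tt N62058 D115593) (tt N16642 (iv5 D53318)) (tt N62059 D115594) (tt N61787 (iv7 F179503)))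
theorem Q33171 : ∀ i, i < 33171 → P i := stepQ 33170 Q33170 (allL N33170 (tt N62060 D115595) (tt N62061 D115596) (tt N62054 (iv2 F179895)) (tt N16645 F84164) (tt N34233 F336273) (tt N62062 D115597) (tt N16642 (iv6 D53319)) (tt N61793 (iv7 F350937)))
theorem Q33172 : ∀ i, i < 33172 → P i := stepQ 33171 Q33171 (allL N33171 (tt N62063 D115599) (tt N62064 D115600) (tt N31428 F84165) (tt N18265 F84166) (tt N16645 F84167) (tt N30578 F84168) (tt N16643 (iv6 D53320)) (tt N62065 D115601))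
theorem Q33173 : ∀ i, i < 33173 → P i := stepQ 33172 Q33172 (allL N33172 (tt N62061 (iv1 F360179)) (tt N62060 (iv0 F360169)) (tt N61793 (iv2 F179524)) (tt N62059 (iv3 F179905)) (tt N34232 F350934) (tt N62066 D115604) (tt N16644 (iv6 D53321)) (tt N62054 (iv7 F360168)))
theorem Q33174 : ∀ i, i < 33174 → P i := stepQ 33173 Q33173 (allL N33173 (tt N62067 D115606) (tt N62068 D115607) (tt N61794 (iv2 F179525)) (tt N62062 (iv3 F179906)) (tt N28948 (iv4 F346028)) (tt N16645 (iv5 D53324)) (tt N62066 (iv6 F179932)) (tt N62069 D115609))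
theorem Q33175 : ∀ i, i < 33175 → P i := stepQ 33174 Q33174 (allL N33174 (tt N20637 F166206) (tt N61783 F179494) (tt N61795 (iv2 F179526)) (tt N61793 (iv3 F350935)) (tt N62065 (iv4 F179927)) (tt N62069 (iv5 F179935)) (tt N61788 (iv6 F179510)) (tt N16645 (iv7 D53325)))
theorem Q33176 : ∀ i, i < 33176 → P i := stepQ 33175 Q33175 (allL N33175 (tt N16647 (iv1 F84172)) (tt N16646 (iv0 D53326)) (tt N16650 (iv2 F84169)) (tt N61796 (iv3 F179532)) (tt N16759 F84170) (tt N62070 D115610) (tt N62071 D115611) (tt N16648 F84171))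
theorem Q33177 : ∀ i, i < 33177 → P i := stepQ 33176 Q33176 (allL N33176 (tt N16650 F173694) (tt N16648 F173695) (tt N16646 (iv2 D53327)) (tt N62072 D115612) (tt N29690 F173696) (tt N62073 D115613) (tt N62074 D115614) (tt N16647 (iv7 F84173)))
theorem Q33178 : ∀ i, i < 33178 → P i := stepQ 33177 Q33177 (allL N33177 (tt N62049 (iv1 F224450)) (tt N62075 D115616) (tt N62076 D115617) (tt N16646 (iv3 D53328)) (tt N62077 D115618) (tt N62078 D115619) (tt N62073 (iv6 F336231)) (tt N62079 D115621))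
theorem Q33179 : ∀ i, i < 33179 → P i := stepQ 33178 Q33178 (allL N33178 (tt N62080 D115622) (tt N20558 (iv0 F102252)) (tt N29690 F173697) (tt N62081 D115623) (tt N16646 (iv4 D53329)) (tt N62082 D115624) (tt N62083 D115625) (tt N62084 D115626))
theorem Q33180 : ∀ i, i < 33180 → P i := stepQ 33179 Q33179 (allL N33179 (tt N62085 D115627) (tt N40161 F179948) (tt N62073 (iv2 F179946)) (tt N62078 (iv3 F179952)) (tt N59813 F174123) (tt N16646 (iv5 D53330)) (tt N62076 (iv6 F336229)) (tt N62086 D115629))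
theorem Q33181 : ∀ i, i < 33181 → P i := stepQ 33180 Q33180 (allL N33180 (tt N62087 D115630) (tt N61996 (iv0 F336240)) (tt N62074 (iv2 F179949)) (tt N62073 (iv3 F336230)) (tt N62083 (iv4 F179978)) (tt N62072 (iv5 F336232)) (tt N16646 (iv6 D53331)) (tt N62088 D115633))
theorem Q33182 : ∀ i, i < 33182 → P i := stepQ 33181 Q33181 (allL N33181 (tt N16648 F173699) (tt N16650 F173700) (tt N16647 F84174) (tt N62079 (iv3 F179954)) (tt N62084 (iv4 F179981)) (tt N62086 (iv5 F179993)) (tt N62089 D115634) (tt N16646 (iv7 D53332)))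
theorem Q33183 : ∀ i, i < 33183 → P i := stepQ 33182 Q33182 (allL N33182 (tt N62090 D115635) (tt N62030 (iv0 F181516)) (tt N62091 D115637) (tt N16647 (iv3 D53333)) (tt N62092 D115638) (tt N62088 (iv5 F336234)) (tt N62093 D115640) (tt N62072 (iv7 F179945)))
theorem Q33184 : ∀ i, i < 33184 → P i := stepQ 33183 Q33183 (allL N33183 (tt N20558 F173698) (tt N62080 F179966) (tt N62084 (iv2 F179979)) (tt N20549 F84175) (tt N16647 (iv4 D53334)) (tt N62094 D115641) (tt N62095 D115642) (tt N29690 F173676))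
theorem Q33185 : ∀ i, i < 33185 → P i := stepQ 33184 Q33184 (allL N33184 (tt N40161 (iv1 F175007)) (tt N62085 F179994) (tt N62086 (iv2 F179991)) (tt N62088 (iv3 F336233)) (tt N62096 D115643) (tt N16647 (iv5 D53335)) (tt N62097 D115644) (tt N62073 (iv7 F179947)))
theorem Q33186 : ∀ i, i < 33186 → P i := stepQ 33185 Q33185 (allL N33185 (tt N62026 (iv1 F348351)) (tt N62098 D115646) (tt N62089 (iv2 F179995)) (tt N62093 (iv3 F180003)) (tt N62095 (iv4 F180008)) (tt N62099 D115647) (tt N16647 (iv6 D53336)) (tt N62100 D115648))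
theorem Q33187 : ∀ i, i < 33187 → P i := stepQ 33186 Q33186 (allL N33186 (tt N62101 D115649) (tt N62102 D115650) (tt N16649 F84179) (tt N61807 (iv3 F179543)) (tt N62103 D115651) (tt N16648 (iv5 D53339)) (tt N62104 D115652) (tt N62070 (iv7 F179937)))
theorem Q33188 : ∀ i, i < 33188 → P i := stepQ 33187 Q33187 (allL N33187 (tt N62070 (iv1 F179939)) (tt N16649 (iv0 D53340)) (tt N62101 F180013) (tt N62105 D115653) (tt N58436 (iv4 F179941)) (tt N61839 F179940) (tt N62106 D115654) (tt N62102 (iv7 F180016)))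
theorem Q33189 : ∀ i, i < 33189 → P i := stepQ 33188 Q33188 (allL N33188 (tt N16649 (iv1 D53341)) (tt N62070 F179938) (tt N62102 F180018) (tt N62107 D115655) (tt N62108 D115656) (tt N61840 F179595) (tt N62109 D115657) (tt N62101 F180014))
theorem Q33190 : ∀ i, i < 33190 → P i := stepQ 33189 Q33189 (allL N33189 (tt N62110 D115658) (tt N62111 D115659) (tt N62103 (iv2 F180020)) (tt N62112 D115660) (tt N16649 (iv4 D53342)) (tt N62113 D115661) (tt N62114 D115662) (tt N62115 D115663))
theorem Q33191 : ∀ i, i < 33191 → P i := stepQ 33190 Q33190 (allL N33190 (tt N62116 D115664) (tt N62117 D115665) (tt N62104 (iv2 F180022)) (tt N16654 F84180) (tt N62114 (iv4 F180032)) (tt N44278 (iv5 F111526)) (tt N16649 (iv6 D53343)) (tt N62118 D115666))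
theorem Q33192 : ∀ i, i < 33192 → P i := stepQ 33191 Q33191 (allL N33191 (tt N62102 (iv1 F180015)) (tt N62101 F180011) (tt N62070 (iv2 F179936)) (tt N16655 F84181) (tt N62115 (iv4 F180033)) (tt N16650 F84182) (tt N62119 D115667) (tt N16649 (iv7 D53344)))
theorem Q33193 : ∀ i, i < 33193 → P i := stepQ 33192 Q33192 (allL N33192 (tt N62120 D115668) (tt N62121 D115669) (tt N62071 (iv2 F179942)) (tt N16656 F84183) (tt N16775 F84184) (tt N62122 D115670) (tt N16650 (iv6 D53345)) (tt N44280 (iv7 F111531)))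
theorem Q33194 : ∀ i, i < 33194 → P i := stepQ 33193 Q33193 (allL N33193 (tt N37417 (iv1 F330579)) (tt N62035 (iv0 F330580)) (tt N62123 D115673) (tt N16651 (iv3 D53346)) (tt N62124 D115674) (tt N60362 (iv5 F176278)) (tt N40165 (iv6 F330591)) (tt N61815 (iv7 F179551)))
theorem Q33195 : ∀ i, i < 33195 → P i := stepQ 33194 Q33194 (allL N33194 (tt N62125 D115676) (tt N62126 D115677) (tt N61814 (iv2 F179549)) (tt N40165 F330592) (tt N58067 (iv4 F168812)) (tt N62127 D115678) (tt N16651 (iv6 D53347)) (tt N62128 D115679))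
theorem Q33196 : ∀ i, i < 33196 → P i := stepQ 33195 Q33195 (allL N33195 (tt N62048 (iv1 F357072)) (tt N62051 (iv0 F357073)) (tt N62129 D115682) (tt N16652 (iv3 D53348)) (tt N62130 D115683) (tt N58057 (iv5 F168786)) (tt N62131 D115684) (tt N61813 (iv7 F179548)))
theorem Q33197 : ∀ i, i < 33197 → P i := stepQ 33196 Q33196 (allL N33196 (tt N62132 D115685) (tt N62133 D115686) (tt N61816 (iv2 F179552)) (tt N62131 (iv3 F180038)) (tt N60367 (iv4 F176294)) (tt N62121 (iv5 F359985)) (tt N16652 (iv6 D53349)) (tt N62134 D115688))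
theorem Q33198 : ∀ i, i < 33198 → P i := stepQ 33197 Q33197 (allL N33197 (tt N62135 D115689) (tt N62136 D115690) (tt N62137 D115691) (tt N16653 (iv3 D53350)) (tt N62112 (iv4 F180025)) (tt N35773 (iv5 F93220)) (tt N62138 D115692) (tt N58808 (iv7 F170802)))
theorem Q33199 : ∀ i, i < 33199 → P i := stepQ 33198 Q33198 (allL N33198 (tt N45604 (iv1 F351489)) (tt N62139 D115694) (tt N58807 (iv2 F170799)) (tt N62138 (iv3 F180039)) (tt N16654 F84185) (tt N62140 D115695) (tt N16653 (iv6 D53351)) (tt N62141 D115696))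
theorem Q33200 : ∀ i, i < 33200 → P i := stepQ 33199 Q33199 (allL N33199 (tt N61819 (iv1 F179557)) (tt N16654 (iv0 D53352)) (tt N61817 (iv2 F357070)) (tt N40498 F357003) (tt N62142 D115699) (tt N62143 D115700) (tt N62144 D115701) (tt N61818 (iv7 F357069)))
theorem Q33201 : ∀ i, i < 33201 → P i := stepQ 33200 Q33200 (allL N33200 (tt N16654 (iv1 D53353)) (tt N61819 F179556) (tt N61818 (iv2 F357065)) (tt N62145 D115703) (tt N62146 D115704) (tt N62147 D115705) (tt N62148 D115706) (tt N61817 (iv7 F357071)))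
theorem Q33202 : ∀ i, i < 33202 → P i := stepQ 33201 Q33201 (allL N33201 (tt N61818 (iv1 F179553)) (tt N61817 F179555) (tt N61819 (iv2 F179554)) (tt N62118 (iv3 F180034)) (tt N62141 (iv4 F180040)) (tt N44289 (iv5 F111533)) (tt N62149 D115707) (tt N16654 (iv7 D53354)))
theorem Q33203 : ∀ i, i < 33203 → P i := stepQ 33202 Q33202 (allL N33202 (tt N57551 (iv1 F355489)) (tt N62150 D115709) (tt N60400 (iv2 F176355)) (tt N62119 (iv3 F180035)) (tt N58809 (iv4 F170804)) (tt N62151 D115710) (tt N16655 (iv6 D53355)) (tt N62149 (iv7 F180043)))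
theorem Q33204 : ∀ i, i < 33204 → P i := stepQ 33203 Q33203 (allL N33203 (tt N44182 (iv1 F111050)) (tt N16656 (iv0 D53356)) (tt N44292 (iv2 F171849)) (tt N62152 D115711) (tt N60055 (iv4 F175399)) (tt N62153 D115712) (tt N62154 D115713) (tt N44291 (iv7 F171850)))
theorem Q33205 : ∀ i, i < 33205 → P i := stepQ 33204 Q33204 (allL N33204 (tt N16656 (iv1 D53357)) (tt N44182 F111049) (tt N44291 (iv2 F171840)) (tt N62155 D115714) (tt N57407 (iv4 F166386)) (tt N62109 (iv5 F339865)) (tt N62156 D115716) (tt N44292 F171848))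
theorem Q33206 : ∀ i, i < 33206 → P i := stepQ 33205 Q33205 (allL N33205 (tt N62157 D115717) (tt N62158 D115718) (tt N61820 (iv2 F179558)) (tt N62122 (iv3 F180036)) (tt N62159 D115719) (tt N16656 (iv5 D53358)) (tt N62151 (iv6 F180044)) (tt N44293 (iv7 F111537)))
theorem Q33207 : ∀ i, i < 33207 → P i := stepQ 33206 Q33206 (allL N33206 (tt N31568 (iv1 F168329)) (tt N31022 (iv0 F168326)) (tt N56394 F165672) (tt N16657 (iv3 D53360)) (tt N57629 F167248) (tt N62160 D115720) (tt N62161 D115721) (tt N44294 (iv7 F111538)))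
theorem Q33208 : ∀ i, i < 33208 → P i := stepQ 33207 Q33207 (allL N33207 (tt N44222 (iv1 F168114)) (tt N56986 F168116) (tt N44297 (iv2 F111551)) (tt N62162 D115722) (tt N16657 (iv4 D53361)) (tt N62163 D115723) (tt N62164 D115724) (tt N44295 (iv7 F111540)))
theorem Q33209 : ∀ i, i < 33209 → P i := stepQ 33208 Q33208 (allL N33208 (tt N39693 F100585) (tt N33096 (iv0 F84187)) (tt N44298 (iv2 F111553)) (tt N62160 (iv3 F180045)) (tt N62165 D115725) (tt N16657 (iv5 D53362)) (tt N37415 (iv6 F95939)) (tt N40171 (iv7 F101277)))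
theorem Q33210 : ∀ i, i < 33210 → P i := stepQ 33209 Q33209 (allL N33209 (tt N56998 F165210) (tt N44246 (iv0 F111493)) (tt N38583 (iv2 F99272)) (tt N62161 (iv3 F180047)) (tt N62164 (iv4 F180049)) (tt N32997 F84188) (tt N16657 (iv6 D53363)) (tt N38581 (iv7 F99271)))
theorem Q33211 : ∀ i, i < 33211 → P i := stepQ 33210 Q33210 (allL N33210 (tt N56986 (iv1 F168115)) (tt N44222 (iv0 F168101)) (tt N44295 (iv2 F111539)) (tt N62166 D115726) (tt N16658 (iv4 D53366)) (tt N62167 D115727) (tt N59879 (iv6 F174364)) (tt N44297 (iv7 F111552)))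
theorem Q33212 : ∀ i, i < 33212 → P i := stepQ 33211 Q33211 (allL N33211 (tt N33096 (iv1 F100584)) (tt N39693 (iv0 F100583)) (tt N40171 (iv2 F101276)) (tt N56397 (iv3 F165551)) (tt N62168 D115728) (tt N16658 (iv5 D53367)) (tt N33070 F84190) (tt N44298 (iv7 F111555)))
theorem Q33213 : ∀ i, i < 33213 → P i := stepQ 33212 Q33212 (allL N33212 (tt N62169 D115729) (tt N62170 D115730) (tt N62171 D115731) (tt N16659 (iv3 D53368)) (tt N21020 F84191) (tt N62172 D115732) (tt N62173 D115733) (tt N20443 F84192))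
theorem Q33214 : ∀ i, i < 33214 → P i := stepQ 33213 Q33213 (allL N33213 (tt N30147 F84196) (tt N30150 F84197) (tt N20447 F84193) (tt N62172 (iv3 F180059)) (tt N30965 F84195) (tt N16659 (iv5 D53369)) (tt N30921 (iv6 F336708)) (tt N20444 F84194))
theorem Q33215 : ∀ i, i < 33215 → P i := stepQ 33214 Q33214 (allL N33214 (tt N62174 D115735) (tt N62175 D115736) (tt N20448 F84198) (tt N62173 (iv3 F180061)) (tt N16660 F84199) (tt N31685 F336723) (tt N16659 (iv6 D53370)) (tt N62176 D115738))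
theorem Q33216 : ∀ i, i < 33216 → P i := stepQ 33215 Q33215 (allL N33215 (tt N20450 (iv1 F84206)) (tt N16660 (iv0 D53371)) (tt N20372 F163960) (tt N20314 F168311) (tt N62177 D115739) (tt N57903 (iv5 F168530)) (tt N40301 (iv6 F101528)) (tt N20449 (iv7 F84204)))
theorem Q33217 : ∀ i, i < 33217 → P i := stepQ 33216 Q33216 (allL N33216 (tt N20449 (iv1 F84211)) (tt N20372 F163958) (tt N20450 F84207) (tt N32038 F84208) (tt N62176 (iv4 F180070)) (tt N31603 F84209) (tt N20224 F84210) (tt N16660 (iv7 D53373)))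
theorem Q33218 : ∀ i, i < 33218 → P i := stepQ 33217 Q33217 (allL N33217 (tt N62178 D115740) (tt N62179 D115741) (tt N62180 D115742) (tt N16661 (iv3 D53374)) (tt N39397 (iv4 F100102)) (tt N62181 D115743) (tt N62182 D115744) (tt N20446 F84213))
theorem Q33219 : ∀ i, i < 33219 → P i := stepQ 33218 Q33218 (allL N33218 (tt N30150 F84217) (tt N30147 F84218) (tt N20444 F84214) (tt N62181 (iv3 F180089)) (tt N30966 F84215) (tt N16661 (iv5 D53375)) (tt N34777 (iv6 F341290)) (tt N20447 F84216))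
theorem Q33220 : ∀ i, i < 33220 → P i := stepQ 33219 Q33219 (allL N33219 (tt N38699 F98668) (tt N62183 D115746) (tt N20445 F84219) (tt N62182 (iv3 F180091)) (tt N16662 F84220) (tt N34774 (iv5 F341270)) (tt N16661 (iv6 D53376)) (tt N47907 (iv7 F341271)))
theorem Q33221 : ∀ i, i < 33221 → P i := stepQ 33220 Q33220 (allL N33220 (tt N62184 D115748) (tt N62185 D115749) (tt N62186 D115750) (tt N16663 (iv3 D53377)) (tt N56887 (iv4 F164985)) (tt N40698 (iv5 F102401)) (tt N62187 D115751) (tt N20451 F84221))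
theorem Q33222 : ∀ i, i < 33222 → P i := stepQ 33221 Q33221 (allL N33221 (tt N62177 (iv1 F180082)) (tt N58542 (iv0 F169647)) (tt N20457 F84222) (tt N62187 (iv3 F180105)) (tt N30824 F84223) (tt N30839 F336691) (tt N16663 (iv6 D53378)) (tt N59488 (iv7 F336699)))
theorem Q33223 : ∀ i, i < 33223 → P i := stepQ 33222 Q33222 (allL N33222 (tt N62188 D115754) (tt N62189 D115755) (tt N62190 D115756) (tt N16664 (iv3 D53379)) (tt N33512 (iv4 F85010)) (tt N40699 (iv5 F102404)) (tt N62191 D115757) (tt N20455 F84224))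
theorem Q33224 : ∀ i, i < 33224 → P i := stepQ 33223 Q33223 (allL N33223 (tt N20223 F84227) (tt N35029 (iv0 F341360)) (tt N20454 F84225) (tt N62191 (iv3 F180119)) (tt N30825 F84226) (tt N48262 F341337) (tt N16664 (iv6 D53380)) (tt N57810 (iv7 F167803)))
theorem Q33225 : ∀ i, i < 33225 → P i := stepQ 33224 Q33224 (allL N33224 (tt N20460 (iv1 F84228)) (tt N16665 (iv0 D53381)) (tt N20459 F182513) (tt N62192 D115760) (tt N62193 D115761) (tt N40690 (iv5 F180883)) (tt N62194 D115763) (tt N20458 (iv7 F182517)))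
theorem Q33226 : ∀ i, i < 33226 → P i := stepQ 33225 Q33225 (allL N33225 (tt N16665 (iv1 D53382)) (tt N20460 (iv0 F84230)) (tt N20458 (iv2 F182516)) (tt N62195 D115765) (tt N21041 (iv4 F84229)) (tt N40691 (iv5 F180318)) (tt N62196 D115767) (tt N20459 F182512))
theorem Q33227 : ∀ i, i < 33227 → P i := stepQ 33226 Q33226 (allL N33226 (tt N20459 (iv1 F84234)) (tt N20458 F84233) (tt N16665 (iv2 D53383)) (tt N56737 (iv3 F164685)) (tt N16675 F84231) (tt N62197 D115768) (tt N36498 (iv6 F322662)) (tt N20460 F84232))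
theorem Q33228 : ∀ i, i < 33228 → P i := stepQ 33227 Q33227 (allL N33227 (tt N62198 D115770) (tt N62199 D115771) (tt N62197 (iv2 F180136)) (tt N16666 F84235) (tt N62200 D115772) (tt N16665 (iv5 D53384)) (tt N62201 D115773) (tt N20461 F84236))
theorem Q33229 : ∀ i, i < 33229 → P i := stepQ 33228 Q33228 (allL N33228 (tt N20424 (iv1 F84241)) (tt N16666 (iv0 D53386)) (tt N20464 (iv2 F84242)) (tt N38823 (iv3 F345287)) (tt N30852 F84240) (tt N16702 F84239) (tt N38822 F345286) (tt N20463 (iv7 F84243)))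
theorem Q33230 : ∀ i, i < 33230 → P i := stepQ 33229 Q33229 (allL N33229 (tt N16666 (iv1 D53387)) (tt N20424 F84244) (tt N20463 (iv2 F84248)) (tt N32774 F331529) (tt N30851 F84247) (tt N16703 F84246) (tt N32782 (iv6 F331531)) (tt N20464 F84245))
theorem Q33231 : ∀ i, i < 33231 → P i := stepQ 33230 Q33230 (allL N33230 (tt N31000 (iv1 F337448)) (tt N30813 (iv0 F337449)) (tt N30998 (iv2 F351221)) (tt N62201 (iv3 F180147)) (tt N57948 (iv4 F168622)) (tt N62202 D115784) (tt N16666 (iv6 D53388)) (tt N30999 F351220))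
theorem Q33232 : ∀ i, i < 33232 → P i := stepQ 33231 Q33231 (allL N33231 (tt N28455 F329685) (tt N16667 (iv0 D53389)) (tt N41178 (iv2 F103522)) (tt N62203 D115786) (tt N30828 (iv4 F111368)) (tt N59642 (iv5 F337425)) (tt N44307 (iv6 F167653)) (tt N56739 (iv7 F164698)))
theorem Q33233 : ∀ i, i < 33233 → P i := stepQ 33232 Q33232 (allL N33232 (tt N16667 (iv1 D53390)) (tt N28455 F329684) (tt N56739 F164699) (tt N62204 D115788) (tt N30829 (iv4 F111364)) (tt N59643 (iv5 F337429)) (tt N62205 D115790) (tt N41178 (iv7 F103521)))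
theorem Q33234 : ∀ i, i < 33234 → P i := stepQ 33233 Q33233 (allL N33233 (tt N62206 D115791) (tt N62207 D115792) (tt N56740 (iv2 F164700)) (tt N42926 (iv3 F322664)) (tt N50615 (iv4 F345046)) (tt N16667 (iv5 D53391)) (tt N62202 (iv6 F180161)) (tt N62208 D115794))
theorem Q33235 : ∀ i, i < 33235 → P i := stepQ 33234 Q33234 (allL N33234 (tt N56739 (iv1 F164697)) (tt N41178 (iv0 F103462)) (tt N28455 F329686) (tt N33915 (iv3 F320773)) (tt N16670 F84249) (tt N62208 (iv5 F180168)) (tt N20469 F84250) (tt N16667 (iv7 D53392)))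
theorem Q33236 : ∀ i, i < 33236 → P i := stepQ 33235 Q33235 (allL N33235 (tt N57971 (iv1 F168663)) (tt N57866 (iv0 F167968)) (tt N40149 (iv2 F101233)) (tt N62209 D115795) (tt N16668 (iv4 D53395)) (tt N62210 D115796) (tt N44311 (iv6 F111580)) (tt N40142 F101232))
theorem Q33237 : ∀ i, i < 33237 → P i := stepQ 33236 Q33236 (allL N33236 (tt N57866 F167966) (tt N57971 F168662) (tt N40142 (iv2 F101229)) (tt N62211 D115797) (tt N16669 (iv4 D53398)) (tt N62212 D115798) (tt N62213 D115799) (tt N40149 (iv7 F101228)))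
theorem Q33238 : ∀ i, i < 33238 → P i := stepQ 33237 Q33237 (allL N33237 (tt N33466 (iv1 F163964)) (tt N40301 (iv0 F111584)) (tt N40143 (iv2 F101230)) (tt N39409 (iv3 F111343)) (tt N62213 (iv4 F180172)) (tt N41070 (iv5 F163967)) (tt N16669 (iv6 D53399)) (tt N41070 (iv7 F163969)))
theorem Q33239 : ∀ i, i < 33239 → P i := stepQ 33238 Q33238 (allL N33238 (tt N20364 (iv1 F84254)) (tt N16671 (iv0 D53400)) (tt N20363 F173379) (tt N22535 (iv3 F318385)) (tt N62214 D115801) (tt N16771 F171348) (tt N22069 (iv6 F318387)) (tt N20362 F173380))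
theorem Q33240 : ∀ i, i < 33240 → P i := stepQ 33239 Q33239 (allL N33239 (tt N16671 (iv1 D53401)) (tt N20364 F84258) (tt N20362 F173388) (tt N62215 D115803) (tt N62216 D115804) (tt N16772 F171172) (tt N62217 D115805) (tt N20363 F173389))
theorem Q33241 : ∀ i, i < 33241 → P i := stepQ 33240 Q33240 (allL N33240 (tt N20363 (iv1 F84259)) (tt N20362 F84257) (tt N16671 (iv2 D53402)) (tt N20377 F84255) (tt N61841 (iv4 F179601)) (tt N33419 (iv5 F175003)) (tt N62218 D115806) (tt N20364 F84256))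
theorem Q33242 : ∀ i, i < 33242 → P i := stepQ 33241 Q33241 (allL N33241 (tt N62219 D115807) (tt N62220 D115808) (tt N62218 (iv2 F180196)) (tt N16672 F84260) (tt N61843 (iv4 F179608)) (tt N62221 D115809) (tt N16671 (iv6 D53403)) (tt N44348 (iv7 F111742)))
theorem Q33243 : ∀ i, i < 33243 → P i := stepQ 33242 Q33242 (allL N33242 (tt N44542 (iv1 F311461)) (tt N41049 (iv0 F103229)) (tt N20382 F84261) (tt N62221 (iv3 F180198)) (tt N21854 (iv4 F311566)) (tt N16672 (iv5 D53404)) (tt N21852 F309342) (tt N44349 (iv7 F111744)))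
theorem Q33244 : ∀ i, i < 33244 → P i := stepQ 33243 Q33243 (allL N33243 (tt N41252 (iv1 F180263)) (tt N62222 D115819) (tt N41147 (iv2 F180256)) (tt N16673 (iv3 D53406)) (tt N33528 F85052) (tt N40740 (iv5 F180308)) (tt N62223 D115822) (tt N20481 (iv7 F180250)))
theorem Q33245 : ∀ i, i < 33245 → P i := stepQ 33244 Q33244 (allL N33244 (tt N62224 D115824) (tt N62225 D115825) (tt N20486 F180245) (tt N62226 D115826) (tt N16673 (iv4 D53407)) (tt N62227 D115827) (tt N62228 D115828) (tt N20482 (iv7 F180252)))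
theorem Q33246 : ∀ i, i < 33246 → P i := stepQ 33245 Q33245 (allL N33245 (tt N62229 D115835) (tt N41227 F350165) (tt N20488 F180247) (tt N62223 (iv3 F180215)) (tt N62228 (iv4 F180226)) (tt N62230 D115837) (tt N16673 (iv6 D53409)) (tt N62231 D115838))
theorem Q33247 : ∀ i, i < 33247 → P i := stepQ 33246 Q33246 (allL N33246 (tt N62232 D115840) (tt N41221 F180294) (tt N62233 D115841) (tt N16674 (iv3 D53411)) (tt N62234 D115842) (tt N40743 F180302) (tt N62235 D115843) (tt N20485 F180240))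
theorem Q33248 : ∀ i, i < 33248 → P i := stepQ 33247 Q33247 (allL N33247 (tt N62225 (iv1 F180222)) (tt N62224 F180225) (tt N20482 (iv2 F180251)) (tt N58075 (iv3 F168843)) (tt N16674 (iv4 D53412)) (tt N62236 D115844) (tt N62237 D115845) (tt N20486 F180248))
theorem Q33249 : ∀ i, i < 33249 → P i := stepQ 33248 Q33248 (allL N33248 (tt N20230 (iv1 F322671)) (tt N46533 (iv0 F322672)) (tt N20484 (iv2 F180255)) (tt N62235 (iv3 F180319)) (tt N62237 (iv4 F180323)) (tt N24313 (iv5 F322679)) (tt N16674 (iv6 D53414)) (tt N48248 (iv7 F322680)))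
theorem Q33250 : ∀ i, i < 33250 → P i := stepQ 33249 Q33249 (allL N33249 (tt N20492 (iv1 F84267)) (tt N20491 F84268) (tt N16676 F84264) (tt N20408 F84265) (tt N29903 (iv4 F316769)) (tt N16675 (iv5 D53415)) (tt N21641 F316517) (tt N20489 F84266))
theorem Q33251 : ∀ i, i < 33251 → P i := stepQ 33250 Q33250 (allL N33250 (tt N20489 (iv1 F84271)) (tt N16676 (iv0 D53417)) (tt N20492 (iv2 F180353)) (tt N62238 D115857) (tt N62239 D115858) (tt N16711 F180352) (tt N62240 D115860) (tt N20491 (iv7 F180354)))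
theorem Q33252 : ∀ i, i < 33252 → P i := stepQ 33251 Q33251 (allL N33251 (tt N16676 (iv1 D53418)) (tt N20489 F84272) (tt N20491 F180355) (tt N62241 D115862) (tt N62242 D115863) (tt N16712 (iv5 F180357)) (tt N62243 D115865) (tt N20492 F180356))
theorem Q33253 : ∀ i, i < 33253 → P i := stepQ 33252 Q33252 (allL N33252 (tt N62244 D115866) (tt N32693 (iv0 F316766)) (tt N29903 (iv2 F316768)) (tt N16959 F84273) (tt N16676 (iv4 D53419)) (tt N62245 D115868) (tt N21644 F314419) (tt N20493 F84274))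
theorem Q33254 : ∀ i, i < 33254 → P i := stepQ 33253 Q33253 (allL N33253 (tt N62246 D115902) (tt N55877 (iv0 F162014)) (tt N20037 F111197) (tt N17139 F320621) (tt N16677 (iv4 D53436)) (tt N62247 D115904) (tt N44322 (iv6 F111636)) (tt N20039 (iv7 F111203)))
theorem Q33255 : ∀ i, i < 33255 → P i := stepQ 33254 Q33254 (allL N33254 (tt N35738 (iv1 F166187)) (tt N58350 F169176) (tt N20299 F84327) (tt N31985 F84328) (tt N59342 (iv4 F172678)) (tt N33254 F84329) (tt N16679 (iv6 D53447)) (tt N20430 F84330))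
theorem Q33256 : ∀ i, i < 33256 → P i := stepQ 33255 Q33255 (allL N33255 (tt N62248 D115918) (tt N62249 D115919) (tt N62250 D115920) (tt N16680 (iv3 D53448)) (tt N55926 (iv4 F162168)) (tt N62251 D115921) (tt N62252 D115922) (tt N19528 F84331))
theorem Q33257 : ∀ i, i < 33257 → P i := stepQ 33256 Q33256 (allL N33256 (tt N31417 F84334) (tt N31408 F84335) (tt N20301 F84332) (tt N62251 (iv3 F180485)) (tt N38389 (iv4 F98182)) (tt N16680 (iv5 D53449)) (tt N62253 D115923) (tt N19529 F84333))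
theorem Q33258 : ∀ i, i < 33258 → P i := stepQ 33257 Q33257 (allL N33257 (tt N59274 (iv1 F172446)) (tt N59273 F172443) (tt N20302 F84336) (tt N62252 (iv3 F180487)) (tt N16681 F84337) (tt N62254 D115924) (tt N16680 (iv6 D53450)) (tt N31591 F84338))
theorem Q33259 : ∀ i, i < 33259 → P i := stepQ 33258 Q33258 (allL N33258 (tt N62255 D115925) (tt N62256 D115926) (tt N62257 D115927) (tt N16683 (iv3 D53451)) (tt N20811 F84339) (tt N62258 D115928) (tt N62259 D115929) (tt N20311 F84340))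
theorem Q33260 : ∀ i, i < 33260 → P i := stepQ 33259 Q33259 (allL N33259 (tt N36109 (iv1 F93966)) (tt N38398 (iv0 F98203)) (tt N20320 F84341) (tt N62258 (iv3 F180499)) (tt N31700 F84342) (tt N16683 (iv5 D53452)) (tt N62260 D115930) (tt N20312 F84343))
theorem Q33261 : ∀ i, i < 33261 → P i := stepQ 33260 Q33260 (allL N33260 (tt N57347 F166266) (tt N62261 D115931) (tt N20321 F84344) (tt N62259 (iv3 F180501)) (tt N16684 F84345) (tt N62262 D115932) (tt N16683 (iv6 D53453)) (tt N44341 (iv7 F111705)))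
theorem Q33262 : ∀ i, i < 33262 → P i := stepQ 33261 Q33261 (allL N33261 (tt N62263 D115933) (tt N62264 D115934) (tt N62265 D115935) (tt N16685 (iv3 D53454)) (tt N20021 F84346) (tt N40544 (iv5 F101831)) (tt N62266 D115936) (tt N20324 F84347))
theorem Q33263 : ∀ i, i < 33263 → P i := stepQ 33262 Q33262 (allL N33262 (tt N31571 F84349) (tt N44340 F111700) (tt N20329 F84348) (tt N62266 (iv3 F180518)) (tt N36065 (iv4 F93899)) (tt N62267 D115937) (tt N16685 (iv6 D53455)) (tt N44338 (iv7 F111694)))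
theorem Q33264 : ∀ i, i < 33264 → P i := stepQ 33263 Q33263 (allL N33263 (tt N62268 D115938) (tt N62269 D115939) (tt N62270 D115940) (tt N16686 (iv3 D53456)) (tt N30353 F84350) (tt N40546 (iv5 F101835)) (tt N62271 D115941) (tt N20327 F84351))
theorem Q33265 : ∀ i, i < 33265 → P i := stepQ 33264 Q33264 (allL N33264 (tt N58121 F168882) (tt N58122 (iv0 F168886)) (tt N20326 F84352) (tt N62271 (iv3 F180535)) (tt N20440 F84353) (tt N62272 D115942) (tt N16686 (iv6 D53457)) (tt N62273 D115943))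
theorem Q33266 : ∀ i, i < 33266 → P i := stepQ 33265 Q33265 (allL N33265 (tt N20332 (iv1 F84354)) (tt N16687 (iv0 D53458)) (tt N20331 F183032) (tt N62274 D115945) (tt N62275 D115946) (tt N40536 (iv5 F181569)) (tt N62276 D115948) (tt N20330 (iv7 F183034)))
theorem Q33267 : ∀ i, i < 33267 → P i := stepQ 33266 Q33266 (allL N33266 (tt N16687 (iv1 D53459)) (tt N20332 F84359) (tt N20330 (iv2 F183033)) (tt N62277 D115950) (tt N20877 (iv4 F84355)) (tt N40537 (iv5 F181556)) (tt N62278 D115952) (tt N20331 F183031))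
theorem Q33268 : ∀ i, i < 33268 → P i := stepQ 33267 Q33267 (allL N33267 (tt N20331 (iv1 F84360)) (tt N20330 F84358) (tt N16687 (iv2 D53460)) (tt N59467 (iv3 F172957)) (tt N16695 F84356) (tt N62279 D115953) (tt N62280 D115954) (tt N20332 F84357))
theorem Q33269 : ∀ i, i < 33269 → P i := stepQ 33268 Q33268 (allL N33268 (tt N62281 D115955) (tt N62282 D115956) (tt N62279 (iv2 F180556)) (tt N16688 F84361) (tt N62283 D115957) (tt N16687 (iv5 D53461)) (tt N62284 D115958) (tt N20333 F84362))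
theorem Q33270 : ∀ i, i < 33270 → P i := stepQ 33269 Q33269 (allL N33269 (tt N62285 D115959) (tt N62286 D115960) (tt N62280 (iv2 F180562)) (tt N16689 F84363) (tt N16697 F84364) (tt N46752 (iv5 F328066)) (tt N16687 (iv6 D53462)) (tt N42923 (iv7 F318719)))
theorem Q33271 : ∀ i, i < 33271 → P i := stepQ 33270 Q33270 (allL N33270 (tt N17812 (iv1 F329525)) (tt N17815 (iv0 F329526)) (tt N44919 F329235) (tt N62284 (iv3 F180567)) (tt N59326 (iv4 F172604)) (tt N34566 F329236) (tt N16688 (iv6 D53463)) (tt N34800 (iv7 F329527)))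
theorem Q33272 : ∀ i, i < 33272 → P i := stepQ 33271 Q33271 (allL N33271 (tt N28401 F328495) (tt N16689 (iv0 D53464)) (tt N41504 (iv2 F104324)) (tt N62287 D115967) (tt N36069 F104325) (tt N17719 (iv5 F328884)) (tt N62288 D115969) (tt N17718 F328496))
theorem Q33273 : ∀ i, i < 33273 → P i := stepQ 33272 Q33272 (allL N33272 (tt N16689 (iv1 D53465)) (tt N28401 F328491) (tt N17718 F328492) (tt N62289 D115970) (tt N30395 (iv4 F84365)) (tt N17672 (iv5 F328877)) (tt N20204 F84366) (tt N41504 (iv7 F104321)))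
theorem Q33274 : ∀ i, i < 33274 → P i := stepQ 33273 Q33273 (allL N33273 (tt N24380 F329215) (tt N31418 (iv0 F99504)) (tt N35054 F329216) (tt N62290 D115977) (tt N16690 (iv4 D53468)) (tt N34910 (iv5 F329508)) (tt N62291 D115979) (tt N31711 F84369))
theorem Q33275 : ∀ i, i < 33275 → P i := stepQ 33274 Q33274 (allL N33274 (tt N38759 (iv1 F98759)) (tt N38258 (iv0 F168233)) (tt N38761 (iv2 F98761)) (tt N37254 (iv3 F95711)) (tt N62291 (iv4 F180586)) (tt N38255 (iv5 F97779)) (tt N16690 (iv6 D53469)) (tt N20201 F84370))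
theorem Q33276 : ∀ i, i < 33276 → P i := stepQ 33275 Q33275 (allL N33275 (tt N41222 (iv1 F180602)) (tt N62292 D115989) (tt N41487 (iv2 F180662)) (tt N16693 (iv3 D53472)) (tt N30364 F84374) (tt N40613 (iv5 F181538)) (tt N62293 D115992) (tt N20400 (iv7 F180656)))
theorem Q33277 : ∀ i, i < 33277 → P i := stepQ 33276 Q33276 (allL N33276 (tt N62294 D115994) (tt N62295 D115995) (tt N20405 F180651) (tt N62296 D115996) (tt N16693 (iv4 D53473)) (tt N62297 D115997) (tt N62298 D115998) (tt N20401 (iv7 F180658)))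
theorem Q33278 : ∀ i, i < 33278 → P i := stepQ 33277 Q33277 (allL N33277 (tt N44346 (iv1 F332412)) (tt N41260 (iv0 F332413)) (tt N20407 F180653) (tt N62293 (iv3 F180614)) (tt N62298 (iv4 F180622)) (tt N62299 D116007) (tt N16693 (iv6 D53475)) (tt N44347 F341100))
theorem Q33279 : ∀ i, i < 33279 → P i := stepQ 33278 Q33278 (allL N33278 (tt N62300 D116010) (tt N41250 F180698) (tt N62301 D116011) (tt N16694 (iv3 D53477)) (tt N62302 D116012) (tt N40616 (iv5 F181550)) (tt N62303 D116014) (tt N20404 F180646))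
theorem Q33280 : ∀ i, i < 33280 → P i := stepQ 33279 Q33279 (allL N33279 (tt N62295 (iv1 F180620)) (tt N62294 F180625) (tt N20401 (iv2 F180657)) (tt N62304 D116015) (tt N16694 (iv4 D53478)) (tt N62305 D116016) (tt N62306 D116017) (tt N20405 F180654))
theorem Q33281 : ∀ i, i < 33281 → P i := stepQ 33280 Q33280 (allL N33280 (tt N41225 (iv1 F341082)) (tt N62307 D116021) (tt N20403 (iv2 F180661)) (tt N62303 (iv3 F180755)) (tt N62306 (iv4 F180762)) (tt N62308 D116022) (tt N16694 (iv6 D53480)) (tt N62309 D116023))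
theorem Q33282 : ∀ i, i < 33282 → P i := stepQ 33281 Q33281 (allL N33281 (tt N20411 (iv1 F84379)) (tt N20410 F84380) (tt N16696 F84376) (tt N20489 F84377) (tt N62310 D116024) (tt N16695 (iv5 D53481)) (tt N62311 D116025) (tt N20408 F84378))
theorem Q33283 : ∀ i, i < 33283 → P i := stepQ 33282 Q33282 (allL N33282 (tt N42925 (iv1 F318714)) (tt N42924 (iv0 F318713)) (tt N16697 F84381) (tt N20490 F84382) (tt N62280 (iv4 F180563)) (tt N62312 D116028) (tt N16695 (iv6 D53482)) (tt N42921 (iv7 F318718)))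
theorem Q33284 : ∀ i, i < 33284 → P i := stepQ 33283 Q33283 (allL N33283 (tt N20408 (iv1 F84383)) (tt N16696 (iv0 D53483)) (tt N20411 F181682) (tt N45325 (iv3 F316589)) (tt N62313 D116032) (tt N16734 (iv5 F181689)) (tt N62314 D116034) (tt N20410 F181683))
theorem Q33285 : ∀ i, i < 33285 → P i := stepQ 33284 Q33284 (allL N33284 (tt N16696 (iv1 D53484)) (tt N20408 F84384) (tt N20410 (iv2 F181673)) (tt N62315 D116036) (tt N62316 D116037) (tt N16735 F181672) (tt N62317 D116039) (tt N20411 (iv7 F181681)))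
theorem Q33286 : ∀ i, i < 33286 → P i := stepQ 33285 Q33285 (allL N33285 (tt N62318 D116040) (tt N62319 D116041) (tt N62310 (iv2 F180773)) (tt N16953 F84385) (tt N16696 (iv4 D53485)) (tt N62320 D116042) (tt N20736 F320919) (tt N20412 F84386))
theorem Q33287 : ∀ i, i < 33287 → P i := stepQ 33286 Q33286 (allL N33286 (tt N62241 F320906) (tt N62321 D116045) (tt N62311 (iv2 F180777)) (tt N16698 F84387) (tt N20736 F320907) (tt N41221 F320908) (tt N16696 (iv6 D53486)) (tt N21654 F316521))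
theorem Q33288 : ∀ i, i < 33288 → P i := stepQ 33287 Q33287 (allL N33287 (tt N42921 (iv1 F318716)) (tt N16697 (iv0 D53487)) (tt N42925 (iv2 F325518)) (tt N62322 D116049) (tt N62323 D116050) (tt N62324 D116051) (tt N41809 F324373) (tt N42924 (iv7 F325519)))
theorem Q33289 : ∀ i, i < 33289 → P i := stepQ 33288 Q33288 (allL N33288 (tt N16697 (iv1 D53488)) (tt N42921 (iv0 F318715)) (tt N42924 F326374) (tt N62325 D116054) (tt N62326 D116055) (tt N62327 D116056) (tt N20213 (iv6 F327179)) (tt N42925 F326375))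
theorem Q33290 : ∀ i, i < 33290 → P i := stepQ 33289 Q33289 (allL N33289 (tt N62328 D116058) (tt N48505 (iv0 F320766)) (tt N62312 (iv2 F180780)) (tt N16699 F84388) (tt N62329 D116060) (tt N16697 (iv5 D53489)) (tt N41221 (iv6 F318780)) (tt N42882 (iv7 F318720)))
theorem Q33291 : ∀ i, i < 33291 → P i := stepQ 33290 Q33290 (allL N33290 (tt N22139 (iv1 F316904)) (tt N62217 (iv0 F180845)) (tt N62330 D116077) (tt N16700 (iv3 D53499)) (tt N40500 F339853) (tt N62331 D116078) (tt N62332 D116079) (tt N20511 F84408))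
theorem Q33292 : ∀ i, i < 33292 → P i := stepQ 33291 Q33291 (allL N33291 (tt N41054 (iv1 F103237)) (tt N48107 F316113) (tt N20508 F84409) (tt N62331 (iv3 F180847)) (tt N45513 (iv4 F323535)) (tt N16700 (iv5 D53500)) (tt N33811 (iv6 F317721)) (tt N20512 F84410))
theorem Q33293 : ∀ i, i < 33293 → P i := stepQ 33292 Q33292 (allL N33292 (tt N33763 (iv1 F313607)) (tt N33765 (iv0 F313604)) (tt N20509 F84411) (tt N62332 (iv3 F180849)) (tt N16701 F84412) (tt N33388 F84678) (tt N16700 (iv6 D53501)) (tt N18998 F84413))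
theorem Q33294 : ∀ i, i < 33294 → P i := stepQ 33293 Q33293 (allL N33293 (tt N57122 F165410) (tt N62333 D116081) (tt N62334 D116082) (tt N16702 (iv3 D53502)) (tt N56985 (iv4 F165164)) (tt N38823 F345288) (tt N62335 D116083) (tt N20598 F84414))
theorem Q33295 : ∀ i, i < 33295 → P i := stepQ 33294 Q33294 (allL N33294 (tt N56795 F168122) (tt N20775 F168123) (tt N20600 F84415) (tt N62335 (iv3 F180858)) (tt N30822 F84416) (tt N62336 D116084) (tt N16702 (iv6 D53503)) (tt N44351 (iv7 F111752)))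
theorem Q33296 : ∀ i, i < 33296 → P i := stepQ 33295 Q33295 (allL N33295 (tt N62337 D116085) (tt N62338 D116086) (tt N62339 D116087) (tt N16703 (iv3 D53504)) (tt N18639 F84417) (tt N32774 F331530) (tt N19679 F84418) (tt N20599 F84419))
theorem Q33297 : ∀ i, i < 33297 → P i := stepQ 33296 Q33296 (allL N33296 (tt N20603 (iv1 F84420)) (tt N16704 (iv0 D53505)) (tt N20602 F102868) (tt N62340 D116088) (tt N62341 D116089) (tt N62198 (iv5 F180363)) (tt N62342 D116090) (tt N20601 F102869))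
theorem Q33298 : ∀ i, i < 33298 → P i := stepQ 33297 Q33297 (allL N33297 (tt N16704 (iv1 D53506)) (tt N20603 (iv0 F84422)) (tt N20601 F102845) (tt N57106 F165404) (tt N20671 (iv4 F84421)) (tt N62199 (iv5 F180359)) (tt N35402 (iv6 F322256)) (tt N20602 F102846))
theorem Q33299 : ∀ i, i < 33299 → P i := stepQ 33298 Q33298 (allL N33298 (tt N20602 (iv1 F84426)) (tt N20601 F84425) (tt N16704 (iv2 D53507)) (tt N56743 (iv3 F164707)) (tt N16713 F84423) (tt N62343 D116092) (tt N62344 D116093) (tt N20603 F84424))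
theorem Q33300 : ∀ i, i < 33300 → P i := stepQ 33299 Q33299 (allL N33299 (tt N40375 (iv1 F180975)) (tt N40378 (iv0 F180972)) (tt N62343 (iv2 F180879)) (tt N16705 F84427) (tt N26717 (iv4 F331053)) (tt N16704 (iv5 D53508)) (tt N26716 (iv6 F331054)) (tt N20604 F84428))
theorem Q33301 : ∀ i, i < 33301 → P i := stepQ 33300 Q33300 (allL N33300 (tt N43882 F349998) (tt N62345 D116099) (tt N62344 (iv2 F180885)) (tt N16706 F84429) (tt N16715 F84430) (tt N62346 D116100) (tt N16704 (iv6 D53509)) (tt N62347 D116101))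
theorem Q33302 : ∀ i, i < 33302 → P i := stepQ 33301 Q33301 (allL N33301 (tt N62348 D116102) (tt N62349 D116103) (tt N56746 (iv2 F164717)) (tt N26716 F331062) (tt N50478 (iv4 F331073)) (tt N62350 D116104) (tt N16705 (iv6 D53510)) (tt N50652 (iv7 F331076)))
theorem Q33303 : ∀ i, i < 33303 → P i := stepQ 33302 Q33302 (allL N33302 (tt N56750 (iv1 F164728)) (tt N16706 (iv0 D53511)) (tt N56747 (iv2 F172150)) (tt N62351 D116106) (tt N62352 D116107) (tt N62353 D116108) (tt N57817 F172153) (tt N56748 (iv7 F172152)))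
theorem Q33304 : ∀ i, i < 33304 → P i := stepQ 33303 Q33303 (allL N33303 (tt N16706 (iv1 D53512)) (tt N56750 F164727) (tt N56748 F172151) (tt N62354 D116109) (tt N59127 (iv4 F172148)) (tt N62355 D116110) (tt N62356 D116111) (tt N56747 F172149))
theorem Q33305 : ∀ i, i < 33305 → P i := stepQ 33304 Q33304 (allL N33304 (tt N62357 D116112) (tt N30275 F331816) (tt N56749 (iv2 F164723)) (tt N62346 (iv3 F180891)) (tt N62358 D116114) (tt N16706 (iv5 D53513)) (tt N62350 (iv6 F180895)) (tt N62359 D116115))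
theorem Q33306 : ∀ i, i < 33306 → P i := stepQ 33305 Q33305 (allL N33305 (tt N56748 (iv1 F164722)) (tt N56747 (iv0 F164720)) (tt N56750 (iv2 F164724)) (tt N62347 (iv3 F180892)) (tt N16710 F84431) (tt N62359 (iv5 F180903)) (tt N20612 F84432) (tt N16706 (iv7 D53514)))
theorem Q33307 : ∀ i, i < 33307 → P i := stepQ 33306 Q33306 (allL N33306 (tt N56762 (iv1 F164753)) (tt N38651 (iv0 F102040)) (tt N56751 (iv2 F164729)) (tt N62360 D116116) (tt N16707 (iv4 D53517)) (tt N62361 D116117) (tt N57821 (iv6 F167858)) (tt N56753 (iv7 F164740)))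
theorem Q33308 : ∀ i, i < 33308 → P i := stepQ 33307 Q33307 (allL N33307 (tt N58041 F168738) (tt N38777 (iv0 F98795)) (tt N56752 (iv2 F164733)) (tt N56374 (iv3 F163648)) (tt N62362 D116118) (tt N16707 (iv5 D53518)) (tt N20542 F84435) (tt N38833 F102095))
theorem Q33309 : ∀ i, i < 33309 → P i := stepQ 33308 Q33308 (allL N33308 (tt N20087 F102184) (tt N20094 F102185) (tt N20092 F102180) (tt N16708 (iv3 D53520)) (tt N62363 D116119) (tt N62364 D116120) (tt N62365 D116121) (tt N20091 F102181))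
theorem Q33310 : ∀ i, i < 33310 → P i := stepQ 33309 Q33309 (allL N33309 (tt N38651 F100606) (tt N56762 F164752) (tt N56753 (iv2 F164739)) (tt N62366 D116122) (tt N16708 (iv4 D53521)) (tt N62367 D116123) (tt N47912 F344428) (tt N56751 (iv7 F164731)))
theorem Q33311 : ∀ i, i < 33311 → P i := stepQ 33310 Q33310 (allL N33310 (tt N38777 (iv1 F164738)) (tt N58041 (iv0 F168737)) (tt N38833 (iv2 F102145)) (tt N62364 (iv3 F180911)) (tt N62368 D116125) (tt N16708 (iv5 D53522)) (tt N19608 (iv6 F84437)) (tt N56752 (iv7 F164736)))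
theorem Q33312 : ∀ i, i < 33312 → P i := stepQ 33311 Q33311 (allL N33311 (tt N38586 F164039) (tt N56797 F164817) (tt N56754 (iv2 F164742)) (tt N62365 (iv3 F180915)) (tt N47912 F344427) (tt N38442 (iv5 F98302)) (tt N16708 (iv6 D53523)) (tt N57820 (iv7 F167854)))
theorem Q33313 : ∀ i, i < 33313 → P i := stepQ 33312 Q33312 (allL N33312 (tt N39192 F330989) (tt N39196 F330990) (tt N38480 (iv2 F98356)) (tt N20010 F326001) (tt N16709 (iv4 D53524)) (tt N20009 (iv5 F326903)) (tt N19359 F84438) (tt N37434 (iv7 F95963)))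
theorem Q33314 : ∀ i, i < 33314 → P i := stepQ 33313 Q33313 (allL N33313 (tt N29694 (iv1 F162314)) (tt N62081 (iv0 F179971)) (tt N40790 (iv2 F102656)) (tt N16711 (iv3 D53526)) (tt N33401 F84701) (tt N62238 F180376) (tt N62369 D116129) (tt N20618 F102520))
theorem Q33315 : ∀ i, i < 33315 → P i := stepQ 33314 Q33314 (allL N33314 (tt N33428 F84765) (tt N62370 D116130) (tt N20621 F102522) (tt N62371 D116131) (tt N16711 (iv4 D53527)) (tt N62372 D116132) (tt N62373 D116133) (tt N20619 F102523))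
theorem Q33316 : ∀ i, i < 33316 → P i := stepQ 33315 Q33315 (allL N33315 (tt N44530 (iv1 F319272)) (tt N20778 (iv0 F319318)) (tt N20622 F102550) (tt N62369 (iv3 F180922)) (tt N62373 (iv4 F180928)) (tt N62374 D116136) (tt N16711 (iv6 D53529)) (tt N44368 (iv7 F319281)))
theorem Q33317 : ∀ i, i < 33317 → P i := stepQ 33316 Q33316 (allL N33316 (tt N20164 F102535) (tt N20169 F102536) (tt N36210 F102527) (tt N16712 (iv3 D53531)) (tt N40890 F103000) (tt N62241 (iv5 F180358)) (tt N25496 (iv6 F319667)) (tt N20620 F102528))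
theorem Q33318 : ∀ i, i < 33318 → P i := stepQ 33317 Q33317 (allL N33317 (tt N62370 (iv1 F180923)) (tt N33428 F102534) (tt N20619 F102529) (tt N56763 (iv3 F164754)) (tt N16712 (iv4 D53532)) (tt N62375 D116139) (tt N44369 (iv6 F319668)) (tt N20621 F102530))
theorem Q33319 : ∀ i, i < 33319 → P i := stepQ 33318 Q33318 (allL N33318 (tt N20626 (iv1 F84444)) (tt N20625 F84445) (tt N16714 F84441) (tt N20560 F84442) (tt N62376 D116145) (tt N16713 (iv5 D53535)) (tt N62377 D116146) (tt N20623 F84443))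
theorem Q33320 : ∀ i, i < 33320 → P i := stepQ 33319 Q33319 (allL N33319 (tt N62378 D116147) (tt N46610 F319220) (tt N16715 F84446) (tt N20561 F84447) (tt N62344 (iv4 F180886)) (tt N62379 D116149) (tt N16713 (iv6 D53536)) (tt N62380 D116150))
theorem Q33321 : ∀ i, i < 33321 → P i := stepQ 33320 Q33320 (allL N33320 (tt N62381 D116161) (tt N62382 D116162) (tt N62376 (iv2 F180948)) (tt N16901 F84450) (tt N16714 (iv4 D53539)) (tt N62383 D116163) (tt N62384 D116164) (tt N20627 F84451))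
theorem Q33322 : ∀ i, i < 33322 → P i := stepQ 33321 Q33321 (allL N33321 (tt N46613 F335850) (tt N46617 (iv0 F335856)) (tt N62377 (iv2 F180952)) (tt N16716 F84452) (tt N62384 (iv4 F180979)) (tt N33594 (iv5 F317832)) (tt N16714 (iv6 D53540)) (tt N41711 (iv7 F319669)))
theorem Q33323 : ∀ i, i < 33323 → P i := stepQ 33322 Q33322 (allL N33322 (tt N62380 (iv1 F180962)) (tt N16715 (iv0 D53541)) (tt N62378 (iv2 F319224)) (tt N62385 D116170) (tt N62386 D116171) (tt N18446 (iv5 F319287)) (tt N21886 (iv6 F319288)) (tt N46610 (iv7 F319724)))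
theorem Q33324 : ∀ i, i < 33324 → P i := stepQ 33323 Q33323 (allL N33323 (tt N16715 (iv1 D53542)) (tt N62380 F180961) (tt N46610 F321662) (tt N62387 D116175) (tt N62388 D116176) (tt N27612 (iv5 F323352)) (tt N23961 (iv6 F323353)) (tt N62378 (iv7 F319225)))
theorem Q33325 : ∀ i, i < 33325 → P i := stepQ 33324 Q33324 (allL N33324 (tt N62389 D116179) (tt N47716 F341030) (tt N62379 (iv2 F180955)) (tt N16719 F84453) (tt N62390 D116181) (tt N16715 (iv5 D53543)) (tt N33594 (iv6 F317833)) (tt N62391 D116182))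
theorem Q33326 : ∀ i, i < 33326 → P i := stepQ 33325 Q33325 (allL N33325 (tt N46610 F319118) (tt N62378 F180960) (tt N62380 (iv2 F180957)) (tt N16720 F84454) (tt N62347 (iv4 F180893)) (tt N62391 (iv5 F180987)) (tt N20631 F84455) (tt N16715 (iv7 D53544)))
theorem Q33327 : ∀ i, i < 33327 → P i := stepQ 33326 Q33326 (allL N33326 (tt N29693 F320126) (tt N62392 D116197) (tt N61381 (iv2 F315680)) (tt N16718 (iv3 D53551)) (tt N62393 D116199) (tt N20976 (iv5 F315683)) (tt N62394 D116201) (tt N20577 F84468))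
theorem Q33328 : ∀ i, i < 33328 → P i := stepQ 33327 Q33327 (allL N33327 (tt N38587 (iv1 F98442)) (tt N20772 F95840) (tt N20579 F84471) (tt N62394 (iv3 F181087)) (tt N29687 F84472) (tt N21006 F309982) (tt N16718 (iv6 D53553)) (tt N20996 (iv7 F311454)))
theorem Q33329 : ∀ i, i < 33329 → P i := stepQ 33328 Q33328 (allL N33328 (tt N20582 F84476) (tt N16719 (iv0 D53554)) (tt N20580 (iv2 F84474)) (tt N25215 (iv3 F315631)) (tt N33414 F321607) (tt N18802 F84473) (tt N20942 F313230) (tt N20581 (iv7 F84475)))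
theorem Q33330 : ∀ i, i < 33330 → P i := stepQ 33329 Q33329 (allL N33329 (tt N16719 (iv1 D53555)) (tt N20582 F84477) (tt N20581 F84480) (tt N62395 D116206) (tt N40838 (iv4 F102733)) (tt N21063 (iv5 F84479)) (tt N41674 (iv6 F315943)) (tt N20580 F84478))
theorem Q33331 : ∀ i, i < 33331 → P i := stepQ 33330 Q33330 (allL N33330 (tt N36208 (iv1 F318132)) (tt N36218 F317325) (tt N20572 (iv2 F318130)) (tt N40220 (iv3 F319607)) (tt N16719 (iv4 D53556)) (tt N20852 (iv5 F318131)) (tt N20574 (iv6 F317834)) (tt N36216 F317326))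
theorem Q33332 : ∀ i, i < 33332 → P i := stepQ 33331 Q33331 (allL N33331 (tt N20581 (iv1 F84484)) (tt N20580 F84485) (tt N20582 F84482) (tt N62391 (iv3 F180986)) (tt N36216 F318142) (tt N16720 F84483) (tt N21874 (iv6 F313847)) (tt N16719 (iv7 D53557)))
theorem Q33333 : ∀ i, i < 33333 → P i := stepQ 33332 Q33332 (allL N33332 (tt N20150 F101913) (tt N19897 F101914) (tt N20111 F101961) (tt N42227 F320528) (tt N16721 (iv4 D53561)) (tt N41393 (iv5 F329154)) (tt N44400 (iv6 F111956)) (tt N20113 (iv7 F101969)))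
theorem Q33334 : ∀ i, i < 33334 → P i := stepQ 33333 Q33333 (allL N33333 (tt N32527 (iv1 F325993)) (tt N32524 (iv0 F325994)) (tt N20112 F101964) (tt N16722 F84493) (tt N60780 (iv4 F325995)) (tt N16721 (iv5 D53562)) (tt N20584 F84494) (tt N20114 (iv7 F101970)))
theorem Q33335 : ∀ i, i < 33335 → P i := stepQ 33334 Q33334 (allL N33334 (tt N37992 F97142) (tt N37963 F97055) (tt N20586 F84499) (tt N60781 (iv3 F323717)) (tt N16722 (iv4 D53565)) (tt N40237 F322085) (tt N20586 F84500) (tt N20589 F84501))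
theorem Q33336 : ∀ i, i < 33336 → P i := stepQ 33335 Q33335 (allL N33335 (tt N16764 F319196) (tt N43346 (iv0 F316846)) (tt N62396 D116229) (tt N16723 (iv3 D53572)) (tt N61996 (iv4 F179787)) (tt N33761 (iv5 F316847)) (tt N62397 D116231) (tt N20585 F84513))
theorem Q33337 : ∀ i, i < 33337 → P i := stepQ 33336 Q33336 (allL N33336 (tt N37085 (iv1 F95504)) (tt N20761 (iv0 F101302)) (tt N20588 F84516) (tt N62397 (iv3 F181160)) (tt N16725 F84517) (tt N22803 F310192) (tt N16723 (iv6 D53574)) (tt N22802 F310193))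
theorem Q33338 : ∀ i, i < 33338 → P i := stepQ 33337 Q33337 (allL N33337 (tt N37963 F97054) (tt N37992 F97143) (tt N20589 F84518) (tt N62398 D116234) (tt N16724 (iv4 D53575)) (tt N40239 F322084) (tt N18892 F98522) (tt N20586 F84520))
theorem Q33339 : ∀ i, i < 33339 → P i := stepQ 33338 Q33338 (allL N33338 (tt N36012 (iv1 F325026)) (tt N20089 (iv0 F325027)) (tt N36136 (iv2 F325028)) (tt N16726 (iv3 D53576)) (tt N20010 (iv4 F325030)) (tt N16793 F323781) (tt N18755 F84521) (tt N20845 F323782))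
theorem Q33340 : ∀ i, i < 33340 → P i := stepQ 33339 Q33339 (allL N33339 (tt N16733 F84524) (tt N16727 (iv0 D53578)) (tt N16731 F102439) (tt N57032 F165255) (tt N62399 D116244) (tt N20595 F84523) (tt N59525 (iv6 F173063)) (tt N16732 F102440))
theorem Q33341 : ∀ i, i < 33341 → P i := stepQ 33340 Q33340 (allL N33340 (tt N16727 (iv1 D53579)) (tt N16733 F84525) (tt N16732 F102447) (tt N20122 F163579) (tt N62400 D116245) (tt N20596 (iv5 F95818)) (tt N20239 F95819) (tt N16731 F102448))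
theorem Q33342 : ∀ i, i < 33342 → P i := stepQ 33341 Q33341 (allL N33341 (tt N16732 (iv1 F84530)) (tt N16731 (iv0 F84531)) (tt N16733 F84526) (tt N20597 F84527) (tt N59027 (iv4 F171794)) (tt N30706 F84528) (tt N20525 F84529) (tt N16727 (iv7 D53580)))
theorem Q33343 : ∀ i, i < 33343 → P i := stepQ 33342 Q33342 (allL N33342 (tt N20530 (iv1 F84532)) (tt N16728 (iv0 D53581)) (tt N20529 F102976) (tt N62401 D116246) (tt N20716 (iv4 F84533)) (tt N62281 (iv5 F181692)) (tt N35444 (iv6 F319672)) (tt N20528 F102977))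
theorem Q33344 : ∀ i, i < 33344 → P i := stepQ 33343 Q33343 (allL N33343 (tt N16728 (iv1 D53582)) (tt N20530 F84538) (tt N20528 F102972) (tt N62402 D116249) (tt N20639 (iv4 F84534)) (tt N62282 (iv5 F181704)) (tt N62403 D116251) (tt N20529 F102973))
theorem Q33345 : ∀ i, i < 33345 → P i := stepQ 33344 Q33344 (allL N33344 (tt N20529 (iv1 F84539)) (tt N20528 F84537) (tt N16728 (iv2 D53583)) (tt N59022 (iv3 F171780)) (tt N16736 F84535) (tt N62404 D116252) (tt N62405 D116253) (tt N20530 F84536))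
theorem Q33346 : ∀ i, i < 33346 → P i := stepQ 33345 Q33345 (allL N33345 (tt N40116 (iv1 F181594)) (tt N40119 (iv0 F181590)) (tt N62404 (iv2 F181206)) (tt N16729 F84540) (tt N62406 D116256) (tt N16728 (iv5 D53584)) (tt N62407 D116257) (tt N20531 F84541))
theorem Q33347 : ∀ i, i < 33347 → P i := stepQ 33346 Q33346 (allL N33346 (tt N62408 D116258) (tt N62409 D116259) (tt N62405 (iv2 F181210)) (tt N16730 F84542) (tt N16738 F84543) (tt N62410 D116260) (tt N16728 (iv6 D53585)) (tt N46507 (iv7 F319682)))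
theorem Q33348 : ∀ i, i < 33348 → P i := stepQ 33347 Q33347 (allL N33347 (tt N62411 D116262) (tt N62412 D116263) (tt N59025 (iv2 F171790)) (tt N62407 (iv3 F181215)) (tt N58718 (iv4 F341349)) (tt N58316 (iv5 F360067)) (tt N16729 (iv6 D53586)) (tt N59959 (iv7 F343164)))
theorem Q33349 : ∀ i, i < 33349 → P i := stepQ 33348 Q33348 (allL N33348 (tt N59027 (iv1 F171797)) (tt N16730 (iv0 D53587)) (tt N59014 (iv2 F171727)) (tt N62413 D116266) (tt N36111 F166465) (tt N62414 D116267) (tt N46735 F332933) (tt N59016 (iv7 F171739)))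
theorem Q33350 : ∀ i, i < 33350 → P i := stepQ 33349 Q33349 (allL N33349 (tt N16730 (iv1 D53588)) (tt N59027 F171796) (tt N59016 (iv2 F171738)) (tt N62415 D116269) (tt N36112 (iv4 F166139)) (tt N62416 D116270) (tt N59230 F172375) (tt N59014 (iv7 F171728)))
theorem Q33351 : ∀ i, i < 33351 → P i := stepQ 33350 Q33350 (allL N33350 (tt N62417 D116271) (tt N62418 D116272) (tt N59026 (iv2 F171792)) (tt N62410 (iv3 F181216)) (tt N62419 D116273) (tt N16730 (iv5 D53589)) (tt N58316 (iv6 F360068)) (tt N62420 D116274))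
theorem Q33352 : ∀ i, i < 33352 → P i := stepQ 33351 Q33351 (allL N33351 (tt N59016 F171740) (tt N59014 (iv0 F171729)) (tt N59027 (iv2 F171793)) (tt N46507 F321533) (tt N16733 F84544) (tt N62420 (iv5 F181226)) (tt N20539 F84545) (tt N16730 (iv7 D53590)))
theorem Q33353 : ∀ i, i < 33353 → P i := stepQ 33352 Q33352 (allL N33352 (tt N62421 D116275) (tt N31431 (iv0 F166482)) (tt N62399 (iv2 F181186)) (tt N62422 D116276) (tt N16731 (iv4 D53593)) (tt N62423 D116277) (tt N62424 D116278) (tt N62400 (iv7 F181192)))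
theorem Q33354 : ∀ i, i < 33354 → P i := stepQ 33353 Q33353 (allL N33353 (tt N59276 F172456) (tt N31151 (iv0 F168302)) (tt N59525 F173064) (tt N57065 (iv3 F165322)) (tt N62424 (iv4 F181232)) (tt N30835 F84553) (tt N16731 (iv6 D53594)) (tt N59236 (iv7 F172399)))
theorem Q33355 : ∀ i, i < 33355 → P i := stepQ 33354 Q33354 (allL N33354 (tt N31431 F171721) (tt N62421 F181229) (tt N62400 (iv2 F181190)) (tt N62425 D116279) (tt N16732 (iv4 D53597)) (tt N62426 D116280) (tt N59234 (iv6 F172390)) (tt N62399 (iv7 F181187)))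
theorem Q33356 : ∀ i, i < 33356 → P i := stepQ 33355 Q33355 (allL N33355 (tt N36206 (iv1 F102795)) (tt N36222 (iv0 F100688)) (tt N36221 F102815) (tt N16734 (iv3 D53599)) (tt N30311 F84559) (tt N45325 (iv5 F316590)) (tt N44395 (iv6 F318053)) (tt N20555 F102816))
theorem Q33357 : ∀ i, i < 33357 → P i := stepQ 33356 Q33356 (allL N33356 (tt N40887 F102993) (tt N40946 (iv0 F103067)) (tt N20559 F102817) (tt N62427 D116283) (tt N16734 (iv4 D53600)) (tt N62428 D116284) (tt N44396 (iv6 F319670)) (tt N20556 F102818))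
theorem Q33358 : ∀ i, i < 33358 → P i := stepQ 33357 Q33357 (allL N33357 (tt N62084 (iv1 F179983)) (tt N29690 F179963) (tt N62080 F179960) (tt N16735 (iv3 D53604)) (tt N33415 (iv4 F84752)) (tt N62315 (iv5 F181676)) (tt N62429 D116295) (tt N20558 F102805))
theorem Q33359 : ∀ i, i < 33359 → P i := stepQ 33358 Q33358 (allL N33358 (tt N40946 F103068) (tt N40887 F102994) (tt N20556 F102807) (tt N62037 (iv3 F179851)) (tt N16735 (iv4 D53605)) (tt N62430 D116296) (tt N62431 D116297) (tt N20559 F102808))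
theorem Q33360 : ∀ i, i < 33360 → P i := stepQ 33359 Q33359 (allL N33359 (tt N20771 F326909) (tt N62432 D116301) (tt N20557 F102811) (tt N62429 (iv3 F181284)) (tt N62431 (iv4 F181288)) (tt N62433 D116302) (tt N16735 (iv6 D53607)) (tt N44399 (iv7 F319671)))
theorem Q33361 : ∀ i, i < 33361 → P i := stepQ 33360 Q33360 (allL N33360 (tt N20563 (iv1 F84564)) (tt N20562 F84565) (tt N16737 F84561) (tt N20623 F84562) (tt N62434 D116304) (tt N16736 (iv5 D53608)) (tt N42617 (iv6 F319292)) (tt N20560 F84563))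
theorem Q33362 : ∀ i, i < 33362 → P i := stepQ 33361 Q33361 (allL N33361 (tt N46506 (iv1 F319293)) (tt N46505 (iv0 F319294)) (tt N16738 F84566) (tt N20624 F84567) (tt N62405 (iv4 F181211)) (tt N21867 (iv5 F319298)) (tt N16736 (iv6 D53609)) (tt N46503 (iv7 F319302)))
theorem Q33363 : ∀ i, i < 33363 → P i := stepQ 33362 Q33362 (allL N33362 (tt N62435 D116320) (tt N62436 D116321) (tt N62434 (iv2 F181299)) (tt N16878 F84570) (tt N16737 (iv4 D53612)) (tt N62437 D116322) (tt N42618 (iv6 F319684)) (tt N20564 F84571))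
theorem Q33364 : ∀ i, i < 33364 → P i := stepQ 33363 Q33363 (allL N33363 (tt N46503 (iv1 F319300)) (tt N16738 (iv0 D53614)) (tt N46506 (iv2 F319685)) (tt N62438 D116329) (tt N62439 D116330) (tt N42715 (iv5 F319693)) (tt N62440 D116332) (tt N46505 (iv7 F319697)))
theorem Q33365 : ∀ i, i < 33365 → P i := stepQ 33364 Q33364 (allL N33364 (tt N16738 (iv1 D53615)) (tt N46503 (iv0 F319299)) (tt N46505 (iv2 F319696)) (tt N62441 D116334) (tt N62442 D116335) (tt N42716 (iv5 F319704)) (tt N62443 D116337) (tt N46506 (iv7 F319686)))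
theorem Q33366 : ∀ i, i < 33366 → P i := stepQ 33365 Q33365 (allL N33365 (tt N21849 F321631) (tt N21853 F321632) (tt N36228 F321582) (tt N16739 (iv3 D53625)) (tt N45596 F325779) (tt N25226 F317394) (tt N44376 (iv6 F111815)) (tt N20632 F84598))
theorem Q33367 : ∀ i, i < 33367 → P i := stepQ 33366 Q33366 (allL N33366 (tt N43213 (iv1 F318565)) (tt N16769 F320710) (tt N43335 (iv2 F318566)) (tt N16740 (iv3 D53636)) (tt N62026 (iv4 F179811)) (tt N17943 F316289) (tt N62444 D116375) (tt N20638 F84625))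
theorem Q33368 : ∀ i, i < 33368 → P i := stepQ 33367 Q33367 (allL N33367 (tt N20764 (iv1 F101312)) (tt N35767 (iv0 F93199)) (tt N20636 F84629) (tt N62444 (iv3 F181414)) (tt N16741 F84630) (tt N17945 (iv5 F318340)) (tt N16740 (iv6 D53638)) (tt N42957 (iv7 F316839)))
theorem Q33369 : ∀ i, i < 33369 → P i := stepQ 33368 Q33368 (allL N33368 (tt N19901 F166093) (tt N20160 F166094) (tt N20134 F161289) (tt N62445 D116378) (tt N16742 (iv4 D53642)) (tt N48708 (iv5 F328554)) (tt N44380 (iv6 F111834)) (tt N20132 (iv7 F161294)))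
theorem Q33370 : ∀ i, i < 33370 → P i := stepQ 33369 Q33369 (allL N33369 (tt N20715 F320711) (tt N20728 F320712) (tt N20726 F320571) (tt N16743 (iv3 D53643)) (tt N62445 (iv4 F181423)) (tt N25155 F316290) (tt N42958 (iv6 F318302)) (tt N20635 F84640))
theorem Q33371 : ∀ i, i < 33371 → P i := stepQ 33370 Q33370 (allL N33370 (tt N16766 F102849) (tt N48097 (iv0 F321145)) (tt N62341 (iv2 F180870)) (tt N16744 (iv3 D53646)) (tt N20602 F84645) (tt N42672 F320386) (tt N62446 D116388) (tt N20671 F102850))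
theorem Q33372 : ∀ i, i < 33372 → P i := stepQ 33371 Q33371 (allL N33371 (tt N36223 F94105) (tt N59195 (iv0 F172307)) (tt N20675 F102852) (tt N62447 D116389) (tt N16744 (iv4 D53647)) (tt N59179 F172272) (tt N62448 D116390) (tt N20672 F102853))
theorem Q33373 : ∀ i, i < 33373 → P i := stepQ 33372 Q33372 (allL N33372 (tt N20747 F172106) (tt N16776 F172107) (tt N20676 F102854) (tt N42672 (iv3 F318231)) (tt N32661 (iv4 F318234)) (tt N16744 (iv5 D53648)) (tt N46653 (iv6 F318236)) (tt N20673 F102855))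
theorem Q33374 : ∀ i, i < 33374 → P i := stepQ 33373 Q33373 (allL N33373 (tt N62449 D116393) (tt N20762 (iv0 F322211)) (tt N20677 F102856) (tt N62446 (iv3 F181490)) (tt N62448 (iv4 F181500)) (tt N24920 (iv5 F322073)) (tt N16744 (iv6 D53649)) (tt N24961 (iv7 F322075)))
theorem Q33375 : ∀ i, i < 33375 → P i := stepQ 33374 Q33374 (allL N33374 (tt N20697 F102938) (tt N20701 F102939) (tt N20696 F102860) (tt N16745 (iv3 D53651)) (tt N62450 D116397) (tt N62451 D116398) (tt N44402 (iv6 F322254)) (tt N20674 F102861))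
theorem Q33376 : ∀ i, i < 33376 → P i := stepQ 33375 Q33375 (allL N33375 (tt N59195 (iv1 F172308)) (tt N36223 F102867) (tt N20672 F102862) (tt N30296 (iv3 F84647)) (tt N16745 (iv4 D53652)) (tt N56999 (iv5 F172108)) (tt N44403 (iv6 F322255)) (tt N20675 F102863))
theorem Q33377 : ∀ i, i < 33377 → P i := stepQ 33376 Q33376 (allL N33376 (tt N16776 F172104) (tt N20747 F172105) (tt N20673 F102864) (tt N62451 (iv3 F181518)) (tt N62452 D116401) (tt N16745 (iv5 D53653)) (tt N62453 D116402) (tt N20676 F102865))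
theorem Q33378 : ∀ i, i < 33378 → P i := stepQ 33377 Q33377 (allL N33377 (tt N20685 (iv1 F84651)) (tt N20684 F84652) (tt N16747 F84648) (tt N20646 F84649) (tt N62454 D116407) (tt N16746 (iv5 D53655)) (tt N62455 D116408) (tt N20679 F84650))
theorem Q33379 : ∀ i, i < 33379 → P i := stepQ 33378 Q33378 (allL N33378 (tt N42034 (iv1 F320112)) (tt N42085 (iv0 F320109)) (tt N16748 F84653) (tt N20647 F84654) (tt N57073 (iv4 F165350)) (tt N62456 D116411) (tt N16746 (iv6 D53656)) (tt N42083 (iv7 F320116)))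
theorem Q33380 : ∀ i, i < 33380 → P i := stepQ 33379 Q33379 (allL N33379 (tt N62457 D116413) (tt N62458 D116414) (tt N62454 (iv2 F181535)) (tt N16863 F84657) (tt N16747 (iv4 D53659)) (tt N52053 (iv5 F306969)) (tt N62459 D116416) (tt N20686 F84658))
theorem Q33381 : ∀ i, i < 33381 → P i := stepQ 33380 Q33380 (allL N33380 (tt N62460 D116417) (tt N46644 (iv0 F318655)) (tt N62455 (iv2 F181571)) (tt N16749 F84659) (tt N62459 (iv4 F181615)) (tt N21268 (iv5 F318128)) (tt N16747 (iv6 D53660)) (tt N62461 D116420))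
theorem Q33382 : ∀ i, i < 33382 → P i := stepQ 33381 Q33381 (allL N33381 (tt N16748 (iv1 D53662)) (tt N42083 (iv0 F320113)) (tt N42085 (iv2 F321221)) (tt N62462 D116427) (tt N62463 D116428) (tt N42035 (iv5 F321222)) (tt N62464 D116430) (tt N42034 (iv7 F321220)))
theorem Q33383 : ∀ i, i < 33383 → P i := stepQ 33382 Q33382 (allL N33382 (tt N62465 D116431) (tt N62466 D116432) (tt N62456 (iv2 F181574)) (tt N16750 F84660) (tt N41846 (iv4 F322861)) (tt N16748 (iv5 D53663)) (tt N21268 (iv6 F318129)) (tt N62467 D116434))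
theorem Q33384 : ∀ i, i < 33384 → P i := stepQ 33383 Q33383 (allL N33383 (tt N42085 (iv1 F320110)) (tt N42034 (iv0 F320111)) (tt N42083 (iv2 F320114)) (tt N16751 F84661) (tt N57077 (iv4 F165353)) (tt N62467 (iv5 F181623)) (tt N20690 F84662) (tt N16748 (iv7 D53664)))
theorem Q33385 : ∀ i, i < 33385 → P i := stepQ 33384 Q33384 (allL N33384 (tt N20666 (iv1 F84669)) (tt N16749 (iv0 D53665)) (tt N20664 F110655) (tt N62468 D116435) (tt N16907 F110656) (tt N33810 F316372) (tt N20669 F316373) (tt N20665 F110657))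
theorem Q33386 : ∀ i, i < 33386 → P i := stepQ 33385 Q33385 (allL N33385 (tt N16749 (iv1 D53666)) (tt N20666 F84663) (tt N20665 F110651) (tt N62469 D116438) (tt N16908 F110652) (tt N41939 F314055) (tt N22508 F110653) (tt N20664 F110654))
theorem Q33387 : ∀ i, i < 33387 → P i := stepQ 33386 Q33386 (allL N33386 (tt N20665 (iv1 F84670)) (tt N20664 F84671) (tt N20666 F84666) (tt N62461 (iv3 F181618)) (tt N16870 F84667) (tt N16908 (iv5 F317449)) (tt N17277 F315701) (tt N16749 (iv7 D53668)))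
theorem Q33388 : ∀ i, i < 33388 → P i := stepQ 33387 Q33387 (allL N33387 (tt N20670 F84675) (tt N16750 (iv0 D53669)) (tt N20667 (iv2 F84673)) (tt N62470 D116444) (tt N36208 F320302) (tt N19431 F84672) (tt N21209 F311146) (tt N20668 (iv7 F84674)))
theorem Q33389 : ∀ i, i < 33389 → P i := stepQ 33388 Q33388 (allL N33388 (tt N16750 (iv1 D53670)) (tt N20670 F84676) (tt N20668 F84679) (tt N62471 D116446) (tt N36218 F317720) (tt N33292 (iv5 F84678)) (tt N42654 (iv6 F315500)) (tt N20667 F84677))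
theorem Q33390 : ∀ i, i < 33390 → P i := stepQ 33389 Q33389 (allL N33389 (tt N40644 (iv1 F102343)) (tt N40646 (iv0 F102347)) (tt N20669 F84680) (tt N20653 F320138) (tt N16750 (iv4 D53671)) (tt N33544 F320139) (tt N20664 F315924) (tt N41278 (iv7 F320892)))
theorem Q33391 : ∀ i, i < 33391 → P i := stepQ 33390 Q33390 (allL N33390 (tt N20668 (iv1 F84683)) (tt N20667 F84684) (tt N20670 F84681) (tt N62467 (iv3 F181622)) (tt N41278 F321563) (tt N16751 F84682) (tt N17302 (iv6 F316218)) (tt N16750 (iv7 D53672)))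
theorem Q33392 : ∀ i, i < 33392 → P i := stepQ 33391 Q33391 (allL N33391 (tt N20692 F102935) (tt N20717 (iv0 F102870)) (tt N20716 F102965) (tt N16752 (iv3 D53674)) (tt N20529 F84686) (tt N45266 (iv5 F318916)) (tt N35443 (iv6 F320415)) (tt N20639 F102966))
theorem Q33393 : ∀ i, i < 33393 → P i := stepQ 33392 Q33392 (allL N33392 (tt N62472 D116454) (tt N62473 D116455) (tt N20643 F102967) (tt N62474 D116456) (tt N16752 (iv4 D53675)) (tt N62475 D116457) (tt N44411 (iv6 F321144)) (tt N20640 F102968))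
theorem Q33394 : ∀ i, i < 33394 → P i := stepQ 33393 Q33393 (allL N33393 (tt N20745 F181665) (tt N16777 F181666) (tt N20644 F102969) (tt N45266 (iv3 F318914)) (tt N62476 D116459) (tt N16752 (iv5 D53676)) (tt N62477 D116460) (tt N20641 F102970))
theorem Q33395 : ∀ i, i < 33395 → P i := stepQ 33394 Q33394 (allL N33394 (tt N62473 (iv1 F181713)) (tt N62472 F181710) (tt N20640 F102957) (tt N62478 D116469) (tt N16753 (iv4 D53680)) (tt N62479 D116470) (tt N62480 D116471) (tt N20643 F102958))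
theorem Q33396 : ∀ i, i < 33396 → P i := stepQ 33395 Q33395 (allL N33395 (tt N16777 F181667) (tt N20745 F181668) (tt N20641 F102959) (tt N20751 (iv3 F319505)) (tt N62481 D116472) (tt N16753 (iv5 D53681)) (tt N62482 D116473) (tt N20644 F102960))
theorem Q33397 : ∀ i, i < 33397 → P i := stepQ 33396 Q33396 (allL N33396 (tt N20759 (iv1 F325041)) (tt N62483 D116475) (tt N20642 F102961) (tt N35454 (iv3 F320423)) (tt N62480 (iv4 F181755)) (tt N43991 (iv5 F320424)) (tt N16753 (iv6 D53682)) (tt N35450 (iv7 F320420)))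
theorem Q33398 : ∀ i, i < 33398 → P i := stepQ 33397 Q33397 (allL N33397 (tt N20649 F84690) (tt N20648 F84691) (tt N16755 F84688) (tt N55205 (iv3 F356916)) (tt N16754 (iv4 D53683)) (tt N62484 D116478) (tt N55198 (iv6 F337686)) (tt N20645 F84689))
theorem Q33399 : ∀ i, i < 33399 → P i := stepQ 33398 Q33398 (allL N33398 (tt N20653 (iv1 F84695)) (tt N20652 F84696) (tt N16756 F84692) (tt N20679 F84693) (tt N62485 D116480) (tt N16754 (iv5 D53684)) (tt N25090 F318753) (tt N20646 F84694))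
theorem Q33400 : ∀ i, i < 33400 → P i := stepQ 33399 Q33399 (allL N33399 (tt N25116 (iv1 F321237)) (tt N43398 (iv0 F321236)) (tt N16757 F84697) (tt N20680 F84698) (tt N55198 (iv4 F337685)) (tt N34044 (iv5 F320622)) (tt N16754 (iv6 D53685)) (tt N34145 (iv7 F321232)))
theorem Q33401 : ∀ i, i < 33401 → P i := stepQ 33400 Q33400 (allL N33400 (tt N20645 (iv1 F84699)) (tt N16755 (iv0 D53686)) (tt N20649 (iv2 F102516)) (tt N62486 D116486) (tt N40726 F102515) (tt N62487 D116487) (tt N44413 (iv6 F324394)) (tt N20648 (iv7 F102518)))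
theorem Q33402 : ∀ i, i < 33402 → P i := stepQ 33401 Q33401 (allL N33401 (tt N16755 (iv1 D53687)) (tt N20645 F84700) (tt N20648 F102519) (tt N61256 (iv3 F339992)) (tt N33313 (iv4 F84701)) (tt N61255 (iv5 F355188)) (tt N62488 D116491) (tt N20649 F102517))
theorem Q33403 : ∀ i, i < 33403 → P i := stepQ 33402 Q33402 (allL N33402 (tt N41148 (iv1 F181567)) (tt N41151 (iv0 F181565)) (tt N62484 (iv2 F181766)) (tt N18355 F84702) (tt N58916 (iv4 F319086)) (tt N16755 (iv5 D53688)) (tt N58915 (iv6 F355229)) (tt N20650 F84703))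
theorem Q33404 : ∀ i, i < 33404 → P i := stepQ 33403 Q33403 (allL N33403 (tt N62489 D116494) (tt N62490 D116495) (tt N55198 (iv2 F337684)) (tt N18356 F84704) (tt N16757 F84705) (tt N55197 (iv5 F346742)) (tt N16755 (iv6 D53689)) (tt N43399 (iv7 F321235)))
theorem Q33405 : ∀ i, i < 33405 → P i := stepQ 33404 Q33404 (allL N33404 (tt N62491 D116498) (tt N62492 D116499) (tt N62485 (iv2 F181772)) (tt N16851 F84708) (tt N16756 (iv4 D53692)) (tt N44602 (iv5 F112674)) (tt N62493 D116500) (tt N20654 F84709))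
theorem Q33406 : ∀ i, i < 33406 → P i := stepQ 33405 Q33405 (allL N33405 (tt N17227 (iv1 F317982)) (tt N25092 (iv0 F317983)) (tt N25090 (iv2 F317984)) (tt N16758 F84710) (tt N62493 (iv4 F181820)) (tt N34046 (iv5 F317987)) (tt N16756 (iv6 D53693)) (tt N22452 (iv7 F315904)))
theorem Q33407 : ∀ i, i < 33407 → P i := stepQ 33406 Q33406 (allL N33406 (tt N34145 (iv1 F321230)) (tt N16757 (iv0 D53694)) (tt N25116 (iv2 F322183)) (tt N62494 D116506) (tt N59857 (iv4 F339841)) (tt N25098 (iv5 F322190)) (tt N59866 (iv6 F339848)) (tt N43398 (iv7 F322195)))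
theorem Q33408 : ∀ i, i < 33408 → P i := stepQ 33407 Q33407 (allL N33407 (tt N16757 (iv1 D53695)) (tt N34145 (iv0 F321229)) (tt N43398 (iv2 F322194)) (tt N42339 (iv3 F322196)) (tt N62495 D116512) (tt N25117 (iv5 F322200)) (tt N42337 (iv6 F322201)) (tt N25116 (iv7 F322184)))
theorem Q33409 : ∀ i, i < 33409 → P i := stepQ 33408 Q33408 (allL N33408 (tt N44435 (iv1 F112092)) (tt N44434 F112091) (tt N16775 F84736) (tt N20691 F84737) (tt N62071 (iv4 F179943)) (tt N43993 F317232) (tt N16759 (iv6 D53706)) (tt N44416 (iv7 F112044)))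
theorem Q33410 : ∀ i, i < 33410 → P i := stepQ 33409 Q33409 (allL N33409 (tt N62341 F181461) (tt N20671 F181462) (tt N48097 (iv2 F321147)) (tt N16760 (iv3 D53709)) (tt N40727 F181463) (tt N62496 D116542) (tt N43884 (iv6 F320600)) (tt N16766 F84740))
theorem Q33411 : ∀ i, i < 33411 → P i := stepQ 33410 Q33410 (allL N33410 (tt N62003 F181464) (tt N40604 F181465) (tt N16762 F84741) (tt N61963 F181466) (tt N16760 (iv4 D53710)) (tt N62497 D116544) (tt N61971 (iv6 F327619)) (tt N16767 F84742))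
theorem Q33412 : ∀ i, i < 33412 → P i := stepQ 33411 Q33411 (allL N33411 (tt N20660 F181961) (tt N40177 F181962) (tt N16763 F84743) (tt N62496 (iv3 F181883)) (tt N62498 D116548) (tt N16760 (iv5 D53711)) (tt N62499 D116549) (tt N16768 F84744))
theorem Q33413 : ∀ i, i < 33413 → P i := stepQ 33412 Q33412 (allL N33412 (tt N20585 (iv1 F320929)) (tt N62396 (iv0 F320930)) (tt N16764 F84745) (tt N43884 (iv3 F320599)) (tt N61971 (iv4 F327618)) (tt N62500 D116552) (tt N16760 (iv6 D53712)) (tt N43346 (iv7 F320603)))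
theorem Q33414 : ∀ i, i < 33414 → P i := stepQ 33413 Q33413 (allL N33413 (tt N18334 F84746) (tt N18332 (iv0 F84747)) (tt N18330 F181451) (tt N35775 F325379) (tt N16761 (iv4 D53716)) (tt N19242 (iv5 F321867)) (tt N31961 F325380) (tt N18331 F181452))
theorem Q33415 : ∀ i, i < 33415 → P i := stepQ 33414 Q33414 (allL N33414 (tt N41278 (iv1 F204419)) (tt N20669 (iv0 F321858)) (tt N40644 (iv2 F321149)) (tt N16763 F84749) (tt N33328 (iv4 F321607)) (tt N16761 (iv5 D53717)) (tt N40185 (iv6 F321860)) (tt N40646 F320141))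
theorem Q33416 : ∀ i, i < 33416 → P i := stepQ 33415 Q33415 (allL N33415 (tt N16767 (iv1 F84757)) (tt N16762 (iv0 D53720)) (tt N62003 F179796) (tt N61989 (iv3 F330539)) (tt N33357 F84752) (tt N62501 D116572) (tt N62502 D116573) (tt N40604 F102804))
theorem Q33417 : ∀ i, i < 33417 → P i := stepQ 33416 Q33416 (allL N33416 (tt N16762 (iv1 D53721)) (tt N16767 F84753) (tt N40604 (iv2 F102802)) (tt N56988 (iv3 F165172)) (tt N40603 F102801) (tt N62503 D116574) (tt N44419 F323215) (tt N62003 (iv7 F179795)))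
theorem Q33418 : ∀ i, i < 33418 → P i := stepQ 33417 Q33417 (allL N33417 (tt N61984 (iv1 F362575)) (tt N62504 D116582) (tt N62497 (iv2 F181886)) (tt N61982 (iv3 F326821)) (tt N62505 D116583) (tt N16762 (iv5 D53723)) (tt N61959 (iv6 F330556)) (tt N62506 D116585))
theorem Q33419 : ∀ i, i < 33419 → P i := stepQ 33418 Q33418 (allL N33418 (tt N40604 F181457) (tt N62003 F181458) (tt N16767 F84755) (tt N61983 (iv3 F326824)) (tt N16765 F84756) (tt N62506 (iv5 F181939)) (tt N43336 (iv6 F322129)) (tt N16762 (iv7 D53725)))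
theorem Q33420 : ∀ i, i < 33420 → P i := stepQ 33419 Q33419 (allL N33419 (tt N16768 (iv1 F84761)) (tt N16763 (iv0 D53726)) (tt N20660 F175001) (tt N20708 F175002) (tt N62507 D116591) (tt N33240 F175003) (tt N62508 D116592) (tt N40177 F175004))
theorem Q33421 : ∀ i, i < 33421 → P i := stepQ 33420 Q33420 (allL N33420 (tt N62509 D116593) (tt N62510 D116594) (tt N62498 (iv2 F181892)) (tt N48157 F322656) (tt N16763 (iv4 D53728)) (tt N48347 F322657) (tt N48160 F322658) (tt N62511 D116596))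
theorem Q33422 : ∀ i, i < 33422 → P i := stepQ 33421 Q33421 (allL N33421 (tt N41274 F323540) (tt N62469 F323541) (tt N62499 (iv2 F181894)) (tt N40185 (iv3 F321859)) (tt N48160 (iv4 F320894)) (tt N21261 F320140) (tt N16763 (iv6 D53729)) (tt N62512 D116600))
theorem Q33423 : ∀ i, i < 33423 → P i := stepQ 33422 Q33422 (allL N33422 (tt N40177 (iv1 F181959)) (tt N20660 (iv0 F181960)) (tt N16768 F84759) (tt N40646 F320461) (tt N62511 (iv4 F181957)) (tt N16765 F84760) (tt N43338 (iv6 F318627)) (tt N16763 (iv7 D53730)))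
theorem Q33424 : ∀ i, i < 33424 → P i := stepQ 33423 Q33423 (allL N33423 (tt N43346 (iv1 F320601)) (tt N16764 (iv0 D53731)) (tt N20585 (iv2 F321238)) (tt N20712 (iv3 F322263)) (tt N62087 (iv4 F336238)) (tt N33754 (iv5 F320932)) (tt N33751 (iv6 F320933)) (tt N62396 (iv7 F321240)))
theorem Q33425 : ∀ i, i < 33425 → P i := stepQ 33424 Q33424 (allL N33424 (tt N48007 F316806) (tt N62471 (iv0 F181650)) (tt N62500 (iv2 F181896)) (tt N44100 (iv3 F319162)) (tt N62513 D116613) (tt N16764 (iv5 D53733)) (tt N21261 (iv6 F319164)) (tt N62514 D116614))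
theorem Q33426 : ∀ i, i < 33426 → P i := stepQ 33425 Q33425 (allL N33425 (tt N62396 (iv1 F320931)) (tt N20585 (iv0 F320928)) (tt N43346 (iv2 F320602)) (tt N34378 (iv3 F320925)) (tt N61776 (iv4 F327621)) (tt N62514 (iv5 F181970)) (tt N43213 (iv6 F320927)) (tt N16764 (iv7 D53734)))
theorem Q33427 : ∀ i, i < 33427 → P i := stepQ 33426 Q33426 (allL N33426 (tt N48097 (iv1 F321146)) (tt N16766 (iv0 D53736)) (tt N20671 F102844) (tt N20696 F84764) (tt N20601 F84763) (tt N42673 F320462) (tt N35373 (iv6 F322131)) (tt N62341 (iv7 F180871)))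
theorem Q33428 : ∀ i, i < 33428 → P i := stepQ 33427 Q33427 (allL N33427 (tt N20671 F181475) (tt N62341 F181476) (tt N16766 (iv2 D53738)) (tt N35447 (iv3 F320644)) (tt N40728 (iv4 F181474)) (tt N62515 D116621) (tt N62516 D116622) (tt N48097 (iv7 F321148)))
theorem Q33429 : ∀ i, i < 33429 → P i := stepQ 33428 Q33428 (allL N33428 (tt N33317 (iv1 F102534)) (tt N33314 (iv0 F84765)) (tt N40728 F181472) (tt N62517 D116623) (tt N16766 (iv4 D53739)) (tt N62518 D116624) (tt N62519 D116625) (tt N40727 (iv7 F181471)))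
theorem Q33430 : ∀ i, i < 33430 → P i := stepQ 33429 Q33429 (allL N33429 (tt N62520 D116626) (tt N41526 (iv0 F181995)) (tt N62515 (iv2 F181989)) (tt N16768 F84766) (tt N62521 D116627) (tt N16766 (iv5 D53740)) (tt N62522 D116628) (tt N62496 (iv7 F181884)))
theorem Q33431 : ∀ i, i < 33431 → P i := stepQ 33430 Q33430 (allL N33430 (tt N62523 D116629) (tt N62524 D116630) (tt N62516 (iv2 F181991)) (tt N16769 F84767) (tt N62519 (iv4 F181996)) (tt N22249 (iv5 F322147)) (tt N16766 (iv6 D53741)) (tt N43340 (iv7 F322148)))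
theorem Q33432 : ∀ i, i < 33432 → P i := stepQ 33431 Q33431 (allL N33431 (tt N61965 (iv1 F179758)) (tt N56985 (iv0 F165166)) (tt N61964 (iv2 F223430)) (tt N16767 (iv3 D53742)) (tt N62517 (iv4 F181992)) (tt N54676 (iv5 F360847)) (tt N62525 D116635) (tt N61963 (iv7 F181469)))
theorem Q33433 : ∀ i, i < 33433 → P i := stepQ 33432 Q33432 (allL N33432 (tt N62504 (iv1 F181935)) (tt N61984 (iv0 F362574)) (tt N62506 (iv2 F181938)) (tt N54676 (iv3 F360846)) (tt N54705 (iv4 F344566)) (tt N16767 (iv5 D53743)) (tt N54674 (iv6 F360848)) (tt N62497 (iv7 F181887)))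
theorem Q33434 : ∀ i, i < 33434 → P i := stepQ 33433 Q33433 (allL N33433 (tt N62526 D116638) (tt N62527 D116639) (tt N43336 (iv2 F322128)) (tt N62525 (iv3 F182006)) (tt N16769 F84768) (tt N62528 D116640) (tt N16767 (iv6 D53744)) (tt N43345 (iv7 F322177)))
theorem Q33435 : ∀ i, i < 33435 → P i := stepQ 33434 Q33434 (allL N33434 (tt N62510 (iv1 F181953)) (tt N62509 F181952) (tt N62511 (iv2 F181955)) (tt N62529 D116642) (tt N16768 (iv4 D53745)) (tt N48385 (iv5 F345362)) (tt N62530 D116644) (tt N62498 (iv7 F181893)))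
theorem Q33436 : ∀ i, i < 33436 → P i := stepQ 33435 Q33435 (allL N33435 (tt N17272 (iv1 F322149)) (tt N62531 D116646) (tt N43338 F320463) (tt N62522 (iv3 F182002)) (tt N62530 (iv4 F182012)) (tt N43211 (iv5 F322162)) (tt N16768 (iv6 D53746)) (tt N62532 D116648))
theorem Q33437 : ∀ i, i < 33437 → P i := stepQ 33436 Q33436 (allL N33436 (tt N16769 (iv1 D53748)) (tt N43213 (iv0 F320926)) (tt N20638 (iv2 F322301)) (tt N20726 (iv3 F322298)) (tt N62098 (iv4 F348346)) (tt N62533 D116657) (tt N43362 (iv6 F322175)) (tt N43335 (iv7 F322176)))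
theorem Q33438 : ∀ i, i < 33438 → P i := stepQ 33437 Q33437 (allL N33437 (tt N21366 (iv1 F84774)) (tt N21365 F84775) (tt N16773 F84772) (tt N62534 D116663) (tt N16770 (iv4 D53761)) (tt N57491 F166908) (tt N62535 D116664) (tt N21367 F84773))
theorem Q33439 : ∀ i, i < 33439 → P i := stepQ 33438 Q33438 (allL N33438 (tt N34184 (iv1 F313433)) (tt N34186 (iv0 F313430)) (tt N16774 F84776) (tt N20730 F84777) (tt N62535 (iv4 F182023)) (tt N44426 (iv5 F112085)) (tt N16770 (iv6 D53762)) (tt N43934 (iv7 F313436)))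
theorem Q33440 : ∀ i, i < 33440 → P i := stepQ 33439 Q33439 (allL N33439 (tt N62536 D116670) (tt N48386 F330660) (tt N21427 F173375) (tt N48359 F320118) (tt N16771 (iv4 D53765)) (tt N58884 (iv5 F171347)) (tt N33836 (iv6 F320148)) (tt N21425 F173376))
theorem Q33441 : ∀ i, i < 33441 → P i := stepQ 33440 Q33440 (allL N33440 (tt N42673 (iv1 F318357)) (tt N42672 (iv0 F318230)) (tt N20749 F318749) (tt N16772 (iv3 D53769)) (tt N62537 D116678) (tt N62215 (iv5 F180189)) (tt N20747 (iv6 F319498)) (tt N21426 F173385))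
theorem Q33442 : ∀ i, i < 33442 → P i := stepQ 33441 Q33441 (allL N33441 (tt N48386 F330661) (tt N62536 F182040) (tt N21425 F173386) (tt N62538 D116680) (tt N16772 (iv4 D53770)) (tt N62539 D116681) (tt N62540 D116682) (tt N21427 F173387))
theorem Q33443 : ∀ i, i < 33443 → P i := stepQ 33442 Q33442 (allL N33442 (tt N20644 (iv1 F320149)) (tt N20641 (iv0 F320150)) (tt N16777 (iv2 F318242)) (tt N20747 (iv3 F319497)) (tt N62540 (iv4 F182071)) (tt N16835 (iv5 F319499)) (tt N16772 (iv6 D53772)) (tt N20745 (iv7 F320156)))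
theorem Q33444 : ∀ i, i < 33444 → P i := stepQ 33443 Q33443 (allL N33443 (tt N21367 (iv1 F84780)) (tt N16773 (iv0 D53773)) (tt N21366 (iv2 F84785)) (tt N62541 D116687) (tt N62542 D116688) (tt N59982 (iv5 F175075)) (tt N62543 D116689) (tt N21365 (iv7 F84787)))
theorem Q33445 : ∀ i, i < 33445 → P i := stepQ 33444 Q33444 (allL N33444 (tt N16773 (iv1 D53774)) (tt N21367 F84781) (tt N21365 F84786) (tt N31326 (iv3 F84782)) (tt N36358 (iv4 F94439)) (tt N31325 F84783) (tt N62544 D116690) (tt N21366 F84784))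
theorem Q33446 : ∀ i, i < 33446 → P i := stepQ 33445 Q33445 (allL N33445 (tt N57492 (iv1 F166913)) (tt N31986 (iv0 F84790)) (tt N57491 F166907) (tt N21374 F84788) (tt N47657 (iv4 F334015)) (tt N16773 (iv5 D53775)) (tt N45485 F334011) (tt N21368 F84789))
theorem Q33447 : ∀ i, i < 33447 → P i := stepQ 33446 Q33446 (allL N33446 (tt N62545 D116693) (tt N62546 D116694) (tt N62535 (iv2 F182022)) (tt N21379 F84791) (tt N16774 F84792) (tt N62547 D116695) (tt N16773 (iv6 D53776)) (tt N62548 D116696))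
theorem Q33448 : ∀ i, i < 33448 → P i := stepQ 33447 Q33447 (allL N33447 (tt N34186 (iv1 F313431)) (tt N34184 (iv0 F313432)) (tt N43934 (iv2 F313434)) (tt N16781 F84793) (tt N62548 (iv4 F182094)) (tt N34446 (iv5 F313438)) (tt N21432 F84794) (tt N16774 (iv7 D53779)))
theorem Q33449 : ∀ i, i < 33449 → P i := stepQ 33448 Q33448 (allL N33448 (tt N44416 (iv1 F112046)) (tt N16775 (iv0 D53780)) (tt N44435 (iv2 F318416)) (tt N35453 (iv3 F318409)) (tt N62549 D116709) (tt N44543 (iv5 F318410)) (tt N44084 (iv6 F318411)) (tt N44434 (iv7 F318415)))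
theorem Q33450 : ∀ i, i < 33450 → P i := stepQ 33449 Q33449 (allL N33449 (tt N16775 (iv1 D53781)) (tt N44416 F112045) (tt N44434 (iv2 F318414)) (tt N62550 D116713) (tt N61934 (iv4 F351563)) (tt N62551 D116715) (tt N61943 (iv6 F351430)) (tt N44435 (iv7 F318417)))
theorem Q33451 : ∀ i, i < 33451 → P i := stepQ 33450 Q33450 (allL N33450 (tt N43997 (iv1 F314272)) (tt N43995 (iv0 F315021)) (tt N43993 (iv2 F315022)) (tt N16784 F84795) (tt N62552 D116719) (tt N16775 (iv5 D53782)) (tt N21431 F84796) (tt N43994 F312570))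
theorem Q33452 : ∀ i, i < 33452 → P i := stepQ 33451 Q33451 (allL N33451 (tt N20676 F166931) (tt N20673 F166932) (tt N16776 (iv2 D53785)) (tt N20745 F84798) (tt N56288 (iv4 F318198)) (tt N16797 F84799) (tt N21321 F316013) (tt N20747 F84800))
theorem Q33453 : ∀ i, i < 33453 → P i := stepQ 33452 Q33452 (allL N33452 (tt N62553 D116744) (tt N62554 D116745) (tt N62540 F320387) (tt N16810 F84823) (tt N16777 (iv4 D53795)) (tt N21138 (iv5 F84825)) (tt N21425 F320388) (tt N20746 F84824))
theorem Q33454 : ∀ i, i < 33454 → P i := stepQ 33453 Q33453 (allL N33453 (tt N20881 F320094) (tt N40840 F319228) (tt N20752 F84828) (tt N20362 F320095) (tt N40242 (iv4 F320396)) (tt N16778 (iv5 D53799)) (tt N16837 F84829) (tt N22535 F316023))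
theorem Q33455 : ∀ i, i < 33455 → P i := stepQ 33454 Q33454 (allL N33454 (tt N62555 D116769) (tt N62453 (iv0 F346256)) (tt N43639 (iv2 F311049)) (tt N16779 (iv3 D53802)) (tt N62556 D116772) (tt N43630 F308898) (tt N62557 D116774) (tt N20756 (iv7 F182245)))
theorem Q33456 : ∀ i, i < 33456 → P i := stepQ 33455 Q33455 (allL N33455 (tt N42678 (iv1 F311052)) (tt N43937 (iv0 F311055)) (tt N20755 (iv2 F182242)) (tt N62557 (iv3 F182219)) (tt N37623 F114318) (tt N44538 F308900) (tt N16779 (iv6 D53805)) (tt N62558 D116783))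
theorem Q33457 : ∀ i, i < 33457 → P i := stepQ 33456 Q33456 (allL N33456 (tt N62477 (iv1 F349364)) (tt N43936 (iv0 F313411)) (tt N34288 (iv2 F313415)) (tt N16780 (iv3 D53807)) (tt N34284 F325889) (tt N34274 F311120) (tt N62559 D116789) (tt N20753 F182247))
theorem Q33458 : ∀ i, i < 33458 → P i := stepQ 33457 Q33457 (allL N33457 (tt N21272 (iv1 F312722)) (tt N16909 (iv0 F313440)) (tt N20758 F182250) (tt N62559 (iv3 F182327)) (tt N41709 (iv4 F317440)) (tt N62560 D116793) (tt N16780 (iv6 D53810)) (tt N21270 (iv7 F311581)))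
theorem Q33459 : ∀ i, i < 33459 → P i := stepQ 33458 Q33458 (allL N33458 (tt N24961 F320482) (tt N20677 F320483) (tt N62449 (iv2 F322212)) (tt N16782 (iv3 D53812)) (tt N57152 (iv4 F165441)) (tt N24162 (iv5 F318313)) (tt N62561 D116799) (tt N20762 F101323))
theorem Q33460 : ∀ i, i < 33460 → P i := stepQ 33459 Q33459 (allL N33459 (tt N20588 (iv1 F96726)) (tt N22802 F311300) (tt N20761 (iv2 F101304)) (tt N62561 (iv3 F182360)) (tt N18382 F94147) (tt N40212 F101360) (tt N16782 (iv6 D53815)) (tt N37085 (iv7 F95503)))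
theorem Q33461 : ∀ i, i < 33461 → P i := stepQ 33460 Q33460 (allL N33460 (tt N20642 F325036) (tt N35450 F325037) (tt N62483 (iv2 F322208)) (tt N16783 (iv3 D53817)) (tt N62562 D116806) (tt N43165 (iv5 F318304)) (tt N62563 D116808) (tt N20759 (iv7 F101326)))
theorem Q33462 : ∀ i, i < 33462 → P i := stepQ 33461 Q33461 (allL N33461 (tt N42957 (iv1 F316836)) (tt N20636 F94152) (tt N20764 (iv2 F101313)) (tt N62563 (iv3 F182378)) (tt N18193 F94154) (tt N40495 (iv5 F101776)) (tt N16783 (iv6 D53820)) (tt N35767 F94155))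
theorem Q33463 : ∀ i, i < 33463 → P i := stepQ 33462 Q33462 (allL N33462 (tt N20298 (iv1 F84840)) (tt N16784 (iv0 D53821)) (tt N20765 F101329) (tt N24951 (iv3 F314870)) (tt N38099 (iv4 F314873)) (tt N22162 (iv5 F313729)) (tt N42231 (iv6 F314874)) (tt N20766 (iv7 F101299)))
theorem Q33464 : ∀ i, i < 33464 → P i := stepQ 33463 Q33463 (allL N33463 (tt N16784 (iv1 D53822)) (tt N20298 F84841) (tt N20766 (iv2 F101298)) (tt N62564 D116814) (tt N38102 (iv4 F312429)) (tt N22163 (iv5 F312430)) (tt N37373 (iv6 F312431)) (tt N20765 F101330))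
theorem Q33465 : ∀ i, i < 33465 → P i := stepQ 33464 Q33464 (allL N33464 (tt N38916 (iv1 F315019)) (tt N38919 (iv0 F315015)) (tt N20767 F84842) (tt N47041 (iv3 F317088)) (tt N16784 (iv4 D53823)) (tt N40043 (iv5 F101066)) (tt N21438 F84843) (tt N41057 (iv7 F103245)))
theorem Q33466 : ∀ i, i < 33466 → P i := stepQ 33465 Q33465 (allL N33465 (tt N44351 F168105) (tt N20600 F168106) (tt N56795 (iv2 F164802)) (tt N62565 D116820) (tt N16785 (iv4 D53827)) (tt N62566 D116821) (tt N62567 D116822) (tt N20775 F84850))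
theorem Q33467 : ∀ i, i < 33467 → P i := stepQ 33466 Q33466 (allL N33466 (tt N57740 F167674) (tt N33237 F163964) (tt N56796 (iv2 F164806)) (tt N16787 F84851) (tt N62568 D116823) (tt N16785 (iv5 D53828)) (tt N37435 (iv6 F95967)) (tt N20776 F84852))
theorem Q33468 : ∀ i, i < 33468 → P i := stepQ 33467 Q33467 (allL N33467 (tt N56754 (iv1 F164747)) (tt N57820 (iv0 F167855)) (tt N56797 (iv2 F164812)) (tt N16788 F84853) (tt N62567 (iv4 F182408)) (tt N19708 F163951) (tt N16785 (iv6 D53829)) (tt N38586 (iv7 F98439)))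
theorem Q33469 : ∀ i, i < 33469 → P i := stepQ 33468 Q33468 (allL N33468 (tt N44368 (iv1 F327173)) (tt N20622 (iv0 F327174)) (tt N44530 (iv2 F316245)) (tt N16786 (iv3 D53832)) (tt N62565 (iv4 F182405)) (tt N38386 (iv5 F316246)) (tt N44906 F313526) (tt N20778 F84857))
theorem Q33470 : ∀ i, i < 33470 → P i := stepQ 33469 Q33469 (allL N33469 (tt N20579 F95838) (tt N20996 (iv0 F311452)) (tt N20772 F84860) (tt N44906 (iv3 F312230)) (tt N16788 F84861) (tt N40248 F101408) (tt N16786 (iv6 D53834)) (tt N38587 (iv7 F98441)))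
theorem Q33471 : ∀ i, i < 33471 → P i := stepQ 33470 Q33470 (allL N33470 (tt N21878 (iv1 F316502)) (tt N17060 (iv0 F317299)) (tt N20774 F84862) (tt N62569 D116832) (tt N16787 (iv4 D53835)) (tt N40592 (iv5 F102225)) (tt N33505 F315950) (tt N20780 F84863))
theorem Q33472 : ∀ i, i < 33472 → P i := stepQ 33471 Q33471 (allL N33471 (tt N20527 F111889) (tt N44385 F111890) (tt N59051 (iv2 F171829)) (tt N62570 D116833) (tt N16789 (iv4 D53839)) (tt N62571 D116834) (tt N34980 F332941) (tt N20768 F84870))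
theorem Q33473 : ∀ i, i < 33473 → P i := stepQ 33472 Q33472 (allL N33472 (tt N40066 F168219) (tt N39878 F168220) (tt N40081 F168221) (tt N16791 F84871) (tt N62572 D116835) (tt N16789 (iv5 D53840)) (tt N30902 (iv6 F168231)) (tt N20769 F84873))
theorem Q33474 : ∀ i, i < 33474 → P i := stepQ 33473 Q33473 (allL N33473 (tt N20557 F321519) (tt N44399 (iv0 F318059)) (tt N62432 (iv2 F326016)) (tt N16790 (iv3 D53841)) (tt N62570 (iv4 F182429)) (tt N38384 (iv5 F316243)) (tt N59889 (iv6 F174507)) (tt N20771 F84874))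
theorem Q33475 : ∀ i, i < 33475 → P i := stepQ 33474 Q33474 (allL N33474 (tt N17060 (iv1 F317300)) (tt N21878 (iv0 F316501)) (tt N20780 F84877) (tt N62573 D116842) (tt N16791 (iv4 D53843)) (tt N40593 (iv5 F102231)) (tt N20854 F84878) (tt N20774 F84879))
theorem Q33476 : ∀ i, i < 33476 → P i := stepQ 33475 Q33475 (allL N33475 (tt N38167 F97577) (tt N62574 D116844) (tt N39372 (iv2 F100049)) (tt N40243 (iv3 F101396)) (tt N16794 F84883) (tt N62575 D116845) (tt N16793 (iv6 D53845)) (tt N44484 (iv7 F112250)))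
theorem Q33477 : ∀ i, i < 33477 → P i := stepQ 33476 Q33476 (allL N33476 (tt N62215 F180282) (tt N42674 (iv0 F322067)) (tt N62193 (iv2 F182509)) (tt N16795 (iv3 D53847)) (tt N20459 F84885) (tt N40870 F180723) (tt N62576 D116853) (tt N21041 (iv7 F182503)))
theorem Q33478 : ∀ i, i < 33478 → P i := stepQ 33477 Q33477 (allL N33477 (tt N62577 D116855) (tt N59182 (iv0 F172279)) (tt N21046 F182496) (tt N62578 D116856) (tt N16795 (iv4 D53848)) (tt N62579 D116857) (tt N62580 D116858) (tt N21042 (iv7 F182505)))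
theorem Q33479 : ∀ i, i < 33479 → P i := stepQ 33478 Q33478 (allL N33478 (tt N62581 D116860) (tt N58544 (iv0 F342461)) (tt N21048 F182498) (tt N62576 (iv3 F182471)) (tt N62580 (iv4 F182483)) (tt N52593 (iv5 F334486)) (tt N16795 (iv6 D53850)) (tt N62582 D116863))
theorem Q33480 : ∀ i, i < 33480 → P i := stepQ 33479 Q33479 (allL N33479 (tt N62583 D116865) (tt N58550 (iv0 F182581)) (tt N62584 D116867) (tt N16796 (iv3 D53852)) (tt N62585 D116868) (tt N40873 F180720) (tt N62586 D116869) (tt N21045 F182491))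
theorem Q33481 : ∀ i, i < 33481 → P i := stepQ 33480 Q33480 (allL N33480 (tt N59182 (iv1 F172277)) (tt N62577 F182479) (tt N21042 (iv2 F182504)) (tt N30250 (iv3 F84887)) (tt N16796 (iv4 D53853)) (tt N60026 (iv5 F180735)) (tt N62587 D116870) (tt N21046 F182501))
theorem Q33482 : ∀ i, i < 33482 → P i := stepQ 33481 Q33481 (allL N33481 (tt N30647 (iv1 F340814)) (tt N62588 D116872) (tt N21044 (iv2 F182508)) (tt N62586 (iv3 F182596)) (tt N62587 (iv4 F182599)) (tt N62589 D116873) (tt N16796 (iv6 D53855)) (tt N62590 D116874))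
theorem Q33483 : ∀ i, i < 33483 → P i := stepQ 33482 Q33482 (allL N33482 (tt N58400 (iv1 F169289)) (tt N33063 (iv0 F111253)) (tt N55906 (iv2 F162090)) (tt N17050 F320620) (tt N16799 (iv4 D53868)) (tt N62591 D116901) (tt N44462 (iv6 F112177)) (tt N20889 F84912))
theorem Q33484 : ∀ i, i < 33484 → P i := stepQ 33483 Q33483 (allL N33483 (tt N16800 (iv1 D53870)) (tt N18289 (iv0 F101939)) (tt N18291 F101930) (tt N31412 F101931) (tt N49025 F329499) (tt N30615 F101932) (tt N18305 F101933) (tt N18259 F101934))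
theorem Q33485 : ∀ i, i < 33485 → P i := stepQ 33484 Q33484 (allL N33484 (tt N18259 (iv1 F111385)) (tt N18291 F111380) (tt N16800 (iv2 D53871)) (tt N20888 F84914) (tt N39379 (iv4 F111370)) (tt N29635 (iv5 F111389)) (tt N62592 D116903) (tt N18289 (iv7 F101942)))
theorem Q33486 : ∀ i, i < 33486 → P i := stepQ 33485 Q33485 (allL N33485 (tt N20001 F111240) (tt N39381 F111241) (tt N39379 F111371) (tt N17328 F322041) (tt N16800 (iv4 D53872)) (tt N34383 (iv5 F323699)) (tt N45783 F322042) (tt N20885 F84920))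
theorem Q33487 : ∀ i, i < 33487 → P i := stepQ 33486 Q33486 (allL N33486 (tt N36170 F101935) (tt N36174 (iv0 F112196)) (tt N62592 (iv2 F182645)) (tt N16801 F84921) (tt N45783 (iv4 F321404)) (tt N44466 (iv5 F112193)) (tt N16800 (iv6 D53873)) (tt N44466 (iv7 F112194)))
theorem Q33488 : ∀ i, i < 33488 → P i := stepQ 33487 Q33487 (allL N33487 (tt N17449 F84925) (tt N16817 (iv0 F84927)) (tt N18634 F84922) (tt N23301 F84923) (tt N60995 (iv4 F177544)) (tt N21905 F84926) (tt N16804 (iv6 D53874)) (tt N20999 F84924))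
theorem Q33489 : ∀ i, i < 33489 → P i := stepQ 33488 Q33488 (allL N33488 (tt N16843 F84931) (tt N20955 F84935) (tt N20954 F84928) (tt N16805 (iv3 D53875)) (tt N20900 F84932) (tt N18444 F84929) (tt N62593 D116906) (tt N20920 F84930))
theorem Q33490 : ∀ i, i < 33490 → P i := stepQ 33489 Q33489 (allL N33489 (tt N20991 F84939) (tt N16815 F84941) (tt N20923 F84936) (tt N62593 (iv3 F182653)) (tt N21523 F84937) (tt N21886 (iv5 F84940)) (tt N16805 (iv6 D53876)) (tt N20990 F84938))
theorem Q33491 : ∀ i, i < 33491 → P i := stepQ 33490 Q33490 (allL N33490 (tt N18447 F84944) (tt N45187 (iv0 F114730)) (tt N41747 (iv2 F104849)) (tt N16808 (iv3 D53877)) (tt N33770 F85582) (tt N16849 F84942) (tt N62594 D116907) (tt N21081 F84943))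
theorem Q33492 : ∀ i, i < 33492 → P i := stepQ 33491 Q33491 (allL N33491 (tt N22884 F84948) (tt N22881 F84949) (tt N21085 F84945) (tt N62595 D116908) (tt N16808 (iv4 D53878)) (tt N21085 F84947) (tt N62596 D116909) (tt N21082 F84946))
theorem Q33493 : ∀ i, i < 33493 → P i := stepQ 33492 Q33492 (allL N33492 (tt N40235 F315677) (tt N20856 F315678) (tt N21086 F84950) (tt N62594 (iv3 F182659)) (tt N62596 (iv4 F182664)) (tt N17058 F84951) (tt N16808 (iv6 D53879)) (tt N20249 F315679))
theorem Q33494 : ∀ i, i < 33494 → P i := stepQ 33493 Q33493 (allL N33493 (tt N21358 (iv1 F84955)) (tt N21362 (iv0 F84954)) (tt N41958 (iv2 F105163)) (tt N16809 (iv3 D53880)) (tt N42029 (iv4 F105299)) (tt N16850 F84952) (tt N62597 D116913) (tt N21084 F84953))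
theorem Q33495 : ∀ i, i < 33495 → P i := stepQ 33494 Q33494 (allL N33494 (tt N22881 F84959) (tt N22884 F84960) (tt N21082 F84956) (tt N62598 D116914) (tt N16809 (iv4 D53881)) (tt N21082 F84957) (tt N62599 D116915) (tt N21085 F84958))
theorem Q33496 : ∀ i, i < 33496 → P i := stepQ 33495 Q33495 (allL N33495 (tt N18466 F130835) (tt N44927 F114117) (tt N21083 F84961) (tt N62597 (iv3 F182674)) (tt N62599 (iv4 F182680)) (tt N16986 F84962) (tt N16809 (iv6 D53882)) (tt N44375 F311029))
theorem Q33497 : ∀ i, i < 33497 → P i := stepQ 33496 Q33496 (allL N33496 (tt N21079 (iv1 F84965)) (tt N16810 (iv0 D53883)) (tt N21088 (iv2 F84966)) (tt N62600 D116916) (tt N16856 F84964) (tt N21088 F84963) (tt N34724 F323510) (tt N21087 (iv7 F84967)))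
theorem Q33498 : ∀ i, i < 33498 → P i := stepQ 33497 Q33497 (allL N33497 (tt N16810 (iv1 D53884)) (tt N21079 F84968) (tt N21087 (iv2 F84972)) (tt N62601 D116918) (tt N16857 F84971) (tt N21087 F84970) (tt N62602 D116919) (tt N21088 F84969))
theorem Q33499 : ∀ i, i < 33499 → P i := stepQ 33498 Q33498 (allL N33498 (tt N23792 F315663) (tt N48360 F315664) (tt N44603 (iv2 F112676)) (tt N21425 (iv3 F318240)) (tt N16811 F84973) (tt N24010 (iv5 F317961)) (tt N16810 (iv6 D53885)) (tt N48359 F315665))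
theorem Q33500 : ∀ i, i < 33500 → P i := stepQ 33499 Q33499 (allL N33499 (tt N44606 F112689) (tt N16811 (iv0 D53886)) (tt N44604 (iv2 F131544)) (tt N62603 D116924) (tt N25058 (iv4 F313892)) (tt N35488 F92492) (tt N21128 F84974) (tt N44605 (iv7 F131539)))
theorem Q33501 : ∀ i, i < 33501 → P i := stepQ 33500 Q33500 (allL N33500 (tt N16811 (iv1 D53887)) (tt N44606 F112688) (tt N44605 F131543) (tt N62604 D116926) (tt N48346 (iv4 F313264)) (tt N35487 (iv5 F92489)) (tt N62605 D116928) (tt N44604 (iv7 F131542)))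
theorem Q33502 : ∀ i, i < 33502 → P i := stepQ 33501 Q33501 (allL N33501 (tt N44605 (iv1 F112681)) (tt N44604 (iv0 F112680)) (tt N44606 (iv2 F112684)) (tt N16814 F84975) (tt N48359 (iv4 F313885)) (tt N20578 F314548) (tt N21093 F84976) (tt N16811 (iv7 D53888)))
theorem Q33503 : ∀ i, i < 33503 → P i := stepQ 33502 Q33502 (allL N33502 (tt N19246 F313907) (tt N20502 (iv0 F313987)) (tt N20986 (iv2 F182717)) (tt N56068 F318672) (tt N18997 F313908) (tt N16812 (iv5 D53892)) (tt N20374 (iv6 F316344)) (tt N20988 F182716))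
theorem Q33504 : ∀ i, i < 33504 → P i := stepQ 33503 Q33503 (allL N33503 (tt N18470 F122600) (tt N34296 F310953) (tt N20987 (iv2 F182725)) (tt N56072 (iv3 F316393)) (tt N18374 F315590) (tt N21131 F84978) (tt N16812 (iv6 D53893)) (tt N42601 F310954))
theorem Q33505 : ∀ i, i < 33505 → P i := stepQ 33504 Q33504 (allL N33504 (tt N18446 F243167) (tt N27612 F314498) (tt N46609 F317479) (tt N16813 (iv3 D53895)) (tt N27843 F315628) (tt N62606 D116948) (tt N62607 D116949) (tt N20985 F182732))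
theorem Q33506 : ∀ i, i < 33506 → P i := stepQ 33505 Q33505 (allL N33505 (tt N20502 (iv1 F313988)) (tt N19246 F313905) (tt N20988 F182720) (tt N62606 (iv3 F182783)) (tt N18996 F313906) (tt N16813 (iv5 D53897)) (tt N33470 (iv6 F315950)) (tt N20986 F182721))
theorem Q33507 : ∀ i, i < 33507 → P i := stepQ 33506 Q33506 (allL N33506 (tt N37621 F182739) (tt N37623 F182740) (tt N20989 F182741) (tt N62607 (iv3 F182785)) (tt N40482 F105660) (tt N45592 F309887) (tt N16813 (iv6 D53898)) (tt N62608 D116952))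
theorem Q33508 : ∀ i, i < 33508 → P i := stepQ 33507 Q33507 (allL N33507 (tt N20923 (iv1 F84994)) (tt N20990 F84993) (tt N16815 (iv2 D53902)) (tt N20992 F84990) (tt N21000 F84991) (tt N33914 (iv5 F86103)) (tt N44135 (iv6 F110879)) (tt N20991 F84992))
theorem Q33509 : ∀ i, i < 33509 → P i := stepQ 33508 Q33508 (allL N33508 (tt N18634 (iv1 F85001)) (tt N20999 F85000) (tt N16817 (iv2 D53904)) (tt N21000 F84997) (tt N60752 (iv4 F176818)) (tt N34052 (iv5 F86586)) (tt N29704 F84998) (tt N17449 F84999))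
theorem Q33510 : ∀ i, i < 33510 → P i := stepQ 33509 Q33509 (allL N33509 (tt N62609 D116962) (tt N62077 (iv0 F179951)) (tt N62610 D116963) (tt N16818 (iv3 D53905)) (tt N33122 F85002) (tt N62611 D116964) (tt N62612 D116965) (tt N18643 F85003))
theorem Q33511 : ∀ i, i < 33511 → P i := stepQ 33510 Q33510 (allL N33510 (tt N36682 (iv1 F95017)) (tt N36681 F95015) (tt N20785 F85004) (tt N62611 (iv3 F182826)) (tt N32210 F85006) (tt N16818 (iv5 D53906)) (tt N60281 (iv6 F331496)) (tt N18644 F85005))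
theorem Q33512 : ∀ i, i < 33512 → P i := stepQ 33511 Q33511 (allL N33511 (tt N60159 (iv1 F175813)) (tt N39853 F168127) (tt N20786 F85007) (tt N62612 (iv3 F182828)) (tt N16819 F85008) (tt N62613 D116967) (tt N16818 (iv6 D53907)) (tt N32163 F85009))
theorem Q33513 : ∀ i, i < 33513 → P i := stepQ 33512 Q33512 (allL N33512 (tt N62614 D116968) (tt N62615 D116969) (tt N62616 D116970) (tt N16820 (iv3 D53908)) (tt N33222 F85010) (tt N62617 D116971) (tt N62618 D116972) (tt N20795 F85011))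
theorem Q33514 : ∀ i, i < 33514 → P i := stepQ 33513 Q33513 (allL N33513 (tt N20119 F85014) (tt N36686 (iv0 F95032)) (tt N20804 F85012) (tt N62617 (iv3 F182842)) (tt N33525 (iv4 F85046)) (tt N16820 (iv5 D53909)) (tt N62619 D116973) (tt N20796 F85013))
theorem Q33515 : ∀ i, i < 33515 → P i := stepQ 33514 Q33514 (allL N33514 (tt N32165 F85017) (tt N38188 F97615) (tt N20805 F85015) (tt N62618 (iv3 F182844)) (tt N16821 F85016) (tt N62620 D116974) (tt N16820 (iv6 D53910)) (tt N38186 (iv7 F103406)))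
theorem Q33516 : ∀ i, i < 33516 → P i := stepQ 33515 Q33515 (allL N33515 (tt N62621 D116975) (tt N62622 D116976) (tt N57962 (iv2 F168648)) (tt N16824 F85018) (tt N33078 F85019) (tt N18064 F85020) (tt N16822 (iv6 D53911)) (tt N62623 D116977))
theorem Q33517 : ∀ i, i < 33517 → P i := stepQ 33516 Q33516 (allL N33516 (tt N62624 D116978) (tt N62625 D116979) (tt N62626 D116980) (tt N16823 (iv3 D53912)) (tt N33076 F85021) (tt N62627 D116981) (tt N62628 D116982) (tt N20803 F85022))
theorem Q33518 : ∀ i, i < 33518 → P i := stepQ 33517 Q33517 (allL N33517 (tt N36686 (iv1 F95033)) (tt N20119 F85025) (tt N20796 F85023) (tt N62627 (iv3 F182870)) (tt N33522 (iv4 F85038)) (tt N16823 (iv5 D53913)) (tt N62629 D116983) (tt N20804 F85024))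
theorem Q33519 : ∀ i, i < 33519 → P i := stepQ 33518 Q33518 (allL N33518 (tt N62630 D116984) (tt N62631 D116985) (tt N20797 F85026) (tt N62628 (iv3 F182872)) (tt N16824 F85027) (tt N62632 D116986) (tt N16823 (iv6 D53914)) (tt N62633 D116987))
theorem Q33520 : ∀ i, i < 33520 → P i := stepQ 33519 Q33519 (allL N33519 (tt N16824 (iv1 D53916)) (tt N20800 F85028) (tt N20799 (iv2 F93327)) (tt N21016 F168052) (tt N62634 D116988) (tt N62635 D116989) (tt N37706 (iv6 F103393)) (tt N20798 (iv7 F93329)))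
theorem Q33521 : ∀ i, i < 33521 → P i := stepQ 33520 Q33520 (allL N33520 (tt N20799 (iv1 F85033)) (tt N20798 F85034) (tt N20800 F85029) (tt N62623 (iv3 F182858)) (tt N62633 (iv4 F182886)) (tt N18072 F85030) (tt N20807 F85031) (tt N16824 (iv7 D53917)))
theorem Q33522 : ∀ i, i < 33522 → P i := stepQ 33521 Q33521 (allL N33521 (tt N62636 D116990) (tt N62637 D116991) (tt N62638 D116992) (tt N16825 (iv3 D53918)) (tt N55892 (iv4 F162061)) (tt N62639 D116993) (tt N62640 D116994) (tt N20808 F85035))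
theorem Q33523 : ∀ i, i < 33523 → P i := stepQ 33522 Q33522 (allL N33522 (tt N36187 (iv1 F94051)) (tt N29680 F85039) (tt N20812 F85036) (tt N62639 (iv3 F182906)) (tt N33517 F85038) (tt N16825 (iv5 D53919)) (tt N62641 D116995) (tt N20809 F85037))
theorem Q33524 : ∀ i, i < 33524 → P i := stepQ 33523 Q33523 (allL N33523 (tt N32154 F85042) (tt N44475 F112218) (tt N20813 F85040) (tt N62640 (iv3 F182908)) (tt N19392 F85041) (tt N62642 D116996) (tt N16825 (iv6 D53920)) (tt N44473 (iv7 F112213)))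
theorem Q33525 : ∀ i, i < 33525 → P i := stepQ 33524 Q33524 (allL N33524 (tt N62643 D116997) (tt N62644 D116998) (tt N62645 D116999) (tt N16826 (iv3 D53921)) (tt N20311 F85043) (tt N62646 D117000) (tt N62647 D117001) (tt N20811 F85044))
theorem Q33526 : ∀ i, i < 33526 → P i := stepQ 33525 Q33525 (allL N33525 (tt N29680 F85048) (tt N36187 (iv0 F94050)) (tt N20809 F85045) (tt N62646 (iv3 F182919)) (tt N33513 F85046) (tt N16826 (iv5 D53922)) (tt N62648 D117002) (tt N20812 F85047))
theorem Q33527 : ∀ i, i < 33527 → P i := stepQ 33526 Q33526 (allL N33526 (tt N60121 F175709) (tt N62634 (iv0 F182892)) (tt N20810 F85049) (tt N62647 (iv3 F182921)) (tt N20052 F85050) (tt N62649 D117003) (tt N16826 (iv6 D53923)) (tt N62650 D117004))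
theorem Q33528 : ∀ i, i < 33528 → P i := stepQ 33527 Q33527 (allL N33527 (tt N20816 (iv1 F85051)) (tt N16827 (iv0 D53924)) (tt N20815 F180259) (tt N62651 D117005) (tt N40432 F180260) (tt N40795 (iv5 F181606)) (tt N62652 D117006) (tt N20814 F180261))
theorem Q33529 : ∀ i, i < 33529 → P i := stepQ 33528 Q33528 (allL N33528 (tt N16827 (iv1 D53925)) (tt N20816 (iv0 F85053)) (tt N20814 F180257) (tt N62653 D117007) (tt N33243 (iv4 F85052)) (tt N40796 F181601) (tt N62654 D117008) (tt N20815 F180258))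
theorem Q33530 : ∀ i, i < 33530 → P i := stepQ 33529 Q33529 (allL N33529 (tt N20815 (iv1 F85057)) (tt N20814 F85056) (tt N16827 (iv2 D53926)) (tt N57215 (iv3 F165816)) (tt N16835 F85054) (tt N62655 D117009) (tt N59871 (iv6 F346894)) (tt N20816 F85055))
theorem Q33531 : ∀ i, i < 33531 → P i := stepQ 33530 Q33530 (allL N33530 (tt N62487 (iv1 F181795)) (tt N61255 (iv0 F355185)) (tt N62655 (iv2 F182944)) (tt N16828 F85058) (tt N62656 D117011) (tt N16827 (iv5 D53927)) (tt N59930 (iv6 F346896)) (tt N20817 F85059))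
theorem Q33532 : ∀ i, i < 33532 → P i := stepQ 33531 Q33531 (allL N33531 (tt N62657 D117013) (tt N62658 D117014) (tt N59871 (iv2 F346892)) (tt N16829 F85060) (tt N16836 F85061) (tt N59839 (iv5 F346878)) (tt N16827 (iv6 D53928)) (tt N59877 (iv7 F346901)))
theorem Q33533 : ∀ i, i < 33533 → P i := stepQ 33532 Q33532 (allL N33532 (tt N16828 (iv1 D53929)) (tt N20789 F85062) (tt N20819 F85066) (tt N62659 D117017) (tt N18640 (iv4 F85065)) (tt N18354 F85064) (tt N62660 D117018) (tt N20820 F85063))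
theorem Q33534 : ∀ i, i < 33534 → P i := stepQ 33533 Q33533 (allL N33533 (tt N62661 D117019) (tt N49353 F350532) (tt N41164 (iv2 F103450)) (tt N59930 (iv3 F346895)) (tt N41093 (iv4 F103329)) (tt N59929 (iv5 F346866)) (tt N16828 (iv6 D53930)) (tt N52059 (iv7 F306986)))
theorem Q33535 : ∀ i, i < 33535 → P i := stepQ 33534 Q33534 (allL N33534 (tt N57219 (iv1 F165841)) (tt N16829 (iv0 D53931)) (tt N57217 F165826) (tt N62662 D117023) (tt N20056 F165827) (tt N62663 D117024) (tt N62664 D117025) (tt N37258 F165828))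
theorem Q33536 : ∀ i, i < 33536 → P i := stepQ 33535 Q33535 (allL N33535 (tt N62665 D117026) (tt N62666 D117027) (tt N57218 (iv2 F165836)) (tt N59839 (iv3 F346877)) (tt N62667 D117028) (tt N16829 (iv5 D53932)) (tt N59929 (iv6 F346867)) (tt N59876 (iv7 F350493)))
theorem Q33537 : ∀ i, i < 33537 → P i := stepQ 33536 Q33536 (allL N33536 (tt N37258 (iv1 F95725)) (tt N57217 F165835) (tt N57219 (iv2 F165837)) (tt N59877 (iv3 F346898)) (tt N16832 F85067) (tt N59876 (iv5 F350492)) (tt N20826 F85068) (tt N16829 (iv7 D53933)))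
theorem Q33538 : ∀ i, i < 33538 → P i := stepQ 33537 Q33537 (allL N33537 (tt N39525 (iv1 F100371)) (tt N39515 F100368) (tt N39523 F100365) (tt N56968 (iv3 F331785)) (tt N16830 (iv4 D53935)) (tt N62668 D117031) (tt N62669 D117032) (tt N35825 (iv7 F93332)))
theorem Q33539 : ∀ i, i < 33539 → P i := stepQ 33538 Q33538 (allL N33538 (tt N37706 (iv1 F96491)) (tt N37705 (iv0 F96490)) (tt N37708 (iv2 F96494)) (tt N58081 (iv3 F168850)) (tt N62669 (iv4 F182965)) (tt N30016 F85069) (tt N16830 (iv6 D53936)) (tt N30015 F85070))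
theorem Q33540 : ∀ i, i < 33540 → P i := stepQ 33539 Q33539 (allL N33539 (tt N31413 F85074) (tt N58059 F168796) (tt N57317 (iv2 F166049)) (tt N16831 (iv3 D53937)) (tt N33110 F85073) (tt N29850 F85071) (tt N30377 F85072) (tt N57220 (iv7 F165843)))
theorem Q33541 : ∀ i, i < 33541 → P i := stepQ 33540 Q33540 (allL N33540 (tt N39515 F100360) (tt N39525 F100370) (tt N35825 (iv2 F93330)) (tt N62670 D117033) (tt N16831 (iv4 D53938)) (tt N62671 D117034) (tt N18907 F85075) (tt N39523 (iv7 F100367)))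
theorem Q33542 : ∀ i, i < 33542 → P i := stepQ 33541 Q33541 (allL N33541 (tt N45267 F322919) (tt N62672 D117041) (tt N62275 (iv2 F183028)) (tt N16833 (iv3 D53940)) (tt N20331 F85077) (tt N40803 F181595) (tt N62673 D117043) (tt N20877 (iv7 F183022)))
theorem Q33543 : ∀ i, i < 33543 → P i := stepQ 33542 Q33542 (allL N33542 (tt N62674 D117045) (tt N62675 D117046) (tt N20882 F183017) (tt N62676 D117047) (tt N16833 (iv4 D53941)) (tt N62677 D117048) (tt N62678 D117049) (tt N20878 (iv7 F183024)))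
theorem Q33544 : ∀ i, i < 33544 → P i := stepQ 33543 Q33543 (allL N33543 (tt N44478 F340947) (tt N44481 (iv0 F340948)) (tt N20884 F183019) (tt N62673 (iv3 F182983)) (tt N62678 (iv4 F183002)) (tt N62679 D117053) (tt N16833 (iv6 D53943)) (tt N44479 (iv7 F322111)))
theorem Q33545 : ∀ i, i < 33545 → P i := stepQ 33544 Q33544 (allL N33544 (tt N20752 (iv1 F320135)) (tt N22535 F320097) (tt N40840 (iv2 F320136)) (tt N16834 (iv3 D53945)) (tt N37911 (iv4 F320137)) (tt N33389 (iv5 F320139)) (tt N21468 (iv6 F320310)) (tt N20881 F183012))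
theorem Q33546 : ∀ i, i < 33546 → P i := stepQ 33545 Q33545 (allL N33545 (tt N62675 (iv1 F182991)) (tt N62674 F183000) (tt N20878 (iv2 F183023)) (tt N62680 D117060) (tt N16834 (iv4 D53946)) (tt N62681 D117061) (tt N62682 D117062) (tt N20882 F183020))
theorem Q33547 : ∀ i, i < 33547 → P i := stepQ 33546 Q33546 (allL N33546 (tt N58543 (iv1 F322271)) (tt N62683 D117064) (tt N20880 (iv2 F183027)) (tt N21468 F320534) (tt N62682 (iv4 F183083)) (tt N21466 (iv5 F322014)) (tt N16834 (iv6 D53948)) (tt N62684 D117066))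
theorem Q33548 : ∀ i, i < 33548 → P i := stepQ 33547 Q33547 (allL N33547 (tt N62685 D117067) (tt N44477 F320428) (tt N16836 F85079) (tt N21049 F85080) (tt N59871 (iv4 F346893)) (tt N62217 (iv5 F318321)) (tt N16835 (iv6 D53949)) (tt N62686 D117070))
theorem Q33549 : ∀ i, i < 33549 → P i := stepQ 33548 Q33548 (allL N33548 (tt N62686 (iv1 F183099)) (tt N16836 (iv0 D53950)) (tt N62685 (iv2 F318440)) (tt N62687 D117072) (tt N62688 D117073) (tt N62689 D117074) (tt N62690 D117075) (tt N44477 F320427))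
theorem Q33550 : ∀ i, i < 33550 → P i := stepQ 33549 Q33549 (allL N33549 (tt N16836 (iv1 D53951)) (tt N62686 F183098) (tt N44477 (iv2 F318266)) (tt N17945 F320587) (tt N62691 D117078) (tt N62444 F320588) (tt N17942 (iv6 F318439)) (tt N62685 (iv7 F318441)))
theorem Q33551 : ∀ i, i < 33551 → P i := stepQ 33550 Q33550 (allL N33550 (tt N62330 (iv1 F318319)) (tt N20511 (iv0 F318442)) (tt N62217 (iv2 F318320)) (tt N16837 F85081) (tt N62692 D117083) (tt N16836 (iv5 D53952)) (tt N20362 (iv6 F318241)) (tt N22139 (iv7 F318325)))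
theorem Q33552 : ∀ i, i < 33552 → P i := stepQ 33551 Q33551 (allL N33551 (tt N44477 (iv1 F318268)) (tt N62685 F183097) (tt N62686 (iv2 F183094)) (tt N16838 F85082) (tt N59877 (iv4 F346899)) (tt N22139 (iv5 F318324)) (tt N17147 (iv6 F318343)) (tt N16836 (iv7 D53953)))
theorem Q33553 : ∀ i, i < 33553 → P i := stepQ 33552 Q33552 (allL N33552 (tt N21056 (iv1 F85090)) (tt N16837 (iv0 D53954)) (tt N21054 F85093) (tt N62685 (iv3 F318444)) (tt N45614 F324739) (tt N42957 (iv5 F316838)) (tt N25147 (iv6 F318446)) (tt N17945 (iv7 F318341)))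
theorem Q33554 : ∀ i, i < 33554 → P i := stepQ 33553 Q33553 (allL N33553 (tt N40483 F320589) (tt N25263 (iv0 F318448)) (tt N21055 F85087) (tt N62693 D117089) (tt N16837 (iv4 D53956)) (tt N23537 (iv5 F324094)) (tt N40242 F320590) (tt N23592 (iv7 F324088)))
theorem Q33555 : ∀ i, i < 33555 → P i := stepQ 33554 Q33554 (allL N33554 (tt N17945 (iv1 F318338)) (tt N21054 F85095) (tt N21056 F85088) (tt N22139 (iv3 F318323)) (tt N23592 F324738) (tt N16838 F85089) (tt N17311 (iv6 F318244)) (tt N16837 (iv7 D53957)))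
theorem Q33556 : ∀ i, i < 33556 → P i := stepQ 33555 Q33555 (allL N33555 (tt N18304 (iv1 F85096)) (tt N16839 (iv0 D53958)) (tt N18305 F85099) (tt N58059 (iv3 F168793)) (tt N62694 D117092) (tt N32000 (iv5 F85098)) (tt N18291 (iv6 F85101)) (tt N18261 F85097))
theorem Q33557 : ∀ i, i < 33557 → P i := stepQ 33556 Q33556 (allL N33556 (tt N18305 (iv1 F85105)) (tt N18261 F85104) (tt N16839 (iv2 D53959)) (tt N21058 F85102) (tt N62695 D117093) (tt N35880 (iv5 F93422)) (tt N57332 (iv6 F166238)) (tt N18304 F85103))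
theorem Q33558 : ∀ i, i < 33558 → P i := stepQ 33557 Q33557 (allL N33557 (tt N62696 D117094) (tt N20060 (iv0 F85107)) (tt N62695 (iv2 F183122)) (tt N40483 (iv3 F101754)) (tt N16839 (iv4 D53960)) (tt N45515 (iv5 F324029)) (tt N62697 D117096) (tt N21064 F85106))
theorem Q33559 : ∀ i, i < 33559 → P i := stepQ 33558 Q33558 (allL N33558 (tt N57331 (iv1 F166232)) (tt N57330 (iv0 F166231)) (tt N57332 (iv2 F166235)) (tt N16840 F85108) (tt N62697 (iv4 F183132)) (tt N18786 F85109) (tt N16839 (iv6 D53961)) (tt N18785 F85110))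
theorem Q33560 : ∀ i, i < 33560 → P i := stepQ 33559 Q33559 (allL N33559 (tt N30245 F85113) (tt N62698 D117097) (tt N55924 (iv2 F162156)) (tt N40487 (iv3 F101763)) (tt N16841 (iv4 D53962)) (tt N62699 D117098) (tt N30585 F85111) (tt N21059 F85112))
theorem Q33561 : ∀ i, i < 33561 → P i := stepQ 33560 Q33560 (allL N33560 (tt N16842 (iv1 D53963)) (tt N20945 F85119) (tt N20932 F85117) (tt N20921 (iv3 F85116)) (tt N21481 (iv4 F85115)) (tt N56063 (iv5 F162483)) (tt N30676 F85118) (tt N20944 F85114))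
theorem Q33562 : ∀ i, i < 33562 → P i := stepQ 33561 Q33561 (allL N33561 (tt N20944 (iv1 F85125)) (tt N20932 F85124) (tt N16842 (iv2 D53964)) (tt N20955 F85120) (tt N18403 F85121) (tt N41627 (iv5 F104596)) (tt N17012 F85122) (tt N20945 F85123))
theorem Q33563 : ∀ i, i < 33563 → P i := stepQ 33562 Q33562 (allL N33562 (tt N20920 (iv1 F85130)) (tt N20954 F85129) (tt N16843 (iv2 D53965)) (tt N20945 F85126) (tt N32449 F85127) (tt N36285 (iv5 F94294)) (tt N44488 (iv6 F112261)) (tt N20955 F85128))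
theorem Q33564 : ∀ i, i < 33564 → P i := stepQ 33563 Q33563 (allL N33563 (tt N21279 F85134) (tt N21305 F85135) (tt N20950 F85131) (tt N16899 F85132) (tt N21110 (iv4 F85136)) (tt N16844 (iv5 D53966)) (tt N62700 D117099) (tt N20957 F85133))
theorem Q33565 : ∀ i, i < 33565 → P i := stepQ 33564 Q33564 (allL N33564 (tt N56054 F162433) (tt N56063 F162486) (tt N41879 (iv2 F105030)) (tt N16846 (iv3 D53969)) (tt N33756 F85546) (tt N16858 F85143) (tt N62701 D117105) (tt N20964 F85144))
theorem Q33566 : ∀ i, i < 33566 → P i := stepQ 33565 Q33565 (allL N33565 (tt N34087 F316848) (tt N34057 F316849) (tt N20968 F85145) (tt N62702 D117106) (tt N16846 (iv4 D53970)) (tt N62703 D117107) (tt N62704 D117108) (tt N20965 F85146))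
theorem Q33567 : ∀ i, i < 33567 → P i := stepQ 33566 Q33566 (allL N33566 (tt N44926 F155379) (tt N18469 F155380) (tt N20969 F85147) (tt N62701 (iv3 F183160)) (tt N62704 (iv4 F183166)) (tt N17016 F85148) (tt N16846 (iv6 D53971)) (tt N56081 (iv7 F162541)))
theorem Q33568 : ∀ i, i < 33568 → P i := stepQ 33567 Q33567 (allL N33567 (tt N45192 (iv1 F114752)) (tt N18444 (iv0 F85151)) (tt N60862 (iv2 F177055)) (tt N16847 (iv3 D53972)) (tt N33706 (iv4 F85485)) (tt N16859 F85149) (tt N62705 D117109) (tt N20967 F85150))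
theorem Q33569 : ∀ i, i < 33569 → P i := stepQ 33568 Q33568 (allL N33568 (tt N34057 F316850) (tt N34087 F316851) (tt N20965 F85152) (tt N62706 D117110) (tt N16847 (iv4 D53973)) (tt N62707 D117111) (tt N62708 D117112) (tt N20968 F85153))
theorem Q33570 : ∀ i, i < 33570 → P i := stepQ 33569 Q33569 (allL N33569 (tt N56083 (iv1 F325096)) (tt N40230 F321608) (tt N20966 F85154) (tt N62705 (iv3 F183167)) (tt N62708 (iv4 F183172)) (tt N57681 (iv5 F315159)) (tt N16847 (iv6 D53974)) (tt N57680 (iv7 F315156)))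
theorem Q33571 : ∀ i, i < 33571 → P i := stepQ 33570 Q33570 (allL N33570 (tt N42855 (iv1 F107362)) (tt N18468 F104193) (tt N21096 F131103) (tt N51994 (iv3 F307001)) (tt N21147 (iv4 F307002)) (tt N25223 F199805) (tt N16848 (iv6 D53991)) (tt N44911 F131104))
theorem Q33572 : ∀ i, i < 33572 → P i := stepQ 33571 Q33571 (allL N33571 (tt N46202 F317768) (tt N46200 F317769) (tt N21132 F85171) (tt N62493 (iv3 F181819)) (tt N16852 F85172) (tt N17581 (iv5 F318599)) (tt N16851 (iv6 D53992)) (tt N24012 (iv7 F317878)))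
theorem Q33573 : ∀ i, i < 33573 → P i := stepQ 33572 Q33572 (allL N33572 (tt N21133 (iv1 F85179)) (tt N16852 (iv0 D53993)) (tt N21130 F182749) (tt N62709 D117156) (tt N41839 (iv4 F182754)) (tt N42601 F313162) (tt N62710 D117157) (tt N21131 F182750))
theorem Q33574 : ∀ i, i < 33574 → P i := stepQ 33573 Q33573 (allL N33573 (tt N16852 (iv1 D53994)) (tt N21133 F85173) (tt N21131 F182735) (tt N62711 D117158) (tt N41840 (iv4 F181016)) (tt N20987 (iv5 F85174)) (tt N41228 F319226) (tt N21130 F182736))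
theorem Q33575 : ∀ i, i < 33575 → P i := stepQ 33574 Q33574 (allL N33574 (tt N21131 (iv1 F85180)) (tt N21130 F85181) (tt N21133 F85175) (tt N16855 F85176) (tt N24012 (iv4 F317876)) (tt N16855 F85177) (tt N21148 F85178) (tt N16852 (iv7 D53995)))
theorem Q33576 : ∀ i, i < 33576 → P i := stepQ 33575 Q33575 (allL N33575 (tt N56045 F243194) (tt N41349 F243195) (tt N29140 (iv2 F315420)) (tt N16853 (iv3 D53997)) (tt N55182 (iv4 F315422)) (tt N62712 D117164) (tt N17001 F312998) (tt N21127 F131515))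
theorem Q33577 : ∀ i, i < 33577 → P i := stepQ 33576 Q33576 (allL N33576 (tt N34574 F87907) (tt N43938 F313202) (tt N21126 F131518) (tt N62712 (iv3 F183289)) (tt N25059 (iv4 F313267)) (tt N16853 (iv5 D53999)) (tt N62713 D117167) (tt N21128 F131519))
theorem Q33578 : ∀ i, i < 33578 → P i := stepQ 33577 Q33577 (allL N33577 (tt N18426 (iv1 F243306)) (tt N29141 F315749) (tt N29143 F315750) (tt N16854 (iv3 D54002)) (tt N29108 (iv4 F317107)) (tt N62714 D117172) (tt N24941 F315751) (tt N17872 F315752))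
theorem Q33579 : ∀ i, i < 33579 → P i := stepQ 33578 Q33578 (allL N33578 (tt N43938 F313203) (tt N34574 (iv0 F87906)) (tt N21128 F131510) (tt N62714 (iv3 F183308)) (tt N17895 (iv4 F313339)) (tt N16854 (iv5 D54004)) (tt N44604 (iv6 F112678)) (tt N21126 F131511))
theorem Q33580 : ∀ i, i < 33580 → P i := stepQ 33579 Q33579 (allL N33579 (tt N40647 F318633) (tt N41354 F131504) (tt N21129 F131505) (tt N24941 (iv3 F313313)) (tt N21639 F311061) (tt N41224 F322408) (tt N16854 (iv6 D54005)) (tt N21673 F311062))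
theorem Q33581 : ∀ i, i < 33581 → P i := stepQ 33580 Q33580 (allL N33580 (tt N39990 F314516) (tt N20370 (iv0 F315528)) (tt N21141 F85186) (tt N41957 (iv3 F105161)) (tt N34724 F323507) (tt N17064 F85187) (tt N16856 (iv6 D54006)) (tt N22729 F314517))
theorem Q33582 : ∀ i, i < 33582 → P i := stepQ 33581 Q33581 (allL N33581 (tt N34559 F87842) (tt N44884 F113831) (tt N21143 F85188) (tt N21233 F85189) (tt N62602 (iv4 F182690)) (tt N17543 F85190) (tt N16857 (iv6 D54007)) (tt N39989 F311035))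
theorem Q33583 : ∀ i, i < 33583 → P i := stepQ 33582 Q33582 (allL N33582 (tt N18625 F85193) (tt N20984 (iv0 F85194)) (tt N17047 F85191) (tt N43279 (iv3 F108447)) (tt N62715 D117180) (tt N16860 (iv5 D54008)) (tt N57681 (iv6 F315160)) (tt N17036 F85192))
theorem Q33584 : ∀ i, i < 33584 → P i := stepQ 33583 Q33583 (allL N33583 (tt N21110 F85197) (tt N21109 F85198) (tt N16863 F85195) (tt N62716 D117181) (tt N16861 (iv4 D54009)) (tt N41648 (iv5 F104646)) (tt N62717 D117182) (tt N21101 F85196))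
theorem Q33585 : ∀ i, i < 33585 → P i := stepQ 33584 Q33584 (allL N33584 (tt N62718 D117183) (tt N62719 D117184) (tt N16864 F85199) (tt N21139 F85200) (tt N62717 (iv4 F183339)) (tt N42583 (iv5 F106445)) (tt N16861 (iv6 D54010)) (tt N62720 D117185))
theorem Q33586 : ∀ i, i < 33586 → P i := stepQ 33585 Q33585 (allL N33585 (tt N21101 (iv1 F85202)) (tt N16863 (iv0 D54011)) (tt N21110 (iv2 F85203)) (tt N62721 D117186) (tt N20950 F85201) (tt N41403 (iv5 F104094)) (tt N32846 F317462) (tt N21109 (iv7 F85204)))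
theorem Q33587 : ∀ i, i < 33587 → P i := stepQ 33586 Q33586 (allL N33586 (tt N16863 (iv1 D54012)) (tt N21101 F85205) (tt N21109 (iv2 F85208)) (tt N32945 (iv3 F323346)) (tt N20957 F85207) (tt N41404 (iv5 F104096)) (tt N62722 D117189) (tt N21110 F85206))
theorem Q33588 : ∀ i, i < 33588 → P i := stepQ 33587 Q33587 (allL N33587 (tt N61352 (iv1 F318207)) (tt N61246 (iv0 F318217)) (tt N41648 (iv2 F104644)) (tt N52053 (iv3 F306968)) (tt N41623 (iv4 F104584)) (tt N16863 (iv5 D54013)) (tt N52052 (iv6 F333585)) (tt N21111 F85209))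
theorem Q33589 : ∀ i, i < 33589 → P i := stepQ 33588 Q33588 (allL N33588 (tt N62723 D117191) (tt N62724 D117192) (tt N62717 (iv2 F183338)) (tt N62459 (iv3 F181614)) (tt N16864 F85210) (tt N58924 (iv5 F333589)) (tt N16863 (iv6 D54014)) (tt N32872 (iv7 F318647)))
theorem Q33590 : ∀ i, i < 33590 → P i := stepQ 33589 Q33589 (allL N33589 (tt N62720 (iv1 F183347)) (tt N16864 (iv0 D54015)) (tt N62718 (iv2 F187655)) (tt N62725 D117196) (tt N62726 D117197) (tt N56019 (iv5 F333612)) (tt N56020 (iv6 F317977)) (tt N62719 (iv7 F187653)))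
theorem Q33591 : ∀ i, i < 33591 → P i := stepQ 33590 Q33590 (allL N33590 (tt N16864 (iv1 D54016)) (tt N62720 F183346) (tt N62719 (iv2 F187652)) (tt N62727 D117201) (tt N62728 D117202) (tt N62729 D117203) (tt N56149 (iv6 F205364)) (tt N62718 (iv7 F187656)))
theorem Q33592 : ∀ i, i < 33592 → P i := stepQ 33591 Q33591 (allL N33591 (tt N42567 F106423) (tt N62730 D117205) (tt N42583 (iv2 F106442)) (tt N16869 F85211) (tt N27686 (iv4 F85213)) (tt N16864 (iv5 D54017)) (tt N16866 F85212) (tt N62731 D117206))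
theorem Q33593 : ∀ i, i < 33593 → P i := stepQ 33592 Q33592 (allL N33592 (tt N62719 (iv1 F183340)) (tt N62718 F183345) (tt N62720 (iv2 F183342)) (tt N16870 F85214) (tt N32872 (iv4 F318646)) (tt N62731 (iv5 F183362)) (tt N21115 F85215) (tt N16864 (iv7 D54018)))
theorem Q33594 : ∀ i, i < 33594 → P i := stepQ 33593 Q33593 (allL N33593 (tt N38327 F97971) (tt N46111 (iv0 F120338)) (tt N41897 (iv2 F105045)) (tt N16865 (iv3 D54019)) (tt N26509 F85216) (tt N21621 F85217) (tt N18500 F85218) (tt N19068 F85219))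
theorem Q33595 : ∀ i, i < 33595 → P i := stepQ 33594 Q33594 (allL N33594 (tt N62732 D117207) (tt N18437 F204938) (tt N62733 D117209) (tt N16867 (iv3 D54020)) (tt N62734 D117210) (tt N33321 F317832) (tt N33324 F317833) (tt N21151 F85220))
theorem Q33596 : ∀ i, i < 33596 → P i := stepQ 33595 Q33595 (allL N33595 (tt N41346 (iv1 F191361)) (tt N56053 (iv0 F191365)) (tt N56052 (iv2 F243386)) (tt N16868 (iv3 D54024)) (tt N41352 F323336) (tt N40625 (iv5 F318000)) (tt N56138 (iv6 F191335)) (tt N21149 F85227))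
theorem Q33597 : ∀ i, i < 33597 → P i := stepQ 33596 Q33596 (allL N33596 (tt N21156 (iv1 F85237)) (tt N16869 (iv0 D54027)) (tt N21154 F131082) (tt N46621 F308839) (tt N33810 F313185) (tt N42863 F308840) (tt N18377 F313186) (tt N21155 F131083))
theorem Q33598 : ∀ i, i < 33598 → P i := stepQ 33597 Q33597 (allL N33597 (tt N16869 (iv1 D54028)) (tt N21156 F85233) (tt N21155 F131079) (tt N62735 D117224) (tt N41939 (iv4 F105873)) (tt N21095 (iv5 F85234)) (tt N42847 F307261) (tt N21154 F131080))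
theorem Q33599 : ∀ i, i < 33599 → P i := stepQ 33598 Q33598 (allL N33598 (tt N21155 (iv1 F85238)) (tt N21154 F85239) (tt N21156 F85235) (tt N62731 (iv3 F183360)) (tt N42863 (iv4 F107459)) (tt N16870 F85236) (tt N42301 F310980) (tt N16869 (iv7 D54029)))
theorem Q33600 : ∀ i, i < 33600 → P i := stepQ 33599 Q33599 (allL N33599 (tt N60882 (iv1 F177137)) (tt N60870 F177090) (tt N21235 F85240) (tt N21140 F85241) (tt N60731 (iv4 F176798)) (tt N16872 (iv5 D54030)) (tt N62736 D117226) (tt N21231 F85242))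
theorem Q33601 : ∀ i, i < 33601 → P i := stepQ 33600 Q33600 (allL N33600 (tt N56064 (iv1 F162491)) (tt N62737 D117227) (tt N21236 F85243) (tt N62738 D117228) (tt N16873 (iv4 D54031)) (tt N62739 D117229) (tt N62740 D117230) (tt N21232 F85244))
theorem Q33602 : ∀ i, i < 33602 → P i := stepQ 33601 Q33601 (allL N33601 (tt N62741 D117231) (tt N21466 (iv0 F237514)) (tt N21237 F85245) (tt N21141 F85246) (tt N62740 (iv4 F183426)) (tt N21907 F85247) (tt N16873 (iv6 D54032)) (tt N39988 F317760))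
theorem Q33603 : ∀ i, i < 33603 → P i := stepQ 33602 Q33602 (allL N33602 (tt N60870 F177089) (tt N60882 F177138) (tt N21231 F85248) (tt N33638 (iv3 F85331)) (tt N60732 F176802) (tt N16874 (iv5 D54033)) (tt N39083 F336460) (tt N21235 F85249))
theorem Q33604 : ∀ i, i < 33604 → P i := stepQ 33603 Q33603 (allL N33603 (tt N62737 (iv1 F183416)) (tt N56064 (iv0 F162490)) (tt N21232 F85250) (tt N62742 D117235) (tt N16875 (iv4 D54034)) (tt N62743 D117236) (tt N62744 D117237) (tt N21236 F85251))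
theorem Q33605 : ∀ i, i < 33605 → P i := stepQ 33604 Q33604 (allL N33604 (tt N16970 F130860) (tt N21454 F130861) (tt N21233 F85252) (tt N41959 (iv3 F105174)) (tt N62744 (iv4 F183441)) (tt N17070 F85253) (tt N16875 (iv6 D54035)) (tt N21453 F130868))
theorem Q33606 : ∀ i, i < 33606 → P i := stepQ 33605 Q33605 (allL N33605 (tt N21258 F85256) (tt N21257 F85257) (tt N16878 F85254) (tt N62745 D117238) (tt N16876 (iv4 D54036)) (tt N62746 D117239) (tt N62747 D117240) (tt N21239 F85255))
theorem Q33607 : ∀ i, i < 33607 → P i := stepQ 33606 Q33606 (allL N33606 (tt N62748 D117241) (tt N62749 D117242) (tt N16879 F85258) (tt N21176 F85259) (tt N62747 (iv4 F183451)) (tt N16923 F85260) (tt N16876 (iv6 D54037)) (tt N62750 D117243))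
theorem Q33608 : ∀ i, i < 33608 → P i := stepQ 33607 Q33607 (allL N33607 (tt N42395 (iv1 F106112)) (tt N42394 F106109) (tt N21252 F85261) (tt N62751 D117244) (tt N16877 (iv4 D54038)) (tt N62752 D117245) (tt N62753 D117246) (tt N21255 F85262))
theorem Q33609 : ∀ i, i < 33609 → P i := stepQ 33608 Q33608 (allL N33608 (tt N22522 F131205) (tt N62754 D117247) (tt N21253 F85263) (tt N41961 (iv3 F105184)) (tt N62753 (iv4 F183467)) (tt N62755 D117248) (tt N16877 (iv6 D54039)) (tt N62756 D117249))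
theorem Q33610 : ∀ i, i < 33610 → P i := stepQ 33609 Q33609 (allL N33609 (tt N21239 (iv1 F85264)) (tt N16878 (iv0 D54040)) (tt N21258 (iv2 F85268)) (tt N58950 (iv3 F341450)) (tt N41627 (iv4 F104595)) (tt N42242 (iv5 F105682)) (tt N58949 (iv6 F336969)) (tt N21257 (iv7 F85270)))
theorem Q33611 : ∀ i, i < 33611 → P i := stepQ 33610 Q33610 (allL N33610 (tt N16878 (iv1 D54041)) (tt N21239 F85265) (tt N21257 F85269) (tt N62757 D117252) (tt N20946 (iv4 F85266)) (tt N42243 (iv5 F105687)) (tt N62758 D117253) (tt N21258 F85267))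
theorem Q33612 : ∀ i, i < 33612 → P i := stepQ 33611 Q33611 (allL N33611 (tt N62759 D117254) (tt N62760 D117255) (tt N62746 (iv2 F183445)) (tt N62437 (iv3 F181320)) (tt N62761 D117256) (tt N16878 (iv5 D54042)) (tt N62762 D117257) (tt N21259 F85271))
theorem Q33613 : ∀ i, i < 33613 → P i := stepQ 33612 Q33612 (allL N33612 (tt N35117 F356472) (tt N62763 D117259) (tt N62747 (iv2 F183450)) (tt N42618 (iv3 F319683)) (tt N16879 F85272) (tt N62764 D117260) (tt N16878 (iv6 D54043)) (tt N62765 D117261))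
theorem Q33614 : ∀ i, i < 33614 → P i := stepQ 33613 Q33613 (allL N33613 (tt N62750 (iv1 F183462)) (tt N16879 (iv0 D54044)) (tt N62748 (iv2 F183593)) (tt N21221 F183264) (tt N62766 D117263) (tt N62767 D117264) (tt N42646 F311981) (tt N62749 (iv7 F183592)))
theorem Q33615 : ∀ i, i < 33615 → P i := stepQ 33614 Q33614 (allL N33614 (tt N16879 (iv1 D54045)) (tt N62750 F183461) (tt N62749 (iv2 F183591)) (tt N41964 (iv3 F242957)) (tt N62768 D117268) (tt N62769 D117269) (tt N62770 D117270) (tt N62748 (iv7 F183594)))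
theorem Q33616 : ∀ i, i < 33616 → P i := stepQ 33615 Q33615 (allL N33615 (tt N21216 F180398) (tt N62771 D117271) (tt N16923 F85273) (tt N16883 F85274) (tt N55370 (iv4 F321341)) (tt N16879 (iv5 D54046)) (tt N16880 F85275) (tt N62772 D117273))
theorem Q33617 : ∀ i, i < 33617 → P i := stepQ 33616 Q33616 (allL N33616 (tt N62749 (iv1 F183452)) (tt N62748 F183460) (tt N62750 (iv2 F183456)) (tt N16884 F85276) (tt N62765 (iv4 F183495)) (tt N62772 (iv5 F183515)) (tt N21264 F85277) (tt N16879 (iv7 D54047)))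
theorem Q33618 : ∀ i, i < 33618 → P i := stepQ 33617 Q33617 (allL N33617 (tt N62773 D117274) (tt N41635 (iv0 F104620)) (tt N16922 F85278) (tt N55380 (iv3 F329320)) (tt N16880 (iv4 D54048)) (tt N20150 F328820) (tt N55370 (iv6 F321342)) (tt N16928 F85279))
theorem Q33619 : ∀ i, i < 33619 → P i := stepQ 33618 Q33618 (allL N33618 (tt N21301 (iv1 F242989)) (tt N21281 (iv0 F242990)) (tt N21300 F242968) (tt N16881 (iv3 D54050)) (tt N62774 D117280) (tt N62775 D117281) (tt N17457 F308649) (tt N21218 F105984))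
theorem Q33620 : ∀ i, i < 33620 → P i := stepQ 33619 Q33619 (allL N33619 (tt N33804 F85692) (tt N42321 F105904) (tt N21217 F105987) (tt N62775 (iv3 F183534)) (tt N24021 (iv4 F315408)) (tt N16881 (iv5 D54052)) (tt N62776 D117284) (tt N21219 F105988))
theorem Q33621 : ∀ i, i < 33621 → P i := stepQ 33620 Q33620 (allL N33620 (tt N16923 (iv1 F183639)) (tt N62772 (iv0 F183640)) (tt N62771 F183507) (tt N16882 (iv3 D54055)) (tt N62777 D117287) (tt N62778 D117288) (tt N62779 D117289) (tt N21216 F105976))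
theorem Q33622 : ∀ i, i < 33622 → P i := stepQ 33621 Q33621 (allL N33621 (tt N42321 F105905) (tt N33804 (iv0 F85693)) (tt N21219 F105979) (tt N62778 (iv3 F183547)) (tt N17584 (iv4 F316527)) (tt N16882 (iv5 D54057)) (tt N44592 (iv6 F112634)) (tt N21217 F105980))
theorem Q33623 : ∀ i, i < 33623 → P i := stepQ 33622 Q33622 (allL N33622 (tt N42654 F311046) (tt N41327 F105973) (tt N21220 F105974) (tt N62779 (iv3 F183549)) (tt N22454 F311047) (tt N42327 (iv5 F105964)) (tt N16882 (iv6 D54058)) (tt N23369 F311048))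
theorem Q33624 : ∀ i, i < 33624 → P i := stepQ 33623 Q33623 (allL N33623 (tt N21224 (iv1 F85290)) (tt N16883 (iv0 D54059)) (tt N21221 F183584) (tt N41963 F242962) (tt N46202 (iv4 F317446)) (tt N21459 (iv5 F85292)) (tt N46521 F308213) (tt N21222 F183585))
theorem Q33625 : ∀ i, i < 33625 → P i := stepQ 33624 Q33624 (allL N33624 (tt N16883 (iv1 D54060)) (tt N21224 F85284) (tt N21222 F183589) (tt N62749 (iv3 F183455)) (tt N46200 (iv4 F317443)) (tt N21409 (iv5 F85285)) (tt N40191 F318382) (tt N21221 F183590))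
theorem Q33626 : ∀ i, i < 33626 → P i := stepQ 33625 Q33625 (allL N33625 (tt N21222 (iv1 F85291)) (tt N21221 F85293) (tt N21224 F85288) (tt N62772 (iv3 F183514)) (tt N24007 (iv4 F317586)) (tt N16884 F85289) (tt N42411 (iv6 F106147)) (tt N16883 (iv7 D54062)))
theorem Q33627 : ∀ i, i < 33627 → P i := stepQ 33626 Q33626 (allL N33626 (tt N62780 D117299) (tt N62781 D117300) (tt N42105 (iv2 F319041)) (tt N16885 (iv3 D54063)) (tt N55380 (iv4 F329321)) (tt N42039 F316681) (tt N47915 F321422) (tt N42407 (iv7 F106140)))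
theorem Q33628 : ∀ i, i < 33628 → P i := stepQ 33627 Q33627 (allL N33627 (tt N45188 (iv1 F114737)) (tt N45193 (iv0 F114757)) (tt N21170 F85294) (tt N41620 (iv3 F104575)) (tt N62782 D117302) (tt N16886 (iv5 D54064)) (tt N62783 D117303) (tt N21163 F85295))
theorem Q33629 : ∀ i, i < 33629 → P i := stepQ 33628 Q33628 (allL N33628 (tt N45190 (iv1 F114746)) (tt N29585 F314505) (tt N21171 F85296) (tt N22889 (iv3 F316818)) (tt N16887 (iv4 D54065)) (tt N62784 D117305) (tt N62785 D117306) (tt N21165 F85297))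
theorem Q33630 : ∀ i, i < 33630 → P i := stepQ 33629 Q33629 (allL N33629 (tt N21440 (iv1 F232246)) (tt N16974 (iv0 F232245)) (tt N21172 F85298) (tt N41621 (iv3 F104579)) (tt N62785 (iv4 F183661)) (tt N17100 F85299) (tt N16887 (iv6 D54066)) (tt N21439 F232237))
theorem Q33631 : ∀ i, i < 33631 → P i := stepQ 33630 Q33630 (allL N33630 (tt N21505 F85303) (tt N16936 (iv0 F85304)) (tt N21203 F85300) (tt N16890 F85301) (tt N56062 (iv4 F162467)) (tt N16888 (iv5 D54067)) (tt N62786 D117310) (tt N21169 F85302))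
theorem Q33632 : ∀ i, i < 33632 → P i := stepQ 33631 Q33631 (allL N33631 (tt N45193 (iv1 F114758)) (tt N45188 (iv0 F114736)) (tt N21163 F85308) (tt N50227 (iv3 F139272)) (tt N62787 D117311) (tt N16889 (iv5 D54068)) (tt N62787 (iv6 F335897)) (tt N21170 F85309))
theorem Q33633 : ∀ i, i < 33633 → P i := stepQ 33632 Q33632 (allL N33632 (tt N29585 F314506) (tt N45190 (iv0 F114745)) (tt N21165 F85310) (tt N32825 (iv3 F316822)) (tt N16890 (iv4 D54069)) (tt N62788 D117314) (tt N62789 D117315) (tt N21171 F85311))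
theorem Q33634 : ∀ i, i < 33634 → P i := stepQ 33633 Q33633 (allL N33633 (tt N21462 F247753) (tt N62790 D117317) (tt N21166 F85312) (tt N62786 (iv3 F183671)) (tt N62789 (iv4 F183682)) (tt N62791 D117318) (tt N16890 (iv6 D54070)) (tt N62792 D117319))
theorem Q33635 : ∀ i, i < 33635 → P i := stepQ 33634 Q33634 (allL N33634 (tt N17321 F85316) (tt N21925 F85317) (tt N21167 F85313) (tt N17136 F85314) (tt N62793 D117320) (tt N16891 (iv5 D54071)) (tt N62791 (iv6 F183686)) (tt N17109 F85315))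
theorem Q33636 : ∀ i, i < 33636 → P i := stepQ 33635 Q33635 (allL N33635 (tt N21183 (iv1 F85323)) (tt N21182 F85322) (tt N16897 F85318) (tt N26533 F85319) (tt N62794 D117321) (tt N16892 (iv5 D54072)) (tt N26529 F85320) (tt N21174 F85321))
theorem Q33637 : ∀ i, i < 33637 → P i := stepQ 33636 Q33636 (allL N33636 (tt N21195 F85326) (tt N21194 F85327) (tt N16901 F85324) (tt N62795 D117322) (tt N16893 (iv4 D54073)) (tt N62796 D117323) (tt N62797 D117324) (tt N21175 F85325))
theorem Q33638 : ∀ i, i < 33638 → P i := stepQ 33637 Q33637 (allL N33637 (tt N62798 D117325) (tt N62799 D117326) (tt N16902 F85328) (tt N21240 F85329) (tt N62797 (iv4 F183710)) (tt N45260 (iv5 F114964)) (tt N16893 (iv6 D54074)) (tt N62800 D117327))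
theorem Q33639 : ∀ i, i < 33639 → P i := stepQ 33638 Q33638 (allL N33638 (tt N32540 F85333) (tt N29544 (iv0 F85334)) (tt N21181 F85330) (tt N33602 F85331) (tt N62801 D117328) (tt N16895 (iv5 D54075)) (tt N62802 D117329) (tt N21178 F85332))
theorem Q33640 : ∀ i, i < 33640 → P i := stepQ 33639 Q33639 (allL N33639 (tt N29544 F85338) (tt N32540 (iv0 F85339)) (tt N21178 F85335) (tt N32477 F85336) (tt N41750 F335945) (tt N16896 (iv5 D54076)) (tt N41749 F335946) (tt N21181 F85337))
theorem Q33641 : ∀ i, i < 33641 → P i := stepQ 33640 Q33640 (allL N33640 (tt N21174 (iv1 F85341)) (tt N16897 (iv0 D54077)) (tt N21183 (iv2 F85340)) (tt N36274 (iv3 F94257)) (tt N62803 D117332) (tt N18386 F85343) (tt N62804 D117333) (tt N21182 F85342))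
theorem Q33642 : ∀ i, i < 33642 → P i := stepQ 33641 Q33641 (allL N33641 (tt N62805 D117334) (tt N62806 D117335) (tt N62794 (iv2 F183696)) (tt N62807 D117336) (tt N16897 (iv4 D54078)) (tt N62808 D117337) (tt N62809 D117338) (tt N21184 F85344))
theorem Q33643 : ∀ i, i < 33643 → P i := stepQ 33642 Q33642 (allL N33642 (tt N62810 D117339) (tt N62811 D117340) (tt N26529 F85345) (tt N29534 F85346) (tt N62809 (iv4 F183747)) (tt N26525 F85347) (tt N16897 (iv6 D54079)) (tt N62812 D117341))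
theorem Q33644 : ∀ i, i < 33644 → P i := stepQ 33643 Q33643 (allL N33643 (tt N56046 (iv1 F162419)) (tt N62813 D117342) (tt N21192 F85348) (tt N34692 (iv3 F322799)) (tt N16899 (iv4 D54080)) (tt N61311 (iv5 F322805)) (tt N34690 F321026) (tt N21189 F85349))
theorem Q33645 : ∀ i, i < 33645 → P i := stepQ 33644 Q33644 (allL N33644 (tt N62814 D117346) (tt N41317 (iv0 F232494)) (tt N21193 F85350) (tt N62700 (iv3 F183141)) (tt N34690 (iv4 F318958)) (tt N22013 F85351) (tt N16899 (iv6 D54081)) (tt N61489 F316587))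
theorem Q33646 : ∀ i, i < 33646 → P i := stepQ 33645 Q33645 (allL N33645 (tt N62813 (iv1 F183757)) (tt N56046 (iv0 F162418)) (tt N21189 F85352) (tt N62815 D117349) (tt N16900 (iv4 D54082)) (tt N62816 D117350) (tt N62817 D117351) (tt N21192 F85353))
theorem Q33647 : ∀ i, i < 33647 → P i := stepQ 33646 Q33646 (allL N33646 (tt N41325 (iv1 F233145)) (tt N37522 (iv0 F309948)) (tt N21190 F85354) (tt N21986 F85355) (tt N62817 (iv4 F183779)) (tt N21981 F85356) (tt N16900 (iv6 D54083)) (tt N57422 (iv7 F309951)))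
theorem Q33648 : ∀ i, i < 33648 → P i := stepQ 33647 Q33647 (allL N33647 (tt N21175 (iv1 F85358)) (tt N16901 (iv0 D54084)) (tt N21195 (iv2 F85357)) (tt N62818 D117355) (tt N36305 (iv4 F94341)) (tt N42211 (iv5 F105594)) (tt N62819 D117356) (tt N21194 F85359))
theorem Q33649 : ∀ i, i < 33649 → P i := stepQ 33648 Q33648 (allL N33648 (tt N62820 D117357) (tt N62821 D117358) (tt N62796 (iv2 F183704)) (tt N62383 (iv3 F180976)) (tt N62822 D117359) (tt N16901 (iv5 D54085)) (tt N41762 (iv6 F335880)) (tt N21196 F85360))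
theorem Q33650 : ∀ i, i < 33650 → P i := stepQ 33649 Q33649 (allL N33649 (tt N61726 (iv1 F339802)) (tt N62823 D117362) (tt N62797 (iv2 F183709)) (tt N62384 (iv3 F180978)) (tt N16902 F85361) (tt N41763 F335877) (tt N16901 (iv6 D54086)) (tt N62824 D117364))
theorem Q33651 : ∀ i, i < 33651 → P i := stepQ 33650 Q33650 (allL N33650 (tt N62800 (iv1 F183718)) (tt N16902 (iv0 D54087)) (tt N62798 (iv2 F190255)) (tt N62825 D117366) (tt N62826 D117367) (tt N20710 (iv5 F316981)) (tt N20713 F316807) (tt N62799 (iv7 F190253)))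
theorem Q33652 : ∀ i, i < 33652 → P i := stepQ 33651 Q33651 (allL N33651 (tt N16902 (iv1 D54088)) (tt N62800 F183717) (tt N62799 (iv2 F190252)) (tt N62827 D117371) (tt N62828 D117372) (tt N62829 D117373) (tt N22498 (iv6 F232918)) (tt N62798 (iv7 F190256)))
theorem Q33653 : ∀ i, i < 33653 → P i := stepQ 33652 Q33652 (allL N33652 (tt N62830 D117375) (tt N62831 D117376) (tt N45260 (iv2 F114962)) (tt N16909 F85362) (tt N62832 D117377) (tt N16902 (iv5 D54089)) (tt N16905 F85363) (tt N62833 D117378))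
theorem Q33654 : ∀ i, i < 33654 → P i := stepQ 33653 Q33653 (allL N33653 (tt N62799 (iv1 F183711)) (tt N62798 F183716) (tt N62800 (iv2 F183713)) (tt N16910 F85364) (tt N62824 (iv4 F183802)) (tt N62833 (iv5 F183809)) (tt N21201 F85365) (tt N16902 (iv7 D54090)))
theorem Q33655 : ∀ i, i < 33655 → P i := stepQ 33654 Q33654 (allL N33654 (tt N28133 F85372) (tt N28132 F85371) (tt N26083 F85366) (tt N21251 F85367) (tt N16903 (iv4 D54091)) (tt N26082 F85370) (tt N30673 F85368) (tt N22000 F85369))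
theorem Q33656 : ∀ i, i < 33656 → P i := stepQ 33655 Q33655 (allL N33655 (tt N45313 (iv1 F115136)) (tt N21653 F85374) (tt N45259 (iv2 F114958)) (tt N62834 D117379) (tt N16905 (iv4 D54092)) (tt N28155 F85373) (tt N62832 (iv6 F183807)) (tt N42665 (iv7 F106748)))
theorem Q33657 : ∀ i, i < 33657 → P i := stepQ 33656 Q33656 (allL N33656 (tt N62835 D117380) (tt N16929 F183991) (tt N62836 D117382) (tt N16907 (iv3 D54093)) (tt N62837 D117383) (tt N20655 F318483) (tt N20658 F318484) (tt N21269 F85375))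
theorem Q33658 : ∀ i, i < 33658 → P i := stepQ 33657 Q33657 (allL N33657 (tt N21302 (iv1 F190195)) (tt N21319 (iv0 F190196)) (tt N21317 F190183) (tt N16908 (iv3 D54097)) (tt N62838 D117393) (tt N62461 (iv5 F317991)) (tt N22392 F190184) (tt N21268 F85383))
theorem Q33659 : ∀ i, i < 33659 → P i := stepQ 33658 Q33658 (allL N33658 (tt N16909 (iv1 D54101)) (tt N21272 F85390) (tt N21270 F105721) (tt N62839 D117398) (tt N41713 (iv4 F315576)) (tt N21271 (iv5 F309371)) (tt N62558 F313187) (tt N20758 F313188))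
theorem Q33660 : ∀ i, i < 33660 → P i := stepQ 33659 Q33659 (allL N33659 (tt N21469 (iv1 F312723)) (tt N40834 F314014) (tt N21271 F85392) (tt N62840 D117400) (tt N16909 (iv4 D54102)) (tt N21270 F311592) (tt N16911 F85393) (tt N62560 F314015))
theorem Q33661 : ∀ i, i < 33661 → P i := stepQ 33660 Q33660 (allL N33660 (tt N21270 (iv1 F85397)) (tt N20758 F311599) (tt N21272 F85394) (tt N62833 (iv3 F183808)) (tt N62560 F311600) (tt N16910 F85395) (tt N42667 (iv6 F106762)) (tt N16909 (iv7 D54103)))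
theorem Q33662 : ∀ i, i < 33662 → P i := stepQ 33661 Q33661 (allL N33661 (tt N46107 F123202) (tt N16940 F308207) (tt N62841 D117403) (tt N16911 (iv3 D54104)) (tt N62834 (iv4 F183810)) (tt N34122 (iv5 F86791)) (tt N62840 (iv6 F183868)) (tt N21422 F308208))
theorem Q33663 : ∀ i, i < 33663 → P i := stepQ 33662 Q33662 (allL N33662 (tt N16942 (iv1 F85401)) (tt N16941 F85402) (tt N16946 F85399) (tt N62842 D117404) (tt N16912 (iv4 D54105)) (tt N39159 F328444) (tt N62843 D117405) (tt N16934 F85400))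
theorem Q33664 : ∀ i, i < 33664 → P i := stepQ 33663 Q33663 (allL N33663 (tt N62844 D117406) (tt N62845 D117407) (tt N16950 F85403) (tt N21277 F85404) (tt N62843 (iv4 F183880)) (tt N22136 F85405) (tt N16912 (iv6 D54106)) (tt N62846 D117408))
theorem Q33665 : ∀ i, i < 33665 → P i := stepQ 33664 Q33664 (allL N33664 (tt N16936 (iv1 F85410)) (tt N21505 (iv0 F85409)) (tt N21169 F85406) (tt N21304 F85407) (tt N42223 F319483) (tt N16913 (iv5 D54107)) (tt N62847 D117409) (tt N21203 F85408))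
theorem Q33666 : ∀ i, i < 33666 → P i := stepQ 33665 Q33665 (allL N33665 (tt N20937 F85414) (tt N45095 F114528) (tt N21187 F85412) (tt N50947 (iv3 F143122)) (tt N62848 D117410) (tt N16914 (iv5 D54108)) (tt N62849 D117411) (tt N29535 F85413))
theorem Q33667 : ∀ i, i < 33667 → P i := stepQ 33666 Q33666 (allL N33666 (tt N20568 F322576) (tt N41663 (iv0 F104667)) (tt N21204 F85415) (tt N62850 D117412) (tt N16915 (iv4 D54109)) (tt N62851 D117413) (tt N62852 D117414) (tt N41665 (iv7 F104673)))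
theorem Q33668 : ∀ i, i < 33668 → P i := stepQ 33667 Q33667 (allL N33667 (tt N62853 D117415) (tt N62854 D117416) (tt N21200 F85417) (tt N16923 F85418) (tt N62852 (iv4 F183902)) (tt N21176 F85419) (tt N16915 (iv6 D54110)) (tt N62855 D117417))
theorem Q33669 : ∀ i, i < 33669 → P i := stepQ 33668 Q33668 (allL N33668 (tt N44594 (iv1 F112653)) (tt N60890 F177150) (tt N60780 (iv2 F176871)) (tt N21163 F85420) (tt N20112 F326889) (tt N16917 (iv5 D54111)) (tt N61995 (iv6 F327480)) (tt N41620 (iv7 F104576)))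
theorem Q33670 : ∀ i, i < 33670 → P i := stepQ 33669 Q33669 (allL N33669 (tt N60890 (iv1 F177149)) (tt N44594 (iv0 F112654)) (tt N41620 (iv2 F104574)) (tt N50226 (iv3 F139266)) (tt N20114 F326890) (tt N16918 (iv5 D54112)) (tt N38921 (iv6 F327486)) (tt N60780 (iv7 F176873)))
theorem Q33671 : ∀ i, i < 33671 → P i := stepQ 33670 Q33670 (allL N33670 (tt N32622 F85423) (tt N50183 F139186) (tt N45049 (iv2 F114429)) (tt N16920 F85421) (tt N39630 F106594) (tt N16919 (iv5 D54113)) (tt N37399 F325470) (tt N26896 F85422))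
theorem Q33672 : ∀ i, i < 33672 → P i := stepQ 33671 Q33671 (allL N33671 (tt N16920 (iv1 D54114)) (tt N16926 F85424) (tt N46009 (iv2 F120098)) (tt N32450 (iv3 F85427)) (tt N19420 F325309) (tt N32449 F85426) (tt N37325 (iv6 F326217)) (tt N19417 (iv7 F325873)))
theorem Q33673 : ∀ i, i < 33673 → P i := stepQ 33672 Q33672 (allL N33672 (tt N35921 (iv1 F327559)) (tt N36766 (iv0 F327560)) (tt N36764 (iv2 F327376)) (tt N36723 (iv3 F327562)) (tt N16920 (iv4 D54115)) (tt N20146 (iv5 F327563)) (tt N19139 F327025) (tt N36763 (iv7 F327375)))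
theorem Q33674 : ∀ i, i < 33674 → P i := stepQ 33673 Q33673 (allL N33673 (tt N46009 (iv1 F120102)) (tt N19417 F326694) (tt N16926 F85428) (tt N26896 F85429) (tt N36763 (iv4 F327373)) (tt N16921 F85430) (tt N26893 (iv6 F85431)) (tt N16920 (iv7 D54117)))
theorem Q33675 : ∀ i, i < 33675 → P i := stepQ 33674 Q33674 (allL N33674 (tt N16928 (iv1 F85434)) (tt N16922 (iv0 D54118)) (tt N62773 F183520) (tt N62856 D117431) (tt N20956 F85433) (tt N39576 F328819) (tt N62857 D117433) (tt N41635 (iv7 F104619)))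
theorem Q33676 : ∀ i, i < 33676 → P i := stepQ 33675 Q33675 (allL N33675 (tt N16922 (iv1 D54119)) (tt N16928 F85435) (tt N41635 (iv2 F104618)) (tt N62858 D117434) (tt N36285 F94296) (tt N39261 F328033) (tt N62859 D117436) (tt N62773 (iv7 F183522)))
theorem Q33677 : ∀ i, i < 33677 → P i := stepQ 33676 Q33676 (allL N33676 (tt N62860 D117437) (tt N62861 D117438) (tt N62862 D117439) (tt N16922 (iv3 D54120)) (tt N62850 (iv4 F183896)) (tt N62863 D117440) (tt N62864 D117441) (tt N62865 D117442))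
theorem Q33678 : ∀ i, i < 33678 → P i := stepQ 33677 Q33677 (allL N33677 (tt N20113 (iv1 F328417)) (tt N20111 (iv0 F328416)) (tt N20150 (iv2 F328420)) (tt N62863 (iv3 F183942)) (tt N55925 F328028) (tt N16922 (iv5 D54121)) (tt N20160 (iv6 F328425)) (tt N19897 (iv7 F328418)))
theorem Q33679 : ∀ i, i < 33679 → P i := stepQ 33678 Q33678 (allL N33678 (tt N48697 F319319) (tt N62866 D117448) (tt N55370 (iv2 F321340)) (tt N62864 (iv3 F183943)) (tt N16923 F85436) (tt N55367 (iv5 F321343)) (tt N16922 (iv6 D54122)) (tt N62867 D117450))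
theorem Q33680 : ∀ i, i < 33680 → P i := stepQ 33679 Q33679 (allL N33679 (tt N41635 (iv1 F104621)) (tt N62773 F183521) (tt N16928 F85437) (tt N62865 (iv3 F183944)) (tt N16924 F85438) (tt N19897 F328817) (tt N62868 D117451) (tt N16922 (iv7 D54123)))
theorem Q33681 : ∀ i, i < 33681 → P i := stepQ 33680 Q33680 (allL N33680 (tt N62772 (iv1 F183518)) (tt N16923 (iv0 D54124)) (tt N21216 F183641) (tt N21300 F242969) (tt N62869 D117452) (tt N62870 D117453) (tt N23365 F308666) (tt N62771 F183643))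
theorem Q33682 : ∀ i, i < 33682 → P i := stepQ 33681 Q33681 (allL N33681 (tt N62771 (iv1 F183504)) (tt N21216 F183509) (tt N62772 (iv2 F183513)) (tt N62855 (iv3 F183907)) (tt N62867 (iv4 F183951)) (tt N62750 (iv5 F183458)) (tt N62835 (iv6 F183986)) (tt N16923 (iv7 D54126)))
theorem Q33683 : ∀ i, i < 33683 → P i := stepQ 33682 Q33682 (allL N33682 (tt N62836 (iv1 F183816)) (tt N21269 F130253) (tt N16929 F85439) (tt N45222 (iv3 F114837)) (tt N62868 (iv4 F183953)) (tt N42661 (iv5 F106738)) (tt N16924 (iv6 D54127)) (tt N62835 (iv7 F183987)))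
theorem Q33684 : ∀ i, i < 33684 → P i := stepQ 33683 Q33683 (allL N33683 (tt N36766 (iv1 F327561)) (tt N35921 (iv0 F327558)) (tt N36763 (iv2 F327372)) (tt N19232 (iv3 F327564)) (tt N16926 (iv4 D54128)) (tt N55925 (iv5 F327565)) (tt N62871 D117457) (tt N36764 (iv7 F327378)))
theorem Q33685 : ∀ i, i < 33685 → P i := stepQ 33684 Q33684 (allL N33684 (tt N50230 (iv1 F183971)) (tt N62872 D117459) (tt N26893 F85440) (tt N45048 (iv3 F114427)) (tt N62871 (iv4 F183966)) (tt N26891 F85441) (tt N16926 (iv6 D54129)) (tt N37403 F325919))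
theorem Q33686 : ∀ i, i < 33686 → P i := stepQ 33685 Q33685 (allL N33685 (tt N62873 D117461) (tt N62874 D117462) (tt N62875 D117463) (tt N16928 (iv3 D54130)) (tt N42407 (iv4 F106138)) (tt N20144 F328818) (tt N62876 D117465) (tt N55380 (iv7 F329322)))
theorem Q33687 : ∀ i, i < 33687 → P i := stepQ 33686 Q33686 (allL N33686 (tt N19599 (iv1 F329411)) (tt N62877 D117468) (tt N62868 (iv2 F183952)) (tt N62876 (iv3 F183978)) (tt N16929 F85442) (tt N20149 (iv5 F329416)) (tt N16928 (iv6 D54132)) (tt N62878 D117470))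
theorem Q33688 : ∀ i, i < 33688 → P i := stepQ 33687 Q33687 (allL N33687 (tt N16929 (iv1 D54134)) (tt N62835 (iv0 F183984)) (tt N21269 (iv2 F183988)) (tt N21317 F190190) (tt N62879 D117478) (tt N62880 D117479) (tt N62881 D117480) (tt N62836 (iv7 F183990)))
theorem Q33689 : ∀ i, i < 33689 → P i := stepQ 33688 Q33688 (allL N33688 (tt N62559 (iv1 F313426)) (tt N62882 D117482) (tt N42661 (iv2 F106737)) (tt N21275 F85443) (tt N62883 D117483) (tt N16929 (iv5 D54135)) (tt N16931 F85444) (tt N62884 D117484))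
theorem Q33690 : ∀ i, i < 33690 → P i := stepQ 33689 Q33689 (allL N33689 (tt N21269 F130254) (tt N62836 F183818) (tt N62835 (iv2 F183985)) (tt N42411 (iv3 F106145)) (tt N62878 (iv4 F183979)) (tt N62884 (iv5 F184000)) (tt N62772 (iv6 F183516)) (tt N16929 (iv7 D54136)))
theorem Q33691 : ∀ i, i < 33691 → P i := stepQ 33690 Q33690 (allL N33690 (tt N17453 F85448) (tt N17446 F85449) (tt N17450 F85445) (tt N21320 F85446) (tt N62885 D117485) (tt N16930 (iv5 D54137)) (tt N62886 D117486) (tt N17451 F85447))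
theorem Q33692 : ∀ i, i < 33692 → P i := stepQ 33691 Q33691 (allL N33691 (tt N62543 (iv1 F323294)) (tt N48977 (iv0 F134982)) (tt N42660 (iv2 F106733)) (tt N62887 D117488) (tt N16931 (iv4 D54138)) (tt N46685 (iv5 F125807)) (tt N62883 (iv6 F183998)) (tt N21267 F85450))
theorem Q33693 : ∀ i, i < 33693 → P i := stepQ 33692 Q33692 (allL N33692 (tt N62888 D117489) (tt N41393 (iv0 F104084)) (tt N16937 F85451) (tt N62889 D117490) (tt N16932 (iv4 D54139)) (tt N62890 D117491) (tt N62891 D117492) (tt N16939 F85452))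
theorem Q33694 : ∀ i, i < 33694 → P i := stepQ 33693 Q33693 (allL N33693 (tt N21407 F183454) (tt N62892 D117493) (tt N16938 F85453) (tt N21503 F85454) (tt N62891 (iv4 F184032)) (tt N22555 F85455) (tt N16932 (iv6 D54140)) (tt N40818 F322316))
theorem Q33695 : ∀ i, i < 33695 → P i := stepQ 33694 Q33694 (allL N33694 (tt N21169 (iv1 F85461)) (tt N21203 (iv0 F85460)) (tt N21505 F85456) (tt N16933 (iv3 D54141)) (tt N29736 F85459) (tt N17538 F85457) (tt N52574 (iv6 F309807)) (tt N16936 F85458))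
theorem Q33696 : ∀ i, i < 33696 → P i := stepQ 33695 Q33695 (allL N33695 (tt N41393 (iv1 F104085)) (tt N62888 F184023) (tt N16939 F85462) (tt N62893 D117496) (tt N16933 (iv4 D54142)) (tt N62894 D117497) (tt N34876 F312495) (tt N16937 F85463))
theorem Q33697 : ∀ i, i < 33697 → P i := stepQ 33696 Q33696 (allL N33696 (tt N62841 F308214) (tt N21422 F112123) (tt N16940 F85464) (tt N52574 (iv3 F309805)) (tt N34876 (iv4 F310225)) (tt N34411 (iv5 F87488)) (tt N16933 (iv6 D54143)) (tt N46107 F308215))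
theorem Q33698 : ∀ i, i < 33698 → P i := stepQ 33697 Q33697 (allL N33697 (tt N16946 (iv1 F85466)) (tt N16934 (iv0 D54144)) (tt N16941 F85498) (tt N62895 D117501) (tt N18444 F85465) (tt N62896 D117502) (tt N62897 D117503) (tt N16942 F85499))
theorem Q33699 : ∀ i, i < 33699 → P i := stepQ 33698 Q33698 (allL N33698 (tt N16934 (iv1 D54145)) (tt N16946 F85467) (tt N16942 (iv2 F85500)) (tt N62898 D117504) (tt N45192 (iv4 F114753)) (tt N62899 D117505) (tt N62900 D117506) (tt N16941 (iv7 F85501)))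
theorem Q33700 : ∀ i, i < 33700 → P i := stepQ 33699 Q33699 (allL N33699 (tt N62901 D117507) (tt N62902 D117508) (tt N62903 D117509) (tt N16934 (iv3 D54146)) (tt N21332 F85468) (tt N39645 F329018) (tt N62904 D117511) (tt N62842 (iv7 F183878)))
theorem Q33701 : ∀ i, i < 33701 → P i := stepQ 33700 Q33700 (allL N33700 (tt N62905 D117515) (tt N62906 D117516) (tt N16945 F85470) (tt N62904 (iv3 F184085)) (tt N16935 F85471) (tt N62907 D117517) (tt N16934 (iv6 D54148)) (tt N62908 D117518))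
theorem Q33702 : ∀ i, i < 33702 → P i := stepQ 33701 Q33701 (allL N33701 (tt N16949 (iv1 F85477)) (tt N16935 (iv0 D54149)) (tt N16947 F113754) (tt N34559 (iv3 F130894)) (tt N62909 D117519) (tt N62910 D117520) (tt N34556 (iv6 F130881)) (tt N16948 F113755))
theorem Q33703 : ∀ i, i < 33703 → P i := stepQ 33702 Q33702 (allL N33702 (tt N16935 (iv1 D54150)) (tt N16949 F85472) (tt N16948 F113752) (tt N62911 D117521) (tt N62912 D117522) (tt N23056 (iv5 F85473)) (tt N62913 D117523) (tt N16947 F113753))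
theorem Q33704 : ∀ i, i < 33704 → P i := stepQ 33703 Q33703 (allL N33703 (tt N16948 (iv1 F85478)) (tt N16947 F85479) (tt N16949 F85474) (tt N21337 F85475) (tt N62908 (iv4 F184099)) (tt N17219 F85476) (tt N62846 (iv6 F183885)) (tt N16935 (iv7 D54151)))
theorem Q33705 : ∀ i, i < 33705 → P i := stepQ 33704 Q33704 (allL N33704 (tt N29739 F85482) (tt N29729 F85483) (tt N29733 F316385) (tt N62914 D117524) (tt N16936 (iv4 D54152)) (tt N40609 F320802) (tt N29727 (iv6 F318665)) (tt N29736 F85481))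
theorem Q33706 : ∀ i, i < 33706 → P i := stepQ 33705 Q33705 (allL N33705 (tt N41806 F317199) (tt N41731 F317200) (tt N29732 F317201) (tt N16938 F85484) (tt N29727 (iv4 F318664)) (tt N40815 F322320) (tt N16936 (iv6 D54153)) (tt N29735 F317202))
theorem Q33707 : ∀ i, i < 33707 → P i := stepQ 33706 Q33706 (allL N33706 (tt N16939 (iv1 F85486)) (tt N16937 (iv0 D54154)) (tt N62888 F184022) (tt N62915 D117531) (tt N33567 F85485) (tt N20113 F328816) (tt N62916 D117532) (tt N41393 (iv7 F104083)))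
theorem Q33708 : ∀ i, i < 33708 → P i := stepQ 33707 Q33707 (allL N33707 (tt N16937 (iv1 D54155)) (tt N16939 F85487) (tt N41393 (iv2 F104082)) (tt N62917 D117533) (tt N36284 (iv4 F94292)) (tt N20111 F328815) (tt N62918 D117534) (tt N62888 (iv7 F184024)))
theorem Q33709 : ∀ i, i < 33709 → P i := stepQ 33708 Q33708 (allL N33708 (tt N62919 D117535) (tt N62920 D117536) (tt N62921 D117537) (tt N16937 (iv3 D54156)) (tt N62914 (iv4 F184119)) (tt N62922 D117538) (tt N41857 F347737) (tt N62893 (iv7 F184050)))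
theorem Q33710 : ∀ i, i < 33710 → P i := stepQ 33709 Q33709 (allL N33709 (tt N38240 F328430) (tt N62923 D117541) (tt N62890 (iv2 F184027)) (tt N62922 (iv3 F184136)) (tt N60893 (iv4 F177152)) (tt N16937 (iv5 D54157)) (tt N58531 (iv6 F328827)) (tt N62894 (iv7 F184052)))
theorem Q33711 : ∀ i, i < 33711 → P i := stepQ 33710 Q33710 (allL N33710 (tt N62924 D117543) (tt N62925 D117544) (tt N62891 (iv2 F184031)) (tt N41857 F347736) (tt N16938 F85488) (tt N62926 D117545) (tt N16937 (iv6 D54158)) (tt N62927 D117546))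
theorem Q33712 : ∀ i, i < 33712 → P i := stepQ 33711 Q33711 (allL N33711 (tt N40818 F322323) (tt N16938 (iv0 D54159)) (tt N21407 F183596) (tt N21346 F242919) (tt N62928 D117548) (tt N48046 (iv5 F200239)) (tt N62769 F183503) (tt N62892 (iv7 F184034)))
theorem Q33713 : ∀ i, i < 33713 → P i := stepQ 33712 Q33712 (allL N33712 (tt N16938 (iv1 D54160)) (tt N40818 F322324) (tt N62892 F184035) (tt N16956 F183597) (tt N62929 D117550) (tt N48045 (iv5 F200299)) (tt N62930 D117552) (tt N21407 F183598))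
theorem Q33714 : ∀ i, i < 33714 → P i := stepQ 33713 Q33713 (allL N33713 (tt N62892 (iv1 F184033)) (tt N21407 F184037) (tt N40818 F322325) (tt N29735 F317214) (tt N62927 (iv4 F184146)) (tt N40787 F321228) (tt N46107 F309893) (tt N16938 (iv7 D54162)))
theorem Q33715 : ∀ i, i < 33715 → P i := stepQ 33714 Q33714 (allL N33714 (tt N62931 D117557) (tt N62932 D117558) (tt N43465 (iv2 F314959)) (tt N16939 (iv3 D54163)) (tt N44595 (iv4 F112656)) (tt N62933 D117560) (tt N22310 F312499) (tt N62889 (iv7 F184026)))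
theorem Q33716 : ∀ i, i < 33716 → P i := stepQ 33715 Q33715 (allL N33715 (tt N62923 (iv1 F184142)) (tt N38240 F328429) (tt N62894 (iv2 F184051)) (tt N62933 (iv3 F184172)) (tt N60891 (iv4 F177151)) (tt N16939 (iv5 D54164)) (tt N62934 D117562) (tt N62890 (iv7 F184028)))
theorem Q33717 : ∀ i, i < 33717 → P i := stepQ 33716 Q33716 (allL N33716 (tt N17734 (iv1 F310226)) (tt N45206 (iv0 F310227)) (tt N34876 (iv2 F310224)) (tt N22310 (iv3 F310228)) (tt N16940 F85491) (tt N34487 (iv5 F310229)) (tt N16939 (iv6 D54165)) (tt N34878 (iv7 F310173)))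
theorem Q33718 : ∀ i, i < 33718 → P i := stepQ 33717 Q33717 (allL N33717 (tt N16940 (iv1 D54167)) (tt N46107 (iv0 F307883)) (tt N21422 (iv2 F186330)) (tt N21354 (iv3 F190431)) (tt N62935 D117574) (tt N45569 F305936) (tt N44875 (iv6 F186335)) (tt N62841 (iv7 F307803)))
theorem Q33719 : ∀ i, i < 33719 → P i := stepQ 33718 Q33718 (allL N33718 (tt N21422 F112124) (tt N62841 F308138) (tt N46107 F308139) (tt N44598 (iv3 F112662)) (tt N34878 (iv4 F310172)) (tt N45306 F308140) (tt N40818 F322332) (tt N16940 (iv7 D54169)))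
theorem Q33720 : ∀ i, i < 33720 → P i := stepQ 33719 Q33719 (allL N33719 (tt N61151 (iv1 F349956)) (tt N61150 (iv0 F349952)) (tt N62936 D117583) (tt N16941 (iv3 D54171)) (tt N62937 D117584) (tt N62938 D117585) (tt N62939 D117586) (tt N62898 (iv7 F184073)))
theorem Q33721 : ∀ i, i < 33721 → P i := stepQ 33720 Q33720 (allL N33720 (tt N60862 (iv1 F177059)) (tt N20967 F85496) (tt N18444 (iv2 F85497)) (tt N45187 (iv3 F114728)) (tt N16941 (iv4 D54172)) (tt N20954 F85495) (tt N62940 D117587) (tt N45192 (iv7 F114750)))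
theorem Q33722 : ∀ i, i < 33722 → P i := stepQ 33721 Q33721 (allL N33721 (tt N39268 (iv1 F327693)) (tt N39566 (iv0 F327690)) (tt N62896 (iv2 F184067)) (tt N62938 (iv3 F184184)) (tt N39263 F327476) (tt N16941 (iv5 D54173)) (tt N39427 (iv6 F327987)) (tt N62899 (iv7 F184075)))
theorem Q33723 : ∀ i, i < 33723 → P i := stepQ 33722 Q33722 (allL N33722 (tt N62928 (iv1 F251050)) (tt N62929 (iv0 F251049)) (tt N62897 (iv2 F184071)) (tt N62939 (iv3 F184185)) (tt N62940 (iv4 F184187)) (tt N62941 D117592) (tt N16941 (iv6 D54174)) (tt N62942 D117593))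
theorem Q33724 : ∀ i, i < 33724 → P i := stepQ 33723 Q33723 (allL N33723 (tt N54487 (iv1 F319200)) (tt N54485 (iv0 F319202)) (tt N49643 (iv2 F319203)) (tt N16942 (iv3 D54175)) (tt N27644 (iv4 F317865)) (tt N28841 (iv5 F319206)) (tt N27643 F316858) (tt N62895 (iv7 F184066)))
theorem Q33725 : ∀ i, i < 33725 → P i := stepQ 33724 Q33724 (allL N33724 (tt N20967 F85505) (tt N60862 (iv0 F177058)) (tt N45192 (iv2 F114748)) (tt N18441 F85504) (tt N16942 (iv4 D54176)) (tt N20920 F85503) (tt N27587 F312210) (tt N18444 F85502))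
theorem Q33726 : ∀ i, i < 33726 → P i := stepQ 33725 Q33725 (allL N33725 (tt N39566 (iv1 F327691)) (tt N39268 (iv0 F327692)) (tt N62899 (iv2 F184074)) (tt N28841 (iv3 F319205)) (tt N39262 F327148) (tt N16942 (iv5 D54177)) (tt N28838 (iv6 F319207)) (tt N62896 (iv7 F184068)))
theorem Q33727 : ∀ i, i < 33727 → P i := stepQ 33726 Q33726 (allL N33726 (tt N62834 F312207) (tt N62935 (iv0 F266253)) (tt N62900 (iv2 F184078)) (tt N27643 (iv3 F314531)) (tt N27587 F312208) (tt N21788 (iv5 F314532)) (tt N16942 (iv6 D54178)) (tt N46607 F312209))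
theorem Q33728 : ∀ i, i < 33728 → P i := stepQ 33727 Q33727 (allL N33727 (tt N20729 (iv1 F85506)) (tt N16943 (iv0 D54179)) (tt N20736 F177249) (tt N62943 D117605) (tt N62311 (iv4 F320915)) (tt N62944 D117607) (tt N62310 (iv6 F322682)) (tt N20735 F177250))
theorem Q33729 : ∀ i, i < 33729 → P i := stepQ 33728 Q33728 (allL N33728 (tt N16943 (iv1 D54180)) (tt N20729 F85510) (tt N20735 F177247) (tt N62945 D117609) (tt N21654 F320235) (tt N62946 D117610) (tt N21653 (iv6 F321912)) (tt N20736 F177248))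
theorem Q33730 : ∀ i, i < 33730 → P i := stepQ 33729 Q33729 (allL N33729 (tt N20736 (iv1 F85511)) (tt N20735 F85509) (tt N16943 (iv2 D54181)) (tt N62903 (iv3 F184080)) (tt N16964 F85507) (tt N62947 D117612) (tt N62948 D117613) (tt N20729 F85508))
theorem Q33731 : ∀ i, i < 33731 → P i := stepQ 33730 Q33730 (allL N33730 (tt N62949 D117614) (tt N62950 D117615) (tt N62947 (iv2 F184212)) (tt N16944 F85512) (tt N40552 (iv4 F328846)) (tt N16943 (iv5 D54182)) (tt N62951 D117617) (tt N20737 F85513))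
theorem Q33732 : ∀ i, i < 33732 → P i := stepQ 33731 Q33731 (allL N33731 (tt N62952 D117618) (tt N62953 D117619) (tt N62948 (iv2 F184217)) (tt N16945 F85514) (tt N16965 F85515) (tt N62954 D117620) (tt N16943 (iv6 D54183)) (tt N62955 D117621))
theorem Q33733 : ∀ i, i < 33733 → P i := stepQ 33732 Q33732 (allL N33732 (tt N55925 F328024) (tt N20146 F328025) (tt N31499 (iv2 F328374)) (tt N31424 (iv3 F328403)) (tt N16944 (iv4 D54186)) (tt N60857 (iv5 F177041)) (tt N62956 D117627) (tt N39646 (iv7 F328371)))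
theorem Q33734 : ∀ i, i < 33734 → P i := stepQ 33733 Q33733 (allL N33733 (tt N33098 (iv1 F328848)) (tt N39319 (iv0 F328849)) (tt N39317 (iv2 F328845)) (tt N62951 (iv3 F184224)) (tt N62956 (iv4 F184230)) (tt N39485 (iv5 F328850)) (tt N16944 (iv6 D54187)) (tt N39316 (iv7 F328851)))
theorem Q33735 : ∀ i, i < 33735 → P i := stepQ 33734 Q33734 (allL N33734 (tt N62908 (iv1 F184103)) (tt N16945 (iv0 D54189)) (tt N62905 (iv2 F233831)) (tt N54618 (iv3 F352984)) (tt N62957 D117635) (tt N54617 (iv5 F352985)) (tt N62958 D117637) (tt N62906 (iv7 F233834)))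
theorem Q33736 : ∀ i, i < 33736 → P i := stepQ 33735 Q33735 (allL N33735 (tt N16945 (iv1 D54190)) (tt N62908 F184101) (tt N62906 (iv2 F233833)) (tt N49410 (iv3 F346063)) (tt N62959 D117640) (tt N54616 (iv5 F346065)) (tt N49407 (iv6 F346066)) (tt N62905 (iv7 F233832)))
theorem Q33737 : ∀ i, i < 33737 → P i := stepQ 33736 Q33736 (allL N33736 (tt N62960 D117643) (tt N62961 D117644) (tt N62907 (iv2 F184097)) (tt N62954 (iv3 F184225)) (tt N62962 D117645) (tt N16945 (iv5 D54191)) (tt N39485 F329193) (tt N62963 D117646))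
theorem Q33738 : ∀ i, i < 33738 → P i := stepQ 33737 Q33737 (allL N33737 (tt N62906 (iv1 F184096)) (tt N62905 F184100) (tt N62908 (iv2 F184098)) (tt N62955 (iv3 F184226)) (tt N16949 F85518) (tt N62963 (iv5 F184236)) (tt N62964 D117647) (tt N16945 (iv7 D54192)))
theorem Q33739 : ∀ i, i < 33739 → P i := stepQ 33738 Q33738 (allL N33738 (tt N62965 D117648) (tt N62966 D117649) (tt N62843 (iv2 F183879)) (tt N20738 F85519) (tt N16950 F85520) (tt N62967 D117650) (tt N16946 (iv6 D54193)) (tt N62964 (iv7 F184239)))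
theorem Q33740 : ∀ i, i < 33740 → P i := stepQ 33739 Q33739 (allL N33739 (tt N62968 D117651) (tt N62847 (iv0 F232272)) (tt N44882 F130893) (tt N16947 (iv3 D54195)) (tt N62969 D117653) (tt N62970 D117654) (tt N43085 (iv6 F232544)) (tt N62911 (iv7 F184112)))
theorem Q33741 : ∀ i, i < 33741 → P i := stepQ 33740 Q33740 (allL N33740 (tt N62971 D117655) (tt N62918 (iv0 F204823)) (tt N62909 (iv2 F184104)) (tt N62972 D117657) (tt N16947 (iv4 D54196)) (tt N62973 D117658) (tt N62974 D117659) (tt N62912 (iv7 F184115)))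
theorem Q33742 : ∀ i, i < 33742 → P i := stepQ 33741 Q33741 (allL N33741 (tt N62975 D117660) (tt N22156 F130475) (tt N62910 (iv2 F184106)) (tt N62970 (iv3 F184250)) (tt N62976 D117661) (tt N16947 (iv5 D54197)) (tt N43975 F110336) (tt N23056 F113751))
theorem Q33743 : ∀ i, i < 33743 → P i := stepQ 33742 Q33742 (allL N33742 (tt N44875 (iv1 F130929)) (tt N44874 F130927) (tt N34556 (iv2 F130880)) (tt N43085 (iv3 F232543)) (tt N62974 (iv4 F184254)) (tt N23888 F85522) (tt N16947 (iv6 D54198)) (tt N43300 (iv7 F113759)))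
theorem Q33744 : ∀ i, i < 33744 → P i := stepQ 33743 Q33743 (allL N33743 (tt N21143 F130895) (tt N39989 F312218) (tt N44884 F130897) (tt N16948 (iv3 D54200)) (tt N37084 (iv4 F318354)) (tt N42741 F130898) (tt N42321 F130899) (tt N34559 F130900))
theorem Q33745 : ∀ i, i < 33745 → P i := stepQ 33744 Q33744 (allL N33744 (tt N62918 (iv1 F204824)) (tt N62971 F184252) (tt N62912 (iv2 F184114)) (tt N49869 (iv3 F345998)) (tt N16948 (iv4 D54201)) (tt N62977 D117664) (tt N49865 (iv6 F345994)) (tt N62909 (iv7 F184105)))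
theorem Q33746 : ∀ i, i < 33746 → P i := stepQ 33745 Q33745 (allL N33745 (tt N22156 F131625) (tt N62975 F184258) (tt N23056 F113762) (tt N42741 (iv3 F130923)) (tt N62978 D117666) (tt N16948 (iv5 D54202)) (tt N23052 F85524) (tt N62910 (iv7 F184108)))
theorem Q33747 : ∀ i, i < 33747 → P i := stepQ 33746 Q33746 (allL N33746 (tt N62767 F184260) (tt N62769 (iv0 F230372)) (tt N62913 (iv2 F184116)) (tt N42321 (iv3 F130901)) (tt N49865 (iv4 F345993)) (tt N42318 F130902) (tt N16948 (iv6 D54203)) (tt N42317 F130903))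
theorem Q33748 : ∀ i, i < 33748 → P i := stepQ 33747 Q33747 (allL N33747 (tt N62845 (iv1 F183881)) (tt N62844 F183886) (tt N62846 (iv2 F183882)) (tt N16978 F85525) (tt N62964 (iv4 F184238)) (tt N22735 F318292) (tt N16949 (iv6 D54204)) (tt N16950 F85527))
theorem Q33749 : ∀ i, i < 33749 → P i := stepQ 33748 Q33748 (allL N33748 (tt N62846 (iv1 F183888)) (tt N16950 (iv0 D54205)) (tt N62844 (iv2 F237563)) (tt N62979 D117669) (tt N62980 D117670) (tt N62981 D117671) (tt N62982 D117672) (tt N62845 (iv7 F237567)))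
theorem Q33750 : ∀ i, i < 33750 → P i := stepQ 33749 Q33749 (allL N33749 (tt N16950 (iv1 D54206)) (tt N62846 F183887) (tt N62845 (iv2 F237566)) (tt N20370 F317762) (tt N62983 D117675) (tt N20366 (iv5 F318281)) (tt N62984 D117677) (tt N62844 (iv7 F237564)))
theorem Q33751 : ∀ i, i < 33751 → P i := stepQ 33750 Q33750 (allL N33750 (tt N62985 D117678) (tt N39956 F318398) (tt N22136 F85528) (tt N16981 F85529) (tt N62986 D117680) (tt N16950 (iv5 D54207)) (tt N16951 F85530) (tt N22735 F318293))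
theorem Q33752 : ∀ i, i < 33752 → P i := stepQ 33751 Q33751 (allL N33751 (tt N17149 (iv1 F85534)) (tt N16951 (iv0 D54208)) (tt N17262 (iv2 F85533)) (tt N36253 (iv3 F94205)) (tt N62987 D117681) (tt N21501 F85532) (tt N33423 F320933) (tt N17261 F85535))
theorem Q33753 : ∀ i, i < 33753 → P i := stepQ 33752 Q33752 (allL N33752 (tt N62988 D117683) (tt N62989 D117684) (tt N22135 F85536) (tt N44121 (iv3 F110855)) (tt N16951 (iv4 D54209)) (tt N62990 D117685) (tt N62986 (iv6 F184273)) (tt N17263 F85537))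
theorem Q33754 : ∀ i, i < 33754 → P i := stepQ 33753 Q33753 (allL N33753 (tt N21415 F85540) (tt N21414 F85541) (tt N16953 F85538) (tt N62991 D117686) (tt N16952 (iv4 D54210)) (tt N62992 D117687) (tt N62993 D117688) (tt N21412 F85539))
theorem Q33755 : ∀ i, i < 33755 → P i := stepQ 33754 Q33754 (allL N33754 (tt N62994 D117689) (tt N62995 D117690) (tt N16954 F85542) (tt N21398 F85543) (tt N62993 (iv4 F184298)) (tt N33423 F320932) (tt N16952 (iv6 D54211)) (tt N62996 D117691))
theorem Q33756 : ∀ i, i < 33756 → P i := stepQ 33755 Q33755 (allL N33755 (tt N21412 (iv1 F85544)) (tt N16953 (iv0 D54212)) (tt N21415 (iv2 F85548)) (tt N62997 D117692) (tt N41385 (iv4 F104077)) (tt N62759 (iv5 F183484)) (tt N62998 D117693) (tt N21414 (iv7 F85550)))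
theorem Q33757 : ∀ i, i < 33757 → P i := stepQ 33756 Q33756 (allL N33756 (tt N16953 (iv1 D54213)) (tt N21412 F85545) (tt N21414 F85549) (tt N62999 D117694) (tt N33564 (iv4 F85546)) (tt N62760 (iv5 F183490)) (tt N63000 D117695) (tt N21415 F85547))
theorem Q33758 : ∀ i, i < 33758 → P i := stepQ 33757 Q33757 (allL N33757 (tt N41910 (iv1 F105672)) (tt N41913 (iv0 F105066)) (tt N62992 (iv2 F184293)) (tt N62320 (iv3 F180794)) (tt N63001 D117696) (tt N16953 (iv5 D54214)) (tt N63002 D117697) (tt N21416 F85551))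
theorem Q33759 : ∀ i, i < 33759 → P i := stepQ 33758 Q33758 (allL N33758 (tt N63003 D117698) (tt N63004 D117699) (tt N62993 (iv2 F184297)) (tt N20736 F320918) (tt N16954 F85552) (tt N63005 D117700) (tt N16953 (iv6 D54215)) (tt N62945 (iv7 F321910)))
theorem Q33760 : ∀ i, i < 33760 → P i := stepQ 33759 Q33759 (allL N33759 (tt N62996 (iv1 F184313)) (tt N16954 (iv0 D54216)) (tt N62994 F184300) (tt N44592 (iv3 F183646)) (tt N63006 D117702) (tt N48006 F130443) (tt N62778 F183645) (tt N62995 (iv7 F184303)))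
theorem Q33761 : ∀ i, i < 33761 → P i := stepQ 33760 Q33760 (allL N33760 (tt N16954 (iv1 D54217)) (tt N62996 F184312) (tt N62995 F184304) (tt N51720 (iv3 F337297)) (tt N63007 D117704) (tt N48005 (iv5 F130440)) (tt N63008 D117705) (tt N62994 F184301))
theorem Q33762 : ∀ i, i < 33762 → P i := stepQ 33761 Q33761 (allL N33761 (tt N62995 (iv1 F184302)) (tt N62994 F184308) (tt N62996 (iv2 F184309)) (tt N16957 F85555) (tt N62945 (iv4 F321908)) (tt N33335 F316847) (tt N21421 F85556) (tt N16954 (iv7 D54219)))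
theorem Q33763 : ∀ i, i < 33763 → P i := stepQ 33762 Q33762 (allL N33762 (tt N21349 (iv1 F242921)) (tt N21326 (iv0 F242920)) (tt N21346 F242917) (tt N16955 (iv3 D54221)) (tt N63009 D117712) (tt N63010 D117713) (tt N63011 D117714) (tt N21347 F242918))
theorem Q33764 : ∀ i, i < 33764 → P i := stepQ 33763 Q33763 (allL N33763 (tt N19431 F313606) (tt N33292 F313607) (tt N21408 F183579) (tt N63010 (iv3 F184332)) (tt N19245 (iv4 F316118)) (tt N16955 (iv5 D54223)) (tt N31110 (iv6 F316061)) (tt N21410 F183580))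
theorem Q33765 : ∀ i, i < 33765 → P i := stepQ 33764 Q33764 (allL N33764 (tt N16977 F85954) (tt N21461 F85955) (tt N21409 F183581) (tt N63011 (iv3 F184334)) (tt N34295 (iv4 F313196)) (tt N21222 F85558) (tt N16955 (iv6 D54224)) (tt N21459 F183582))
theorem Q33766 : ∀ i, i < 33766 → P i := stepQ 33765 Q33765 (allL N33765 (tt N33292 F313604) (tt N19431 F313605) (tt N21410 F183558) (tt N48045 (iv3 F200298)) (tt N19244 (iv4 F316116)) (tt N16956 (iv5 D54228)) (tt N34054 (iv6 F86617)) (tt N21408 F183559))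
theorem Q33767 : ∀ i, i < 33767 → P i := stepQ 33766 Q33766 (allL N33766 (tt N37387 F183564) (tt N21465 F183565) (tt N21411 F183566) (tt N62930 (iv3 F184156)) (tt N42678 F313309) (tt N23934 F306179) (tt N16956 (iv6 D54229)) (tt N63012 D117720))
theorem Q33768 : ∀ i, i < 33768 → P i := stepQ 33767 Q33767 (allL N33767 (tt N21400 F85576) (tt N21399 F85577) (tt N16959 F85574) (tt N36466 (iv3 F314114)) (tt N16958 (iv4 D54234)) (tt N63013 D117727) (tt N23140 F311643) (tt N21397 F85575))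
theorem Q33769 : ∀ i, i < 33769 → P i := stepQ 33768 Q33768 (allL N33768 (tt N45071 (iv1 F309431)) (tt N21538 (iv0 F308060)) (tt N16960 F85578) (tt N21413 F85579) (tt N23140 (iv4 F309433)) (tt N44492 (iv5 F112308)) (tt N16958 (iv6 D54235)) (tt N29755 (iv7 F309415)))
theorem Q33770 : ∀ i, i < 33770 → P i := stepQ 33769 Q33769 (allL N33769 (tt N21397 (iv1 F85580)) (tt N16959 (iv0 D54236)) (tt N21400 (iv2 F85584)) (tt N43198 (iv3 F316764)) (tt N36301 (iv4 F94328)) (tt N62820 (iv5 F183791)) (tt N63014 D117733) (tt N21399 (iv7 F85586)))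
theorem Q33771 : ∀ i, i < 33771 → P i := stepQ 33770 Q33770 (allL N33770 (tt N16959 (iv1 D54237)) (tt N21397 F85581) (tt N21399 F85585) (tt N63015 D117734) (tt N33490 (iv4 F85582)) (tt N62821 (iv5 F183797)) (tt N63016 D117735) (tt N21400 F85583))
theorem Q33772 : ∀ i, i < 33772 → P i := stepQ 33771 Q33771 (allL N33771 (tt N41784 (iv1 F104895)) (tt N41787 (iv0 F104897)) (tt N63013 (iv2 F184378)) (tt N62245 (iv3 F180378)) (tt N63017 D117736) (tt N16959 (iv5 D54238)) (tt N29772 (iv6 F316772)) (tt N21401 F85587))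
theorem Q33773 : ∀ i, i < 33773 → P i := stepQ 33772 Q33772 (allL N33772 (tt N16960 (iv1 D54241)) (tt N29755 (iv0 F309413)) (tt N21538 F309374) (tt N63018 D117748) (tt N21533 (iv4 F311601)) (tt N29763 F309375) (tt N44498 F314475) (tt N45071 (iv7 F309432)))
theorem Q33774 : ∀ i, i < 33774 → P i := stepQ 33773 Q33773 (allL N33773 (tt N21329 F190801) (tt N21356 (iv0 F190802)) (tt N21354 F190432) (tt N16961 (iv3 D54249)) (tt N62887 (iv4 F305628)) (tt N24277 F304563) (tt N63019 D117765) (tt N21273 (iv7 F305626)))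
theorem Q33775 : ∀ i, i < 33775 → P i := stepQ 33774 Q33774 (allL N33774 (tt N21452 (iv1 F85668)) (tt N16973 (iv0 F85597)) (tt N21424 F105740) (tt N63019 (iv3 F184438)) (tt N21275 (iv4 F308394)) (tt N63020 D117767) (tt N16961 (iv6 D54252)) (tt N21450 F105741))
theorem Q33776 : ∀ i, i < 33776 → P i := stepQ 33775 Q33775 (allL N33775 (tt N62451 (iv1 F184459)) (tt N63021 D117774) (tt N63022 D117775) (tt N16962 (iv3 D54254)) (tt N56029 F162365) (tt N58550 (iv5 F169672)) (tt N63022 (iv6 F321929)) (tt N20731 (iv7 F205096)))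
theorem Q33777 : ∀ i, i < 33777 → P i := stepQ 33776 Q33776 (allL N33776 (tt N63023 D117778) (tt N63024 D117779) (tt N20734 F205091) (tt N63025 D117780) (tt N16962 (iv4 D54255)) (tt N63026 D117781) (tt N63027 D117782) (tt N20732 (iv7 F205098)))
theorem Q33778 : ∀ i, i < 33778 → P i := stepQ 33777 Q33777 (allL N33777 (tt N45266 (iv1 F321939)) (tt N42677 (iv0 F321940)) (tt N20733 F320243) (tt N63022 (iv3 F321928)) (tt N63027 (iv4 F184470)) (tt N62672 (iv5 F321946)) (tt N16962 (iv6 D54257)) (tt N45253 (iv7 F321938)))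
theorem Q33779 : ∀ i, i < 33779 → P i := stepQ 33778 Q33778 (allL N33778 (tt N63024 (iv1 F184467)) (tt N63023 F184465) (tt N20732 (iv2 F205097)) (tt N34852 (iv3 F321926)) (tt N16963 (iv4 D54260)) (tt N63028 D117794) (tt N34850 (iv6 F321927)) (tt N20734 F205094))
theorem Q33780 : ∀ i, i < 33780 → P i := stepQ 33779 Q33779 (allL N33779 (tt N63029 D117800) (tt N43920 F315970) (tt N16965 F85600) (tt N21428 F85601) (tt N62948 (iv4 F184218)) (tt N63030 D117802) (tt N16964 (iv6 D54263)) (tt N63031 D117803))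
theorem Q33781 : ∀ i, i < 33781 → P i := stepQ 33780 Q33780 (allL N33780 (tt N63031 (iv1 F184493)) (tt N16965 (iv0 D54264)) (tt N63029 (iv2 F356840)) (tt N63032 D117805) (tt N63033 D117806) (tt N53929 (iv5 F332502)) (tt N63034 D117808) (tt N43920 (iv7 F318163)))
theorem Q33782 : ∀ i, i < 33782 → P i := stepQ 33781 Q33781 (allL N33781 (tt N16965 (iv1 D54265)) (tt N63031 F184492) (tt N43920 (iv2 F318162)) (tt N63035 D117810) (tt N63036 D117811) (tt N43097 (iv5 F318168)) (tt N43901 (iv6 F318169)) (tt N63029 (iv7 F356842)))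
theorem Q33783 : ∀ i, i < 33783 → P i := stepQ 33782 Q33782 (allL N33782 (tt N22003 (iv1 F316795)) (tt N63037 D117815) (tt N63030 (iv2 F184485)) (tt N16968 F85602) (tt N63038 D117816) (tt N16965 (iv5 D54266)) (tt N20744 F85603) (tt N38280 F314485))
theorem Q33784 : ∀ i, i < 33784 → P i := stepQ 33783 Q33783 (allL N33783 (tt N43920 (iv1 F315738)) (tt N63029 F184491) (tt N63031 (iv2 F184488)) (tt N16969 F85604) (tt N62955 (iv4 F184227)) (tt N38280 F313304) (tt N20741 F85605) (tt N16965 (iv7 D54267)))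
theorem Q33785 : ∀ i, i < 33785 → P i := stepQ 33784 Q33784 (allL N33784 (tt N63039 D117818) (tt N62482 (iv0 F317781)) (tt N63040 D117820) (tt N16966 (iv3 D54268)) (tt N63041 D117821) (tt N63042 D117822) (tt N63043 D117823) (tt N21436 F85606))
theorem Q33786 : ∀ i, i < 33786 → P i := stepQ 33785 Q33785 (allL N33785 (tt N37388 (iv1 F315393)) (tt N43155 (iv0 F315391)) (tt N21434 F85607) (tt N63042 (iv3 F184507)) (tt N25287 F85609) (tt N16966 (iv5 D54269)) (tt N43154 (iv6 F315558)) (tt N21437 F85608))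
theorem Q33787 : ∀ i, i < 33787 → P i := stepQ 33786 Q33786 (allL N33786 (tt N21275 F308775) (tt N42667 (iv0 F309372)) (tt N21435 F85610) (tt N63043 (iv3 F184509)) (tt N18468 F85611) (tt N63044 D117826) (tt N16966 (iv6 D54270)) (tt N34297 (iv7 F308781)))
theorem Q33788 : ∀ i, i < 33788 → P i := stepQ 33787 Q33787 (allL N33787 (tt N19284 (iv1 F317141)) (tt N25297 F85631) (tt N21438 F85628) (tt N63045 D117841) (tt N16968 (iv4 D54276)) (tt N17983 F85629) (tt N20767 F85630) (tt N17998 (iv7 F85632)))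
theorem Q33789 : ∀ i, i < 33789 → P i := stepQ 33788 Q33788 (allL N33788 (tt N21454 (iv1 F85639)) (tt N16970 (iv0 D54278)) (tt N21453 F130932) (tt N39989 F313134) (tt N63046 D117842) (tt N17297 F130934) (tt N39988 (iv6 F315527)) (tt N21233 F130935))
theorem Q33790 : ∀ i, i < 33790 → P i := stepQ 33789 Q33789 (allL N33789 (tt N21453 (iv1 F85644)) (tt N21233 (iv0 F130863)) (tt N16970 (iv2 D54280)) (tt N21440 F85640) (tt N63047 D117843) (tt N63048 D117844) (tt N44858 F130862) (tt N21454 F85641))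
theorem Q33791 : ∀ i, i < 33791 → P i := stepQ 33790 Q33790 (allL N33790 (tt N63049 D117845) (tt N63000 (iv0 F184320)) (tt N63047 (iv2 F184563)) (tt N63050 D117846) (tt N16970 (iv4 D54281)) (tt N63051 D117847) (tt N44864 (iv6 F131042)) (tt N21455 F85645))
theorem Q33792 : ∀ i, i < 33792 → P i := stepQ 33791 Q33791 (allL N33791 (tt N44033 (iv1 F131179)) (tt N22128 F130936) (tt N63048 (iv2 F184783)) (tt N16972 F85646) (tt N63052 D117848) (tt N16970 (iv5 D54282)) (tt N43984 (iv6 F130925)) (tt N21456 F85647))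
theorem Q33793 : ∀ i, i < 33793 → P i := stepQ 33792 Q33792 (allL N33792 (tt N63053 D117849) (tt N62317 (iv0 F317918)) (tt N63054 D117851) (tt N16971 (iv3 D54284)) (tt N63050 (iv4 F184790)) (tt N46492 (iv5 F315621)) (tt N63055 D117853) (tt N21458 F85649))
theorem Q33794 : ∀ i, i < 33794 → P i := stepQ 33793 Q33793 (allL N33793 (tt N38359 (iv1 F315378)) (tt N38383 (iv0 F315376)) (tt N21446 F85650) (tt N46492 (iv3 F315620)) (tt N25292 F85652) (tt N16971 (iv5 D54285)) (tt N38379 (iv6 F315623)) (tt N19120 (iv7 F315625)))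
theorem Q33795 : ∀ i, i < 33795 → P i := stepQ 33794 Q33794 (allL N33794 (tt N21645 F308787) (tt N41706 F308788) (tt N21447 F85653) (tt N63055 (iv3 F184803)) (tt N16973 F85654) (tt N41614 (iv5 F310971)) (tt N16971 (iv6 D54286)) (tt N21634 F308789))
theorem Q33796 : ∀ i, i < 33796 → P i := stepQ 33795 Q33795 (allL N33795 (tt N16973 (iv1 D54288)) (tt N21452 F85661) (tt N21450 (iv2 F105742)) (tt N44874 (iv3 F184515)) (tt N42667 (iv4 F309373)) (tt N46110 (iv5 F120330)) (tt N62560 (iv6 F313442)) (tt N21424 (iv7 F105743)))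
theorem Q33797 : ∀ i, i < 33797 → P i := stepQ 33796 Q33796 (allL N33796 (tt N21450 (iv1 F85669)) (tt N21424 (iv0 F87274)) (tt N21452 F85666) (tt N44857 (iv3 F130906)) (tt N21634 (iv4 F308776)) (tt N21755 (iv5 F85951)) (tt N21461 F85667) (tt N16973 (iv7 D54290)))
theorem Q33798 : ∀ i, i < 33798 → P i := stepQ 33797 Q33797 (allL N33797 (tt N16974 (iv1 D54292)) (tt N21440 F85675) (tt N21439 (iv2 F205253)) (tt N62968 (iv3 F240206)) (tt N63056 D117865) (tt N17306 F205252) (tt N62792 (iv6 F232251)) (tt N21172 F232235))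
theorem Q33799 : ∀ i, i < 33799 → P i := stepQ 33798 Q33798 (allL N33798 (tt N21172 F232234) (tt N21439 F85674) (tt N16974 (iv2 D54293)) (tt N21454 F85672) (tt N63057 D117868) (tt N45218 (iv5 F232242)) (tt N63058 D117870) (tt N21440 F85673))
theorem Q33800 : ∀ i, i < 33800 → P i := stepQ 33799 Q33799 (allL N33799 (tt N63014 (iv1 F205250)) (tt N50749 (iv0 F318928)) (tt N63057 (iv2 F184819)) (tt N63059 D117873) (tt N16974 (iv4 D54294)) (tt N54756 (iv5 F333309)) (tt N63060 D117875) (tt N21441 F85677))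
theorem Q33801 : ∀ i, i < 33801 → P i := stepQ 33800 Q33800 (allL N33800 (tt N44002 (iv1 F232669)) (tt N44005 (iv0 F232916)) (tt N45218 (iv2 F232240)) (tt N16976 F85678) (tt N63061 D117878) (tt N16974 (iv5 D54295)) (tt N17415 (iv6 F85680)) (tt N21442 F85679))
theorem Q33802 : ∀ i, i < 33802 → P i := stepQ 33801 Q33801 (allL N33801 (tt N63062 D117879) (tt N63063 D117880) (tt N63058 (iv2 F184840)) (tt N16977 F85681) (tt N63060 (iv4 F184847)) (tt N63064 D117881) (tt N16974 (iv6 D54296)) (tt N46234 F314424))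
theorem Q33803 : ∀ i, i < 33803 → P i := stepQ 33802 Q33802 (allL N33802 (tt N62240 (iv1 F318763)) (tt N63065 D117884) (tt N63066 D117885) (tt N16975 (iv3 D54297)) (tt N63059 (iv4 F184844)) (tt N38382 (iv5 F317819)) (tt N21626 (iv6 F315611)) (tt N21445 F85682))
theorem Q33804 : ∀ i, i < 33804 → P i := stepQ 33803 Q33803 (allL N33803 (tt N21461 (iv1 F85696)) (tt N16977 (iv0 D54300)) (tt N21459 F183586) (tt N62767 (iv3 F183498)) (tt N34294 F311598) (tt N21221 F85688) (tt N63012 (iv6 F184352)) (tt N21409 F183587))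
theorem Q33805 : ∀ i, i < 33805 → P i := stepQ 33804 Q33804 (allL N33804 (tt N33621 F85693) (tt N33619 (iv0 F85692)) (tt N21460 F85690) (tt N63064 (iv3 F184853)) (tt N25057 F315211) (tt N16977 (iv5 D54302)) (tt N17416 F85691) (tt N41827 (iv7 F104961)))
theorem Q33806 : ∀ i, i < 33806 → P i := stepQ 33805 Q33805 (allL N33805 (tt N39988 F317759) (tt N21237 F237471) (tt N62741 (iv2 F237511)) (tt N16979 (iv3 D54305)) (tt N63067 D117896) (tt N62684 (iv5 F322274)) (tt N63068 D117898) (tt N21466 F105926))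
theorem Q33807 : ∀ i, i < 33807 → P i := stepQ 33806 Q33806 (allL N33806 (tt N41835 F104975) (tt N43998 F313895) (tt N21464 F105929) (tt N62684 (iv3 F322273)) (tt N63069 D117900) (tt N16979 (iv5 D54307)) (tt N63070 D117901) (tt N21468 F105930))
theorem Q33808 : ∀ i, i < 33808 → P i := stepQ 33807 Q33807 (allL N33807 (tt N21411 F105942) (tt N63012 F184353) (tt N21465 F105931) (tt N63068 (iv3 F184894)) (tt N36232 (iv4 F166598)) (tt N19376 F85700) (tt N16979 (iv6 D54308)) (tt N37387 F105932))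
theorem Q33809 : ∀ i, i < 33809 → P i := stepQ 33808 Q33808 (allL N33808 (tt N21166 (iv1 F326376)) (tt N62792 (iv0 F326377)) (tt N62790 (iv2 F247754)) (tt N16980 (iv3 D54310)) (tt N63071 D117905) (tt N63072 D117906) (tt N63073 D117907) (tt N21462 F105955))
theorem Q33810 : ∀ i, i < 33810 → P i := stepQ 33809 Q33809 (allL N33809 (tt N43998 F313896) (tt N41835 (iv0 F104984)) (tt N21468 (iv2 F105953)) (tt N63072 (iv3 F184917)) (tt N63074 D117908) (tt N16980 (iv5 D54312)) (tt N40840 F318650) (tt N21464 (iv7 F105954)))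
theorem Q33811 : ∀ i, i < 33811 → P i := stepQ 33810 Q33810 (allL N33810 (tt N62560 F315215) (tt N21271 F311597) (tt N21469 (iv2 F105921)) (tt N63073 (iv3 F184919)) (tt N33596 (iv4 F313185)) (tt N33384 (iv5 F316372)) (tt N16980 (iv6 D54313)) (tt N40834 F315216))
theorem Q33812 : ∀ i, i < 33812 → P i := stepQ 33811 Q33811 (allL N33811 (tt N17959 (iv1 F85702)) (tt N16981 (iv0 D54314)) (tt N21470 (iv2 F200091)) (tt N39987 F318396) (tt N63075 D117911) (tt N42654 F313058) (tt N33291 F317721) (tt N21471 (iv7 F200096)))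
theorem Q33813 : ∀ i, i < 33813 → P i := stepQ 33812 Q33812 (allL N33812 (tt N16981 (iv1 D54315)) (tt N17959 F85703) (tt N21471 F200097) (tt N63076 D117913) (tt N63077 D117914) (tt N41327 (iv5 F103931)) (tt N63078 D117915) (tt N21470 F200098))
theorem Q33814 : ∀ i, i < 33814 → P i := stepQ 33813 Q33813 (allL N33813 (tt N24914 F85708) (tt N24913 F85709) (tt N17868 F85704) (tt N16982 (iv3 D54316)) (tt N21582 F85705) (tt N17001 F85706) (tt N63079 D117916) (tt N17028 F85707))
theorem Q33815 : ∀ i, i < 33815 → P i := stepQ 33814 Q33814 (allL N33814 (tt N41033 F307042) (tt N41042 F307043) (tt N16988 F85710) (tt N63079 (iv3 F184931)) (tt N16983 F85711) (tt N62713 (iv5 F308866)) (tt N16982 (iv6 D54317)) (tt N63080 D117920))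
theorem Q33816 : ∀ i, i < 33816 → P i := stepQ 33815 Q33815 (allL N33815 (tt N16992 (iv1 F85717)) (tt N16983 (iv0 D54318)) (tt N16989 F131090) (tt N25455 (iv3 F305071)) (tt N45309 (iv4 F131141)) (tt N21463 (iv5 F310196)) (tt N25454 F302784) (tt N16990 F131091))
theorem Q33817 : ∀ i, i < 33817 → P i := stepQ 33816 Q33816 (allL N33816 (tt N16983 (iv1 D54319)) (tt N16992 F85712) (tt N16990 F131085) (tt N34348 (iv3 F305178)) (tt N45310 (iv4 F130255)) (tt N21467 (iv5 F310517)) (tt N25205 F199785) (tt N16989 F131086))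
theorem Q33818 : ∀ i, i < 33818 → P i := stepQ 33817 Q33817 (allL N33817 (tt N16990 (iv1 F85718)) (tt N16989 F85719) (tt N16992 F85713) (tt N21587 F85714) (tt N63080 (iv4 F184946)) (tt N21639 F85715) (tt N17027 F85716) (tt N16983 (iv7 D54320)))
theorem Q33819 : ∀ i, i < 33819 → P i := stepQ 33818 Q33818 (allL N33818 (tt N22373 F110491) (tt N22376 F110492) (tt N25832 F308381) (tt N16986 F85729) (tt N35336 (iv4 F92105)) (tt N62597 (iv5 F182675)) (tt N16985 (iv6 D54325)) (tt N25833 F308382))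
theorem Q33820 : ∀ i, i < 33820 → P i := stepQ 33819 Q33819 (allL N33819 (tt N63080 F184950) (tt N16988 (iv0 D54332)) (tt N41033 (iv2 F305134)) (tt N41335 (iv3 F305138)) (tt N23897 F184952) (tt N41334 (iv5 F305139)) (tt N25434 F300069) (tt N41042 (iv7 F305140)))
theorem Q33821 : ∀ i, i < 33821 → P i := stepQ 33820 Q33820 (allL N33820 (tt N16988 (iv1 D54333)) (tt N63080 F184948) (tt N41042 F307044) (tt N47388 F317471) (tt N23898 F184955) (tt N41593 (iv5 F308871)) (tt N37529 (iv6 F307129)) (tt N41033 F307045))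
theorem Q33822 : ∀ i, i < 33822 → P i := stepQ 33821 Q33821 (allL N33821 (tt N57487 (iv1 F308902)) (tt N57486 (iv0 F308903)) (tt N62713 (iv2 F308864)) (tt N17875 F85742) (tt N63081 D117951) (tt N16988 (iv5 D54334)) (tt N21126 (iv6 F308907)) (tt N62605 (iv7 F308862)))
theorem Q33823 : ∀ i, i < 33823 → P i := stepQ 33822 Q33822 (allL N33822 (tt N41042 F307040) (tt N41033 F307041) (tt N63080 (iv2 F184945)) (tt N17876 F85744) (tt N16992 F85745) (tt N62605 (iv5 F308861)) (tt N21719 F85746) (tt N16988 (iv7 D54335)))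
theorem Q33824 : ∀ i, i < 33824 → P i := stepQ 33823 Q33823 (allL N33823 (tt N43999 F131636) (tt N34599 F131639) (tt N45309 F131140) (tt N42989 (iv3 F306950)) (tt N16989 (iv4 D54338)) (tt N41844 (iv5 F310199)) (tt N42987 F305020) (tt N45310 F131088))
theorem Q33825 : ∀ i, i < 33825 → P i := stepQ 33824 Q33824 (allL N33824 (tt N22352 F190083) (tt N46190 (iv0 F190086)) (tt N43665 (iv2 F190903)) (tt N16990 (iv3 D54342)) (tt N25674 (iv4 F305067)) (tt N36233 (iv5 F313312)) (tt N48164 (iv6 F199801)) (tt N25455 (iv7 F305072)))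
theorem Q33826 : ∀ i, i < 33826 → P i := stepQ 33825 Q33825 (allL N33825 (tt N34599 (iv1 F131638)) (tt N43999 F131637) (tt N45310 (iv2 F131143)) (tt N63082 D117968) (tt N16990 (iv4 D54343)) (tt N41845 (iv5 F310200)) (tt N38305 F308194) (tt N45309 F131142))
theorem Q33827 : ∀ i, i < 33827 → P i := stepQ 33826 Q33826 (allL N33826 (tt N21639 (iv1 F85759)) (tt N16991 (iv0 D54346)) (tt N21674 F110575) (tt N63083 D117972) (tt N41816 (iv4 F312709)) (tt N30670 F310511) (tt N40634 (iv6 F312712)) (tt N21675 F110577))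
theorem Q33828 : ∀ i, i < 33828 → P i := stepQ 33827 Q33827 (allL N33827 (tt N16991 (iv1 D54347)) (tt N21639 F85752) (tt N21675 F110573) (tt N63084 D117974) (tt N40837 F318135) (tt N30669 F310508) (tt N18371 F319593) (tt N21674 F110574))
theorem Q33829 : ∀ i, i < 33829 → P i := stepQ 33828 Q33828 (allL N33828 (tt N41354 (iv1 F313292)) (tt N40647 F318632) (tt N21673 F85753) (tt N55182 (iv3 F159144)) (tt N16991 (iv4 D54348)) (tt N41223 F322416) (tt N16993 F85754) (tt N21129 (iv7 F313261)))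
theorem Q33830 : ∀ i, i < 33830 → P i := stepQ 33829 Q33829 (allL N33829 (tt N21675 (iv1 F85760)) (tt N21674 F85761) (tt N21639 F85755) (tt N16995 F85756) (tt N21129 (iv4 F313260)) (tt N16992 F85757) (tt N16995 F85758) (tt N16991 (iv7 D54349)))
theorem Q33831 : ∀ i, i < 33831 → P i := stepQ 33830 Q33830 (allL N33830 (tt N46192 (iv1 F189471)) (tt N25486 (iv0 F190056)) (tt N56119 (iv2 F191168)) (tt N16994 (iv3 D54350)) (tt N63085 D117983) (tt N42896 (iv5 F107563)) (tt N40625 (iv6 F318001)) (tt N21638 F85762))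
theorem Q33832 : ∀ i, i < 33832 → P i := stepQ 33831 Q33831 (allL N33831 (tt N21647 (iv1 F85789)) (tt N21531 F85788) (tt N16996 (iv2 D54358)) (tt N21659 F85785) (tt N45255 (iv4 F114935)) (tt N21157 F85786) (tt N63086 D118000) (tt N21665 F85787))
theorem Q33833 : ∀ i, i < 33833 → P i := stepQ 33832 Q33832 (allL N33832 (tt N40615 F333348) (tt N63087 D118002) (tt N63086 (iv2 F185194)) (tt N16997 F85790) (tt N45282 (iv4 F115016)) (tt N38342 (iv5 F98044)) (tt N16996 (iv6 D54359)) (tt N44049 (iv7 F316515)))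
theorem Q33834 : ∀ i, i < 33834 → P i := stepQ 33833 Q33833 (allL N33833 (tt N16997 (iv1 D54361)) (tt N21664 F85791) (tt N21663 (iv2 F200057)) (tt N21670 (iv3 F237450)) (tt N21125 F314038) (tt N21843 F305299) (tt N40637 (iv6 F315565)) (tt N20398 F314039))
theorem Q33835 : ∀ i, i < 33835 → P i := stepQ 33834 Q33834 (allL N33834 (tt N21513 (iv1 F85802)) (tt N21640 F85801) (tt N16998 (iv2 D54363)) (tt N21665 F85797) (tt N29906 F85798) (tt N18438 F85799) (tt N44020 (iv6 F315374)) (tt N21659 F85800))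
theorem Q33836 : ∀ i, i < 33836 → P i := stepQ 33835 Q33835 (allL N33835 (tt N62710 (iv1 F307287)) (tt N53066 (iv0 F296805)) (tt N32852 F85816) (tt N17000 (iv3 D54369)) (tt N63088 D118027) (tt N21745 F85817) (tt N18611 (iv6 F307290)) (tt N21671 F85818))
theorem Q33837 : ∀ i, i < 33837 → P i := stepQ 33836 Q33836 (allL N33836 (tt N36562 F106438) (tt N63089 D118049) (tt N41930 (iv2 F105077)) (tt N41611 F309789) (tt N17004 (iv4 D54376)) (tt N52853 (iv5 F151714)) (tt N33439 F320148) (tt N21681 F85832))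
theorem Q33838 : ∀ i, i < 33838 → P i := stepQ 33837 Q33837 (allL N33837 (tt N63090 D118067) (tt N22863 F232765) (tt N21574 F85851) (tt N34710 (iv3 F88634)) (tt N21783 F85852) (tt N63091 D118069) (tt N17009 (iv6 D54383)) (tt N63092 D118070))
theorem Q33839 : ∀ i, i < 33839 → P i := stepQ 33838 Q33838 (allL N33838 (tt N22166 F85856) (tt N22815 F85857) (tt N21576 F85853) (tt N21948 F85854) (tt N19093 F85858) (tt N17010 (iv5 D54384)) (tt N63091 (iv6 F185490)) (tt N22011 F85855))
theorem Q33840 : ∀ i, i < 33840 → P i := stepQ 33839 Q33839 (allL N33839 (tt N24997 (iv1 F85864)) (tt N24996 (iv0 F85863)) (tt N17837 F85859) (tt N17013 (iv3 D54385)) (tt N17028 F85860) (tt N28395 F85861) (tt N63093 D118071) (tt N21582 F85862))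
theorem Q33841 : ∀ i, i < 33841 → P i := stepQ 33840 Q33840 (allL N33840 (tt N39836 F326304) (tt N39840 F326305) (tt N17020 F85865) (tt N63093 (iv3 F185499)) (tt N17014 F85866) (tt N63094 D118074) (tt N17013 (iv6 D54386)) (tt N63095 D118075))
theorem Q33842 : ∀ i, i < 33842 → P i := stepQ 33841 Q33841 (allL N33841 (tt N17023 (iv1 F85872)) (tt N17014 (iv0 D54387)) (tt N17021 F155323) (tt N47952 (iv3 F130128)) (tt N39849 (iv4 F325457)) (tt N42804 F155324) (tt N25259 F155288) (tt N17022 F155325))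
theorem Q33843 : ∀ i, i < 33843 → P i := stepQ 33842 Q33842 (allL N33842 (tt N17022 (iv1 F85873)) (tt N17021 F85874) (tt N17023 F85868) (tt N17027 F85869) (tt N63095 (iv4 F185508)) (tt N17023 F85870) (tt N21587 F85871) (tt N17014 (iv7 D54389)))
theorem Q33844 : ∀ i, i < 33844 → P i := stepQ 33843 Q33843 (allL N33843 (tt N56112 F184567) (tt N25831 F308724) (tt N43226 (iv2 F108361)) (tt N17016 F85875) (tt N34279 (iv4 F87072)) (tt N62701 (iv5 F183161)) (tt N17015 (iv6 D54390)) (tt N44026 F184628))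
theorem Q33845 : ∀ i, i < 33845 → P i := stepQ 33844 Q33844 (allL N33844 (tt N24761 F155113) (tt N24765 F155114) (tt N47945 (iv2 F130110)) (tt N17018 F85882) (tt N34177 (iv4 F86866)) (tt N44272 F314998) (tt N17017 (iv6 D54394)) (tt N25251 F155115))
theorem Q33846 : ∀ i, i < 33846 → P i := stepQ 33845 Q33845 (allL N33845 (tt N56143 F232413) (tt N17735 F304381) (tt N21596 F85891) (tt N48772 (iv3 F134439)) (tt N22232 F85892) (tt N39832 F338411) (tt N17019 (iv6 D54399)) (tt N56145 F232415))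
theorem Q33847 : ∀ i, i < 33847 → P i := stepQ 33846 Q33846 (allL N33846 (tt N63095 (iv1 F185511)) (tt N17020 (iv0 D54400)) (tt N39836 F326306) (tt N63096 D118087) (tt N22325 F190922) (tt N39207 (iv5 F327127)) (tt N63097 D118090) (tt N39840 F326307))
theorem Q33848 : ∀ i, i < 33848 → P i := stepQ 33847 Q33847 (allL N33847 (tt N17020 (iv1 D54401)) (tt N63095 F185510) (tt N39840 F326309) (tt N48475 (iv3 F351600)) (tt N22326 F190927) (tt N39208 (iv5 F327128)) (tt N63098 D118095) (tt N39836 F326310))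
theorem Q33849 : ∀ i, i < 33849 → P i := stepQ 33848 Q33848 (allL N33848 (tt N63099 D118096) (tt N62934 (iv0 F328821)) (tt N63094 (iv2 F185505)) (tt N17846 F85893) (tt N39851 (iv4 F325442)) (tt N17020 (iv5 D54402)) (tt N48854 (iv6 F134714)) (tt N63100 D118099))
theorem Q33850 : ∀ i, i < 33850 → P i := stepQ 33849 Q33849 (allL N33849 (tt N39840 F326302) (tt N39836 F326303) (tt N63095 (iv2 F185507)) (tt N17847 F85894) (tt N17023 F85895) (tt N63100 (iv5 F185549)) (tt N21601 F85896) (tt N17020 (iv7 D54403)))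
theorem Q33851 : ∀ i, i < 33851 → P i := stepQ 33850 Q33850 (allL N33850 (tt N45737 (iv1 F188983)) (tt N56121 (iv0 F190054)) (tt N43965 (iv2 F155343)) (tt N17021 (iv3 D54405)) (tt N39533 F324783) (tt N63101 D118102) (tt N63102 D118103) (tt N43967 F155322))
theorem Q33852 : ∀ i, i < 33852 → P i := stepQ 33851 Q33851 (allL N33851 (tt N42803 (iv1 F107169)) (tt N42785 (iv0 F155262)) (tt N42804 (iv2 F107171)) (tt N63101 (iv3 F185550)) (tt N63103 D118109) (tt N17021 (iv5 D54407)) (tt N30664 F310482) (tt N42757 (iv7 F155319)))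
theorem Q33853 : ∀ i, i < 33853 → P i := stepQ 33852 Q33852 (allL N33852 (tt N25253 F155241) (tt N25261 F155242) (tt N25259 F155335) (tt N63102 (iv3 F185551)) (tt N53366 (iv4 F321085)) (tt N63104 D118110) (tt N17021 (iv6 D54408)) (tt N25258 F155336))
theorem Q33854 : ∀ i, i < 33854 → P i := stepQ 33853 Q33853 (allL N33853 (tt N24731 (iv1 F189966)) (tt N45696 (iv0 F188056)) (tt N47954 (iv2 F155331)) (tt N17022 (iv3 D54410)) (tt N34193 F86891) (tt N42797 F107153) (tt N63105 D118113) (tt N47952 F155326))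
theorem Q33855 : ∀ i, i < 33855 → P i := stepQ 33854 Q33854 (allL N33854 (tt N45742 F184651) (tt N56144 (iv0 F185569)) (tt N54371 (iv2 F321073)) (tt N63105 (iv3 F185563)) (tt N54370 (iv4 F321067)) (tt N42802 (iv5 F107162)) (tt N17022 (iv6 D54412)) (tt N56150 (iv7 F185705)))
theorem Q33856 : ∀ i, i < 33856 → P i := stepQ 33855 Q33855 (allL N33855 (tt N45698 (iv1 F190965)) (tt N18575 F189889) (tt N43704 (iv2 F190961)) (tt N17024 (iv3 D54413)) (tt N35343 (iv4 F190610)) (tt N42840 (iv5 F107272)) (tt N63106 D118122) (tt N21724 F85899))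
theorem Q33857 : ∀ i, i < 33857 → P i := stepQ 33856 Q33856 (allL N33856 (tt N17980 F199771) (tt N48165 (iv0 F199810)) (tt N21723 F85900) (tt N63106 (iv3 F185580)) (tt N37453 F311137) (tt N21856 F85901) (tt N17024 (iv6 D54414)) (tt N44591 F311138))
theorem Q33858 : ∀ i, i < 33858 → P i := stepQ 33857 Q33857 (allL N33857 (tt N18570 F189901) (tt N45739 (iv0 F119548)) (tt N44009 (iv2 F307899)) (tt N17025 (iv3 D54415)) (tt N34310 F87175) (tt N24213 F303006) (tt N34316 F305978) (tt N21720 F85903))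
theorem Q33859 : ∀ i, i < 33859 → P i := stepQ 33858 Q33858 (allL N33858 (tt N21719 (iv1 F85909)) (tt N17026 (iv0 D54417)) (tt N21716 (iv2 F85907)) (tt N63107 D118128) (tt N17293 F85906) (tt N36205 (iv5 F316236)) (tt N41450 F309207) (tt N21717 (iv7 F85908)))
theorem Q33860 : ∀ i, i < 33860 → P i := stepQ 33859 Q33859 (allL N33859 (tt N17026 (iv1 D54418)) (tt N21719 F85921) (tt N21717 (iv2 F85924)) (tt N30504 F313487) (tt N17294 F85923) (tt N25498 (iv5 F307231)) (tt N21801 F307149) (tt N21716 F85922))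
theorem Q33861 : ∀ i, i < 33861 → P i := stepQ 33860 Q33860 (allL N33860 (tt N53336 (iv1 F346602)) (tt N53339 (iv0 F346684)) (tt N24915 F85925) (tt N17026 (iv3 D54419)) (tt N63093 (iv4 F185500)) (tt N44134 F311063) (tt N17028 F85926) (tt N63108 D118137))
theorem Q33862 : ∀ i, i < 33862 → P i := stepQ 33861 Q33861 (allL N33861 (tt N21717 (iv1 F85933)) (tt N21716 F85934) (tt N21719 F85930) (tt N63108 (iv3 F185622)) (tt N17027 F85931) (tt N24992 F85932) (tt N63080 (iv6 F184947)) (tt N17026 (iv7 D54421)))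
theorem Q33863 : ∀ i, i < 33863 → P i := stepQ 33862 Q33862 (allL N33862 (tt N21756 (iv1 F85946)) (tt N17030 (iv0 D54425)) (tt N21755 F85950) (tt N38350 F309928) (tt N42695 (iv4 F131051)) (tt N21452 (iv5 F85949)) (tt N63109 D118145) (tt N21451 F85948))
theorem Q33864 : ∀ i, i < 33864 → P i := stepQ 33863 Q33863 (allL N33863 (tt N21451 (iv1 F85947)) (tt N21755 F85953) (tt N21756 F85943) (tt N43413 (iv3 F108784)) (tt N30686 F310524) (tt N20919 F85944) (tt N21747 F85945) (tt N17030 (iv7 D54426)))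
theorem Q33865 : ∀ i, i < 33865 → P i := stepQ 33864 Q33864 (allL N33864 (tt N17033 (iv1 F85965)) (tt N17032 F85966) (tt N17034 F85961) (tt N21768 F85962) (tt N22764 F300122) (tt N22765 F85963) (tt N21829 F85964) (tt N17031 (iv7 D54428)))
theorem Q33866 : ∀ i, i < 33866 → P i := stepQ 33865 Q33865 (allL N33865 (tt N57444 (iv1 F166766)) (tt N63110 D118164) (tt N43275 (iv2 F108443)) (tt N17036 F85972) (tt N44273 (iv4 F318298)) (tt N17035 (iv5 D54436)) (tt N44272 F316715) (tt N43279 (iv7 F108448)))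
theorem Q33867 : ∀ i, i < 33867 → P i := stepQ 33866 Q33866 (allL N33866 (tt N63111 D118166) (tt N43878 (iv0 F110080)) (tt N21762 F85973) (tt N57589 (iv3 F366545)) (tt N17036 (iv4 D54437)) (tt N63112 D118168) (tt N57587 (iv6 F315140)) (tt N62715 (iv7 F183333)))
theorem Q33868 : ∀ i, i < 33868 → P i := stepQ 33867 Q33867 (allL N33867 (tt N24374 (iv1 F85979)) (tt N24373 (iv0 F85978)) (tt N17613 F85974) (tt N17037 (iv3 D54438)) (tt N21825 F85975) (tt N28051 F85976) (tt N63113 D118169) (tt N21765 F85977))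
theorem Q33869 : ∀ i, i < 33869 → P i := stepQ 33868 Q33868 (allL N33868 (tt N63114 D118170) (tt N63115 D118171) (tt N17041 F85980) (tt N63113 (iv3 F185682)) (tt N17038 F85981) (tt N63116 D118172) (tt N17037 (iv6 D54439)) (tt N63117 D118173))
theorem Q33870 : ∀ i, i < 33870 → P i := stepQ 33869 Q33869 (allL N33869 (tt N17045 (iv1 F85989)) (tt N17038 (iv0 D54440)) (tt N17042 F187630) (tt N61374 (iv3 F190303)) (tt N43510 (iv4 F190295)) (tt N29697 F317377) (tt N42575 (iv6 F106428)) (tt N17043 F187631))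
theorem Q33871 : ∀ i, i < 33871 → P i := stepQ 33870 Q33870 (allL N33870 (tt N17038 (iv1 D54441)) (tt N17045 F85982) (tt N17043 (iv2 F187623)) (tt N43327 (iv3 F108500)) (tt N43511 (iv4 F190298)) (tt N48231 (iv5 F155444)) (tt N63118 D118179) (tt N17042 (iv7 F187629)))
theorem Q33872 : ∀ i, i < 33872 → P i := stepQ 33871 Q33871 (allL N33871 (tt N63119 D118180) (tt N63104 (iv0 F185561)) (tt N17044 F85983) (tt N17331 F85984) (tt N63120 D118181) (tt N17038 (iv5 D54442)) (tt N17039 F85985) (tt N63121 D118182))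
theorem Q33873 : ∀ i, i < 33873 → P i := stepQ 33872 Q33872 (allL N33872 (tt N17043 (iv1 F85990)) (tt N17042 F85991) (tt N17045 F85986) (tt N21829 F85987) (tt N63117 (iv4 F185689)) (tt N63121 (iv5 F185713)) (tt N21768 F85988) (tt N17038 (iv7 D54443)))
theorem Q33874 : ∀ i, i < 33874 → P i := stepQ 33873 Q33873 (allL N33873 (tt N63122 D118183) (tt N63123 D118184) (tt N17050 F85992) (tt N63124 D118185) (tt N17039 (iv4 D54444)) (tt N63125 D118186) (tt N63120 (iv6 F185710)) (tt N22570 F85993))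
theorem Q33875 : ∀ i, i < 33875 → P i := stepQ 33874 Q33874 (allL N33874 (tt N42491 (iv1 F232453)) (tt N23100 (iv0 F232454)) (tt N21784 F85994) (tt N17194 F309593) (tt N21562 F85995) (tt N63126 D118189) (tt N17040 (iv6 D54445)) (tt N63127 D118190))
theorem Q33876 : ∀ i, i < 33876 → P i := stepQ 33875 Q33875 (allL N33875 (tt N63117 (iv1 F185692)) (tt N17041 (iv0 D54446)) (tt N63114 (iv2 F190227)) (tt N63128 D118192) (tt N22238 F190221) (tt N63129 D118194) (tt N63130 D118195) (tt N63115 (iv7 F190270)))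
theorem Q33877 : ∀ i, i < 33877 → P i := stepQ 33876 Q33876 (allL N33876 (tt N17041 (iv1 D54447)) (tt N63117 F185691) (tt N63115 (iv2 F190268)) (tt N22259 (iv3 F306356)) (tt N22239 F190217) (tt N63131 D118199) (tt N63132 D118200) (tt N63114 (iv7 F190228)))
theorem Q33878 : ∀ i, i < 33878 → P i := stepQ 33877 Q33877 (allL N33877 (tt N63133 D118201) (tt N63134 D118202) (tt N63116 (iv2 F185687)) (tt N17627 F85996) (tt N63135 D118203) (tt N17041 (iv5 D54448)) (tt N48694 (iv6 F134112)) (tt N63136 D118204))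
theorem Q33879 : ∀ i, i < 33879 → P i := stepQ 33878 Q33878 (allL N33878 (tt N63115 (iv1 F185686)) (tt N63114 (iv0 F185685)) (tt N63117 (iv2 F185688)) (tt N17388 F302699) (tt N17045 F85998) (tt N63136 (iv5 F185742)) (tt N17386 F302700) (tt N17041 (iv7 D54449)))
theorem Q33880 : ∀ i, i < 33880 → P i := stepQ 33879 Q33879 (allL N33879 (tt N46501 (iv1 F187561)) (tt N42484 (iv0 F191284)) (tt N43323 (iv2 F187613)) (tt N17042 (iv3 D54451)) (tt N43208 (iv4 F108311)) (tt N62095 (iv5 F319618)) (tt N63137 D118215) (tt N43327 (iv7 F187622)))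
theorem Q33881 : ∀ i, i < 33881 → P i := stepQ 33880 Q33880 (allL N33880 (tt N43513 F190170) (tt N28653 (iv0 F190192)) (tt N43510 (iv2 F190293)) (tt N28612 F311747) (tt N17042 (iv4 D54452)) (tt N63138 D118220) (tt N63139 D118221) (tt N43511 (iv7 F190299)))
theorem Q33882 : ∀ i, i < 33882 → P i := stepQ 33881 Q33881 (allL N33881 (tt N48214 F155425) (tt N20634 F321537) (tt N29697 F317348) (tt N62095 (iv3 F319617)) (tt N63140 D118223) (tt N17042 (iv5 D54453)) (tt N20549 F317349) (tt N48231 (iv7 F187627)))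
theorem Q33883 : ∀ i, i < 33883 → P i := stepQ 33882 Q33882 (allL N33882 (tt N42513 F155429) (tt N46485 F155461) (tt N42575 (iv2 F187638)) (tt N63137 (iv3 F185752)) (tt N63139 (iv4 F185755)) (tt N42528 F106349) (tt N17042 (iv6 D54454)) (tt N42571 (iv7 F187648)))
theorem Q33884 : ∀ i, i < 33884 → P i := stepQ 33883 Q33883 (allL N33883 (tt N42497 (iv1 F188319)) (tt N46479 (iv0 F187619)) (tt N61375 (iv2 F190306)) (tt N17043 (iv3 D54456)) (tt N34141 F185139) (tt N63141 D118231) (tt N63142 D118232) (tt N61374 (iv7 F190305)))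
theorem Q33885 : ∀ i, i < 33885 → P i := stepQ 33884 Q33884 (allL N33884 (tt N28653 (iv1 F190193)) (tt N43513 F190169) (tt N43511 (iv2 F190297)) (tt N63143 D118233) (tt N17043 (iv4 D54457)) (tt N63144 D118234) (tt N63145 D118235) (tt N43510 (iv7 F190296)))
theorem Q33886 : ∀ i, i < 33886 → P i := stepQ 33885 Q33885 (allL N33885 (tt N20634 F321538) (tt N48214 F185762) (tt N48231 (iv2 F187626)) (tt N63141 (iv3 F185765)) (tt N63146 D118236) (tt N17043 (iv5 D54458)) (tt N62392 (iv6 F315682)) (tt N29697 F317378))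
theorem Q33887 : ∀ i, i < 33887 → P i := stepQ 33886 Q33886 (allL N33886 (tt N46511 F185763) (tt N42493 (iv0 F155395)) (tt N63118 (iv2 F187628)) (tt N63142 (iv3 F185766)) (tt N63145 (iv4 F185769)) (tt N36643 (iv5 F184773)) (tt N17043 (iv6 D54459)) (tt N63147 D118238))
theorem Q33888 : ∀ i, i < 33888 → P i := stepQ 33887 Q33887 (allL N33887 (tt N63121 (iv1 F185716)) (tt N17044 (iv0 D54460)) (tt N63119 F185698) (tt N63148 D118239) (tt N63149 D118240) (tt N25258 F185571) (tt N63150 D118241) (tt N63104 F185572))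
theorem Q33889 : ∀ i, i < 33889 → P i := stepQ 33888 Q33888 (allL N33888 (tt N17044 (iv1 D54461)) (tt N63121 F185715) (tt N63104 (iv2 F185558)) (tt N63151 D118242) (tt N63152 D118243) (tt N25259 F155287) (tt N25254 F155332) (tt N63119 (iv7 F185700)))
theorem Q33890 : ∀ i, i < 33890 → P i := stepQ 33889 Q33889 (allL N33889 (tt N63153 D118244) (tt N63154 D118245) (tt N63120 (iv2 F185709)) (tt N44462 F318746) (tt N17044 (iv4 D54462)) (tt N63155 D118247) (tt N17050 F86002) (tt N63156 D118248))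
theorem Q33891 : ∀ i, i < 33891 → P i := stepQ 33890 Q33890 (allL N33890 (tt N63104 F185562) (tt N63119 F185701) (tt N63121 (iv2 F185711)) (tt N17053 F86003) (tt N63156 (iv4 F185778)) (tt N17045 F86004) (tt N63157 D118249) (tt N17044 (iv7 D54463)))
theorem Q33892 : ∀ i, i < 33892 → P i := stepQ 33891 Q33891 (allL N33891 (tt N44989 (iv1 F114298)) (tt N63158 D118250) (tt N61377 (iv2 F178714)) (tt N17047 F86005) (tt N44089 F110828) (tt N17046 (iv5 D54464)) (tt N63159 D118251) (tt N21759 F86006))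
theorem Q33893 : ∀ i, i < 33893 → P i := stepQ 33892 Q33892 (allL N33892 (tt N43878 (iv1 F110081)) (tt N63111 F185678) (tt N62715 (iv2 F183332)) (tt N63160 D118252) (tt N17047 (iv4 D54465)) (tt N63161 D118253) (tt N63162 D118254) (tt N21762 F86007))
theorem Q33894 : ∀ i, i < 33894 → P i := stepQ 33893 Q33893 (allL N33893 (tt N44377 F317357) (tt N57679 (iv0 F315150)) (tt N57681 (iv2 F315157)) (tt N63159 (iv3 F185791)) (tt N63162 (iv4 F185795)) (tt N20966 F86008) (tt N17047 (iv6 D54466)) (tt N57673 (iv7 F315138)))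
theorem Q33895 : ∀ i, i < 33895 → P i := stepQ 33894 Q33894 (allL N33894 (tt N40288 F323754) (tt N56093 (iv0 F162620)) (tt N43374 (iv2 F108573)) (tt N17048 (iv3 D54467)) (tt N43220 (iv4 F108346)) (tt N41383 (iv5 F104067)) (tt N63163 D118258) (tt N41418 (iv7 F104119)))
theorem Q33896 : ∀ i, i < 33896 → P i := stepQ 33895 Q33895 (allL N33895 (tt N43527 (iv1 F109146)) (tt N43504 (iv0 F109119)) (tt N41425 (iv2 F104143)) (tt N63164 D118259) (tt N17048 (iv4 D54468)) (tt N63165 D118260) (tt N63166 D118261) (tt N41420 (iv7 F104129)))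
theorem Q33897 : ∀ i, i < 33897 → P i := stepQ 33896 Q33896 (allL N33896 (tt N25257 F155443) (tt N21061 F318701) (tt N40486 F318702) (tt N63163 (iv3 F185802)) (tt N63166 (iv4 F185803)) (tt N40486 (iv5 F320850)) (tt N17048 (iv6 D54469)) (tt N40216 F318704))
theorem Q33898 : ∀ i, i < 33898 → P i := stepQ 33897 Q33897 (allL N33897 (tt N44984 F114283) (tt N61379 F178730) (tt N61378 F178721) (tt N17049 (iv3 D54470)) (tt N34154 F86829) (tt N41382 (iv5 F104064)) (tt N40217 F322608) (tt N41424 (iv7 F104142)))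
theorem Q33899 : ∀ i, i < 33899 → P i := stepQ 33898 Q33898 (allL N33898 (tt N43504 (iv1 F109120)) (tt N43527 F109145) (tt N41420 (iv2 F104128)) (tt N63167 D118265) (tt N17049 (iv4 D54471)) (tt N63168 D118266) (tt N40218 F322609) (tt N41425 (iv7 F104144)))
theorem Q33900 : ∀ i, i < 33900 → P i := stepQ 33899 Q33899 (allL N33899 (tt N22570 (iv1 F86014)) (tt N17050 (iv0 D54473)) (tt N63122 F185719) (tt N63169 D118271) (tt N22243 F86015) (tt N63170 D118272) (tt N63171 D118273) (tt N63123 (iv7 F185722)))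
theorem Q33901 : ∀ i, i < 33901 → P i := stepQ 33900 Q33900 (allL N33900 (tt N17050 (iv1 D54474)) (tt N22570 F86009) (tt N63123 F185724) (tt N63172 D118274) (tt N22244 (iv4 F86010)) (tt N63173 D118275) (tt N40223 (iv6 F321292)) (tt N63122 F185720))
theorem Q33902 : ∀ i, i < 33902 → P i := stepQ 33901 Q33901 (allL N33901 (tt N63174 D118281) (tt N63175 D118282) (tt N63125 (iv2 F185727)) (tt N62591 (iv3 F322397)) (tt N44126 (iv4 F110863)) (tt N17050 (iv5 D54476)) (tt N63176 D118283) (tt N63177 D118284))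
theorem Q33903 : ∀ i, i < 33903 → P i := stepQ 33902 Q33902 (allL N33902 (tt N63123 (iv1 F185721)) (tt N63122 F185718) (tt N22570 F86012) (tt N20889 (iv3 F321642)) (tt N17051 F86013) (tt N63177 (iv5 F185829)) (tt N63178 D118285) (tt N17050 (iv7 D54477)))
theorem Q33904 : ∀ i, i < 33904 → P i := stepQ 33903 Q33903 (allL N33903 (tt N63179 D118286) (tt N63180 D118287) (tt N22571 F86017) (tt N17060 F86018) (tt N63178 (iv4 F185831)) (tt N19101 F86019) (tt N17051 (iv6 D54478)) (tt N63157 (iv7 F185782)))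
theorem Q33905 : ∀ i, i < 33905 → P i := stepQ 33904 Q33904 (allL N33904 (tt N46481 F190681) (tt N18542 (iv0 F190682)) (tt N63181 D118290) (tt N17052 (iv3 D54479)) (tt N63182 D118291) (tt N24186 F86020) (tt N25272 F312312) (tt N21877 F86021))
theorem Q33906 : ∀ i, i < 33906 → P i := stepQ 33905 Q33905 (allL N33905 (tt N20780 (iv1 F315958)) (tt N20774 (iv0 F315953)) (tt N21878 F86041) (tt N63157 (iv3 F185780)) (tt N20892 (iv4 F317148)) (tt N19121 F86042) (tt N17053 (iv6 D54486)) (tt N17060 F86043))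
theorem Q33907 : ∀ i, i < 33907 → P i := stepQ 33906 Q33906 (allL N33906 (tt N18545 F86048) (tt N17059 (iv0 F86049)) (tt N18547 F86046) (tt N61379 (iv3 F178727)) (tt N63183 D118308) (tt N17054 (iv5 D54487)) (tt N63184 D118309) (tt N18527 F86047))
theorem Q33908 : ∀ i, i < 33908 → P i := stepQ 33907 Q33907 (allL N33907 (tt N21887 F86053) (tt N21886 (iv0 F86054)) (tt N17056 F86050) (tt N21881 F86051) (tt N43872 (iv4 F110075)) (tt N17055 (iv5 D54488)) (tt N20263 F312317) (tt N18544 F86052))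
theorem Q33909 : ∀ i, i < 33909 → P i := stepQ 33908 Q33908 (allL N33908 (tt N18544 (iv1 F86056)) (tt N17056 (iv0 D54489)) (tt N21887 (iv2 F86057)) (tt N63158 F185788) (tt N22418 (iv4 F86059)) (tt N20990 F86055) (tt N47699 F314557) (tt N21886 (iv7 F86058)))
theorem Q33910 : ∀ i, i < 33910 → P i := stepQ 33909 Q33909 (allL N33909 (tt N17056 (iv1 D54490)) (tt N18544 F86060) (tt N21886 (iv2 F86063)) (tt N44978 F114264) (tt N22419 (iv4 F86064)) (tt N20923 F86062) (tt N62378 (iv6 F316878)) (tt N21887 F86061))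
theorem Q33911 : ∀ i, i < 33911 → P i := stepQ 33910 Q33910 (allL N33910 (tt N42196 (iv1 F105567)) (tt N42194 (iv0 F105558)) (tt N43872 F110076) (tt N20257 (iv3 F318404)) (tt N17056 (iv4 D54491)) (tt N63185 D118314) (tt N20255 F316992) (tt N21888 F86065))
theorem Q33912 : ∀ i, i < 33912 → P i := stepQ 33911 Q33911 (allL N33911 (tt N21881 (iv1 F86081)) (tt N17057 (iv0 D54498)) (tt N21884 (iv2 F86080)) (tt N18606 (iv3 F86083)) (tt N63186 D118329) (tt N20931 F86079) (tt N20566 F319218) (tt N21883 F86082))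
theorem Q33913 : ∀ i, i < 33913 → P i := stepQ 33912 Q33912 (allL N33912 (tt N34374 F87409) (tt N42981 (iv0 F107847)) (tt N44072 F110810) (tt N44391 (iv3 F319659)) (tt N17057 (iv4 D54499)) (tt N51097 (iv5 F329247)) (tt N63187 D118332) (tt N21885 F86084))
theorem Q33914 : ∀ i, i < 33914 → P i := stepQ 33913 Q33913 (allL N33913 (tt N63188 D118333) (tt N62443 (iv0 F319705)) (tt N56106 (iv2 F162672)) (tt N17058 F86085) (tt N63187 (iv4 F185940)) (tt N62594 (iv5 F182660)) (tt N17057 (iv6 D54500)) (tt N20246 F317245))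
theorem Q33915 : ∀ i, i < 33915 → P i := stepQ 33914 Q33914 (allL N33914 (tt N18547 (iv1 F86106)) (tt N18527 F86105) (tt N17059 (iv2 D54506)) (tt N21890 F86102) (tt N43860 (iv4 F110049)) (tt N33507 F86103) (tt N40460 F320772) (tt N18545 F86104))
theorem Q33916 : ∀ i, i < 33916 → P i := stepQ 33915 Q33915 (allL N33915 (tt N42192 (iv1 F105553)) (tt N22254 F86108) (tt N43860 F110050) (tt N33234 F320773) (tt N17059 (iv4 D54507)) (tt N63189 D118348) (tt N40389 F320774) (tt N21893 F86107))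
theorem Q33917 : ∀ i, i < 33917 → P i := stepQ 33916 Q33916 (allL N33916 (tt N17211 F86143) (tt N17147 (iv0 F86144)) (tt N17213 F86140) (tt N21924 F86141) (tt N63190 D118409) (tt N17061 (iv5 D54527)) (tt N63191 D118410) (tt N17196 F86142))
theorem Q33918 : ∀ i, i < 33918 → P i := stepQ 33917 Q33917 (allL N33917 (tt N17210 (iv1 F86147)) (tt N17062 (iv0 D54528)) (tt N17318 (iv2 F86146)) (tt N21925 F86149) (tt N63192 D118411) (tt N20999 F86145) (tt N63193 D118412) (tt N21905 F86148))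
theorem Q33919 : ∀ i, i < 33919 → P i := stepQ 33918 Q33918 (allL N33918 (tt N63194 D118413) (tt N63195 D118414) (tt N22056 F86150) (tt N30376 (iv3 F319606)) (tt N17062 (iv4 D54529)) (tt N29278 (iv5 F319715)) (tt N22731 F317441) (tt N21906 F86151))
theorem Q33920 : ∀ i, i < 33920 → P i := stepQ 33919 Q33919 (allL N33919 (tt N21895 (iv1 F86168)) (tt N17063 (iv0 D54536)) (tt N21897 (iv2 F86167)) (tt N21394 (iv3 F86170)) (tt N36629 (iv4 F94882)) (tt N20913 F86166) (tt N21348 (iv6 F86171)) (tt N21896 F86169))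
theorem Q33921 : ∀ i, i < 33921 → P i := stepQ 33920 Q33920 (allL N33920 (tt N63196 D118426) (tt N63197 D118427) (tt N22269 F86172) (tt N41197 (iv3 F319666)) (tt N17063 (iv4 D54537)) (tt N63198 D118429) (tt N63199 D118430) (tt N21898 F86173))
theorem Q33922 : ∀ i, i < 33922 → P i := stepQ 33921 Q33921 (allL N33921 (tt N63200 D118431) (tt N40885 F322381) (tt N22270 F86174) (tt N17064 F86175) (tt N63199 (iv4 F186230)) (tt N41957 (iv5 F105162)) (tt N17063 (iv6 D54538)) (tt N22727 F315362))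
theorem Q33923 : ∀ i, i < 33923 → P i := stepQ 33922 Q33922 (allL N33922 (tt N63201 D118443) (tt N61448 (iv0 F339321)) (tt N22050 F86192) (tt N34700 (iv3 F88597)) (tt N43182 F305734) (tt N61231 (iv5 F178401)) (tt N17065 (iv6 D54544)) (tt N63202 D118445))
theorem Q33924 : ∀ i, i < 33924 → P i := stepQ 33923 Q33923 (allL N33923 (tt N17066 (iv1 D54545)) (tt N17069 F86193) (tt N22044 (iv2 F86196)) (tt N22350 (iv3 F86197)) (tt N21556 F86195) (tt N34210 (iv5 F86961)) (tt N47443 F305491) (tt N22045 F86194))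
theorem Q33925 : ∀ i, i < 33925 → P i := stepQ 33924 Q33924 (allL N33924 (tt N63203 D118447) (tt N63204 D118448) (tt N22054 F86198) (tt N22782 F314558) (tt N17067 F86199) (tt N63205 D118449) (tt N17066 (iv6 D54546)) (tt N25122 (iv7 F199862)))
theorem Q33926 : ∀ i, i < 33926 → P i := stepQ 33925 Q33925 (allL N33925 (tt N61403 (iv1 F258998)) (tt N61441 (iv0 F258995)) (tt N22043 F86207) (tt N34000 (iv3 F86480)) (tt N61005 (iv4 F177580)) (tt N39083 (iv5 F336457)) (tt N17068 (iv6 D54550)) (tt N61440 (iv7 F259170)))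
theorem Q33927 : ∀ i, i < 33927 → P i := stepQ 33926 Q33926 (allL N33926 (tt N47157 (iv1 F128380)) (tt N23548 (iv0 F86209)) (tt N34217 (iv2 F86982)) (tt N17069 (iv3 D54551)) (tt N43428 (iv4 F108838)) (tt N18517 F303589) (tt N47165 (iv6 F307017)) (tt N22052 F86208))
theorem Q33928 : ∀ i, i < 33928 → P i := stepQ 33927 Q33927 (allL N33927 (tt N44754 F113351) (tt N44774 F113441) (tt N22046 F86210) (tt N18517 F300973) (tt N36444 (iv4 F94624)) (tt N17069 (iv5 D54552)) (tt N18515 F300974) (tt N22053 F86211))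
theorem Q33929 : ∀ i, i < 33929 → P i := stepQ 33928 Q33928 (allL N33928 (tt N46985 (iv1 F310718)) (tt N46976 F309809) (tt N22047 F86212) (tt N47165 F305077) (tt N17070 F86213) (tt N43183 (iv5 F305733)) (tt N17069 (iv6 D54553)) (tt N22514 F130777))
theorem Q33930 : ∀ i, i < 33930 → P i := stepQ 33929 Q33929 (allL N33929 (tt N24068 (iv1 F86224)) (tt N24067 F86225) (tt N17078 F300387) (tt N17071 (iv3 D54557)) (tt N17072 (iv4 F301042)) (tt N24451 F86222) (tt N17071 (iv6 F302369)) (tt N22061 F86223))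
theorem Q33931 : ∀ i, i < 33931 → P i := stepQ 33930 Q33930 (allL N33930 (tt N17082 (iv1 F86235)) (tt N17072 (iv0 D54559)) (tt N17079 F86914) (tt N22175 F190474) (tt N24538 F301437) (tt N44045 F131204) (tt N34199 F86913) (tt N17080 F86915))
theorem Q33932 : ∀ i, i < 33932 → P i := stepQ 33931 Q33931 (allL N33931 (tt N17072 (iv1 D54560)) (tt N17082 F86228) (tt N17080 F86916) (tt N22744 F305258) (tt N24534 (iv4 F304001)) (tt N44044 (iv5 F131211)) (tt N22743 (iv6 F307194)) (tt N17079 F86917))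
theorem Q33933 : ∀ i, i < 33933 → P i := stepQ 33932 Q33932 (allL N33932 (tt N54299 (iv1 F304065)) (tt N54296 (iv0 F304058)) (tt N17081 F86229) (tt N21942 (iv3 F303774)) (tt N63206 D118477) (tt N17072 (iv5 D54561)) (tt N17074 F86231) (tt N63207 D118478))
theorem Q33934 : ∀ i, i < 33934 → P i := stepQ 33933 Q33933 (allL N33933 (tt N17080 (iv1 F86236)) (tt N17079 F86237) (tt N17082 F86232) (tt N17112 F301438) (tt N22061 (iv4 F302365)) (tt N63207 (iv5 F186358)) (tt N22067 F86234) (tt N17072 (iv7 D54562)))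
theorem Q33935 : ∀ i, i < 33935 → P i := stepQ 33934 Q33934 (allL N33934 (tt N19023 F86241) (tt N34412 F87491) (tt N17084 F86238) (tt N22179 F86239) (tt N47070 F310773) (tt N17073 (iv5 D54563)) (tt N58890 (iv6 F326960)) (tt N17086 F86240))
theorem Q33936 : ∀ i, i < 33936 → P i := stepQ 33935 Q33935 (allL N33935 (tt N17090 (iv1 F86246)) (tt N17074 (iv0 D54564)) (tt N17087 (iv2 F86243)) (tt N22180 F86244) (tt N63208 D118481) (tt N17339 F86242) (tt N62755 (iv6 F183473)) (tt N17088 F86245))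
theorem Q33937 : ∀ i, i < 33937 → P i := stepQ 33936 Q33936 (allL N33936 (tt N37574 (iv1 F96291)) (tt N63209 D118482) (tt N17089 F86247) (tt N63210 D118483) (tt N17074 (iv4 D54565)) (tt N63211 D118484) (tt N63206 (iv6 F186355)) (tt N63212 D118485))
theorem Q33938 : ∀ i, i < 33938 → P i := stepQ 33937 Q33937 (allL N33937 (tt N17088 (iv1 F86251)) (tt N17087 F86252) (tt N17090 F86248) (tt N21950 F86249) (tt N63212 (iv4 F186380)) (tt N17075 F86250) (tt N63213 D118486) (tt N17074 (iv7 D54566)))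
theorem Q33939 : ∀ i, i < 33939 → P i := stepQ 33938 Q33938 (allL N33938 (tt N46088 F155568) (tt N22874 F155569) (tt N22115 F86253) (tt N47178 (iv3 F128478)) (tt N42760 (iv4 F107082)) (tt N63214 D118487) (tt N17076 (iv6 D54567)) (tt N63215 D118488))
theorem Q33940 : ∀ i, i < 33940 → P i := stepQ 33939 Q33939 (allL N33939 (tt N36445 (iv1 F94633)) (tt N36444 F94627) (tt N22087 F86254) (tt N63216 D118489) (tt N17077 (iv4 D54568)) (tt N22057 F86255) (tt N63217 D118490) (tt N22117 F86256))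
theorem Q33941 : ∀ i, i < 33941 → P i := stepQ 33940 Q33940 (allL N33940 (tt N63218 D118491) (tt N52816 (iv0 F346375)) (tt N24452 F86257) (tt N17603 F86258) (tt N63217 (iv4 F186395)) (tt N38912 F304918) (tt N17077 (iv6 D54569)) (tt N19641 (iv7 F306853)))
theorem Q33942 : ∀ i, i < 33942 → P i := stepQ 33941 Q33941 (allL N33941 (tt N22061 (iv1 F302364)) (tt N17078 (iv0 D54570)) (tt N24068 (iv2 F302361)) (tt N47064 F300384) (tt N42796 F155347) (tt N34922 (iv5 F302742)) (tt N63219 D118497) (tt N24067 F300385))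
theorem Q33943 : ∀ i, i < 33943 → P i := stepQ 33942 Q33942 (allL N33942 (tt N17078 (iv1 D54571)) (tt N22061 (iv0 F302363)) (tt N24067 F300386) (tt N26178 (iv3 F286775)) (tt N42758 (iv4 F107079)) (tt N34918 (iv5 F302743)) (tt N63220 D118500) (tt N24068 (iv7 F302362)))
theorem Q33944 : ∀ i, i < 33944 → P i := stepQ 33943 Q33943 (allL N33943 (tt N52811 (iv1 F303097)) (tt N53896 (iv0 F303100)) (tt N24451 (iv2 F303108)) (tt N17591 F300346) (tt N34856 (iv4 F303109)) (tt N17078 (iv5 D54572)) (tt N38912 (iv6 F303110)) (tt N22033 F302751))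
theorem Q33945 : ∀ i, i < 33945 → P i := stepQ 33944 Q33944 (allL N33944 (tt N43899 (iv1 F303892)) (tt N34603 F303771) (tt N44045 (iv2 F131206)) (tt N43988 (iv3 F110407)) (tt N36512 (iv4 F305791)) (tt N17079 (iv5 D54576)) (tt N43986 (iv6 F110399)) (tt N44044 F131209))
theorem Q33946 : ∀ i, i < 33946 → P i := stepQ 33945 Q33945 (allL N33945 (tt N34603 F303772) (tt N43899 (iv0 F303891)) (tt N44044 F131208) (tt N43442 (iv3 F190464)) (tt N36511 (iv4 F305792)) (tt N17080 (iv5 D54580)) (tt N63221 D118520) (tt N44045 (iv7 F131207)))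
theorem Q33947 : ∀ i, i < 33947 → P i := stepQ 33946 Q33946 (allL N33946 (tt N25165 F131025) (tt N39978 (iv0 F309706)) (tt N22743 F307702) (tt N38347 F307703) (tt N49640 (iv4 F304845)) (tt N22772 (iv5 F309708)) (tt N17080 (iv6 D54581)) (tt N40039 (iv7 F309711)))
theorem Q33948 : ∀ i, i < 33948 → P i := stepQ 33947 Q33947 (allL N33947 (tt N63207 (iv1 F186360)) (tt N17081 (iv0 D54582)) (tt N54299 (iv2 F304066)) (tt N22827 F112121) (tt N46424 (iv4 F305798)) (tt N22523 F131191) (tt N42255 (iv6 F112122)) (tt N54296 (iv7 F304062)))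
theorem Q33949 : ∀ i, i < 33949 → P i := stepQ 33948 Q33948 (allL N33948 (tt N17081 (iv1 D54583)) (tt N63207 F186359) (tt N54296 (iv2 F304060)) (tt N43444 (iv3 F190731)) (tt N46425 (iv4 F305801)) (tt N22524 F184964) (tt N42271 F324858) (tt N54299 (iv7 F304067)))
theorem Q33950 : ∀ i, i < 33950 → P i := stepQ 33949 Q33949 (allL N33949 (tt N63222 D118526) (tt N63223 D118527) (tt N63206 (iv2 F186354)) (tt N22117 (iv3 F305112)) (tt N17081 (iv4 D54584)) (tt N61092 (iv5 F305816)) (tt N17089 F86265) (tt N63216 (iv7 F304115)))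
theorem Q33951 : ∀ i, i < 33951 → P i := stepQ 33950 Q33950 (allL N33950 (tt N54296 (iv1 F304059)) (tt N54299 (iv0 F304064)) (tt N63207 (iv2 F186356)) (tt N17095 F86266) (tt N63216 (iv4 F304114)) (tt N17082 F86267) (tt N63224 D118531) (tt N17081 (iv7 D54585)))
theorem Q33952 : ∀ i, i < 33952 → P i := stepQ 33951 Q33951 (allL N33951 (tt N31364 F86270) (tt N31366 F86269) (tt N43061 (iv2 F108005)) (tt N19408 F86268) (tt N63225 D118532) (tt N17083 (iv5 D54586)) (tt N63226 D118533) (tt N38286 (iv7 F97859)))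
theorem Q33953 : ∀ i, i < 33953 → P i := stepQ 33952 Q33952 (allL N33952 (tt N63227 D118539) (tt N21431 F317234) (tt N58890 (iv2 F326957)) (tt N19439 F86271) (tt N48011 F313229) (tt N23357 F86272) (tt N17084 (iv6 D54588)) (tt N63228 D118541))
theorem Q33954 : ∀ i, i < 33954 → P i := stepQ 33953 Q33953 (allL N33953 (tt N31366 (iv1 F108008)) (tt N31364 F86273) (tt N38286 (iv2 F97857)) (tt N43006 (iv3 F107891)) (tt N59726 (iv4 F360272)) (tt N17085 (iv5 D54589)) (tt N59735 (iv6 F333570)) (tt N43061 (iv7 F108007)))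
theorem Q33955 : ∀ i, i < 33955 → P i := stepQ 33954 Q33954 (allL N33954 (tt N47020 (iv1 F309976)) (tt N47069 F309685) (tt N38302 (iv2 F97883)) (tt N19262 F185309) (tt N17086 (iv4 D54590)) (tt N58889 (iv5 F327269)) (tt N19260 F185310) (tt N47070 F309686))
theorem Q33956 : ∀ i, i < 33956 → P i := stepQ 33955 Q33955 (allL N33955 (tt N38303 (iv1 F209593)) (tt N63229 D118546) (tt N38300 (iv2 F97878)) (tt N19484 F185230) (tt N19260 F185231) (tt N38293 (iv5 F97871)) (tt N17086 (iv6 D54591)) (tt N37122 F185232))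
theorem Q33957 : ∀ i, i < 33957 → P i := stepQ 33956 Q33956 (allL N33956 (tt N63230 D118547) (tt N46426 F310581) (tt N63208 (iv2 F186369)) (tt N22740 F86274) (tt N17087 (iv4 D54592)) (tt N63231 D118548) (tt N63232 D118549) (tt N17347 F86275))
theorem Q33958 : ∀ i, i < 33958 → P i := stepQ 33957 Q33957 (allL N33957 (tt N63233 D118550) (tt N38161 F237472) (tt N62755 (iv2 F183471)) (tt N17353 F86276) (tt N63232 (iv4 F186458)) (tt N21253 F86277) (tt N17087 (iv6 D54593)) (tt N63234 D118552))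
theorem Q33959 : ∀ i, i < 33959 → P i := stepQ 33958 Q33958 (allL N33958 (tt N46426 F310582) (tt N63230 F186453) (tt N17347 F86278) (tt N38920 (iv3 F209862)) (tt N17088 (iv4 D54594)) (tt N63235 D118554) (tt N38918 (iv6 F209866)) (tt N63208 (iv7 F186370)))
theorem Q33960 : ∀ i, i < 33960 → P i := stepQ 33959 Q33959 (allL N33959 (tt N38270 (iv1 F162942)) (tt N34250 (iv0 F87024)) (tt N17348 F86279) (tt N22205 F86280) (tt N38918 (iv4 F209865)) (tt N17181 F86281) (tt N17088 (iv6 D54595)) (tt N63236 D118556))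
theorem Q33961 : ∀ i, i < 33961 → P i := stepQ 33960 Q33960 (allL N33960 (tt N63212 (iv1 F186382)) (tt N17089 (iv0 D54596)) (tt N37574 (iv2 F96294)) (tt N63237 D118557) (tt N37573 F96295) (tt N63238 D118558) (tt N63239 D118559) (tt N63209 (iv7 F186374)))
theorem Q33962 : ∀ i, i < 33962 → P i := stepQ 33961 Q33961 (allL N33961 (tt N17089 (iv1 D54597)) (tt N63212 F186381) (tt N63209 F186376) (tt N63240 D118560) (tt N21573 (iv4 F86282)) (tt N63241 D118561) (tt N63242 D118562) (tt N37574 (iv7 F96290)))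
theorem Q33963 : ∀ i, i < 33963 → P i := stepQ 33962 Q33962 (allL N33962 (tt N63243 D118563) (tt N63244 D118564) (tt N61097 (iv2 F308847)) (tt N17089 (iv3 D54598)) (tt N17096 F86283) (tt N63245 D118566) (tt N22117 F307026) (tt N19640 (iv7 F86284)))
theorem Q33964 : ∀ i, i < 33964 → P i := stepQ 33963 Q33963 (allL N33963 (tt N59463 (iv1 F344955)) (tt N63246 D118568) (tt N63211 (iv2 F186378)) (tt N63245 (iv3 F186481)) (tt N59725 (iv4 F346384)) (tt N17089 (iv5 D54599)) (tt N63247 D118570) (tt N63248 D118571))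
theorem Q33965 : ∀ i, i < 33965 → P i := stepQ 33964 Q33964 (allL N33964 (tt N63209 (iv1 F186373)) (tt N37574 (iv0 F96292)) (tt N63212 (iv2 F186379)) (tt N19640 F86285) (tt N17090 F86286) (tt N63248 (iv5 F186484)) (tt N63249 D118572) (tt N17089 (iv7 D54600)))
theorem Q33966 : ∀ i, i < 33966 → P i := stepQ 33965 Q33965 (allL N33965 (tt N57423 (iv1 F208018)) (tt N63250 D118574) (tt N63213 (iv2 F186383)) (tt N17097 F86287) (tt N63249 (iv4 F186486)) (tt N22147 F86288) (tt N17090 (iv6 D54601)) (tt N63224 (iv7 F186436)))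
theorem Q33967 : ∀ i, i < 33967 → P i := stepQ 33966 Q33966 (allL N33966 (tt N17092 (iv1 D54610)) (tt N17188 F86307) (tt N17190 (iv2 F86304)) (tt N38348 F305260) (tt N63251 D118600) (tt N25385 (iv5 F303445)) (tt N17209 (iv6 F86305)) (tt N17152 F86303))
theorem Q33968 : ∀ i, i < 33968 → P i := stepQ 33967 Q33967 (allL N33967 (tt N22992 F190989) (tt N36483 (iv0 F298153)) (tt N36482 (iv2 F298157)) (tt N17634 F86312) (tt N17092 (iv4 D54612)) (tt N63252 D118605) (tt N63253 D118606) (tt N22021 F86313))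
theorem Q33969 : ∀ i, i < 33969 → P i := stepQ 33968 Q33968 (allL N33968 (tt N22737 (iv1 F311244)) (tt N17349 F309123) (tt N22739 F313585) (tt N17093 F86316) (tt N63253 (iv4 F186552)) (tt N35422 (iv5 F92252)) (tt N17092 (iv6 D54614)) (tt N22738 F313586))
theorem Q33970 : ∀ i, i < 33970 → P i := stepQ 33969 Q33969 (allL N33969 (tt N22038 (iv1 F86343)) (tt N22037 F86344) (tt N17592 F301364) (tt N63224 (iv3 F186434)) (tt N17603 (iv4 F302494)) (tt N22159 F86341) (tt N17095 (iv6 D54624)) (tt N17097 F86342))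
theorem Q33971 : ∀ i, i < 33971 → P i := stepQ 33970 Q33970 (allL N33970 (tt N19637 (iv1 F86345)) (tt N17096 (iv0 D54625)) (tt N19639 (iv2 F216643)) (tt N63254 D118628) (tt N63255 D118629) (tt N36936 (iv5 F209323)) (tt N63256 D118631) (tt N19638 (iv7 F216647)))
theorem Q33972 : ∀ i, i < 33972 → P i := stepQ 33971 Q33971 (allL N33971 (tt N17096 (iv1 D54626)) (tt N19637 F86350) (tt N19638 F216648) (tt N22961 F319331) (tt N46439 (iv4 F321349)) (tt N36937 (iv5 F209328)) (tt N63257 D118636) (tt N19639 F216649))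
theorem Q33973 : ∀ i, i < 33973 → P i := stepQ 33972 Q33972 (allL N33972 (tt N19639 (iv1 F86351)) (tt N19638 F86349) (tt N17096 (iv2 D54627)) (tt N22036 F86346) (tt N61097 (iv4 F308848)) (tt N19626 F86347) (tt N22062 F307025) (tt N19637 F86348))
theorem Q33974 : ∀ i, i < 33974 → P i := stepQ 33973 Q33973 (allL N33973 (tt N17104 (iv1 F86357)) (tt N17098 (iv0 D54630)) (tt N21916 (iv2 F86356)) (tt N21529 F86355) (tt N43022 (iv4 F107961)) (tt N17530 F86354) (tt N63258 D118646) (tt N21915 F86358))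
theorem Q33975 : ∀ i, i < 33975 → P i := stepQ 33974 Q33974 (allL N33974 (tt N23225 F86361) (tt N17521 F86362) (tt N21930 F86359) (tt N34880 (iv3 F90159)) (tt N17098 (iv4 D54631)) (tt N34483 (iv5 F87647)) (tt N63259 D118647) (tt N21917 F86360))
theorem Q33976 : ∀ i, i < 33976 → P i := stepQ 33975 Q33975 (allL N33975 (tt N63260 D118648) (tt N56310 (iv0 F339713)) (tt N21931 F86363) (tt N42754 (iv3 F107062)) (tt N63259 (iv4 F186611)) (tt N62783 (iv5 F183655)) (tt N17098 (iv6 D54632)) (tt N63261 D118650))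
theorem Q33977 : ∀ i, i < 33977 → P i := stepQ 33976 Q33976 (allL N33976 (tt N17106 (iv1 F86365)) (tt N17099 (iv0 D54633)) (tt N21920 (iv2 F86366)) (tt N63262 D118651) (tt N18548 F86364) (tt N34948 (iv5 F90500)) (tt N36606 (iv6 F307037)) (tt N18569 (iv7 F86367)))
theorem Q33978 : ∀ i, i < 33978 → P i := stepQ 33977 Q33977 (allL N33977 (tt N17099 (iv1 D54634)) (tt N17106 F86368) (tt N18569 (iv2 F86371)) (tt N23925 (iv3 F86372)) (tt N18568 F86370) (tt N34949 (iv5 F90507)) (tt N56125 (iv6 F162804)) (tt N21920 F86369))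
theorem Q33979 : ∀ i, i < 33979 → P i := stepQ 33978 Q33978 (allL N33978 (tt N63263 D118653) (tt N36505 (iv0 F305913)) (tt N21934 F86373) (tt N28714 F86374) (tt N17100 F86375) (tt N63264 D118655) (tt N17099 (iv6 D54635)) (tt N22494 F232299))
theorem Q33980 : ∀ i, i < 33980 → P i := stepQ 33979 Q33979 (allL N33979 (tt N63265 D118672) (tt N63266 D118673) (tt N21918 F86388) (tt N55764 (iv3 F161591)) (tt N34859 (iv4 F90066)) (tt N63267 D118674) (tt N17104 (iv6 D54641)) (tt N63268 D118675))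
theorem Q33981 : ∀ i, i < 33981 → P i := stepQ 33980 Q33980 (allL N33980 (tt N57448 (iv1 F166778)) (tt N63269 D118676) (tt N21919 F86389) (tt N55772 (iv3 F161704)) (tt N63270 D118677) (tt N17105 (iv5 D54642)) (tt N63267 (iv6 F186655)) (tt N56099 (iv7 F162649)))
theorem Q33982 : ∀ i, i < 33982 → P i := stepQ 33981 Q33981 (allL N33981 (tt N48453 (iv1 F132791)) (tt N23919 (iv0 F86392)) (tt N27743 F299897) (tt N17106 (iv3 D54643)) (tt N56116 (iv4 F162753)) (tt N19497 F299954) (tt N25223 (iv6 F302718)) (tt N21932 F86391))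
theorem Q33983 : ∀ i, i < 33983 → P i := stepQ 33982 Q33982 (allL N33982 (tt N63271 D118679) (tt N63272 D118680) (tt N21921 F86393) (tt N25223 F305063) (tt N17107 F86394) (tt N51994 (iv5 F301287)) (tt N17106 (iv6 D54644)) (tt N25149 F232407))
theorem Q33984 : ∀ i, i < 33984 → P i := stepQ 33983 Q33983 (allL N33983 (tt N22532 F86406) (tt N22531 (iv0 F86407)) (tt N17315 F86403) (tt N17196 F86404) (tt N42922 (iv4 F107649)) (tt N17108 (iv5 D54649)) (tt N63273 D118697) (tt N21924 F86405))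
theorem Q33985 : ∀ i, i < 33985 → P i := stepQ 33984 Q33984 (allL N33984 (tt N17109 (iv1 D54650)) (tt N21167 F86408) (tt N17321 F86411) (tt N21905 F86412) (tt N42916 (iv4 F107624)) (tt N23301 (iv5 F86410)) (tt N40815 F322321) (tt N21925 F86409))
theorem Q33986 : ∀ i, i < 33986 → P i := stepQ 33985 Q33985 (allL N33985 (tt N57453 (iv1 F166785)) (tt N63186 (iv0 F185935)) (tt N21926 F86413) (tt N63274 D118698) (tt N17109 (iv4 D54651)) (tt N63275 D118699) (tt N40020 F314656) (tt N62793 (iv7 F183693)))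
theorem Q33987 : ∀ i, i < 33987 → P i := stepQ 33986 Q33986 (allL N33986 (tt N17711 F86417) (tt N21961 F86418) (tt N17120 F86414) (tt N63276 D118700) (tt N17110 (iv4 D54652)) (tt N21996 F86416) (tt N63277 D118701) (tt N21937 F86415))
theorem Q33988 : ∀ i, i < 33988 → P i := stepQ 33987 Q33987 (allL N33987 (tt N63278 D118702) (tt N63279 D118703) (tt N17121 F86419) (tt N32747 F86420) (tt N63277 (iv4 F186700)) (tt N63280 D118704) (tt N17110 (iv6 D54653)) (tt N63281 D118705))
theorem Q33989 : ∀ i, i < 33989 → P i := stepQ 33988 Q33988 (allL N33988 (tt N63282 D118706) (tt N45123 (iv0 F114573)) (tt N17124 F86421) (tt N26563 F86422) (tt N63283 D118707) (tt N17111 (iv5 D54654)) (tt N63280 (iv6 F186704)) (tt N63284 D118708))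
theorem Q33990 : ∀ i, i < 33990 → P i := stepQ 33989 Q33989 (allL N33989 (tt N17123 (iv1 F86427)) (tt N17122 F86428) (tt N17125 F86423) (tt N27124 F86424) (tt N17116 F86425) (tt N63284 (iv5 F186719)) (tt N21941 F86426) (tt N17111 (iv7 D54655)))
theorem Q33991 : ∀ i, i < 33991 → P i := stepQ 33990 Q33990 (allL N33990 (tt N21995 F86439) (tt N21994 F86440) (tt N17128 F86436) (tt N63207 (iv3 F304112)) (tt N21962 F86437) (tt N17112 (iv5 D54657)) (tt N63285 D118711) (tt N21942 F86438))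
theorem Q33992 : ∀ i, i < 33992 → P i := stepQ 33991 Q33991 (allL N33991 (tt N17131 F303864) (tt N17130 F303865) (tt N17129 F86441) (tt N22067 (iv3 F304245)) (tt N17113 F86442) (tt N63286 D118713) (tt N17112 (iv6 D54658)) (tt N17113 F303866))
theorem Q33993 : ∀ i, i < 33993 → P i := stepQ 33992 Q33992 (allL N33992 (tt N17113 (iv1 D54660)) (tt N17129 F303867) (tt N17131 (iv2 F190230)) (tt N22239 (iv3 F190216)) (tt N36471 (iv4 F305727)) (tt N40761 F321994) (tt N44002 (iv6 F232908)) (tt N17130 (iv7 F190236)))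
theorem Q33994 : ∀ i, i < 33994 → P i := stepQ 33993 Q33993 (allL N33993 (tt N53361 (iv1 F342536)) (tt N53358 (iv0 F341563)) (tt N17132 F86444) (tt N22066 F86445) (tt N63287 D118725) (tt N17113 (iv5 D54661)) (tt N17115 F86446) (tt N63286 (iv7 F305881)))
theorem Q33995 : ∀ i, i < 33995 → P i := stepQ 33994 Q33994 (allL N33994 (tt N18531 F86457) (tt N44976 (iv0 F114254)) (tt N17135 F86453) (tt N17202 F86454) (tt N17114 (iv4 D54663)) (tt N63288 D118727) (tt N21202 F86455) (tt N17133 F86456))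
theorem Q33996 : ∀ i, i < 33996 → P i := stepQ 33995 Q33995 (allL N33995 (tt N36253 F94208) (tt N21899 (iv0 F86461)) (tt N17136 F86458) (tt N22242 F86459) (tt N63289 D118728) (tt N17114 (iv5 D54664)) (tt N40019 (iv6 F316918)) (tt N17134 F86460))
theorem Q33997 : ∀ i, i < 33997 → P i := stepQ 33996 Q33996 (allL N33996 (tt N17140 F86465) (tt N17115 (iv0 D54665)) (tt N17137 F86466) (tt N22532 (iv3 F86463)) (tt N63290 D118730) (tt N18395 F86462) (tt N58620 (iv6 F313710)) (tt N17138 (iv7 F86464)))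
theorem Q33998 : ∀ i, i < 33998 → P i := stepQ 33997 Q33997 (allL N33997 (tt N42881 (iv1 F107523)) (tt N63291 D118732) (tt N17139 F86469) (tt N63292 D118733) (tt N17115 (iv4 D54666)) (tt N63293 D118734) (tt N63287 (iv6 F186747)) (tt N63294 D118735))
theorem Q33999 : ∀ i, i < 33999 → P i := stepQ 33998 Q33998 (allL N33998 (tt N17138 (iv1 F86473)) (tt N17137 F86474) (tt N17140 F86470) (tt N17260 F86471) (tt N63294 (iv4 F186776)) (tt N17116 F86472) (tt N63295 D118736) (tt N17115 (iv7 D54667)))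
theorem Q34000 : ∀ i, i < 34000 → P i := stepQ 33999 Q33999 (allL N33999 (tt N42965 (iv1 F107818)) (tt N42963 (iv0 F107810)) (tt N21955 F86475) (tt N17775 F86478) (tt N17117 (iv4 D54668)) (tt N22852 F86477) (tt N49385 (iv6 F307262)) (tt N21952 F86476))
theorem Q34001 : ∀ i, i < 34001 → P i := stepQ 34000 Q34000 (allL N34000 (tt N32922 F258991) (tt N29602 F258992) (tt N21956 F86479) (tt N33925 F86480) (tt N49385 F309259) (tt N62802 (iv5 F183723)) (tt N17117 (iv6 D54669)) (tt N32921 (iv7 F259138)))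
theorem Q34002 : ∀ i, i < 34002 → P i := stepQ 34001 Q34001 (allL N34001 (tt N42963 (iv1 F107811)) (tt N42965 (iv0 F107817)) (tt N21952 F86481) (tt N49404 F305308) (tt N17119 (iv4 D54670)) (tt N49390 F305309) (tt N63296 D118742) (tt N21955 F86482))
theorem Q34003 : ∀ i, i < 34003 → P i := stepQ 34002 Q34002 (allL N34002 (tt N32949 F343521) (tt N61523 F343522) (tt N21953 F86483) (tt N56285 (iv3 F163337)) (tt N63296 (iv4 F186799)) (tt N42911 (iv5 F107621)) (tt N17119 (iv6 D54671)) (tt N61522 (iv7 F335501)))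
theorem Q34004 : ∀ i, i < 34004 → P i := stepQ 34003 Q34003 (allL N34003 (tt N63297 D118746) (tt N63298 D118747) (tt N63277 (iv2 F186699)) (tt N55775 (iv3 F161716)) (tt N17121 F86484) (tt N63299 D118748) (tt N17120 (iv6 D54672)) (tt N63300 D118749))
theorem Q34005 : ∀ i, i < 34005 → P i := stepQ 34004 Q34004 (allL N34004 (tt N63281 (iv1 F186710)) (tt N17121 (iv0 D54673)) (tt N63278 (iv2 F283567)) (tt N63301 D118751) (tt N63302 D118752) (tt N63303 D118753) (tt N51285 F144670) (tt N63279 (iv7 F283574)))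
theorem Q34006 : ∀ i, i < 34006 → P i := stepQ 34005 Q34005 (allL N34005 (tt N17121 (iv1 D54674)) (tt N63281 F186709) (tt N63279 (iv2 F283573)) (tt N63304 D118755) (tt N63305 D118756) (tt N63306 D118757) (tt N63307 D118758) (tt N63278 (iv7 F283568)))
theorem Q34007 : ∀ i, i < 34007 → P i := stepQ 34006 Q34006 (allL N34006 (tt N63308 D118759) (tt N63309 D118760) (tt N63280 (iv2 F186702)) (tt N22891 F86485) (tt N63310 D118761) (tt N17121 (iv5 D54675)) (tt N17124 F86486) (tt N63311 D118762))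
theorem Q34008 : ∀ i, i < 34008 → P i := stepQ 34007 Q34007 (allL N34007 (tt N63279 (iv1 F186701)) (tt N63278 F186708) (tt N63281 (iv2 F186705)) (tt N22892 F86487) (tt N63300 (iv4 F186806)) (tt N63311 (iv5 F186812)) (tt N21967 F86488) (tt N17121 (iv7 D54676)))
theorem Q34009 : ∀ i, i < 34009 → P i := stepQ 34008 Q34008 (allL N34008 (tt N50298 (iv1 F139474)) (tt N36245 (iv0 F94181)) (tt N23130 F86489) (tt N32788 F86490) (tt N63312 D118763) (tt N17122 (iv5 D54677)) (tt N61503 (iv6 F178951)) (tt N43356 (iv7 F108549)))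
theorem Q34010 : ∀ i, i < 34010 → P i := stepQ 34009 Q34009 (allL N34009 (tt N36245 (iv1 F94180)) (tt N50298 (iv0 F139473)) (tt N43356 (iv2 F108547)) (tt N23137 F86491) (tt N63313 D118764) (tt N17123 (iv5 D54678)) (tt N63314 D118765) (tt N23130 F86492))
theorem Q34011 : ∀ i, i < 34011 → P i := stepQ 34010 Q34010 (allL N34010 (tt N63284 (iv1 F186721)) (tt N17124 (iv0 D54679)) (tt N63282 F186712) (tt N63315 D118766) (tt N63316 D118767) (tt N45124 F114580) (tt N63317 D118768) (tt N45123 (iv7 F114581)))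
theorem Q34012 : ∀ i, i < 34012 → P i := stepQ 34011 Q34011 (allL N34011 (tt N17124 (iv1 D54680)) (tt N63284 F186720) (tt N45123 (iv2 F114572)) (tt N32958 F86494) (tt N63318 D118769) (tt N21650 (iv5 F86493)) (tt N50927 (iv6 F143065)) (tt N63282 (iv7 F186713)))
theorem Q34013 : ∀ i, i < 34013 → P i := stepQ 34012 Q34012 (allL N34012 (tt N63319 D118770) (tt N63320 D118771) (tt N63283 (iv2 F186716)) (tt N63321 D118772) (tt N17124 (iv4 D54681)) (tt N63322 D118773) (tt N63310 (iv6 F186810)) (tt N63323 D118774))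
theorem Q34014 : ∀ i, i < 34014 → P i := stepQ 34013 Q34013 (allL N34013 (tt N45123 (iv1 F114574)) (tt N63282 F186715) (tt N63284 (iv2 F186717)) (tt N22895 F86495) (tt N63323 (iv4 F186825)) (tt N17125 F86496) (tt N63324 D118775) (tt N17124 (iv7 D54682)))
theorem Q34015 : ∀ i, i < 34015 → P i := stepQ 34014 Q34014 (allL N34014 (tt N22165 (iv1 F304229)) (tt N43433 F303861) (tt N43431 F303862) (tt N17126 (iv3 D54683)) (tt N17665 F86497) (tt N43908 (iv5 F110131)) (tt N63325 D118777) (tt N21988 F86498))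
theorem Q34016 : ∀ i, i < 34016 → P i := stepQ 34015 Q34015 (allL N34015 (tt N45216 (iv1 F232314)) (tt N22872 F303863) (tt N21993 F86499) (tt N63325 (iv3 F186833)) (tt N36468 (iv4 F94678)) (tt N35418 (iv5 F305703)) (tt N17126 (iv6 D54684)) (tt N48076 (iv7 F305874)))
theorem Q34017 : ∀ i, i < 34017 → P i := stepQ 34016 Q34016 (allL N34016 (tt N22870 F109927) (tt N45244 (iv0 F232567)) (tt N21990 F86500) (tt N34317 (iv3 F305409)) (tt N21699 F86501) (tt N34315 (iv5 F305699)) (tt N17127 (iv6 D54685)) (tt N47940 (iv7 F304257)))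
theorem Q34018 : ∀ i, i < 34018 → P i := stepQ 34017 Q34017 (allL N34017 (tt N21942 (iv1 F86504)) (tt N17128 (iv0 D54686)) (tt N21995 (iv2 F86503)) (tt N46394 F123335) (tt N49390 (iv4 F302943)) (tt N17281 F86502) (tt N63326 D118784) (tt N21994 F86505))
theorem Q34019 : ∀ i, i < 34019 → P i := stepQ 34018 Q34018 (allL N34018 (tt N41007 F338968) (tt N41011 (iv0 F338971)) (tt N63285 (iv2 F186730)) (tt N17592 F86506) (tt N34857 (iv4 F90063)) (tt N63327 D118787) (tt N17128 (iv6 D54687)) (tt N22020 (iv7 F305894)))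
theorem Q34020 : ∀ i, i < 34020 → P i := stepQ 34019 Q34019 (allL N34019 (tt N53358 (iv1 F341564)) (tt N53361 (iv0 F342535)) (tt N63286 (iv2 F186735)) (tt N17146 F303869) (tt N63328 D118797) (tt N17129 (iv5 D54690)) (tt N63327 (iv6 F186865)) (tt N17132 F303870))
theorem Q34021 : ∀ i, i < 34021 → P i := stepQ 34020 Q34020 (allL N34020 (tt N22241 F190156) (tt N22233 (iv0 F190168)) (tt N22238 (iv2 F190226)) (tt N17130 (iv3 D54693)) (tt N63114 (iv4 F185684)) (tt N40911 F321298) (tt N63329 D118809) (tt N22239 (iv7 F190229)))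
theorem Q34022 : ∀ i, i < 34022 → P i := stepQ 34021 Q34021 (allL N34021 (tt N36464 F305692) (tt N36474 F305693) (tt N36472 F305694) (tt N36478 (iv3 F307704)) (tt N17130 (iv4 D54694)) (tt N63330 D118814) (tt N63331 D118815) (tt N36471 (iv7 F305728)))
theorem Q34023 : ∀ i, i < 34023 → P i := stepQ 34022 Q34022 (allL N34022 (tt N45246 (iv1 F232695)) (tt N63061 F305695) (tt N40969 F316937) (tt N63329 (iv3 F186880)) (tt N63331 (iv4 F186884)) (tt N40941 F316938) (tt N17130 (iv6 D54696)) (tt N43927 (iv7 F190248)))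
theorem Q34024 : ∀ i, i < 34024 → P i := stepQ 34023 Q34023 (allL N34023 (tt N42727 F186888) (tt N63332 D118826) (tt N63333 D118827) (tt N17131 (iv3 D54698)) (tt N42866 (iv4 F306601)) (tt N40957 (iv5 F320544)) (tt N63334 D118830) (tt N40956 F320361))
theorem Q34025 : ∀ i, i < 34025 → P i := stepQ 34024 Q34024 (allL N34024 (tt N21442 F232225) (tt N45218 (iv0 F232238)) (tt N44002 (iv2 F232906)) (tt N63334 (iv3 F186904)) (tt N42865 (iv4 F307705)) (tt N34351 (iv5 F232230)) (tt N17131 (iv6 D54701)) (tt N44005 (iv7 F232915)))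
theorem Q34026 : ∀ i, i < 34026 → P i := stepQ 34025 Q34025 (allL N34025 (tt N63286 (iv1 F305879)) (tt N17132 (iv0 D54702)) (tt N53361 (iv2 F342537)) (tt N63335 D118841) (tt N53318 (iv4 F339156)) (tt N25160 F232886) (tt N63336 D118844) (tt N53358 (iv7 F341569)))
theorem Q34027 : ∀ i, i < 34027 → P i := stepQ 34026 Q34026 (allL N34026 (tt N17132 (iv1 D54703)) (tt N63286 (iv0 F305878)) (tt N53358 (iv2 F341565)) (tt N63337 D118846) (tt N53317 (iv4 F339157)) (tt N25161 F232890) (tt N38262 F312356) (tt N53361 (iv7 F342540)))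
theorem Q34028 : ∀ i, i < 34028 → P i := stepQ 34027 Q34027 (allL N34027 (tt N63338 D118850) (tt N63339 D118851) (tt N63287 (iv2 F186746)) (tt N44322 (iv3 F318492)) (tt N17132 (iv4 D54704)) (tt N53349 (iv5 F343275)) (tt N17139 F86513) (tt N63328 (iv7 F305899)))
theorem Q34029 : ∀ i, i < 34029 → P i := stepQ 34028 Q34028 (allL N34028 (tt N63340 D118856) (tt N63341 D118857) (tt N56086 (iv2 F162582)) (tt N22078 F86516) (tt N63342 D118858) (tt N17133 (iv5 D54706)) (tt N63343 D118859) (tt N63288 (iv7 F186756)))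
theorem Q34030 : ∀ i, i < 34030 → P i := stepQ 34029 Q34029 (allL N34029 (tt N17136 (iv1 F86519)) (tt N17134 (iv0 D54707)) (tt N21899 (iv2 F86518)) (tt N17261 F86520) (tt N63344 D118860) (tt N23321 F86517) (tt N63345 D118861) (tt N36253 (iv7 F94206)))
theorem Q34031 : ∀ i, i < 34031 → P i := stepQ 34030 Q34030 (allL N34030 (tt N44988 (iv1 F114292)) (tt N44990 (iv0 F114300)) (tt N40023 F314640) (tt N63346 D118862) (tt N17134 (iv4 D54708)) (tt N63347 D118863) (tt N40014 F314641) (tt N63289 (iv7 F186758)))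
theorem Q34032 : ∀ i, i < 34032 → P i := stepQ 34031 Q34031 (allL N34031 (tt N63341 (iv1 F186922)) (tt N63340 F186920) (tt N63288 (iv2 F186754)) (tt N61132 (iv3 F178072)) (tt N63348 D118868) (tt N17135 (iv5 D54710)) (tt N63349 D118869) (tt N56086 (iv7 F162584)))
theorem Q34033 : ∀ i, i < 34033 → P i := stepQ 34032 Q34032 (allL N34032 (tt N44990 (iv1 F114301)) (tt N44988 (iv0 F114291)) (tt N63289 (iv2 F186757)) (tt N63350 D118870) (tt N17136 (iv4 D54711)) (tt N63351 D118871) (tt N63352 D118872) (tt N40023 F314670))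
theorem Q34034 : ∀ i, i < 34034 → P i := stepQ 34033 Q34033 (allL N34033 (tt N39957 F318402) (tt N40017 (iv0 F316928)) (tt N40019 (iv2 F316916)) (tt N62791 (iv3 F183685)) (tt N63352 (iv4 F186935)) (tt N62786 (iv5 F183672)) (tt N17136 (iv6 D54712)) (tt N40002 F314671))
theorem Q34035 : ∀ i, i < 34035 → P i := stepQ 34034 Q34034 (allL N34034 (tt N22246 F95992) (tt N22234 (iv0 F86525)) (tt N22243 F86524) (tt N17137 (iv3 D54713)) (tt N63122 (iv4 F185717)) (tt N20981 F86522) (tt N63353 D118876) (tt N22244 F86523))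
theorem Q34036 : ∀ i, i < 34036 → P i := stepQ 34035 Q34035 (allL N34035 (tt N44982 (iv1 F114276)) (tt N44986 (iv0 F114288)) (tt N63290 (iv2 F186762)) (tt N63354 D118877) (tt N17137 (iv4 D54714)) (tt N63355 D118878) (tt N63356 D118879) (tt N45262 (iv7 F114972)))
theorem Q34037 : ∀ i, i < 34037 → P i := stepQ 34036 Q34036 (allL N34036 (tt N58621 F314633) (tt N20507 F314634) (tt N58620 F314635) (tt N63353 (iv3 F186937)) (tt N63356 (iv4 F186939)) (tt N63357 D118882) (tt N17137 (iv6 D54715)) (tt N58552 F314636))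
theorem Q34038 : ∀ i, i < 34038 → P i := stepQ 34037 Q34037 (allL N34037 (tt N44986 (iv1 F114287)) (tt N44982 (iv0 F114277)) (tt N45262 (iv2 F114971)) (tt N63358 D118884) (tt N17138 (iv4 D54716)) (tt N63359 D118885) (tt N58553 (iv6 F321290)) (tt N63290 (iv7 F186763)))
theorem Q34039 : ∀ i, i < 34039 → P i := stepQ 34038 Q34038 (allL N34038 (tt N63294 (iv1 F186778)) (tt N17139 (iv0 D54718)) (tt N42881 (iv2 F107524)) (tt N63360 D118890) (tt N36475 F107525) (tt N63361 D118891) (tt N63362 D118892) (tt N63291 (iv7 F186769)))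
theorem Q34040 : ∀ i, i < 34040 → P i := stepQ 34039 Q34039 (allL N34039 (tt N17139 (iv1 D54719)) (tt N63294 F186777) (tt N63291 F186771) (tt N63363 D118893) (tt N21657 (iv4 F86526)) (tt N63364 D118894) (tt N58536 (iv6 F322630)) (tt N42881 (iv7 F107521)))
theorem Q34041 : ∀ i, i < 34041 → P i := stepQ 34040 Q34040 (allL N34040 (tt N63365 D118900) (tt N63366 D118901) (tt N63293 (iv2 F186773)) (tt N62247 (iv3 F322398)) (tt N63367 D118902) (tt N17139 (iv5 D54721)) (tt N63368 D118903) (tt N63369 D118904))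
theorem Q34042 : ∀ i, i < 34042 → P i := stepQ 34041 Q34041 (allL N34041 (tt N63291 (iv1 F186768)) (tt N42881 (iv0 F107522)) (tt N63294 (iv2 F186775)) (tt N20039 (iv3 F322305)) (tt N17140 F86528) (tt N63369 (iv5 F186953)) (tt N63370 D118905) (tt N17139 (iv7 D54722)))
theorem Q34043 : ∀ i, i < 34043 → P i := stepQ 34042 Q34042 (allL N34042 (tt N63371 D118906) (tt N63372 D118907) (tt N63295 (iv2 F186779)) (tt N17148 F86529) (tt N63370 (iv4 F186955)) (tt N22020 F86530) (tt N17140 (iv6 D54723)) (tt N63327 (iv7 F305893)))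
theorem Q34044 : ∀ i, i < 34044 → P i := stepQ 34043 Q34043 (allL N34043 (tt N17207 (iv1 F113936)) (tt N17141 (iv0 D54724)) (tt N17209 F113932) (tt N63332 F186899) (tt N48276 F320090) (tt N63373 D118909) (tt N17190 F113933) (tt N17191 F113934))
theorem Q34045 : ∀ i, i < 34045 → P i := stepQ 34044 Q34044 (allL N34044 (tt N17209 F110795) (tt N17191 (iv0 F110796)) (tt N17141 (iv2 D54726)) (tt N22149 F86532) (tt N63374 D118910) (tt N33399 F320622) (tt N47978 (iv6 F130242)) (tt N17207 (iv7 F113938)))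
theorem Q34046 : ∀ i, i < 34046 → P i := stepQ 34045 Q34045 (allL N34045 (tt N36485 F299520) (tt N22994 F188305) (tt N63374 (iv2 F186966)) (tt N17632 F86537) (tt N17141 (iv4 D54727)) (tt N63375 D118913) (tt N63376 D118914) (tt N22154 F86538))
theorem Q34047 : ∀ i, i < 34047 → P i := stepQ 34046 Q34046 (allL N34046 (tt N63377 D118917) (tt N22741 F313500) (tt N47978 F130243) (tt N17142 F86541) (tt N63376 (iv4 F186977)) (tt N33405 F317987) (tt N17141 (iv6 D54729)) (tt N43943 (iv7 F110226)))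
theorem Q34048 : ∀ i, i < 34048 → P i := stepQ 34047 Q34047 (allL N34047 (tt N17142 (iv1 D54732)) (tt N22153 F86546) (tt N22152 F86550) (tt N63061 (iv3 F304980)) (tt N17596 F86548) (tt N22447 F86551) (tt N17949 (iv6 F86549)) (tt N17368 F86547))
theorem Q34049 : ∀ i, i < 34049 → P i := stepQ 34048 Q34048 (allL N34048 (tt N22851 F191288) (tt N25516 (iv0 F304636)) (tt N22263 F190093) (tt N17628 F301687) (tt N17143 (iv4 D54736)) (tt N63378 D118937) (tt N49052 (iv6 F304639)) (tt N22150 F86560))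
theorem Q34050 : ∀ i, i < 34050 → P i := stepQ 34049 Q34049 (allL N34049 (tt N21382 (iv1 F190151)) (tt N21386 (iv0 F190152)) (tt N22265 F190128) (tt N17144 F86563) (tt N49052 F306458) (tt N34344 (iv5 F87264)) (tt N17143 (iv6 D54738)) (tt N43833 (iv7 F190150)))
theorem Q34051 : ∀ i, i < 34051 → P i := stepQ 34050 Q34050 (allL N34050 (tt N63373 F186965) (tt N17208 F113927) (tt N63379 D118945) (tt N17145 (iv3 D54740)) (tt N53424 (iv4 F346755)) (tt N25115 (iv5 F130165)) (tt N44481 F314918) (tt N22158 F86568))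
theorem Q34052 : ∀ i, i < 34052 → P i := stepQ 34051 Q34051 (allL N34051 (tt N22163 (iv1 F86584)) (tt N22162 (iv0 F86583)) (tt N22159 F86580) (tt N63327 (iv3 F305892)) (tt N20217 (iv4 F317147)) (tt N17592 F303873) (tt N17146 (iv6 D54745)) (tt N17148 F86582))
theorem Q34053 : ∀ i, i < 34053 → P i := stepQ 34052 Q34052 (allL N34052 (tt N17213 (iv1 F86589)) (tt N17196 F86588) (tt N17147 (iv2 D54746)) (tt N22160 F86585) (tt N29288 (iv4 F322241)) (tt N33508 F86586) (tt N62686 F320507) (tt N17211 F86587))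
theorem Q34054 : ∀ i, i < 34054 → P i := stepQ 34053 Q34053 (allL N34053 (tt N63380 D118963) (tt N54938 (iv0 F322243)) (tt N29288 (iv2 F322240)) (tt N20826 (iv3 F321641)) (tt N17147 (iv4 D54747)) (tt N63381 D118964) (tt N59877 (iv6 F346900)) (tt N20818 F320509))
theorem Q34055 : ∀ i, i < 34055 → P i := stepQ 34054 Q34054 (allL N34054 (tt N22159 (iv1 F86618)) (tt N17148 (iv0 D54761)) (tt N22162 F183560) (tt N63382 D118999) (tt N20891 (iv4 F314880)) (tt N20765 F312422) (tt N33765 F86617) (tt N22163 F183561))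
theorem Q34056 : ∀ i, i < 34056 → P i := stepQ 34055 Q34055 (allL N34055 (tt N17148 (iv1 D54762)) (tt N22159 F86619) (tt N22163 F183614) (tt N51605 (iv3 F308514)) (tt N20859 (iv4 F314970)) (tt N20766 F312507) (tt N20368 (iv6 F313676)) (tt N22162 F183615))
theorem Q34057 : ∀ i, i < 34057 → P i := stepQ 34056 Q34056 (allL N34056 (tt N62989 (iv1 F184285)) (tt N62988 F184282) (tt N17263 F86620) (tt N63383 D119006) (tt N17149 (iv4 D54763)) (tt N63384 D119007) (tt N22736 F318296) (tt N22135 F86622))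
theorem Q34058 : ∀ i, i < 34058 → P i := stepQ 34057 Q34057 (allL N34057 (tt N33565 (iv1 F316849)) (tt N33568 (iv0 F316850)) (tt N17173 F86623) (tt N29836 F86624) (tt N21350 F314525) (tt N56458 (iv5 F163784)) (tt N17150 (iv6 D54764)) (tt N41387 (iv7 F316857)))
theorem Q34059 : ∀ i, i < 34059 → P i := stepQ 34058 Q34058 (allL N34058 (tt N17187 (iv1 F86628)) (tt N17151 (iv0 D54765)) (tt N17182 (iv2 F86627)) (tt N22970 (iv3 F86630)) (tt N21566 F86626) (tt N24116 F86625) (tt N63385 D119011) (tt N17183 F86629))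
theorem Q34060 : ∀ i, i < 34060 → P i := stepQ 34059 Q34059 (allL N34059 (tt N23576 F86634) (tt N23575 F86635) (tt N17185 F86631) (tt N23569 F86632) (tt N24230 F86636) (tt N17151 (iv5 D54766)) (tt N63386 D119012) (tt N17205 F86633))
theorem Q34061 : ∀ i, i < 34061 → P i := stepQ 34060 Q34060 (allL N34060 (tt N51974 (iv1 F298829)) (tt N42805 F107176) (tt N17186 F86637) (tt N46424 F298331) (tt N17152 F86638) (tt N52500 (iv5 F300954)) (tt N17151 (iv6 D54767)) (tt N63251 (iv7 F186523)))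
theorem Q34062 : ∀ i, i < 34062 → P i := stepQ 34061 Q34061 (allL N34061 (tt N17251 (iv1 F232327)) (tt N63387 D119016) (tt N21929 F86639) (tt N22232 F86640) (tt N56117 (iv4 F162759)) (tt N62847 (iv5 F183891)) (tt N17153 (iv6 D54768)) (tt N40016 (iv7 F308018)))
theorem Q34063 : ∀ i, i < 34063 → P i := stepQ 34062 Q34062 (allL N34062 (tt N29794 (iv1 F301201)) (tt N21991 (iv0 F301202)) (tt N17160 F86641) (tt N22829 F86642) (tt N27737 F298522) (tt N21980 (iv5 F301204)) (tt N17154 (iv6 D54769)) (tt N45228 (iv7 F300290)))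
theorem Q34064 : ∀ i, i < 34064 → P i := stepQ 34063 Q34063 (allL N34063 (tt N50966 (iv1 F143173)) (tt N32750 (iv0 F86646)) (tt N46112 (iv2 F120340)) (tt N17156 F86644) (tt N35065 (iv4 F90762)) (tt N17155 (iv5 D54770)) (tt N54903 (iv6 F355646)) (tt N29582 F86645))
theorem Q34065 : ∀ i, i < 34065 → P i := stepQ 34064 Q34064 (allL N34064 (tt N45225 (iv1 F114849)) (tt N46006 (iv0 F120076)) (tt N27611 F86648) (tt N46606 (iv3 F125619)) (tt N17156 (iv4 D54771)) (tt N27631 F86649) (tt N63388 D119021) (tt N29584 F86650))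
theorem Q34066 : ∀ i, i < 34066 → P i := stepQ 34065 Q34065 (allL N34065 (tt N32724 F319334) (tt N41398 F321491) (tt N29579 F86651) (tt N54903 (iv3 F355644)) (tt N63388 (iv4 F187251)) (tt N54901 (iv5 F355637)) (tt N17156 (iv6 D54772)) (tt N63389 D119025))
theorem Q34067 : ∀ i, i < 34067 → P i := stepQ 34066 Q34066 (allL N34066 (tt N32123 F86653) (tt N34683 (iv0 F88573)) (tt N29580 F86652) (tt N51304 (iv3 F144698)) (tt N63390 D119026) (tt N17157 (iv5 D54773)) (tt N54901 (iv6 F355638)) (tt N37515 (iv7 F96181)))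
theorem Q34068 : ∀ i, i < 34068 → P i := stepQ 34067 Q34067 (allL N34067 (tt N19500 (iv1 F309055)) (tt N37625 (iv0 F309056)) (tt N21981 F86654) (tt N21562 F86655) (tt N17162 F307455) (tt N21190 F86656) (tt N17158 (iv6 D54774)) (tt N37627 (iv7 F309503)))
theorem Q34069 : ∀ i, i < 34069 → P i := stepQ 34068 Q34068 (allL N34068 (tt N21991 (iv1 F301203)) (tt N29794 (iv0 F301200)) (tt N45228 (iv2 F300289)) (tt N17190 F86663) (tt N27738 F298524) (tt N34709 (iv5 F301205)) (tt N63332 F186901) (tt N17160 (iv7 D54779)))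
theorem Q34070 : ∀ i, i < 34070 → P i := stepQ 34069 Q34069 (allL N34069 (tt N40956 F320358) (tt N63333 (iv0 F190271)) (tt N42727 (iv2 F106992)) (tt N17191 F86664) (tt N37647 F303932) (tt N63273 (iv5 F186692)) (tt N17161 (iv6 D54780)) (tt N63332 (iv7 F186898)))
theorem Q34071 : ∀ i, i < 34071 → P i := stepQ 34070 Q34070 (allL N34070 (tt N21672 F86669) (tt N32833 F86670) (tt N32843 F86667) (tt N46594 (iv3 F125581)) (tt N17163 (iv4 D54782)) (tt N47374 (iv5 F128721)) (tt N63391 D119045) (tt N32844 F86668))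
theorem Q34072 : ∀ i, i < 34072 → P i := stepQ 34071 Q34071 (allL N34071 (tt N63392 D119046) (tt N63393 D119047) (tt N61043 (iv2 F177733)) (tt N21918 F86671) (tt N63391 (iv4 F187301)) (tt N63394 D119048) (tt N17163 (iv6 D54783)) (tt N63395 D119049))
theorem Q34073 : ∀ i, i < 34073 → P i := stepQ 34072 Q34072 (allL N34072 (tt N44502 (iv1 F112353)) (tt N60726 (iv0 F176790)) (tt N22094 F86672) (tt N21919 F86673) (tt N63396 D119050) (tt N17164 (iv5 D54784)) (tt N63394 (iv6 F187304)) (tt N22096 F86674))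
theorem Q34074 : ∀ i, i < 34074 → P i := stepQ 34073 Q34073 (allL N34073 (tt N32833 F86677) (tt N21672 F86678) (tt N32844 F86675) (tt N63397 D119051) (tt N17165 (iv4 D54785)) (tt N47375 (iv5 F128729)) (tt N21113 (iv6 F311528)) (tt N32843 F86676))
theorem Q34075 : ∀ i, i < 34075 → P i := stepQ 34074 Q34074 (allL N34074 (tt N61425 (iv1 F317648)) (tt N61426 (iv0 F317652)) (tt N42754 (iv2 F107061)) (tt N55766 (iv3 F161602)) (tt N21113 F313959) (tt N38921 F327999) (tt N17165 (iv6 D54786)) (tt N63398 D119055))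
theorem Q34076 : ∀ i, i < 34076 → P i := stepQ 34075 Q34075 (allL N34075 (tt N32614 F86682) (tt N22079 (iv0 F86683)) (tt N17167 F86679) (tt N23157 F86680) (tt N61278 (iv4 F178493)) (tt N17166 (iv5 D54787)) (tt N63399 D119056) (tt N29837 F86681))
theorem Q34077 : ∀ i, i < 34077 → P i := stepQ 34076 Q34076 (allL N34076 (tt N17167 (iv1 D54788)) (tt N29837 F86684) (tt N22079 (iv2 F86687)) (tt N34704 (iv3 F88611)) (tt N24828 F319797) (tt N26794 F86686) (tt N24827 (iv6 F321688)) (tt N32614 F86685))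
theorem Q34078 : ∀ i, i < 34078 → P i := stepQ 34077 Q34077 (allL N34077 (tt N43633 (iv1 F109326)) (tt N55782 (iv0 F161731)) (tt N61278 (iv2 F178497)) (tt N21353 F306843) (tt N17167 (iv4 D54789)) (tt N43530 (iv5 F109151)) (tt N21351 (iv6 F308681)) (tt N61279 (iv7 F178499)))
theorem Q34079 : ∀ i, i < 34079 → P i := stepQ 34078 Q34078 (allL N34078 (tt N61102 (iv1 F355803)) (tt N63400 D119061) (tt N63399 (iv2 F187316)) (tt N17173 F86689) (tt N21351 F310813) (tt N63401 D119062) (tt N17167 (iv6 D54790)) (tt N63402 D119063))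
theorem Q34080 : ∀ i, i < 34080 → P i := stepQ 34079 Q34079 (allL N34079 (tt N22079 (iv1 F86693)) (tt N32614 F86694) (tt N29837 F86690) (tt N17174 F86691) (tt N61279 (iv4 F178501)) (tt N17169 F86692) (tt N63403 D119064) (tt N17167 (iv7 D54791)))
theorem Q34081 : ∀ i, i < 34081 → P i := stepQ 34080 Q34080 (allL N34080 (tt N56442 F163762) (tt N32618 (iv0 F86697)) (tt N30085 F86695) (tt N17177 F86696) (tt N63404 D119065) (tt N17168 (iv5 D54792)) (tt N63401 (iv6 F187331)) (tt N51505 (iv7 F145397)))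
theorem Q34082 : ∀ i, i < 34082 → P i := stepQ 34081 Q34081 (allL N34081 (tt N21692 F86700) (tt N32790 F86701) (tt N32805 F86698) (tt N52181 (iv3 F147900)) (tt N17170 (iv4 D54793)) (tt N42738 (iv5 F107038)) (tt N63405 D119066) (tt N32806 F86699))
theorem Q34083 : ∀ i, i < 34083 → P i := stepQ 34082 Q34082 (allL N34082 (tt N63406 D119067) (tt N63407 D119068) (tt N46029 (iv2 F120117)) (tt N34702 (iv3 F88604)) (tt N63405 (iv4 F187338)) (tt N60180 (iv5 F175874)) (tt N17170 (iv6 D54794)) (tt N63408 D119069))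
theorem Q34084 : ∀ i, i < 34084 → P i := stepQ 34083 Q34083 (allL N34083 (tt N32790 F86704) (tt N21692 F86705) (tt N32806 F86702) (tt N63409 D119070) (tt N17171 (iv4 D54795)) (tt N42737 (iv5 F107034)) (tt N48241 (iv6 F309793)) (tt N32805 F86703))
theorem Q34085 : ∀ i, i < 34085 → P i := stepQ 34084 Q34084 (allL N34084 (tt N63410 D119072) (tt N63411 D119073) (tt N45203 (iv2 F114781)) (tt N32620 F86706) (tt N48241 F311999) (tt N60797 (iv5 F176914)) (tt N17171 (iv6 D54796)) (tt N63412 D119074))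
theorem Q34086 : ∀ i, i < 34086 → P i := stepQ 34085 Q34085 (allL N34085 (tt N42348 (iv1 F106037)) (tt N17334 (iv0 F86714)) (tt N17200 F86711) (tt N21356 F308397) (tt N17174 F86712) (tt N24230 F86713) (tt N63413 D119080) (tt N17172 (iv7 D54799)))
theorem Q34087 : ∀ i, i < 34087 → P i := stepQ 34086 Q34086 (allL N34086 (tt N41375 (iv1 F317674)) (tt N41366 (iv0 F317675)) (tt N56458 (iv2 F163782)) (tt N63401 (iv3 F187330)) (tt N63414 D119092) (tt N17173 (iv5 D54802)) (tt N17177 F86715) (tt N63414 (iv7 F317680)))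
theorem Q34088 : ∀ i, i < 34088 → P i := stepQ 34087 Q34087 (allL N34087 (tt N33568 (iv1 F316851)) (tt N33565 (iv0 F316848)) (tt N41387 (iv2 F316856)) (tt N63402 (iv3 F187332)) (tt N21324 F315428) (tt N63414 (iv5 F317679)) (tt N63415 D119094) (tt N17173 (iv7 D54803)))
theorem Q34089 : ∀ i, i < 34089 → P i := stepQ 34088 Q34088 (allL N34088 (tt N41413 (iv1 F315231)) (tt N41409 (iv0 F315232)) (tt N17201 F86716) (tt N63403 (iv3 F187334)) (tt N63413 (iv4 F187350)) (tt N63416 D119097) (tt N17174 (iv6 D54804)) (tt N63415 (iv7 F187356)))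
theorem Q34090 : ∀ i, i < 34090 → P i := stepQ 34089 Q34089 (allL N34089 (tt N29980 F86718) (tt N37375 (iv0 F95886)) (tt N44499 F112345) (tt N21999 F86717) (tt N63417 D119098) (tt N17175 (iv5 D54805)) (tt N50766 (iv6 F142363)) (tt N37554 (iv7 F96258)))
theorem Q34091 : ∀ i, i < 34091 → P i := stepQ 34090 Q34090 (allL N34090 (tt N37375 (iv1 F95885)) (tt N29980 (iv0 F86720)) (tt N37554 (iv2 F96257)) (tt N32174 F86719) (tt N63418 D119099) (tt N17176 (iv5 D54806)) (tt N63419 D119100) (tt N44499 (iv7 F112347)))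
theorem Q34092 : ∀ i, i < 34092 → P i := stepQ 34091 Q34091 (allL N34091 (tt N30087 (iv1 F86723)) (tt N17177 (iv0 D54807)) (tt N46005 (iv2 F120070)) (tt N63420 D119101) (tt N63421 D119102) (tt N22794 F86726) (tt N63422 D119103) (tt N32589 F86725))
theorem Q34093 : ∀ i, i < 34093 → P i := stepQ 34092 Q34092 (allL N34092 (tt N61357 (iv1 F178685)) (tt N38207 (iv0 F97660)) (tt N56457 (iv2 F163780)) (tt N63423 D119104) (tt N17177 (iv4 D54808)) (tt N63424 D119105) (tt N63414 (iv6 F187353)) (tt N63425 D119106))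
theorem Q34094 : ∀ i, i < 34094 → P i := stepQ 34093 Q34093 (allL N34093 (tt N32589 (iv1 F86724)) (tt N46005 F120072) (tt N30087 F86721) (tt N51505 (iv3 F145396)) (tt N63425 (iv4 F187377)) (tt N17178 F86722) (tt N63425 (iv6 F333551)) (tt N17177 (iv7 D54809)))
theorem Q34095 : ∀ i, i < 34095 → P i := stepQ 34094 Q34094 (allL N34094 (tt N61654 (iv1 F179176)) (tt N61164 F178137) (tt N17203 F86727) (tt N61124 (iv3 F178042)) (tt N50632 (iv4 F329996)) (tt N17179 (iv5 D54810)) (tt N63416 (iv6 F187363)) (tt N55350 (iv7 F335359)))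
theorem Q34096 : ∀ i, i < 34096 → P i := stepQ 34095 Q34095 (allL N34095 (tt N22949 (iv1 F86732)) (tt N22948 F86733) (tt N22926 F86728) (tt N17180 (iv3 D54811)) (tt N22200 F86729) (tt N26172 F86730) (tt N63426 D119109) (tt N22950 F86731))
theorem Q34097 : ∀ i, i < 34097 → P i := stepQ 34096 Q34096 (allL N34096 (tt N63427 D119110) (tt N63428 D119111) (tt N17359 F86734) (tt N63426 (iv3 F187382)) (tt N17181 F86735) (tt N63429 D119112) (tt N17180 (iv6 D54812)) (tt N63430 D119113))
theorem Q34098 : ∀ i, i < 34098 → P i := stepQ 34097 Q34097 (allL N34097 (tt N17362 F86737) (tt N17181 (iv0 D54813)) (tt N17360 F186132) (tt N17350 F309124) (tt N63431 D119114) (tt N63432 D119115) (tt N17349 F309125) (tt N17361 F186133))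
theorem Q34099 : ∀ i, i < 34099 → P i := stepQ 34098 Q34098 (allL N34098 (tt N17181 (iv1 D54814)) (tt N17362 F86738) (tt N17361 F186206) (tt N45230 (iv3 F232721)) (tt N38915 (iv4 F314063)) (tt N63433 D119118) (tt N63377 F186982) (tt N17360 F186207))
theorem Q34100 : ∀ i, i < 34100 → P i := stepQ 34099 Q34099 (allL N34099 (tt N17361 (iv1 F86742)) (tt N17360 F86743) (tt N17362 F86739) (tt N22206 F86740) (tt N63430 (iv4 F187391)) (tt N63236 (iv5 F186468)) (tt N23054 F86741) (tt N17181 (iv7 D54815)))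
theorem Q34101 : ∀ i, i < 34101 → P i := stepQ 34100 Q34100 (allL N34100 (tt N63431 F187400) (tt N38915 (iv0 F314061)) (tt N63385 (iv2 F187159)) (tt N24449 (iv3 F306116)) (tt N21570 F86744) (tt N24447 (iv5 F306119)) (tt N17182 (iv6 D54816)) (tt N63434 D119120))
theorem Q34102 : ∀ i, i < 34102 → P i := stepQ 34101 Q34101 (allL N34101 (tt N19239 F313822) (tt N23058 F155376) (tt N36960 F313823) (tt N24488 F86745) (tt N36419 (iv4 F94555)) (tt N19280 (iv5 F316283)) (tt N17183 (iv6 D54817)) (tt N36961 F313824))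
theorem Q34103 : ∀ i, i < 34103 → P i := stepQ 34102 Q34102 (allL N34102 (tt N63435 D119123) (tt N41610 F310240) (tt N23573 F86746) (tt N17186 F86747) (tt N19516 F303819) (tt N63436 D119125) (tt N17184 (iv6 D54818)) (tt N48277 F319971))
theorem Q34104 : ∀ i, i < 34104 → P i := stepQ 34103 Q34103 (allL N34103 (tt N17205 (iv1 F86750)) (tt N17185 (iv0 D54819)) (tt N23576 (iv2 F86751)) (tt N52968 (iv3 F306538)) (tt N47375 (iv4 F128730)) (tt N17222 F86749) (tt N52966 (iv6 F319556)) (tt N23575 (iv7 F86752)))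
theorem Q34105 : ∀ i, i < 34105 → P i := stepQ 34104 Q34104 (allL N34104 (tt N17185 (iv1 D54820)) (tt N17205 F86753) (tt N23575 (iv2 F86756)) (tt N24491 (iv3 F87066)) (tt N47374 (iv4 F128722)) (tt N17223 F86755) (tt N63437 D119129) (tt N23576 F86754))
theorem Q34106 : ∀ i, i < 34106 → P i := stepQ 34105 Q34105 (allL N34105 (tt N63438 D119130) (tt N63439 D119131) (tt N63386 (iv2 F187162)) (tt N17559 F86758) (tt N24231 F86759) (tt N63440 D119132) (tt N17185 (iv6 D54821)) (tt N63441 D119133))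
theorem Q34107 : ∀ i, i < 34107 → P i := stepQ 34106 Q34106 (allL N34106 (tt N63251 F186525) (tt N17186 (iv0 D54822)) (tt N51974 F301468) (tt N43414 F301469) (tt N36420 (iv4 F191021)) (tt N51971 (iv5 F303649)) (tt N59996 (iv6 F315492)) (tt N42805 (iv7 F155344)))
theorem Q34108 : ∀ i, i < 34108 → P i := stepQ 34107 Q34107 (allL N34107 (tt N17186 (iv1 D54823)) (tt N63251 F186531) (tt N42805 (iv2 F186532)) (tt N24495 F191013) (tt N36421 (iv4 F191017)) (tt N27841 (iv5 F298856)) (tt N63442 D119139) (tt N51974 (iv7 F298831)))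
theorem Q34109 : ∀ i, i < 34109 → P i := stepQ 34108 Q34108 (allL N34108 (tt N52493 (iv1 F304282)) (tt N27454 F301494) (tt N52500 F301495) (tt N63436 (iv3 F187434)) (tt N25743 (iv4 F304283)) (tt N17186 (iv5 D54824)) (tt N63440 (iv6 F187456)) (tt N51803 (iv7 F303700)))
theorem Q34110 : ∀ i, i < 34110 → P i := stepQ 34109 Q34109 (allL N34109 (tt N42805 F107175) (tt N51974 F300986) (tt N63251 (iv2 F186521)) (tt N48277 F319963) (tt N17190 F86760) (tt N51803 (iv5 F303699)) (tt N48276 F319964) (tt N17186 (iv7 D54825)))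
theorem Q34111 : ∀ i, i < 34111 → P i := stepQ 34110 Q34110 (allL N34110 (tt N63443 D119144) (tt N63444 D119145) (tt N17206 F86761) (tt N23578 F86762) (tt N17191 F86763) (tt N35515 (iv5 F321018)) (tt N17187 (iv6 D54826)) (tt N48276 F320091))
theorem Q34112 : ∀ i, i < 34112 → P i := stepQ 34111 Q34111 (allL N34111 (tt N36483 (iv1 F298154)) (tt N22992 F190988) (tt N22021 F86764) (tt N28687 (iv3 F298145)) (tt N17188 (iv4 D54827)) (tt N59984 (iv5 F323304)) (tt N43978 (iv6 F110361)) (tt N36482 (iv7 F298158)))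
theorem Q34113 : ∀ i, i < 34113 → P i := stepQ 34112 Q34112 (allL N34112 (tt N63379 (iv1 F187038)) (tt N22158 (iv0 F86777)) (tt N17208 F86775) (tt N63273 (iv3 F186691)) (tt N63445 D119158) (tt N17191 (iv5 D54836)) (tt N17196 F86776) (tt N63373 (iv7 F186963)))
theorem Q34114 : ∀ i, i < 34114 → P i := stepQ 34113 Q34113 (allL N34113 (tt N38295 (iv1 F97874)) (tt N38294 F97873) (tt N19021 F86778) (tt N17693 (iv3 F313355)) (tt N17192 (iv4 D54837)) (tt N63446 D119160) (tt N63447 D119161) (tt N17793 F311083))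
theorem Q34115 : ∀ i, i < 34115 → P i := stepQ 34114 Q34114 (allL N34114 (tt N44590 F131031) (tt N63448 D119162) (tt N19022 F86779) (tt N22225 F86780) (tt N63447 (iv4 F187494)) (tt N62886 (iv5 F184011)) (tt N17192 (iv6 D54838)) (tt N48483 F309779))
theorem Q34116 : ∀ i, i < 34116 → P i := stepQ 34115 Q34115 (allL N34115 (tt N38265 (iv1 F97804)) (tt N38264 F97801) (tt N18970 F86781) (tt N34787 (iv3 F311799)) (tt N17193 (iv4 D54839)) (tt N35166 (iv5 F311800)) (tt N63449 D119166) (tt N34581 (iv7 F87977)))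
theorem Q34117 : ∀ i, i < 34117 → P i := stepQ 34116 Q34116 (allL N34116 (tt N63450 D119167) (tt N63451 D119168) (tt N18971 F86782) (tt N22227 F86783) (tt N63449 (iv4 F187516)) (tt N41311 (iv5 F103905)) (tt N17193 (iv6 D54840)) (tt N63452 D119169))
theorem Q34118 : ∀ i, i < 34118 → P i := stepQ 34117 Q34117 (allL N34117 (tt N17194 (iv1 D54842)) (tt N22831 F86784) (tt N37584 (iv2 F96303)) (tt N53746 (iv3 F332307)) (tt N36428 F94576) (tt N63453 D119174) (tt N63454 D119175) (tt N53734 (iv7 F307754)))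
theorem Q34119 : ∀ i, i < 34119 → P i := stepQ 34118 Q34118 (allL N34118 (tt N53758 (iv1 F357928)) (tt N63455 D119182) (tt N55349 (iv2 F307758)) (tt N63126 (iv3 F311791)) (tt N61655 (iv4 F333554)) (tt N17194 (iv5 D54844)) (tt N53504 (iv6 F364670)) (tt N63456 D119185))
theorem Q34120 : ∀ i, i < 34120 → P i := stepQ 34119 Q34119 (allL N34119 (tt N37584 (iv1 F96306)) (tt N53734 (iv0 F307752)) (tt N22831 F86785) (tt N63127 (iv3 F311792)) (tt N17195 F86786) (tt N63456 (iv5 F187535)) (tt N53568 (iv6 F307750)) (tt N17194 (iv7 D54845)))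
theorem Q34121 : ∀ i, i < 34121 → P i := stepQ 34120 Q34120 (allL N34120 (tt N46461 (iv1 F307607)) (tt N41046 F318426) (tt N22832 F86788) (tt N45249 (iv3 F114909)) (tt N53568 (iv4 F307749)) (tt N63191 (iv5 F186066)) (tt N17195 (iv6 D54846)) (tt N52754 F305753))
theorem Q34122 : ∀ i, i < 34122 → P i := stepQ 34121 Q34121 (allL N34121 (tt N63457 D119189) (tt N63458 D119190) (tt N17212 F86789) (tt N52258 (iv3 F329985)) (tt N17196 (iv4 D54847)) (tt N52187 (iv5 F329977)) (tt N63445 (iv6 F187490)) (tt N63190 (iv7 F186061)))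
theorem Q34123 : ∀ i, i < 34123 → P i := stepQ 34122 Q34122 (allL N34122 (tt N45301 (iv1 F115101)) (tt N45304 F125525) (tt N46579 (iv2 F125522)) (tt N17197 (iv3 D54848)) (tt N17204 F86790) (tt N33661 F86791) (tt N42268 F324850) (tt N42255 F306209))
theorem Q34124 : ∀ i, i < 34124 → P i := stepQ 34123 Q34123 (allL N34123 (tt N42849 (iv1 F113947)) (tt N40209 (iv0 F309338)) (tt N41943 (iv2 F105117)) (tt N42268 (iv3 F323522)) (tt N17198 F86792) (tt N41037 (iv5 F309344)) (tt N17197 (iv6 D54849)) (tt N41036 F307322))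
theorem Q34125 : ∀ i, i < 34125 → P i := stepQ 34124 Q34124 (allL N34124 (tt N42729 (iv1 F107001)) (tt N17198 (iv0 D54850)) (tt N22121 F185100) (tt N43447 (iv3 F190138)) (tt N21843 F185136) (tt N63459 D119196) (tt N22745 (iv6 F307255)) (tt N42728 F185101))
theorem Q34126 : ∀ i, i < 34126 → P i := stepQ 34125 Q34125 (allL N34125 (tt N17198 (iv1 D54851)) (tt N42729 F107000) (tt N42728 F185102) (tt N22065 F108328) (tt N21844 F108329) (tt N63460 D119197) (tt N41262 (iv6 F314911)) (tt N22121 F185103))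
theorem Q34127 : ∀ i, i < 34127 → P i := stepQ 34126 Q34126 (allL N34126 (tt N42728 (iv1 F106996)) (tt N22121 F185042) (tt N42729 (iv2 F106997)) (tt N17209 F86793) (tt N41036 F308970) (tt N22546 F86794) (tt N38348 F305262) (tt N17198 (iv7 D54852)))
theorem Q34128 : ∀ i, i < 34128 → P i := stepQ 34127 Q34127 (allL N34127 (tt N61172 F178286) (tt N36390 F178287) (tt N29838 F86795) (tt N17201 F86796) (tt N27491 F86797) (tt N36667 (iv5 F94988)) (tt N17199 (iv6 D54853)) (tt N61171 (iv7 F178169)))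
theorem Q34129 : ∀ i, i < 34129 → P i := stepQ 34128 Q34128 (allL N34128 (tt N61300 F178545) (tt N61382 (iv0 F290486)) (tt N63413 (iv2 F187349)) (tt N24234 F86798) (tt N17201 F86799) (tt N40908 F340746) (tt N17200 (iv6 D54854)) (tt N63461 D119201))
theorem Q34130 : ∀ i, i < 34130 → P i := stepQ 34129 Q34129 (allL N34129 (tt N63415 (iv1 F187358)) (tt N17201 (iv0 D54855)) (tt N41413 (iv2 F318689)) (tt N50029 (iv3 F138587)) (tt N41381 F316464) (tt N63462 D119204) (tt N50026 F138584) (tt N41409 (iv7 F318692)))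
theorem Q34131 : ∀ i, i < 34131 → P i := stepQ 34130 Q34130 (allL N34130 (tt N17201 (iv1 D54856)) (tt N63415 F187357) (tt N41409 (iv2 F318691)) (tt N63463 D119205) (tt N41380 (iv4 F319720)) (tt N63464 D119207) (tt N63465 D119208) (tt N41413 (iv7 F318690)))
theorem Q34132 : ∀ i, i < 34132 → P i := stepQ 34131 Q34131 (allL N34131 (tt N63466 D119209) (tt N63467 D119210) (tt N63416 (iv2 F187362)) (tt N36667 (iv3 F94987)) (tt N63468 D119211) (tt N17201 (iv5 D54857)) (tt N17203 F86800) (tt N63469 D119212))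
theorem Q34133 : ∀ i, i < 34133 → P i := stepQ 34132 Q34132 (allL N34132 (tt N41409 F317127) (tt N41413 F317128) (tt N63415 (iv2 F187355)) (tt N61171 F178170) (tt N63461 (iv4 F187577)) (tt N63469 (iv5 F187581)) (tt N41387 F317129) (tt N17201 (iv7 D54858)))
theorem Q34134 : ∀ i, i < 34134 → P i := stepQ 34133 Q34133 (allL N34133 (tt N56347 F163524) (tt N61090 F177974) (tt N60794 (iv2 F176898)) (tt N63288 (iv3 F186755)) (tt N63470 D119213) (tt N17202 (iv5 D54859)) (tt N63471 D119214) (tt N22078 F86801))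
theorem Q34135 : ∀ i, i < 34135 → P i := stepQ 34134 Q34134 (allL N34134 (tt N55350 (iv1 F335355)) (tt N17203 (iv0 D54860)) (tt N61654 F179180) (tt N61133 (iv3 F178140)) (tt N63472 D119215) (tt N61661 (iv5 F179187)) (tt N63473 D119216) (tt N61164 F178139))
theorem Q34136 : ∀ i, i < 34136 → P i := stepQ 34135 Q34135 (allL N34135 (tt N17203 (iv1 D54861)) (tt N55350 (iv0 F335354)) (tt N61164 (iv2 F178134)) (tt N45257 (iv3 F114952)) (tt N63474 D119217) (tt N32603 (iv5 F86802)) (tt N50221 (iv6 F139261)) (tt N61654 (iv7 F179177)))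
theorem Q34137 : ∀ i, i < 34137 → P i := stepQ 34136 Q34136 (allL N34136 (tt N53223 (iv1 F330002)) (tt N53793 (iv0 F329999)) (tt N50632 (iv2 F329995)) (tt N63475 D119218) (tt N17203 (iv4 D54862)) (tt N50631 (iv5 F335360)) (tt N63468 (iv6 F187580)) (tt N53504 (iv7 F329998)))
theorem Q34138 : ∀ i, i < 34138 → P i := stepQ 34137 Q34137 (allL N34137 (tt N23568 (iv1 F86807)) (tt N23567 (iv0 F86806)) (tt N17556 F86803) (tt N17205 F86804) (tt N48427 (iv4 F132646)) (tt N17204 (iv5 D54863)) (tt N63476 D119220) (tt N23569 F86805))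
theorem Q34139 : ∀ i, i < 34139 → P i := stepQ 34138 Q34138 (allL N34138 (tt N52843 (iv1 F151631)) (tt N24466 (iv0 F118988)) (tt N48272 F320690) (tt N17206 F86810) (tt N42268 F324849) (tt N48271 (iv5 F322450)) (tt N17204 (iv6 D54864)) (tt N52842 F151623))
theorem Q34140 : ∀ i, i < 34140 → P i := stepQ 34139 Q34139 (allL N34139 (tt N37548 (iv1 F312919)) (tt N37531 (iv0 F312916)) (tt N23577 F86811) (tt N63476 (iv3 F187594)) (tt N37540 F310771) (tt N63477 D119224) (tt N17205 (iv6 D54865)) (tt N37544 (iv7 F312915)))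
theorem Q34141 : ∀ i, i < 34141 → P i := stepQ 34140 Q34140 (allL N34140 (tt N48276 F320088) (tt N17206 (iv0 D54866)) (tt N63443 (iv2 F187639)) (tt N63478 D119227) (tt N63479 D119228) (tt N63480 D119229) (tt N63481 D119230) (tt N63444 F187644))
theorem Q34142 : ∀ i, i < 34142 → P i := stepQ 34141 Q34141 (allL N34141 (tt N17206 (iv1 D54867)) (tt N48276 F320087) (tt N63444 F187643) (tt N63482 D119231) (tt N33883 (iv4 F185139)) (tt N63483 D119232) (tt N63484 D119233) (tt N63443 (iv7 F187640)))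
theorem Q34143 : ∀ i, i < 34143 → P i := stepQ 34142 Q34142 (allL N34142 (tt N48274 (iv1 F324253)) (tt N45901 F328798) (tt N35515 F322775) (tt N48271 F322776) (tt N63485 D119236) (tt N17206 (iv5 D54868)) (tt N63477 (iv6 F187599)) (tt N48275 F322777))
theorem Q34144 : ∀ i, i < 34144 → P i := stepQ 34143 Q34143 (allL N34143 (tt N63444 (iv1 F187464)) (tt N63443 F187463) (tt N48276 F320089) (tt N52842 (iv3 F151621)) (tt N17209 F86812) (tt N48275 (iv5 F321836)) (tt N63251 (iv6 F186522)) (tt N17206 (iv7 D54869)))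
theorem Q34145 : ∀ i, i < 34145 → P i := stepQ 34144 Q34144 (allL N34144 (tt N22994 F188306) (tt N36485 F300972) (tt N22154 F113943) (tt N63486 D119238) (tt N17207 (iv4 D54877)) (tt N63487 D119239) (tt N63488 D119240) (tt N63374 (iv7 F186967)))
theorem Q34146 : ∀ i, i < 34146 → P i := stepQ 34145 Q34145 (allL N34145 (tt N33407 F321229) (tt N33406 F321230) (tt N22155 F113944) (tt N22264 F190129) (tt N63489 D119241) (tt N17207 (iv5 D54878)) (tt N40789 F321231) (tt N33399 F321232))
theorem Q34147 : ∀ i, i < 34147 → P i := stepQ 34146 Q34146 (allL N34146 (tt N62910 F184110) (tt N23056 F130251) (tt N22156 F113945) (tt N22265 F190130) (tt N63488 (iv4 F187677)) (tt N34245 (iv5 F87019)) (tt N17207 (iv6 D54879)) (tt N62975 (iv7 F184259)))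
theorem Q34148 : ∀ i, i < 34148 → P i := stepQ 34147 Q34147 (allL N34147 (tt N17208 (iv1 D54881)) (tt N63373 (iv0 F186964)) (tt N22158 F86816) (tt N22266 F190603) (tt N53423 (iv4 F337150)) (tt N25079 (iv5 F86815)) (tt N25128 F199938) (tt N63379 (iv7 F187037)))
theorem Q34149 : ∀ i, i < 34149 → P i := stepQ 34148 Q34148 (allL N34148 (tt N63490 D119244) (tt N63491 D119245) (tt N63445 (iv2 F187489)) (tt N51807 (iv3 F329940)) (tt N17208 (iv4 D54882)) (tt N51804 (iv5 F350700)) (tt N17212 F86817) (tt N63492 D119248))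
theorem Q34150 : ∀ i, i < 34150 → P i := stepQ 34149 Q34149 (allL N34149 (tt N22158 (iv1 F86820)) (tt N63379 F187039) (tt N63373 (iv2 F186962)) (tt N22546 F86818) (tt N63492 (iv4 F187688)) (tt N17209 F86819) (tt N63493 D119249) (tt N17208 (iv7 D54883)))
theorem Q34151 : ∀ i, i < 34151 → P i := stepQ 34150 Q34150 (allL N34150 (tt N63195 (iv1 F186077)) (tt N63194 F186074) (tt N21906 F86821) (tt N29227 (iv3 F322862)) (tt N17210 (iv4 D54884)) (tt N29226 (iv5 F322866)) (tt N63494 D119252) (tt N22056 F86822))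
theorem Q34152 : ∀ i, i < 34152 → P i := stepQ 34151 Q34151 (allL N34151 (tt N39987 F318260) (tt N39986 F318261) (tt N21907 F86823) (tt N22270 F86824) (tt N63494 (iv4 F187697)) (tt N21237 F86825) (tt N17210 (iv6 D54885)) (tt N39981 F318262))
theorem Q34153 : ∀ i, i < 34153 → P i := stepQ 34152 Q34152 (allL N34152 (tt N54938 (iv1 F322244)) (tt N63380 F187082) (tt N20818 F321506) (tt N27522 (iv3 F323187)) (tt N17211 (iv4 D54886)) (tt N27518 (iv5 F323188)) (tt N20816 F321507) (tt N29288 (iv7 F322242)))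
theorem Q34154 : ∀ i, i < 34154 → P i := stepQ 34153 Q34153 (allL N34153 (tt N63190 (iv1 F186063)) (tt N17212 (iv0 D54888)) (tt N63457 (iv2 F187543)) (tt N63495 D119262) (tt N63496 D119263) (tt N63497 D119264) (tt N59863 (iv6 F348106)) (tt N63458 (iv7 F187545)))
theorem Q34155 : ∀ i, i < 34155 → P i := stepQ 34154 Q34154 (allL N34154 (tt N17212 (iv1 D54889)) (tt N63190 (iv0 F186062)) (tt N63458 F187547) (tt N63498 D119266) (tt N33897 (iv4 F86829)) (tt N63499 D119267) (tt N62674 (iv6 F323292)) (tt N63457 F187542))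
theorem Q34156 : ∀ i, i < 34156 → P i := stepQ 34155 Q34155 (allL N34155 (tt N63458 (iv1 F187544)) (tt N63457 F187541) (tt N63190 (iv2 F186060)) (tt N29181 F329914) (tt N17213 F86831) (tt N29180 (iv5 F329945)) (tt N63500 D119279) (tt N17212 (iv7 D54892)))
theorem Q34157 : ∀ i, i < 34157 → P i := stepQ 34156 Q34156 (allL N34156 (tt N63382 F187128) (tt N63501 D119280) (tt N63191 (iv2 F186064)) (tt N17313 F86832) (tt N63500 (iv4 F187740)) (tt N22832 F86833) (tt N17213 (iv6 D54893)) (tt N63493 (iv7 F187691)))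
theorem Q34158 : ∀ i, i < 34158 → P i := stepQ 34157 Q34157 (allL N34157 (tt N63502 D119281) (tt N63503 D119282) (tt N24407 F86834) (tt N17216 F86835) (tt N22280 F86836) (tt N63504 D119283) (tt N17214 (iv6 D54894)) (tt N63505 D119284))
theorem Q34159 : ∀ i, i < 34159 → P i := stepQ 34158 Q34158 (allL N34158 (tt N43973 (iv1 F314159)) (tt N63506 D119286) (tt N17246 F86837) (tt N28794 F86838) (tt N52349 (iv4 F148874)) (tt N63507 D119287) (tt N17215 (iv6 D54895)) (tt N63508 D119288))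
theorem Q34160 : ∀ i, i < 34160 → P i := stepQ 34159 Q34159 (allL N34159 (tt N17250 (iv1 F86844)) (tt N17216 (iv0 D54896)) (tt N17247 F185364) (tt N63509 D119289) (tt N18592 (iv4 F86846)) (tt N63510 D119290) (tt N63511 D119291) (tt N17248 F185365))
theorem Q34161 : ∀ i, i < 34161 → P i := stepQ 34160 Q34160 (allL N34160 (tt N17216 (iv1 D54897)) (tt N17250 F86839) (tt N17248 F185366) (tt N36507 (iv3 F304137)) (tt N63512 D119293) (tt N63513 D119294) (tt N36506 F301375) (tt N17247 F185367))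
theorem Q34162 : ∀ i, i < 34162 → P i := stepQ 34161 Q34161 (allL N34161 (tt N63514 D119296) (tt N63515 D119297) (tt N17249 F86840) (tt N63504 (iv3 F187743)) (tt N62015 (iv4 F336269)) (tt N17216 (iv5 D54898)) (tt N63507 (iv6 F187755)) (tt N63516 D119299))
theorem Q34163 : ∀ i, i < 34163 → P i := stepQ 34162 Q34162 (allL N34162 (tt N17248 (iv1 F86845)) (tt N17247 F86847) (tt N17250 F86841) (tt N63505 (iv3 F187746)) (tt N17219 F86842) (tt N63516 (iv5 F187782)) (tt N24748 F86843) (tt N17216 (iv7 D54899)))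
theorem Q34164 : ∀ i, i < 34164 → P i := stepQ 34163 Q34163 (allL N34163 (tt N22728 F308964) (tt N17543 F162882) (tt N23892 F162714) (tt N17217 (iv3 D54901)) (tt N22801 F308965) (tt N63517 D119300) (tt N37448 F162883) (tt N17255 F162715))
theorem Q34165 : ∀ i, i < 34165 → P i := stepQ 34164 Q34164 (allL N34164 (tt N63518 D119301) (tt N25068 F184664) (tt N17252 F162716) (tt N52778 (iv3 F151268)) (tt N17217 (iv4 D54902)) (tt N63519 D119302) (tt N63520 D119303) (tt N17256 F162717))
theorem Q34166 : ∀ i, i < 34166 → P i := stepQ 34165 Q34165 (allL N34165 (tt N22506 F110799) (tt N62881 F183997) (tt N17253 F162718) (tt N63517 (iv3 F187787)) (tt N63521 D119304) (tt N17217 (iv5 D54903)) (tt N23364 F308212) (tt N17257 F162719))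
theorem Q34167 : ∀ i, i < 34167 → P i := stepQ 34166 Q34166 (allL N34166 (tt N22481 F184256) (tt N54147 (iv0 F308427)) (tt N17254 F162720) (tt N37448 (iv3 F162885)) (tt N63520 (iv4 F187797)) (tt N34422 F87501) (tt N17217 (iv6 D54904)) (tt N63522 D119307))
theorem Q34168 : ∀ i, i < 34168 → P i := stepQ 34167 Q34167 (allL N34167 (tt N21929 F232302) (tt N40016 F310037) (tt N63387 (iv2 F232323)) (tt N17218 (iv3 D54906)) (tt N29801 F86850) (tt N63523 D119310) (tt N47704 F303827) (tt N17251 F162704))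
theorem Q34169 : ∀ i, i < 34169 → P i := stepQ 34168 Q34168 (allL N34168 (tt N25068 F184665) (tt N63518 F187790) (tt N17256 F162706) (tt N23585 (iv3 F310117)) (tt N17218 (iv4 D54907)) (tt N63524 D119313) (tt N63525 D119314) (tt N17252 F162707))
theorem Q34170 : ∀ i, i < 34170 → P i := stepQ 34169 Q34169 (allL N34169 (tt N62881 (iv1 F183996)) (tt N22506 F110801) (tt N17257 F162708) (tt N63523 (iv3 F187822)) (tt N63526 D119315) (tt N17218 (iv5 D54908)) (tt N41314 (iv6 F103916)) (tt N17253 F162709))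
theorem Q34171 : ∀ i, i < 34171 → P i := stepQ 34170 Q34170 (allL N34170 (tt N23928 F300676) (tt N17469 F300677) (tt N17258 F162710) (tt N47704 (iv3 F301068)) (tt N63525 (iv4 F187831)) (tt N25423 (iv5 F300992)) (tt N17218 (iv6 D54909)) (tt N23927 F300678))
theorem Q34172 : ∀ i, i < 34172 → P i := stepQ 34171 Q34171 (allL N34171 (tt N41001 (iv1 F307073)) (tt N22437 F130347) (tt N17221 F86851) (tt N17545 F86852) (tt N29798 F86853) (tt N23355 F86854) (tt N17220 (iv6 D54910)) (tt N63527 D119318))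
theorem Q34173 : ∀ i, i < 34173 → P i := stepQ 34172 Q34172 (allL N34172 (tt N63527 (iv1 F187876)) (tt N17221 (iv0 D54911)) (tt N41001 (iv2 F307074)) (tt N22424 (iv3 F187887)) (tt N42699 (iv4 F308050)) (tt N40975 (iv5 F308019)) (tt N22430 (iv6 F308167)) (tt N22437 F187886))
theorem Q34174 : ∀ i, i < 34174 → P i := stepQ 34173 Q34173 (allL N34173 (tt N17221 (iv1 D54912)) (tt N63527 F187875) (tt N22437 (iv2 F187883)) (tt N63528 D119325) (tt N45248 (iv4 F307068)) (tt N40976 (iv5 F308020)) (tt N38321 (iv6 F308021)) (tt N41001 (iv7 F307075)))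
theorem Q34175 : ∀ i, i < 34175 → P i := stepQ 34174 Q34174 (allL N34174 (tt N63529 D119329) (tt N63530 D119330) (tt N23355 F86855) (tt N17227 F86856) (tt N63531 D119331) (tt N17221 (iv5 D54913)) (tt N23332 F86857) (tt N63532 D119332))
theorem Q34176 : ∀ i, i < 34176 → P i := stepQ 34175 Q34175 (allL N34175 (tt N22437 F130348) (tt N41001 (iv0 F307072)) (tt N63527 (iv2 F187870)) (tt N17228 F86858) (tt N42605 F130261) (tt N63532 (iv5 F187909)) (tt N25066 F86859) (tt N17221 (iv7 D54914)))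
theorem Q34177 : ∀ i, i < 34177 → P i := stepQ 34176 Q34176 (allL N34176 (tt N28762 F86863) (tt N28761 (iv0 F86864)) (tt N24649 F86860) (tt N17222 (iv3 D54915)) (tt N26120 F86861) (tt N52968 (iv5 F306539)) (tt N63533 D119333) (tt N25067 F86862))
theorem Q34178 : ∀ i, i < 34178 → P i := stepQ 34177 Q34177 (allL N34177 (tt N25093 F155134) (tt N25096 F155135) (tt N25070 F86865) (tt N63533 (iv3 F187915)) (tt N33844 F86866) (tt N63534 D119334) (tt N17222 (iv6 D54916)) (tt N25102 F155136))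
theorem Q34179 : ∀ i, i < 34179 → P i := stepQ 34178 Q34178 (allL N34178 (tt N17252 F184587) (tt N17256 F184588) (tt N25068 F86867) (tt N24651 F86868) (tt N36418 (iv4 F94553)) (tt N63535 D119335) (tt N17223 (iv6 D54917)) (tt N63518 (iv7 F187791)))
theorem Q34180 : ∀ i, i < 34180 → P i := stepQ 34179 Q34179 (allL N34179 (tt N25087 (iv1 F86874)) (tt N17224 (iv0 D54918)) (tt N25084 F155223) (tt N63536 D119336) (tt N36521 (iv4 F188769)) (tt N63537 D119337) (tt N63538 D119338) (tt N25085 F155224))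
theorem Q34181 : ∀ i, i < 34181 → P i := stepQ 34180 Q34180 (allL N34180 (tt N17224 (iv1 D54919)) (tt N25087 F86869) (tt N25085 F155235) (tt N24658 F188763) (tt N36522 (iv4 F188765)) (tt N63539 D119340) (tt N36957 F318031) (tt N25084 F155237))
theorem Q34182 : ∀ i, i < 34182 → P i := stepQ 34181 Q34181 (allL N34181 (tt N44114 F353043) (tt N63540 D119343) (tt N25086 F86870) (tt N44087 F318955) (tt N63541 D119344) (tt N17224 (iv5 D54920)) (tt N46400 (iv6 F123364)) (tt N63542 D119345))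
theorem Q34183 : ∀ i, i < 34183 → P i := stepQ 34182 Q34182 (allL N34182 (tt N25085 (iv1 F86875)) (tt N25084 F86876) (tt N25087 F86871) (tt N46403 (iv3 F123371)) (tt N17228 F86872) (tt N63542 (iv5 F187938)) (tt N25077 F86873) (tt N17224 (iv7 D54921)))
theorem Q34184 : ∀ i, i < 34184 → P i := stepQ 34183 Q34183 (allL N34183 (tt N24743 (iv1 F188396)) (tt N17238 (iv0 F188397)) (tt N22444 F131617) (tt N54120 F300688) (tt N17225 (iv4 D54924)) (tt N63543 D119352) (tt N36547 F300689) (tt N24741 F188450))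
theorem Q34185 : ∀ i, i < 34185 → P i := stepQ 34184 Q34184 (allL N34184 (tt N33447 F313432) (tt N33438 F313433) (tt N22445 F131619) (tt N22315 F190748) (tt N63544 D119356) (tt N17225 (iv5 D54925)) (tt N42281 F317872) (tt N25088 F131620))
theorem Q34186 : ∀ i, i < 34186 → P i := stepQ 34185 Q34185 (allL N34185 (tt N17238 F188398) (tt N24743 F188399) (tt N24741 F188451) (tt N17888 F131604) (tt N17226 (iv4 D54929)) (tt N63545 D119358) (tt N47572 F131605) (tt N22444 F131606))
theorem Q34187 : ∀ i, i < 34187 → P i := stepQ 34186 Q34186 (allL N34186 (tt N33438 F313430) (tt N33447 F313431) (tt N25088 F131607) (tt N17276 F131608) (tt N46279 F318012) (tt N17226 (iv5 D54930)) (tt N41926 (iv6 F105073)) (tt N22445 F131609))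
theorem Q34188 : ∀ i, i < 34188 → P i := stepQ 34187 Q34187 (allL N34187 (tt N25092 (iv1 F86884)) (tt N17227 (iv0 D54932)) (tt N22452 F113952) (tt N22319 F190177) (tt N63546 D119361) (tt N44433 F315965) (tt N62880 F183982) (tt N25090 F130249))
theorem Q34189 : ∀ i, i < 34189 → P i := stepQ 34188 Q34188 (allL N34188 (tt N63547 D119365) (tt N63548 D119366) (tt N25091 F86881) (tt N63549 D119367) (tt N17227 (iv4 D54934)) (tt N63550 D119368) (tt N34432 (iv6 F87532)) (tt N63551 D119369))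
theorem Q34190 : ∀ i, i < 34190 → P i := stepQ 34189 Q34189 (allL N34189 (tt N25090 (iv1 F86885)) (tt N22452 F130247) (tt N25092 F86882) (tt N63532 (iv3 F187908)) (tt N63551 (iv4 F188017)) (tt N17228 F86883) (tt N62531 (iv6 F322154)) (tt N17227 (iv7 D54935)))
theorem Q34191 : ∀ i, i < 34191 → P i := stepQ 34190 Q34190 (allL N34190 (tt N63552 D119371) (tt N24614 (iv0 F119015)) (tt N46395 (iv2 F123343)) (tt N17231 F86887) (tt N22490 F86888) (tt N63553 D119372) (tt N17229 (iv6 D54936)) (tt N63554 D119373))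
theorem Q34192 : ∀ i, i < 34192 → P i := stepQ 34191 Q34191 (allL N34191 (tt N63555 D119374) (tt N60403 (iv0 F333687)) (tt N25073 F86889) (tt N37577 F310536) (tt N43448 F310537) (tt N63556 D119376) (tt N17230 (iv6 D54937)) (tt N63557 D119377))
theorem Q34193 : ∀ i, i < 34193 → P i := stepQ 34192 Q34192 (allL N34192 (tt N25077 (iv1 F86896)) (tt N17231 (iv0 D54938)) (tt N25074 F155329) (tt N63558 D119378) (tt N47335 (iv4 F189962)) (tt N45890 F327023) (tt N63559 D119381) (tt N25075 F155330))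
theorem Q34194 : ∀ i, i < 34194 → P i := stepQ 34193 Q34193 (allL N34193 (tt N17231 (iv1 D54939)) (tt N25077 F86890) (tt N25075 F155327) (tt N63560 D119382) (tt N33853 (iv4 F86891)) (tt N45903 F328023) (tt N63561 D119384) (tt N25074 F155328))
theorem Q34195 : ∀ i, i < 34195 → P i := stepQ 34194 Q34194 (allL N34194 (tt N58882 F315486) (tt N32008 F315487) (tt N25076 F86892) (tt N63553 (iv3 F188033)) (tt N31999 (iv4 F317708)) (tt N17231 (iv5 D54940)) (tt N63556 (iv6 F188043)) (tt N58872 F315488))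
theorem Q34196 : ∀ i, i < 34196 → P i := stepQ 34195 Q34195 (allL N34195 (tt N25075 (iv1 F86897)) (tt N25074 F86898) (tt N25077 F86893) (tt N63554 (iv3 F188036)) (tt N17234 F86894) (tt N58872 (iv5 F313053)) (tt N25087 F86895) (tt N17231 (iv7 D54941)))
theorem Q34197 : ∀ i, i < 34197 → P i := stepQ 34196 Q34196 (allL N34196 (tt N24737 (iv1 F190081)) (tt N17242 F190062) (tt N24735 F189970) (tt N17857 F86900) (tt N17232 (iv4 D54942)) (tt N63562 D119391) (tt N46675 (iv6 F125771)) (tt N22479 F86901))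
theorem Q34198 : ∀ i, i < 34198 → P i := stepQ 34197 Q34197 (allL N34197 (tt N63563 D119392) (tt N34557 (iv0 F130882)) (tt N25078 F86902) (tt N17289 F86903) (tt N63564 D119393) (tt N17232 (iv5 D54943)) (tt N20294 (iv6 F309105)) (tt N22480 F86904))
theorem Q34199 : ∀ i, i < 34199 → P i := stepQ 34198 Q34198 (allL N34198 (tt N17242 F190063) (tt N24737 (iv0 F190080)) (tt N22479 F86909) (tt N63565 D119397) (tt N17233 (iv4 D54945)) (tt N63566 D119398) (tt N63567 D119399) (tt N24735 F189969))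
theorem Q34200 : ∀ i, i < 34200 → P i := stepQ 34199 Q34199 (allL N34199 (tt N34557 (iv1 F130883)) (tt N63563 F188091) (tt N22480 F86911) (tt N22341 F190492) (tt N46972 F304244) (tt N17233 (iv5 D54946)) (tt N33930 (iv6 F86913)) (tt N25078 F86912))
theorem Q34201 : ∀ i, i < 34201 → P i := stepQ 34200 Q34200 (allL N34200 (tt N63522 (iv1 F187812)) (tt N17254 F113931) (tt N22481 F86918) (tt N22342 F190548) (tt N63567 (iv4 F188123)) (tt N63568 D119401) (tt N17233 (iv6 D54947)) (tt N54147 (iv7 F308432)))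
theorem Q34202 : ∀ i, i < 34202 → P i := stepQ 34201 Q34201 (allL N34201 (tt N24728 (iv1 F86921)) (tt N17235 (iv0 D54948)) (tt N24727 F86929) (tt N24079 F86920) (tt N63569 D119402) (tt N24637 F86919) (tt N63570 D119403) (tt N24713 (iv7 F86922)))
theorem Q34203 : ∀ i, i < 34203 → P i := stepQ 34202 Q34202 (allL N34202 (tt N17235 (iv1 D54949)) (tt N24728 F86926) (tt N24713 (iv2 F86927)) (tt N63571 D119404) (tt N43640 F304310) (tt N43189 (iv5 F108268)) (tt N36534 (iv6 F306329)) (tt N24727 (iv7 F86928)))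
theorem Q34204 : ∀ i, i < 34204 → P i := stepQ 34203 Q34203 (allL N34203 (tt N24727 (iv1 F86930)) (tt N24713 F86925) (tt N17235 (iv2 D54950)) (tt N22108 F86923) (tt N23924 (iv4 F86937)) (tt N22107 (iv5 F86931)) (tt N36519 (iv6 F305902)) (tt N24728 F86924))
theorem Q34205 : ∀ i, i < 34205 → P i := stepQ 34204 Q34204 (allL N34204 (tt N24076 (iv1 F86941)) (tt N45508 F116176) (tt N22107 F86938) (tt N17237 F86939) (tt N42113 F303595) (tt N17235 (iv5 D54952)) (tt N63572 D119409) (tt N24729 F86940))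
theorem Q34206 : ∀ i, i < 34206 → P i := stepQ 34205 Q34205 (allL N34205 (tt N47966 (iv1 F188403)) (tt N21606 (iv0 F188400)) (tt N18559 F86944) (tt N36607 (iv3 F306332)) (tt N17238 F86945) (tt N63573 D119416) (tt N17236 (iv6 D54954)) (tt N63574 D119417))
theorem Q34207 : ∀ i, i < 34207 → P i := stepQ 34206 Q34206 (allL N34206 (tt N63575 D119418) (tt N63576 D119419) (tt N24740 F86946) (tt N63572 (iv3 F188156)) (tt N38368 F309856) (tt N63577 D119420) (tt N17237 (iv6 D54955)) (tt N63578 D119421))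
theorem Q34208 : ∀ i, i < 34208 → P i := stepQ 34207 Q34207 (allL N34207 (tt N63579 D119432) (tt N63580 D119433) (tt N24742 F86948) (tt N36609 (iv3 F306330)) (tt N63581 D119434) (tt N17238 (iv5 D54958)) (tt N63577 (iv6 F188179)) (tt N63582 D119435))
theorem Q34209 : ∀ i, i < 34209 → P i := stepQ 34208 Q34208 (allL N34208 (tt N24741 (iv1 F86952)) (tt N22444 F188449) (tt N24743 F86949) (tt N36518 (iv3 F303482)) (tt N63574 (iv4 F188165)) (tt N63582 (iv5 F188189)) (tt N24737 F86950) (tt N17238 (iv7 D54959)))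
theorem Q34210 : ∀ i, i < 34210 → P i := stepQ 34209 Q34209 (allL N34209 (tt N22108 (iv1 F86955)) (tt N17239 (iv0 D54960)) (tt N24689 (iv2 F86956)) (tt N63583 D119436) (tt N24574 (iv4 F86958)) (tt N29791 F86954) (tt N63584 D119437) (tt N24738 (iv7 F86957)))
theorem Q34211 : ∀ i, i < 34211 → P i := stepQ 34210 Q34210 (allL N34210 (tt N17239 (iv1 D54961)) (tt N22108 F86959) (tt N24738 (iv2 F86962)) (tt N24527 (iv3 F86963)) (tt N24575 F86964) (tt N33923 F86961) (tt N63585 D119438) (tt N24689 F86960))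
theorem Q34212 : ∀ i, i < 34212 → P i := stepQ 34211 Q34211 (allL N34211 (tt N32598 F86968) (tt N34280 (iv0 F87076)) (tt N43958 F110320) (tt N18551 F86965) (tt N17239 (iv4 D54962)) (tt N22085 F86967) (tt N63586 D119439) (tt N18562 F86966))
theorem Q34213 : ∀ i, i < 34213 → P i := stepQ 34212 Q34212 (allL N34212 (tt N63587 D119440) (tt N63588 D119441) (tt N46092 (iv2 F120218)) (tt N17242 F86969) (tt N63586 (iv4 F188205)) (tt N63589 D119442) (tt N17239 (iv6 D54963)) (tt N63590 D119443))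
theorem Q34214 : ∀ i, i < 34214 → P i := stepQ 34213 Q34213 (allL N34213 (tt N47952 (iv1 F190051)) (tt N47954 (iv0 F190052)) (tt N24731 F86970) (tt N18552 F86971) (tt N17242 F86972) (tt N56121 (iv5 F162782)) (tt N17240 (iv6 D54964)) (tt N45696 (iv7 F189957)))
theorem Q34215 : ∀ i, i < 34215 → P i := stepQ 34214 Q34214 (allL N34214 (tt N58852 (iv1 F332186)) (tt N58758 (iv0 F332190)) (tt N24734 F86973) (tt N22103 F86974) (tt N42739 (iv4 F107042)) (tt N63591 D119449) (tt N17241 (iv6 D54965)) (tt N63592 D119450))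
theorem Q34216 : ∀ i, i < 34216 → P i := stepQ 34215 Q34215 (allL N34215 (tt N58871 (iv1 F319914)) (tt N31998 (iv0 F319918)) (tt N24736 F86976) (tt N63589 (iv3 F188206)) (tt N39539 F317718) (tt N17242 (iv5 D54968)) (tt N63591 (iv6 F188223)) (tt N58870 (iv7 F319924)))
theorem Q34217 : ∀ i, i < 34217 → P i := stepQ 34216 Q34216 (allL N34216 (tt N22479 (iv1 F189967)) (tt N24735 F86981) (tt N24737 F86977) (tt N63590 (iv3 F188208)) (tt N45696 F189964) (tt N58870 (iv5 F319923)) (tt N24743 F86978) (tt N17242 (iv7 D54969)))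
theorem Q34218 : ∀ i, i < 34218 → P i := stepQ 34217 Q34217 (allL N34217 (tt N24637 (iv1 F86985)) (tt N43189 F108267) (tt N33926 F86982) (tt N17243 (iv3 D54970)) (tt N63593 D119465) (tt N22991 F86983) (tt N63594 D119466) (tt N24749 F86984))
theorem Q34219 : ∀ i, i < 34219 → P i := stepQ 34218 Q34218 (allL N34218 (tt N63595 D119467) (tt N63596 D119468) (tt N24753 F86987) (tt N63594 (iv3 F188249)) (tt N61380 (iv4 F178733)) (tt N63597 D119469) (tt N17243 (iv6 D54971)) (tt N63598 D119470))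
theorem Q34220 : ∀ i, i < 34220 → P i := stepQ 34219 Q34219 (allL N34219 (tt N24952 (iv1 F316597)) (tt N63599 D119476) (tt N52349 (iv2 F148873)) (tt N28291 F86990) (tt N17246 F86991) (tt N63600 D119477) (tt N17245 (iv6 D54973)) (tt N63601 D119478))
theorem Q34221 : ∀ i, i < 34221 → P i := stepQ 34220 Q34220 (allL N34220 (tt N63508 (iv1 F187761)) (tt N17246 (iv0 D54974)) (tt N43973 (iv2 F316592)) (tt N63602 D119480) (tt N40591 F344031) (tt N62146 (iv5 F357035)) (tt N63603 D119483) (tt N63506 (iv7 F344041)))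
theorem Q34222 : ∀ i, i < 34222 → P i := stepQ 34221 Q34221 (allL N34221 (tt N17246 (iv1 D54975)) (tt N63508 F187760) (tt N63506 (iv2 F344039)) (tt N43951 (iv3 F316595)) (tt N42702 (iv4 F316596)) (tt N62142 (iv5 F350928)) (tt N63604 D119488) (tt N43973 (iv7 F316593)))
theorem Q34223 : ∀ i, i < 34223 → P i := stepQ 34222 Q34222 (allL N34222 (tt N63605 D119489) (tt N63606 D119490) (tt N63507 (iv2 F187753)) (tt N24801 F86992) (tt N63607 D119491) (tt N17246 (iv5 D54976)) (tt N17249 F86993) (tt N63608 D119492))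
theorem Q34224 : ∀ i, i < 34224 → P i := stepQ 34223 Q34223 (allL N34223 (tt N63506 (iv1 F187752)) (tt N43973 (iv0 F314158)) (tt N63508 (iv2 F187756)) (tt N24798 F86994) (tt N63601 (iv4 F188276)) (tt N63608 (iv5 F188282)) (tt N24759 F86995) (tt N17246 (iv7 D54977)))
theorem Q34225 : ∀ i, i < 34225 → P i := stepQ 34224 Q34224 (allL N34224 (tt N36535 F304313) (tt N36534 (iv0 F306334)) (tt N36537 (iv2 F305912)) (tt N17247 (iv3 D54979)) (tt N23987 (iv4 F305018)) (tt N63609 D119497) (tt N36555 (iv6 F306340)) (tt N36507 F304314))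
theorem Q34226 : ∀ i, i < 34226 → P i := stepQ 34225 Q34225 (allL N34225 (tt N63610 D119499) (tt N21592 F184630) (tt N18592 F185368) (tt N43915 (iv3 F306341)) (tt N17247 (iv4 D54980)) (tt N63611 D119501) (tt N63612 D119502) (tt N63512 (iv7 F187771)))
theorem Q34227 : ∀ i, i < 34227 → P i := stepQ 34226 Q34226 (allL N34226 (tt N63613 D119503) (tt N63614 D119504) (tt N63510 (iv2 F187764)) (tt N63609 (iv3 F188288)) (tt N63615 D119505) (tt N17247 (iv5 D54981)) (tt N63616 D119506) (tt N63513 (iv7 F187776)))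
theorem Q34228 : ∀ i, i < 34228 → P i := stepQ 34227 Q34227 (allL N34227 (tt N63567 (iv1 F188492)) (tt N63617 D119508) (tt N63511 (iv2 F187766)) (tt N36555 (iv3 F306339)) (tt N63612 (iv4 F188303)) (tt N63618 D119509) (tt N17247 (iv6 D54982)) (tt N36550 (iv7 F306342)))
theorem Q34229 : ∀ i, i < 34229 → P i := stepQ 34228 Q34228 (allL N34228 (tt N63584 (iv1 F314817)) (tt N63619 D119512) (tt N36530 (iv2 F304142)) (tt N17248 (iv3 D54984)) (tt N43306 (iv4 F304143)) (tt N30455 (iv5 F345597)) (tt N36529 F301376) (tt N63509 (iv7 F187763)))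
theorem Q34230 : ∀ i, i < 34230 → P i := stepQ 34229 Q34229 (allL N34229 (tt N21592 F185369) (tt N63610 F188292) (tt N63512 (iv2 F187770)) (tt N18557 F86998) (tt N17248 (iv4 D54985)) (tt N63620 D119517) (tt N46132 F301377) (tt N18592 F185351))
theorem Q34231 : ∀ i, i < 34231 → P i := stepQ 34230 Q34230 (allL N34230 (tt N63614 (iv1 F188486)) (tt N63613 F188313) (tt N63513 (iv2 F187775)) (tt N30455 F345598) (tt N63621 D119519) (tt N17248 (iv5 D54986)) (tt N30453 (iv6 F345599)) (tt N63510 (iv7 F187765)))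
theorem Q34232 : ∀ i, i < 34232 → P i := stepQ 34231 Q34231 (allL N34231 (tt N23929 F296984) (tt N36547 (iv0 F298202)) (tt N36506 (iv2 F298716)) (tt N36529 (iv3 F298717)) (tt N46132 (iv4 F298718)) (tt N43254 (iv5 F298721)) (tt N17248 (iv6 D54987)) (tt N36548 (iv7 F298722)))
theorem Q34233 : ∀ i, i < 34233 → P i := stepQ 34232 Q34232 (allL N34232 (tt N63516 (iv1 F187785)) (tt N17249 (iv0 D54988)) (tt N63514 (iv2 F233769)) (tt N63622 D119526) (tt N33172 (iv4 F350934)) (tt N63623 D119528) (tt N32238 F350933) (tt N63515 (iv7 F233767)))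
theorem Q34234 : ∀ i, i < 34234 → P i := stepQ 34233 Q34233 (allL N34233 (tt N17249 (iv1 D54989)) (tt N63516 F187784) (tt N63515 (iv2 F233766)) (tt N36008 (iv3 F336272)) (tt N33170 (iv4 F336273)) (tt N63624 D119533) (tt N33168 (iv6 F336274)) (tt N63514 (iv7 F233770)))
theorem Q34235 : ∀ i, i < 34235 → P i := stepQ 34234 Q34234 (allL N34234 (tt N61778 (iv1 F348377)) (tt N62017 (iv0 F348378)) (tt N62015 (iv2 F336268)) (tt N54673 (iv3 F356395)) (tt N17249 (iv4 D54990)) (tt N63625 D119538) (tt N63607 (iv6 F188280)) (tt N62014 (iv7 F336267)))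
theorem Q34236 : ∀ i, i < 34236 → P i := stepQ 34235 Q34235 (allL N34235 (tt N63515 (iv1 F187778)) (tt N63514 F187783) (tt N63516 (iv2 F187781)) (tt N24835 F86999) (tt N62014 (iv4 F336266)) (tt N17250 F87000) (tt N63626 D119540) (tt N17249 (iv7 D54991)))
theorem Q34237 : ∀ i, i < 34237 → P i := stepQ 34236 Q34236 (allL N34236 (tt N63387 (iv1 F232322)) (tt N17251 (iv0 D54998)) (tt N40016 F310036) (tt N17306 F163004) (tt N56133 F163005) (tt N62968 (iv5 F240207)) (tt N25099 (iv6 F210892)) (tt N21929 F232277))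
theorem Q34238 : ∀ i, i < 34238 → P i := stepQ 34237 Q34237 (allL N34237 (tt N40016 F310038) (tt N21929 F232301) (tt N17251 (iv2 D55000)) (tt N23892 F131171) (tt N29800 F162698) (tt N63627 D119544) (tt N63628 D119545) (tt N63387 (iv7 F232326)))
theorem Q34239 : ∀ i, i < 34239 → P i := stepQ 34238 Q34238 (allL N34238 (tt N29803 F87009) (tt N29781 (iv0 F87010)) (tt N29800 (iv2 F162699)) (tt N41434 (iv3 F308009)) (tt N17251 (iv4 D55001)) (tt N29738 F320805) (tt N47728 F304992) (tt N29801 (iv7 F162701)))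
theorem Q34240 : ∀ i, i < 34240 → P i := stepQ 34239 Q34239 (allL N34239 (tt N63629 D119549) (tt N63630 D119550) (tt N63627 (iv2 F188520)) (tt N17253 F87011) (tt N41666 F323391) (tt N17251 (iv5 D55002)) (tt N53331 (iv6 F309802)) (tt N63523 (iv7 F187823)))
theorem Q34241 : ∀ i, i < 34241 → P i := stepQ 34240 Q34240 (allL N34240 (tt N63631 D119553) (tt N63632 D119554) (tt N63628 (iv2 F188522)) (tt N17254 F87012) (tt N47728 F304990) (tt N43129 (iv5 F232712)) (tt N17251 (iv6 D55003)) (tt N63633 D119556))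
theorem Q34242 : ∀ i, i < 34242 → P i := stepQ 34241 Q34241 (allL N34241 (tt N17256 (iv1 F87018)) (tt N17252 (iv0 D55005)) (tt N63518 F187789) (tt N63634 D119557) (tt N36595 (iv4 F131203)) (tt N63635 D119558) (tt N25102 F184585) (tt N25068 F184586))
theorem Q34243 : ∀ i, i < 34243 → P i := stepQ 34242 Q34242 (allL N34242 (tt N23587 (iv1 F310124)) (tt N23536 (iv0 F310123)) (tt N23584 (iv2 F310819)) (tt N17252 (iv3 D55007)) (tt N41434 F308712) (tt N63636 D119562) (tt N38642 (iv6 F312278)) (tt N23585 (iv7 F310118)))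
theorem Q34244 : ∀ i, i < 34244 → P i := stepQ 34243 Q34243 (allL N34243 (tt N63637 D119564) (tt N63638 D119565) (tt N63519 (iv2 F187794)) (tt N63636 (iv3 F188545)) (tt N63639 D119566) (tt N17252 (iv5 D55008)) (tt N63640 D119567) (tt N63524 (iv7 F187829)))
theorem Q34245 : ∀ i, i < 34245 → P i := stepQ 34244 Q34244 (allL N34244 (tt N63561 F188074) (tt N63641 D119568) (tt N63520 (iv2 F187796)) (tt N38642 F314637) (tt N17254 F87015) (tt N38641 F314638) (tt N17252 (iv6 D55009)) (tt N63642 D119570))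
theorem Q34246 : ∀ i, i < 34246 → P i := stepQ 34245 Q34245 (allL N34245 (tt N17257 (iv1 F87023)) (tt N17253 (iv0 D55011)) (tt N22506 F113946) (tt N22391 F190154) (tt N63643 D119572) (tt N34146 F87019) (tt N63644 D119573) (tt N62881 F183995))
theorem Q34247 : ∀ i, i < 34247 → P i := stepQ 34246 Q34246 (allL N34246 (tt N17253 (iv1 D55012)) (tt N17257 F87020) (tt N62881 (iv2 F183993)) (tt N17303 F113948) (tt N63645 D119574) (tt N42303 F113949) (tt N21269 F113950) (tt N22506 F113951))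
theorem Q34248 : ∀ i, i < 34248 → P i := stepQ 34247 Q34247 (allL N34247 (tt N63646 D119575) (tt N63647 D119576) (tt N63521 (iv2 F187798)) (tt N63648 D119577) (tt N17253 (iv4 D55013)) (tt N63649 D119578) (tt N63650 D119579) (tt N63526 (iv7 F187833)))
theorem Q34249 : ∀ i, i < 34249 → P i := stepQ 34248 Q34248 (allL N34248 (tt N23365 F308209) (tt N23367 (iv0 F309660)) (tt N23364 F308210) (tt N53331 (iv3 F309801)) (tt N63650 (iv4 F188565)) (tt N52822 F308211) (tt N17253 (iv6 D55014)) (tt N23363 (iv7 F310166)))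
theorem Q34250 : ∀ i, i < 34250 → P i := stepQ 34249 Q34249 (allL N34249 (tt N17254 (iv1 D55017)) (tt N63522 F187811) (tt N54147 (iv2 F308429)) (tt N17304 F113928) (tt N63617 (iv4 F188488)) (tt N63651 D119583) (tt N25115 (iv6 F130166)) (tt N22481 F113930))
theorem Q34251 : ∀ i, i < 34251 → P i := stepQ 34250 Q34250 (allL N34250 (tt N33959 F87024) (tt N34423 F87504) (tt N34422 F162721) (tt N43129 (iv3 F232710)) (tt N34439 F319362) (tt N17254 (iv5 D55018)) (tt N52822 (iv6 F306211)) (tt N34421 F162920))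
theorem Q34252 : ∀ i, i < 34252 → P i := stepQ 34251 Q34251 (allL N34251 (tt N54147 (iv1 F308428)) (tt N22481 F186471) (tt N63522 (iv2 F187807)) (tt N63633 (iv3 F188537)) (tt N63642 (iv4 F188552)) (tt N34421 (iv5 F162941)) (tt N23927 F301355) (tt N17254 (iv7 D55019)))
theorem Q34253 : ∀ i, i < 34253 → P i := stepQ 34252 Q34252 (allL N34252 (tt N17543 F162945) (tt N22728 (iv0 F307979)) (tt N17255 (iv2 D55023)) (tt N63387 (iv3 F232324)) (tt N22800 F307053) (tt N63652 D119585) (tt N63653 D119586) (tt N23892 F131166))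
theorem Q34254 : ∀ i, i < 34254 → P i := stepQ 34253 Q34253 (allL N34253 (tt N37954 (iv1 F312460)) (tt N63654 D119591) (tt N63652 (iv2 F188578)) (tt N17257 F87026) (tt N38014 (iv4 F312464)) (tt N17255 (iv5 D55025)) (tt N42417 F131167) (tt N63517 (iv7 F187788)))
theorem Q34255 : ∀ i, i < 34255 → P i := stepQ 34254 Q34254 (allL N34254 (tt N57421 F188595) (tt N41034 F305202) (tt N63653 (iv2 F188586)) (tt N17258 F87027) (tt N44437 F306190) (tt N48468 (iv5 F304095)) (tt N17255 (iv6 D55026)) (tt N63655 D119594))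
theorem Q34256 : ∀ i, i < 34256 → P i := stepQ 34255 Q34255 (allL N34255 (tt N52776 (iv1 F151274)) (tt N46212 F303530) (tt N52779 (iv2 F343992)) (tt N17256 (iv3 D55027)) (tt N44480 F311239) (tt N63656 D119596) (tt N45640 F298300) (tt N52778 F162722))
theorem Q34257 : ∀ i, i < 34257 → P i := stepQ 34256 Q34256 (allL N34256 (tt N63638 (iv1 F188549)) (tt N63637 F188548) (tt N63524 (iv2 F187828)) (tt N63656 (iv3 F188631)) (tt N63657 D119598) (tt N17256 (iv5 D55028)) (tt N63658 D119599) (tt N63519 (iv7 F187795)))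
theorem Q34258 : ∀ i, i < 34258 → P i := stepQ 34257 Q34257 (allL N34257 (tt N52501 (iv1 F300844)) (tt N63538 (iv0 F303645)) (tt N63525 (iv2 F187830)) (tt N45640 F298299) (tt N17258 F87028) (tt N52555 (iv5 F300854)) (tt N17256 (iv6 D55029)) (tt N63659 D119603))
theorem Q34259 : ∀ i, i < 34259 → P i := stepQ 34258 Q34258 (allL N34258 (tt N63647 (iv1 F188564)) (tt N63646 F188563) (tt N63526 (iv2 F187832)) (tt N63660 D119604) (tt N17257 (iv4 D55030)) (tt N63661 D119605) (tt N63662 D119606) (tt N63521 (iv7 F187799)))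
theorem Q34260 : ∀ i, i < 34260 → P i := stepQ 34259 Q34259 (allL N34259 (tt N41316 F104923) (tt N41311 (iv0 F103906)) (tt N41314 F162731) (tt N42417 (iv3 F131172)) (tt N63662 (iv4 F188637)) (tt N48775 F306193) (tt N17257 (iv6 D55031)) (tt N41315 (iv7 F162732)))
theorem Q34261 : ∀ i, i < 34261 → P i := stepQ 34260 Q34260 (allL N34260 (tt N17469 F300679) (tt N23928 F300680) (tt N23927 F300681) (tt N63655 (iv3 F188625)) (tt N63659 (iv4 F188634)) (tt N25422 (iv5 F300994)) (tt N63522 (iv6 F187810)) (tt N17258 (iv7 D55035)))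
theorem Q34262 : ∀ i, i < 34262 → P i := stepQ 34261 Q34261 (allL N34261 (tt N22098 (iv1 F87032)) (tt N22097 F87033) (tt N22100 F87030) (tt N61135 (iv3 F178084)) (tt N63663 D119610) (tt N17259 (iv5 D55036)) (tt N63664 D119611) (tt N22060 F87031))
theorem Q34263 : ∀ i, i < 34263 → P i := stepQ 34262 Q34262 (allL N34262 (tt N22144 (iv1 F87036)) (tt N22143 F87037) (tt N22146 F87034) (tt N63665 D119612) (tt N17260 (iv4 D55037)) (tt N63666 D119613) (tt N63667 D119614) (tt N22070 F87035))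
theorem Q34264 : ∀ i, i < 34264 → P i := stepQ 34263 Q34263 (allL N34263 (tt N63668 D119615) (tt N43996 F313893) (tt N22147 F87038) (tt N63295 (iv3 F186780)) (tt N63667 (iv4 F188657)) (tt N63213 (iv5 F186385)) (tt N17260 (iv6 D55038)) (tt N63669 D119617))
theorem Q34265 : ∀ i, i < 34265 → P i := stepQ 34264 Q34264 (allL N34264 (tt N63670 D119618) (tt N63671 D119619) (tt N44509 (iv2 F112364)) (tt N63672 D119620) (tt N17261 (iv4 D55039)) (tt N63673 D119621) (tt N63674 D119622) (tt N62987 (iv7 F184276)))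
theorem Q34266 : ∀ i, i < 34266 → P i := stepQ 34265 Q34265 (allL N34265 (tt N63675 D119623) (tt N63676 D119624) (tt N44507 (iv2 F112359)) (tt N63345 (iv3 F186931)) (tt N63674 (iv4 F188673)) (tt N37378 (iv5 F95895)) (tt N17261 (iv6 D55040)) (tt N63677 D119625))
theorem Q34267 : ∀ i, i < 34267 → P i := stepQ 34266 Q34266 (allL N34266 (tt N63671 (iv1 F188669)) (tt N63670 F188667) (tt N62987 (iv2 F184275)) (tt N39497 (iv3 F320532)) (tt N17262 (iv4 D55041)) (tt N63678 D119627) (tt N40648 (iv6 F318781)) (tt N44509 (iv7 F112365)))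
theorem Q34268 : ∀ i, i < 34268 → P i := stepQ 34267 Q34267 (allL N34267 (tt N22135 (iv1 F87039)) (tt N17263 (iv0 D55042)) (tt N62989 F184288) (tt N63679 D119628) (tt N57444 (iv4 F166767)) (tt N63680 D119629) (tt N63681 D119630) (tt N62988 F184283))
theorem Q34269 : ∀ i, i < 34269 → P i := stepQ 34268 Q34268 (allL N34268 (tt N17263 (iv1 D55043)) (tt N22135 F87040) (tt N62988 (iv2 F184284)) (tt N63682 D119631) (tt N63110 F185673) (tt N63683 D119632) (tt N61869 (iv6 F349439)) (tt N62989 (iv7 F184286)))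
theorem Q34270 : ∀ i, i < 34270 → P i := stepQ 34269 Q34269 (allL N34269 (tt N63684 D119634) (tt N61861 (iv0 F346465)) (tt N63685 D119636) (tt N17263 (iv3 D55044)) (tt N17326 F87041) (tt N63686 D119637) (tt N25120 F87042) (tt N44121 (iv7 F110856)))
theorem Q34271 : ∀ i, i < 34271 → P i := stepQ 34270 Q34270 (allL N34270 (tt N63687 D119638) (tt N63688 D119639) (tt N63384 (iv2 F187150)) (tt N63686 (iv3 F188677)) (tt N63689 D119640) (tt N17263 (iv5 D55045)) (tt N63690 D119641) (tt N62990 (iv7 F184290)))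
theorem Q34272 : ∀ i, i < 34272 → P i := stepQ 34271 Q34271 (allL N34271 (tt N23533 F87047) (tt N23532 (iv0 F87048)) (tt N17548 F87043) (tt N17264 (iv3 D55046)) (tt N22422 F87044) (tt N24596 F87045) (tt N22515 (iv6 F303103)) (tt N22455 F87046))
theorem Q34273 : ∀ i, i < 34273 → P i := stepQ 34272 Q34272 (allL N34272 (tt N42552 F106405) (tt N63691 D119643) (tt N17269 F87049) (tt N22515 (iv3 F303102)) (tt N17265 F87050) (tt N63692 D119644) (tt N17264 (iv6 D55047)) (tt N63693 D119645))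
theorem Q34274 : ∀ i, i < 34274 → P i := stepQ 34273 Q34273 (allL N34273 (tt N17273 (iv1 F87058)) (tt N17265 (iv0 D55048)) (tt N17270 F184960) (tt N22297 F190723) (tt N46983 (iv4 F305942)) (tt N41030 (iv5 F311119)) (tt N22524 F184961) (tt N17271 F184962))
theorem Q34275 : ∀ i, i < 34275 → P i := stepQ 34274 Q34274 (allL N34274 (tt N17265 (iv1 D55049)) (tt N17273 F87051) (tt N17271 F184957) (tt N23898 F184958) (tt N47387 F317469) (tt N33456 (iv5 F311120)) (tt N25131 F199943) (tt N17270 F184959))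
theorem Q34276 : ∀ i, i < 34276 → P i := stepQ 34275 Q34275 (allL N34275 (tt N62532 (iv1 F322164)) (tt N43338 (iv0 F108524)) (tt N17272 F87052) (tt N22426 F87053) (tt N54298 (iv4 F304864)) (tt N17265 (iv5 D55050)) (tt N17446 F87054) (tt N62531 (iv7 F322155)))
theorem Q34277 : ∀ i, i < 34277 → P i := stepQ 34276 Q34276 (allL N34276 (tt N17271 (iv1 F87059)) (tt N17270 F87060) (tt N17273 F87055) (tt N22427 F87056) (tt N63693 (iv4 F188696)) (tt N62531 (iv5 F322153)) (tt N22460 F87057) (tt N17265 (iv7 D55051)))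
theorem Q34278 : ∀ i, i < 34278 → P i := stepQ 34277 Q34277 (allL N34277 (tt N24491 (iv1 F87065)) (tt N24490 (iv0 F87068)) (tt N22972 F87061) (tt N17266 (iv3 D55052)) (tt N24503 F87062) (tt N22971 F87063) (tt N63694 D119654) (tt N22461 F87064))
theorem Q34279 : ∀ i, i < 34279 → P i := stepQ 34278 Q34278 (allL N34278 (tt N25123 F155138) (tt N17941 F155139) (tt N22463 F87069) (tt N63694 (iv3 F188732)) (tt N42532 (iv4 F106365)) (tt N48280 F324181) (tt N17266 (iv6 D55053)) (tt N25126 F155140))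
theorem Q34280 : ∀ i, i < 34280 → P i := stepQ 34279 Q34279 (allL N34279 (tt N17299 F184569) (tt N22515 F184570) (tt N22462 F87070) (tt N22965 F87071) (tt N33843 F87072) (tt N60999 (iv5 F298221)) (tt N17267 (iv6 D55054)) (tt N22517 F184594))
theorem Q34281 : ∀ i, i < 34281 → P i := stepQ 34280 Q34280 (allL N34280 (tt N34211 F87076) (tt N36529 F94758) (tt N23847 F87073) (tt N63695 D119657) (tt N17268 (iv4 D55055)) (tt N23845 F87074) (tt N63696 D119658) (tt N22465 F87075))
theorem Q34282 : ∀ i, i < 34282 → P i := stepQ 34281 Q34281 (allL N34281 (tt N24848 F318018) (tt N24565 (iv0 F315773)) (tt N24597 F87077) (tt N17560 F87078) (tt N63696 (iv4 F188746)) (tt N63697 D119661) (tt N17268 (iv6 D55056)) (tt N24847 F313347))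
theorem Q34283 : ∀ i, i < 34283 → P i := stepQ 34282 Q34282 (allL N34282 (tt N63693 (iv1 F188699)) (tt N17269 (iv0 D55057)) (tt N42552 (iv2 F155233)) (tt N63698 D119663) (tt N42551 F155234) (tt N63699 D119664) (tt N23532 F302741) (tt N63691 (iv7 F188690)))
theorem Q34284 : ∀ i, i < 34284 → P i := stepQ 34283 Q34283 (allL N34283 (tt N17269 (iv1 D55058)) (tt N63693 F188698) (tt N63691 F188691) (tt N28854 F314175) (tt N42525 (iv4 F106347)) (tt N63700 D119667) (tt N63701 D119668) (tt N42552 (iv7 F155232)))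
theorem Q34285 : ∀ i, i < 34285 → P i := stepQ 34284 Q34284 (allL N34284 (tt N63702 D119669) (tt N63703 D119670) (tt N63692 (iv2 F188693)) (tt N17562 F87079) (tt N33456 (iv4 F325889)) (tt N17269 (iv5 D55059)) (tt N63697 (iv6 F188750)) (tt N41031 F324820))
theorem Q34286 : ∀ i, i < 34286 → P i := stepQ 34285 Q34285 (allL N34285 (tt N63691 (iv1 F188689)) (tt N42552 (iv0 F106404)) (tt N63693 (iv2 F188695)) (tt N17563 F87080) (tt N17273 F87081) (tt N41031 F324819) (tt N22470 F87082) (tt N17269 (iv7 D55060)))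
theorem Q34287 : ∀ i, i < 34287 → P i := stepQ 34286 Q34286 (allL N34286 (tt N22293 F190368) (tt N22300 (iv0 F190371)) (tt N22298 F190718) (tt N17271 (iv3 D55067)) (tt N63704 D119686) (tt N41039 (iv5 F313302)) (tt N63705 D119688) (tt N22297 (iv7 F190722)))
theorem Q34288 : ∀ i, i < 34288 → P i := stepQ 34287 Q34287 (allL N34287 (tt N47443 F305700) (tt N54297 (iv0 F308146)) (tt N47387 F317468) (tt N63706 D119689) (tt N17271 (iv4 D55068)) (tt N63707 D119690) (tt N54302 (iv6 F308162)) (tt N46983 F307891))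
theorem Q34289 : ∀ i, i < 34289 → P i := stepQ 34288 Q34288 (allL N34288 (tt N40781 F318073) (tt N41029 F313414) (tt N33456 F313415) (tt N41039 F313416) (tt N63692 (iv4 F339392)) (tt N17271 (iv5 D55069)) (tt N63708 D119693) (tt N41030 F313417))
theorem Q34290 : ∀ i, i < 34290 → P i := stepQ 34289 Q34289 (allL N34289 (tt N25134 (iv1 F199935)) (tt N25125 F199910) (tt N25131 F199939) (tt N63705 (iv3 F188822)) (tt N54302 (iv4 F308161)) (tt N63709 D119695) (tt N17271 (iv6 D55070)) (tt N25132 F199940))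
theorem Q34291 : ∀ i, i < 34291 → P i := stepQ 34290 Q34290 (allL N34290 (tt N62531 (iv1 F322150)) (tt N17272 (iv0 D55071)) (tt N62532 (iv2 F322165)) (tt N23370 F185065) (tt N63710 D119697) (tt N43339 F131186) (tt N62512 (iv6 F321865)) (tt N43338 (iv7 F131187)))
theorem Q34292 : ∀ i, i < 34292 → P i := stepQ 34291 Q34291 (allL N34291 (tt N63711 D119702) (tt N63712 D119703) (tt N54298 F306801) (tt N62774 (iv3 F310763)) (tt N17272 (iv4 D55073)) (tt N46983 (iv5 F308639)) (tt N17452 F87085) (tt N63707 (iv7 F339390)))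
theorem Q34293 : ∀ i, i < 34293 → P i := stepQ 34292 Q34292 (allL N34292 (tt N43338 (iv1 F108525)) (tt N62532 (iv0 F322163)) (tt N62531 (iv2 F322151)) (tt N17278 F87086) (tt N63707 (iv4 F339388)) (tt N17273 F87087) (tt N25092 F87088) (tt N17272 (iv7 D55074)))
theorem Q34294 : ∀ i, i < 34294 → P i := stepQ 34293 Q34293 (allL N34293 (tt N63713 D119720) (tt N63714 D119721) (tt N22315 F190745) (tt N17275 F87097) (tt N63715 D119722) (tt N17274 (iv5 D55079)) (tt N25379 (iv6 F306883)) (tt N22317 F190746))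
theorem Q34295 : ∀ i, i < 34295 → P i := stepQ 34294 Q34294 (allL N34294 (tt N17276 (iv1 F87103)) (tt N17275 (iv0 D55081)) (tt N22446 (iv2 F87104)) (tt N63716 D119726) (tt N33803 (iv4 F311598)) (tt N17368 F87102) (tt N41035 F311575) (tt N22447 (iv7 F87105)))
theorem Q34296 : ∀ i, i < 34296 → P i := stepQ 34295 Q34295 (allL N34295 (tt N17275 (iv1 D55082)) (tt N17276 F87106) (tt N22447 (iv2 F87109)) (tt N40781 F318075) (tt N33764 F313196) (tt N22152 F87108) (tt N21694 (iv6 F87110)) (tt N22446 F87107))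
theorem Q34297 : ∀ i, i < 34297 → P i := stepQ 34296 Q34296 (allL N34296 (tt N33503 (iv1 F310953)) (tt N36376 (iv0 F310955)) (tt N22449 F87125) (tt N23096 (iv3 F310957)) (tt N17276 (iv4 D55090)) (tt N43938 F313205) (tt N23092 F308782) (tt N22448 F87126))
theorem Q34298 : ∀ i, i < 34298 → P i := stepQ 34297 Q34297 (allL N34297 (tt N41941 F105111) (tt N21683 (iv0 F87128)) (tt N22450 F87127) (tt N41926 F131626) (tt N23092 F308780) (tt N48163 (iv5 F131654)) (tt N17276 (iv6 D55091)) (tt N33786 F308781))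
theorem Q34299 : ∀ i, i < 34299 → P i := stepQ 34298 Q34298 (allL N34298 (tt N22320 (iv1 F190158)) (tt N17913 (iv0 F190157)) (tt N22319 (iv2 F190159)) (tt N17277 (iv3 D55092)) (tt N32870 (iv4 F190164)) (tt N43394 (iv5 F108593)) (tt N62461 (iv6 F317992)) (tt N20687 (iv7 F315902)))
theorem Q34300 : ∀ i, i < 34300 → P i := stepQ 34299 Q34299 (allL N34299 (tt N23371 (iv1 F87147)) (tt N23370 F87148) (tt N22454 F87143) (tt N25092 F87144) (tt N21220 (iv4 F310816)) (tt N22493 F87145) (tt N17278 (iv6 D55098)) (tt N17460 F87146))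
theorem Q34301 : ∀ i, i < 34301 → P i := stepQ 34300 Q34300 (allL N34300 (tt N22524 F301345) (tt N22523 F301346) (tt N17462 F87149) (tt N17279 (iv3 D55099)) (tt N22455 F87150) (tt N63717 D119741) (tt N63718 D119742) (tt N22422 F87151))
theorem Q34302 : ∀ i, i < 34302 → P i := stepQ 34301 Q34301 (allL N34301 (tt N22360 F87157) (tt N22431 F87158) (tt N17283 F87154) (tt N63717 (iv3 F188900)) (tt N23228 F87156) (tt N17279 (iv5 D55100)) (tt N43117 (iv6 F305955)) (tt N22423 F87155))
theorem Q34303 : ∀ i, i < 34303 → P i := stepQ 34302 Q34302 (allL N34302 (tt N22502 (iv1 F305956)) (tt N22501 (iv0 F305959)) (tt N17284 F87159) (tt N63718 (iv3 F188905)) (tt N17280 F87160) (tt N43079 (iv5 F305962)) (tt N17279 (iv6 D55101)) (tt N22496 (iv7 F305966)))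
theorem Q34304 : ∀ i, i < 34304 → P i := stepQ 34303 Q34303 (allL N34303 (tt N17288 (iv1 F87166)) (tt N17280 (iv0 D55102)) (tt N17285 F187217) (tt N25064 F187226) (tt N63719 D119747) (tt N44547 F311399) (tt N25161 F232891) (tt N17286 F187218))
theorem Q34305 : ∀ i, i < 34305 → P i := stepQ 34304 Q34304 (allL N34304 (tt N17280 (iv1 D55103)) (tt N17288 F87161) (tt N17286 F187215) (tt N22326 F190926) (tt N48460 F309485) (tt N56124 (iv5 F303996)) (tt N22501 F232898) (tt N17285 F187216))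
theorem Q34306 : ∀ i, i < 34306 → P i := stepQ 34305 Q34305 (allL N34305 (tt N17286 (iv1 F87167)) (tt N17285 F87168) (tt N17288 F87162) (tt N22460 F87163) (tt N22496 (iv4 F305965)) (tt N25066 F87164) (tt N22427 F87165) (tt N17280 (iv7 D55104)))
theorem Q34307 : ∀ i, i < 34307 → P i := stepQ 34306 Q34306 (allL N34306 (tt N22402 (iv1 F304038)) (tt N63720 D119752) (tt N56103 (iv2 F162658)) (tt N17281 (iv3 D55105)) (tt N17732 F87169) (tt N46394 (iv5 F123334)) (tt N22434 (iv6 F305185)) (tt N22428 F87170))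
theorem Q34308 : ∀ i, i < 34308 → P i := stepQ 34307 Q34307 (allL N34307 (tt N17933 (iv1 F199772)) (tt N25151 (iv0 F199773)) (tt N22429 F87172) (tt N22792 F313141) (tt N22719 F313142) (tt N63721 D119757) (tt N17282 (iv6 D55107)) (tt N22440 (iv7 F304127)))
theorem Q34309 : ∀ i, i < 34309 → P i := stepQ 34308 Q34308 (allL N34308 (tt N43013 (iv1 F305967)) (tt N43118 (iv0 F305968)) (tt N43117 (iv2 F305954)) (tt N17471 F87174) (tt N34965 (iv4 F90550)) (tt N44546 (iv5 F305969)) (tt N17283 (iv6 D55108)) (tt N37485 (iv7 F305970)))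
theorem Q34310 : ∀ i, i < 34310 → P i := stepQ 34309 Q34309 (allL N34309 (tt N22496 (iv1 F305964)) (tt N17284 (iv0 D55109)) (tt N22502 (iv2 F305957)) (tt N63722 D119763) (tt N36545 (iv4 F189899)) (tt N45738 F309901) (tt N25160 (iv6 F305194)) (tt N22501 (iv7 F305961)))
theorem Q34311 : ∀ i, i < 34311 → P i := stepQ 34310 Q34310 (allL N34310 (tt N17284 (iv1 D55110)) (tt N22496 (iv0 F305963)) (tt N22501 (iv2 F305960)) (tt N63631 (iv3 F305976)) (tt N33857 (iv4 F87175)) (tt N25481 F309498) (tt N17286 F303896) (tt N22502 (iv7 F305958)))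
theorem Q34312 : ∀ i, i < 34312 → P i := stepQ 34311 Q34311 (allL N34311 (tt N22327 F190616) (tt N22322 (iv0 F190669)) (tt N22325 F190920) (tt N17285 (iv3 D55114)) (tt N39836 (iv4 F325439)) (tt N63723 D119775) (tt N63724 D119776) (tt N22326 (iv7 F190925)))
theorem Q34313 : ∀ i, i < 34313 → P i := stepQ 34312 Q34312 (allL N34312 (tt N63725 D119777) (tt N56125 (iv0 F189983)) (tt N63719 (iv2 F188937)) (tt N28719 (iv3 F313127)) (tt N17285 (iv4 D55115)) (tt N42711 (iv5 F311179)) (tt N63726 D119781) (tt N48460 F309014))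
theorem Q34314 : ∀ i, i < 34314 → P i := stepQ 34313 Q34313 (allL N34313 (tt N63727 D119782) (tt N63728 D119783) (tt N44547 F310518) (tt N63723 (iv3 F188984)) (tt N43079 (iv4 F311631)) (tt N17285 (iv5 D55116)) (tt N20289 F310519) (tt N56124 (iv7 F303997)))
theorem Q34315 : ∀ i, i < 34315 → P i := stepQ 34314 Q34314 (allL N34314 (tt N25153 (iv1 F232600)) (tt N25155 F305697) (tt N25161 (iv2 F232888)) (tt N63724 (iv3 F188985)) (tt N63726 (iv4 F188995)) (tt N53358 (iv5 F341567)) (tt N17285 (iv6 D55117)) (tt N25160 F232887))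
theorem Q34316 : ∀ i, i < 34316 → P i := stepQ 34315 Q34315 (allL N34315 (tt N17287 F187228) (tt N25066 F187229) (tt N25065 F187230) (tt N17286 (iv3 D55119)) (tt N22871 F309461) (tt N34016 F305699) (tt N63631 (iv6 F238284)) (tt N25064 F187232))
theorem Q34317 : ∀ i, i < 34317 → P i := stepQ 34316 Q34316 (allL N34316 (tt N56125 (iv1 F189984)) (tt N63725 F188987) (tt N48460 (iv2 F307441)) (tt N22873 F307443) (tt N17286 (iv4 D55120)) (tt N25063 (iv5 F307711)) (tt N33857 (iv6 F305978)) (tt N63719 (iv7 F188938)))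
theorem Q34318 : ∀ i, i < 34318 → P i := stepQ 34317 Q34317 (allL N34317 (tt N63728 (iv1 F188998)) (tt N63727 F188997) (tt N56124 F305408) (tt N34016 F305409) (tt N22503 (iv4 F309358)) (tt N17286 (iv5 D55121)) (tt N25480 F305411) (tt N44547 (iv7 F309192)))
theorem Q34319 : ∀ i, i < 34319 → P i := stepQ 34318 Q34318 (allL N34318 (tt N25066 (iv1 F87187)) (tt N17287 (iv0 D55123)) (tt N25064 F187206) (tt N22325 F190921) (tt N45245 F307768) (tt N43093 F305698) (tt N63729 D119799) (tt N25065 F187208))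
theorem Q34320 : ∀ i, i < 34320 → P i := stepQ 34319 Q34319 (allL N34319 (tt N25065 (iv1 F87188)) (tt N25064 F87189) (tt N25066 F87184) (tt N17296 F87185) (tt N42711 (iv4 F106936)) (tt N17288 F87186) (tt N63527 (iv6 F187874)) (tt N17287 (iv7 D55125)))
theorem Q34321 : ∀ i, i < 34321 → P i := stepQ 34320 Q34320 (allL N34320 (tt N17291 (iv1 F87191)) (tt N17289 (iv0 D55126)) (tt N22477 (iv2 F87192)) (tt N43149 (iv3 F130926)) (tt N30512 (iv4 F307316)) (tt N17419 F87190) (tt N63730 D119800) (tt N22478 (iv7 F87193)))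
theorem Q34322 : ∀ i, i < 34322 → P i := stepQ 34321 Q34321 (allL N34321 (tt N17289 (iv1 D55127)) (tt N17291 F87194) (tt N22478 (iv2 F87197)) (tt N63728 (iv3 F232616)) (tt N30513 (iv4 F307314)) (tt N21449 F87196) (tt N21451 (iv6 F87198)) (tt N22477 F87195))
theorem Q34323 : ∀ i, i < 34323 → P i := stepQ 34322 Q34322 (allL N34322 (tt N63731 D119818) (tt N63732 D119819) (tt N22341 F190477) (tt N17291 F87207) (tt N37219 F305681) (tt N17290 (iv5 D55133)) (tt N22193 F190478) (tt N22338 (iv7 F190497)))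
theorem Q34324 : ∀ i, i < 34324 → P i := stepQ 34323 Q34323 (allL N34323 (tt N44436 (iv1 F302967)) (tt N21744 (iv0 F87214)) (tt N22483 F87213) (tt N22193 F190475) (tt N19498 F302918) (tt N63733 D119826) (tt N17291 (iv6 D55136)) (tt N19496 F302919))
theorem Q34325 : ∀ i, i < 34325 → P i := stepQ 34324 Q34324 (allL N34324 (tt N17367 F87217) (tt N17364 F87218) (tt N22484 F87215) (tt N54157 (iv3 F310322)) (tt N37445 F308772) (tt N17292 (iv5 D55137)) (tt N63733 (iv6 F189092)) (tt N22513 F87216))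
theorem Q34326 : ∀ i, i < 34326 → P i := stepQ 34325 Q34325 (allL N34325 (tt N25110 F199842) (tt N63734 D119829) (tt N22486 F87219) (tt N22473 F87220) (tt N41450 F309255) (tt N22545 F87221) (tt N17293 (iv6 D55138)) (tt N63735 D119830))
theorem Q34327 : ∀ i, i < 34327 → P i := stepQ 34326 Q34326 (allL N34326 (tt N17898 (iv1 F190562)) (tt N22346 (iv0 F190563)) (tt N22344 (iv2 F190598)) (tt N17294 (iv3 D55139)) (tt N63736 D119832) (tt N25407 F304233) (tt N25410 (iv6 F306262)) (tt N22343 (iv7 F190599)))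
theorem Q34328 : ∀ i, i < 34328 → P i := stepQ 34327 Q34327 (allL N34327 (tt N37445 F96012) (tt N37448 (iv0 F96014)) (tt N22487 F87225) (tt N25410 (iv3 F306261)) (tt N21801 F307148) (tt N23933 F304238) (tt N17294 (iv6 D55140)) (tt N42479 (iv7 F308894)))
theorem Q34329 : ∀ i, i < 34329 → P i := stepQ 34328 Q34328 (allL N34328 (tt N47680 F129428) (tt N47747 (iv0 F267395)) (tt N46552 (iv2 F125397)) (tt N17295 (iv3 D55141)) (tt N48459 (iv4 F132825)) (tt N43865 (iv5 F309639)) (tt N17544 F87227) (tt N47746 (iv7 F129627)))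
theorem Q34330 : ∀ i, i < 34330 → P i := stepQ 34329 Q34329 (allL N34329 (tt N22489 (iv1 F87234)) (tt N22488 F87235) (tt N22492 F87231) (tt N47746 F129625) (tt N17296 F87232) (tt N23713 F87233) (tt N63737 D119838) (tt N17295 (iv7 D55143)))
theorem Q34331 : ∀ i, i < 34331 → P i := stepQ 34330 Q34330 (allL N34330 (tt N23898 (iv1 F87239)) (tt N23897 F87240) (tt N22493 F87236) (tt N63527 (iv3 F187871)) (tt N63737 (iv4 F189133)) (tt N22454 F87237) (tt N17296 (iv6 D55144)) (tt N17545 F87238))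
theorem Q34332 : ∀ i, i < 34332 → P i := stepQ 34331 Q34331 (allL N34331 (tt N46976 F309810) (tt N46985 (iv0 F310717)) (tt N22514 F130766) (tt N41446 F311008) (tt N17297 (iv4 D55147)) (tt N63738 D119839) (tt N25122 F199901) (tt N22047 F130746))
theorem Q34333 : ∀ i, i < 34333 → P i := stepQ 34332 Q34332 (allL N34332 (tt N22517 (iv1 F87245)) (tt N22462 F184592) (tt N17299 F87243) (tt N63693 (iv3 F303153)) (tt N17298 (iv4 D55155)) (tt N63739 D119841) (tt N63740 D119842) (tt N22515 F87244))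
theorem Q34334 : ∀ i, i < 34334 → P i := stepQ 34333 Q34333 (allL N34333 (tt N22520 (iv1 F87250)) (tt N22519 F87251) (tt N17300 F87247) (tt N22495 F87248) (tt N63741 D119843) (tt N17298 (iv5 D55156)) (tt N42647 F308199) (tt N22516 F87249))
theorem Q34335 : ∀ i, i < 34335 → P i := stepQ 34334 Q34334 (allL N34334 (tt N22476 F131182) (tt N54308 (iv0 F344067)) (tt N17301 F87252) (tt N22496 F87253) (tt N63740 (iv4 F189148)) (tt N43314 F130760) (tt N17298 (iv6 D55157)) (tt N63718 (iv7 F304076)))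
theorem Q34336 : ∀ i, i < 34336 → P i := stepQ 34335 Q34335 (allL N34335 (tt N22515 (iv1 F87254)) (tt N17299 (iv0 D55158)) (tt N22517 F184597) (tt N63742 D119847) (tt N49040 F310869) (tt N63743 D119849) (tt N25126 F184598) (tt N22462 F184599))
theorem Q34337 : ∀ i, i < 34337 → P i := stepQ 34336 Q34336 (allL N34336 (tt N63744 D119850) (tt N63745 D119851) (tt N63739 (iv2 F189142)) (tt N48516 (iv3 F133208)) (tt N63746 D119852) (tt N17299 (iv5 D55160)) (tt N63747 D119853) (tt N22518 F87256))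
theorem Q34338 : ∀ i, i < 34338 → P i := stepQ 34337 Q34337 (allL N34337 (tt N63748 D119854) (tt N63749 D119855) (tt N63740 (iv2 F189147)) (tt N23540 F302745) (tt N17301 F87257) (tt N63750 D119856) (tt N17299 (iv6 D55161)) (tt N23535 F302746))
theorem Q34339 : ∀ i, i < 34339 → P i := stepQ 34338 Q34338 (allL N34338 (tt N22516 (iv1 F87258)) (tt N17300 (iv0 D55162)) (tt N22520 F185114) (tt N63654 F188594) (tt N63751 D119858) (tt N42313 (iv5 F188613)) (tt N62514 (iv6 F319169)) (tt N22519 F185115))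
theorem Q34340 : ∀ i, i < 34340 → P i := stepQ 34339 Q34339 (allL N34339 (tt N17300 (iv1 D55163)) (tt N22516 F87259) (tt N22519 F185123) (tt N51818 (iv3 F348964)) (tt N63752 D119861) (tt N42314 (iv5 F188609)) (tt N21262 F188607) (tt N22520 F185125))
theorem Q34341 : ∀ i, i < 34341 → P i := stepQ 34340 Q34340 (allL N34340 (tt N35133 F331648) (tt N63753 D119863) (tt N63741 (iv2 F189149)) (tt N42643 (iv3 F314936)) (tt N17300 (iv4 D55164)) (tt N63754 D119865) (tt N35038 F312490) (tt N22521 F87260))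
theorem Q34342 : ∀ i, i < 34342 → P i := stepQ 34341 Q34341 (allL N34341 (tt N63718 (iv1 F304073)) (tt N17301 (iv0 D55166)) (tt N22476 F188617) (tt N22487 F188618) (tt N54304 (iv4 F344060)) (tt N43147 F188619) (tt N22459 F188620) (tt N54308 (iv7 F344073)))
theorem Q34343 : ∀ i, i < 34343 → P i := stepQ 34342 Q34342 (allL N34342 (tt N17301 (iv1 D55167)) (tt N63718 (iv0 F304072)) (tt N54308 (iv2 F344069)) (tt N45716 (iv3 F306113)) (tt N54303 (iv4 F344077)) (tt N45715 (iv5 F305745)) (tt N63755 D119874) (tt N22476 F188621))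
theorem Q34344 : ∀ i, i < 34344 → P i := stepQ 34343 Q34343 (allL N34343 (tt N54308 (iv1 F344068)) (tt N22476 F130752) (tt N63718 (iv2 F304074)) (tt N17305 F87262) (tt N23535 F301348) (tt N34427 (iv5 F87520)) (tt N17462 F301349) (tt N17301 (iv7 D55168)))
theorem Q34345 : ∀ i, i < 34345 → P i := stepQ 34344 Q34344 (allL N34344 (tt N22291 (iv1 F190166)) (tt N22287 (iv0 F190167)) (tt N22391 F190153) (tt N17302 (iv3 D55169)) (tt N63756 D119877) (tt N34049 F87264) (tt N62467 (iv6 F316216)) (tt N22392 (iv7 F190165)))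
theorem Q34346 : ∀ i, i < 34346 → P i := stepQ 34345 Q34345 (allL N34345 (tt N18620 F87268) (tt N17456 F313947) (tt N22507 F87266) (tt N41284 F322636) (tt N17302 (iv4 D55170)) (tt N42278 (iv5 F105825)) (tt N41278 F322637) (tt N22508 F87267))
theorem Q34347 : ∀ i, i < 34347 → P i := stepQ 34346 Q34346 (allL N34346 (tt N17456 F313948) (tt N18620 F87282) (tt N22508 F87278) (tt N63757 D119881) (tt N17303 (iv4 D55173)) (tt N38160 (iv5 F315604)) (tt N20665 F105821) (tt N22507 F87280))
theorem Q34348 : ∀ i, i < 34348 → P i := stepQ 34347 Q34347 (allL N34347 (tt N17364 F87311) (tt N17367 F87312) (tt N22513 F87308) (tt N63651 (iv3 F188572)) (tt N37448 F311043) (tt N17304 (iv5 D55182)) (tt N22801 F87309) (tt N22484 F87310))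
theorem Q34349 : ∀ i, i < 34349 → P i := stepQ 34348 Q34348 (allL N34348 (tt N36505 (iv1 F305914)) (tt N63263 (iv0 F232335)) (tt N22494 F162853) (tt N33816 F305178) (tt N17306 (iv4 D55190)) (tt N42333 (iv5 F312713)) (tt N25149 (iv6 F210893)) (tt N21934 F232279))
theorem Q34350 : ∀ i, i < 34350 → P i := stepQ 34349 Q34349 (allL N34349 (tt N22498 (iv1 F87323)) (tt N22497 F87324) (tt N17308 F87320) (tt N22516 F87321) (tt N63758 D119923) (tt N17307 (iv5 D55194)) (tt N62814 (iv6 F232362)) (tt N22495 F87322))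
theorem Q34351 : ∀ i, i < 34351 → P i := stepQ 34350 Q34350 (allL N34350 (tt N22495 (iv1 F87331)) (tt N17308 (iv0 D55200)) (tt N22498 (iv2 F232912)) (tt N63759 D119940) (tt N45034 F323669) (tt N42292 (iv5 F232209)) (tt N62799 (iv6 F232919)) (tt N22497 F232911))
theorem Q34352 : ∀ i, i < 34352 → P i := stepQ 34351 Q34351 (allL N34351 (tt N17308 (iv1 D55201)) (tt N22495 F87332) (tt N22497 F232910) (tt N63629 (iv3 F233208)) (tt N45126 F323670) (tt N34024 F232230) (tt N63760 D119948) (tt N22498 (iv7 F232913)))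
theorem Q34353 : ∀ i, i < 34353 → P i := stepQ 34352 Q34352 (allL N34352 (tt N61012 (iv1 F333303)) (tt N50754 (iv0 F333294)) (tt N63758 (iv2 F189338)) (tt N56304 (iv3 F317600)) (tt N17308 (iv4 D55202)) (tt N50747 (iv5 F337216)) (tt N63761 D119953) (tt N22499 F87333))
theorem Q34354 : ∀ i, i < 34354 → P i := stepQ 34353 Q34353 (allL N34353 (tt N61489 F314749) (tt N21193 (iv0 F232476)) (tt N62814 (iv2 F232360)) (tt N17310 F87334) (tt N63761 (iv4 F189374)) (tt N22433 F306174) (tt N17308 (iv6 D55203)) (tt N41317 (iv7 F103919)))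
theorem Q34355 : ∀ i, i < 34355 → P i := stepQ 34354 Q34354 (allL N34354 (tt N63762 D119970) (tt N63763 D119971) (tt N63764 D119972) (tt N17309 (iv3 D55208)) (tt N56304 (iv4 F317601)) (tt N37500 (iv5 F317612)) (tt N42640 (iv6 F317613)) (tt N22512 F87338))
theorem Q34356 : ∀ i, i < 34356 → P i := stepQ 34355 Q34355 (allL N34355 (tt N17328 F87357) (tt N17330 F87358) (tt N21864 F87354) (tt N63765 D119981) (tt N17311 (iv4 D55214)) (tt N21864 F87355) (tt N23592 F325320) (tt N21865 F87356))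
theorem Q34357 : ∀ i, i < 34357 → P i := stepQ 34356 Q34356 (allL N34356 (tt N52642 (iv1 F329848)) (tt N54098 (iv0 F329849)) (tt N55030 (iv2 F329846)) (tt N17312 (iv3 D55215)) (tt N29181 (iv4 F329850)) (tt N34376 (iv5 F87411)) (tt N45746 F316262) (tt N22542 F87359))
theorem Q34358 : ∀ i, i < 34358 → P i := stepQ 34357 Q34357 (allL N34357 (tt N22540 (iv1 F87367)) (tt N22539 F87368) (tt N22541 F87363) (tt N63493 (iv3 F187689)) (tt N24991 (iv4 F309218)) (tt N21737 F307317) (tt N22546 F87365) (tt N17313 (iv7 D55219)))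
theorem Q34359 : ∀ i, i < 34359 → P i := stepQ 34358 Q34358 (allL N34358 (tt N63766 D119994) (tt N32778 (iv0 F87372)) (tt N29586 F87369) (tt N23133 F87370) (tt N51014 (iv4 F329555)) (tt N17314 (iv5 D55220)) (tt N63767 D119996) (tt N22530 F87371))
theorem Q34360 : ∀ i, i < 34360 → P i := stepQ 34359 Q34359 (allL N34359 (tt N21924 (iv1 F87375)) (tt N17315 (iv0 D55221)) (tt N22532 (iv2 F87374)) (tt N22243 F87373) (tt N56107 (iv4 F162677)) (tt N36663 (iv5 F94967)) (tt N63357 (iv6 F186942)) (tt N22531 F87376))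
theorem Q34361 : ∀ i, i < 34361 → P i := stepQ 34360 Q34360 (allL N34360 (tt N28204 F328486) (tt N20334 F322097) (tt N42922 F107650) (tt N29341 (iv3 F328864)) (tt N17315 (iv4 D55222)) (tt N49814 (iv5 F328867)) (tt N63768 D119999) (tt N22533 F87377))
theorem Q34362 : ∀ i, i < 34362 → P i := stepQ 34361 Q34361 (allL N34361 (tt N63769 D120000) (tt N63337 (iv0 F187242)) (tt N63273 (iv2 F186690)) (tt N17317 F87379) (tt N63768 (iv4 F189444)) (tt N42727 (iv5 F106995)) (tt N17315 (iv6 D55223)) (tt N63770 D120001))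
theorem Q34363 : ∀ i, i < 34363 → P i := stepQ 34362 Q34362 (allL N34362 (tt N25819 (iv1 F329032)) (tt N51201 (iv0 F329029)) (tt N48942 (iv2 F329036)) (tt N17316 (iv3 D55224)) (tt N29341 (iv4 F328865)) (tt N34369 (iv5 F87398)) (tt N63771 D120005) (tt N22537 F87380))
theorem Q34364 : ∀ i, i < 34364 → P i := stepQ 34363 Q34363 (allL N34363 (tt N42874 (iv1 F113956)) (tt N42877 (iv0 F110805)) (tt N22543 F87381) (tt N63771 (iv3 F189453)) (tt N17317 F87382) (tt N38095 F320715) (tt N17316 (iv6 D55225)) (tt N45714 F313999))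
theorem Q34365 : ∀ i, i < 34365 → P i := stepQ 34364 Q34364 (allL N34364 (tt N22546 (iv1 F87390)) (tt N17317 (iv0 D55226)) (tt N22544 F87393) (tt N22129 F108537) (tt N63636 (iv4 F320684)) (tt N63735 (iv5 F189105)) (tt N63772 D120009) (tt N22545 F87392))
theorem Q34366 : ∀ i, i < 34366 → P i := stepQ 34365 Q34365 (allL N34365 (tt N17317 (iv1 D55227)) (tt N22546 F87383) (tt N22545 F87386) (tt N43540 (iv3 F190671)) (tt N63773 D120011) (tt N22486 (iv5 F87385)) (tt N17936 (iv6 F87384)) (tt N22544 (iv7 F87394)))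
theorem Q34367 : ∀ i, i < 34367 → P i := stepQ 34366 Q34366 (allL N34366 (tt N22545 (iv1 F87391)) (tt N22544 F87395) (tt N22546 F87388) (tt N63770 (iv3 F189445)) (tt N45714 (iv4 F311558)) (tt N42729 (iv5 F106998)) (tt N22541 F87389) (tt N17317 (iv7 D55228)))
theorem Q34368 : ∀ i, i < 34368 → P i := stepQ 34367 Q34367 (allL N34367 (tt N63774 D120012) (tt N42746 (iv0 F107047)) (tt N63192 (iv2 F186067)) (tt N29186 (iv3 F327750)) (tt N17318 (iv4 D55229)) (tt N52478 F327290) (tt N63775 D120015) (tt N22554 F87396))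
theorem Q34369 : ∀ i, i < 34369 → P i := stepQ 34368 Q34368 (allL N34368 (tt N41047 F317161) (tt N63776 D120017) (tt N63193 (iv2 F186071)) (tt N17320 F87397) (tt N63775 (iv4 F189500)) (tt N34415 (iv5 F87497)) (tt N17318 (iv6 D55230)) (tt N40819 F322335))
theorem Q34370 : ∀ i, i < 34370 → P i := stepQ 34369 Q34369 (allL N34369 (tt N54923 (iv1 F328600)) (tt N50400 (iv0 F328597)) (tt N55005 (iv2 F328601)) (tt N17319 (iv3 D55231)) (tt N29186 F328222) (tt N34362 F87398) (tt N63777 D120022) (tt N22556 F87399))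
theorem Q34371 : ∀ i, i < 34371 → P i := stepQ 34370 Q34370 (allL N34370 (tt N47310 F320130) (tt N46385 F320131) (tt N22550 F87400) (tt N63777 (iv3 F189510)) (tt N17320 F87401) (tt N63778 D120025) (tt N17319 (iv6 D55232)) (tt N47309 F320663))
theorem Q34372 : ∀ i, i < 34372 → P i := stepQ 34371 Q34371 (allL N34371 (tt N22553 (iv1 F87405)) (tt N17320 (iv0 D55233)) (tt N22551 F189532) (tt N52357 (iv3 F308547)) (tt N63779 D120029) (tt N63780 D120030) (tt N25177 F92359) (tt N22552 F189533))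
theorem Q34373 : ∀ i, i < 34373 → P i := stepQ 34372 Q34372 (allL N34372 (tt N17320 (iv1 D55234)) (tt N22553 F87402) (tt N22552 (iv2 F189530)) (tt N63676 (iv3 F212310)) (tt N45589 F320248) (tt N43166 (iv5 F108233)) (tt N40495 F318347) (tt N22551 (iv7 F189531)))
theorem Q34374 : ∀ i, i < 34374 → P i := stepQ 34373 Q34373 (allL N34373 (tt N22552 (iv1 F87406)) (tt N22551 F87407) (tt N22553 F87403) (tt N40819 F322331) (tt N47309 F320661) (tt N37371 (iv5 F95882)) (tt N22560 F87404) (tt N17320 (iv7 D55235)))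
theorem Q34375 : ∀ i, i < 34375 → P i := stepQ 34374 Q34374 (allL N34374 (tt N42908 (iv1 F107617)) (tt N33912 (iv0 F87409)) (tt N42916 F107625) (tt N25764 (iv3 F329252)) (tt N17321 (iv4 D55236)) (tt N25763 F328908) (tt N40540 F321274) (tt N22547 F87408))
theorem Q34376 : ∀ i, i < 34376 → P i := stepQ 34375 Q34375 (allL N34375 (tt N63781 D120038) (tt N40889 F326856) (tt N40815 F322319) (tt N17323 F87410) (tt N40540 F321273) (tt N29732 F317215) (tt N17321 (iv6 D55237)) (tt N63782 D120040))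
theorem Q34377 : ∀ i, i < 34377 → P i := stepQ 34376 Q34376 (allL N34376 (tt N51216 (iv1 F329729)) (tt N51215 (iv0 F329730)) (tt N55343 (iv2 F329731)) (tt N17322 (iv3 D55238)) (tt N25764 F329561) (tt N34356 F87411) (tt N63783 D120044) (tt N22549 F87412))
theorem Q34378 : ∀ i, i < 34378 → P i := stepQ 34377 Q34377 (allL N34377 (tt N63784 D120045) (tt N63785 D120046) (tt N22557 F87413) (tt N63783 (iv3 F189597)) (tt N17323 F87414) (tt N23693 F316316) (tt N17322 (iv6 D55239)) (tt N48328 F316317))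
theorem Q34379 : ∀ i, i < 34379 → P i := stepQ 34378 Q34378 (allL N34378 (tt N22560 (iv1 F87418)) (tt N17323 (iv0 D55240)) (tt N22558 F185089) (tt N33425 F320925) (tt N31191 F324192) (tt N44892 (iv5 F113842)) (tt N63460 (iv6 F187570)) (tt N22559 F185090))
theorem Q34380 : ∀ i, i < 34380 → P i := stepQ 34379 Q34379 (allL N34379 (tt N17323 (iv1 D55241)) (tt N22560 F87415) (tt N22559 F185086) (tt N63786 D120050) (tt N36150 F321150) (tt N44893 F113843) (tt N25169 (iv6 F113844)) (tt N22558 F185087))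
theorem Q34381 : ∀ i, i < 34381 → P i := stepQ 34380 Q34380 (allL N34380 (tt N22559 (iv1 F87419)) (tt N22558 F87420) (tt N22560 F87416) (tt N63782 (iv3 F189588)) (tt N48328 F316315) (tt N42109 F312519) (tt N22553 F87417) (tt N17323 (iv7 D55242)))
theorem Q34382 : ∀ i, i < 34382 → P i := stepQ 34381 Q34381 (allL N34381 (tt N63787 D120052) (tt N30486 (iv0 F321263)) (tt N63788 D120054) (tt N17324 (iv3 D55243)) (tt N30478 F319214) (tt N34390 (iv5 F87446)) (tt N63789 D120055) (tt N22563 F87421))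
theorem Q34383 : ∀ i, i < 34383 → P i := stepQ 34382 Q34382 (allL N34382 (tt N63779 (iv1 F207456)) (tt N45589 (iv0 F318087)) (tt N22562 F87422) (tt N63789 (iv3 F189634)) (tt N18624 F87423) (tt N63790 D120058) (tt N17324 (iv6 D55244)) (tt N63791 D120059))
theorem Q34384 : ∀ i, i < 34384 → P i := stepQ 34383 Q34383 (allL N34383 (tt N63792 D120060) (tt N57398 (iv0 F325005)) (tt N63793 D120062) (tt N17325 (iv3 D55245)) (tt N63794 D120063) (tt N33485 F323699) (tt N63795 D120064) (tt N22561 F87424))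
theorem Q34385 : ∀ i, i < 34385 → P i := stepQ 34384 Q34384 (allL N34384 (tt N31191 F324021) (tt N36150 F321545) (tt N22564 F87425) (tt N63795 (iv3 F189651)) (tt N18626 F87426) (tt N23787 F316250) (tt N17325 (iv6 D55246)) (tt N58805 F324022))
theorem Q34386 : ∀ i, i < 34386 → P i := stepQ 34385 Q34385 (allL N34385 (tt N44118 (iv1 F110852)) (tt N17326 (iv0 D55247)) (tt N44120 F347884) (tt N47219 (iv3 F347859)) (tt N63796 D120069) (tt N63797 D120070) (tt N47216 (iv6 F347860)) (tt N44119 (iv7 F347890)))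
theorem Q34387 : ∀ i, i < 34387 → P i := stepQ 34386 Q34386 (allL N34386 (tt N17326 (iv1 D55248)) (tt N44118 F110851) (tt N44119 (iv2 F347889)) (tt N63798 D120073) (tt N61844 (iv4 F347896)) (tt N63799 D120075) (tt N32078 (iv6 F347897)) (tt N44120 F347888))
theorem Q34388 : ∀ i, i < 34388 → P i := stepQ 34387 Q34387 (allL N34387 (tt N44120 (iv1 F110854)) (tt N44119 F110853) (tt N17326 (iv2 D55249)) (tt N22567 F87427) (tt N63685 (iv4 F188675)) (tt N42345 (iv5 F106020)) (tt N25182 F87428) (tt N44118 (iv7 F110850)))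
theorem Q34389 : ∀ i, i < 34389 → P i := stepQ 34388 Q34388 (allL N34388 (tt N18604 (iv1 F87432)) (tt N18537 (iv0 F87431)) (tt N43585 (iv2 F109219)) (tt N17327 (iv3 D55250)) (tt N43495 (iv4 F109089)) (tt N22578 F87429) (tt N40481 F320412) (tt N21862 F87430))
theorem Q34390 : ∀ i, i < 34390 → P i := stepQ 34389 Q34389 (allL N34389 (tt N22575 (iv1 F87444)) (tt N22574 F87445) (tt N22576 F87439) (tt N21878 F87440) (tt N34646 (iv4 F307219)) (tt N22779 F87441) (tt N21858 F87442) (tt N17329 (iv7 D55255)))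
theorem Q34391 : ∀ i, i < 34391 → P i := stepQ 34390 Q34390 (allL N34390 (tt N48946 F331309) (tt N39380 (iv0 F322912)) (tt N63800 D120093) (tt N17330 (iv3 D55256)) (tt N63124 (iv4 F185725)) (tt N34381 F87446) (tt N63801 D120094) (tt N22572 F87447))
theorem Q34392 : ∀ i, i < 34392 → P i := stepQ 34391 Q34391 (allL N34391 (tt N63636 (iv1 F320682)) (tt N63773 (iv0 F189489)) (tt N21857 F87448) (tt N63801 (iv3 F189703)) (tt N17331 F87449) (tt N37390 F318542) (tt N17330 (iv6 D55257)) (tt N45782 F309237))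
theorem Q34393 : ∀ i, i < 34393 → P i := stepQ 34392 Q34392 (allL N34392 (tt N21858 (iv1 F87457)) (tt N17331 (iv0 D55258)) (tt N21855 F87460) (tt N63802 D120097) (tt N44068 (iv4 F113954)) (tt N44591 F311136) (tt N40244 (iv6 F316494)) (tt N21856 F87459))
theorem Q34394 : ∀ i, i < 34394 → P i := stepQ 34393 Q34393 (allL N34393 (tt N17331 (iv1 D55259)) (tt N21858 F87450) (tt N21856 F87453) (tt N53363 (iv3 F339135)) (tt N44069 (iv4 F113924)) (tt N21723 (iv5 F87452)) (tt N17970 (iv6 F87451)) (tt N21855 (iv7 F87461)))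
theorem Q34395 : ∀ i, i < 34395 → P i := stepQ 34394 Q34394 (allL N34394 (tt N21856 (iv1 F87458)) (tt N21855 F87462) (tt N21858 F87454) (tt N63121 (iv3 F185712)) (tt N45782 (iv4 F307245)) (tt N21829 F87455) (tt N22576 F87456) (tt N17331 (iv7 D55260)))
theorem Q34396 : ∀ i, i < 34396 → P i := stepQ 34395 Q34395 (allL N34395 (tt N17332 (iv1 D55261)) (tt N32574 F87463) (tt N23171 (iv2 F106605)) (tt N26935 (iv3 F87464)) (tt N23171 (iv4 F87465)) (tt N42623 (iv5 F106610)) (tt N58905 (iv6 F171422)) (tt N42346 F106569))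
theorem Q34397 : ∀ i, i < 34397 → P i := stepQ 34396 Q34396 (allL N34396 (tt N63803 D120100) (tt N52605 (iv0 F230420)) (tt N61346 (iv2 F178653)) (tt N45073 (iv3 F114478)) (tt N17335 F87466) (tt N63804 D120102) (tt N17334 (iv6 D55262)) (tt N63805 D120103))
theorem Q34398 : ∀ i, i < 34398 → P i := stepQ 34397 Q34397 (allL N34397 (tt N61349 (iv1 F178659)) (tt N17335 (iv0 D55263)) (tt N61347 (iv2 F283760)) (tt N63806 D120105) (tt N63807 D120106) (tt N63808 D120107) (tt N63809 D120108) (tt N61348 (iv7 F283765)))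
theorem Q34399 : ∀ i, i < 34399 → P i := stepQ 34398 Q34398 (allL N34398 (tt N17335 (iv1 D55264)) (tt N61349 F178658) (tt N61348 (iv2 F283763)) (tt N46080 (iv3 F259276)) (tt N63810 D120111) (tt N63811 D120112) (tt N63812 D120113) (tt N61347 (iv7 F283762)))
theorem Q34400 : ∀ i, i < 34400 → P i := stepQ 34399 Q34399 (allL N34399 (tt N61348 (iv1 F178655)) (tt N61347 F178657) (tt N61349 (iv2 F178656)) (tt N17338 F87467) (tt N63805 (iv4 F189724)) (tt N58926 (iv5 F171458)) (tt N42354 (iv6 F106043)) (tt N17335 (iv7 D55265)))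
theorem Q34401 : ∀ i, i < 34401 → P i := stepQ 34400 Q34400 (allL N34400 (tt N43038 F177472) (tt N23222 F177473) (tt N43035 (iv2 F238445)) (tt N17336 (iv3 D55267)) (tt N63813 D120115) (tt N63814 D120116) (tt N63815 D120117) (tt N43036 F238444))
theorem Q34402 : ∀ i, i < 34402 → P i := stepQ 34401 Q34401 (allL N34401 (tt N61494 (iv1 F178920)) (tt N61577 F179060) (tt N45996 (iv2 F177477)) (tt N63814 (iv3 F189729)) (tt N63816 D120118) (tt N17336 (iv5 D55269)) (tt N63817 D120119) (tt N45998 F177476))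
theorem Q34403 : ∀ i, i < 34403 → P i := stepQ 34402 Q34402 (allL N34402 (tt N55789 (iv1 F178447)) (tt N61252 F178446) (tt N45997 F177457) (tt N63815 (iv3 F189730)) (tt N56173 (iv4 F177782)) (tt N32918 F87469) (tt N17336 (iv6 D55270)) (tt N61250 F178438))
theorem Q34404 : ∀ i, i < 34404 → P i := stepQ 34403 Q34403 (allL N34403 (tt N55781 F161727) (tt N47534 F326573) (tt N51553 F161641) (tt N17337 (iv3 D55272)) (tt N47526 F324718) (tt N29088 F293283) (tt N29089 F293284) (tt N45995 (iv7 F177462)))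
theorem Q34405 : ∀ i, i < 34405 → P i := stepQ 34404 Q34404 (allL N34404 (tt N61577 F179059) (tt N61494 (iv0 F178921)) (tt N45998 (iv2 F177467)) (tt N29088 F293788) (tt N63818 D120121) (tt N17337 (iv5 D55274)) (tt N29086 F293789) (tt N45996 (iv7 F177464)))
theorem Q34406 : ∀ i, i < 34406 → P i := stepQ 34405 Q34405 (allL N34405 (tt N51501 (iv1 F177779)) (tt N44608 (iv0 F177780)) (tt N45999 (iv2 F177468)) (tt N29089 F293275) (tt N60985 F177771) (tt N29087 F293276) (tt N17337 (iv6 D55275)) (tt N51006 (iv7 F161619)))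
theorem Q34407 : ∀ i, i < 34407 → P i := stepQ 34406 Q34406 (allL N34406 (tt N17344 (iv1 F87476)) (tt N17341 (iv0 D55276)) (tt N32417 (iv2 F87472)) (tt N22784 F87473) (tt N20947 F87471) (tt N60175 (iv5 F175861)) (tt N18404 F87474) (tt N21568 F87475))
theorem Q34408 : ∀ i, i < 34408 → P i := stepQ 34407 Q34407 (allL N34407 (tt N32451 F87479) (tt N32615 (iv0 F87480)) (tt N18915 F87477) (tt N17341 (iv3 D55277)) (tt N37286 (iv4 F95759)) (tt N53059 (iv5 F152164)) (tt N32621 F87478) (tt N38198 (iv7 F97630)))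
theorem Q34409 : ∀ i, i < 34409 → P i := stepQ 34408 Q34408 (allL N34408 (tt N32132 F87482) (tt N32130 F87481) (tt N38153 (iv2 F97536)) (tt N53059 (iv3 F152167)) (tt N63819 D120122) (tt N17341 (iv5 D55278)) (tt N63820 D120123) (tt N63821 D120124))
theorem Q34410 : ∀ i, i < 34410 → P i := stepQ 34409 Q34409 (allL N34409 (tt N21568 (iv1 F87485)) (tt N32417 F87486) (tt N17344 F87483) (tt N38198 (iv3 F97628)) (tt N17343 F87484) (tt N63821 (iv5 F189737)) (tt N41442 (iv6 F104226)) (tt N17341 (iv7 D55279)))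
theorem Q34411 : ∀ i, i < 34411 → P i := stepQ 34410 Q34410 (allL N34410 (tt N63822 D120125) (tt N63823 D120126) (tt N37475 (iv2 F96061)) (tt N24696 F311855) (tt N17342 (iv4 D55280)) (tt N63824 D120128) (tt N24693 F311856) (tt N63825 D120130))
theorem Q34412 : ∀ i, i < 34412 → P i := stepQ 34411 Q34411 (allL N34411 (tt N23896 F307650) (tt N23366 F307651) (tt N23895 F307652) (tt N43104 (iv3 F108133)) (tt N24693 (iv4 F309659)) (tt N33696 F87488) (tt N17342 (iv6 D55281)) (tt N23894 F307653))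
theorem Q34413 : ∀ i, i < 34413 → P i := stepQ 34412 Q34412 (allL N34412 (tt N33934 (iv1 F87491)) (tt N19454 F87492) (tt N17345 F87489) (tt N37478 (iv3 F96069)) (tt N63825 (iv4 F189751)) (tt N17343 F87490) (tt N63826 D120133) (tt N17342 (iv7 D55282)))
theorem Q34414 : ∀ i, i < 34414 → P i := stepQ 34413 Q34413 (allL N34413 (tt N32130 F87495) (tt N32132 F87494) (tt N63821 (iv2 F189736)) (tt N18914 F87493) (tt N63827 D120134) (tt N17344 (iv5 D55283)) (tt N63828 D120135) (tt N38153 (iv7 F97538)))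
theorem Q34415 : ∀ i, i < 34415 → P i := stepQ 34414 Q34414 (allL N34414 (tt N63823 (iv1 F189744)) (tt N63822 F189743) (tt N63825 (iv2 F189750)) (tt N63829 D120136) (tt N17345 (iv4 D55284)) (tt N63830 D120137) (tt N63831 D120138) (tt N37475 (iv7 F96062)))
theorem Q34416 : ∀ i, i < 34416 → P i := stepQ 34415 Q34415 (allL N34415 (tt N44480 F311237) (tt N63832 D120139) (tt N63826 (iv2 F189760)) (tt N18964 F87496) (tt N63831 (iv4 F189768)) (tt N34368 F87497) (tt N17345 (iv6 D55285)) (tt N63833 D120140))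
theorem Q34417 : ∀ i, i < 34417 → P i := stepQ 34416 Q34416 (allL N34416 (tt N63208 (iv1 F186372)) (tt N17347 (iv0 D55286)) (tt N46426 (iv2 F308479)) (tt N42421 (iv3 F309894)) (tt N38310 (iv4 F97916)) (tt N58888 (iv5 F346714)) (tt N42420 F307884) (tt N63230 (iv7 F186454)))
theorem Q34418 : ∀ i, i < 34418 → P i := stepQ 34417 Q34417 (allL N34417 (tt N17347 (iv1 D55287)) (tt N63208 (iv0 F186371)) (tt N63230 F186452) (tt N46428 (iv3 F312861)) (tt N42502 (iv4 F106308)) (tt N47565 (iv5 F312862)) (tt N63834 D120146) (tt N46426 F310583))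
theorem Q34419 : ∀ i, i < 34419 → P i := stepQ 34418 Q34418 (allL N34418 (tt N63442 (iv1 F311313)) (tt N63835 D120148) (tt N63836 D120149) (tt N17347 (iv3 D55288)) (tt N17349 F87498) (tt N63837 D120150) (tt N63431 (iv6 F311321)) (tt N22740 F87499))
theorem Q34420 : ∀ i, i < 34420 → P i := stepQ 34419 Q34419 (allL N34419 (tt N52003 (iv1 F342246)) (tt N63838 D120153) (tt N63235 (iv2 F186463)) (tt N63837 (iv3 F189783)) (tt N63839 D120154) (tt N17347 (iv5 D55289)) (tt N51973 (iv6 F342217)) (tt N63231 (iv7 F186456)))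
theorem Q34421 : ∀ i, i < 34421 → P i := stepQ 34420 Q34420 (allL N34420 (tt N63840 D120156) (tt N24447 (iv0 F314769)) (tt N38918 (iv2 F209864)) (tt N63431 F313701) (tt N17348 F87500) (tt N63841 D120158) (tt N17347 (iv6 D55290)) (tt N63842 D120159))
theorem Q34422 : ∀ i, i < 34422 → P i := stepQ 34421 Q34421 (allL N34421 (tt N63236 (iv1 F186470)) (tt N17348 (iv0 D55291)) (tt N38270 (iv2 F162919)) (tt N63843 D120160) (tt N63844 D120161) (tt N34251 F162941) (tt N63845 D120162) (tt N34250 (iv7 F162920)))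
theorem Q34423 : ∀ i, i < 34423 → P i := stepQ 34422 Q34422 (allL N34422 (tt N17348 (iv1 D55292)) (tt N63236 F186469) (tt N34250 (iv2 F162721)) (tt N19009 F162886) (tt N63429 (iv4 F319360)) (tt N34166 (iv5 F87501)) (tt N45304 F306212) (tt N38270 F162912))
theorem Q34424 : ∀ i, i < 34424 → P i := stepQ 34423 Q34423 (allL N34423 (tt N34250 (iv1 F87504)) (tt N38270 F162921) (tt N63236 (iv2 F186466)) (tt N17352 F87502) (tt N63842 (iv4 F189790)) (tt N17362 F87503) (tt N63234 (iv6 F186461)) (tt N17348 (iv7 D55293)))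
theorem Q34425 : ∀ i, i < 34425 → P i := stepQ 34424 Q34424 (allL N34424 (tt N17349 (iv1 D55295)) (tt N22737 F87510) (tt N22738 F313686) (tt N48444 (iv3 F311307)) (tt N63846 D120172) (tt N37438 (iv5 F220200)) (tt N43950 (iv6 F311312)) (tt N22739 F313687))
theorem Q34426 : ∀ i, i < 34426 → P i := stepQ 34425 Q34425 (allL N34425 (tt N22739 (iv1 F87511)) (tt N22738 F87509) (tt N17349 (iv2 D55296)) (tt N22837 F87506) (tt N63836 (iv4 F189779)) (tt N22732 F87507) (tt N17360 (iv6 F309940)) (tt N22737 F87508))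
theorem Q34427 : ∀ i, i < 34427 → P i := stepQ 34426 Q34426 (allL N34426 (tt N23933 (iv1 F309015)) (tt N43150 (iv0 F309020)) (tt N22840 F87513) (tt N63432 (iv3 F310276)) (tt N45396 (iv4 F115719)) (tt N17350 (iv5 D55298)) (tt N22748 F87514) (tt N37484 (iv7 F310277)))
theorem Q34428 : ∀ i, i < 34428 → P i := stepQ 34427 Q34427 (allL N34427 (tt N38269 F130753) (tt N22111 F130754) (tt N38268 F130940) (tt N17351 (iv3 D55300)) (tt N63847 D120182) (tt N34343 F87520) (tt N63848 D120183) (tt N22844 F87521))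
theorem Q34429 : ∀ i, i < 34429 → P i := stepQ 34428 Q34428 (allL N34428 (tt N42304 F309366) (tt N42740 (iv0 F311397)) (tt N22843 F87522) (tt N63848 (iv3 F189821)) (tt N21709 F309367) (tt N19033 F87523) (tt N17351 (iv6 D55301)) (tt N21707 F309368))
theorem Q34430 : ∀ i, i < 34430 → P i := stepQ 34429 Q34429 (allL N34429 (tt N22847 (iv1 F87528)) (tt N22846 F87529) (tt N22845 F87524) (tt N63234 (iv3 F186459)) (tt N22747 F87525) (tt N23081 F87526) (tt N17352 (iv6 D55302)) (tt N17353 F87527))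
theorem Q34431 : ∀ i, i < 34431 → P i := stepQ 34430 Q34430 (allL N34430 (tt N22845 (iv1 F87530)) (tt N17353 (iv0 D55303)) (tt N22846 F200116) (tt N63450 (iv3 F237556)) (tt N30669 F167442) (tt N63849 D120187) (tt N42849 F307328) (tt N22847 F200117))
theorem Q34432 : ∀ i, i < 34432 → P i := stepQ 34431 Q34431 (allL N34431 (tt N17353 (iv1 D55304)) (tt N22845 F87531) (tt N22847 (iv2 F200112)) (tt N63850 D120190) (tt N30670 F167445) (tt N63851 D120191) (tt N39922 F313674) (tt N22846 (iv7 F200115)))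
theorem Q34433 : ∀ i, i < 34433 → P i := stepQ 34432 Q34432 (allL N34432 (tt N34590 (iv1 F87991)) (tt N34589 F87997) (tt N34592 (iv2 F87994)) (tt N63852 D120193) (tt N17355 (iv4 D55305)) (tt N48976 (iv5 F134977)) (tt N34188 F87532) (tt N34582 (iv7 F87979)))
theorem Q34434 : ∀ i, i < 34434 → P i := stepQ 34433 Q34433 (allL N34433 (tt N19514 F305052) (tt N36449 (iv0 F302405)) (tt N36450 (iv2 F302417)) (tt N17356 (iv3 D55306)) (tt N24217 F87533) (tt N24749 F87534) (tt N36489 (iv6 F302420)) (tt N22991 F87535))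
theorem Q34435 : ∀ i, i < 34435 → P i := stepQ 34434 Q34434 (allL N34434 (tt N63374 F188320) (tt N22154 F188321) (tt N22994 F87537) (tt N36489 (iv3 F302419)) (tt N42497 (iv4 F106299)) (tt N63853 D120196) (tt N17356 (iv6 D55307)) (tt N36485 F299488))
theorem Q34436 : ∀ i, i < 34436 → P i := stepQ 34435 Q34435 (allL N34435 (tt N22021 (iv1 F189864)) (tt N36482 (iv0 F298156)) (tt N22992 F87538) (tt N36444 (iv3 F298359)) (tt N18499 F87539) (tt N51905 (iv5 F298360)) (tt N17357 (iv6 D55308)) (tt N36483 (iv7 F298155)))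
theorem Q34437 : ∀ i, i < 34437 → P i := stepQ 34436 Q34436 (allL N34436 (tt N37609 (iv1 F304565)) (tt N37569 F302947) (tt N37606 (iv2 F305275)) (tt N23007 F87540) (tt N43096 F297871) (tt N28001 (iv5 F300210)) (tt N17358 (iv6 D55309)) (tt N37607 (iv7 F305273)))
theorem Q34438 : ∀ i, i < 34438 → P i := stepQ 34437 Q34437 (allL N34437 (tt N63430 (iv1 F187394)) (tt N17359 (iv0 D55310)) (tt N63427 (iv2 F234218)) (tt N37218 F309697) (tt N42498 (iv4 F187395)) (tt N63854 D120206) (tt N63855 D120207) (tt N63428 (iv7 F234229)))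
theorem Q34439 : ∀ i, i < 34439 → P i := stepQ 34438 Q34438 (allL N34438 (tt N17359 (iv1 D55311)) (tt N63430 F187393) (tt N63428 (iv2 F234228)) (tt N63856 D120209) (tt N42499 (iv4 F234205)) (tt N63857 D120211) (tt N63858 D120212) (tt N63427 (iv7 F234219)))
theorem Q34440 : ∀ i, i < 34440 → P i := stepQ 34439 Q34439 (allL N34439 (tt N63242 (iv1 F319359)) (tt N63859 D120214) (tt N63429 (iv2 F187389)) (tt N23017 F87541) (tt N34250 (iv4 F319362)) (tt N17359 (iv5 D55312)) (tt N28001 F302953) (tt N63844 (iv7 F319080)))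
theorem Q34441 : ∀ i, i < 34441 → P i := stepQ 34440 Q34440 (allL N34440 (tt N63428 (iv1 F187388)) (tt N63427 (iv0 F187385)) (tt N63430 (iv2 F187390)) (tt N23014 F87542) (tt N17362 F87543) (tt N63844 (iv5 F319079)) (tt N23002 F87544) (tt N17359 (iv7 D55313)))
theorem Q34442 : ∀ i, i < 34442 → P i := stepQ 34441 Q34441 (allL N34441 (tt N45231 (iv1 F232774)) (tt N34710 F232771) (tt N22838 (iv2 F309377)) (tt N17360 (iv3 D55315)) (tt N37651 F307958) (tt N63860 D120220) (tt N22837 (iv6 F308056)) (tt N45230 (iv7 F232723)))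
theorem Q34443 : ∀ i, i < 34443 → P i := stepQ 34442 Q34442 (allL N34442 (tt N63434 F187420) (tt N63385 F187423) (tt N63431 (iv2 F187396)) (tt N19644 (iv3 F314479)) (tt N17360 (iv4 D55316)) (tt N63861 D120223) (tt N63836 F312189) (tt N38915 (iv7 F314064)))
theorem Q34444 : ∀ i, i < 34444 → P i := stepQ 34443 Q34443 (allL N34443 (tt N63568 F188130) (tt N63651 (iv0 F188575)) (tt N63432 (iv2 F187401)) (tt N63860 (iv3 F191417)) (tt N63862 D120225) (tt N17360 (iv5 D55317)) (tt N63863 D120226) (tt N63433 (iv7 F187413)))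
theorem Q34445 : ∀ i, i < 34445 → P i := stepQ 34444 Q34444 (allL N34444 (tt N63385 (iv1 F187422)) (tt N63434 (iv0 F187421)) (tt N38915 (iv2 F314062)) (tt N63842 (iv3 F314773)) (tt N17361 (iv4 D55321)) (tt N63864 D120228) (tt N63865 D120229) (tt N63431 (iv7 F187398)))
theorem Q34446 : ∀ i, i < 34446 → P i := stepQ 34445 Q34445 (allL N34445 (tt N63651 F188576) (tt N63568 (iv0 F188129)) (tt N63433 (iv2 F187412)) (tt N37484 (iv3 F162892)) (tt N63866 D120230) (tt N17361 (iv5 D55322)) (tt N37483 F162896) (tt N63432 (iv7 F187404)))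
theorem Q34447 : ∀ i, i < 34447 → P i := stepQ 34446 Q34446 (allL N34446 (tt N43943 (iv1 F186994)) (tt N47978 F186985) (tt N63377 (iv2 F186983)) (tt N22747 F313437) (tt N63865 (iv4 F191429)) (tt N33447 F313438) (tt N17361 (iv6 D55323)) (tt N22741 F313439))
theorem Q34448 : ∀ i, i < 34448 → P i := stepQ 34447 Q34447 (allL N34447 (tt N63215 (iv1 F186390)) (tt N22115 F155522) (tt N46088 F131000) (tt N24103 (iv3 F91235)) (tt N17363 (iv4 D55327)) (tt N63867 D120231) (tt N45524 (iv6 F302393)) (tt N22874 F87555))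
theorem Q34449 : ∀ i, i < 34449 → P i := stepQ 34448 Q34448 (allL N34448 (tt N43147 F130964) (tt N45715 (iv0 F305742)) (tt N46089 F130994) (tt N17364 F87556) (tt N63868 D120233) (tt N17363 (iv5 D55328)) (tt N42706 (iv6 F314093)) (tt N22875 F87557))
theorem Q34450 : ∀ i, i < 34450 → P i := stepQ 34449 Q34449 (allL N34449 (tt N22743 F309104) (tt N40039 (iv0 F309709)) (tt N39978 (iv2 F309707)) (tt N17365 F87558) (tt N45524 F302908) (tt N17951 (iv5 F87559)) (tt N17363 (iv6 D55329)) (tt N25165 (iv7 F87560)))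
theorem Q34451 : ∀ i, i < 34451 → P i := stepQ 34450 Q34450 (allL N34450 (tt N21990 F186854) (tt N47940 (iv0 F304255)) (tt N45244 (iv2 F232569)) (tt N21449 F301440) (tt N17366 (iv4 D55335)) (tt N63728 (iv5 F304258)) (tt N21442 (iv6 F304260)) (tt N22870 F87572))
theorem Q34452 : ∀ i, i < 34452 → P i := stepQ 34451 Q34451 (allL N34451 (tt N45738 (iv1 F307903)) (tt N25481 F307766) (tt N45245 (iv2 F232572)) (tt N17367 F87573) (tt N25064 F307767) (tt N17366 (iv5 D55336)) (tt N63869 D120256) (tt N22871 F87574))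
theorem Q34453 : ∀ i, i < 34453 → P i := stepQ 34452 Q34452 (allL N34452 (tt N43927 (iv1 F232580)) (tt N40969 F316957) (tt N45246 (iv2 F232575)) (tt N17368 F87575) (tt N21442 (iv4 F304259)) (tt N63716 (iv5 F188867)) (tt N17366 (iv6 D55337)) (tt N63061 (iv7 F304982)))
theorem Q34454 : ∀ i, i < 34454 → P i := stepQ 34453 Q34453 (allL N34453 (tt N36633 F307345) (tt N36638 F307346) (tt N22877 F87576) (tt N63719 (iv3 F307452)) (tt N17367 (iv4 D55338)) (tt N46516 (iv5 F307453)) (tt N35498 (iv6 F309393)) (tt N22873 F87577))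
theorem Q34455 : ∀ i, i < 34455 → P i := stepQ 34454 Q34454 (allL N34454 (tt N38277 (iv1 F97830)) (tt N19013 (iv0 F87579)) (tt N22878 F87578) (tt N63869 (iv3 F191467)) (tt N35498 F310991) (tt N41035 F311574) (tt N17367 (iv6 D55339)) (tt N38276 (iv7 F97825)))
theorem Q34456 : ∀ i, i < 34456 → P i := stepQ 34455 Q34455 (allL N34455 (tt N23604 F121160) (tt N17370 (iv0 D55341)) (tt N23541 F121161) (tt N23597 F121162) (tt N34893 F121517) (tt N63870 D120261) (tt N46409 F298444) (tt N23605 F121163))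
theorem Q34457 : ∀ i, i < 34457 → P i := stepQ 34456 Q34456 (allL N34456 (tt N17375 F87592) (tt N23411 F87593) (tt N17570 F87589) (tt N23612 F87590) (tt N35221 (iv4 F91643)) (tt N17371 (iv5 D55345)) (tt N23612 (iv6 F296050)) (tt N23614 F87591))
theorem Q34458 : ∀ i, i < 34458 → P i := stepQ 34457 Q34457 (allL N34457 (tt N17831 (iv1 F87595)) (tt N17373 (iv0 D55346)) (tt N45328 F115301) (tt N31182 F326757) (tt N17546 F87594) (tt N63871 D120266) (tt N35269 (iv6 F297439)) (tt N23619 (iv7 F87596)))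
theorem Q34459 : ∀ i, i < 34459 → P i := stepQ 34458 Q34458 (allL N34458 (tt N17373 (iv1 D55347)) (tt N17831 F87597) (tt N23619 (iv2 F87599)) (tt N63872 D120267) (tt N17644 F87598) (tt N63873 D120268) (tt N63874 D120269) (tt N45328 (iv7 F115303)))
theorem Q34460 : ∀ i, i < 34460 → P i := stepQ 34459 Q34459 (allL N34459 (tt N63875 D120270) (tt N63876 D120271) (tt N63877 D120272) (tt N17373 (iv3 D55348)) (tt N46290 (iv4 F122732)) (tt N63878 D120273) (tt N34993 (iv6 F90621)) (tt N45367 (iv7 F115526)))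
theorem Q34461 : ∀ i, i < 34461 → P i := stepQ 34460 Q34460 (allL N34460 (tt N63879 D120274) (tt N63880 D120275) (tt N45330 (iv2 F115305)) (tt N63878 (iv3 F191506)) (tt N35235 (iv4 F91662)) (tt N17373 (iv5 D55349)) (tt N59621 (iv6 F343766)) (tt N45368 (iv7 F115528)))
theorem Q34462 : ∀ i, i < 34462 → P i := stepQ 34461 Q34461 (allL N34461 (tt N17374 (iv1 D55352)) (tt N23546 F297075) (tt N17564 F120835) (tt N34839 (iv3 F298107)) (tt N34901 (iv4 F120849)) (tt N63881 D120280) (tt N24347 (iv6 F298957)) (tt N17604 F297076))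
theorem Q34463 : ∀ i, i < 34463 → P i := stepQ 34462 Q34462 (allL N34462 (tt N31834 F325339) (tt N52809 (iv0 F298001)) (tt N35220 (iv2 F91638)) (tt N23442 F87604) (tt N63882 D120284) (tt N17374 (iv5 D55353)) (tt N17375 F87605) (tt N58473 (iv7 F326108)))
theorem Q34464 : ∀ i, i < 34464 → P i := stepQ 34463 Q34463 (allL N34463 (tt N17564 F120797) (tt N17604 F297070) (tt N23546 F297071) (tt N17571 F120783) (tt N17764 F87607) (tt N58473 (iv5 F326107)) (tt N23604 F121168) (tt N17374 (iv7 D55354)))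
theorem Q34465 : ∀ i, i < 34465 → P i := stepQ 34464 Q34464 (allL N34464 (tt N17512 F87610) (tt N23799 F87611) (tt N23800 F87608) (tt N63883 D120286) (tt N17375 (iv4 D55355)) (tt N45378 (iv5 F115561)) (tt N63882 (iv6 F191531)) (tt N23801 F87609))
theorem Q34466 : ∀ i, i < 34466 → P i := stepQ 34465 Q34465 (allL N34465 (tt N23412 (iv1 F87613)) (tt N17376 (iv0 D55356)) (tt N23615 (iv2 F87614)) (tt N56822 (iv3 F337391)) (tt N23614 F87612) (tt N63880 (iv5 F191512)) (tt N56820 (iv6 F337379)) (tt N35221 (iv7 F91642)))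
theorem Q34467 : ∀ i, i < 34467 → P i := stepQ 34466 Q34466 (allL N34466 (tt N17376 (iv1 D55357)) (tt N23412 F87615) (tt N35221 F91644) (tt N31840 F326755) (tt N17570 F87617) (tt N63879 (iv5 F191507)) (tt N22920 (iv6 F296317)) (tt N23615 F87616))
theorem Q34468 : ∀ i, i < 34468 → P i := stepQ 34467 Q34467 (allL N34467 (tt N63884 D120291) (tt N63885 D120292) (tt N63886 D120293) (tt N17376 (iv3 D55358)) (tt N37170 F324072) (tt N63887 D120294) (tt N35028 (iv6 F90703)) (tt N35224 (iv7 F91648)))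
theorem Q34469 : ∀ i, i < 34469 → P i := stepQ 34468 Q34468 (allL N34468 (tt N63888 D120295) (tt N45633 (iv0 F119176)) (tt N35223 (iv2 F91645)) (tt N63887 (iv3 F191548)) (tt N45377 F115556) (tt N17376 (iv5 D55359)) (tt N63889 D120296) (tt N35225 (iv7 F91649)))
theorem Q34470 : ∀ i, i < 34470 → P i := stepQ 34469 Q34469 (allL N34469 (tt N22200 (iv1 F87619)) (tt N17377 (iv0 D55360)) (tt N45332 F115315) (tt N28493 F87618) (tt N53896 (iv4 F154907)) (tt N35126 F90885) (tt N24388 F299503) (tt N45331 F115310))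
theorem Q34471 : ∀ i, i < 34471 → P i := stepQ 34470 Q34470 (allL N34470 (tt N17377 (iv1 D55361)) (tt N22200 F87623) (tt N45331 (iv2 F115311)) (tt N49645 (iv3 F302430)) (tt N52811 (iv4 F151496)) (tt N35127 (iv5 F112920)) (tt N63890 D120299) (tt N45332 (iv7 F115314)))
theorem Q34472 : ∀ i, i < 34472 → P i := stepQ 34471 Q34471 (allL N34471 (tt N45332 (iv1 F115313)) (tt N45331 F115308) (tt N17377 (iv2 D55362)) (tt N17396 F87620) (tt N22950 F87621) (tt N43736 (iv5 F109585)) (tt N63891 D120300) (tt N22200 F87622))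
theorem Q34473 : ∀ i, i < 34473 → P i := stepQ 34472 Q34472 (allL N34472 (tt N34919 F106732) (tt N34923 F113276) (tt N43736 (iv2 F109584)) (tt N17378 F87624) (tt N44560 (iv4 F112546)) (tt N17377 (iv5 D55363)) (tt N63892 D120301) (tt N34512 (iv7 F87753)))
theorem Q34474 : ∀ i, i < 34474 → P i := stepQ 34473 Q34473 (allL N34473 (tt N38904 (iv1 F319894)) (tt N38901 (iv0 F319895)) (tt N63891 (iv2 F191557)) (tt N17379 F87625) (tt N22952 F87626) (tt N63893 D120304) (tt N17377 (iv6 D55364)) (tt N63894 D120305))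
theorem Q34475 : ∀ i, i < 34475 → P i := stepQ 34474 Q34474 (allL N34474 (tt N63895 D120306) (tt N62997 (iv0 F350744)) (tt N17400 F87627) (tt N63892 (iv3 F191560)) (tt N23399 F87628) (tt N63896 D120308) (tt N17378 (iv6 D55365)) (tt N63897 D120309))
theorem Q34476 : ∀ i, i < 34476 → P i := stepQ 34475 Q34475 (allL N34475 (tt N17404 (iv1 F87633)) (tt N17379 (iv0 D55366)) (tt N17401 F115895) (tt N63898 D120310) (tt N24146 (iv4 F87635)) (tt N63899 D120311) (tt N63900 D120312) (tt N17402 F115896))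
theorem Q34477 : ∀ i, i < 34477 → P i := stepQ 34476 Q34476 (allL N34476 (tt N17379 (iv1 D55367)) (tt N17404 F87629) (tt N17402 F115901) (tt N63901 D120313) (tt N34840 (iv4 F91434)) (tt N63902 D120314) (tt N24378 (iv6 F298983)) (tt N17401 F115902))
theorem Q34478 : ∀ i, i < 34478 → P i := stepQ 34477 Q34477 (allL N34477 (tt N46682 (iv1 F301604)) (tt N35155 (iv0 F90929)) (tt N17403 F87630) (tt N63893 (iv3 F191561)) (tt N48191 (iv4 F302443)) (tt N17379 (iv5 D55368)) (tt N63896 (iv6 F191566)) (tt N63903 D120318))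
theorem Q34479 : ∀ i, i < 34479 → P i := stepQ 34478 Q34478 (allL N34478 (tt N17402 (iv1 F87634)) (tt N17401 F87636) (tt N17404 F87631) (tt N63894 (iv3 F191562)) (tt N17382 F87632) (tt N63903 (iv5 F191597)) (tt N45337 (iv6 F115329)) (tt N17379 (iv7 D55369)))
theorem Q34480 : ∀ i, i < 34480 → P i := stepQ 34479 Q34479 (allL N34479 (tt N48186 (iv1 F300557)) (tt N17650 F115447) (tt N17406 F115438) (tt N57685 F312687) (tt N17380 (iv4 D55372)) (tt N63904 D120321) (tt N63905 D120322) (tt N17409 F115439))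
theorem Q34481 : ∀ i, i < 34481 → P i := stepQ 34480 Q34480 (allL N34480 (tt N17629 (iv1 F299673)) (tt N47828 (iv0 F299668)) (tt N17408 F115440) (tt N17430 (iv3 F299816)) (tt N63905 (iv4 F191613)) (tt N17823 F87640) (tt N17380 (iv6 D55374)) (tt N23115 (iv7 F302031)))
theorem Q34482 : ∀ i, i < 34482 → P i := stepQ 34481 Q34481 (allL N34481 (tt N17650 F91391) (tt N48186 (iv0 F300556)) (tt N17409 F115432) (tt N30540 F312878) (tt N17381 (iv4 D55377)) (tt N63906 D120327) (tt N24382 F299049) (tt N17406 F115433))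
theorem Q34483 : ∀ i, i < 34483 → P i := stepQ 34482 Q34482 (allL N34482 (tt N17406 F91215) (tt N17409 F91216) (tt N17650 F87643) (tt N53688 (iv3 F154412)) (tt N17645 F87644) (tt N35469 (iv5 F300555)) (tt N17383 (iv6 D55379)) (tt N48186 (iv7 F300561)))
theorem Q34484 : ∀ i, i < 34484 → P i := stepQ 34483 Q34483 (allL N34483 (tt N17655 (iv1 F87650)) (tt N17654 F87649) (tt N17384 (iv2 D55380)) (tt N17666 F87645) (tt N25662 F87646) (tt N33974 F87647) (tt N21765 F300134) (tt N17656 F87648))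
theorem Q34485 : ∀ i, i < 34485 → P i := stepQ 34484 Q34484 (allL N34484 (tt N17385 (iv1 D55382)) (tt N17387 F87653) (tt N17659 (iv2 F87658)) (tt N23348 (iv3 F87657)) (tt N17660 F87656) (tt N17642 F87655) (tt N63907 D120335) (tt N17660 F87654))
theorem Q34486 : ∀ i, i < 34486 → P i := stepQ 34485 Q34485 (allL N34485 (tt N29007 (iv1 F304012)) (tt N54665 (iv0 F304013)) (tt N17668 F87659) (tt N42990 (iv3 F107860)) (tt N34501 (iv4 F87725)) (tt N24376 F301277) (tt N17385 (iv6 D55383)) (tt N54683 (iv7 F304017)))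
theorem Q34487 : ∀ i, i < 34487 → P i := stepQ 34486 Q34486 (allL N34486 (tt N17666 (iv1 F87692)) (tt N17386 (iv0 D55405)) (tt N17665 (iv2 F87696)) (tt N53551 F300234) (tt N43431 (iv4 F302992)) (tt N35007 (iv5 F94620)) (tt N57690 (iv6 F311689)) (tt N17664 (iv7 F87698)))
theorem Q34488 : ∀ i, i < 34488 → P i := stepQ 34487 Q34487 (allL N34487 (tt N17386 (iv1 D55406)) (tt N17666 F87699) (tt N17664 F87697) (tt N22167 (iv3 F87693)) (tt N21988 (iv4 F87694)) (tt N33716 F310229) (tt N39842 F322848) (tt N17665 F87695))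
theorem Q34489 : ∀ i, i < 34489 → P i := stepQ 34488 Q34488 (allL N34488 (tt N17665 (iv1 F87703)) (tt N17664 F87702) (tt N17386 (iv2 D55407)) (tt N17656 F87700) (tt N21768 F305304) (tt N42967 (iv5 F107821)) (tt N63117 (iv6 F305042)) (tt N17666 F87701))
theorem Q34490 : ∀ i, i < 34490 → P i := stepQ 34489 Q34489 (allL N34489 (tt N63650 (iv1 F310216)) (tt N63908 D120368) (tt N42967 (iv2 F107820)) (tt N17387 F87704) (tt N47690 (iv4 F129500)) (tt N17386 (iv5 D55408)) (tt N63909 D120369) (tt N17667 F87705))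
theorem Q34491 : ∀ i, i < 34491 → P i := stepQ 34490 Q34490 (allL N34490 (tt N44337 F340882) (tt N54684 (iv0 F340884)) (tt N17661 F87707) (tt N63909 (iv3 F191743)) (tt N34497 (iv4 F87722)) (tt N63910 D120376) (tt N17387 (iv6 D55410)) (tt N63911 D120377))
theorem Q34492 : ∀ i, i < 34492 → P i := stepQ 34491 Q34491 (allL N34491 (tt N63912 D120381) (tt N63913 D120382) (tt N17662 F87709) (tt N63136 (iv3 F305044)) (tt N63914 D120383) (tt N17388 (iv5 D55413)) (tt N63910 (iv6 F191750)) (tt N17627 F302701))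
theorem Q34493 : ∀ i, i < 34493 → P i := stepQ 34492 Q34492 (allL N34492 (tt N17394 F121344) (tt N24333 F121148) (tt N17628 (iv2 F299002)) (tt N63915 D120385) (tt N17389 (iv4 D55421)) (tt N63916 D120386) (tt N47884 (iv6 F299271)) (tt N17630 (iv7 F298886)))
theorem Q34494 : ∀ i, i < 34494 → P i := stepQ 34493 Q34493 (allL N34493 (tt N34844 (iv1 F90020)) (tt N17390 (iv0 D55423)) (tt N34843 F115060) (tt N49388 (iv3 F299057)) (tt N63917 D120389) (tt N35046 F106842) (tt N63918 D120390) (tt N34842 (iv7 F115064)))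
theorem Q34495 : ∀ i, i < 34495 → P i := stepQ 34494 Q34494 (allL N34494 (tt N17390 (iv1 D55424)) (tt N34844 F90022) (tt N34842 F115063) (tt N45288 (iv3 F115037)) (tt N46554 (iv4 F125417)) (tt N21417 F311639) (tt N63919 D120391) (tt N34843 F115062))
theorem Q34496 : ∀ i, i < 34496 → P i := stepQ 34495 Q34495 (allL N34495 (tt N34843 (iv1 F90021)) (tt N34842 F90017) (tt N17390 (iv2 D55425)) (tt N28591 (iv3 F298111)) (tt N42692 (iv4 F106865)) (tt N61044 (iv5 F177737)) (tt N28590 F297096) (tt N34844 (iv7 F90019)))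
theorem Q34497 : ∀ i, i < 34497 → P i := stepQ 34496 Q34496 (allL N34496 (tt N63920 D120393) (tt N45280 (iv0 F115007)) (tt N61044 (iv2 F177736)) (tt N17391 F87718) (tt N63921 D120394) (tt N17390 (iv5 D55426)) (tt N63922 D120395) (tt N17782 F87719))
theorem Q34498 : ∀ i, i < 34498 → P i := stepQ 34497 Q34497 (allL N34497 (tt N63923 D120400) (tt N49631 (iv0 F336772)) (tt N17785 F87721) (tt N63922 (iv3 F191803)) (tt N34490 F87722) (tt N48414 F297097) (tt N17391 (iv6 D55428)) (tt N63924 D120403))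
theorem Q34499 : ∀ i, i < 34499 → P i := stepQ 34498 Q34498 (allL N34498 (tt N28591 F300573) (tt N17392 (iv0 D55433)) (tt N34873 F128196) (tt N21792 (iv3 F303367)) (tt N43529 (iv4 F109148)) (tt N35065 (iv5 F90761)) (tt N63925 D120409) (tt N34872 (iv7 F128198)))
theorem Q34500 : ∀ i, i < 34500 → P i := stepQ 34499 Q34499 (allL N34499 (tt N34873 (iv1 F90130)) (tt N34872 F90125) (tt N17392 (iv2 D55435)) (tt N34844 (iv3 F90018)) (tt N45428 (iv4 F115801)) (tt N55765 (iv5 F161595)) (tt N63926 D120412) (tt N28591 F300571))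
theorem Q34501 : ∀ i, i < 34501 → P i := stepQ 34500 Q34500 (allL N34500 (tt N63143 (iv1 F303377)) (tt N49659 (iv0 F354012)) (tt N63926 (iv2 F191829)) (tt N17394 F87723) (tt N28007 F300578) (tt N63927 D120415) (tt N17392 (iv6 D55436)) (tt N27976 F300579))
theorem Q34502 : ∀ i, i < 34502 → P i := stepQ 34501 Q34501 (allL N34501 (tt N59315 (iv1 F356365)) (tt N63928 D120418) (tt N17783 F87724) (tt N61042 (iv3 F177730)) (tt N34485 F87725) (tt N63929 D120419) (tt N17393 (iv6 D55437)) (tt N63930 D120420))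
theorem Q34503 : ∀ i, i < 34503 → P i := stepQ 34502 Q34502 (allL N34502 (tt N46667 (iv1 F125748)) (tt N63931 D120421) (tt N34846 (iv2 F90025)) (tt N63927 (iv3 F191830)) (tt N63932 D120422) (tt N17394 (iv5 D55440)) (tt N63929 (iv6 F191836)) (tt N27978 F300580))
theorem Q34504 : ∀ i, i < 34504 → P i := stepQ 34503 Q34503 (allL N34503 (tt N49389 F301839) (tt N49388 F301840) (tt N49390 (iv2 F302942)) (tt N17395 (iv3 D55444)) (tt N21995 F87731) (tt N21952 F87732) (tt N63933 D120427) (tt N22852 F87733))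
theorem Q34505 : ∀ i, i < 34505 → P i := stepQ 34504 Q34504 (allL N34504 (tt N22150 (iv1 F190085)) (tt N22263 F109642) (tt N22851 F87734) (tt N63933 (iv3 F191860)) (tt N18536 F87735) (tt N63934 D120428) (tt N17395 (iv6 D55445)) (tt N25516 F301841))
theorem Q34506 : ∀ i, i < 34506 → P i := stepQ 34505 Q34505 (allL N34505 (tt N63935 D120429) (tt N49017 (iv0 F304413)) (tt N17398 F87736) (tt N63891 (iv3 F191558)) (tt N17410 F87737) (tt N63936 D120431) (tt N17396 (iv6 D55446)) (tt N63937 D120432))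
theorem Q34507 : ∀ i, i < 34507 → P i := stepQ 34506 Q34506 (allL N34506 (tt N22295 F87741) (tt N35358 (iv0 F92158)) (tt N21796 F87738) (tt N63938 D120433) (tt N17397 (iv4 D55447)) (tt N18511 F87739) (tt N63939 D120434) (tt N22853 F87740))
theorem Q34508 : ∀ i, i < 34508 → P i := stepQ 34507 Q34507 (allL N34507 (tt N63940 D120435) (tt N63941 D120436) (tt N43737 (iv2 F109587)) (tt N17400 F87747) (tt N63939 (iv4 F191881)) (tt N63942 D120437) (tt N17397 (iv6 D55448)) (tt N63943 D120438))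
theorem Q34509 : ∀ i, i < 34509 → P i := stepQ 34508 Q34508 (allL N34508 (tt N63937 (iv1 F191874)) (tt N17398 (iv0 D55449)) (tt N63935 (iv2 F233800)) (tt N49649 (iv3 F304533)) (tt N42689 (iv4 F191875)) (tt N52771 (iv5 F304535)) (tt N63944 D120442) (tt N49017 (iv7 F304416)))
theorem Q34510 : ∀ i, i < 34510 → P i := stepQ 34509 Q34509 (allL N34509 (tt N17398 (iv1 D55450)) (tt N63937 F191873) (tt N49017 (iv2 F304415)) (tt N22014 (iv3 F314765)) (tt N42690 (iv4 F233808)) (tt N52772 (iv5 F304537)) (tt N28692 (iv6 F304411)) (tt N63935 (iv7 F233801)))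
theorem Q34511 : ∀ i, i < 34511 → P i := stepQ 34510 Q34510 (allL N34510 (tt N49029 (iv1 F304538)) (tt N49028 (iv0 F304539)) (tt N63936 (iv2 F191869)) (tt N17403 F87748) (tt N63945 D120450) (tt N17398 (iv5 D55451)) (tt N63942 (iv6 F191883)) (tt N63946 D120451))
theorem Q34512 : ∀ i, i < 34512 → P i := stepQ 34511 Q34511 (allL N34511 (tt N49017 (iv1 F304414)) (tt N63935 (iv0 F191865)) (tt N63937 (iv2 F191870)) (tt N17404 F87749) (tt N17414 F87750) (tt N63946 (iv5 F191891)) (tt N22858 F87751) (tt N17398 (iv7 D55452)))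
theorem Q34513 : ∀ i, i < 34513 → P i := stepQ 34512 Q34512 (allL N34512 (tt N63947 D120452) (tt N63948 D120453) (tt N43449 (iv2 F108913)) (tt N17399 (iv3 D55453)) (tt N63938 (iv4 F191877)) (tt N23394 F87752) (tt N63949 D120454) (tt N34472 F87753))
theorem Q34514 : ∀ i, i < 34514 → P i := stepQ 34513 Q34513 (allL N34513 (tt N63950 D120455) (tt N63951 D120456) (tt N23399 F87754) (tt N63949 (iv3 F191901)) (tt N17400 F87755) (tt N63952 D120457) (tt N17399 (iv6 D55454)) (tt N63953 D120458))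
theorem Q34515 : ∀ i, i < 34515 → P i := stepQ 34514 Q34514 (allL N34514 (tt N63897 (iv1 F191571)) (tt N17400 (iv0 D55455)) (tt N63895 (iv2 F355564)) (tt N21414 F353603) (tt N62917 (iv4 F353604)) (tt N63954 D120462) (tt N63955 D120463) (tt N62997 (iv7 F353608)))
theorem Q34516 : ∀ i, i < 34516 → P i := stepQ 34515 Q34515 (allL N34515 (tt N17400 (iv1 D55456)) (tt N63897 F191570) (tt N62997 (iv2 F353607)) (tt N63956 D120465) (tt N63957 D120466) (tt N63958 D120467) (tt N63959 D120468) (tt N63895 (iv7 F355565)))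
theorem Q34517 : ∀ i, i < 34517 → P i := stepQ 34516 Q34516 (allL N34516 (tt N57726 (iv1 F341496)) (tt N63960 D120470) (tt N63896 (iv2 F191565)) (tt N63942 (iv3 F191882)) (tt N63961 D120471) (tt N17400 (iv5 D55457)) (tt N17403 F87756) (tt N63962 D120472))
theorem Q34518 : ∀ i, i < 34518 → P i := stepQ 34517 Q34517 (allL N34517 (tt N62997 (iv1 F350745)) (tt N63895 F191569) (tt N63897 (iv2 F191567)) (tt N63943 (iv3 F191884)) (tt N63953 (iv4 F191906)) (tt N63962 (iv5 F191914)) (tt N45344 (iv6 F115369)) (tt N17400 (iv7 D55458)))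
theorem Q34519 : ∀ i, i < 34519 → P i := stepQ 34518 Q34518 (allL N34518 (tt N63963 D120473) (tt N63919 (iv0 F338921)) (tt N63964 D120475) (tt N17401 (iv3 D55460)) (tt N52378 (iv4 F149143)) (tt N63965 D120476) (tt N63966 D120477) (tt N63901 (iv7 F191582)))
theorem Q34520 : ∀ i, i < 34520 → P i := stepQ 34519 Q34519 (allL N34519 (tt N25229 F301829) (tt N24351 F301830) (tt N63899 (iv2 F191574)) (tt N63965 (iv3 F191915)) (tt N63967 D120479) (tt N17401 (iv5 D55462)) (tt N63968 D120480) (tt N63902 (iv7 F191584)))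
theorem Q34521 : ∀ i, i < 34521 → P i := stepQ 34520 Q34520 (allL N34520 (tt N47884 F301831) (tt N47881 (iv0 F304029)) (tt N63900 (iv2 F191577)) (tt N63966 (iv3 F191916)) (tt N45516 (iv4 F116230)) (tt N63969 D120482) (tt N17401 (iv6 D55463)) (tt N63970 D120483))
theorem Q34522 : ∀ i, i < 34522 → P i := stepQ 34521 Q34521 (allL N34521 (tt N63925 (iv1 F303682)) (tt N63971 D120485) (tt N63972 D120486) (tt N17402 (iv3 D55465)) (tt N63973 D120487) (tt N63974 D120488) (tt N28594 F300967) (tt N63898 (iv7 F191573)))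
theorem Q34523 : ∀ i, i < 34523 → P i := stepQ 34522 Q34522 (allL N34522 (tt N24351 (iv1 F301567)) (tt N25229 (iv0 F301587)) (tt N63902 (iv2 F191583)) (tt N63974 (iv3 F191929)) (tt N63975 D120490) (tt N17402 (iv5 D55467)) (tt N62423 (iv6 F362808)) (tt N63899 (iv7 F191575)))
theorem Q34524 : ∀ i, i < 34524 → P i := stepQ 34523 Q34523 (allL N34523 (tt N24381 (iv1 F298998)) (tt N17619 F297168) (tt N24378 (iv2 F298982)) (tt N28594 (iv3 F299226)) (tt N27972 F297169) (tt N62424 (iv5 F336660)) (tt N17402 (iv6 D55468)) (tt N24379 (iv7 F298986)))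
theorem Q34525 : ∀ i, i < 34525 → P i := stepQ 34524 Q34524 (allL N34524 (tt N63903 (iv1 F191599)) (tt N17403 (iv0 D55469)) (tt N46682 (iv2 F301605)) (tt N63976 D120495) (tt N63977 D120496) (tt N25468 F300098) (tt N63978 D120497) (tt N35155 (iv7 F91467)))
theorem Q34526 : ∀ i, i < 34526 → P i := stepQ 34525 Q34525 (allL N34525 (tt N17403 (iv1 D55470)) (tt N63903 F191598) (tt N35155 (iv2 F90928)) (tt N47495 (iv3 F304333)) (tt N63979 D120499) (tt N34781 F301582) (tt N63980 D120500) (tt N46682 (iv7 F301606)))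
theorem Q34527 : ∀ i, i < 34527 → P i := stepQ 34526 Q34526 (allL N34526 (tt N48169 (iv1 F304351)) (tt N30989 F337474) (tt N48191 (iv2 F302442)) (tt N63981 D120503) (tt N17403 (iv4 D55471)) (tt N63982 D120504) (tt N63961 (iv6 F191913)) (tt N48190 (iv7 F304543)))
theorem Q34528 : ∀ i, i < 34528 → P i := stepQ 34527 Q34527 (allL N34527 (tt N35155 (iv1 F90930)) (tt N46682 F301842) (tt N63903 (iv2 F191595)) (tt N63946 (iv3 F191890)) (tt N48190 (iv4 F304541)) (tt N17404 F87761) (tt N63983 D120506) (tt N17403 (iv7 D55472)))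
theorem Q34529 : ∀ i, i < 34529 → P i := stepQ 34528 Q34528 (allL N34528 (tt N24259 F297649) (tt N24327 F297650) (tt N23088 (iv2 F299675)) (tt N17408 F87776) (tt N46497 F123879) (tt N47755 F297651) (tt N17405 (iv6 D55484)) (tt N24284 (iv7 F298613)))
theorem Q34530 : ∀ i, i < 34530 → P i := stepQ 34529 Q34529 (allL N34529 (tt N17409 (iv1 F87782)) (tt N17406 (iv0 D55486)) (tt N48186 (iv2 F300558)) (tt N53566 (iv3 F301809)) (tt N23524 F91213) (tt N35470 (iv5 F301828)) (tt N45354 F115396) (tt N17650 F91214))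
theorem Q34531 : ∀ i, i < 34531 → P i := stepQ 34530 Q34530 (allL N34530 (tt N25235 F302821) (tt N25008 F302822) (tt N63904 (iv2 F191610)) (tt N43131 F315263) (tt N63984 D120523) (tt N17406 (iv5 D55489)) (tt N63985 D120524) (tt N63906 (iv7 F191631)))
theorem Q34532 : ∀ i, i < 34532 → P i := stepQ 34531 Q34531 (allL N34531 (tt N46412 F302673) (tt N47859 F302674) (tt N63905 (iv2 F191612)) (tt N43132 F315264) (tt N17408 F87779) (tt N63986 D120526) (tt N17406 (iv6 D55490)) (tt N53520 F302675))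
theorem Q34533 : ∀ i, i < 34533 → P i := stepQ 34532 Q34532 (allL N34532 (tt N23099 F298993) (tt N17623 F298994) (tt N17424 F298995) (tt N63987 D120531) (tt N17407 (iv4 D55494)) (tt N63988 D120532) (tt N63989 D120533) (tt N23098 F298996))
theorem Q34534 : ∀ i, i < 34534 → P i := stepQ 34533 Q34533 (allL N34533 (tt N17631 F301278) (tt N24338 (iv0 F121127)) (tt N17425 F301279) (tt N23083 F301280) (tt N63989 (iv4 F192006)) (tt N24363 F301281) (tt N17407 (iv6 D55495)) (tt N24337 (iv7 F121209)))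
theorem Q34535 : ∀ i, i < 34535 → P i := stepQ 34534 Q34534 (allL N34534 (tt N17638 F87789) (tt N17817 (iv0 F87790)) (tt N17823 F115441) (tt N47755 F297780) (tt N63990 D120534) (tt N17408 (iv5 D55499)) (tt N24363 (iv6 F298746)) (tt N17822 F115442))
theorem Q34536 : ∀ i, i < 34536 → P i := stepQ 34535 Q34535 (allL N34535 (tt N47828 F300694) (tt N17629 F300695) (tt N23115 (iv2 F302029)) (tt N24284 F300696) (tt N53520 (iv4 F301640)) (tt N17822 F115444) (tt N17620 F300697) (tt N17408 (iv7 D55500)))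
theorem Q34537 : ∀ i, i < 34537 → P i := stepQ 34536 Q34536 (allL N34536 (tt N57690 F312654) (tt N57689 (iv0 F315114)) (tt N30547 F312655) (tt N17409 (iv3 D55507)) (tt N23108 F303355) (tt N63991 D120541) (tt N42477 F303356) (tt N57685 F312656))
theorem Q34538 : ∀ i, i < 34538 → P i := stepQ 34537 Q34537 (allL N34537 (tt N25008 F303357) (tt N25235 F303358) (tt N63906 (iv2 F191630)) (tt N63991 (iv3 F192028)) (tt N63992 D120543) (tt N17409 (iv5 D55508)) (tt N63993 D120544) (tt N63904 (iv7 F191611)))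
theorem Q34539 : ∀ i, i < 34539 → P i := stepQ 34538 Q34538 (allL N34538 (tt N17414 F87798) (tt N17410 (iv0 D55515)) (tt N17411 F192064) (tt N45199 (iv3 F233078)) (tt N63994 D120553) (tt N51754 (iv5 F317859)) (tt N21386 F87797) (tt N17412 F192065))
theorem Q34540 : ∀ i, i < 34540 → P i := stepQ 34539 Q34539 (allL N34539 (tt N17410 (iv1 D55516)) (tt N17414 F87799) (tt N17412 F192066) (tt N42166 F130790) (tt N55337 (iv4 F307361)) (tt N42157 (iv5 F130787)) (tt N48428 F306266) (tt N17411 F192067))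
theorem Q34541 : ∀ i, i < 34541 → P i := stepQ 34540 Q34540 (allL N34540 (tt N63995 D120556) (tt N35388 (iv0 F92211)) (tt N17413 F87800) (tt N21256 F87801) (tt N63996 D120557) (tt N17410 (iv5 D55517)) (tt N21254 F87802) (tt N63997 D120558))
theorem Q34542 : ∀ i, i < 34542 → P i := stepQ 34541 Q34541 (allL N34541 (tt N17412 (iv1 F87806)) (tt N17411 F87807) (tt N17414 F87803) (tt N23054 F87804) (tt N63937 (iv4 F191871)) (tt N63997 (iv5 F192115)) (tt N22206 F87805) (tt N17410 (iv7 D55518)))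
theorem Q34543 : ∀ i, i < 34543 → P i := stepQ 34542 Q34542 (allL N34542 (tt N43437 F192088) (tt N22171 F192089) (tt N43436 F192075) (tt N17411 (iv3 D55520)) (tt N63998 D120559) (tt N42167 F192074) (tt N63999 D120560) (tt N42166 F192071))
theorem Q34544 : ∀ i, i < 34544 → P i := stepQ 34543 Q34543 (allL N34543 (tt N64000 D120561) (tt N22211 F192132) (tt N63994 (iv2 F192093)) (tt N64001 D120562) (tt N17411 (iv4 D55521)) (tt N48719 (iv5 F311630)) (tt N64002 D120564) (tt N55337 (iv7 F307362)))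
theorem Q34545 : ∀ i, i < 34545 → P i := stepQ 34544 Q34544 (allL N34544 (tt N22265 F109735) (tt N43833 F109736) (tt N21386 F192061) (tt N63999 (iv3 F192123)) (tt N64002 (iv4 F192134)) (tt N21336 F87809) (tt N17411 (iv6 D55523)) (tt N21382 F192062))
theorem Q34546 : ∀ i, i < 34546 → P i := stepQ 34545 Q34545 (allL N34545 (tt N21562 F232394) (tt N45202 (iv0 F232452)) (tt N45200 (iv2 F233082)) (tt N17412 (iv3 D55525)) (tt N42780 (iv4 F155410)) (tt N52020 (iv5 F310421)) (tt N64003 D120571) (tt N45199 (iv7 F233081)))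
theorem Q34547 : ∀ i, i < 34547 → P i := stepQ 34546 Q34546 (allL N34546 (tt N22211 F192131) (tt N64000 F192127) (tt N55337 (iv2 F307360)) (tt N53703 F191981) (tt N17412 (iv4 D55526)) (tt N48720 (iv5 F307383)) (tt N25759 F305361) (tt N63994 (iv7 F192095)))
theorem Q34548 : ∀ i, i < 34548 → P i := stepQ 34547 Q34547 (allL N34547 (tt N43721 F190711) (tt N22223 F190712) (tt N48428 F306263) (tt N64003 (iv3 F192146)) (tt N25759 F305359) (tt N63732 (iv5 F190704)) (tt N17412 (iv6 D55528)) (tt N48429 (iv7 F307387)))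
theorem Q34549 : ∀ i, i < 34549 → P i := stepQ 34548 Q34548 (allL N34548 (tt N63997 (iv1 F192117)) (tt N17413 (iv0 D55529)) (tt N63995 F192108) (tt N41322 (iv3 F200426)) (tt N29268 (iv4 F315501)) (tt N35389 F190702) (tt N29266 F313064) (tt N35388 (iv7 F190703)))
theorem Q34550 : ∀ i, i < 34550 → P i := stepQ 34549 Q34549 (allL N34549 (tt N17413 (iv1 D55530)) (tt N63997 F192116) (tt N35388 (iv2 F190863)) (tt N64004 D120578) (tt N64005 D120579) (tt N35368 (iv5 F92179)) (tt N64006 D120580) (tt N63995 (iv7 F192109)))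
theorem Q34551 : ∀ i, i < 34551 → P i := stepQ 34550 Q34550 (allL N34550 (tt N64007 D120581) (tt N64008 D120582) (tt N63996 (iv2 F192111)) (tt N64009 D120583) (tt N17413 (iv4 D55531)) (tt N64010 D120584) (tt N22869 F87811) (tt N51866 (iv7 F347836)))
theorem Q34552 : ∀ i, i < 34552 → P i := stepQ 34551 Q34551 (allL N34551 (tt N35388 F92212) (tt N63995 F192110) (tt N63997 (iv2 F192113)) (tt N17422 F87812) (tt N51866 (iv4 F347835)) (tt N17414 F87813) (tt N51864 (iv6 F338157)) (tt N17413 (iv7 D55532)))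
theorem Q34553 : ∀ i, i < 34553 → P i := stepQ 34552 Q34552 (allL N34552 (tt N48076 (iv1 F305871)) (tt N21993 F131155) (tt N45216 (iv2 F232315)) (tt N17949 F303948) (tt N17415 (iv4 D55536)) (tt N17947 (iv5 F306045)) (tt N63061 (iv6 F184851)) (tt N22872 F303949))
theorem Q34554 : ∀ i, i < 34554 → P i := stepQ 34553 Q34553 (allL N34553 (tt N64011 D120599) (tt N63721 (iv0 F305950)) (tt N45217 (iv2 F232318)) (tt N17416 F87822) (tt N64012 D120601) (tt N17415 (iv5 D55537)) (tt N63064 (iv6 F184854)) (tt N23069 F87823))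
theorem Q34555 : ∀ i, i < 34555 → P i := stepQ 34554 Q34554 (allL N34554 (tt N42614 (iv1 F106521)) (tt N44913 (iv0 F113920)) (tt N23068 F87824) (tt N64013 D120602) (tt N17416 (iv4 D55538)) (tt N17952 F87826) (tt N25057 F315766) (tt N23070 F87825))
theorem Q34556 : ∀ i, i < 34556 → P i := stepQ 34555 Q34555 (allL N34555 (tt N22114 F155403) (tt N47081 F155404) (tt N46097 F130879) (tt N24086 (iv3 F91221)) (tt N17417 (iv4 D55542)) (tt N64014 D120603) (tt N45515 (iv6 F302372)) (tt N23065 F87834))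
theorem Q34557 : ∀ i, i < 34557 → P i := stepQ 34556 Q34556 (allL N34556 (tt N42256 F131071) (tt N63709 (iv0 F188833)) (tt N33742 F130880) (tt N17418 F87835) (tt N64015 D120605) (tt N17417 (iv5 D55543)) (tt N33701 F130881) (tt N23066 F87836))
theorem Q34558 : ∀ i, i < 34558 → P i := stepQ 34557 Q34557 (allL N34557 (tt N34197 F130882) (tt N34199 F130883) (tt N43983 F130884) (tt N17419 F87837) (tt N45515 (iv4 F302371)) (tt N43149 F130885) (tt N17417 (iv6 D55544)) (tt N43984 F130886))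
theorem Q34559 : ∀ i, i < 34559 → P i := stepQ 34558 Q34558 (allL N34558 (tt N44913 (iv1 F113921)) (tt N42614 (iv0 F106520)) (tt N23070 F87838) (tt N64016 D120606) (tt N17418 (iv4 D55545)) (tt N17948 F87839) (tt N37962 F321869) (tt N23068 F87840))
theorem Q34560 : ∀ i, i < 34560 → P i := stepQ 34559 Q34559 (allL N34559 (tt N41700 (iv1 F113826)) (tt N33581 (iv0 F87842)) (tt N23071 F87841) (tt N33701 F130894) (tt N37962 (iv4 F320191)) (tt N63730 (iv5 F189027)) (tt N17418 (iv6 D55546)) (tt N33743 (iv7 F130900)))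
theorem Q34561 : ∀ i, i < 34561 → P i := stepQ 34560 Q34560 (allL N34560 (tt N36649 (iv1 F94950)) (tt N21526 F87847) (tt N23073 F87844) (tt N64017 D120613) (tt N17420 (iv4 D55548)) (tt N17944 F87845) (tt N45544 F316431) (tt N23076 F87846))
theorem Q34562 : ∀ i, i < 34562 → P i := stepQ 34561 Q34561 (allL N34561 (tt N40191 (iv1 F320472)) (tt N40189 (iv0 F320473)) (tt N23074 F87848) (tt N48073 (iv3 F306230)) (tt N45544 F316429) (tt N21910 F87849) (tt N17420 (iv6 D55549)) (tt N39958 (iv7 F320476)))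
theorem Q34563 : ∀ i, i < 34563 → P i := stepQ 34562 Q34562 (allL N34562 (tt N17957 (iv1 F87853)) (tt N17421 (iv0 D55550)) (tt N23078 (iv2 F87852)) (tt N41300 (iv3 F318349)) (tt N17974 F87851) (tt N17981 F87850) (tt N64018 D120617) (tt N23079 F87854))
theorem Q34564 : ∀ i, i < 34564 → P i := stepQ 34563 Q34563 (allL N34563 (tt N64019 D120618) (tt N60000 (iv0 F339811)) (tt N64020 D120620) (tt N17421 (iv3 D55551)) (tt N64009 (iv4 F192150)) (tt N25184 F87855) (tt N22886 F87856) (tt N25183 F87857))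
theorem Q34565 : ∀ i, i < 34565 → P i := stepQ 34564 Q34564 (allL N34564 (tt N42418 (iv1 F106159)) (tt N42417 F106158) (tt N23081 F87858) (tt N51864 (iv3 F338155)) (tt N25185 F87859) (tt N22845 F87860) (tt N17422 (iv6 D55552)) (tt N21226 F87861))
theorem Q34566 : ∀ i, i < 34566 → P i := stepQ 34565 Q34565 (allL N34565 (tt N24393 (iv1 F117259)) (tt N24392 F117217) (tt N23097 (iv2 F91475)) (tt N28366 F117218) (tt N17423 (iv4 D55555)) (tt N35152 (iv5 F299262)) (tt N24381 (iv6 F117264)) (tt N17615 (iv7 F117250)))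
theorem Q34567 : ∀ i, i < 34567 → P i := stepQ 34566 Q34566 (allL N34566 (tt N23098 (iv1 F87876)) (tt N17424 (iv0 D55566)) (tt N23099 F91440) (tt N53692 (iv3 F154419)) (tt N44644 (iv4 F112742)) (tt N33270 (iv5 F329236)) (tt N24397 F91441) (tt N17623 F91442))
theorem Q34568 : ∀ i, i < 34568 → P i := stepQ 34567 Q34567 (allL N34567 (tt N63127 (iv1 F232582)) (tt N21784 F232531) (tt N42491 F155398) (tt N17424 (iv3 D55568)) (tt N17426 F87878) (tt N64021 D120630) (tt N64022 D120631) (tt N23100 F87879))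
theorem Q34569 : ∀ i, i < 34569 → P i := stepQ 34568 Q34568 (allL N34568 (tt N48203 (iv1 F131775)) (tt N45550 (iv0 F300524)) (tt N63988 (iv2 F301665)) (tt N64021 (iv3 F192255)) (tt N64023 D120632) (tt N17424 (iv5 D55569)) (tt N64024 D120633) (tt N23101 F87880))
theorem Q34570 : ∀ i, i < 34570 → P i := stepQ 34569 Q34569 (allL N34569 (tt N52808 (iv1 F201463)) (tt N64025 D120635) (tt N63989 (iv2 F301668)) (tt N64022 (iv3 F192257)) (tt N17425 F87881) (tt N38585 F326606) (tt N17424 (iv6 D55570)) (tt N45358 (iv7 F301787)))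
theorem Q34571 : ∀ i, i < 34571 → P i := stepQ 34570 Q34570 (allL N34570 (tt N17425 (iv1 D55576)) (tt N24337 F301457) (tt N24338 F301458) (tt N24476 F301459) (tt N64026 D120643) (tt N34903 F301460) (tt N47828 (iv6 F129861)) (tt N17631 F117416))
theorem Q34572 : ∀ i, i < 34572 → P i := stepQ 34571 Q34571 (allL N34571 (tt N48238 F155295) (tt N48241 F155298) (tt N42492 (iv2 F155391)) (tt N17427 F87897) (tt N33008 F324669) (tt N17426 (iv5 D55581)) (tt N64027 D120645) (tt N23104 F87898))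
theorem Q34573 : ∀ i, i < 34573 → P i := stepQ 34572 Q34572 (allL N34572 (tt N63118 F185697) (tt N63147 F187659) (tt N42493 (iv2 F155350)) (tt N17428 F87899) (tt N64022 (iv4 F192258)) (tt N18469 (iv5 F87900)) (tt N17426 (iv6 D55582)) (tt N46511 (iv7 F123946)))
theorem Q34574 : ∀ i, i < 34574 → P i := stepQ 34573 Q34573 (allL N34573 (tt N48055 (iv1 F130593)) (tt N48058 (iv0 F130598)) (tt N23095 F87901) (tt N30491 (iv3 F316238)) (tt N17427 (iv4 D55583)) (tt N17955 F87903) (tt N34750 (iv6 F315544)) (tt N23106 F87902))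
theorem Q34575 : ∀ i, i < 34575 → P i := stepQ 34574 Q34574 (allL N34574 (tt N33578 F87906) (tt N33576 (iv0 F87907)) (tt N23096 F87904) (tt N64027 (iv3 F192292)) (tt N34750 (iv4 F315543)) (tt N18470 F87905) (tt N17427 (iv6 D55584)) (tt N41669 (iv7 F104702)))
theorem Q34576 : ∀ i, i < 34576 → P i := stepQ 34575 Q34575 (allL N34575 (tt N21840 F130795) (tt N30558 (iv0 F307236)) (tt N42697 F130797) (tt N17433 (iv3 D55595)) (tt N17435 F87937) (tt N64028 D120649) (tt N22778 F305284) (tt N23085 F87938))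
theorem Q34577 : ∀ i, i < 34577 → P i := stepQ 34576 Q34576 (allL N34576 (tt N22818 (iv1 F309069)) (tt N18525 (iv0 F309078)) (tt N22822 (iv2 F309077)) (tt N64028 (iv3 F192305)) (tt N22180 (iv4 F311172)) (tt N17433 (iv5 D55596)) (tt N64029 D120651) (tt N22814 (iv7 F309075)))
theorem Q34578 : ∀ i, i < 34578 → P i := stepQ 34577 Q34577 (allL N34577 (tt N21071 F325659) (tt N24921 (iv0 F116840)) (tt N24954 F116838) (tt N17438 F87945) (tt N64030 D120654) (tt N17434 (iv5 D55603)) (tt N23111 F87946) (tt N24955 (iv7 F116837)))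
theorem Q34579 : ∀ i, i < 34579 → P i := stepQ 34578 Q34578 (allL N34578 (tt N48058 (iv1 F130599)) (tt N48055 (iv0 F130592)) (tt N23106 F87960) (tt N64031 D120655) (tt N17436 (iv4 D55610)) (tt N17954 F87961) (tt N36369 F130839) (tt N23095 F87962))
theorem Q34580 : ∀ i, i < 34580 → P i := stepQ 34579 Q34579 (allL N34579 (tt N64032 D120659) (tt N64033 D120660) (tt N23876 F87970) (tt N21958 F87971) (tt N43255 (iv4 F108422)) (tt N64034 D120661) (tt N17443 (iv6 D55614)) (tt N61758 (iv7 F329181)))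
theorem Q34581 : ∀ i, i < 34581 → P i := stepQ 34580 Q34580 (allL N34580 (tt N32792 F87975) (tt N32813 F87974) (tt N19404 F87972) (tt N34683 (iv3 F88572)) (tt N64035 D120663) (tt N17444 (iv5 D55615)) (tt N64034 (iv6 F192333)) (tt N32811 F87973))
theorem Q34582 : ∀ i, i < 34582 → P i := stepQ 34581 Q34581 (allL N34581 (tt N36429 (iv1 F94578)) (tt N37379 F95897) (tt N19434 F87976) (tt N24393 (iv3 F309771)) (tt N17445 (iv4 D55616)) (tt N64036 D120665) (tt N43315 (iv6 F108482)) (tt N34115 F87977))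
theorem Q34583 : ∀ i, i < 34583 → P i := stepQ 34582 Q34582 (allL N34582 (tt N42587 (iv1 F106455)) (tt N46686 F125812) (tt N17452 F87978) (tt N64037 D120666) (tt N17446 (iv4 D55617)) (tt N44712 F302448) (tt N54298 (iv6 F304865)) (tt N34432 F87979))
theorem Q34584 : ∀ i, i < 34584 → P i := stepQ 34583 Q34583 (allL N34583 (tt N31367 F104139) (tt N60717 (iv0 F176770)) (tt N20997 F87980) (tt N45106 (iv3 F114552)) (tt N17449 F87981) (tt N32829 F87982) (tt N17447 (iv6 D55618)) (tt N60752 (iv7 F176820)))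
theorem Q34585 : ∀ i, i < 34585 → P i := stepQ 34584 Q34584 (allL N34584 (tt N63089 (iv1 F185437)) (tt N36562 F106437) (tt N21681 F87983) (tt N43168 (iv3 F108235)) (tt N17448 (iv4 D55619)) (tt N52855 (iv5 F151719)) (tt N41016 (iv6 F312524)) (tt N41930 (iv7 F105078)))
theorem Q34586 : ∀ i, i < 34586 → P i := stepQ 34585 Q34585 (allL N34585 (tt N64038 D120670) (tt N64039 D120671) (tt N62885 (iv2 F184003)) (tt N63088 (iv3 F185401)) (tt N17450 (iv4 D55621)) (tt N52846 (iv5 F151698)) (tt N64040 D120672) (tt N23356 F87986))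
theorem Q34587 : ∀ i, i < 34587 → P i := stepQ 34586 Q34586 (allL N34586 (tt N62508 (iv1 F313913)) (tt N64041 D120674) (tt N62886 (iv2 F184009)) (tt N17456 F87987) (tt N64040 (iv4 F192373)) (tt N19022 F87988) (tt N17450 (iv6 D55622)) (tt N56152 (iv7 F316406)))
theorem Q34588 : ∀ i, i < 34588 → P i := stepQ 34587 Q34587 (allL N34587 (tt N64039 (iv1 F192367)) (tt N64038 F192363) (tt N23356 F87989) (tt N43170 (iv3 F108238)) (tt N17451 (iv4 D55623)) (tt N52849 (iv5 F151703)) (tt N64042 D120676) (tt N62885 (iv7 F184006)))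
theorem Q34589 : ∀ i, i < 34589 → P i := stepQ 34588 Q34588 (allL N34588 (tt N41284 F322639) (tt N64043 D120678) (tt N23357 F87990) (tt N44556 (iv3 F112533)) (tt N64042 (iv4 F192378)) (tt N58890 (iv5 F326959)) (tt N17451 (iv6 D55624)) (tt N64044 D120679))
theorem Q34590 : ∀ i, i < 34590 → P i := stepQ 34589 Q34589 (allL N34589 (tt N34432 (iv1 F87997)) (tt N17452 (iv0 D55625)) (tt N42587 (iv2 F106451)) (tt N34779 (iv3 F89590)) (tt N42586 (iv4 F106450)) (tt N34778 F89588) (tt N64045 D120680) (tt N46686 (iv7 F125810)))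
theorem Q34591 : ∀ i, i < 34591 → P i := stepQ 34590 Q34590 (allL N34590 (tt N17452 (iv1 D55626)) (tt N34432 F87991) (tt N46686 (iv2 F125808)) (tt N64046 D120681) (tt N37539 (iv4 F96230)) (tt N28709 (iv5 F87992)) (tt N64047 D120682) (tt N42587 (iv7 F106452)))
theorem Q34592 : ∀ i, i < 34592 → P i := stepQ 34591 Q34591 (allL N34591 (tt N64048 D120683) (tt N64049 D120684) (tt N64050 D120685) (tt N17452 (iv3 D55627)) (tt N17457 F87993) (tt N47090 (iv5 F128259)) (tt N62774 (iv6 F310764)) (tt N64051 D120686))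
theorem Q34593 : ∀ i, i < 34593 → P i := stepQ 34592 Q34592 (allL N34592 (tt N46686 (iv1 F125811)) (tt N42587 (iv0 F106454)) (tt N34432 F87994) (tt N64051 (iv3 F192393)) (tt N17453 F87995) (tt N28412 F87996) (tt N25091 (iv6 F87998)) (tt N17452 (iv7 D55628)))
theorem Q34594 : ∀ i, i < 34594 → P i := stepQ 34593 Q34593 (allL N34593 (tt N41534 F322647) (tt N64052 D120688) (tt N44556 (iv2 F112532)) (tt N17455 F87999) (tt N32842 F88000) (tt N37450 (iv5 F96018)) (tt N17454 (iv6 D55629)) (tt N64053 D120689))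
theorem Q34595 : ∀ i, i < 34595 → P i := stepQ 34594 Q34594 (allL N34594 (tt N17455 (iv1 D55631)) (tt N23359 F88001) (tt N23358 F200140) (tt N64041 (iv3 F237526)) (tt N21215 (iv4 F312988)) (tt N42849 F307327) (tt N40187 (iv6 F314005)) (tt N20661 F311568))
theorem Q34596 : ∀ i, i < 34596 → P i := stepQ 34595 Q34595 (allL N34595 (tt N23358 (iv1 F88005)) (tt N20661 F311567) (tt N23359 F88002) (tt N64053 (iv3 F192397)) (tt N18621 (iv4 F313533)) (tt N37454 (iv5 F96022)) (tt N18620 (iv6 F313542)) (tt N17455 (iv7 D55632)))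
theorem Q34597 : ∀ i, i < 34597 → P i := stepQ 34596 Q34596 (allL N34596 (tt N17457 (iv1 D55636)) (tt N46551 F125396) (tt N22394 F307627) (tt N32836 (iv3 F88015)) (tt N64054 D120703) (tt N24278 F88017) (tt N22287 (iv6 F309607)) (tt N32858 F88014))
theorem Q34598 : ∀ i, i < 34598 → P i := stepQ 34597 Q34597 (allL N34597 (tt N32858 (iv1 F88021)) (tt N22394 (iv0 F306556)) (tt N17457 (iv2 D55637)) (tt N23365 F88018) (tt N64050 (iv4 F192392)) (tt N27700 F88019) (tt N21300 (iv6 F306840)) (tt N46551 (iv7 F125394)))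
theorem Q34599 : ∀ i, i < 34599 → P i := stepQ 34598 Q34598 (allL N34598 (tt N22394 (iv1 F306557)) (tt N32858 F88025) (tt N46551 (iv2 F125392)) (tt N17459 F88022) (tt N64051 (iv4 F192394)) (tt N17544 F88023) (tt N64055 D120705) (tt N17457 (iv7 D55638)))
theorem Q34600 : ∀ i, i < 34600 → P i := stepQ 34599 Q34599 (allL N34599 (tt N33823 (iv1 F131639)) (tt N33825 F131638) (tt N23368 F88026) (tt N46553 (iv3 F125400)) (tt N17545 F88027) (tt N62776 (iv5 F310762)) (tt N17458 (iv6 D55639)) (tt N63737 (iv7 F189134)))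
theorem Q34601 : ∀ i, i < 34601 → P i := stepQ 34600 Q34600 (allL N34600 (tt N41327 (iv1 F310814)) (tt N42654 (iv0 F130252)) (tt N23369 F88028) (tt N64055 (iv3 F192421)) (tt N17460 F88029) (tt N42328 (iv5 F310815)) (tt N17459 (iv6 D55640)) (tt N21220 (iv7 F310817)))
theorem Q34602 : ∀ i, i < 34602 → P i := stepQ 34601 Q34601 (allL N34601 (tt N22454 (iv1 F88030)) (tt N17460 (iv0 D55641)) (tt N23370 F185071) (tt N64056 D120706) (tt N41354 (iv4 F313293)) (tt N20296 F311045) (tt N40184 (iv6 F313295)) (tt N23371 F185072))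
theorem Q34603 : ∀ i, i < 34603 → P i := stepQ 34602 Q34602 (allL N34602 (tt N17460 (iv1 D55642)) (tt N22454 F88031) (tt N23371 F185067) (tt N43338 (iv3 F185038)) (tt N40647 F318634) (tt N20295 F311044) (tt N40646 F318635) (tt N23370 F185068))
theorem Q34604 : ∀ i, i < 34604 → P i := stepQ 34603 Q34603 (allL N34603 (tt N33944 (iv1 F303771)) (tt N33945 (iv0 F303772)) (tt N63717 (iv2 F188899)) (tt N17463 F88032) (tt N63695 (iv4 F188742)) (tt N17462 (iv5 D55643)) (tt N37487 (iv6 F304078)) (tt N22525 F301347))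
theorem Q34605 : ∀ i, i < 34605 → P i := stepQ 34604 Q34604 (allL N34604 (tt N17483 (iv1 F88062)) (tt N17465 (iv0 D55660)) (tt N17480 (iv2 F88061)) (tt N64057 D120738) (tt N17547 F88060) (tt N18843 (iv5 F320260)) (tt N17496 (iv6 F301436)) (tt N17481 F88063))
theorem Q34606 : ∀ i, i < 34606 → P i := stepQ 34605 Q34605 (allL N34605 (tt N64058 D120739) (tt N59925 (iv0 F322464)) (tt N64059 D120741) (tt N17465 (iv3 D55661)) (tt N18130 (iv4 F322459)) (tt N18761 (iv5 F320259)) (tt N35884 F320697) (tt N18127 (iv7 F322466)))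
theorem Q34607 : ∀ i, i < 34607 → P i := stepQ 34606 Q34606 (allL N34606 (tt N23926 (iv1 F88102)) (tt N17468 (iv0 D55683)) (tt N23925 (iv2 F88101)) (tt N64060 D120775) (tt N24728 F88100) (tt N46518 (iv5 F124171)) (tt N36605 (iv6 F303509)) (tt N23924 F88103))
theorem Q34608 : ∀ i, i < 34608 → P i := stepQ 34607 Q34607 (allL N34607 (tt N23925 (iv1 F88108)) (tt N23924 F88107) (tt N17468 (iv2 D55684)) (tt N23921 F88104) (tt N27967 F88105) (tt N36453 (iv5 F303512)) (tt N48159 (iv6 F303514)) (tt N23926 F88106))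
theorem Q34609 : ∀ i, i < 34609 → P i := stepQ 34608 Q34608 (allL N34608 (tt N36506 F94714) (tt N36548 F121957) (tt N36547 F94789) (tt N23439 F88128) (tt N17469 (iv4 D55692)) (tt N64061 D120796) (tt N22444 (iv6 F298203)) (tt N23929 F88129))
theorem Q34610 : ∀ i, i < 34610 → P i := stepQ 34609 Q34609 (allL N34609 (tt N46355 (iv1 F122969)) (tt N46358 (iv0 F122988)) (tt N24596 F88149) (tt N17470 (iv3 D55703)) (tt N34964 (iv4 F90547)) (tt N17548 F88150) (tt N64062 D120813) (tt N23534 F88151))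
theorem Q34611 : ∀ i, i < 34611 → P i := stepQ 34610 Q34610 (allL N34610 (tt N18817 (iv1 F305921)) (tt N37950 (iv0 F305922)) (tt N17560 F88152) (tt N64062 (iv3 F192712)) (tt N17471 F88153) (tt N64063 D120816) (tt N17470 (iv6 D55704)) (tt N37486 (iv7 F305929)))
theorem Q34612 : ∀ i, i < 34612 → P i := stepQ 34611 Q34611 (allL N34611 (tt N24163 F297855) (tt N24166 F297856) (tt N47724 (iv2 F129571)) (tt N17474 F88168) (tt N64064 D120872) (tt N17472 (iv5 D55732)) (tt N17580 F297857) (tt N23684 F297858))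
theorem Q34613 : ∀ i, i < 34613 → P i := stepQ 34612 Q34612 (allL N34612 (tt N29807 (iv1 F305004)) (tt N48461 (iv0 F306001)) (tt N48464 F307804) (tt N17473 (iv3 D55737)) (tt N40602 F323439) (tt N64065 D120878) (tt N34760 (iv6 F303042)) (tt N23687 F302646))
theorem Q34614 : ∀ i, i < 34614 → P i := stepQ 34613 Q34613 (allL N34613 (tt N21552 F302903) (tt N21554 F302904) (tt N36634 F305217) (tt N64065 (iv3 F192786)) (tt N36633 (iv4 F305245)) (tt N17473 (iv5 D55738)) (tt N21005 (iv6 F305246)) (tt N23690 F302905))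
theorem Q34615 : ∀ i, i < 34615 → P i := stepQ 34614 Q34614 (allL N34614 (tt N23426 F302667) (tt N23422 (iv0 F304009)) (tt N23694 F302668) (tt N42112 (iv3 F320728)) (tt N17475 (iv4 D55757)) (tt N38091 F313457) (tt N32028 F318604) (tt N24008 F302670))
theorem Q34616 : ∀ i, i < 34616 → P i := stepQ 34615 Q34615 (allL N34615 (tt N47112 (iv1 F344884)) (tt N45912 F344877) (tt N64066 D120924) (tt N17476 (iv3 D55773)) (tt N17497 F88203) (tt N37863 F316541) (tt N17482 F88204) (tt N44941 (iv7 F302570)))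
theorem Q34617 : ∀ i, i < 34617 → P i := stepQ 34616 Q34616 (allL N34616 (tt N64067 D120939) (tt N64068 D120940) (tt N64069 D120941) (tt N17477 (iv3 D55780)) (tt N48291 (iv4 F132090)) (tt N37869 F324074) (tt N17500 (iv6 F297047)) (tt N23952 F88219))
theorem Q34618 : ∀ i, i < 34618 → P i := stepQ 34617 Q34617 (allL N34617 (tt N64070 D120957) (tt N37206 F334288) (tt N64071 D120959) (tt N17478 (iv3 D55788)) (tt N47625 (iv4 F129315)) (tt N37870 (iv5 F322727)) (tt N64072 D120961) (tt N23726 F299314))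
theorem Q34619 : ∀ i, i < 34619 → P i := stepQ 34618 Q34618 (allL N34618 (tt N23748 (iv1 F299560)) (tt N23747 (iv0 F299681)) (tt N23750 F299317) (tt N64072 (iv3 F192912)) (tt N17479 F88245) (tt N24858 (iv5 F320329)) (tt N17478 (iv6 D55790)) (tt N17505 F299318))
theorem Q34620 : ∀ i, i < 34620 → P i := stepQ 34619 Q34619 (allL N34619 (tt N64073 D120970) (tt N64074 D120971) (tt N39822 (iv2 F322469)) (tt N17480 (iv3 D55794)) (tt N64075 D120973) (tt N36165 (iv5 F322422)) (tt N23705 (iv6 F301441)) (tt N46352 (iv7 F122931)))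
theorem Q34621 : ∀ i, i < 34621 → P i := stepQ 34620 Q34620 (allL N34620 (tt N64076 D120977) (tt N64077 D120978) (tt N64078 D120979) (tt N17481 (iv3 D55796)) (tt N34776 (iv4 F89582)) (tt N37990 (iv5 F322722)) (tt N35317 (iv6 F302627)) (tt N64057 (iv7 F192513)))
theorem Q34622 : ∀ i, i < 34622 → P i := stepQ 34621 Q34621 (allL N34621 (tt N48351 (iv1 F132211)) (tt N17482 (iv0 D55798)) (tt N48353 (iv2 F256566)) (tt N64079 D120984) (tt N64080 D120985) (tt N37987 F326013) (tt N64081 D120987) (tt N48352 (iv7 F256569)))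
theorem Q34623 : ∀ i, i < 34623 → P i := stepQ 34622 Q34622 (allL N34622 (tt N17482 (iv1 D55799)) (tt N48351 F132210) (tt N48352 (iv2 F256568)) (tt N64082 D120989) (tt N64083 D120990) (tt N37988 F326015) (tt N64084 D120992) (tt N48353 (iv7 F256567)))
theorem Q34624 : ∀ i, i < 34624 → P i := stepQ 34623 Q34623 (allL N34623 (tt N48353 (iv1 F132215)) (tt N48352 F132214) (tt N17482 (iv2 D55800)) (tt N64059 (iv3 F192514)) (tt N17510 F88261) (tt N37860 (iv5 F322720)) (tt N64066 (iv6 F192837)) (tt N48351 (iv7 F132209)))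
theorem Q34625 : ∀ i, i < 34625 → P i := stepQ 34624 Q34624 (allL N34624 (tt N23674 (iv1 F88300)) (tt N17485 (iv0 D55825)) (tt N23680 (iv2 F119060)) (tt N45423 (iv3 F298137)) (tt N64085 D121025) (tt N24209 F297860) (tt N24163 (iv6 F119061)) (tt N23679 (iv7 F119063)))
theorem Q34626 : ∀ i, i < 34626 → P i := stepQ 34625 Q34625 (allL N34625 (tt N17485 (iv1 D55826)) (tt N23674 F88301) (tt N23679 F119064) (tt N40508 F325828) (tt N64086 D121027) (tt N24210 F297926) (tt N23741 F119720) (tt N23680 F119062))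
theorem Q34627 : ∀ i, i < 34627 → P i := stepQ 34626 Q34626 (allL N34626 (tt N44931 (iv1 F299825)) (tt N46583 (iv0 F299558)) (tt N48433 (iv2 F132681)) (tt N64087 D121030) (tt N17485 (iv4 D55827)) (tt N64088 D121031) (tt N35313 F297646) (tt N23681 F88302))
theorem Q34628 : ∀ i, i < 34628 → P i := stepQ 34627 Q34627 (allL N34627 (tt N17861 F88309) (tt N17860 F88310) (tt N23664 F88306) (tt N58783 F319902) (tt N17486 (iv4 D55829)) (tt N45766 (iv5 F119614)) (tt N24168 F88307) (tt N23665 F88308))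
theorem Q34629 : ∀ i, i < 34629 → P i := stepQ 34628 Q34628 (allL N34628 (tt N17860 F88314) (tt N17861 F88315) (tt N23665 F88311) (tt N64089 D121034) (tt N17487 (iv4 D55830)) (tt N45765 (iv5 F119608)) (tt N23753 F88312) (tt N23664 F88313))
theorem Q34630 : ∀ i, i < 34630 → P i := stepQ 34629 Q34629 (allL N34629 (tt N64090 D121035) (tt N64091 D121036) (tt N64092 D121037) (tt N17488 (iv3 D55831)) (tt N64087 (iv4 F192996)) (tt N47811 (iv5 F129783)) (tt N46512 (iv6 F123947)) (tt N23691 F88316))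
theorem Q34631 : ∀ i, i < 34631 → P i := stepQ 34630 Q34630 (allL N34630 (tt N24584 F117846) (tt N24582 F118726) (tt N23644 F119363) (tt N38099 F313342) (tt N17489 (iv4 D55839)) (tt N38098 F313343) (tt N23975 F121269) (tt N23446 (iv7 F121289)))
theorem Q34632 : ∀ i, i < 34632 → P i := stepQ 34631 Q34631 (allL N34631 (tt N23653 (iv1 F88329)) (tt N23652 F88330) (tt N17492 F88326) (tt N23674 F88327) (tt N58441 (iv4 F326130)) (tt N17490 (iv5 D55843)) (tt N45461 F121267) (tt N23647 F88328))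
theorem Q34633 : ∀ i, i < 34633 → P i := stepQ 34632 Q34632 (allL N34632 (tt N44839 F300820) (tt N44835 F300821) (tt N47049 (iv2 F128117)) (tt N42718 (iv3 F106968)) (tt N64093 D121044) (tt N17491 (iv5 D55847)) (tt N64094 D121045) (tt N23650 F88335))
theorem Q34634 : ∀ i, i < 34634 → P i := stepQ 34633 Q34633 (allL N34633 (tt N23647 (iv1 F88337)) (tt N17492 (iv0 D55849)) (tt N23653 F121387) (tt N45504 (iv3 F298988)) (tt N64095 D121049) (tt N25974 F298093) (tt N49309 F298094) (tt N23652 F121389))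
theorem Q34635 : ∀ i, i < 34635 → P i := stepQ 34634 Q34634 (allL N34634 (tt N17492 (iv1 D55850)) (tt N23647 F88338) (tt N23652 F121370) (tt N24163 F297851) (tt N64096 D121051) (tt N24151 (iv5 F121372)) (tt N45423 F121368) (tt N23653 F121371))
theorem Q34636 : ∀ i, i < 34636 → P i := stepQ 34635 Q34635 (allL N34635 (tt N44841 F300440) (tt N44836 F300441) (tt N58441 (iv2 F326129)) (tt N64097 D121054) (tt N17492 (iv4 D55851)) (tt N64098 D121055) (tt N31862 F325208) (tt N23654 F88339))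
theorem Q34637 : ∀ i, i < 34637 → P i := stepQ 34636 Q34636 (allL N34636 (tt N64099 D121062) (tt N64100 D121063) (tt N64101 D121064) (tt N17493 (iv3 D55856)) (tt N64097 (iv4 F193051)) (tt N44065 F313860) (tt N48326 (iv6 F132145)) (tt N23668 F88344))
theorem Q34638 : ∀ i, i < 34638 → P i := stepQ 34637 Q34637 (allL N34637 (tt N45388 F297535) (tt N34953 (iv0 F121021)) (tt N48434 (iv2 F132686)) (tt N47789 (iv3 F129749)) (tt N17494 (iv4 D55863)) (tt N64102 D121068) (tt N34738 (iv6 F88937)) (tt N23700 F88363))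
theorem Q34639 : ∀ i, i < 34639 → P i := stepQ 34638 Q34638 (allL N34638 (tt N48374 (iv1 F336478)) (tt N44952 (iv0 F336479)) (tt N48372 F338769) (tt N17495 (iv3 D55869)) (tt N64103 D121075) (tt N30492 F316305) (tt N35322 (iv6 F92045)) (tt N23705 F88372))
theorem Q34640 : ∀ i, i < 34640 → P i := stepQ 34639 Q34639 (allL N34639 (tt N45606 F323620) (tt N45704 (iv0 F119453)) (tt N23704 F88373) (tt N30492 (iv3 F313848)) (tt N25498 F309206) (tt N17495 (iv5 D55870)) (tt N17955 F313739) (tt N23706 F88374))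
theorem Q34641 : ∀ i, i < 34641 → P i := stepQ 34640 Q34640 (allL N34640 (tt N35536 F341251) (tt N64104 D121079) (tt N64105 D121080) (tt N17496 (iv3 D55871)) (tt N46738 F304242) (tt N64106 D121082) (tt N64057 F304243) (tt N23703 F88375))
theorem Q34642 : ∀ i, i < 34642 → P i := stepQ 34641 Q34641 (allL N34641 (tt N45704 (iv1 F119454)) (tt N45606 F323619) (tt N23706 F88376) (tt N64106 (iv3 F193113)) (tt N36205 F318511) (tt N17496 (iv5 D55872)) (tt N36148 F318512) (tt N23704 F88377))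
theorem Q34643 : ∀ i, i < 34643 → P i := stepQ 34642 Q34642 (allL N34642 (tt N64107 D121086) (tt N17497 (iv0 D55874)) (tt N64108 D121087) (tt N64109 D121088) (tt N64110 D121089) (tt N64111 D121090) (tt N64112 D121091) (tt N64081 (iv7 F333776)))
theorem Q34644 : ∀ i, i < 34644 → P i := stepQ 34643 Q34643 (allL N34643 (tt N17497 (iv1 D55875)) (tt N64107 F193123) (tt N64081 (iv2 F333775)) (tt N64113 D121093) (tt N64114 D121094) (tt N64115 D121095) (tt N48353 (iv6 F333779)) (tt N64108 F193124))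
theorem Q34645 : ∀ i, i < 34645 → P i := stepQ 34644 Q34644 (allL N34644 (tt N64108 (iv1 F346933)) (tt N64081 (iv0 F361874)) (tt N17497 (iv2 D55876)) (tt N23709 F88380) (tt N64066 (iv4 F192836)) (tt N58765 (iv5 F323131)) (tt N17510 F88381) (tt N64107 (iv7 F193122)))
theorem Q34646 : ∀ i, i < 34646 → P i := stepQ 34645 Q34645 (allL N34645 (tt N64081 (iv1 F361875)) (tt N64108 (iv0 F346932)) (tt N64107 F193120) (tt N17499 F88383) (tt N44941 F304261) (tt N58814 (iv5 F323134)) (tt N48358 (iv6 F132224)) (tt N17497 (iv7 D55878)))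
theorem Q34647 : ∀ i, i < 34647 → P i := stepQ 34646 Q34646 (allL N34646 (tt N23715 (iv1 F88387)) (tt N17498 (iv0 D55879)) (tt N23711 (iv2 F88385)) (tt N64116 D121105) (tt N34389 F307219) (tt N17860 F88384) (tt N42880 (iv6 F309185)) (tt N23712 (iv7 F88386)))
theorem Q34648 : ∀ i, i < 34648 → P i := stepQ 34647 Q34647 (allL N34647 (tt N23712 (iv1 F88400)) (tt N23711 F88401) (tt N23715 F88397) (tt N58814 (iv3 F323133)) (tt N22491 F88398) (tt N17499 F88399) (tt N64117 D121114) (tt N17498 (iv7 D55883)))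
theorem Q34649 : ∀ i, i < 34649 → P i := stepQ 34648 Q34648 (allL N34648 (tt N23745 (iv1 F88402)) (tt N17500 (iv0 D55884)) (tt N23744 F254213) (tt N64118 D121116) (tt N64119 D121117) (tt N23492 F254069) (tt N42152 (iv6 F334013)) (tt N23743 (iv7 F254220)))
theorem Q34650 : ∀ i, i < 34650 → P i := stepQ 34649 Q34649 (allL N34649 (tt N17500 (iv1 D55885)) (tt N23745 F88407) (tt N23743 (iv2 F254219)) (tt N32233 F327744) (tt N64120 D121122) (tt N23493 F254065) (tt N32231 (iv6 F328216)) (tt N23744 F254214))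
theorem Q34651 : ∀ i, i < 34651 → P i := stepQ 34650 Q34650 (allL N34650 (tt N23744 (iv1 F88408)) (tt N23743 F88406) (tt N17500 (iv2 D55886)) (tt N23725 F88403) (tt N50669 (iv4 F140956)) (tt N23725 F88404) (tt N64069 (iv6 F298427)) (tt N23745 F88405))
theorem Q34652 : ∀ i, i < 34652 → P i := stepQ 34651 Q34651 (allL N34651 (tt N23720 F88431) (tt N23719 F88432) (tt N17502 F88429) (tt N64121 D121135) (tt N17501 (iv4 D55895)) (tt N45802 (iv5 F119680)) (tt N64122 D121136) (tt N23716 F88430))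
theorem Q34653 : ∀ i, i < 34653 → P i := stepQ 34652 Q34652 (allL N34652 (tt N45453 F115929) (tt N49309 (iv0 F296612)) (tt N17503 F88433) (tt N23732 F88434) (tt N64122 (iv4 F193186)) (tt N34652 F88435) (tt N17501 (iv6 D55896)) (tt N26656 F296126))
theorem Q34654 : ∀ i, i < 34654 → P i := stepQ 34653 Q34653 (allL N34653 (tt N64123 D121140) (tt N52286 (iv0 F344651)) (tt N64124 D121142) (tt N17502 (iv3 D55898)) (tt N17504 F88440) (tt N64125 D121143) (tt N64126 D121144) (tt N23721 F88441))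
theorem Q34655 : ∀ i, i < 34655 → P i := stepQ 34654 Q34654 (allL N34654 (tt N46321 (iv1 F122806)) (tt N46324 (iv0 F122816)) (tt N45802 (iv2 F119678)) (tt N64125 (iv3 F193204)) (tt N45789 (iv4 F119642)) (tt N17502 (iv5 D55899)) (tt N64127 D121145) (tt N23722 F88442))
theorem Q34656 : ∀ i, i < 34656 → P i := stepQ 34655 Q34655 (allL N34655 (tt N45979 (iv1 F298016)) (tt N45977 (iv0 F298017)) (tt N64122 (iv2 F193185)) (tt N64126 (iv3 F193206)) (tt N17503 F88443) (tt N64128 D121148) (tt N17502 (iv6 D55900)) (tt N47626 (iv7 F297238)))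
theorem Q34657 : ∀ i, i < 34657 → P i := stepQ 34656 Q34656 (allL N34656 (tt N26656 F296280) (tt N17503 (iv0 D55901)) (tt N45453 (iv2 F115928)) (tt N58736 (iv3 F326637)) (tt N64129 D121151) (tt N58734 (iv5 F358811)) (tt N45425 F115789) (tt N49309 (iv7 F296614)))
theorem Q34658 : ∀ i, i < 34658 → P i := stepQ 34657 Q34657 (allL N34657 (tt N17503 (iv1 D55902)) (tt N26656 F296279) (tt N49309 (iv2 F296613)) (tt N23740 (iv3 F296835)) (tt N64130 D121154) (tt N64131 D121155) (tt N23653 F121373) (tt N45453 F115930))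
theorem Q34659 : ∀ i, i < 34659 → P i := stepQ 34658 Q34658 (allL N34658 (tt N23725 (iv1 F88447)) (tt N17504 (iv0 D55904)) (tt N23724 F257932) (tt N64132 D121157) (tt N64133 D121158) (tt N23764 (iv5 F250810)) (tt N64134 D121160) (tt N23723 (iv7 F257937)))
theorem Q34660 : ∀ i, i < 34660 → P i := stepQ 34659 Q34659 (allL N34659 (tt N17504 (iv1 D55905)) (tt N23725 F88452) (tt N23723 (iv2 F257936)) (tt N60552 (iv3 F327434)) (tt N55173 (iv4 F340619)) (tt N23765 (iv5 F250813)) (tt N47914 F340633) (tt N23724 F257933))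
theorem Q34661 : ∀ i, i < 34661 → P i := stepQ 34660 Q34660 (allL N34660 (tt N23724 (iv1 F88453)) (tt N23723 F88451) (tt N17504 (iv2 D55906)) (tt N23745 F88448) (tt N64124 (iv4 F193199)) (tt N23745 F88449) (tt N64135 D121166) (tt N23725 F88450))
theorem Q34662 : ∀ i, i < 34662 → P i := stepQ 34661 Q34661 (allL N34661 (tt N64136 D121167) (tt N38080 (iv0 F334254)) (tt N64135 (iv2 F193229)) (tt N17505 F88454) (tt N64126 (iv4 F193207)) (tt N45558 (iv5 F322747)) (tt N17504 (iv6 D55907)) (tt N64072 (iv7 F302191)))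
theorem Q34663 : ∀ i, i < 34663 → P i := stepQ 34662 Q34662 (allL N34662 (tt N31957 (iv1 F325228)) (tt N31949 F323065) (tt N23752 F88467) (tt N23640 (iv3 F301533)) (tt N45586 (iv4 F322690)) (tt N17506 (iv5 D55913)) (tt N17573 F88468) (tt N23640 F88469))
theorem Q34664 : ∀ i, i < 34664 → P i := stepQ 34663 Q34663 (allL N34663 (tt N17515 F114173) (tt N23824 F114174) (tt N23753 F88473) (tt N64137 D121179) (tt N17507 (iv4 D55915)) (tt N34767 (iv5 F320257)) (tt N23665 F88474) (tt N23751 F88475))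
theorem Q34665 : ∀ i, i < 34665 → P i := stepQ 34664 Q34664 (allL N34664 (tt N35537 (iv1 F254353)) (tt N64138 D121188) (tt N47108 (iv2 F330699)) (tt N17508 (iv3 D55917)) (tt N48331 F132152) (tt N45896 (iv5 F254373)) (tt N46913 (iv6 F330703)) (tt N45894 (iv7 F254393)))
theorem Q34666 : ∀ i, i < 34666 → P i := stepQ 34665 Q34665 (allL N34665 (tt N64139 D121193) (tt N64140 D121194) (tt N45911 (iv2 F254389)) (tt N64141 D121195) (tt N17508 (iv4 D55918)) (tt N64142 D121196) (tt N64143 D121197) (tt N45900 (iv7 F254395)))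
theorem Q34667 : ∀ i, i < 34667 → P i := stepQ 34666 Q34666 (allL N34666 (tt N64066 (iv1 F330760)) (tt N44941 (iv0 F330761)) (tt N45912 (iv2 F254391)) (tt N46913 F330712) (tt N64143 (iv4 F193280)) (tt N46912 F330713) (tt N17508 (iv6 D55920)) (tt N47112 (iv7 F330716)))
theorem Q34668 : ∀ i, i < 34668 → P i := stepQ 34667 Q34667 (allL N34667 (tt N48362 (iv1 F254290)) (tt N44947 F254267) (tt N48361 (iv2 F254355)) (tt N17509 (iv3 D55922)) (tt N64144 D121212) (tt N45889 (iv5 F254383)) (tt N64145 D121214) (tt N45908 (iv7 F254388)))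
theorem Q34669 : ∀ i, i < 34669 → P i := stepQ 34668 Q34668 (allL N34668 (tt N64140 (iv1 F193279)) (tt N64139 F193283) (tt N45900 (iv2 F254394)) (tt N64146 D121215) (tt N17509 (iv4 D55923)) (tt N64147 D121216) (tt N64148 D121217) (tt N45911 (iv7 F254390)))
theorem Q34670 : ∀ i, i < 34670 → P i := stepQ 34669 Q34669 (allL N34669 (tt N35515 F330727) (tt N48275 F330728) (tt N45901 (iv2 F254396)) (tt N64145 (iv3 F193293)) (tt N64148 (iv4 F193295)) (tt N63559 (iv5 F327556)) (tt N17509 (iv6 D55925)) (tt N48274 (iv7 F329147)))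
theorem Q34671 : ∀ i, i < 34671 → P i := stepQ 34670 Q34670 (allL N34670 (tt N23801 F88522) (tt N23800 F88523) (tt N17512 F88520) (tt N64149 D121263) (tt N17511 (iv4 D55942)) (tt N45947 (iv5 F119944)) (tt N64150 D121264) (tt N23799 F88521))
theorem Q34672 : ∀ i, i < 34672 → P i := stepQ 34671 Q34671 (allL N34671 (tt N23827 F297995) (tt N44656 F297996) (tt N17513 F88524) (tt N23812 F88525) (tt N64150 (iv4 F193358)) (tt N34671 F88526) (tt N17511 (iv6 D55943)) (tt N25310 F297997))
theorem Q34673 : ∀ i, i < 34673 → P i := stepQ 34672 Q34672 (allL N34672 (tt N23799 (iv1 F88529)) (tt N17512 (iv0 D55944)) (tt N23801 (iv2 F88528)) (tt N64151 D121267) (tt N23411 F88527) (tt N45377 (iv5 F115554)) (tt N58471 (iv6 F325565)) (tt N23800 F88530))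
theorem Q34674 : ∀ i, i < 34674 → P i := stepQ 34673 Q34673 (allL N34673 (tt N57874 (iv1 F341844)) (tt N64152 D121270) (tt N64153 D121271) (tt N17512 (iv3 D55945)) (tt N17514 F88531) (tt N64154 D121272) (tt N64155 D121273) (tt N23802 F88532))
theorem Q34675 : ∀ i, i < 34675 → P i := stepQ 34674 Q34674 (allL N34674 (tt N35232 (iv1 F91660)) (tt N35235 (iv0 F91663)) (tt N45947 (iv2 F119942)) (tt N64154 (iv3 F193381)) (tt N45938 (iv4 F119923)) (tt N17512 (iv5 D55946)) (tt N64156 D121274) (tt N23803 F88533))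
theorem Q34676 : ∀ i, i < 34676 → P i := stepQ 34675 Q34675 (allL N34675 (tt N64157 D121275) (tt N64158 D121276) (tt N64150 (iv2 F193357)) (tt N64155 (iv3 F193383)) (tt N17513 F88534) (tt N64159 D121277) (tt N17512 (iv6 D55947)) (tt N44655 F299592))
theorem Q34677 : ∀ i, i < 34677 → P i := stepQ 34676 Q34676 (allL N34676 (tt N25310 (iv1 F296946)) (tt N17513 (iv0 D55948)) (tt N23827 (iv2 F297537)) (tt N44627 F296429) (tt N64160 D121280) (tt N64161 D121281) (tt N45339 F115347) (tt N44656 (iv7 F297401)))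
theorem Q34678 : ∀ i, i < 34678 → P i := stepQ 34677 Q34677 (allL N34677 (tt N17513 (iv1 D55949)) (tt N25310 F298657) (tt N44656 F298658) (tt N17516 F298659) (tt N64162 D121283) (tt N64163 D121284) (tt N23114 (iv6 F301324)) (tt N23827 F298660))
theorem Q34679 : ∀ i, i < 34679 → P i := stepQ 34678 Q34678 (allL N34678 (tt N23806 (iv1 F88544)) (tt N23805 F88542) (tt N17514 (iv2 D55953)) (tt N23822 F88539) (tt N64153 (iv4 F193377)) (tt N23822 F88540) (tt N64164 D121295) (tt N23807 F88541))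
theorem Q34680 : ∀ i, i < 34680 → P i := stepQ 34679 Q34679 (allL N34679 (tt N43318 (iv1 F322703)) (tt N64165 D121297) (tt N64164 (iv2 F193406)) (tt N17515 F88545) (tt N64155 (iv4 F193384)) (tt N25127 (iv5 F322714)) (tt N17514 (iv6 D55954)) (tt N64166 D121299))
theorem Q34681 : ∀ i, i < 34681 → P i := stepQ 34680 Q34680 (allL N34680 (tt N23753 (iv1 F115716)) (tt N23751 (iv0 F115713)) (tt N23824 F88549) (tt N64166 (iv3 F193410)) (tt N17518 F88550) (tt N23565 (iv5 F320255)) (tt N23617 F299680) (tt N17515 (iv7 D55958)))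
theorem Q34682 : ∀ i, i < 34682 → P i := stepQ 34681 Q34681 (allL N34681 (tt N25284 (iv1 F88563)) (tt N25283 F88564) (tt N23826 F88560) (tt N64163 (iv3 F301320)) (tt N45561 (iv4 F322029)) (tt N17516 (iv5 D55961)) (tt N17885 F88561) (tt N17992 F88562))
theorem Q34683 : ∀ i, i < 34683 → P i := stepQ 34682 Q34682 (allL N34682 (tt N25299 F117091) (tt N44623 F296319) (tt N44627 F120025) (tt N17517 (iv3 D55962)) (tt N45838 (iv4 F297414)) (tt N25281 F88565) (tt N24955 (iv6 F116836)) (tt N23825 F88567))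
theorem Q34684 : ∀ i, i < 34684 → P i := stepQ 34683 Q34683 (allL N34683 (tt N34066 F88573) (tt N29969 F88574) (tt N23224 F88571) (tt N34580 F88572) (tt N64167 D121306) (tt N17519 (iv5 D55964)) (tt N43037 (iv6 F107993)) (tt N44493 (iv7 F112311)))
theorem Q34685 : ∀ i, i < 34685 → P i := stepQ 34684 Q34684 (allL N34684 (tt N21930 F88578) (tt N21917 F88579) (tt N17521 F88575) (tt N64168 D121307) (tt N17520 (iv4 D55965)) (tt N22432 F88576) (tt N64169 D121308) (tt N23225 F88577))
theorem Q34686 : ∀ i, i < 34686 → P i := stepQ 34685 Q34685 (allL N34685 (tt N64170 D121309) (tt N64171 D121310) (tt N17522 F88580) (tt N32886 F88581) (tt N64169 (iv4 F193436)) (tt N29592 F88582) (tt N17520 (iv6 D55966)) (tt N64172 D121311))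
theorem Q34687 : ∀ i, i < 34687 → P i := stepQ 34686 Q34686 (allL N34686 (tt N64173 D121312) (tt N64174 D121313) (tt N64169 (iv2 F193435)) (tt N26400 F88583) (tt N17522 F88584) (tt N64175 D121314) (tt N17521 (iv6 D55967)) (tt N64176 D121315))
theorem Q34688 : ∀ i, i < 34688 → P i := stepQ 34687 Q34687 (allL N34687 (tt N64172 (iv1 F193444)) (tt N17522 (iv0 D55968)) (tt N64170 (iv2 F354921)) (tt N64177 D121317) (tt N64178 D121318) (tt N64179 D121319) (tt N64180 D121320) (tt N64171 (iv7 F354917)))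
theorem Q34689 : ∀ i, i < 34689 → P i := stepQ 34688 Q34688 (allL N34688 (tt N17522 (iv1 D55969)) (tt N64172 F193443) (tt N64171 (iv2 F354916)) (tt N32901 (iv3 F322982)) (tt N64181 D121323) (tt N61241 F321363) (tt N64182 D121325) (tt N64170 (iv7 F354923)))
theorem Q34690 : ∀ i, i < 34690 → P i := stepQ 34689 Q34689 (allL N34689 (tt N64171 (iv1 F193437)) (tt N64170 F193442) (tt N64172 (iv2 F193438)) (tt N17526 F88585) (tt N64176 (iv4 F193447)) (tt N61500 (iv5 F178943)) (tt N23233 F88586) (tt N17522 (iv7 D55970)))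
theorem Q34691 : ∀ i, i < 34691 → P i := stepQ 34690 Q34690 (allL N34690 (tt N61500 F335469) (tt N29592 F335470) (tt N41779 (iv2 F321025)) (tt N17523 (iv3 D55972)) (tt N33644 F318958) (tt N64183 D121330) (tt N33643 (iv6 F321026)) (tt N32897 (iv7 F153461)))
theorem Q34692 : ∀ i, i < 34692 → P i := stepQ 34691 Q34691 (allL N34691 (tt N64184 D121332) (tt N64185 D121333) (tt N32895 (iv2 F153463)) (tt N64183 (iv3 F193459)) (tt N64186 D121334) (tt N17523 (iv5 D55974)) (tt N64187 D121335) (tt N32898 (iv7 F153462)))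
theorem Q34693 : ∀ i, i < 34693 → P i := stepQ 34692 Q34692 (allL N34692 (tt N32954 (iv1 F178573)) (tt N61529 F178992) (tt N32896 (iv2 F153455)) (tt N33643 F322799) (tt N41645 F322800) (tt N32773 F88588) (tt N17523 (iv6 D55975)) (tt N41770 (iv7 F324272)))
theorem Q34694 : ∀ i, i < 34694 → P i := stepQ 34693 Q34693 (allL N34693 (tt N32835 (iv1 F337865)) (tt N32857 (iv0 F337866)) (tt N32856 F325410) (tt N17524 (iv3 D55977)) (tt N63759 (iv4 F324994)) (tt N64188 D121340) (tt N62724 (iv6 F331595)) (tt N32855 F325411))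
theorem Q34695 : ∀ i, i < 34695 → P i := stepQ 34694 Q34694 (allL N34694 (tt N64185 (iv1 F193530)) (tt N64184 F193464) (tt N32898 (iv2 F153466)) (tt N64188 (iv3 F193547)) (tt N64189 D121342) (tt N17524 (iv5 D55979)) (tt N64190 D121343) (tt N32895 F153465))
theorem Q34696 : ∀ i, i < 34696 → P i := stepQ 34695 Q34695 (allL N34695 (tt N32934 (iv1 F161883)) (tt N29601 F161879) (tt N32899 F153467) (tt N62724 (iv3 F331594)) (tt N45036 (iv4 F136676)) (tt N64191 D121344) (tt N17524 (iv6 D55980)) (tt N32933 (iv7 F161888)))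
theorem Q34697 : ∀ i, i < 34697 → P i := stepQ 34696 Q34696 (allL N34696 (tt N32903 (iv1 F88593)) (tt N17525 (iv0 D55981)) (tt N32900 (iv2 F161744)) (tt N64170 (iv3 F354922)) (tt N46051 (iv4 F177935)) (tt N61245 (iv5 F178431)) (tt N64192 D121346) (tt N32901 F161743))
theorem Q34698 : ∀ i, i < 34698 → P i := stepQ 34697 Q34697 (allL N34697 (tt N17525 (iv1 D55982)) (tt N32903 F88590) (tt N32901 F161741) (tt N64193 D121347) (tt N46052 (iv4 F136678)) (tt N55787 (iv5 F161740)) (tt N64194 D121348) (tt N32900 (iv7 F161742)))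
theorem Q34699 : ∀ i, i < 34699 → P i := stepQ 34698 Q34698 (allL N34698 (tt N32901 (iv1 F88594)) (tt N32900 F88595) (tt N32903 F88591) (tt N61500 (iv3 F178942)) (tt N52406 (iv4 F149563)) (tt N17526 F88592) (tt N64195 D121349) (tt N17525 (iv7 D55983)))
theorem Q34700 : ∀ i, i < 34700 → P i := stepQ 34699 Q34699 (allL N34699 (tt N64196 D121350) (tt N64197 D121351) (tt N42658 (iv2 F106722)) (tt N21956 F88596) (tt N46067 (iv4 F120172)) (tt N64198 D121352) (tt N17527 (iv6 D55984)) (tt N54571 (iv7 F311510)))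
theorem Q34701 : ∀ i, i < 34701 → P i := stepQ 34700 Q34700 (allL N34700 (tt N61504 (iv1 F339737)) (tt N64199 D121355) (tt N56285 (iv2 F163336)) (tt N33922 F88597) (tt N46068 (iv4 F120173)) (tt N32720 F88598) (tt N17528 (iv6 D55985)) (tt N64200 D121356))
theorem Q34702 : ∀ i, i < 34702 → P i := stepQ 34701 Q34701 (allL N34701 (tt N64201 D121357) (tt N64202 D121358) (tt N27113 F88599) (tt N29589 F88600) (tt N27393 F88601) (tt N23257 F88602) (tt N17529 (iv6 D55986)) (tt N64195 (iv7 F193568)))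
theorem Q34703 : ∀ i, i < 34703 → P i := stepQ 34702 Q34702 (allL N34702 (tt N64203 D121359) (tt N64204 D121360) (tt N23310 F88603) (tt N34082 F88604) (tt N43043 (iv4 F107997)) (tt N64205 D121361) (tt N17532 (iv6 D55987)) (tt N64206 D121362))
theorem Q34704 : ∀ i, i < 34704 → P i := stepQ 34703 Q34703 (allL N34703 (tt N29759 F88607) (tt N37510 (iv0 F96172)) (tt N23313 F88605) (tt N32135 F88606) (tt N64207 D121363) (tt N17533 (iv5 D55988)) (tt N64205 (iv6 F193585)) (tt N44490 (iv7 F112300)))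
theorem Q34705 : ∀ i, i < 34705 → P i := stepQ 34704 Q34704 (allL N34704 (tt N23142 F88613) (tt N23140 F88614) (tt N23839 F88610) (tt N34076 F88611) (tt N41612 F307976) (tt N17535 (iv5 D55990)) (tt N47531 (iv6 F323370)) (tt N23305 F88612))
theorem Q34706 : ∀ i, i < 34706 → P i := stepQ 34705 Q34705 (allL N34705 (tt N64208 D121367) (tt N64209 D121368) (tt N23292 F88615) (tt N32674 F88616) (tt N34967 (iv4 F90553)) (tt N64210 D121369) (tt N17536 (iv6 D55991)) (tt N64211 D121370))
theorem Q34707 : ∀ i, i < 34707 → P i := stepQ 34706 Q34706 (allL N34706 (tt N29723 F88618) (tt N29713 F88619) (tt N23293 F88617) (tt N50902 F142975) (tt N64212 D121371) (tt N17537 (iv5 D55992)) (tt N64210 (iv6 F193601)) (tt N64213 D121372))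
theorem Q34708 : ∀ i, i < 34708 → P i := stepQ 34707 Q34707 (allL N34707 (tt N20933 (iv1 F88623)) (tt N20930 F88624) (tt N23294 F88620) (tt N45178 (iv3 F114686)) (tt N17540 F88621) (tt N64213 (iv5 F193612)) (tt N23314 F88622) (tt N17537 (iv7 D55993)))
theorem Q34709 : ∀ i, i < 34709 → P i := stepQ 34708 Q34708 (allL N34708 (tt N29725 F88626) (tt N29715 F88627) (tt N23303 F88625) (tt N64214 D121373) (tt N17539 (iv4 D55994)) (tt N64215 D121374) (tt N43087 (iv6 F108052)) (tt N41775 (iv7 F104888)))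
theorem Q34710 : ∀ i, i < 34710 → P i := stepQ 34709 Q34709 (allL N34709 (tt N21540 F88631) (tt N21543 F88632) (tt N23307 F88628) (tt N27937 F88629) (tt N17541 (iv4 D55995)) (tt N34068 F301205) (tt N64216 D121375) (tt N29760 F88630))
theorem Q34711 : ∀ i, i < 34711 → P i := stepQ 34710 Q34710 (allL N34710 (tt N34441 (iv1 F232771)) (tt N44550 (iv0 F307960)) (tt N23308 F88633) (tt N33837 F88634) (tt N64216 (iv4 F193619)) (tt N43016 (iv5 F107946)) (tt N17541 (iv6 D55996)) (tt N44548 (iv7 F307965)))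
theorem Q34712 : ∀ i, i < 34712 → P i := stepQ 34711 Q34711 (allL N34711 (tt N22455 (iv1 F88661)) (tt N17548 (iv0 D56010)) (tt N23533 F116276) (tt N52792 (iv3 F151356)) (tt N28716 F88660) (tt N52811 (iv5 F151494)) (tt N64217 D121390) (tt N23532 F116277))
theorem Q34713 : ∀ i, i < 34713 → P i := stepQ 34712 Q34712 (allL N34712 (tt N17548 (iv1 D56011)) (tt N22455 F88662) (tt N23532 F116273) (tt N43730 (iv3 F109566)) (tt N28715 (iv4 F88663)) (tt N53896 (iv5 F154908)) (tt N42552 (iv6 F303101)) (tt N23533 F116274))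
theorem Q34714 : ∀ i, i < 34714 → P i := stepQ 34713 Q34713 (allL N34713 (tt N17549 (iv1 D56014)) (tt N17563 F88668) (tt N17561 F117014) (tt N63441 (iv3 F302265)) (tt N24208 F299421) (tt N64218 D121400) (tt N23580 F299422) (tt N17559 F299423))
theorem Q34715 : ∀ i, i < 34715 → P i := stepQ 34714 Q34714 (allL N34714 (tt N41606 (iv1 F320080)) (tt N44410 (iv0 F320072)) (tt N17562 F88669) (tt N22518 (iv3 F303105)) (tt N20390 (iv4 F320073)) (tt N17549 (iv5 D56015)) (tt N64063 (iv6 F192715)) (tt N48516 (iv7 F302267)))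
theorem Q34716 : ∀ i, i < 34716 → P i := stepQ 34715 Q34715 (allL N34715 (tt N44888 (iv1 F316424)) (tt N64219 D121431) (tt N23551 F88714) (tt N46996 F311743) (tt N41226 F320551) (tt N17555 (iv5 D56051)) (tt N53062 (iv6 F152247)) (tt N47170 (iv7 F302738)))
theorem Q34717 : ∀ i, i < 34717 → P i := stepQ 34716 Q34716 (allL N34716 (tt N17556 (iv1 D56063)) (tt N23569 F88729) (tt N23567 (iv2 F88731)) (tt N52790 (iv3 F151346)) (tt N42759 F305987) (tt N24593 (iv5 F88732)) (tt N63439 (iv6 F343974)) (tt N23568 F88730))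
theorem Q34718 : ∀ i, i < 34718 → P i := stepQ 34717 Q34717 (allL N34717 (tt N37560 (iv1 F311202)) (tt N64220 D121440) (tt N63476 (iv2 F187593)) (tt N17558 F88733) (tt N48132 F297719) (tt N35913 F325937) (tt N17556 (iv6 D56064)) (tt N48515 (iv7 F133127)))
theorem Q34719 : ∀ i, i < 34719 → P i := stepQ 34718 Q34718 (allL N34718 (tt N64018 (iv1 F316416)) (tt N64221 D121450) (tt N23574 F88745) (tt N63440 (iv3 F187455)) (tt N40189 F320833) (tt N17559 (iv5 D56072)) (tt N63436 (iv6 F187435)) (tt N64218 (iv7 F302273)))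
theorem Q34720 : ∀ i, i < 34720 → P i := stepQ 34719 Q34719 (allL N34719 (tt N17560 (iv1 D56075)) (tt N37486 (iv0 F305926)) (tt N37950 (iv2 F306864)) (tt N25096 (iv3 F311074)) (tt N19063 (iv4 F306869)) (tt N64222 D121461) (tt N35522 F318948) (tt N18817 (iv7 F306863)))
theorem Q34721 : ∀ i, i < 34721 → P i := stepQ 34720 Q34720 (allL N34720 (tt N64223 D121463) (tt N64224 D121464) (tt N64063 (iv2 F192714)) (tt N63697 (iv3 F188749)) (tt N40636 (iv4 F320071)) (tt N17560 (iv5 D56076)) (tt N17562 F88752) (tt N64225 D121466))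
theorem Q34722 : ∀ i, i < 34722 → P i := stepQ 34721 Q34721 (allL N34721 (tt N37950 (iv1 F305923)) (tt N18817 (iv0 F305920)) (tt N37486 (iv2 F305927)) (tt N24847 (iv3 F311086)) (tt N19455 F304923) (tt N64225 (iv5 F193822)) (tt N23587 F88753) (tt N17560 (iv7 D56077)))
theorem Q34723 : ∀ i, i < 34723 → P i := stepQ 34722 Q34722 (allL N34722 (tt N52966 (iv1 F303156)) (tt N64226 D121480) (tt N64227 D121481) (tt N17561 (iv3 D56084)) (tt N61421 (iv4 F312735)) (tt N64228 D121483) (tt N48515 F300373) (tt N23572 F300374))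
theorem Q34724 : ∀ i, i < 34724 → P i := stepQ 34723 Q34723 (allL N34723 (tt N64221 (iv1 F302270)) (tt N64018 (iv0 F316415)) (tt N64218 (iv2 F193665)) (tt N64228 (iv3 F193844)) (tt N40191 F320834) (tt N17561 (iv5 D56086)) (tt N46200 (iv6 F322474)) (tt N23574 F300375))
theorem Q34725 : ∀ i, i < 34725 → P i := stepQ 34724 Q34724 (allL N34724 (tt N48516 F302748) (tt N17562 (iv0 D56088)) (tt N41606 F321807) (tt N64229 D121488) (tt N33580 (iv4 F323507)) (tt N46408 F128450) (tt N33496 (iv6 F323510)) (tt N44410 F321808))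
theorem Q34726 : ∀ i, i < 34726 → P i := stepQ 34725 Q34725 (allL N34725 (tt N17562 (iv1 D56089)) (tt N48516 F302749) (tt N44410 F321809) (tt N64230 D121491) (tt N20271 (iv4 F323511)) (tt N46361 (iv5 F123007)) (tt N64231 D121493) (tt N41606 F321810))
theorem Q34727 : ∀ i, i < 34727 → P i := stepQ 34726 Q34726 (allL N34726 (tt N44410 F321811) (tt N41606 F321812) (tt N48516 (iv2 F302266)) (tt N41031 (iv3 F323513)) (tt N36377 (iv4 F323506)) (tt N17563 F88757) (tt N64232 D121499) (tt N17562 (iv7 D56091)))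
theorem Q34728 : ∀ i, i < 34728 → P i := stepQ 34727 Q34727 (allL N34727 (tt N45880 (iv1 F298973)) (tt N58737 (iv0 F358814)) (tt N63881 (iv2 F191520)) (tt N17566 F88784) (tt N48263 (iv4 F299223)) (tt N17564 (iv5 D56124)) (tt N31917 (iv6 F325055)) (tt N23547 F297167))
theorem Q34729 : ∀ i, i < 34729 → P i := stepQ 34728 Q34728 (allL N34728 (tt N64219 (iv1 F304468)) (tt N44888 (iv0 F316423)) (tt N47170 (iv2 F128429)) (tt N47447 (iv3 F304584)) (tt N41228 F320550) (tt N17565 (iv5 D56127)) (tt N41840 F318685) (tt N23551 F301951))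
theorem Q34730 : ∀ i, i < 34730 → P i := stepQ 34729 Q34729 (allL N34729 (tt N58733 (iv1 F326645)) (tt N58736 (iv0 F326634)) (tt N49306 (iv2 F135923)) (tt N17569 F88804) (tt N48310 (iv4 F132126)) (tt N34729 F88805) (tt N17568 (iv6 D56149)) (tt N23616 F297398))
theorem Q34731 : ∀ i, i < 34731 → P i := stepQ 34730 Q34730 (allL N34730 (tt N24003 (iv1 F121291)) (tt N17579 (iv0 F121292)) (tt N23976 (iv2 F120808)) (tt N58473 (iv3 F326105)) (tt N64233 D121650) (tt N17571 (iv5 D56183)) (tt N45462 F120788) (tt N23442 F120789))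
theorem Q34732 : ∀ i, i < 34732 → P i := stepQ 34731 Q34731 (allL N34731 (tt N23978 (iv1 F88880)) (tt N17572 (iv0 D56197)) (tt N23983 (iv2 F120905)) (tt N58737 (iv3 F358817)) (tt N24887 (iv4 F299348)) (tt N24179 (iv5 F121403)) (tt N58734 (iv6 F358812)) (tt N23982 (iv7 F120907)))
theorem Q34733 : ∀ i, i < 34733 → P i := stepQ 34732 Q34732 (allL N34732 (tt N17572 (iv1 D56198)) (tt N23978 F88881) (tt N23982 F120908) (tt N45500 F297241) (tt N24888 (iv4 F299349)) (tt N24180 (iv5 F121405)) (tt N23637 F121378) (tt N23983 F120906))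
theorem Q34734 : ∀ i, i < 34734 → P i := stepQ 34733 Q34733 (allL N34733 (tt N46777 (iv1 F299341)) (tt N28864 (iv0 F326740)) (tt N27962 (iv2 F298254)) (tt N27568 (iv3 F327381)) (tt N17572 (iv4 D56199)) (tt N27564 F326735) (tt N23947 F297240) (tt N23984 F88882))
theorem Q34735 : ∀ i, i < 34735 → P i := stepQ 34734 Q34734 (allL N34734 (tt N17890 F88898) (tt N17887 F88899) (tt N23969 F88896) (tt N64234 D121678) (tt N17573 (iv4 D56205)) (tt N41682 F318785) (tt N45586 F324180) (tt N23970 F88897))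
theorem Q34736 : ∀ i, i < 34736 → P i := stepQ 34735 Q34735 (allL N34735 (tt N17887 F88906) (tt N17890 F88907) (tt N23970 F88903) (tt N64235 D121679) (tt N17574 (iv4 D56207)) (tt N41681 F318788) (tt N17996 F88904) (tt N23969 F88905))
theorem Q34737 : ∀ i, i < 34737 → P i := stepQ 34736 Q34736 (allL N34736 (tt N29445 (iv1 F328290)) (tt N49636 (iv0 F328291)) (tt N55458 (iv2 F328292)) (tt N17575 (iv3 D56208)) (tt N27568 F327914) (tt N47937 (iv5 F130079)) (tt N23949 F302213) (tt N23994 F88908))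
theorem Q34738 : ∀ i, i < 34738 → P i := stepQ 34737 Q34737 (allL N34737 (tt N44906 (iv1 F301075)) (tt N47697 (iv0 F300136)) (tt N47699 (iv2 F300067)) (tt N42606 (iv3 F106497)) (tt N64236 D121687) (tt N17576 (iv5 D56226)) (tt N21887 (iv6 F312232)) (tt N23961 F88933))
theorem Q34739 : ∀ i, i < 34739 → P i := stepQ 34738 Q34738 (allL N34738 (tt N35512 (iv1 F297521)) (tt N46535 (iv0 F297519)) (tt N48258 (iv2 F297530)) (tt N64237 D121695) (tt N17577 (iv4 D56230)) (tt N64238 D121696) (tt N34637 F88937) (tt N23964 F88938))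
theorem Q34740 : ∀ i, i < 34740 → P i := stepQ 34739 Q34739 (allL N34739 (tt N64239 D121698) (tt N64240 D121699) (tt N64241 D121700) (tt N17578 (iv3 D56234)) (tt N64237 (iv4 F194212)) (tt N42151 (iv5 F337740)) (tt N24982 F88942) (tt N23973 F88943))
theorem Q34741 : ∀ i, i < 34741 → P i := stepQ 34740 Q34740 (allL N34740 (tt N23976 F121317) (tt N23442 F121318) (tt N17579 (iv2 D56237)) (tt N23997 F88945) (tt N47605 (iv4 F298011)) (tt N46466 (iv5 F123745)) (tt N29069 (iv6 F297232)) (tt N24003 F88946))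
theorem Q34742 : ∀ i, i < 34742 → P i := stepQ 34741 Q34741 (allL N34741 (tt N35505 F297617) (tt N46534 F297618) (tt N48251 F297619) (tt N47918 (iv3 F130054)) (tt N17580 (iv4 D56243)) (tt N64242 D121709) (tt N64064 (iv6 F299808)) (tt N23998 F88959))
theorem Q34743 : ∀ i, i < 34743 → P i := stepQ 34742 Q34742 (allL N34742 (tt N64243 D121711) (tt N48384 F331716) (tt N64244 D121713) (tt N17581 (iv3 D56245)) (tt N58102 (iv4 F353062)) (tt N62493 (iv5 F319972)) (tt N58883 (iv6 F322482)) (tt N24011 F88963))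
theorem Q34744 : ∀ i, i < 34744 → P i := stepQ 34743 Q34743 (allL N34743 (tt N50703 (iv1 F336469)) (tt N64245 D121720) (tt N64246 D121721) (tt N17582 (iv3 D56248)) (tt N64247 D121722) (tt N64248 D121723) (tt N64249 D121724) (tt N24009 F88968))
theorem Q34745 : ∀ i, i < 34745 → P i := stepQ 34744 Q34744 (allL N34744 (tt N46200 (iv1 F122479)) (tt N46202 (iv0 F122481)) (tt N24012 F88969) (tt N64248 (iv3 F194285)) (tt N21133 F317770) (tt N17582 (iv5 D56249)) (tt N64250 D121725) (tt N21132 (iv7 F317873)))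
theorem Q34746 : ∀ i, i < 34746 → P i := stepQ 34745 Q34745 (allL N34745 (tt N24168 (iv1 F88975)) (tt N24169 (iv0 F88974)) (tt N24013 F88971) (tt N64249 (iv3 F194287)) (tt N17893 F88972) (tt N37444 F313143) (tt N17582 (iv6 D56250)) (tt N24980 (iv7 F88973)))
theorem Q34747 : ∀ i, i < 34747 → P i := stepQ 34746 Q34746 (allL N34746 (tt N17583 (iv1 D56252)) (tt N32063 F326507) (tt N32082 (iv2 F327258)) (tt N54950 (iv3 F327259)) (tt N31873 (iv4 F327260)) (tt N64251 D121736) (tt N58882 (iv6 F327261)) (tt N32009 (iv7 F327257)))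
theorem Q34748 : ∀ i, i < 34748 → P i := stepQ 34747 Q34747 (allL N34747 (tt N32009 F326501) (tt N32082 F326502) (tt N17583 (iv2 D56253)) (tt N24016 F88976) (tt N32004 (iv4 F326669)) (tt N64252 D121740) (tt N17588 F88977) (tt N32063 F326503))
theorem Q34749 : ∀ i, i < 34749 → P i := stepQ 34748 Q34748 (allL N34748 (tt N64253 D121741) (tt N64254 D121742) (tt N64252 (iv2 F194302)) (tt N17584 F88978) (tt N64255 D121743) (tt N17583 (iv5 D56254)) (tt N48357 (iv6 F132222)) (tt N32083 F326508))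
theorem Q34750 : ∀ i, i < 34750 → P i := stepQ 34749 Q34749 (allL N34749 (tt N24021 (iv1 F88983)) (tt N17584 (iv0 D56256)) (tt N24019 (iv2 F88981)) (tt N43935 (iv3 F315592)) (tt N43938 F313204) (tt N17887 F88980) (tt N37076 F319975) (tt N24020 (iv7 F88982)))
theorem Q34751 : ∀ i, i < 34751 → P i := stepQ 34750 Q34750 (allL N34750 (tt N17584 (iv1 D56257)) (tt N24021 F88984) (tt N24020 (iv2 F88987)) (tt N57405 (iv3 F335976)) (tt N34574 F315543) (tt N17890 F88986) (tt N34573 F315544) (tt N24019 F88985))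
theorem Q34752 : ∀ i, i < 34752 → P i := stepQ 34751 Q34751 (allL N34751 (tt N24020 (iv1 F88994)) (tt N24019 F88995) (tt N24021 F88991) (tt N32083 (iv3 F325705)) (tt N21217 F314935) (tt N17585 F88993) (tt N64256 D121750) (tt N17584 (iv7 D56259)))
theorem Q34753 : ∀ i, i < 34753 → P i := stepQ 34752 Q34752 (allL N34752 (tt N50704 (iv1 F280682)) (tt N64257 D121758) (tt N64258 D121759) (tt N17586 (iv3 D56261)) (tt N55592 F160840) (tt N24056 (iv5 F194346)) (tt N53114 (iv6 F357789)) (tt N58815 (iv7 F325694)))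
theorem Q34754 : ∀ i, i < 34754 → P i := stepQ 34753 Q34753 (allL N34753 (tt N63556 (iv1 F337592)) (tt N64137 (iv0 F337586)) (tt N58817 (iv2 F325703)) (tt N53114 (iv3 F357788)) (tt N60368 (iv4 F327238)) (tt N37560 F330860) (tt N17586 (iv6 D56264)) (tt N64259 D121777))
theorem Q34755 : ∀ i, i < 34755 → P i := stepQ 34754 Q34754 (allL N34754 (tt N64260 D121779) (tt N48363 (iv0 F254307)) (tt N64261 D121781) (tt N17587 (iv3 D56266)) (tt N58466 (iv4 F363502)) (tt N24059 F194341) (tt N64262 D121783) (tt N58816 (iv7 F325701)))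
theorem Q34756 : ∀ i, i < 34756 → P i := stepQ 34755 Q34755 (allL N34755 (tt N23917 (iv1 F327262)) (tt N31991 (iv0 F327232)) (tt N32015 F326498) (tt N64262 (iv3 F194363)) (tt N31821 (iv4 F327231)) (tt N64263 D121789) (tt N17587 (iv6 D56269)) (tt N32016 (iv7 F327237)))
theorem Q34757 : ∀ i, i < 34757 → P i := stepQ 34756 Q34756 (allL N34756 (tt N64264 D121796) (tt N64265 D121797) (tt N64266 D121798) (tt N17590 (iv3 D56275)) (tt N27637 F89011) (tt N37132 (iv5 F321983)) (tt N23973 (iv6 F299594)) (tt N23946 F89012))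
theorem Q34758 : ∀ i, i < 34758 → P i := stepQ 34757 Q34757 (allL N34757 (tt N17978 (iv1 F298452)) (tt N25463 F121486) (tt N24945 (iv2 F299195)) (tt N64267 D121939) (tt N17593 (iv4 D56383)) (tt N24315 (iv5 F299885)) (tt N24916 F297930) (tt N24195 F89221))
theorem Q34759 : ∀ i, i < 34759 → P i := stepQ 34758 Q34758 (allL N34758 (tt N46241 F122613) (tt N17594 (iv0 D56384)) (tt N24167 F119039) (tt N27995 F119040) (tt N64268 D121941) (tt N23962 F119037) (tt N24155 (iv6 F119038)) (tt N45499 F119041))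
theorem Q34760 : ∀ i, i < 34760 → P i := stepQ 34759 Q34759 (allL N34759 (tt N17594 (iv1 D56385)) (tt N46241 (iv0 F122612)) (tt N45499 (iv2 F119048)) (tt N45516 (iv3 F299052)) (tt N52379 (iv4 F299603)) (tt N23963 (iv5 F119049)) (tt N25588 F297447) (tt N24167 F119047))
theorem Q34761 : ∀ i, i < 34761 → P i := stepQ 34760 Q34760 (allL N34760 (tt N64269 D121944) (tt N25495 F191306) (tt N64270 D121945) (tt N17595 (iv3 D56386)) (tt N64267 (iv4 F194657)) (tt N21876 F89222) (tt N34612 F303042) (tt N21731 F89223))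
theorem Q34762 : ∀ i, i < 34762 → P i := stepQ 34761 Q34761 (allL N34761 (tt N28015 F298487) (tt N17597 (iv0 D56402)) (tt N27995 F298488) (tt N45505 (iv3 F298991)) (tt N64271 D121958) (tt N23636 F121394) (tt N25974 F298489) (tt N24148 F121396))
theorem Q34763 : ∀ i, i < 34763 → P i := stepQ 34762 Q34762 (allL N34762 (tt N17597 (iv1 D56403)) (tt N28015 (iv0 F298352)) (tt N24148 F121383) (tt N45499 (iv3 F296907)) (tt N64272 D121959) (tt N23637 F121385) (tt N24136 F121386) (tt N27995 (iv7 F298275)))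
theorem Q34764 : ∀ i, i < 34764 → P i := stepQ 34763 Q34763 (allL N34763 (tt N24148 (iv1 F121369)) (tt N27995 (iv0 F298273)) (tt N28015 (iv2 F298353)) (tt N17599 F89253) (tt N46850 (iv4 F299366)) (tt N26004 F297258) (tt N24181 F89254) (tt N17597 (iv7 D56404)))
theorem Q34765 : ∀ i, i < 34765 → P i := stepQ 34764 Q34764 (allL N34764 (tt N17600 (iv1 D56429)) (tt N24108 F89298) (tt N24106 (iv2 F89300)) (tt N47089 (iv3 F128252)) (tt N19098 F305984) (tt N24446 (iv5 F89301)) (tt N24116 F304006) (tt N24107 F89299))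
theorem Q34766 : ∀ i, i < 34766 → P i := stepQ 34765 Q34765 (allL N34765 (tt N47198 F155518) (tt N64273 D121989) (tt N47961 (iv2 F130185)) (tt N17601 F89302) (tt N48410 (iv4 F132400)) (tt N45607 (iv5 F300211)) (tt N17600 (iv6 D56430)) (tt N64274 D121991))
theorem Q34767 : ∀ i, i < 34767 → P i := stepQ 34766 Q34766 (allL N34766 (tt N24104 (iv1 F117079)) (tt N24103 (iv0 F117080)) (tt N24120 F89305) (tt N64274 (iv3 F194823)) (tt N24477 F89306) (tt N45536 (iv5 F302380)) (tt N24114 F89307) (tt N17601 (iv7 D56434)))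
theorem Q34768 : ∀ i, i < 34768 → P i := stepQ 34767 Q34767 (allL N34767 (tt N24086 (iv1 F116616)) (tt N24084 (iv0 F116613)) (tt N24114 F89313) (tt N47950 (iv3 F130123)) (tt N23027 (iv4 F116619)) (tt N34663 F320257) (tt N24120 F89315) (tt N17602 (iv7 D56438)))
theorem Q34769 : ∀ i, i < 34769 → P i := stepQ 34768 Q34768 (allL N34768 (tt N58737 (iv1 F358815)) (tt N45880 (iv0 F123094)) (tt N23547 F89545) (tt N34838 (iv3 F90005)) (tt N48262 (iv4 F132040)) (tt N17604 (iv5 D56622)) (tt N17605 F89546) (tt N63881 (iv7 F298978)))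
theorem Q34770 : ∀ i, i < 34770 → P i := stepQ 34769 Q34769 (allL N34769 (tt N17741 (iv1 F298742)) (tt N17606 (iv0 D56624)) (tt N17764 (iv2 F298739)) (tt N64275 D122298) (tt N23546 F126116) (tt N64276 D122299) (tt N17755 (iv6 F299220)) (tt N17685 (iv7 F298741)))
theorem Q34771 : ∀ i, i < 34771 → P i := stepQ 34770 Q34770 (allL N34770 (tt N64277 D122303) (tt N64278 D122304) (tt N24362 F89553) (tt N25827 F89554) (tt N19709 F327639) (tt N17606 (iv5 D56626)) (tt N48671 F295053) (tt N19706 F327640))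
theorem Q34772 : ∀ i, i < 34772 → P i := stepQ 34771 Q34771 (allL N34771 (tt N17738 F298965) (tt N17737 F298966) (tt N17740 F298967) (tt N64279 D122307) (tt N17607 (iv4 D56630)) (tt N64280 D122308) (tt N17719 (iv6 F299935)) (tt N17678 F298968))
theorem Q34773 : ∀ i, i < 34773 → P i := stepQ 34772 Q34772 (allL N34772 (tt N17744 (iv1 F300422)) (tt N17743 F299425) (tt N17746 F299426) (tt N24238 (iv3 F126010)) (tt N39907 F341388) (tt N17607 (iv5 D56631)) (tt N35903 F325544) (tt N17679 F299428))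
theorem Q34774 : ∀ i, i < 34774 → P i := stepQ 34773 Q34773 (allL N34773 (tt N17742 (iv1 F298748)) (tt N17608 (iv0 D56638)) (tt N17990 F117293) (tt N24239 F117294) (tt N64281 D122312) (tt N24337 (iv5 F299695)) (tt N64161 (iv6 F297670)) (tt N24363 (iv7 F117268)))
theorem Q34775 : ∀ i, i < 34775 → P i := stepQ 34774 Q34774 (allL N34774 (tt N64282 D122314) (tt N64283 D122315) (tt N24364 F89566) (tt N64284 D122316) (tt N17608 (iv4 D56640)) (tt N33219 F341270) (tt N17609 F89567) (tt N25042 (iv7 F299736)))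
theorem Q34776 : ∀ i, i < 34776 → P i := stepQ 34775 Q34775 (allL N34775 (tt N22911 (iv1 F89575)) (tt N17609 (iv0 D56642)) (tt N24369 (iv2 F89576)) (tt N64285 D122319) (tt N24027 F89574) (tt N64286 D122320) (tt N45360 (iv6 F298899)) (tt N24370 (iv7 F89577)))
theorem Q34777 : ∀ i, i < 34777 → P i := stepQ 34776 Q34776 (allL N34776 (tt N58210 (iv1 F327463)) (tt N58204 (iv0 F327610)) (tt N58209 (iv2 F327605)) (tt N17609 (iv3 D56644)) (tt N34620 F89582) (tt N64287 D122328) (tt N64284 (iv6 F195583)) (tt N44650 (iv7 F112756)))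
theorem Q34778 : ∀ i, i < 34778 → P i := stepQ 34777 Q34777 (allL N34777 (tt N64288 D122329) (tt N64289 D122330) (tt N24372 F89583) (tt N64287 (iv3 F195612)) (tt N45507 (iv4 F116161)) (tt N17609 (iv5 D56645)) (tt N33218 F341290) (tt N44651 (iv7 F112758)))
theorem Q34779 : ∀ i, i < 34779 → P i := stepQ 34778 Q34778 (allL N34778 (tt N54119 (iv1 F156011)) (tt N28070 F89587) (tt N25821 (iv2 F89586)) (tt N17610 (iv3 D56646)) (tt N17611 F89584) (tt N34589 (iv5 F89588)) (tt N47571 (iv6 F298194)) (tt N24352 F89585))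
theorem Q34780 : ∀ i, i < 34780 → P i := stepQ 34779 Q34779 (allL N34779 (tt N24064 F89593) (tt N22986 F296648) (tt N24419 F89589) (tt N34589 F89590) (tt N24353 F89592) (tt N17610 (iv5 D56647)) (tt N64290 D122333) (tt N24353 F89591))
theorem Q34781 : ∀ i, i < 34781 → P i := stepQ 34780 Q34780 (allL N34780 (tt N64291 D122335) (tt N54277 (iv0 F199581)) (tt N25822 F89605) (tt N17612 F89606) (tt N47571 F298946) (tt N64292 D122337) (tt N17611 (iv6 D56652)) (tt N25228 F117199))
theorem Q34782 : ∀ i, i < 34782 → P i := stepQ 34781 Q34781 (allL N34781 (tt N17960 F117193) (tt N17612 (iv0 D56653)) (tt N17796 (iv2 F298960)) (tt N24804 F117195) (tt N24346 F117196) (tt N34525 (iv5 F301582)) (tt N17692 F298945) (tt N24350 F117197))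
theorem Q34783 : ∀ i, i < 34783 → P i := stepQ 34782 Q34782 (allL N34782 (tt N63899 (iv1 F301585)) (tt N63902 (iv0 F301212)) (tt N24351 F89608) (tt N64292 (iv3 F195637)) (tt N64293 D122341) (tt N17612 (iv5 D56655)) (tt N52759 (iv6 F151224)) (tt N25229 F117200))
theorem Q34784 : ∀ i, i < 34784 → P i := stepQ 34783 Q34783 (allL N34783 (tt N21765 (iv1 F89618)) (tt N17613 (iv0 D56665)) (tt N24374 (iv2 F89619)) (tt N44757 (iv3 F113365)) (tt N53926 (iv4 F155019)) (tt N27912 F89617) (tt N64294 D122342) (tt N24373 (iv7 F89620)))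
theorem Q34785 : ∀ i, i < 34785 → P i := stepQ 34784 Q34784 (allL N34784 (tt N17613 (iv1 D56666)) (tt N21765 F89621) (tt N24373 (iv2 F89624)) (tt N28023 (iv3 F89625)) (tt N53927 (iv4 F155026)) (tt N27915 F89623) (tt N64295 D122343) (tt N24374 F89622))
theorem Q34786 : ∀ i, i < 34786 → P i := stepQ 34785 Q34785 (allL N34785 (tt N64296 D122344) (tt N64297 D122345) (tt N63113 (iv2 F185681)) (tt N17614 F89626) (tt N24254 F89627) (tt N64298 D122346) (tt N17613 (iv6 D56667)) (tt N17658 (iv7 F299879)))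
theorem Q34787 : ∀ i, i < 34787 → P i := stepQ 34786 Q34786 (allL N34786 (tt N63913 (iv1 F302006)) (tt N63912 (iv0 F302007)) (tt N17627 F89629) (tt N64298 (iv3 F195651)) (tt N64299 D122350) (tt N17614 (iv5 D56669)) (tt N28054 F89630) (tt N17662 (iv7 F299880)))
theorem Q34788 : ∀ i, i < 34788 → P i := stepQ 34787 Q34787 (allL N34787 (tt N23097 F117283) (tt N17615 (iv0 D56678)) (tt N24392 (iv2 F117618)) (tt N34115 F311799) (tt N24073 F117284) (tt N17801 (iv5 F299245)) (tt N64300 D122357) (tt N24393 (iv7 F117262)))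
theorem Q34789 : ∀ i, i < 34789 → P i := stepQ 34788 Q34788 (allL N34788 (tt N17615 (iv1 D56679)) (tt N23097 F117281) (tt N24393 (iv2 F117260)) (tt N64301 D122358) (tt N24074 F117282) (tt N17802 (iv5 F299250)) (tt N45334 (iv6 F298321)) (tt N24392 (iv7 F117620)))
theorem Q34790 : ∀ i, i < 34790 → P i := stepQ 34789 Q34789 (allL N34789 (tt N34939 (iv1 F299259)) (tt N34938 (iv0 F299260)) (tt N24394 F89639) (tt N28365 F89640) (tt N64302 D122363) (tt N17615 (iv5 D56680)) (tt N28362 F89641) (tt N35152 (iv7 F299263)))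
theorem Q34791 : ∀ i, i < 34791 → P i := stepQ 34790 Q34790 (allL N34790 (tt N48976 (iv1 F134974)) (tt N28025 F89657) (tt N28687 (iv2 F89656)) (tt N17616 (iv3 D56692)) (tt N17618 F89654) (tt N62543 (iv5 F323298)) (tt N64303 D122364) (tt N24385 F89655))
theorem Q34792 : ∀ i, i < 34792 → P i := stepQ 34791 Q34791 (allL N34791 (tt N25361 F89661) (tt N25358 F89662) (tt N24403 F296640) (tt N62543 (iv3 F323296)) (tt N24386 F89660) (tt N17616 (iv5 D56693)) (tt N62541 (iv6 F325853)) (tt N24386 F89659))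
theorem Q34793 : ∀ i, i < 34793 → P i := stepQ 34792 Q34792 (allL N34792 (tt N23012 (iv1 F298132)) (tt N45424 F117598) (tt N24404 F296641) (tt N64303 (iv3 F195722)) (tt N17617 F89664) (tt N46945 (iv5 F298149)) (tt N17616 (iv6 D56694)) (tt N45446 (iv7 F117576)))
theorem Q34794 : ∀ i, i < 34794 → P i := stepQ 34793 Q34793 (allL N34793 (tt N17617 (iv1 D56696)) (tt N23035 F296679) (tt N23037 F296680) (tt N22929 F117562) (tt N23464 F117563) (tt N24624 (iv5 F298209)) (tt N23026 (iv6 F298210)) (tt N22962 F296681))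
theorem Q34795 : ∀ i, i < 34795 → P i := stepQ 34794 Q34794 (allL N34794 (tt N64304 D122374) (tt N64305 D122375) (tt N28688 F89675) (tt N17619 F89676) (tt N64303 (iv4 F195723)) (tt N64306 D122376) (tt N17618 (iv6 D56699)) (tt N64307 D122377))
theorem Q34796 : ∀ i, i < 34796 → P i := stepQ 34795 Q34795 (allL N34795 (tt N17619 (iv1 D56701)) (tt N24381 F89677) (tt N24379 (iv2 F117586)) (tt N64308 D122380) (tt N24164 F117583) (tt N64309 D122381) (tt N63970 (iv6 F299233)) (tt N24378 (iv7 F117587)))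
theorem Q34797 : ∀ i, i < 34797 → P i := stepQ 34796 Q34796 (allL N34796 (tt N31711 F329225) (tt N35054 (iv0 F299252)) (tt N24380 F89678) (tt N64306 (iv3 F195772)) (tt N31420 F329226) (tt N17619 (iv5 D56702)) (tt N49012 (iv6 F135040)) (tt N31418 F329227))
theorem Q34798 : ∀ i, i < 34798 → P i := stepQ 34797 Q34797 (allL N34797 (tt N24379 (iv1 F89683)) (tt N24378 F89684) (tt N24381 F89679) (tt N64307 (iv3 F195775)) (tt N17622 F89680) (tt N31418 F329497) (tt N23097 F117285) (tt N17619 (iv7 D56703)))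
theorem Q34799 : ∀ i, i < 34799 → P i := stepQ 34798 Q34798 (allL N34798 (tt N17721 (iv1 F299936)) (tt N17724 (iv0 F299938)) (tt N23114 F117315) (tt N24283 F117316) (tt N64310 D122387) (tt N17620 (iv5 D56711)) (tt N44656 (iv6 F112762)) (tt N24383 F117317))
theorem Q34800 : ∀ i, i < 34800 → P i := stepQ 34799 Q34799 (allL N34799 (tt N45373 (iv1 F298030)) (tt N31704 F341318) (tt N24384 F89691) (tt N64311 D122392) (tt N17621 (iv4 D56715)) (tt N30842 F341319) (tt N22911 F89692) (tt N34990 (iv7 F299590)))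
theorem Q34801 : ∀ i, i < 34801 → P i := stepQ 34800 Q34800 (allL N34800 (tt N34946 (iv1 F301672)) (tt N25249 (iv0 F91431)) (tt N24398 F89700) (tt N53691 (iv3 F154416)) (tt N64312 D122396) (tt N17623 (iv5 D56719)) (tt N40132 (iv6 F329718)) (tt N33270 F329527))
theorem Q34802 : ∀ i, i < 34802 → P i := stepQ 34801 Q34801 (allL N34801 (tt N28055 (iv1 F89711)) (tt N17624 (iv0 D56721)) (tt N26285 (iv2 F335599)) (tt N28147 (iv3 F335601)) (tt N64313 D122399) (tt N64314 D122400) (tt N64315 D122401) (tt N28053 F335696))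
theorem Q34803 : ∀ i, i < 34803 → P i := stepQ 34802 Q34802 (allL N34802 (tt N17624 (iv1 D56722)) (tt N28055 F89706) (tt N28053 F335700) (tt N25965 (iv3 F335606)) (tt N26163 (iv4 F335607)) (tt N64316 D122405) (tt N26626 (iv6 F335610)) (tt N26285 (iv7 F335600)))
theorem Q34804 : ∀ i, i < 34804 → P i := stepQ 34803 Q34803 (allL N34803 (tt N64317 D122407) (tt N54808 (iv0 F289787)) (tt N28054 F89707) (tt N48694 (iv3 F134111)) (tt N64318 D122409) (tt N17624 (iv5 D56723)) (tt N17627 F89708) (tt N64319 D122410))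
theorem Q34805 : ∀ i, i < 34805 → P i := stepQ 34804 Q34804 (allL N34804 (tt N28053 (iv1 F89712)) (tt N26285 (iv0 F335670)) (tt N28055 F89709) (tt N48597 (iv3 F335672)) (tt N46725 (iv4 F126273)) (tt N64319 (iv5 F195856)) (tt N24402 F89710) (tt N17624 (iv7 D56724)))
theorem Q34806 : ∀ i, i < 34806 → P i := stepQ 34805 Q34805 (allL N34805 (tt N22257 F304677) (tt N28146 F304678) (tt N53540 (iv2 F307490)) (tt N17625 (iv3 D56726)) (tt N52807 (iv4 F301705)) (tt N64320 D122414) (tt N64321 D122415) (tt N52807 (iv7 F151434)))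
theorem Q34807 : ∀ i, i < 34807 → P i := stepQ 34806 Q34806 (allL N34806 (tt N48171 (iv1 F131694)) (tt N35202 (iv0 F302106)) (tt N46411 (iv2 F123437)) (tt N64320 (iv3 F195861)) (tt N64322 D122416) (tt N17625 (iv5 D56728)) (tt N64323 D122417) (tt N48200 (iv7 F131734)))
theorem Q34808 : ∀ i, i < 34808 → P i := stepQ 34807 Q34807 (allL N34807 (tt N53520 F153926) (tt N63905 (iv0 F301820)) (tt N46412 (iv2 F123440)) (tt N64321 (iv3 F195862)) (tt N46410 (iv4 F123434)) (tt N47825 F129832) (tt N17625 (iv6 D56729)) (tt N47859 (iv7 F129945)))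
theorem Q34809 : ∀ i, i < 34809 → P i := stepQ 34808 Q34808 (allL N34808 (tt N35202 (iv1 F302107)) (tt N48171 (iv0 F131693)) (tt N48200 F131733) (tt N53543 (iv3 F306707)) (tt N64324 D122423) (tt N17626 (iv5 D56732)) (tt N64325 D122424) (tt N46411 (iv7 F123438)))
theorem Q34810 : ∀ i, i < 34810 → P i := stepQ 34809 Q34809 (allL N34809 (tt N45358 (iv1 F301785)) (tt N63989 (iv0 F301667)) (tt N52808 (iv2 F151435)) (tt N53544 (iv3 F306708)) (tt N46362 F299283) (tt N35017 (iv5 F302128)) (tt N17626 (iv6 D56733)) (tt N64025 (iv7 F201464)))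
theorem Q34811 : ∀ i, i < 34811 → P i := stepQ 34810 Q34810 (allL N34810 (tt N17662 F302114) (tt N17627 (iv0 D56734)) (tt N63913 F302115) (tt N64326 D122426) (tt N64327 D122427) (tt N25244 F123428) (tt N64328 D122428) (tt N63912 F302116))
theorem Q34812 : ∀ i, i < 34812 → P i := stepQ 34811 Q34811 (allL N34811 (tt N17627 (iv1 D56735)) (tt N17662 F302129) (tt N63912 F302130) (tt N53546 (iv3 F311783)) (tt N64329 D122430) (tt N25245 (iv5 F91578)) (tt N64330 D122431) (tt N63913 F302131))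
theorem Q34813 : ∀ i, i < 34813 → P i := stepQ 34812 Q34812 (allL N34812 (tt N64331 D122432) (tt N64332 D122433) (tt N64299 (iv2 F195664)) (tt N64333 D122434) (tt N17627 (iv4 D56736)) (tt N34871 F304325) (tt N64318 (iv6 F195854)) (tt N63914 (iv7 F304605)))
theorem Q34814 : ∀ i, i < 34814 → P i := stepQ 34813 Q34813 (allL N34813 (tt N64334 D122447) (tt N35164 (iv0 F304296)) (tt N63916 F301688) (tt N63378 (iv3 F304423)) (tt N64335 D122449) (tt N17628 (iv5 D56753)) (tt N64336 D122450) (tt N24334 F301689))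
theorem Q34815 : ∀ i, i < 34815 → P i := stepQ 34814 Q34814 (allL N34814 (tt N63970 F301690) (tt N63900 (iv0 F302438)) (tt N47884 (iv2 F130002)) (tt N49052 F306457) (tt N17629 F89746) (tt N49051 (iv5 F308331)) (tt N17628 (iv6 D56754)) (tt N47881 (iv7 F129988)))
theorem Q34816 : ∀ i, i < 34816 → P i := stepQ 34815 Q34815 (allL N34815 (tt N48975 (iv1 F195921)) (tt N63890 (iv0 F302432)) (tt N64337 D122459) (tt N17630 (iv3 D56771)) (tt N24472 F301011) (tt N64338 D122460) (tt N64339 D122461) (tt N63915 F301012))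
theorem Q34817 : ∀ i, i < 34817 → P i := stepQ 34816 Q34816 (allL N34816 (tt N35164 (iv1 F304297)) (tt N64334 F195897) (tt N24334 F301518) (tt N64338 (iv3 F195922)) (tt N64340 D122462) (tt N17630 (iv5 D56772)) (tt N64341 D122463) (tt N63916 F301519))
theorem Q34818 : ∀ i, i < 34818 → P i := stepQ 34817 Q34817 (allL N34817 (tt N45348 (iv1 F303348)) (tt N64300 (iv0 F195931)) (tt N24335 F301520) (tt N64339 (iv3 F195923)) (tt N17631 F89765) (tt N35072 (iv5 F301991)) (tt N17630 (iv6 D56773)) (tt N64026 (iv7 F192290)))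
theorem Q34819 : ∀ i, i < 34819 → P i := stepQ 34818 Q34818 (allL N34818 (tt N47012 F127991) (tt N35506 F322043) (tt N24473 F117803) (tt N63375 (iv3 F186974)) (tt N64342 D122467) (tt N17632 (iv5 D56791)) (tt N64343 D122468) (tt N24340 F89795))
theorem Q34820 : ∀ i, i < 34820 → P i := stepQ 34819 Q34819 (allL N34819 (tt N64271 (iv1 F301152)) (tt N64272 F299521) (tt N24474 F117786) (tt N63376 (iv3 F186976)) (tt N17633 F89796) (tt N46959 F127881) (tt N17632 (iv6 D56792)) (tt N47241 (iv7 F128562)))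
theorem Q34821 : ∀ i, i < 34821 → P i := stepQ 34820 Q34820 (allL N34820 (tt N24476 F117776) (tt N17633 (iv0 D56793)) (tt N23044 F117777) (tt N23026 F298934) (tt N52817 (iv4 F151524)) (tt N24674 F117778) (tt N22929 F117779) (tt N23020 F298935))
theorem Q34822 : ∀ i, i < 34822 → P i := stepQ 34821 Q34821 (allL N34821 (tt N17633 (iv1 D56794)) (tt N24476 F117781) (tt N23020 (iv2 F298215)) (tt N46120 (iv3 F297981)) (tt N46438 (iv4 F298801)) (tt N24675 F117783) (tt N22958 F117784) (tt N23044 F117785))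
theorem Q34823 : ∀ i, i < 34823 → P i := stepQ 34822 Q34822 (allL N34822 (tt N25358 (iv1 F296715)) (tt N25361 (iv0 F296716)) (tt N24386 F296642) (tt N63252 (iv3 F186549)) (tt N24403 (iv4 F295806)) (tt N17634 (iv5 D56852)) (tt N64344 D122498) (tt N24403 F89879))
theorem Q34824 : ∀ i, i < 34824 → P i := stepQ 34823 Q34823 (allL N34823 (tt N24147 (iv1 F298139)) (tt N24150 (iv0 F298142)) (tt N24387 F296643) (tt N63253 (iv3 F186551)) (tt N17635 F89880) (tt N47004 (iv5 F127959)) (tt N17634 (iv6 D56853)) (tt N47504 (iv7 F128916)))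
theorem Q34825 : ∀ i, i < 34825 → P i := stepQ 34824 Q34824 (allL N34824 (tt N17688 (iv1 F89925)) (tt N17636 (iv0 D56886)) (tt N17687 F125382) (tt N47836 (iv3 F129894)) (tt N46358 (iv4 F122987)) (tt N63947 (iv5 F191892)) (tt N54122 (iv6 F306326)) (tt N17686 F125383))
theorem Q34826 : ∀ i, i < 34826 → P i := stepQ 34825 Q34825 (allL N34825 (tt N17636 (iv1 D56887)) (tt N17688 F89926) (tt N17686 F125376) (tt N64345 D122555) (tt N46355 F122968) (tt N63948 (iv5 F191899)) (tt N64346 D122556) (tt N17687 F125377))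
theorem Q34827 : ∀ i, i < 34827 → P i := stepQ 34826 Q34826 (allL N34826 (tt N64347 D122557) (tt N53979 (iv0 F302300)) (tt N22280 F89927) (tt N17637 F89928) (tt N24407 F89929) (tt N64348 D122559) (tt N17636 (iv6 D56888)) (tt N25023 (iv7 F302303)))
theorem Q34828 : ∀ i, i < 34828 → P i := stepQ 34827 Q34827 (allL N34827 (tt N17805 (iv1 F89935)) (tt N17637 (iv0 D56889)) (tt N17806 F121800) (tt N53861 (iv3 F302304)) (tt N23633 (iv4 F89937)) (tt N64349 D122562) (tt N49305 F299439) (tt N17807 F121801))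
theorem Q34829 : ∀ i, i < 34829 → P i := stepQ 34828 Q34828 (allL N34828 (tt N64350 D122567) (tt N63969 (iv0 F191925)) (tt N17808 F89931) (tt N64348 (iv3 F196225)) (tt N64351 D122568) (tt N17637 (iv5 D56891)) (tt N35131 (iv6 F90889)) (tt N25024 (iv7 F302315)))
theorem Q34830 : ∀ i, i < 34830 → P i := stepQ 34829 Q34829 (allL N34829 (tt N17817 (iv1 F89949)) (tt N17638 (iv0 D56903)) (tt N17822 F115445) (tt N17885 (iv3 F299732)) (tt N64352 D122581) (tt N23115 (iv5 F302030)) (tt N64163 (iv6 F193401)) (tt N17823 F115446))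
theorem Q34831 : ∀ i, i < 34831 → P i := stepQ 34830 Q34830 (allL N34830 (tt N64353 D122582) (tt N64354 D122583) (tt N17824 F89944) (tt N64355 D122584) (tt N17638 (iv4 D56904)) (tt N64356 D122585) (tt N17639 F89945) (tt N25025 (iv7 F299749)))
theorem Q34832 : ∀ i, i < 34832 → P i := stepQ 34831 Q34831 (allL N34831 (tt N64357 D122587) (tt N64358 D122588) (tt N64359 D122589) (tt N17639 (iv3 D56906)) (tt N24417 F89952) (tt N64360 D122590) (tt N64355 (iv6 F196325)) (tt N45340 (iv7 F115365)))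
theorem Q34833 : ∀ i, i < 34833 → P i := stepQ 34832 Q34832 (allL N34832 (tt N45378 (iv1 F115559)) (tt N45377 F115555) (tt N17836 F89953) (tt N64360 (iv3 F196333)) (tt N23419 F89954) (tt N17639 (iv5 D56907)) (tt N64361 D122591) (tt N35242 (iv7 F91671)))
theorem Q34834 : ∀ i, i < 34834 → P i := stepQ 34833 Q34833 (allL N34833 (tt N25662 (iv1 F89975)) (tt N17640 (iv0 D56915)) (tt N25661 (iv2 F89976)) (tt N52874 F151762) (tt N49389 (iv4 F299883)) (tt N23295 F89974) (tt N30538 (iv6 F305315)) (tt N25660 (iv7 F89977)))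
theorem Q34835 : ∀ i, i < 34835 → P i := stepQ 34834 Q34834 (allL N34834 (tt N17640 (iv1 D56916)) (tt N25662 F89978) (tt N25660 (iv2 F89981)) (tt N38380 F302944) (tt N49388 (iv4 F299058)) (tt N23296 F89980) (tt N64362 D122599) (tt N25661 F89979))
theorem Q34836 : ∀ i, i < 34836 → P i := stepQ 34835 Q34835 (allL N34835 (tt N64363 D122600) (tt N64364 D122601) (tt N42995 (iv2 F107866)) (tt N17641 F89982) (tt N17658 F89983) (tt N64365 D122602) (tt N17640 (iv6 D56917)) (tt N24254 (iv7 F298490)))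
theorem Q34837 : ∀ i, i < 34837 → P i := stepQ 34836 Q34836 (allL N34836 (tt N24315 (iv1 F299884)) (tt N24314 (iv0 F299886)) (tt N24317 (iv2 F297837)) (tt N64365 (iv3 F196372)) (tt N46636 (iv4 F299887)) (tt N17641 (iv5 D56920)) (tt N54130 (iv6 F156049)) (tt N24256 (iv7 F298491)))
theorem Q34838 : ∀ i, i < 34838 → P i := stepQ 34837 Q34837 (allL N34837 (tt N17909 F89998) (tt N22329 F90000) (tt N22328 (iv2 F89999)) (tt N17642 (iv3 D56932)) (tt N17841 F89995) (tt N23348 F89996) (tt N25015 (iv6 F300526)) (tt N17706 F89997))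
theorem Q34839 : ∀ i, i < 34839 → P i := stepQ 34838 Q34838 (allL N34838 (tt N45662 (iv1 F148246)) (tt N46185 (iv0 F297434)) (tt N23620 F90004) (tt N34768 F90005) (tt N63874 (iv4 F191503)) (tt N17643 (iv5 D56936)) (tt N17644 F90006) (tt N64366 D122613))
theorem Q34840 : ∀ i, i < 34840 → P i := stepQ 34839 Q34839 (allL N34839 (tt N25417 F298104) (tt N25421 F298105) (tt N25017 F298106) (tt N34461 F298107) (tt N25001 (iv4 F300042)) (tt N64366 (iv5 F196424)) (tt N35151 F91414) (tt N17643 (iv7 D56937)))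
theorem Q34841 : ∀ i, i < 34841 → P i := stepQ 34840 Q34840 (allL N34840 (tt N17645 (iv1 D56939)) (tt N23524 F90012) (tt N23523 (iv2 F115897)) (tt N23503 F296908) (tt N34476 F91434) (tt N23502 (iv5 F297079)) (tt N23507 (iv6 F297077)) (tt N23522 (iv7 F115899)))
theorem Q34842 : ∀ i, i < 34842 → P i := stepQ 34841 Q34841 (allL N34841 (tt N23523 (iv1 F90015)) (tt N23522 F90016) (tt N23524 F90013) (tt N44644 (iv3 F112741)) (tt N48186 (iv4 F300559)) (tt N35151 F91413) (tt N46375 (iv6 F123188)) (tt N17645 (iv7 D56940)))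
theorem Q34843 : ∀ i, i < 34843 → P i := stepQ 34842 Q34842 (allL N34842 (tt N34495 (iv1 F90017)) (tt N17646 (iv0 D56941)) (tt N34494 (iv2 F115063)) (tt N44559 F112544) (tt N64367 D122615) (tt N42235 F309440) (tt N57457 (iv6 F311451)) (tt N34493 F115064))
theorem Q34844 : ∀ i, i < 34844 → P i := stepQ 34843 Q34843 (allL N34843 (tt N17646 (iv1 D56942)) (tt N34495 F90021) (tt N34493 (iv2 F115060)) (tt N42632 (iv3 F115061)) (tt N52320 (iv4 F148597)) (tt N42247 F309443) (tt N64368 D122618) (tt N34494 (iv7 F115062)))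
theorem Q34845 : ∀ i, i < 34845 → P i := stepQ 34844 Q34844 (allL N34844 (tt N34494 (iv1 F90022)) (tt N34493 F90020) (tt N17646 (iv2 D56943)) (tt N34499 F90018) (tt N42250 F306201) (tt N35115 (iv5 F90872)) (tt N64369 D122619) (tt N34495 F90019))
theorem Q34846 : ∀ i, i < 34846 → P i := stepQ 34845 Q34845 (allL N34845 (tt N64370 D122620) (tt N64371 D122621) (tt N64369 (iv2 F196441)) (tt N17647 F90023) (tt N46488 F299059) (tt N64372 D122622) (tt N17646 (iv6 D56944)) (tt N46655 (iv7 F125727)))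
theorem Q34847 : ∀ i, i < 34847 → P i := stepQ 34846 Q34846 (allL N34846 (tt N48211 (iv1 F301692)) (tt N47773 (iv0 F129721)) (tt N34502 F90025) (tt N64372 (iv3 F196443)) (tt N64373 D122624) (tt N17647 (iv5 D56947)) (tt N35120 (iv6 F90876)) (tt N46656 (iv7 F125728)))
theorem Q34848 : ∀ i, i < 34848 → P i := stepQ 34847 Q34847 (allL N34847 (tt N51710 (iv1 F147101)) (tt N51645 (iv0 F146966)) (tt N47269 (iv2 F128607)) (tt N17649 F90046) (tt N28566 F90047) (tt N17648 (iv5 D56965)) (tt N64374 D122636) (tt N34972 (iv7 F90557)))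
theorem Q34849 : ∀ i, i < 34849 → P i := stepQ 34848 Q34848 (allL N34848 (tt N53567 (iv1 F301804)) (tt N53185 (iv0 F301805)) (tt N47270 (iv2 F128610)) (tt N17650 F90048) (tt N23526 F90049) (tt N48188 (iv5 F301807)) (tt N17648 (iv6 D56966)) (tt N53566 (iv7 F301812)))
theorem Q34850 : ∀ i, i < 34850 → P i := stepQ 34849 Q34849 (allL N34849 (tt N64375 D122640) (tt N64376 D122641) (tt N34974 (iv2 F90560)) (tt N64374 (iv3 F196498)) (tt N34973 (iv4 F90559)) (tt N38825 (iv5 F350733)) (tt N17649 (iv6 D56967)) (tt N64377 D122643))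
theorem Q34851 : ∀ i, i < 34851 → P i := stepQ 34850 Q34850 (allL N34850 (tt N35356 (iv1 F92153)) (tt N43693 (iv0 F109467)) (tt N23337 F90051) (tt N17652 F90052) (tt N23325 F90053) (tt N17651 (iv5 D56972)) (tt N33778 F321927) (tt N23341 F90054))
theorem Q34852 : ∀ i, i < 34852 → P i := stepQ 34851 Q34851 (allL N34851 (tt N53711 (iv1 F308571)) (tt N64378 D122648) (tt N53177 (iv2 F152875)) (tt N17653 F90055) (tt N24395 F90056) (tt N64379 D122649) (tt N17651 (iv6 D56973)) (tt N64380 D122650))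
theorem Q34853 : ∀ i, i < 34853 → P i := stepQ 34852 Q34852 (allL N34852 (tt N64381 D122651) (tt N64382 D122652) (tt N34973 (iv2 F90558)) (tt N33778 F321926) (tt N34974 (iv4 F90561)) (tt N64383 D122653) (tt N17652 (iv6 D56974)) (tt N40984 (iv7 F323603)))
theorem Q34854 : ∀ i, i < 34854 → P i := stepQ 34853 Q34853 (allL N34853 (tt N35247 (iv1 F299213)) (tt N35259 (iv0 F301788)) (tt N35257 (iv2 F300543)) (tt N64379 (iv3 F196512)) (tt N64384 D122657) (tt N17653 (iv5 D56977)) (tt N64383 (iv6 F196517)) (tt N35256 (iv7 F301792)))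
theorem Q34855 : ∀ i, i < 34855 → P i := stepQ 34854 Q34854 (allL N34854 (tt N45338 (iv1 F115345)) (tt N23102 (iv0 F300539)) (tt N45354 F115394) (tt N64380 (iv3 F196513)) (tt N46375 (iv4 F123187)) (tt N35256 (iv5 F301791)) (tt N48186 (iv6 F300560)) (tt N17653 (iv7 D56978)))
theorem Q34856 : ∀ i, i < 34856 → P i := stepQ 34855 Q34855 (allL N34855 (tt N22214 (iv1 F90060)) (tt N22217 (iv0 F90059)) (tt N22213 F90061) (tt N17654 (iv3 D56979)) (tt N44759 F298171) (tt N29563 F90057) (tt N43017 (iv6 F309266)) (tt N22212 F90058))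
theorem Q34857 : ∀ i, i < 34857 → P i := stepQ 34856 Q34856 (allL N34856 (tt N64385 D122664) (tt N28026 F304317) (tt N46821 (iv2 F127169)) (tt N17655 (iv3 D56981)) (tt N33943 F303109) (tt N43000 (iv5 F107880)) (tt N64386 D122665) (tt N43098 (iv7 F108074)))
theorem Q34858 : ∀ i, i < 34858 → P i := stepQ 34857 Q34857 (allL N34857 (tt N45355 F337499) (tt N39806 F339034) (tt N43044 (iv2 F107998)) (tt N64386 (iv3 F196531)) (tt N34018 F90063) (tt N64387 D122668) (tt N17655 (iv6 D56982)) (tt N43142 (iv7 F307864)))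
theorem Q34859 : ∀ i, i < 34859 → P i := stepQ 34858 Q34858 (allL N34858 (tt N64297 (iv1 F302000)) (tt N64296 (iv0 F301998)) (tt N17658 F90064) (tt N63117 (iv3 F305041)) (tt N42995 (iv4 F107867)) (tt N64388 D122672) (tt N17656 (iv6 D56983)) (tt N63113 (iv7 F302004)))
theorem Q34860 : ∀ i, i < 34860 → P i := stepQ 34859 Q34859 (allL N34859 (tt N61598 (iv1 F356466)) (tt N64389 D122675) (tt N42968 (iv2 F107829)) (tt N17661 F90065) (tt N33979 F90066) (tt N64390 D122676) (tt N17657 (iv6 D56984)) (tt N64391 D122677))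
theorem Q34861 : ∀ i, i < 34861 → P i := stepQ 34860 Q34860 (allL N34860 (tt N63113 (iv1 F302003)) (tt N17658 (iv0 D56985)) (tt N64297 (iv2 F332489)) (tt N52829 (iv3 F304717)) (tt N64392 D122680) (tt N64393 D122681) (tt N64394 D122682) (tt N64296 (iv7 F332488)))
theorem Q34862 : ∀ i, i < 34862 → P i := stepQ 34861 Q34861 (allL N34861 (tt N17658 (iv1 D56986)) (tt N63113 (iv0 F302002)) (tt N64296 (iv2 F332486)) (tt N53536 (iv3 F344418)) (tt N64395 D122685) (tt N64396 D122686) (tt N64397 D122687) (tt N64297 (iv7 F332490)))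
theorem Q34863 : ∀ i, i < 34863 → P i := stepQ 34862 Q34862 (allL N34862 (tt N64398 D122688) (tt N64399 D122689) (tt N64388 (iv2 F196535)) (tt N17662 F90067) (tt N64400 D122690) (tt N17658 (iv5 D56987)) (tt N64390 (iv6 F196541)) (tt N64298 (iv7 F302005)))
theorem Q34864 : ∀ i, i < 34864 → P i := stepQ 34863 Q34863 (allL N34863 (tt N28031 F304503) (tt N28584 (iv0 F123201)) (tt N53554 (iv2 F305511)) (tt N17659 (iv3 D56989)) (tt N49537 (iv4 F136798)) (tt N17704 F90069) (tt N64401 D122693) (tt N45547 (iv7 F116501)))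
theorem Q34865 : ∀ i, i < 34865 → P i := stepQ 34864 Q34864 (allL N34864 (tt N35134 F341417) (tt N35138 (iv0 F341418)) (tt N63907 (iv2 F191644)) (tt N64401 (iv3 F196555)) (tt N45549 (iv4 F116506)) (tt N64402 D122696) (tt N17659 (iv6 D56990)) (tt N64403 D122697))
theorem Q34866 : ∀ i, i < 34866 → P i := stepQ 34865 Q34865 (allL N34865 (tt N22256 F90073) (tt N45311 (iv0 F115126)) (tt N23346 F90074) (tt N17660 (iv3 D56991)) (tt N23330 F90070) (tt N17706 F90071) (tt N64404 D122698) (tt N23348 F90072))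
theorem Q34867 : ∀ i, i < 34867 → P i := stepQ 34866 Q34866 (allL N34866 (tt N64405 D122699) (tt N58978 (iv0 F354940)) (tt N45549 (iv2 F116505)) (tt N64404 (iv3 F196558)) (tt N63907 (iv4 F191646)) (tt N64406 D122701) (tt N17660 (iv6 D56992)) (tt N64407 D122702))
theorem Q34868 : ∀ i, i < 34868 → P i := stepQ 34867 Q34867 (allL N34867 (tt N63911 (iv1 F191755)) (tt N17661 (iv0 D56993)) (tt N44337 (iv2 F356484)) (tt N64408 D122704) (tt N29007 F356483) (tt N64409 D122706) (tt N31570 (iv6 F356485)) (tt N54684 (iv7 F356486)))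
theorem Q34869 : ∀ i, i < 34869 → P i := stepQ 34868 Q34868 (allL N34868 (tt N17661 (iv1 D56994)) (tt N63911 F191754) (tt N54684 F356487) (tt N64410 D122709) (tt N54665 (iv4 F356494)) (tt N64411 D122711) (tt N64412 D122712) (tt N44337 F356488))
theorem Q34870 : ∀ i, i < 34870 → P i := stepQ 34869 Q34869 (allL N34869 (tt N64413 D122713) (tt N64414 D122714) (tt N63910 (iv2 F191749)) (tt N64390 (iv3 F196540)) (tt N64415 D122715) (tt N17661 (iv5 D56995)) (tt N17662 F90075) (tt N64416 D122716))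
theorem Q34871 : ∀ i, i < 34871 → P i := stepQ 34870 Q34870 (allL N34870 (tt N54684 (iv1 F340885)) (tt N44337 (iv0 F340881)) (tt N63911 (iv2 F191751)) (tt N64391 (iv3 F196542)) (tt N35125 (iv4 F90882)) (tt N64416 (iv5 F196564)) (tt N54683 (iv6 F304016)) (tt N17661 (iv7 D56996)))
theorem Q34872 : ∀ i, i < 34872 → P i := stepQ 34871 Q34871 (allL N34871 (tt N64332 (iv1 F304429)) (tt N64331 (iv0 F304425)) (tt N63914 (iv2 F191768)) (tt N64417 D122745) (tt N17662 (iv4 D57009)) (tt N34812 (iv5 F304325)) (tt N64415 (iv6 F196563)) (tt N64299 F302702))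
theorem Q34873 : ∀ i, i < 34873 → P i := stepQ 34872 Q34872 (allL N34872 (tt N34499 (iv1 F90125)) (tt N17663 (iv0 D57078)) (tt N26173 (iv2 F298838)) (tt N42755 (iv3 F300572)) (tt N43414 (iv4 F109157)) (tt N55797 (iv5 F161805)) (tt N64418 D122797) (tt N34498 F128198))
theorem Q34874 : ∀ i, i < 34874 → P i := stepQ 34873 Q34873 (allL N34873 (tt N17663 (iv1 D57079)) (tt N34499 F90130) (tt N34498 (iv2 F128196)) (tt N26034 (iv3 F300574)) (tt N43415 F108789) (tt N61025 (iv5 F177691)) (tt N64419 D122798) (tt N26173 (iv7 F298840)))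
theorem Q34875 : ∀ i, i < 34875 → P i := stepQ 34874 Q34874 (allL N34874 (tt N53553 (iv1 F301795)) (tt N48768 (iv0 F301169)) (tt N22207 F90152) (tt N17664 (iv3 D57103)) (tt N42860 (iv4 F107384)) (tt N64420 D122827) (tt N64421 D122828) (tt N53551 F300223))
theorem Q34876 : ∀ i, i < 34876 → P i := stepQ 34875 Q34875 (allL N34875 (tt N43433 F303992) (tt N22165 (iv0 F304228)) (tt N21988 F90153) (tt N29794 (iv3 F90154)) (tt N17664 (iv4 D57104)) (tt N29793 F90155) (tt N43690 (iv6 F306107)) (tt N43431 F303993))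
theorem Q34877 : ∀ i, i < 34877 → P i := stepQ 34876 Q34876 (allL N34876 (tt N35005 (iv1 F94773)) (tt N34890 F94772) (tt N33716 F310224) (tt N64420 (iv3 F196806)) (tt N33696 F310225) (tt N17664 (iv5 D57105)) (tt N33695 (iv6 F312495)) (tt N35007 F94621))
theorem Q34878 : ∀ i, i < 34878 → P i := stepQ 34877 Q34877 (allL N34877 (tt N39366 F319004) (tt N39209 (iv0 F321116)) (tt N39842 F322840) (tt N64421 (iv3 F196809)) (tt N43690 (iv4 F306106)) (tt N64422 D122834) (tt N17664 (iv6 D57106)) (tt N39843 F322841))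
theorem Q34879 : ∀ i, i < 34879 → P i := stepQ 34878 Q34878 (allL N34878 (tt N34890 F94771) (tt N35005 F94774) (tt N35007 F94619) (tt N22210 F90156) (tt N33718 F310172) (tt N17665 (iv5 D57107)) (tt N64423 D122837) (tt N33716 F310173))
theorem Q34880 : ∀ i, i < 34880 → P i := stepQ 34879 Q34879 (allL N34879 (tt N57685 F312684) (tt N30547 F312685) (tt N57690 F312686) (tt N22211 F90157) (tt N63325 (iv4 F186834)) (tt N48178 (iv5 F306515)) (tt N17665 (iv6 D57108)) (tt N57689 (iv7 F315118)))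
theorem Q34881 : ∀ i, i < 34881 → P i := stepQ 34880 Q34880 (allL N34880 (tt N63908 (iv1 F191737)) (tt N63650 (iv0 F310215)) (tt N17667 F90158) (tt N33974 F90159) (tt N47687 (iv4 F129491)) (tt N17666 (iv5 D57109)) (tt N48697 (iv6 F306471)) (tt N42967 (iv7 F107822)))
theorem Q34882 : ∀ i, i < 34882 → P i := stepQ 34881 Q34881 (allL N34881 (tt N42967 (iv1 F107828)) (tt N17667 (iv0 D57111)) (tt N63908 F191742) (tt N64424 D122846) (tt N23363 F120319) (tt N17731 F110125) (tt N64425 D122847) (tt N63650 (iv7 F310219)))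
theorem Q34883 : ∀ i, i < 34883 → P i := stepQ 34882 Q34882 (allL N34882 (tt N17667 (iv1 D57112)) (tt N42967 F107824) (tt N63650 (iv2 F310217)) (tt N22219 F107825) (tt N23364 F107826) (tt N17732 F107827) (tt N63521 (iv6 F310222)) (tt N63908 (iv7 F191738)))
theorem Q34884 : ∀ i, i < 34884 → P i := stepQ 34883 Q34883 (allL N34883 (tt N24290 F90162) (tt N47706 F129543) (tt N47687 (iv2 F129487)) (tt N35116 (iv3 F90873)) (tt N17667 (iv4 D57113)) (tt N27585 (iv5 F90161)) (tt N64426 D122849) (tt N47690 (iv7 F129498)))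
theorem Q34885 : ∀ i, i < 34885 → P i := stepQ 34884 Q34884 (allL N34884 (tt N62867 (iv1 F321344)) (tt N55370 (iv0 F306475)) (tt N48697 (iv2 F306469)) (tt N17668 F90163) (tt N64426 (iv4 F196848)) (tt N21786 F304452) (tt N17667 (iv6 D57114)) (tt N62866 (iv7 F321338)))
theorem Q34886 : ∀ i, i < 34886 → P i := stepQ 34885 Q34885 (allL N34885 (tt N54683 F304453) (tt N17668 (iv0 D57119)) (tt N29007 (iv2 F306480)) (tt N64427 D122866) (tt N44337 (iv4 F328741)) (tt N29006 (iv5 F306485)) (tt N19601 F328341) (tt N54665 (iv7 F306487)))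
theorem Q34887 : ∀ i, i < 34887 → P i := stepQ 34886 Q34886 (allL N34886 (tt N54665 F304455) (tt N29007 F304456) (tt N54683 F304457) (tt N62866 (iv3 F321336)) (tt N35121 (iv4 F90877)) (tt N24402 F304458) (tt N63911 (iv6 F191752)) (tt N17668 (iv7 D57122)))
theorem Q34888 : ∀ i, i < 34888 → P i := stepQ 34887 Q34887 (allL N34887 (tt N17733 (iv1 F90249)) (tt N17670 (iv0 D57213)) (tt N17732 (iv2 F90253)) (tt N64428 D122988) (tt N56103 F162662) (tt N63650 (iv5 F310218)) (tt N21598 F302770) (tt N17731 (iv7 F90255)))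
theorem Q34889 : ∀ i, i < 34889 → P i := stepQ 34888 Q34888 (allL N34888 (tt N17670 (iv1 D57214)) (tt N17733 F90256) (tt N17731 F90254) (tt N17900 (iv3 F90250)) (tt N22428 (iv4 F90251)) (tt N63908 (iv5 F191739)) (tt N48205 (iv6 F305128)) (tt N17732 F90252))
theorem Q34890 : ∀ i, i < 34890 → P i := stepQ 34889 Q34889 (allL N34889 (tt N17732 (iv1 F90260)) (tt N17731 F90259) (tt N17670 (iv2 D57215)) (tt N17710 F90257) (tt N46129 (iv4 F121670)) (tt N45206 (iv5 F114789)) (tt N64429 D122991) (tt N17733 F90258))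
theorem Q34891 : ∀ i, i < 34891 → P i := stepQ 34890 Q34890 (allL N34890 (tt N34876 (iv1 F94772)) (tt N34878 (iv0 F94771)) (tt N45206 (iv2 F114788)) (tt N17671 F90261) (tt N52182 (iv4 F147909)) (tt N17670 (iv5 D57216)) (tt N64430 D122992) (tt N17734 F90262))
theorem Q34892 : ∀ i, i < 34892 → P i := stepQ 34891 Q34891 (allL N34891 (tt N64431 D122993) (tt N63098 (iv0 F305130)) (tt N64429 (iv2 F197045)) (tt N17672 F90263) (tt N45742 (iv4 F303476)) (tt N62289 (iv5 F328876)) (tt N17670 (iv6 D57217)) (tt N56147 F302771))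
theorem Q34893 : ∀ i, i < 34893 → P i := stepQ 34892 Q34892 (allL N34892 (tt N22711 (iv1 F329489)) (tt N31543 (iv0 F329490)) (tt N17715 F90264) (tt N64430 (iv3 F197047)) (tt N34916 (iv4 F90347)) (tt N20204 F329206) (tt N17671 (iv6 D57218)) (tt N39929 (iv7 F329495)))
theorem Q34894 : ∀ i, i < 34894 → P i := stepQ 34893 Q34893 (allL N34893 (tt N17719 (iv1 F90270)) (tt N17672 (iv0 D57219)) (tt N17716 F121518) (tt N64432 D123001) (tt N34455 (iv4 F121517)) (tt N58618 (iv5 F332927)) (tt N25244 F301083) (tt N17717 F121519))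
theorem Q34895 : ∀ i, i < 34895 → P i := stepQ 34894 Q34894 (allL N34894 (tt N17717 (iv1 F90271)) (tt N17716 F90272) (tt N17719 F90267) (tt N56147 (iv3 F301981)) (tt N17675 F90268) (tt N41504 F328499) (tt N17740 F90269) (tt N17672 (iv7 D57222)))
theorem Q34896 : ∀ i, i < 34896 → P i := stepQ 34895 Q34895 (allL N34895 (tt N17682 F121195) (tt N17755 F121196) (tt N17723 F91095) (tt N64433 D123007) (tt N17673 (iv4 D57229)) (tt N64434 D123008) (tt N17851 F300804) (tt N17720 F91096))
theorem Q34897 : ∀ i, i < 34897 → P i := stepQ 34896 Q34896 (allL N34896 (tt N23114 (iv1 F301323)) (tt N24383 (iv0 F301251)) (tt N17724 F91097) (tt N24513 F121071) (tt N59520 (iv4 F360042)) (tt N17673 (iv5 D57230)) (tt N31104 F325541) (tt N17721 F91098))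
theorem Q34898 : ∀ i, i < 34898 → P i := stepQ 34897 Q34897 (allL N34897 (tt N64435 D123013) (tt N45506 F299729) (tt N17727 F90283) (tt N64436 D123014) (tt N17674 (iv4 D57234)) (tt N31744 (iv5 F343734)) (tt N23393 F90284) (tt N31743 F343730))
theorem Q34899 : ∀ i, i < 34899 → P i := stepQ 34898 Q34898 (allL N34898 (tt N17709 (iv1 F90296)) (tt N17708 F90295) (tt N17676 (iv2 D57236)) (tt N17733 F90291) (tt N21983 F90292) (tt N21961 F90293) (tt N64437 D123017) (tt N17710 F90294))
theorem Q34900 : ∀ i, i < 34900 → P i := stepQ 34899 Q34899 (allL N34899 (tt N64438 D123018) (tt N64439 D123019) (tt N64437 (iv2 F197121)) (tt N17678 F90297) (tt N25440 F90298) (tt N64440 D123020) (tt N17676 (iv6 D57237)) (tt N64279 (iv7 F301622)))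
theorem Q34901 : ∀ i, i < 34901 → P i := stepQ 34900 Q34900 (allL N34900 (tt N37711 (iv1 F328717)) (tt N38419 (iv0 F328718)) (tt N17736 F90299) (tt N45232 (iv3 F114870)) (tt N34909 (iv4 F90329)) (tt N19551 F328334) (tt N17677 (iv6 D57238)) (tt N38529 (iv7 F328721)))
theorem Q34902 : ∀ i, i < 34902 → P i := stepQ 34901 Q34901 (allL N34901 (tt N17678 (iv1 D57240)) (tt N17740 F90300) (tt N17738 F120848) (tt N64441 D123028) (tt N34461 F120849) (tt N19719 F326602) (tt N17961 (iv6 F301588)) (tt N17737 F120850))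
theorem Q34903 : ∀ i, i < 34903 → P i := stepQ 34902 Q34902 (allL N34902 (tt N64442 D123030) (tt N64443 D123031) (tt N17739 F90301) (tt N64440 (iv3 F197124)) (tt N19552 (iv4 F328254)) (tt N17678 (iv5 D57241)) (tt N19551 (iv6 F327939)) (tt N64280 (iv7 F301624)))
theorem Q34904 : ∀ i, i < 34904 → P i := stepQ 34903 Q34903 (allL N34903 (tt N17746 (iv1 F90317)) (tt N17679 (iv0 D57252)) (tt N17743 F91108) (tt N24522 F121124) (tt N64444 D123037) (tt N34570 (iv5 F301460)) (tt N25317 F299546) (tt N17744 F91110))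
theorem Q34905 : ∀ i, i < 34905 → P i := stepQ 34904 Q34904 (allL N34904 (tt N59410 (iv1 F325343)) (tt N64445 D123040) (tt N17745 F90313) (tt N64446 D123041) (tt N17679 (iv4 D57254)) (tt N39908 F341375) (tt N17826 F90314) (tt N39907 (iv7 F341381)))
theorem Q34906 : ∀ i, i < 34906 → P i := stepQ 34905 Q34905 (allL N34905 (tt N17758 (iv1 F90320)) (tt N17680 (iv0 D57256)) (tt N17757 F109315) (tt N64447 D123044) (tt N36567 F109316) (tt N50289 (iv5 F139425)) (tt N53859 (iv6 F309794)) (tt N17756 F109317))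
theorem Q34907 : ∀ i, i < 34907 → P i := stepQ 34906 Q34906 (allL N34906 (tt N17680 (iv1 D57257)) (tt N17758 F90325) (tt N17756 F109318) (tt N22347 F109319) (tt N36568 F109320) (tt N49652 (iv5 F308356)) (tt N64448 D123046) (tt N17757 F109321))
theorem Q34908 : ∀ i, i < 34908 → P i := stepQ 34907 Q34907 (allL N34907 (tt N17757 (iv1 F90326)) (tt N17756 F90324) (tt N17680 (iv2 D57258)) (tt N17749 F90321) (tt N47532 F317574) (tt N32675 F90322) (tt N64449 D123047) (tt N17758 F90323))
theorem Q34909 : ∀ i, i < 34909 → P i := stepQ 34908 Q34908 (allL N34908 (tt N64450 D123048) (tt N45686 (iv0 F320206)) (tt N64449 (iv2 F197203)) (tt N17682 F90327) (tt N44809 F318027) (tt N53901 (iv5 F356133)) (tt N17680 (iv6 D57259)) (tt N54246 (iv7 F303606)))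
theorem Q34910 : ∀ i, i < 34910 → P i := stepQ 34909 Q34909 (allL N34909 (tt N31581 (iv1 F329099)) (tt N31578 (iv0 F329100)) (tt N17753 F90328) (tt N61026 (iv3 F177695)) (tt N34900 F90329) (tt N22675 (iv5 F329104)) (tt N17681 (iv6 D57260)) (tt N39859 (iv7 F329106)))
theorem Q34911 : ∀ i, i < 34911 → P i := stepQ 34910 Q34910 (allL N34910 (tt N17723 (iv1 F121194)) (tt N17720 (iv0 F121191)) (tt N17755 F90332) (tt N54246 (iv3 F303604)) (tt N23604 (iv4 F121120)) (tt N33273 F329508) (tt N17764 F90333) (tt N17682 (iv7 D57264)))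
theorem Q34912 : ∀ i, i < 34912 → P i := stepQ 34911 Q34911 (allL N34911 (tt N17749 (iv1 F90337)) (tt N17683 (iv0 D57265)) (tt N17748 F90713) (tt N22358 F90510) (tt N64451 D123060) (tt N63920 (iv5 F191797)) (tt N38295 (iv6 F311851)) (tt N17747 (iv7 F90712)))
theorem Q34913 : ∀ i, i < 34913 → P i := stepQ 34912 Q34912 (allL N34912 (tt N17683 (iv1 D57266)) (tt N17749 F90341) (tt N17747 F90714) (tt N45281 (iv3 F115010)) (tt N47672 (iv4 F129399)) (tt N45280 F115008) (tt N64452 D123062) (tt N17748 F90715))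
theorem Q34914 : ∀ i, i < 34914 → P i := stepQ 34913 Q34913 (allL N34913 (tt N17748 (iv1 F90342)) (tt N17747 F90340) (tt N17683 (iv2 D57267)) (tt N17758 F90338) (tt N46104 (iv4 F120267)) (tt N42246 F314109) (tt N54247 (iv6 F304184)) (tt N17749 F90339))
theorem Q34915 : ∀ i, i < 34915 → P i := stepQ 34914 Q34914 (allL N34914 (tt N42235 F309437) (tt N42247 F309438) (tt N42246 (iv2 F311635)) (tt N17684 F90343) (tt N64453 D123064) (tt N17683 (iv5 D57268)) (tt N64454 D123065) (tt N17751 F90344))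
theorem Q34916 : ∀ i, i < 34916 → P i := stepQ 34915 Q34915 (allL N34915 (tt N53322 (iv1 F364927)) (tt N64455 D123067) (tt N54247 (iv2 F304182)) (tt N17685 F90345) (tt N48486 F301406) (tt N64456 D123068) (tt N17683 (iv6 D57269)) (tt N64275 F301407))
theorem Q34917 : ∀ i, i < 34917 → P i := stepQ 34916 Q34916 (allL N34916 (tt N38414 (iv1 F329640)) (tt N30867 (iv0 F329641)) (tt N17762 F90346) (tt N64454 (iv3 F197244)) (tt N34892 F90347) (tt N19553 F329410) (tt N17684 (iv6 D57270)) (tt N38495 (iv7 F329646)))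
theorem Q34918 : ∀ i, i < 34918 → P i := stepQ 34917 Q34917 (allL N34917 (tt N64457 D123074) (tt N46663 (iv0 F125735)) (tt N17763 F90349) (tt N64456 (iv3 F197245)) (tt N37653 (iv4 F329063)) (tt N17685 (iv5 D57273)) (tt N19553 (iv6 F329064)) (tt N64276 F301408))
theorem Q34919 : ∀ i, i < 34919 → P i := stepQ 34918 Q34918 (allL N34918 (tt N23534 F90358) (tt N24596 F90357) (tt N46355 (iv2 F125380)) (tt N28762 F90356) (tt N17686 (iv4 D57276)) (tt N33942 F302743) (tt N64458 D123077) (tt N46358 (iv7 F125384)))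
theorem Q34920 : ∀ i, i < 34920 → P i := stepQ 34919 Q34919 (allL N34919 (tt N43449 F108915) (tt N34472 (iv0 F106732)) (tt N63948 F191900) (tt N42631 F106731) (tt N47422 (iv4 F332272)) (tt N17686 (iv5 D57277)) (tt N47420 F332271) (tt N63947 F191895))
theorem Q34921 : ∀ i, i < 34921 → P i := stepQ 34920 Q34920 (allL N34920 (tt N64459 D123080) (tt N64433 (iv0 F351768)) (tt N64346 (iv2 F196222)) (tt N53081 (iv3 F152438)) (tt N64458 (iv4 F197267)) (tt N64460 D123082) (tt N17686 (iv6 D57278)) (tt N64461 D123083))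
theorem Q34922 : ∀ i, i < 34922 → P i := stepQ 34921 Q34921 (allL N34921 (tt N64462 D123084) (tt N64447 (iv0 F197198)) (tt N43847 (iv2 F304370)) (tt N17687 (iv3 D57280)) (tt N43843 (iv4 F304697)) (tt N64463 D123085) (tt N43841 (iv6 F306318)) (tt N64345 (iv7 F196219)))
theorem Q34923 : ∀ i, i < 34923 → P i := stepQ 34922 Q34922 (allL N34922 (tt N24596 (iv1 F90362)) (tt N23534 F90360) (tt N46358 F125381) (tt N24589 F90361) (tt N17687 (iv4 D57281)) (tt N33941 F302742) (tt N64464 D123087) (tt N46355 F125375))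
theorem Q34924 : ∀ i, i < 34924 → P i := stepQ 34923 Q34923 (allL N34923 (tt N34472 (iv1 F113276)) (tt N43449 F113277) (tt N63947 (iv2 F191896)) (tt N64463 (iv3 F197276)) (tt N64465 D123088) (tt N17687 (iv5 D57282)) (tt N64466 D123089) (tt N63948 (iv7 F191898)))
theorem Q34925 : ∀ i, i < 34925 → P i := stepQ 34924 Q34924 (allL N34924 (tt N24360 (iv1 F306322)) (tt N54124 (iv0 F306323)) (tt N54122 (iv2 F306324)) (tt N43841 (iv3 F306317)) (tt N64464 (iv4 F197281)) (tt N64467 D123092) (tt N17687 (iv6 D57283)) (tt N54121 (iv7 F306328)))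
theorem Q34926 : ∀ i, i < 34926 → P i := stepQ 34925 Q34925 (allL N34925 (tt N35127 (iv1 F90887)) (tt N35126 F90884) (tt N17689 F90363) (tt N17772 F90364) (tt N43768 (iv4 F109613)) (tt N17688 (iv5 D57284)) (tt N64468 D123094) (tt N22279 F90365))
theorem Q34927 : ∀ i, i < 34927 → P i := stepQ 34926 Q34926 (allL N34926 (tt N64469 D123095) (tt N64470 D123096) (tt N17690 F90366) (tt N17773 F90367) (tt N24541 F90368) (tt N64471 D123097) (tt N17688 (iv6 D57285)) (tt N64472 D123098))
theorem Q34928 : ∀ i, i < 34928 → P i := stepQ 34927 Q34927 (allL N34927 (tt N22279 (iv1 F90369)) (tt N17689 (iv0 D57286)) (tt N35127 F114946) (tt N45256 F114944) (tt N63852 (iv4 F189842)) (tt N45331 F115309) (tt N64473 D123099) (tt N35126 (iv7 F114945)))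
theorem Q34929 : ∀ i, i < 34929 → P i := stepQ 34928 Q34928 (allL N34928 (tt N17689 (iv1 D57287)) (tt N22279 F90370) (tt N35126 (iv2 F114947)) (tt N45285 (iv3 F115023)) (tt N64474 D123100) (tt N45332 F115316) (tt N64475 D123101) (tt N35127 F114948))
theorem Q34930 : ∀ i, i < 34930 → P i := stepQ 34929 Q34929 (allL N34929 (tt N64476 D123102) (tt N64477 D123103) (tt N64468 (iv2 F197282)) (tt N17691 F90371) (tt N43769 (iv4 F109618)) (tt N64478 D123104) (tt N17689 (iv6 D57288)) (tt N64479 D123105))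
theorem Q34931 : ∀ i, i < 34931 → P i := stepQ 34930 Q34930 (allL N34930 (tt N64472 (iv1 F197293)) (tt N17690 (iv0 D57289)) (tt N64469 (iv2 F281972)) (tt N53088 (iv3 F197294)) (tt N64480 D123107) (tt N64481 D123108) (tt N64291 (iv6 F357823)) (tt N64470 (iv7 F281971)))
theorem Q34932 : ∀ i, i < 34932 → P i := stepQ 34931 Q34931 (allL N34931 (tt N17690 (iv1 D57290)) (tt N64472 F197292) (tt N64470 (iv2 F281970)) (tt N64482 D123111) (tt N64483 D123112) (tt N64484 D123113) (tt N64485 D123114) (tt N64469 (iv7 F281973)))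
theorem Q34933 : ∀ i, i < 34933 → P i := stepQ 34932 Q34932 (allL N34932 (tt N64486 D123115) (tt N64487 D123116) (tt N64471 (iv2 F197285)) (tt N17694 F90372) (tt N64488 D123117) (tt N17690 (iv5 D57291)) (tt N64478 (iv6 F197302)) (tt N64489 D123118))
theorem Q34934 : ∀ i, i < 34934 → P i := stepQ 34933 Q34933 (allL N34933 (tt N64470 (iv1 F197284)) (tt N64469 F197291) (tt N64472 (iv2 F197287)) (tt N17695 F90373) (tt N24548 F90374) (tt N64489 (iv5 F197308)) (tt N25023 F302815) (tt N17690 (iv7 D57292)))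
theorem Q34935 : ∀ i, i < 34935 → P i := stepQ 34934 Q34934 (allL N34934 (tt N17791 (iv1 F90379)) (tt N17691 (iv0 D57293)) (tt N17788 (iv2 F342787)) (tt N61054 (iv3 F352381)) (tt N64490 D123121) (tt N64491 D123122) (tt N64492 D123123) (tt N17789 (iv7 F342798)))
theorem Q34936 : ∀ i, i < 34936 → P i := stepQ 34935 Q34935 (allL N34935 (tt N64493 D123129) (tt N64494 D123130) (tt N17790 F90376) (tt N64478 (iv3 F197301)) (tt N64495 D123131) (tt N17691 (iv5 D57295)) (tt N17694 F90377) (tt N64496 D123132))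
theorem Q34937 : ∀ i, i < 34937 → P i := stepQ 34936 Q34936 (allL N34936 (tt N17789 (iv1 F90380)) (tt N17788 F90381) (tt N17791 F90378) (tt N64479 (iv3 F197303)) (tt N35144 (iv4 F90898)) (tt N64496 (iv5 F197316)) (tt N35132 (iv6 F90891)) (tt N17691 (iv7 D57296)))
theorem Q34938 : ∀ i, i < 34938 → P i := stepQ 34937 Q34937 (allL N34937 (tt N64497 D123133) (tt N64448 (iv0 F315059)) (tt N38008 F312600) (tt N17692 (iv3 D57298)) (tt N24806 F300839) (tt N64498 D123136) (tt N24804 (iv6 F301581)) (tt N17797 F90423))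
theorem Q34939 : ∀ i, i < 34939 → P i := stepQ 34938 Q34938 (allL N34938 (tt N34789 F299260) (tt N44916 (iv0 F301454)) (tt N17795 F90462) (tt N64498 (iv3 F197326)) (tt N64499 D123139) (tt N17692 (iv5 D57299)) (tt N64500 D123140) (tt N17799 F90425))
theorem Q34940 : ∀ i, i < 34940 → P i := stepQ 34939 Q34939 (allL N34939 (tt N44916 (iv1 F301455)) (tt N34789 F299259) (tt N17799 F90458) (tt N63446 (iv3 F313356)) (tt N64501 D123146) (tt N17693 (iv5 D57303)) (tt N64502 D123147) (tt N17795 (iv7 F90461)))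
theorem Q34941 : ∀ i, i < 34941 → P i := stepQ 34940 Q34940 (allL N34940 (tt N25250 F301735) (tt N24973 F123544) (tt N17800 F90459) (tt N63447 (iv3 F311985)) (tt N46413 F301736) (tt N46657 (iv5 F125729)) (tt N17693 (iv6 D57304)) (tt N46665 (iv7 F125742)))
theorem Q34942 : ∀ i, i < 34942 → P i := stepQ 34941 Q34941 (allL N34941 (tt N17804 (iv1 F90389)) (tt N17694 (iv0 D57305)) (tt N17801 F115916) (tt N64503 D123148) (tt N64504 D123149) (tt N24392 F301447) (tt N64505 D123150) (tt N17802 F115917))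
theorem Q34943 : ∀ i, i < 34943 → P i := stepQ 34942 Q34942 (allL N34942 (tt N17694 (iv1 D57306)) (tt N17804 F90385) (tt N17802 F115913) (tt N64036 (iv3 F309772)) (tt N64506 D123152) (tt N24393 F301452) (tt N64507 D123153) (tt N17801 F115914))
theorem Q34944 : ∀ i, i < 34944 → P i := stepQ 34943 Q34943 (allL N34943 (tt N64023 F304309) (tt N64508 D123155) (tt N17803 F90386) (tt N64509 D123156) (tt N17694 (iv4 D57307)) (tt N48190 (iv5 F304542)) (tt N64495 (iv6 F197314)) (tt N63982 (iv7 F191946)))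
theorem Q34945 : ∀ i, i < 34945 → P i := stepQ 34944 Q34944 (allL N34944 (tt N17802 (iv1 F90390)) (tt N17801 F90391) (tt N17804 F90387) (tt N64489 (iv3 F197307)) (tt N63982 (iv4 F191945)) (tt N17695 F90388) (tt N64510 D123157) (tt N17694 (iv7 D57308)))
theorem Q34946 : ∀ i, i < 34946 → P i := stepQ 34945 Q34945 (allL N34945 (tt N45107 F314442) (tt N64511 D123171) (tt N64512 D123172) (tt N17696 (iv3 D57320)) (tt N25461 F90494) (tt N64513 D123173) (tt N64514 D123174) (tt N17811 F90495))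
theorem Q34947 : ∀ i, i < 34947 → P i := stepQ 34946 Q34946 (allL N34946 (tt N44919 F301671) (tt N34800 F301672) (tt N17815 F90496) (tt N64513 (iv3 F197404)) (tt N48192 (iv4 F302090)) (tt N17696 (iv5 D57321)) (tt N64515 D123176) (tt N17812 F90497))
theorem Q34948 : ∀ i, i < 34948 → P i := stepQ 34947 Q34947 (allL N34947 (tt N25245 F302110) (tt N25244 F302111) (tt N17816 F90498) (tt N64514 (iv3 F197406)) (tt N17697 F90499) (tt N64516 D123177) (tt N17696 (iv6 D57322)) (tt N25232 F302112))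
theorem Q34949 : ∀ i, i < 34949 → P i := stepQ 34948 Q34948 (allL N34948 (tt N21983 (iv1 F90501)) (tt N17698 (iv0 D57323)) (tt N25439 (iv2 F90503)) (tt N52935 (iv3 F151886)) (tt N22357 (iv4 F90502)) (tt N33976 F90500) (tt N64517 D123178) (tt N25438 (iv7 F90504)))
theorem Q34950 : ∀ i, i < 34950 → P i := stepQ 34949 Q34949 (allL N34949 (tt N17698 (iv1 D57324)) (tt N21983 F90505) (tt N25438 (iv2 F90508)) (tt N42836 F305643) (tt N22358 (iv4 F90509)) (tt N33977 F90507) (tt N64518 D123179) (tt N25439 F90506))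
theorem Q34951 : ∀ i, i < 34951 → P i := stepQ 34950 Q34950 (allL N34950 (tt N42475 (iv1 F308939)) (tt N42471 (iv0 F308940)) (tt N45241 (iv2 F114882)) (tt N17699 F90511) (tt N17712 F90512) (tt N45740 (iv5 F308942)) (tt N17698 (iv6 D57325)) (tt N45722 F121565))
theorem Q34952 : ∀ i, i < 34952 → P i := stepQ 34951 Q34951 (allL N34951 (tt N46133 (iv1 F309732)) (tt N18595 (iv0 F310561)) (tt N21736 F308471) (tt N45740 (iv3 F308941)) (tt N64519 D123185) (tt N17699 (iv5 D57328)) (tt N18574 F308472) (tt N45723 (iv7 F121566)))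
theorem Q34953 : ∀ i, i < 34953 → P i := stepQ 34952 Q34952 (allL N34952 (tt N23111 (iv1 F297653)) (tt N24283 (iv0 F297411)) (tt N45385 (iv2 F297505)) (tt N24921 (iv3 F121532)) (tt N64520 D123188) (tt N17700 (iv5 D57333)) (tt N17882 F296423) (tt N24959 F121531))
theorem Q34954 : ∀ i, i < 34954 → P i := stepQ 34953 Q34953 (allL N34953 (tt N34637 F121021) (tt N44629 F296412) (tt N44937 (iv2 F297382)) (tt N64521 D123195) (tt N17702 (iv4 D57341)) (tt N64522 D123196) (tt N24031 F90523) (tt N35908 F326145))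
theorem Q34955 : ∀ i, i < 34955 → P i := stepQ 34954 Q34954 (allL N34954 (tt N24772 (iv1 F90527)) (tt N17704 (iv0 D57343)) (tt N28088 F306535) (tt N24537 F90526) (tt N46881 (iv4 F127493)) (tt N52261 (iv5 F148310)) (tt N26099 (iv6 F308350)) (tt N45546 F116561))
theorem Q34956 : ∀ i, i < 34956 → P i := stepQ 34955 Q34955 (allL N34955 (tt N17704 (iv1 D57344)) (tt N24772 F90531) (tt N45546 F116558) (tt N64523 D123198) (tt N45578 (iv4 F116557)) (tt N49548 (iv5 F136817)) (tt N64524 D123199) (tt N28088 F306531))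
theorem Q34957 : ∀ i, i < 34957 → P i := stepQ 34956 Q34956 (allL N34956 (tt N28088 F306528) (tt N45546 F116495) (tt N17704 (iv2 D57345)) (tt N22328 F90528) (tt N22983 F90529) (tt N53554 F306529) (tt N24789 (iv6 F308344)) (tt N24772 F90530))
theorem Q34958 : ∀ i, i < 34958 → P i := stepQ 34957 Q34957 (allL N34957 (tt N28073 (iv1 F310384)) (tt N26070 (iv0 F310383)) (tt N24789 (iv2 F308342)) (tt N17705 F90532) (tt N24549 F308339) (tt N64525 D123203) (tt N17704 (iv6 D57346)) (tt N24791 (iv7 F310385)))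
theorem Q34959 : ∀ i, i < 34959 → P i := stepQ 34958 Q34958 (allL N34958 (tt N64526 D123205) (tt N63986 (iv0 F191993)) (tt N25016 (iv2 F300528)) (tt N64525 (iv3 F197490)) (tt N64527 D123206) (tt N17705 (iv5 D57349)) (tt N64402 (iv6 F196556)) (tt N25018 (iv7 F301761)))
theorem Q34960 : ∀ i, i < 34960 → P i := stepQ 34959 Q34959 (allL N34959 (tt N17706 (iv1 D57351)) (tt N22328 F90535) (tt N17909 (iv2 F90537)) (tt N22306 F90538) (tt N46693 (iv4 F125882)) (tt N42628 (iv5 F106640)) (tt N64528 D123208) (tt N22329 F90536))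
theorem Q34961 : ∀ i, i < 34961 → P i := stepQ 34960 Q34960 (allL N34960 (tt N64529 D123209) (tt N64530 D123210) (tt N28156 F90539) (tt N17707 F90540) (tt N25007 F90541) (tt N64531 D123211) (tt N17706 (iv6 D57352)) (tt N48202 (iv7 F301730)))
theorem Q34962 : ∀ i, i < 34962 → P i := stepQ 34961 Q34961 (allL N34961 (tt N63988 (iv1 F192002)) (tt N23101 (iv0 F301670)) (tt N45550 (iv2 F116507)) (tt N64531 (iv3 F197506)) (tt N64532 D123212) (tt N17707 (iv5 D57355)) (tt N64406 (iv6 F196560)) (tt N48203 (iv7 F301734)))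
theorem Q34963 : ∀ i, i < 34963 → P i := stepQ 34962 Q34962 (allL N34962 (tt N22306 (iv1 F90545)) (tt N17901 (iv0 F90544)) (tt N22305 F90546) (tt N17708 (iv3 D57357)) (tt N35063 (iv4 F90756)) (tt N29556 F90542) (tt N64533 D123213) (tt N22304 F90543))
theorem Q34964 : ∀ i, i < 34964 → P i := stepQ 34963 Q34963 (allL N34963 (tt N64534 D123214) (tt N24999 F337500) (tt N43911 (iv2 F110139)) (tt N64533 (iv3 F197510)) (tt N43900 (iv4 F110096)) (tt N64535 D123216) (tt N17708 (iv6 D57358)) (tt N64536 D123217))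
theorem Q34965 : ∀ i, i < 34965 → P i := stepQ 34964 Q34964 (allL N34964 (tt N24533 F90548) (tt N24537 (iv0 F90549)) (tt N47073 (iv2 F128223)) (tt N17709 (iv3 D57359)) (tt N34609 F90547) (tt N45101 (iv5 F114541)) (tt N64537 D123218) (tt N43910 (iv7 F110137)))
theorem Q34966 : ∀ i, i < 34966 → P i := stepQ 34965 Q34965 (allL N34965 (tt N17811 (iv1 F316730)) (tt N64512 (iv0 F316731)) (tt N45107 (iv2 F114558)) (tt N64537 (iv3 F197512)) (tt N34308 F90550) (tt N64538 D123221) (tt N17709 (iv6 D57360)) (tt N64511 F314377))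
theorem Q34967 : ∀ i, i < 34967 → P i := stepQ 34966 Q34966 (allL N34966 (tt N64539 D123223) (tt N64540 D123224) (tt N17712 F90551) (tt N64429 (iv3 F197046)) (tt N45241 (iv4 F114883)) (tt N64541 D123225) (tt N17710 (iv6 D57361)) (tt N64542 D123226))
theorem Q34968 : ∀ i, i < 34968 → P i := stepQ 34967 Q34967 (allL N34967 (tt N64543 D123227) (tt N64544 D123228) (tt N45207 (iv2 F114793)) (tt N17715 F90552) (tt N34705 F90553) (tt N44329 F329209) (tt N17711 (iv6 D57362)) (tt N64545 D123230))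
theorem Q34969 : ∀ i, i < 34969 → P i := stepQ 34968 Q34968 (allL N34968 (tt N64542 (iv1 F197520)) (tt N17712 (iv0 D57363)) (tt N64539 (iv2 F342346)) (tt N64546 D123232) (tt N64547 D123233) (tt N64548 D123234) (tt N64549 D123235) (tt N64540 (iv7 F356176)))
theorem Q34970 : ∀ i, i < 34970 → P i := stepQ 34969 Q34969 (allL N34969 (tt N17712 (iv1 D57364)) (tt N64542 F197519) (tt N64540 (iv2 F356175)) (tt N64550 D123237) (tt N44549 F314060) (tt N64551 D123239) (tt N64552 D123240) (tt N64539 (iv7 F342347)))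
theorem Q34971 : ∀ i, i < 34971 → P i := stepQ 34970 Q34970 (allL N34970 (tt N64553 D123241) (tt N64554 D123242) (tt N64541 (iv2 F197516)) (tt N17718 F90554) (tt N64555 D123243) (tt N17712 (iv5 D57365)) (tt N44329 (iv6 F328881)) (tt N62287 (iv7 F328883)))
theorem Q34972 : ∀ i, i < 34972 → P i := stepQ 34971 Q34971 (allL N34971 (tt N64540 (iv1 F197515)) (tt N64539 F197518) (tt N64542 (iv2 F197517)) (tt N17719 F90555) (tt N45722 (iv4 F121564)) (tt N62287 (iv5 F328882)) (tt N64279 (iv6 F301621)) (tt N17712 (iv7 D57366)))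
theorem Q34973 : ∀ i, i < 34973 → P i := stepQ 34972 Q34972 (allL N34972 (tt N52261 (iv1 F148313)) (tt N49548 F136819) (tt N45261 (iv2 F114965)) (tt N17713 (iv3 D57367)) (tt N53250 (iv4 F153202)) (tt N24088 F90556) (tt N64556 D123245) (tt N34847 F90557))
theorem Q34974 : ∀ i, i < 34974 → P i := stepQ 34973 Q34973 (allL N34973 (tt N62917 (iv1 F324899)) (tt N63957 (iv0 F355546)) (tt N34852 F90558) (tt N64556 (iv3 F197530)) (tt N34849 F90559) (tt N64557 D123248) (tt N17713 (iv6 D57368)) (tt N64558 D123249))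
theorem Q34975 : ∀ i, i < 34975 → P i := stepQ 34974 Q34974 (allL N34974 (tt N64559 D123250) (tt N64560 D123251) (tt N34849 F90560) (tt N45265 (iv3 F114979)) (tt N34852 F90561) (tt N64561 D123252) (tt N17714 (iv6 D57369)) (tt N64562 D123253))
theorem Q34976 : ∀ i, i < 34976 → P i := stepQ 34975 Q34975 (allL N34975 (tt N31543 (iv1 F329491)) (tt N22711 (iv0 F329488)) (tt N39929 (iv2 F329494)) (tt N64545 (iv3 F197523)) (tt N35070 (iv4 F90771)) (tt N20203 F329214) (tt N38529 F329107) (tt N17715 (iv7 D57373)))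
theorem Q34977 : ∀ i, i < 34977 → P i := stepQ 34976 Q34976 (allL N34976 (tt N28084 (iv1 F310555)) (tt N64524 (iv0 F318849)) (tt N64563 D123270) (tt N17716 (iv3 D57375)) (tt N45538 (iv4 F121528)) (tt N53563 (iv5 F310557)) (tt N64564 D123272) (tt N45616 F121526))
theorem Q34978 : ∀ i, i < 34978 → P i := stepQ 34977 Q34977 (allL N34977 (tt N45380 F302772) (tt N53519 F302773) (tt N58618 F332931) (tt N53563 (iv3 F310556)) (tt N31707 (iv4 F332934)) (tt N17716 (iv5 D57377)) (tt N64565 D123275) (tt N45617 F121527))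
theorem Q34979 : ∀ i, i < 34979 → P i := stepQ 34978 Q34978 (allL N34978 (tt N17816 F121514) (tt N25232 F301699) (tt N25244 F301700) (tt N64564 (iv3 F197556)) (tt N24126 F301701) (tt N63913 (iv5 F191767)) (tt N17716 (iv6 D57378)) (tt N25245 F301702))
theorem Q34980 : ∀ i, i < 34980 → P i := stepQ 34979 Q34979 (allL N34979 (tt N22331 F191057) (tt N64566 D123276) (tt N64567 D123277) (tt N17717 (iv3 D57380)) (tt N64568 D123278) (tt N64569 D123279) (tt N64568 (iv6 F301970)) (tt N64432 (iv7 F197065)))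
theorem Q34981 : ∀ i, i < 34981 → P i := stepQ 34980 Q34980 (allL N34980 (tt N53519 F302774) (tt N45380 F302775) (tt N45617 F121529) (tt N64569 (iv3 F197568)) (tt N31709 (iv4 F332940)) (tt N17717 (iv5 D57382)) (tt N33471 (iv6 F332941)) (tt N58618 F332932))
theorem Q34982 : ∀ i, i < 34982 → P i := stepQ 34981 Q34981 (allL N34981 (tt N17838 F299211) (tt N17847 (iv0 F301573)) (tt N17845 (iv2 F301571)) (tt N64568 (iv3 F301969)) (tt N25979 F299212) (tt N64570 D123285) (tt N17717 (iv6 D57383)) (tt N17844 (iv7 F301569)))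
theorem Q34983 : ∀ i, i < 34983 → P i := stepQ 34982 Q34982 (allL N34982 (tt N64461 (iv1 F345827)) (tt N64346 (iv0 F345824)) (tt N64459 (iv2 F351762)) (tt N17720 (iv3 D57403)) (tt N24621 F121563) (tt N64571 D123303) (tt N64572 D123304) (tt N64433 (iv7 F197086)))
theorem Q34984 : ∀ i, i < 34984 → P i := stepQ 34983 Q34983 (allL N34983 (tt N62424 (iv1 F336657)) (tt N64309 (iv0 F299228)) (tt N24972 (iv2 F121562)) (tt N64571 (iv3 F197592)) (tt N64573 D123306) (tt N17720 (iv5 D57404)) (tt N64574 D123307) (tt N64434 (iv7 F197088)))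
theorem Q34985 : ∀ i, i < 34985 → P i := stepQ 34984 Q34984 (allL N34984 (tt N17800 F121421) (tt N46665 F125741) (tt N24973 (iv2 F121087)) (tt N64572 (iv3 F197593)) (tt N17722 F90582) (tt N63931 F191844) (tt N17720 (iv6 D57405)) (tt N25250 F302098))
theorem Q34986 : ∀ i, i < 34986 → P i := stepQ 34985 Q34985 (allL N34985 (tt N64575 D123309) (tt N64576 D123310) (tt N24974 (iv2 F121561)) (tt N64577 D123311) (tt N17721 (iv4 D57408)) (tt N59349 (iv5 F341338)) (tt N25030 F302042) (tt N59520 (iv7 F360044)))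
theorem Q34987 : ∀ i, i < 34987 → P i := stepQ 34986 Q34986 (allL N34986 (tt N64309 (iv1 F299229)) (tt N62424 (iv0 F336656)) (tt N64434 (iv2 F197087)) (tt N54160 (iv3 F310330)) (tt N64578 D123314) (tt N17723 (iv5 D57420)) (tt N59273 (iv6 F342825)) (tt N24972 F121101))
theorem Q34988 : ∀ i, i < 34988 → P i := stepQ 34987 Q34987 (allL N34987 (tt N64576 (iv1 F197607)) (tt N64575 F197604) (tt N59520 (iv2 F360041)) (tt N58094 (iv3 F366059)) (tt N17724 (iv4 D57422)) (tt N59348 (iv5 F341342)) (tt N58091 (iv6 F324541)) (tt N24974 F121102))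
theorem Q34989 : ∀ i, i < 34989 → P i := stepQ 34988 Q34988 (allL N34988 (tt N35903 (iv1 F324424)) (tt N17829 (iv0 F90600)) (tt N31104 (iv2 F324423)) (tt N17862 F121103) (tt N58091 (iv4 F324540)) (tt N25316 F299811) (tt N17724 (iv6 D57423)) (tt N25029 F299812))
theorem Q34990 : ∀ i, i < 34990 → P i := stepQ 34989 Q34989 (allL N34989 (tt N45339 F115352) (tt N23103 (iv0 F301550)) (tt N17852 F299758) (tt N17863 F121104) (tt N64579 D123323) (tt N17725 (iv5 D57426)) (tt N25316 F299759) (tt N17849 (iv7 F301580)))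
theorem Q34991 : ∀ i, i < 34991 → P i := stepQ 34990 Q34990 (allL N34990 (tt N46737 (iv1 F300471)) (tt N35233 F121570) (tt N24981 (iv2 F121568)) (tt N64580 D123325) (tt N17726 (iv4 D57430)) (tt N57992 (iv5 F341298)) (tt N35021 (iv6 F90688)) (tt N34799 F299590))
theorem Q34992 : ∀ i, i < 34992 → P i := stepQ 34991 Q34991 (allL N34991 (tt N31743 F343726) (tt N17727 (iv0 D57436)) (tt N64435 F197112) (tt N31708 F326030) (tt N31917 F326031) (tt N59489 (iv5 F343732)) (tt N48263 F299743) (tt N45506 F299744))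
theorem Q34993 : ∀ i, i < 34993 → P i := stepQ 34992 Q34992 (allL N34992 (tt N17727 (iv1 D57437)) (tt N31743 F343725) (tt N45506 (iv2 F297553)) (tt N64581 D123332) (tt N27973 F297176) (tt N30833 (iv5 F343731)) (tt N25367 (iv6 F297483)) (tt N64435 (iv7 F197113)))
theorem Q34994 : ∀ i, i < 34994 → P i := stepQ 34993 Q34993 (allL N34993 (tt N64582 D123335) (tt N64583 D123336) (tt N64584 D123337) (tt N17727 (iv3 D57438)) (tt N64521 (iv4 F197479)) (tt N64585 D123338) (tt N34459 F90621) (tt N64586 D123339))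
theorem Q34995 : ∀ i, i < 34995 → P i := stepQ 34994 Q34994 (allL N34994 (tt N31708 F343739) (tt N31706 (iv0 F343754)) (tt N31744 F343740) (tt N64585 (iv3 F197650)) (tt N35655 (iv4 F343756)) (tt N17727 (iv5 D57439)) (tt N31754 (iv6 F343757)) (tt N31618 F343741))
theorem Q34996 : ∀ i, i < 34996 → P i := stepQ 34995 Q34995 (allL N34995 (tt N45506 F299702) (tt N64435 F197114) (tt N31743 F343727) (tt N64586 (iv3 F197651)) (tt N17728 F90622) (tt N31618 (iv5 F343733)) (tt N31226 F325612) (tt N17727 (iv7 D57440)))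
theorem Q34997 : ∀ i, i < 34997 → P i := stepQ 34996 Q34996 (allL N34996 (tt N46129 (iv1 F121672)) (tt N17729 (iv0 D57446)) (tt N46128 F121674) (tt N25828 F90633) (tt N64462 (iv4 F197271)) (tt N19098 (iv5 F303905)) (tt N35490 (iv6 F303906)) (tt N21605 (iv7 F303475)))
theorem Q34998 : ∀ i, i < 34998 → P i := stepQ 34997 Q34997 (allL N34997 (tt N17729 (iv1 D57447)) (tt N46129 F121677) (tt N21605 (iv2 F303473)) (tt N52876 (iv3 F151770)) (tt N64447 (iv4 F197199)) (tt N19099 (iv5 F303908)) (tt N21584 (iv6 F303909)) (tt N46128 F121675))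
theorem Q34999 : ∀ i, i < 34999 → P i := stepQ 34998 Q34998 (allL N34998 (tt N46128 (iv1 F121673)) (tt N21605 (iv0 F303471)) (tt N17729 (iv2 D57448)) (tt N42994 (iv3 F107862)) (tt N17733 F90634) (tt N42800 (iv5 F303912)) (tt N18618 (iv6 F303913)) (tt N46129 (iv7 F121671)))
theorem Q35000 : ∀ i, i < 35000 → P i := stepQ 34999 Q34999 (allL N34999 (tt N42759 (iv1 F303914)) (tt N42756 (iv0 F303915)) (tt N42800 (iv2 F303910)) (tt N17730 F90635) (tt N47161 (iv4 F128410)) (tt N17729 (iv5 D57449)) (tt N47385 (iv6 F310549)) (tt N42801 (iv7 F301196)))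
theorem Q35001 : ∀ i, i < 35001 → P i := stepQ 35000 Q35000 (allL N35000 (tt N45592 F307906) (tt N45593 F307907) (tt N41335 F301129) (tt N47385 F312771) (tt N46369 (iv4 F123120)) (tt N18621 (iv5 F303923)) (tt N17730 (iv6 D57451)) (tt N37527 (iv7 F303924)))
theorem Q35002 : ∀ i, i < 35002 → P i := stepQ 35001 Q35001 (allL N35001 (tt N64523 F197486) (tt N64587 D123377) (tt N22301 F90644) (tt N17731 (iv3 D57470)) (tt N35043 F90726) (tt N64424 (iv5 F196843)) (tt N37469 (iv6 F311649)) (tt N64428 (iv7 F197038)))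
theorem Q35003 : ∀ i, i < 35003 → P i := stepQ 35002 Q35002 (allL N35002 (tt N63720 (iv1 F188948)) (tt N22402 F304444) (tt N22428 F90645) (tt N42464 F106241) (tt N17731 (iv4 D57471)) (tt N42463 (iv5 F106242)) (tt N64588 D123379) (tt N56103 (iv7 F162660)))
theorem Q35004 : ∀ i, i < 35004 → P i := stepQ 35003 Q35003 (allL N35003 (tt N48206 (iv1 F305159)) (tt N17814 (iv0 F199797)) (tt N48205 (iv2 F305127)) (tt N37469 F313354) (tt N64588 (iv4 F197753)) (tt N64589 D123382) (tt N17731 (iv6 D57473)) (tt N48204 (iv7 F305157)))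
theorem Q35005 : ∀ i, i < 35005 → P i := stepQ 35004 Q35004 (allL N35004 (tt N21601 F304445) (tt N21583 F304446) (tt N21598 F304447) (tt N22303 F90648) (tt N22434 (iv4 F305184)) (tt N64590 D123385) (tt N17732 (iv6 D57475)) (tt N21599 F304448))
theorem Q35006 : ∀ i, i < 35006 → P i := stepQ 35005 Q35005 (allL N35005 (tt N34878 (iv1 F94774)) (tt N34876 F94773) (tt N17734 F90649) (tt N21961 F90650) (tt N52181 (iv4 F147903)) (tt N17733 (iv5 D57476)) (tt N64591 D123387) (tt N45206 (iv7 F114790)))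
theorem Q35007 : ∀ i, i < 35007 → P i := stepQ 35006 Q35006 (allL N35006 (tt N21596 F304385) (tt N56145 F304386) (tt N17735 F90651) (tt N64437 (iv3 F197122)) (tt N18618 F304387) (tt N64592 D123390) (tt N17733 (iv6 D57477)) (tt N56143 F304388))
theorem Q35008 : ∀ i, i < 35008 → P i := stepQ 35007 Q35007 (allL N35007 (tt N45206 (iv1 F114792)) (tt N17734 (iv0 D57478)) (tt N34878 (iv2 F94619)) (tt N64593 D123392) (tt N46107 (iv4 F120313)) (tt N34486 F94620) (tt N62927 (iv6 F312097)) (tt N34876 (iv7 F94621)))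
theorem Q35009 : ∀ i, i < 35009 → P i := stepQ 35008 Q35008 (allL N35008 (tt N24302 F90653) (tt N52180 (iv0 F147892)) (tt N52181 F147904) (tt N35047 (iv3 F90734)) (tt N17734 (iv4 D57480)) (tt N24288 (iv5 F90652)) (tt N64594 D123395) (tt N52182 (iv7 F147907)))
theorem Q35010 : ∀ i, i < 35010 → P i := stepQ 35009 Q35009 (allL N35009 (tt N38543 (iv1 F328722)) (tt N38547 (iv0 F328723)) (tt N64591 (iv2 F197759)) (tt N17736 F90654) (tt N64594 (iv4 F197780)) (tt N36939 F328335) (tt N17734 (iv6 D57481)) (tt N64595 D123399))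
theorem Q35011 : ∀ i, i < 35011 → P i := stepQ 35010 Q35010 (allL N35010 (tt N17735 (iv1 D57483)) (tt N56143 F304382) (tt N56145 F304383) (tt N22312 F191337) (tt N22398 (iv4 F306409)) (tt N39831 F338403) (tt N25236 (iv6 F306355)) (tt N21596 F304384))
theorem Q35012 : ∀ i, i < 35012 → P i := stepQ 35011 Q35011 (allL N35011 (tt N64596 D123407) (tt N64597 D123408) (tt N64592 (iv2 F197762)) (tt N17739 F90655) (tt N36941 (iv4 F328726)) (tt N17735 (iv5 D57484)) (tt N36939 F328336) (tt N56146 F304389))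
theorem Q35013 : ∀ i, i < 35013 → P i := stepQ 35012 Q35012 (allL N35012 (tt N38419 (iv1 F328719)) (tt N37711 (iv0 F328716)) (tt N38529 (iv2 F328720)) (tt N64595 (iv3 F197783)) (tt N35053 (iv4 F90739)) (tt N18948 F328340) (tt N39929 F329677) (tt N17736 (iv7 D57489)))
theorem Q35014 : ∀ i, i < 35014 → P i := stepQ 35013 Q35013 (allL N35013 (tt N48783 (iv1 F301612)) (tt N64528 (iv0 F268332)) (tt N26093 (iv2 F301615)) (tt N17737 (iv3 D57491)) (tt N25015 (iv4 F120844)) (tt N64598 D123428) (tt N17841 F298964) (tt N64441 (iv7 F197142)))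
theorem Q35015 : ∀ i, i < 35015 → P i := stepQ 35014 Q35014 (allL N35014 (tt N64599 D123431) (tt N38585 F326603) (tt N25009 F298969) (tt N64598 (iv3 F197802)) (tt N57719 (iv4 F327345)) (tt N17737 (iv5 D57493)) (tt N28058 (iv6 F301633)) (tt N19719 F326604))
theorem Q35016 : ∀ i, i < 35016 → P i := stepQ 35015 Q35015 (allL N35015 (tt N38585 F326577) (tt N64599 F197811) (tt N19719 F326578) (tt N28092 (iv3 F301984)) (tt N18694 (iv4 F327316)) (tt N17738 (iv5 D57498)) (tt N18693 F326579) (tt N25009 F299217))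
theorem Q35017 : ∀ i, i < 35017 → P i := stepQ 35016 Q35016 (allL N35016 (tt N64280 F304380) (tt N17739 (iv0 D57500)) (tt N64442 (iv2 F197156)) (tt N64600 D123443) (tt N64601 D123444) (tt N64602 D123445) (tt N64603 D123446) (tt N64443 F197157))
theorem Q35018 : ∀ i, i < 35018 → P i := stepQ 35017 Q35017 (allL N35017 (tt N17739 (iv1 D57501)) (tt N64280 F302127) (tt N64443 F197148) (tt N64604 D123447) (tt N64605 D123448) (tt N34809 F302128) (tt N64606 D123449) (tt N64442 (iv7 F197154)))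
theorem Q35019 : ∀ i, i < 35019 → P i := stepQ 35018 Q35018 (allL N35018 (tt N64443 (iv1 F197146)) (tt N64442 F197152) (tt N64280 (iv2 F301623)) (tt N56146 (iv3 F301979)) (tt N38137 (iv4 F328257)) (tt N17740 F90661) (tt N38257 (iv6 F328258)) (tt N17739 (iv7 D57503)))
theorem Q35020 : ∀ i, i < 35020 → P i := stepQ 35019 Q35019 (allL N35019 (tt N54122 (iv1 F304186)) (tt N54121 (iv0 F304185)) (tt N54124 (iv2 F304187)) (tt N17741 (iv3 D57537)) (tt N24677 F121577) (tt N64607 D123472) (tt N25228 (iv6 F301584)) (tt N24360 F301409))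
theorem Q35021 : ∀ i, i < 35021 → P i := stepQ 35020 Q35020 (allL N35020 (tt N64278 (iv1 F302517)) (tt N64277 (iv0 F302515)) (tt N19706 F327645) (tt N64607 (iv3 F197880)) (tt N19659 F327646) (tt N17741 (iv5 D57538)) (tt N19658 (iv6 F328120)) (tt N24362 F301410))
theorem Q35022 : ∀ i, i < 35022 → P i := stepQ 35021 Q35021 (allL N35021 (tt N64283 F301419) (tt N64282 F301420) (tt N25042 F121569) (tt N64608 D123476) (tt N17742 (iv4 D57540)) (tt N39909 F341280) (tt N34990 F90688) (tt N24364 F301421))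
theorem Q35023 : ∀ i, i < 35023 → P i := stepQ 35022 Q35022 (allL N35022 (tt N59955 (iv1 F326114)) (tt N63882 (iv0 F191533)) (tt N64444 (iv2 F197170)) (tt N58102 (iv3 F353061)) (tt N17743 (iv4 D57545)) (tt N64609 D123479) (tt N64610 D123480) (tt N25044 F121126))
theorem Q35024 : ∀ i, i < 35024 → P i := stepQ 35023 Q35023 (allL N35023 (tt N24366 F296424) (tt N25037 (iv0 F297659)) (tt N25317 (iv2 F297657)) (tt N17891 F121131) (tt N64610 (iv4 F197892)) (tt N25029 (iv5 F297628)) (tt N17743 (iv6 D57547)) (tt N25316 (iv7 F297655)))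
theorem Q35025 : ∀ i, i < 35025 → P i := stepQ 35024 Q35024 (allL N35024 (tt N63882 (iv1 F191532)) (tt N59955 (iv0 F326113)) (tt N25044 F121549) (tt N64611 D123482) (tt N17744 (iv4 D57550)) (tt N64612 D123483) (tt N64613 D123484) (tt N64444 (iv7 F197171)))
theorem Q35026 : ∀ i, i < 35026 → P i := stepQ 35025 Q35025 (allL N35025 (tt N23103 (iv1 F301551)) (tt N45339 (iv0 F115346)) (tt N17849 (iv2 F301577)) (tt N24583 F299750) (tt N64613 (iv4 F197899)) (tt N17839 F299751) (tt N17744 (iv6 D57551)) (tt N17852 F299752))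
theorem Q35027 : ∀ i, i < 35027 → P i := stepQ 35026 Q35026 (allL N35026 (tt N39907 F341387) (tt N17745 (iv0 D57552)) (tt N59410 (iv2 F325344)) (tt N64614 D123485) (tt N58699 (iv4 F325340)) (tt N64615 D123487) (tt N58698 (iv6 F324530)) (tt N64445 (iv7 F197183)))
theorem Q35028 : ∀ i, i < 35028 → P i := stepQ 35027 Q35027 (allL N35027 (tt N17745 (iv1 D57553)) (tt N39907 F341386) (tt N64445 F197184) (tt N30900 F326226) (tt N31107 F326227) (tt N64616 D123490) (tt N45612 (iv6 F301968)) (tt N59410 F326228))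
theorem Q35029 : ∀ i, i < 35029 → P i := stepQ 35028 Q35028 (allL N35028 (tt N64617 D123492) (tt N64618 D123493) (tt N64619 D123494) (tt N17745 (iv3 D57554)) (tt N25279 F301728) (tt N64620 D123495) (tt N34467 F90703) (tt N64621 D123496))
theorem Q35030 : ∀ i, i < 35030 → P i := stepQ 35029 Q35029 (allL N35029 (tt N33223 F341360) (tt N39906 (iv0 F341370)) (tt N39908 (iv2 F341369)) (tt N64620 (iv3 F197910)) (tt N30750 (iv4 F341372)) (tt N17745 (iv5 D57555)) (tt N57737 (iv6 F341373)) (tt N30748 (iv7 F341368)))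
theorem Q35031 : ∀ i, i < 35031 → P i := stepQ 35030 Q35030 (allL N35030 (tt N64445 (iv1 F197182)) (tt N59410 (iv0 F325342)) (tt N39907 (iv2 F341380)) (tt N64621 (iv3 F197911)) (tt N17746 F90704) (tt N30748 F341374) (tt N59746 (iv6 F324428)) (tt N17745 (iv7 D57556)))
theorem Q35032 : ∀ i, i < 35032 → P i := stepQ 35031 Q35031 (allL N35031 (tt N25029 F299813) (tt N31104 (iv0 F324421)) (tt N35903 (iv2 F324425)) (tt N17986 F299814) (tt N59746 (iv4 F324427)) (tt N31756 F323028) (tt N17746 (iv6 D57557)) (tt N17829 F90705))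
theorem Q35033 : ∀ i, i < 35033 → P i := stepQ 35032 Q35032 (allL N35032 (tt N17769 (iv1 F90711)) (tt N22359 (iv0 F90710)) (tt N22357 (iv2 F90708)) (tt N17747 (iv3 D57559)) (tt N25439 F90707) (tt N42963 (iv5 F107809)) (tt N47450 F348221) (tt N22358 (iv7 F90709)))
theorem Q35034 : ∀ i, i < 35034 → P i := stepQ 35033 Q35033 (allL N35033 (tt N64622 D123504) (tt N47689 F129495) (tt N47672 F129401) (tt N64623 D123505) (tt N17747 (iv4 D57560)) (tt N64624 D123506) (tt N64625 D123507) (tt N64451 (iv7 F197232)))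
theorem Q35035 : ∀ i, i < 35035 → P i := stepQ 35034 Q35034 (allL N35034 (tt N61044 F177740) (tt N17782 F107813) (tt N45280 (iv2 F115004)) (tt N42963 F107814) (tt N45297 (iv4 F115068)) (tt N17747 (iv5 D57561)) (tt N64626 D123508) (tt N63920 (iv7 F191796)))
theorem Q35036 : ∀ i, i < 35036 → P i := stepQ 35035 Q35035 (allL N35035 (tt N64627 D123509) (tt N48438 (iv0 F348256)) (tt N64452 (iv2 F197236)) (tt N47450 F348219) (tt N64625 (iv4 F197932)) (tt N64628 D123511) (tt N17747 (iv6 D57562)) (tt N64629 D123512))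
theorem Q35037 : ∀ i, i < 35037 → P i := stepQ 35036 Q35036 (allL N35036 (tt N47833 (iv1 F129884)) (tt N47836 (iv0 F129897)) (tt N45278 (iv2 F114996)) (tt N17748 (iv3 D57563)) (tt N28285 F90717) (tt N21666 (iv5 F90718)) (tt N64630 D123513) (tt N45281 (iv7 F115012)))
theorem Q35038 : ∀ i, i < 35038 → P i := stepQ 35037 Q35037 (allL N35037 (tt N47689 F129494) (tt N64622 F197923) (tt N64451 (iv2 F197231)) (tt N28286 (iv3 F90716)) (tt N17748 (iv4 D57564)) (tt N51991 (iv5 F147545)) (tt N57430 (iv6 F313000)) (tt N47672 (iv7 F129400)))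
theorem Q35039 : ∀ i, i < 35039 → P i := stepQ 35038 Q35038 (allL N35038 (tt N17782 F90874) (tt N61044 (iv0 F177739)) (tt N63920 F191794) (tt N21666 F90719) (tt N21668 (iv4 F90720)) (tt N17748 (iv5 D57565)) (tt N34340 (iv6 F312490)) (tt N45280 (iv7 F115006)))
theorem Q35040 : ∀ i, i < 35040 → P i := stepQ 35039 Q35039 (allL N35039 (tt N17793 (iv1 F316651)) (tt N19021 (iv0 F314894)) (tt N38295 F312441) (tt N64630 (iv3 F197933)) (tt N57430 (iv4 F312999)) (tt N64631 D123518) (tt N17748 (iv6 D57566)) (tt N38294 (iv7 F314897)))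
theorem Q35041 : ∀ i, i < 35041 → P i := stepQ 35040 Q35040 (allL N35040 (tt N46105 (iv1 F120275)) (tt N21420 F309600) (tt N17750 F90721) (tt N37373 F309601) (tt N17749 (iv4 D57567)) (tt N45295 (iv5 F115052)) (tt N62564 (iv6 F312428)) (tt N46104 (iv7 F120270)))
theorem Q35042 : ∀ i, i < 35042 → P i := stepQ 35041 Q35041 (allL N35041 (tt N42247 F309435) (tt N42235 F309436) (tt N17751 F90723) (tt N32675 F90724) (tt N61350 (iv4 F178661)) (tt N17749 (iv5 D57568)) (tt N64632 D123521) (tt N42246 (iv7 F311637)))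
theorem Q35043 : ∀ i, i < 35043 → P i := stepQ 35042 Q35042 (allL N35042 (tt N64633 D123522) (tt N64634 D123523) (tt N17752 F90725) (tt N64449 (iv3 F197204)) (tt N62564 (iv4 F312427)) (tt N64635 D123524) (tt N17749 (iv6 D57569)) (tt N64636 D123525))
theorem Q35044 : ∀ i, i < 35044 → P i := stepQ 35043 Q35043 (allL N35043 (tt N17750 (iv1 D57570)) (tt N46104 F120269) (tt N21420 (iv2 F309411)) (tt N44492 (iv3 F309434)) (tt N35001 (iv4 F90726)) (tt N21413 F307413) (tt N19020 (iv6 F309441)) (tt N46105 (iv7 F120274)))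
theorem Q35045 : ∀ i, i < 35045 → P i := stepQ 35044 Q35044 (allL N35044 (tt N21668 F90729) (tt N45297 F115072) (tt N45295 F115054) (tt N24228 F90728) (tt N53552 (iv4 F302985)) (tt N17750 (iv5 D57571)) (tt N64637 D123528) (tt N45296 (iv7 F115055)))
theorem Q35046 : ∀ i, i < 35046 → P i := stepQ 35045 Q35045 (allL N35045 (tt N43991 F121503) (tt N64638 D123529) (tt N62564 (iv2 F312426)) (tt N24229 F90730) (tt N17752 F90731) (tt N63501 (iv5 F311807)) (tt N17750 (iv6 D57572)) (tt N64639 D123531))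
theorem Q35047 : ∀ i, i < 35047 → P i := stepQ 35046 Q35046 (allL N35046 (tt N42246 (iv1 F311634)) (tt N17751 (iv0 D57573)) (tt N42247 F309416) (tt N43033 F107990) (tt N42238 F309417) (tt N34493 (iv5 F106842)) (tt N64640 D123532) (tt N42235 F309418))
theorem Q35048 : ∀ i, i < 35048 → P i := stepQ 35047 Q35047 (allL N35047 (tt N64624 (iv1 F197930)) (tt N51991 F187342) (tt N61350 (iv2 F178660)) (tt N35008 F90734) (tt N17751 (iv4 D57575)) (tt N46589 (iv5 F125560)) (tt N64641 D123534) (tt N64453 (iv7 F197241)))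
theorem Q35049 : ∀ i, i < 35049 → P i := stepQ 35048 Q35048 (allL N35048 (tt N64642 D123535) (tt N64643 D123536) (tt N64632 (iv2 F197941)) (tt N17753 F90735) (tt N64641 (iv4 F197964)) (tt N39862 (iv5 F329113)) (tt N17751 (iv6 D57576)) (tt N64644 D123538))
theorem Q35050 : ∀ i, i < 35050 → P i := stepQ 35049 Q35049 (allL N35049 (tt N64636 (iv1 F197948)) (tt N17752 (iv0 D57577)) (tt N64633 (iv2 F359914)) (tt N64645 D123540) (tt N64646 D123541) (tt N64647 D123542) (tt N64648 D123543) (tt N64634 (iv7 F359913)))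
theorem Q35051 : ∀ i, i < 35051 → P i := stepQ 35050 Q35050 (allL N35050 (tt N17752 (iv1 D57578)) (tt N64636 F197947) (tt N64634 (iv2 F359911)) (tt N64649 D123545) (tt N64650 D123546) (tt N64651 D123547) (tt N64652 D123548) (tt N64633 (iv7 F359915)))
theorem Q35052 : ∀ i, i < 35052 → P i := stepQ 35051 Q35051 (allL N35051 (tt N64653 D123549) (tt N64654 D123550) (tt N64635 (iv2 F197944)) (tt N17754 F90736) (tt N64655 D123551) (tt N17752 (iv5 D57579)) (tt N39862 F329437) (tt N64656 D123552))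
theorem Q35053 : ∀ i, i < 35053 → P i := stepQ 35052 Q35052 (allL N35052 (tt N64634 (iv1 F197943)) (tt N64633 F197946) (tt N64636 (iv2 F197945)) (tt N17755 F90737) (tt N64639 (iv4 F197958)) (tt N64656 (iv5 F197972)) (tt N64275 (iv6 F299218)) (tt N17752 (iv7 D57580)))
theorem Q35054 : ∀ i, i < 35054 → P i := stepQ 35053 Q35053 (allL N35053 (tt N31578 (iv1 F329101)) (tt N31581 (iv0 F329098)) (tt N39859 (iv2 F329105)) (tt N64644 (iv3 F197967)) (tt N35012 F90739) (tt N19702 (iv5 F329118)) (tt N38495 F329774) (tt N17753 (iv7 D57584)))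
theorem Q35055 : ∀ i, i < 35055 → P i := stepQ 35054 Q35054 (allL N35054 (tt N34796 F299252) (tt N36068 (iv0 F329223)) (tt N33273 (iv2 F329216)) (tt N64656 (iv3 F197971)) (tt N31676 F328890) (tt N17755 F90742) (tt N64657 D123576) (tt N17754 (iv7 D57598)))
theorem Q35056 : ∀ i, i < 35056 → P i := stepQ 35055 Q35055 (allL N35055 (tt N64345 F196221) (tt N43847 F305585) (tt N64462 F197273) (tt N17756 (iv3 D57600)) (tt N46128 F121669) (tt N45283 F115018) (tt N48240 (iv6 F307615)) (tt N64447 (iv7 F197197)))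
theorem Q35057 : ∀ i, i < 35057 → P i := stepQ 35056 Q35056 (allL N35056 (tt N36569 (iv1 F94816)) (tt N22294 F94813) (tt N36568 (iv2 F94809)) (tt N64658 D123578) (tt N17756 (iv4 D57601)) (tt N50746 (iv5 F142222)) (tt N64659 D123579) (tt N36567 F94812))
theorem Q35058 : ∀ i, i < 35058 → P i := stepQ 35057 Q35057 (allL N35057 (tt N55765 (iv1 F161598)) (tt N17784 F90744) (tt N49652 (iv2 F308354)) (tt N45283 (iv3 F115017)) (tt N29590 F90745) (tt N17756 (iv5 D57602)) (tt N64660 D123580) (tt N50289 (iv7 F139424)))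
theorem Q35059 : ∀ i, i < 35059 → P i := stepQ 35058 Q35058 (allL N35058 (tt N38008 F314250) (tt N17797 (iv0 F311808)) (tt N64448 (iv2 F197201)) (tt N48240 F309602) (tt N64659 (iv4 F197997)) (tt N64661 D123583) (tt N17756 (iv6 D57603)) (tt N64497 (iv7 F311810)))
theorem Q35060 : ∀ i, i < 35060 → P i := stepQ 35059 Q35059 (allL N35059 (tt N22294 F90747) (tt N36569 F94817) (tt N36567 F94811) (tt N47033 (iv3 F128071)) (tt N17757 (iv4 D57606)) (tt N61041 (iv5 F177726)) (tt N47188 (iv6 F305788)) (tt N36568 (iv7 F94810)))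
theorem Q35061 : ∀ i, i < 35061 → P i := stepQ 35060 Q35060 (allL N35060 (tt N17784 F92115) (tt N55765 (iv0 F161597)) (tt N50289 (iv2 F139422)) (tt N49403 F307498) (tt N26936 F92116) (tt N17757 (iv5 D57607)) (tt N27116 F92117) (tt N49652 (iv7 F308358)))
theorem Q35062 : ∀ i, i < 35062 → P i := stepQ 35061 Q35061 (allL N35061 (tt N43649 F109353) (tt N32889 F90751) (tt N17759 F90750) (tt N48388 (iv3 F132295)) (tt N17758 (iv4 D57609)) (tt N43256 (iv5 F108424)) (tt N54248 (iv6 F302339)) (tt N47532 F317575))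
theorem Q35063 : ∀ i, i < 35063 → P i := stepQ 35062 Q35062 (allL N35062 (tt N47532 (iv1 F315364)) (tt N17759 (iv0 D57611)) (tt N43649 (iv2 F109350)) (tt N23847 F90754) (tt N35339 (iv4 F92112)) (tt N23177 F90753) (tt N37427 F313066) (tt N32889 (iv7 F90755)))
theorem Q35064 : ∀ i, i < 35064 → P i := stepQ 35063 Q35063 (allL N35063 (tt N17759 (iv1 D57612)) (tt N47532 (iv0 F315363)) (tt N32889 (iv2 F90757)) (tt N64662 D123597) (tt N34962 F90756) (tt N32885 (iv5 F90758)) (tt N64663 D123598) (tt N43649 (iv7 F109351)))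
theorem Q35065 : ∀ i, i < 35065 → P i := stepQ 35064 Q35064 (allL N35064 (tt N24692 F331906) (tt N64664 D123600) (tt N54248 (iv2 F302338)) (tt N23441 F90759) (tt N17761 F90760) (tt N64665 D123601) (tt N17759 (iv6 D57613)) (tt N24836 (iv7 F301547)))
theorem Q35066 : ∀ i, i < 35066 → P i := stepQ 35065 Q35065 (allL N35065 (tt N32675 (iv1 F90763)) (tt N17760 (iv0 D57614)) (tt N61025 F177694) (tt N42808 (iv3 F305557)) (tt N34063 F90762) (tt N34498 F90761) (tt N64666 D123603) (tt N55797 (iv7 F161804)))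
theorem Q35067 : ∀ i, i < 35067 → P i := stepQ 35066 Q35066 (allL N35066 (tt N17760 (iv1 D57615)) (tt N32675 F90764) (tt N55797 (iv2 F161803)) (tt N26175 (iv3 F304276)) (tt N42731 F107030) (tt N26173 F301487) (tt N64667 D123604) (tt N61025 (iv7 F177690)))
theorem Q35068 : ∀ i, i < 35068 → P i := stepQ 35067 Q35067 (allL N35067 (tt N64668 D123605) (tt N64669 D123606) (tt N61031 (iv2 F177705)) (tt N17762 F90766) (tt N32674 F90767) (tt N64670 D123607) (tt N17760 (iv6 D57616)) (tt N64671 D123608))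
theorem Q35069 : ∀ i, i < 35069 → P i := stepQ 35068 Q35068 (allL N35068 (tt N64672 D123619) (tt N64673 D123620) (tt N54249 (iv2 F304602)) (tt N17763 F90768) (tt N64674 D123621) (tt N17761 (iv5 D57619)) (tt N64670 (iv6 F198025)) (tt N54245 (iv7 F304180)))
theorem Q35070 : ∀ i, i < 35070 → P i := stepQ 35069 Q35069 (allL N35069 (tt N19532 (iv1 F329633)) (tt N19531 (iv0 F329634)) (tt N19553 F329408) (tt N64670 (iv3 F198024)) (tt N19675 F329409) (tt N17762 (iv5 D57623)) (tt N17763 F90770) (tt N19554 (iv7 F329638)))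
theorem Q35071 : ∀ i, i < 35071 → P i := stepQ 35070 Q35070 (allL N35070 (tt N30867 (iv1 F329642)) (tt N38414 (iv0 F329639)) (tt N38495 (iv2 F329645)) (tt N64671 (iv3 F198026)) (tt N34975 F90771) (tt N19554 (iv5 F329637)) (tt N39859 F329428) (tt N17762 (iv7 D57624)))
theorem Q35072 : ∀ i, i < 35072 → P i := stepQ 35071 Q35071 (allL N35071 (tt N64276 (iv1 F299219)) (tt N17763 (iv0 D57635)) (tt N64457 F197258) (tt N64675 D123637) (tt N38135 F329108) (tt N46664 F125737) (tt N64676 D123638) (tt N46663 (iv7 F125739)))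
theorem Q35073 : ∀ i, i < 35073 → P i := stepQ 35072 Q35072 (allL N35072 (tt N17763 (iv1 D57636)) (tt N64276 F301990) (tt N46663 (iv2 F125733)) (tt N64677 D123639) (tt N38136 F329109) (tt N34817 F301991) (tt N64678 D123640) (tt N64457 (iv7 F197259)))
theorem Q35074 : ∀ i, i < 35074 → P i := stepQ 35073 Q35073 (allL N35073 (tt N64679 D123641) (tt N64680 D123642) (tt N37653 (iv2 F329062)) (tt N64681 D123643) (tt N17763 (iv4 D57637)) (tt N19674 (iv5 F329395)) (tt N19675 (iv6 F329396)) (tt N64682 D123645))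
theorem Q35075 : ∀ i, i < 35075 → P i := stepQ 35074 Q35074 (allL N35074 (tt N46663 (iv1 F125734)) (tt N64457 F197260) (tt N64276 F301405) (tt N54245 (iv3 F304179)) (tt N64682 (iv4 F198047)) (tt N17764 F90774) (tt N38754 (iv6 F329071)) (tt N17763 (iv7 D57638)))
theorem Q35076 : ∀ i, i < 35076 → P i := stepQ 35075 Q35075 (allL N35075 (tt N17765 (iv1 D57639)) (tt N22349 F90779) (tt N22347 F90812) (tt N64462 (iv3 F197272)) (tt N45526 (iv4 F116269)) (tt N27422 F90810) (tt N54288 (iv6 F309541)) (tt N22348 (iv7 F90811)))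
theorem Q35077 : ∀ i, i < 35077 → P i := stepQ 35076 Q35076 (allL N35076 (tt N22348 (iv1 F90780)) (tt N22347 F90778) (tt N17765 (iv2 D57640)) (tt N22359 F90775) (tt N23559 F90776) (tt N43039 (iv5 F107995)) (tt N53381 (iv6 F307520)) (tt N22349 F90777))
theorem Q35078 : ∀ i, i < 35078 → P i := stepQ 35077 Q35077 (allL N35077 (tt N26175 F304532) (tt N26179 (iv0 F305558)) (tt N43039 (iv2 F107994)) (tt N17767 F90783) (tt N52488 (iv4 F149785)) (tt N17765 (iv5 D57641)) (tt N64683 D123649) (tt N22351 F90784))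
theorem Q35079 : ∀ i, i < 35079 → P i := stepQ 35078 Q35078 (allL N35078 (tt N43704 (iv1 F190960)) (tt N21724 F190034) (tt N18575 F90786) (tt N56121 (iv3 F162780)) (tt N17768 F90787) (tt N18552 F90788) (tt N17766 (iv6 D57643)) (tt N45698 F190969))
theorem Q35080 : ∀ i, i < 35080 → P i := stepQ 35079 Q35079 (allL N35079 (tt N36442 (iv1 F94615)) (tt N36440 (iv0 F94608)) (tt N18563 F90789) (tt N52490 (iv3 F149792)) (tt N17767 (iv4 D57644)) (tt N18549 F90791) (tt N64684 D123654) (tt N18572 F90790))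
theorem Q35081 : ∀ i, i < 35081 → P i := stepQ 35080 Q35080 (allL N35080 (tt N64685 D123655) (tt N59240 (iv0 F336369)) (tt N22363 F90792) (tt N64683 (iv3 F198054)) (tt N64684 (iv4 F198063)) (tt N64686 D123657) (tt N17767 (iv6 D57645)) (tt N64687 D123658))
theorem Q35082 : ∀ i, i < 35082 → P i := stepQ 35081 Q35081 (allL N35081 (tt N22365 (iv1 F90797)) (tt N17768 (iv0 D57646)) (tt N22337 (iv2 F190567)) (tt N64459 (iv3 F351763)) (tt N17904 F190552) (tt N64688 D123659) (tt N54155 (iv6 F308446)) (tt N22340 F190553))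
theorem Q35083 : ∀ i, i < 35083 → P i := stepQ 35082 Q35082 (allL N35082 (tt N54094 (iv1 F306430)) (tt N25815 F304418) (tt N22364 F90794) (tt N53245 (iv3 F306450)) (tt N64689 D123662) (tt N17768 (iv5 D57648)) (tt N64686 (iv6 F198066)) (tt N53953 (iv7 F306428)))
theorem Q35084 : ∀ i, i < 35084 → P i := stepQ 35083 Q35083 (allL N35083 (tt N22340 F190551) (tt N22337 (iv0 F190565)) (tt N22365 F90795) (tt N49590 (iv3 F306919)) (tt N45698 (iv4 F190966)) (tt N53953 (iv5 F306427)) (tt N22356 F90796) (tt N17768 (iv7 D57649)))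
theorem Q35085 : ∀ i, i < 35085 → P i := stepQ 35084 Q35084 (allL N35084 (tt N22359 (iv1 F90802)) (tt N17769 (iv0 D57650)) (tt N22358 (iv2 F90801)) (tt N45278 (iv3 F114997)) (tt N25438 F90800) (tt N42965 (iv5 F107816)) (tt N64690 D123664) (tt N22357 F90803))
theorem Q35086 : ∀ i, i < 35086 → P i := stepQ 35085 Q35085 (allL N35085 (tt N22358 (iv1 F90809)) (tt N22357 F90808) (tt N17769 (iv2 D57651)) (tt N22349 F90804) (tt N22431 F90805) (tt N23221 F90806) (tt N49591 (iv6 F304748)) (tt N22359 F90807))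
theorem Q35087 : ∀ i, i < 35087 → P i := stepQ 35086 Q35086 (allL N35086 (tt N47449 F332408) (tt N53327 (iv0 F332409)) (tt N49591 F304958) (tt N17771 F90816) (tt N43094 (iv4 F108068)) (tt N64691 D123668) (tt N17769 (iv6 D57652)) (tt N53325 (iv7 F348287)))
theorem Q35088 : ∀ i, i < 35088 → P i := stepQ 35087 Q35087 (allL N35087 (tt N36440 (iv1 F94609)) (tt N36442 (iv0 F94614)) (tt N18572 F90817) (tt N22085 F90818) (tt N17770 (iv4 D57653)) (tt N18551 F90819) (tt N64692 D123670) (tt N18563 F90820))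
theorem Q35089 : ∀ i, i < 35089 → P i := stepQ 35088 Q35088 (allL N35088 (tt N38493 F329651) (tt N64693 D123672) (tt N22354 F90821) (tt N43034 (iv3 F107991)) (tt N64692 (iv4 F198096)) (tt N64694 D123673) (tt N17770 (iv6 D57654)) (tt N64695 D123674))
theorem Q35090 : ∀ i, i < 35090 → P i := stepQ 35089 Q35089 (allL N35089 (tt N64675 (iv1 F240103)) (tt N64696 D123678) (tt N22355 F90823) (tt N64691 (iv3 F198091)) (tt N64697 D123679) (tt N17771 (iv5 D57657)) (tt N64694 (iv6 F198099)) (tt N54125 (iv7 F306912)))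
theorem Q35091 : ∀ i, i < 35091 → P i := stepQ 35090 Q35090 (allL N35090 (tt N64698 D123681) (tt N64699 D123682) (tt N17777 F90829) (tt N64468 (iv3 F197283)) (tt N18585 F90830) (tt N64700 D123683) (tt N17772 (iv6 D57659)) (tt N64701 D123684))
theorem Q35092 : ∀ i, i < 35092 → P i := stepQ 35091 Q35091 (allL N35091 (tt N17781 (iv1 F90836)) (tt N17773 (iv0 D57660)) (tt N17778 F191226) (tt N43116 (iv3 F312444)) (tt N25488 (iv4 F90838)) (tt N53475 F304673) (tt N25823 (iv6 F305228)) (tt N17779 F191227))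
theorem Q35093 : ∀ i, i < 35093 → P i := stepQ 35092 Q35092 (allL N35092 (tt N17773 (iv1 D57661)) (tt N17781 F90831) (tt N17779 F191228) (tt N54045 (iv3 F306694)) (tt N39912 F314458) (tt N53474 F304672) (tt N54153 (iv6 F306697)) (tt N17778 F191229))
theorem Q35094 : ∀ i, i < 35094 → P i := stepQ 35093 Q35093 (allL N35093 (tt N48996 F306662) (tt N48998 F306663) (tt N17780 F90832) (tt N64471 (iv3 F197286)) (tt N64702 D123694) (tt N17773 (iv5 D57662)) (tt N64700 (iv6 F198118)) (tt N64703 D123695))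
theorem Q35095 : ∀ i, i < 35095 → P i := stepQ 35094 Q35094 (allL N35094 (tt N17779 (iv1 F90837)) (tt N17778 F90839) (tt N17781 F90833) (tt N64472 (iv3 F197288)) (tt N17918 F90834) (tt N64703 (iv5 F198157)) (tt N22284 F90835) (tt N17773 (iv7 D57663)))
theorem Q35096 : ∀ i, i < 35096 → P i := stepQ 35095 Q35095 (allL N35095 (tt N43427 (iv1 F108824)) (tt N43429 (iv0 F108843)) (tt N18516 F90843) (tt N44773 F303422) (tt N17774 (iv4 D57665)) (tt N18494 F90845) (tt N64704 D123697) (tt N18539 F90844))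
theorem Q35097 : ∀ i, i < 35097 → P i := stepQ 35096 Q35096 (allL N35096 (tt N64705 D123698) (tt N64706 D123699) (tt N22366 F90846) (tt N49657 (iv3 F305477)) (tt N64704 (iv4 F198163)) (tt N64707 D123700) (tt N17774 (iv6 D57666)) (tt N49638 (iv7 F308374)))
theorem Q35098 : ∀ i, i < 35098 → P i := stepQ 35097 Q35097 (allL N35097 (tt N43429 (iv1 F108844)) (tt N43427 (iv0 F108823)) (tt N18539 F90847) (tt N32597 F90848) (tt N17775 (iv4 D57667)) (tt N18518 F90849) (tt N49614 (iv6 F307558)) (tt N18516 F90850))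
theorem Q35099 : ∀ i, i < 35099 → P i := stepQ 35098 Q35098 (allL N35098 (tt N17776 (iv1 D57669)) (tt N18586 F90852) (tt N18584 (iv2 F90855)) (tt N64038 F192364) (tt N22169 (iv4 F90856)) (tt N21795 F90854) (tt N48692 (iv6 F309575)) (tt N18583 F90853))
theorem Q35100 : ∀ i, i < 35100 → P i := stepQ 35099 Q35099 (allL N35099 (tt N64708 D123708) (tt N64709 D123709) (tt N43601 (iv2 F109240)) (tt N17776 (iv3 D57670)) (tt N17786 F90857) (tt N18554 F90858) (tt N64710 D123710) (tt N22367 F90859))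
theorem Q35101 : ∀ i, i < 35101 → P i := stepQ 35100 Q35100 (allL N35100 (tt N64711 D123711) (tt N64712 D123712) (tt N18585 F90860) (tt N64710 (iv3 F198194)) (tt N17777 F90861) (tt N64713 D123713) (tt N17776 (iv6 D57671)) (tt N64714 D123714))
theorem Q35102 : ∀ i, i < 35102 → P i := stepQ 35101 Q35101 (allL N35101 (tt N64701 (iv1 F198124)) (tt N17777 (iv0 D57672)) (tt N64698 (iv2 F354950)) (tt N64715 D123716) (tt N64716 D123717) (tt N64717 D123718) (tt N64718 D123719) (tt N64699 (iv7 F354953)))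
theorem Q35103 : ∀ i, i < 35103 → P i := stepQ 35102 Q35102 (allL N35102 (tt N17777 (iv1 D57673)) (tt N64701 F198123) (tt N64699 (iv2 F354952)) (tt N64719 D123721) (tt N64720 D123722) (tt N64721 D123723) (tt N64722 D123724) (tt N64698 (iv7 F354951)))
theorem Q35104 : ∀ i, i < 35104 → P i := stepQ 35103 Q35103 (allL N35103 (tt N26735 (iv1 F308579)) (tt N64723 D123726) (tt N64700 (iv2 F198117)) (tt N17790 F90862) (tt N64724 D123727) (tt N17777 (iv5 D57674)) (tt N17780 F90863) (tt N64725 D123728))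
theorem Q35105 : ∀ i, i < 35105 → P i := stepQ 35104 Q35104 (allL N35104 (tt N64699 (iv1 F198116)) (tt N64698 F198122) (tt N64701 (iv2 F198119)) (tt N17791 F90864) (tt N64714 (iv4 F198200)) (tt N64725 (iv5 F198209)) (tt N22372 F90865) (tt N17777 (iv7 D57675)))
theorem Q35106 : ∀ i, i < 35106 → P i := stepQ 35105 Q35105 (allL N35105 (tt N44370 F312248) (tt N20264 F312249) (tt N25488 F191230) (tt N64726 D123735) (tt N17778 (iv4 D57678)) (tt N22667 F312250) (tt N52389 (iv6 F305227)) (tt N39912 F312251))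
theorem Q35107 : ∀ i, i < 35107 → P i := stepQ 35106 Q35106 (allL N35106 (tt N25800 F304654) (tt N53477 F304655) (tt N53475 F304656) (tt N53274 (iv3 F306667)) (tt N62201 (iv4 F331047)) (tt N17778 (iv5 D57679)) (tt N62200 (iv6 F331050)) (tt N53474 F304657))
theorem Q35108 : ∀ i, i < 35108 → P i := stepQ 35107 Q35107 (allL N35107 (tt N64690 (iv1 F311848)) (tt N64727 D123747) (tt N64728 D123748) (tt N17779 (iv3 D57682)) (tt N43118 F314459) (tt N64729 D123750) (tt N64730 D123751) (tt N43116 F314460))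
theorem Q35109 : ∀ i, i < 35109 → P i := stepQ 35108 Q35108 (allL N35108 (tt N20264 (iv1 F312111)) (tt N44370 (iv0 F312132)) (tt N39912 (iv2 F312133)) (tt N25197 (iv3 F90868)) (tt N17779 (iv4 D57683)) (tt N22668 (iv5 F310575)) (tt N64731 D123753) (tt N25488 F191219))
theorem Q35110 : ∀ i, i < 35110 → P i := stepQ 35109 Q35109 (allL N35109 (tt N53477 F304650) (tt N25800 F304651) (tt N53474 F304652) (tt N64729 (iv3 F198235)) (tt N64732 D123754) (tt N17779 (iv5 D57684)) (tt N64733 D123755) (tt N53475 F304653))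
theorem Q35111 : ∀ i, i < 35111 → P i := stepQ 35110 Q35110 (allL N35110 (tt N46666 F198241) (tt N54155 (iv0 F308443)) (tt N54153 (iv2 F306696)) (tt N64730 (iv3 F198236)) (tt N64731 (iv4 F198240)) (tt N64734 D123757) (tt N17779 (iv6 D57685)) (tt N52770 (iv7 F306354)))
theorem Q35112 : ∀ i, i < 35112 → P i := stepQ 35111 Q35111 (allL N35111 (tt N64703 (iv1 F198160)) (tt N17780 (iv0 D57686)) (tt N48996 (iv2 F304667)) (tt N28667 (iv3 F304669)) (tt N64735 D123761) (tt N28363 F302082) (tt N64736 D123763) (tt N48998 (iv7 F304649)))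
theorem Q35113 : ∀ i, i < 35113 → P i := stepQ 35112 Q35112 (allL N35112 (tt N17780 (iv1 D57687)) (tt N64703 F198159) (tt N48998 (iv2 F304648)) (tt N64737 D123765) (tt N64738 D123766) (tt N28364 F302085) (tt N64739 D123768) (tt N48996 (iv7 F304668)))
theorem Q35114 : ∀ i, i < 35114 → P i := stepQ 35113 Q35113 (allL N35113 (tt N64740 D123769) (tt N64741 D123770) (tt N64702 (iv2 F198155)) (tt N64742 D123771) (tt N17780 (iv4 D57688)) (tt N64743 D123772) (tt N64724 (iv6 F198207)) (tt N64744 D123773))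
theorem Q35115 : ∀ i, i < 35115 → P i := stepQ 35114 Q35114 (allL N35114 (tt N48998 F306664) (tt N48996 F306665) (tt N64703 (iv2 F198156)) (tt N17804 F90870) (tt N64744 (iv4 F198251)) (tt N17781 F90871) (tt N64745 D123774) (tt N17780 (iv7 D57689)))
theorem Q35116 : ∀ i, i < 35116 → P i := stepQ 35115 Q35115 (allL N35115 (tt N45280 F161600) (tt N63920 F191795) (tt N17782 (iv2 D57692)) (tt N55765 F161599) (tt N63397 (iv4 F187311)) (tt N34844 F90872) (tt N64746 D123775) (tt N61044 (iv7 F177738)))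
theorem Q35117 : ∀ i, i < 35117 → P i := stepQ 35116 Q35116 (allL N35116 (tt N64747 D123776) (tt N55177 (iv0 F159133)) (tt N63397 (iv2 F187310)) (tt N34883 F90873) (tt N17782 (iv4 D57693)) (tt N52178 (iv5 F147885)) (tt N64748 D123777) (tt N63921 (iv7 F191800)))
theorem Q35118 : ∀ i, i < 35118 → P i := stepQ 35117 Q35117 (allL N35117 (tt N64749 D123778) (tt N33612 (iv0 F356472)) (tt N64746 (iv2 F198254)) (tt N17783 F90875) (tt N64748 (iv4 F198259)) (tt N64750 D123780) (tt N17782 (iv6 D57694)) (tt N64751 D123781))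
theorem Q35119 : ∀ i, i < 35119 → P i := stepQ 35118 Q35118 (allL N35118 (tt N63930 (iv1 F191842)) (tt N17783 (iv0 D57695)) (tt N59315 (iv2 F356352)) (tt N64752 D123783) (tt N35123 F356455) (tt N64753 D123785) (tt N31560 (iv6 F356355)) (tt N63928 (iv7 F356377)))
theorem Q35120 : ∀ i, i < 35120 → P i := stepQ 35119 Q35119 (allL N35119 (tt N17783 (iv1 D57696)) (tt N63930 F191841) (tt N63928 (iv2 F356375)) (tt N64706 (iv3 F356467)) (tt N35124 F356446) (tt N64754 D123790) (tt N64755 D123791) (tt N59315 (iv7 F356353)))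
theorem Q35121 : ∀ i, i < 35121 → P i := stepQ 35120 Q35120 (allL N35120 (tt N64756 D123792) (tt N64757 D123793) (tt N63929 (iv2 F191835)) (tt N64750 (iv3 F198260)) (tt N64758 D123794) (tt N17783 (iv5 D57697)) (tt N34846 F90876) (tt N64759 D123795))
theorem Q35122 : ∀ i, i < 35122 → P i := stepQ 35121 Q35121 (allL N35121 (tt N63928 (iv1 F191834)) (tt N59315 (iv0 F356364)) (tt N63930 (iv2 F191837)) (tt N64751 (iv3 F198262)) (tt N34886 F90877) (tt N64759 (iv5 F198267)) (tt N63924 (iv6 F191812)) (tt N17783 (iv7 D57698)))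
theorem Q35123 : ∀ i, i < 35123 → P i := stepQ 35122 Q35122 (allL N35122 (tt N49715 (iv1 F335732)) (tt N28872 (iv0 F335733)) (tt N49545 (iv2 F303372)) (tt N17785 F90880) (tt N55764 (iv4 F161592)) (tt N46798 F300577) (tt N17784 (iv6 D57700)) (tt N49668 (iv7 F303376)))
theorem Q35124 : ∀ i, i < 35124 → P i := stepQ 35123 Q35123 (allL N35123 (tt N63924 (iv1 F191815)) (tt N17785 (iv0 D57701)) (tt N63923 F356452) (tt N48645 (iv3 F356454)) (tt N35118 (iv4 F356455)) (tt N48644 (iv5 F356456)) (tt N19556 (iv6 F356457)) (tt N49631 F356453))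
theorem Q35125 : ∀ i, i < 35125 → P i := stepQ 35124 Q35124 (allL N35124 (tt N17785 (iv1 D57702)) (tt N63924 F191814) (tt N49631 (iv2 F356445)) (tt N64760 D123806) (tt N35119 (iv4 F356446)) (tt N64761 D123808) (tt N64762 D123809) (tt N63923 (iv7 F356451)))
theorem Q35126 : ∀ i, i < 35126 → P i := stepQ 35125 Q35125 (allL N35125 (tt N49631 (iv1 F336773)) (tt N63923 F191813) (tt N63924 (iv2 F191810)) (tt N49668 (iv3 F303375)) (tt N34870 F90882) (tt N49623 (iv5 F299000)) (tt N63930 (iv6 F191839)) (tt N17785 (iv7 D57704)))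
theorem Q35127 : ∀ i, i < 35127 → P i := stepQ 35126 Q35126 (allL N35126 (tt N34925 (iv1 F90884)) (tt N17786 (iv0 D57705)) (tt N34928 F114947) (tt N23331 F90883) (tt N64037 (iv4 F192347)) (tt N34469 (iv5 F90885)) (tt N64763 D123814) (tt N34927 F114945))
theorem Q35128 : ∀ i, i < 35128 → P i := stepQ 35127 Q35127 (allL N35127 (tt N17786 (iv1 D57706)) (tt N34925 F90887) (tt N34927 (iv2 F114946)) (tt N64764 D123815) (tt N64765 D123816) (tt N34470 F112920) (tt N64766 D123817) (tt N34928 (iv7 F114948)))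
theorem Q35129 : ∀ i, i < 35129 → P i := stepQ 35128 Q35128 (allL N35128 (tt N64767 D123818) (tt N64768 D123819) (tt N43602 (iv2 F109243)) (tt N17787 F90888) (tt N64710 (iv4 F198195)) (tt N64769 D123820) (tt N17786 (iv6 D57707)) (tt N64770 D123821))
theorem Q35130 : ∀ i, i < 35130 → P i := stepQ 35129 Q35129 (allL N35129 (tt N35144 (iv1 F90901)) (tt N17787 (iv0 D57708)) (tt N35145 F341486) (tt N50032 (iv3 F346098)) (tt N64405 (iv4 F354943)) (tt N64771 D123825) (tt N64772 D123826) (tt N35146 F341487))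
theorem Q35131 : ∀ i, i < 35131 → P i := stepQ 35130 Q35130 (allL N35130 (tt N17787 (iv1 D57709)) (tt N35144 F90900) (tt N35146 (iv2 F341480)) (tt N64773 D123828) (tt N58978 (iv4 F341483)) (tt N64774 D123830) (tt N38452 (iv6 F341484)) (tt N35145 (iv7 F341485)))
theorem Q35132 : ∀ i, i < 35132 → P i := stepQ 35131 Q35131 (allL N35131 (tt N64775 D123832) (tt N64776 D123833) (tt N35147 (iv2 F90904)) (tt N64769 (iv3 F198288)) (tt N64777 D123834) (tt N17787 (iv5 D57710)) (tt N34828 F90889) (tt N64778 D123835))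
theorem Q35133 : ∀ i, i < 35133 → P i := stepQ 35132 Q35132 (allL N35132 (tt N35146 (iv1 F90903)) (tt N35145 F90902) (tt N35144 (iv2 F90896)) (tt N64770 (iv3 F198290)) (tt N17791 F90890) (tt N64778 (iv5 F198296)) (tt N34936 F90891) (tt N17787 (iv7 D57711)))
theorem Q35134 : ∀ i, i < 35134 → P i := stepQ 35133 Q35133 (allL N35133 (tt N44024 (iv1 F331647)) (tt N34340 (iv0 F331648)) (tt N44037 (iv2 F331649)) (tt N17788 (iv3 D57713)) (tt N64779 D123845) (tt N64780 D123846) (tt N64781 D123847) (tt N44036 F331646))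
theorem Q35135 : ∀ i, i < 35135 → P i := stepQ 35134 Q35134 (allL N35134 (tt N64782 D123849) (tt N34864 (iv0 F341417)) (tt N64490 (iv2 F342790)) (tt N64783 D123851) (tt N17788 (iv4 D57714)) (tt N64784 D123852) (tt N38562 (iv6 F329969)) (tt N38563 F329958))
theorem Q35136 : ∀ i, i < 35136 → P i := stepQ 35135 Q35135 (allL N35135 (tt N64785 D123855) (tt N64786 D123856) (tt N64491 (iv2 F342794)) (tt N64780 (iv3 F198305)) (tt N64787 D123857) (tt N17788 (iv5 D57715)) (tt N64788 D123858) (tt N38405 F329959))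
theorem Q35137 : ∀ i, i < 35137 → P i := stepQ 35136 Q35136 (allL N35136 (tt N64762 (iv1 F356448)) (tt N64789 D123861) (tt N64492 (iv2 F342797)) (tt N64781 (iv3 F198306)) (tt N38562 (iv4 F329968)) (tt N64790 D123862) (tt N17788 (iv6 D57716)) (tt N38559 (iv7 F329970)))
theorem Q35138 : ∀ i, i < 35138 → P i := stepQ 35137 Q35137 (allL N35137 (tt N64660 (iv1 F347683)) (tt N64791 D123866) (tt N61058 (iv2 F352385)) (tt N17789 (iv3 D57718)) (tt N61039 (iv4 F347685)) (tt N64792 D123869) (tt N31557 F329885) (tt N61054 (iv7 F352382)))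
theorem Q35139 : ∀ i, i < 35139 → P i := stepQ 35138 Q35138 (allL N35138 (tt N34864 F341418) (tt N64782 F198312) (tt N38563 (iv2 F329922)) (tt N64174 (iv3 F355073)) (tt N17789 (iv4 D57719)) (tt N64793 D123872) (tt N31561 F329886) (tt N64490 (iv7 F342791)))
theorem Q35140 : ∀ i, i < 35140 → P i := stepQ 35139 Q35139 (allL N35139 (tt N64786 (iv1 F198314)) (tt N64785 F198317) (tt N38405 (iv2 F329923)) (tt N64792 (iv3 F198320)) (tt N64794 D123874) (tt N17789 (iv5 D57720)) (tt N19524 (iv6 F329928)) (tt N64491 (iv7 F342796)))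
theorem Q35141 : ∀ i, i < 35141 → P i := stepQ 35140 Q35140 (allL N35140 (tt N64496 (iv1 F197319)) (tt N17790 (iv0 D57722)) (tt N64493 (iv2 F355570)) (tt N64795 D123881) (tt N64796 D123882) (tt N64797 D123883) (tt N64798 D123884) (tt N64494 (iv7 F355568)))
theorem Q35142 : ∀ i, i < 35142 → P i := stepQ 35141 Q35141 (allL N35141 (tt N17790 (iv1 D57723)) (tt N64496 F197318) (tt N64494 (iv2 F355567)) (tt N64799 D123886) (tt N64800 D123887) (tt N64801 D123888) (tt N64802 D123889) (tt N64493 (iv7 F355571)))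
theorem Q35143 : ∀ i, i < 35143 → P i := stepQ 35142 Q35142 (allL N35142 (tt N64803 D123890) (tt N64804 D123891) (tt N64495 (iv2 F197313)) (tt N64805 D123892) (tt N17790 (iv4 D57724)) (tt N64806 D123893) (tt N17803 F90894) (tt N64807 D123894))
theorem Q35144 : ∀ i, i < 35144 → P i := stepQ 35143 Q35143 (allL N35143 (tt N64494 (iv1 F197311)) (tt N64493 F197317) (tt N64496 (iv2 F197315)) (tt N64725 (iv3 F198208)) (tt N64807 (iv4 F198328)) (tt N17791 F90895) (tt N64808 D123895) (tt N17790 (iv7 D57725)))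
theorem Q35145 : ∀ i, i < 35145 → P i := stepQ 35144 Q35144 (allL N35144 (tt N35130 (iv1 F90900)) (tt N35129 F90901) (tt N35132 F90896) (tt N22372 F90897) (tt N34936 F90898) (tt N64809 D123896) (tt N17791 (iv6 D57726)) (tt N17792 F90899))
theorem Q35146 : ∀ i, i < 35146 → P i := stepQ 35145 Q35145 (allL N35145 (tt N35132 (iv1 F90902)) (tt N17792 (iv0 D57727)) (tt N35129 (iv2 F341486)) (tt N41911 (iv3 F341473)) (tt N64810 D123899) (tt N64811 D123900) (tt N41909 F341472) (tt N35130 F341485))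
theorem Q35147 : ∀ i, i < 35147 → P i := stepQ 35146 Q35146 (allL N35146 (tt N17792 (iv1 D57728)) (tt N35132 F90903) (tt N35130 F341480) (tt N50783 (iv3 F346099)) (tt N64812 D123904) (tt N64813 D123905) (tt N58048 (iv6 F341479)) (tt N35129 (iv7 F341487)))
theorem Q35148 : ∀ i, i < 35148 → P i := stepQ 35147 Q35147 (allL N35147 (tt N64814 D123907) (tt N64815 D123908) (tt N35131 F90904) (tt N22371 F90905) (tt N64816 D123909) (tt N17792 (iv5 D57729)) (tt N17808 F90906) (tt N64809 (iv7 F198332)))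
theorem Q35149 : ∀ i, i < 35149 → P i := stepQ 35148 Q35148 (allL N35148 (tt N19021 F312440) (tt N17793 (iv0 D57730)) (tt N38294 (iv2 F314885)) (tt N64727 (iv3 F316791)) (tt N38332 (iv4 F314886)) (tt N64817 D123913) (tt N64629 (iv6 F348268)) (tt N38295 (iv7 F314893)))
theorem Q35150 : ∀ i, i < 35150 → P i := stepQ 35149 Q35149 (allL N35149 (tt N64818 D123927) (tt N64819 D123928) (tt N38296 F312442) (tt N17795 F90908) (tt N64820 D123929) (tt N17793 (iv5 D57734)) (tt N64821 D123930) (tt N63446 (iv7 F313357)))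
theorem Q35151 : ∀ i, i < 35151 → P i := stepQ 35150 Q35150 (allL N35150 (tt N64822 D123931) (tt N64823 D123932) (tt N38297 F308181) (tt N17796 F90909) (tt N38293 F308182) (tt N64824 D123933) (tt N17793 (iv6 D57735)) (tt N48482 F301603))
theorem Q35152 : ∀ i, i < 35152 → P i := stepQ 35151 Q35151 (allL N35151 (tt N17798 (iv1 F90911)) (tt N17794 (iv0 D57736)) (tt N23558 (iv2 F91409)) (tt N24347 (iv3 F91410)) (tt N25247 (iv4 F299016)) (tt N34841 (iv5 F91413)) (tt N34839 (iv6 F91414)) (tt N23554 F91408))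
theorem Q35153 : ∀ i, i < 35153 → P i := stepQ 35152 Q35152 (allL N35152 (tt N17795 (iv1 D57741)) (tt N17799 F90926) (tt N44916 (iv2 F301456)) (tt N53477 (iv3 F302087)) (tt N59392 (iv4 F336750)) (tt N34565 F299262) (tt N36067 (iv6 F336752)) (tt N34789 F299263))
theorem Q35154 : ∀ i, i < 35154 → P i := stepQ 35153 Q35153 (allL N35153 (tt N64312 F303851) (tt N31653 F329124) (tt N64499 (iv2 F197334)) (tt N64825 D123944) (tt N17795 (iv4 D57742)) (tt N63979 (iv5 F191937)) (tt N64826 D123945) (tt N64501 (iv7 F197348)))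
theorem Q35155 : ∀ i, i < 35155 → P i := stepQ 35154 Q35154 (allL N35154 (tt N59631 (iv1 F360063)) (tt N59633 (iv0 F360061)) (tt N64500 (iv2 F197336)) (tt N64821 (iv3 F198353)) (tt N64826 (iv4 F198375)) (tt N64827 D123948) (tt N17795 (iv6 D57743)) (tt N64828 D123949))
theorem Q35156 : ∀ i, i < 35156 → P i := stepQ 35155 Q35155 (allL N35155 (tt N34477 F90929) (tt N34527 F90930) (tt N34525 F90928) (tt N64824 (iv3 F198354)) (tt N64829 D123950) (tt N17796 (iv5 D57746)) (tt N64827 (iv6 F198377)) (tt N34524 F91467))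
theorem Q35157 : ∀ i, i < 35157 → P i := stepQ 35156 Q35156 (allL N35156 (tt N17797 (iv1 D57749)) (tt N38008 F312599) (tt N64497 (iv2 F305711)) (tt N47457 F312596) (tt N64830 D123958) (tt N64831 D123959) (tt N47455 (iv6 F315048)) (tt N64448 (iv7 F311809)))
theorem Q35158 : ∀ i, i < 35158 → P i := stepQ 35157 Q35157 (allL N35157 (tt N64448 (iv1 F315060)) (tt N64497 F197320) (tt N17797 (iv2 D57750)) (tt N19021 F312601) (tt N18864 F312602) (tt N64832 D123962) (tt N54342 (iv6 F355375)) (tt N38008 F312603))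
theorem Q35159 : ∀ i, i < 35159 → P i := stepQ 35158 Q35158 (allL N35158 (tt N37427 (iv1 F315058)) (tt N37423 (iv0 F315056)) (tt N18864 F312946) (tt N24812 F300596) (tt N17797 (iv4 D57751)) (tt N18862 (iv5 F315286)) (tt N64833 D123967) (tt N24806 F300597))
theorem Q35160 : ∀ i, i < 35160 → P i := stepQ 35159 Q35159 (allL N35159 (tt N64834 D123968) (tt N53258 (iv0 F306300)) (tt N64832 (iv2 F198384)) (tt N17799 F90932) (tt N64835 D123970) (tt N17797 (iv5 D57752)) (tt N64836 D123971) (tt N64498 (iv7 F197327)))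
theorem Q35161 : ∀ i, i < 35161 → P i := stepQ 35160 Q35160 (allL N35160 (tt N54334 (iv1 F355390)) (tt N54344 (iv0 F355389)) (tt N54342 (iv2 F355372)) (tt N17800 F90933) (tt N64833 (iv4 F198388)) (tt N64837 D123974) (tt N17797 (iv6 D57753)) (tt N54341 (iv7 F355384)))
theorem Q35162 : ∀ i, i < 35162 → P i := stepQ 35161 Q35161 (allL N35161 (tt N23600 F299274) (tt N46409 F299275) (tt N46413 F299276) (tt N23656 F121417) (tt N17800 F90938) (tt N46414 F299277) (tt N17798 (iv6 D57755)) (tt N46414 F299278))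
theorem Q35163 : ∀ i, i < 35163 → P i := stepQ 35162 Q35162 (allL N35162 (tt N31653 F329125) (tt N64312 F304275) (tt N64501 (iv2 F197347)) (tt N64838 D123976) (tt N17799 (iv4 D57756)) (tt N63977 (iv5 F191936)) (tt N64839 D123977) (tt N64499 (iv7 F197335)))
theorem Q35164 : ∀ i, i < 35164 → P i := stepQ 35163 Q35163 (allL N35163 (tt N64840 D123978) (tt N64841 D123979) (tt N64502 (iv2 F197349)) (tt N64836 (iv3 F198389)) (tt N64839 (iv4 F198392)) (tt N64842 D123980) (tt N17799 (iv6 D57757)) (tt N64843 D123981))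
theorem Q35165 : ∀ i, i < 35165 → P i := stepQ 35164 Q35164 (allL N35164 (tt N34813 F304296) (tt N34816 F304297) (tt N46657 F125730) (tt N64837 (iv3 F198390)) (tt N64844 D123982) (tt N17800 (iv5 D57760)) (tt N64842 (iv6 F198393)) (tt N46658 (iv7 F125731)))
theorem Q35166 : ∀ i, i < 35166 → P i := stepQ 35165 Q35165 (allL N35165 (tt N24973 (iv1 F123545)) (tt N25250 F301607) (tt N46665 F125740) (tt N54341 (iv3 F355380)) (tt N46414 F301608) (tt N46658 (iv5 F125732)) (tt N24350 F301609) (tt N17800 (iv7 D57761)))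
theorem Q35167 : ∀ i, i < 35167 → P i := stepQ 35166 Q35166 (allL N35166 (tt N64817 (iv1 F314887)) (tt N64631 (iv0 F314896)) (tt N37380 (iv2 F314238)) (tt N17801 (iv3 D57763)) (tt N64845 D123986) (tt N34115 F311800) (tt N64846 D123988) (tt N64036 F311801))
theorem Q35168 : ∀ i, i < 35168 → P i := stepQ 35167 Q35167 (allL N35167 (tt N64847 D123989) (tt N64848 D123990) (tt N64504 (iv2 F197351)) (tt N64849 D123991) (tt N17801 (iv4 D57764)) (tt N63975 (iv5 F191931)) (tt N64850 D123992) (tt N64506 (iv7 F197356)))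
theorem Q35169 : ∀ i, i < 35169 → P i := stepQ 35168 Q35168 (allL N35168 (tt N59564 (iv1 F328916)) (tt N59000 (iv0 F343836)) (tt N64505 (iv2 F197353)) (tt N64846 (iv3 F198395)) (tt N64850 (iv4 F198403)) (tt N38518 F328519) (tt N17801 (iv6 D57766)) (tt N64851 D123996))
theorem Q35170 : ∀ i, i < 35170 → P i := stepQ 35169 Q35169 (allL N35169 (tt N64661 (iv1 F354488)) (tt N64831 (iv0 F358064)) (tt N64852 D123999) (tt N17802 (iv3 D57768)) (tt N64853 D124000) (tt N64301 (iv5 F299248)) (tt N64854 D124002) (tt N64503 (iv7 F197350)))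
theorem Q35171 : ∀ i, i < 35171 → P i := stepQ 35170 Q35170 (allL N35170 (tt N64848 (iv1 F198400)) (tt N64847 F198398) (tt N64506 (iv2 F197355)) (tt N64855 D124003) (tt N17802 (iv4 D57769)) (tt N63967 (iv5 F191920)) (tt N64856 D124004) (tt N64504 (iv7 F197352)))
theorem Q35172 : ∀ i, i < 35172 → P i := stepQ 35171 Q35171 (allL N35171 (tt N64857 D124005) (tt N64858 D124006) (tt N64507 (iv2 F197357)) (tt N64854 (iv3 F198406)) (tt N64856 (iv4 F198407)) (tt N64859 D124007) (tt N17802 (iv6 D57771)) (tt N64860 D124008))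
theorem Q35173 : ∀ i, i < 35173 → P i := stepQ 35172 Q35172 (allL N35172 (tt N63982 (iv1 F191948)) (tt N17803 (iv0 D57772)) (tt N64023 (iv2 F302058)) (tt N64861 D124010) (tt N63988 (iv4 F192003)) (tt N63992 (iv5 F192030)) (tt N59618 (iv6 F357740)) (tt N64508 (iv7 F253272)))
theorem Q35174 : ∀ i, i < 35174 → P i := stepQ 35173 Q35173 (allL N35173 (tt N17803 (iv1 D57773)) (tt N63982 F191947) (tt N64508 (iv2 F253271)) (tt N64862 D124013) (tt N23101 F304405) (tt N63984 (iv5 F191991)) (tt N64863 D124014) (tt N64023 F304406))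
theorem Q35175 : ∀ i, i < 35175 → P i := stepQ 35174 Q35174 (allL N35174 (tt N64864 D124015) (tt N64865 D124016) (tt N64866 D124017) (tt N17803 (iv3 D57774)) (tt N64742 (iv4 F198250)) (tt N64867 D124018) (tt N64805 (iv6 F198327)) (tt N64868 D124019))
theorem Q35176 : ∀ i, i < 35176 → P i := stepQ 35175 Q35175 (allL N35175 (tt N30989 F337475) (tt N48169 F304860) (tt N48190 F304861) (tt N64867 (iv3 F198410)) (tt N63903 (iv4 F191596)) (tt N17803 (iv5 D57775)) (tt N64869 D124020) (tt N48191 F304862))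
theorem Q35177 : ∀ i, i < 35177 → P i := stepQ 35176 Q35176 (allL N35176 (tt N64508 (iv1 F197359)) (tt N64023 F304626) (tt N63982 (iv2 F191944)) (tt N64868 (iv3 F198411)) (tt N17804 F90941) (tt N48191 F304627) (tt N64870 D124021) (tt N17803 (iv7 D57776)))
theorem Q35178 : ∀ i, i < 35178 → P i := stepQ 35177 Q35177 (allL N35177 (tt N58132 (iv1 F364223)) (tt N64871 D124023) (tt N64510 (iv2 F197360)) (tt N64745 (iv3 F198252)) (tt N64870 (iv4 F198412)) (tt N64872 D124024) (tt N17804 (iv6 D57777)) (tt N64808 (iv7 F198329)))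
theorem Q35179 : ∀ i, i < 35179 → P i := stepQ 35178 Q35178 (allL N35178 (tt N63969 (iv1 F191926)) (tt N64350 F196272) (tt N25024 (iv2 F302314)) (tt N22381 F90942) (tt N64873 D124025) (tt N17805 (iv5 D57778)) (tt N64872 (iv6 F198414)) (tt N17808 F90943))
theorem Q35180 : ∀ i, i < 35180 → P i := stepQ 35179 Q35179 (allL N35179 (tt N64629 (iv1 F348264)) (tt N64452 (iv0 F315670)) (tt N64627 (iv2 F348253)) (tt N17806 (iv3 D57780)) (tt N44506 F307071) (tt N64874 D124029) (tt N64875 D124030) (tt N48438 F301763))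
theorem Q35181 : ∀ i, i < 35181 → P i := stepQ 35180 Q35180 (allL N35180 (tt N64876 D124031) (tt N64877 D124032) (tt N64349 (iv2 F196235)) (tt N64874 (iv3 F198416)) (tt N64878 D124033) (tt N17806 (iv5 D57782)) (tt N64879 D124034) (tt N48439 F301764))
theorem Q35182 : ∀ i, i < 35182 → P i := stepQ 35181 Q35181 (allL N35181 (tt N17851 F301398) (tt N17848 F301399) (tt N49305 F301400) (tt N64875 (iv3 F198417)) (tt N23596 F301401) (tt N64880 D124035) (tt N17806 (iv6 D57783)) (tt N24349 F301402))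
theorem Q35183 : ∀ i, i < 35183 → P i := stepQ 35182 Q35182 (allL N35182 (tt N64877 (iv1 F198421)) (tt N64876 F198419) (tt N48439 F300876) (tt N53860 (iv3 F303653)) (tt N64881 D124042) (tt N17807 (iv5 D57787)) (tt N53466 (iv6 F302072)) (tt N64349 (iv7 F196236)))
theorem Q35184 : ∀ i, i < 35184 → P i := stepQ 35183 Q35183 (allL N35183 (tt N25024 (iv1 F302313)) (tt N17808 (iv0 D57789)) (tt N64350 F196270) (tt N64882 D124044) (tt N64883 D124045) (tt N63970 F196259) (tt N64884 D124046) (tt N63969 (iv7 F196261)))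
theorem Q35185 : ∀ i, i < 35185 → P i := stepQ 35184 Q35184 (allL N35184 (tt N17808 (iv1 D57790)) (tt N25024 F304761) (tt N63969 (iv2 F191924)) (tt N64885 D124047) (tt N64886 D124048) (tt N63900 (iv5 F191579)) (tt N64887 D124049) (tt N64350 (iv7 F196271)))
theorem Q35186 : ∀ i, i < 35186 → P i := stepQ 35185 Q35185 (allL N35185 (tt N64888 D124050) (tt N64889 D124051) (tt N64351 (iv2 F196273)) (tt N64890 D124052) (tt N17808 (iv4 D57791)) (tt N64891 D124053) (tt N64816 (iv6 F198340)) (tt N64873 (iv7 F198415)))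
theorem Q35187 : ∀ i, i < 35187 → P i := stepQ 35186 Q35186 (allL N35186 (tt N64892 D124054) (tt N64518 (iv0 F309646)) (tt N37523 F308004) (tt N17809 (iv3 D57796)) (tt N17811 F90955) (tt N25451 (iv5 F311163)) (tt N25188 (iv6 F298449)) (tt N25461 F90956))
theorem Q35188 : ∀ i, i < 35188 → P i := stepQ 35187 Q35187 (allL N35187 (tt N27741 F297762) (tt N38334 F312234) (tt N19485 F312235) (tt N25451 F312236) (tt N19031 F312237) (tt N17809 (iv5 D57797)) (tt N19480 (iv6 F312639)) (tt N25462 F90958))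
theorem Q35189 : ∀ i, i < 35189 → P i := stepQ 35188 Q35188 (allL N35188 (tt N64893 D124065) (tt N28172 F310440) (tt N64894 D124067) (tt N17810 (iv3 D57806)) (tt N24793 F310441) (tt N53739 (iv5 F312631)) (tt N24791 F310442) (tt N45548 F116504))
theorem Q35190 : ∀ i, i < 35190 → P i := stepQ 35189 Q35189 (allL N35189 (tt N23101 F302818) (tt N63988 F192004) (tt N48203 F302819) (tt N53739 (iv3 F312630)) (tt N64895 D124069) (tt N17810 (iv5 D57808)) (tt N64896 D124070) (tt N45550 (iv7 F116508)))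
theorem Q35191 : ∀ i, i < 35191 → P i := stepQ 35190 Q35190 (allL N35190 (tt N64512 (iv1 F197401)) (tt N17811 (iv0 D57815)) (tt N64511 (iv2 F282671)) (tt N64897 D124072) (tt N64898 D124073) (tt N64899 D124074) (tt N64536 (iv6 F316781)) (tt N45107 F314443))
theorem Q35192 : ∀ i, i < 35192 → P i := stepQ 35191 Q35191 (allL N35191 (tt N64511 (iv1 F197402)) (tt N45107 (iv0 F312099)) (tt N17811 (iv2 D57817)) (tt N48206 (iv3 F305160)) (tt N37523 F309002) (tt N64900 D124081) (tt N37525 (iv6 F311164)) (tt N64512 (iv7 F197400)))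
theorem Q35193 : ∀ i, i < 35193 → P i := stepQ 35192 Q35192 (allL N35192 (tt N64901 D124083) (tt N64902 D124084) (tt N64900 (iv2 F198482)) (tt N17812 F90976) (tt N59647 (iv4 F337462)) (tt N17811 (iv5 D57818)) (tt N59637 (iv6 F337488)) (tt N64513 (iv7 F197405)))
theorem Q35194 : ∀ i, i < 35194 → P i := stepQ 35193 Q35193 (allL N35193 (tt N64903 D124087) (tt N37372 (iv0 F313751)) (tt N37525 F312274) (tt N17813 F90977) (tt N25188 F301087) (tt N64904 D124089) (tt N17811 (iv6 D57819)) (tt N25230 (iv7 F301589)))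
theorem Q35195 : ∀ i, i < 35195 → P i := stepQ 35194 Q35194 (allL N35194 (tt N25241 F301825) (tt N25240 (iv0 F303359)) (tt N17963 F301826) (tt N64904 (iv3 F198485)) (tt N58310 (iv4 F337478)) (tt N17813 (iv5 D57826)) (tt N58309 (iv6 F337489)) (tt N25231 F301827))
theorem Q35196 : ∀ i, i < 35196 → P i := stepQ 35195 Q35195 (allL N35195 (tt N17814 (iv1 D57854)) (tt N48206 (iv0 F305158)) (tt N48204 (iv2 F305156)) (tt N64905 D124140) (tt N64906 D124141) (tt N64907 D124142) (tt N21599 F304459) (tt N48205 (iv7 F305129)))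
theorem Q35197 : ∀ i, i < 35197 → P i := stepQ 35196 Q35196 (allL N35196 (tt N48205 (iv1 F305126)) (tt N48204 (iv0 F305155)) (tt N17814 (iv2 D57855)) (tt N64512 (iv3 F197398)) (tt N35491 F304460) (tt N64908 D124144) (tt N64909 D124145) (tt N48206 (iv7 F305161)))
theorem Q35198 : ∀ i, i < 35198 → P i := stepQ 35197 Q35197 (allL N35197 (tt N64910 D124146) (tt N42789 (iv0 F304628)) (tt N64908 (iv2 F198608)) (tt N17815 F91142) (tt N64911 D124148) (tt N17814 (iv5 D57856)) (tt N64912 D124149) (tt N48207 (iv7 F304407)))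
theorem Q35199 : ∀ i, i < 35199 → P i := stepQ 35198 Q35198 (allL N35198 (tt N63097 (iv1 F306501)) (tt N64913 D124151) (tt N64909 (iv2 F198609)) (tt N17816 F91143) (tt N25261 F304461) (tt N64914 D124152) (tt N17814 (iv6 D57857)) (tt N25239 (iv7 F304684)))
theorem Q35200 : ∀ i, i < 35200 → P i := stepQ 35199 Q35199 (allL N35199 (tt N59392 (iv1 F336749)) (tt N46749 F302063) (tt N48192 (iv2 F302089)) (tt N64915 D124154) (tt N17815 (iv4 D57858)) (tt N48169 (iv5 F304352)) (tt N64916 D124155) (tt N48208 (iv7 F302093)))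
theorem Q35201 : ∀ i, i < 35201 → P i := stepQ 35200 Q35200 (allL N35200 (tt N64917 D124156) (tt N64918 D124157) (tt N64515 (iv2 F197410)) (tt N64912 (iv3 F198610)) (tt N64916 (iv4 F198614)) (tt N64919 D124158) (tt N17815 (iv6 D57859)) (tt N64920 D124159))
theorem Q35202 : ∀ i, i < 35202 → P i := stepQ 35201 Q35201 (allL N35201 (tt N25232 F301707) (tt N17816 (iv0 D57860)) (tt N25245 F301708) (tt N64921 D124160) (tt N27980 F301709) (tt N63912 (iv5 F191764)) (tt N17844 F301710) (tt N25244 F301711))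
theorem Q35203 : ∀ i, i < 35203 → P i := stepQ 35202 Q35202 (allL N35202 (tt N34806 F302106) (tt N34808 F302107) (tt N64516 (iv2 F197411)) (tt N64914 (iv3 F198611)) (tt N64922 D124161) (tt N17816 (iv5 D57862)) (tt N64919 (iv6 F198615)) (tt N25246 (iv7 F304433)))
theorem Q35204 : ∀ i, i < 35204 → P i := stepQ 35203 Q35203 (allL N35203 (tt N64354 (iv1 F196315)) (tt N64353 F196323) (tt N25025 F302228) (tt N64923 D124168) (tt N17817 (iv4 D57868)) (tt N64924 D124169) (tt N35266 F302229) (tt N17824 F91601))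
theorem Q35205 : ∀ i, i < 35205 → P i := stepQ 35204 Q35204 (allL N35204 (tt N17874 (iv1 F297109)) (tt N17873 F296508) (tt N17876 F296509) (tt N64925 D124170) (tt N17818 (iv4 D57878)) (tt N64926 D124171) (tt N24919 (iv6 F297602)) (tt N17869 F296510))
theorem Q35206 : ∀ i, i < 35206 → P i := stepQ 35205 Q35205 (allL N35205 (tt N17882 F296370) (tt N17881 F296371) (tt N17884 F296372) (tt N17820 F91612) (tt N64927 D124173) (tt N17818 (iv5 D57879)) (tt N18137 F324007) (tt N17871 F296373))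
theorem Q35207 : ∀ i, i < 35207 → P i := stepQ 35206 Q35206 (allL N35206 (tt N64536 (iv1 F317085)) (tt N43911 F314826) (tt N64534 (iv2 F337502)) (tt N17819 (iv3 D57884)) (tt N64925 (iv4 F198631)) (tt N64928 D124178) (tt N64929 D124179) (tt N24999 F300101))
theorem Q35208 : ∀ i, i < 35208 → P i := stepQ 35207 Q35207 (allL N35207 (tt N25020 F302823) (tt N25019 F302824) (tt N25022 F302825) (tt N64928 (iv3 F198643)) (tt N64930 D124182) (tt N17819 (iv5 D57885)) (tt N64931 D124183) (tt N25002 F302826))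
theorem Q35209 : ∀ i, i < 35209 → P i := stepQ 35208 Q35208 (allL N35208 (tt N17845 (iv1 F301570)) (tt N17844 (iv0 F301568)) (tt N17847 (iv2 F301574)) (tt N64929 (iv3 F198644)) (tt N17821 F91616) (tt N64932 D124184) (tt N17819 (iv6 D57886)) (tt N17838 F299214))
theorem Q35210 : ∀ i, i < 35210 → P i := stepQ 35209 Q35209 (allL N35209 (tt N25033 F299665) (tt N25032 F299666) (tt N25036 (iv2 F301313)) (tt N64933 D124188) (tt N17820 (iv4 D57889)) (tt N64934 D124189) (tt N59408 (iv6 F324527)) (tt N25004 F299667))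
theorem Q35211 : ∀ i, i < 35211 → P i := stepQ 35210 Q35210 (allL N35210 (tt N25317 (iv1 F297656)) (tt N25316 (iv0 F297654)) (tt N25037 (iv2 F297660)) (tt N18137 F323100) (tt N59408 (iv4 F324526)) (tt N18135 F323101) (tt N17820 (iv6 D57890)) (tt N24366 F296425))
theorem Q35212 : ∀ i, i < 35212 → P i := stepQ 35211 Q35211 (allL N35211 (tt N17854 (iv1 F297540)) (tt N17853 (iv0 F297538)) (tt N17856 (iv2 F297546)) (tt N18138 F323102) (tt N58292 (iv4 F324495)) (tt N17821 (iv5 D57892)) (tt N18135 F323103) (tt N17840 F296387))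
theorem Q35213 : ∀ i, i < 35213 → P i := stepQ 35212 Q35212 (allL N35212 (tt N17880 F297593) (tt N17878 F297594) (tt N25038 F297595) (tt N17822 (iv3 D57909)) (tt N64935 D124206) (tt N24284 (iv5 F298612)) (tt N35802 F325284) (tt N47755 F297596))
theorem Q35214 : ∀ i, i < 35214 → P i := stepQ 35213 Q35213 (allL N35213 (tt N64936 D124208) (tt N63874 (iv0 F191505)) (tt N64352 (iv2 F196312)) (tt N64937 D124209) (tt N17822 (iv4 D57910)) (tt N64938 D124210) (tt N58728 (iv6 F326202)) (tt N63990 (iv7 F192014)))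
theorem Q35215 : ∀ i, i < 35215 → P i := stepQ 35214 Q35214 (allL N35214 (tt N59932 (iv1 F323979)) (tt N64939 D124213) (tt N64163 (iv2 F193400)) (tt N35802 F325282) (tt N58728 (iv4 F326201)) (tt N44656 F299557) (tt N17822 (iv6 D57911)) (tt N64161 (iv7 F193391)))
theorem Q35216 : ∀ i, i < 35216 → P i := stepQ 35215 Q35215 (allL N35215 (tt N63874 F191504) (tt N64936 F198702) (tt N63990 (iv2 F192012)) (tt N64940 D124214) (tt N17823 (iv4 D57914)) (tt N64941 D124215) (tt N25285 (iv6 F299737)) (tt N64352 (iv7 F196313)))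
theorem Q35217 : ∀ i, i < 35217 → P i := stepQ 35216 Q35216 (allL N35216 (tt N25025 F301765) (tt N17824 (iv0 D57916)) (tt N64353 F196320) (tt N64942 D124216) (tt N45635 F148258) (tt N64943 D124217) (tt N58732 (iv6 F327886)) (tt N64354 F196319))
theorem Q35218 : ∀ i, i < 35218 → P i := stepQ 35217 Q35217 (allL N35217 (tt N17824 (iv1 D57917)) (tt N25025 F300877) (tt N64354 F196317) (tt N64944 D124219) (tt N45636 (iv4 F123642)) (tt N64945 D124220) (tt N64283 F300878) (tt N64353 (iv7 F196322)))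
theorem Q35219 : ∀ i, i < 35219 → P i := stepQ 35218 Q35218 (allL N35218 (tt N64946 D124221) (tt N64947 D124222) (tt N64948 D124223) (tt N17824 (iv3 D57918)) (tt N17997 F91636) (tt N64949 D124224) (tt N17835 F91637) (tt N64923 (iv7 F198629)))
theorem Q35220 : ∀ i, i < 35220 → P i := stepQ 35219 Q35219 (allL N35219 (tt N64950 D124225) (tt N64951 D124226) (tt N64356 (iv2 F196326)) (tt N64949 (iv3 F198709)) (tt N64952 D124227) (tt N17824 (iv5 D57919)) (tt N64953 D124228) (tt N64924 (iv7 F198630)))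
theorem Q35221 : ∀ i, i < 35221 → P i := stepQ 35220 Q35220 (allL N35220 (tt N58699 F326119) (tt N31107 F326120) (tt N34462 F91638) (tt N25476 F296822) (tt N45940 (iv4 F119934)) (tt N23389 F91640) (tt N17825 (iv6 D57920)) (tt N31970 F326121))
theorem Q35222 : ∀ i, i < 35222 → P i := stepQ 35221 Q35221 (allL N35221 (tt N17826 (iv1 D57921)) (tt N17828 F91641) (tt N34466 (iv2 F91644)) (tt N64954 D124230) (tt N34456 F91643) (tt N64955 D124231) (tt N25311 (iv6 F296315)) (tt N34465 F91642))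
theorem Q35223 : ∀ i, i < 35223 → P i := stepQ 35222 Q35222 (allL N35222 (tt N64956 D124233) (tt N64957 D124234) (tt N64958 D124235) (tt N17826 (iv3 D57922)) (tt N45827 (iv4 F119733)) (tt N64959 D124236) (tt N64446 (iv6 F197190)) (tt N45364 (iv7 F115507)))
theorem Q35224 : ∀ i, i < 35224 → P i := stepQ 35223 Q35223 (allL N35223 (tt N63871 (iv1 F191497)) (tt N63873 (iv0 F191500)) (tt N34468 F91645) (tt N64959 (iv3 F198729)) (tt N35241 F91669) (tt N17826 (iv5 D57923)) (tt N64960 D124237) (tt N45365 (iv7 F115509)))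
theorem Q35225 : ∀ i, i < 35225 → P i := stepQ 35224 Q35224 (allL N35224 (tt N64961 D124242) (tt N64962 D124243) (tt N64963 D124244) (tt N17828 (iv3 D57926)) (tt N45813 F299011) (tt N64964 D124245) (tt N64965 D124246) (tt N34467 F91648))
theorem Q35226 : ∀ i, i < 35226 → P i := stepQ 35225 Q35225 (allL N35225 (tt N63873 (iv1 F191501)) (tt N63871 (iv0 F191496)) (tt N45365 (iv2 F115508)) (tt N64964 (iv3 F198747)) (tt N35240 F91667) (tt N17828 (iv5 D57927)) (tt N64966 D124247) (tt N34468 F91649))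
theorem Q35227 : ∀ i, i < 35227 → P i := stepQ 35226 Q35226 (allL N35226 (tt N59747 (iv1 F325164)) (tt N30837 (iv0 F325166)) (tt N45366 (iv2 F115510)) (tt N64965 (iv3 F198749)) (tt N17829 F91650) (tt N30986 (iv5 F325167)) (tt N17828 (iv6 D57928)) (tt N59746 (iv7 F324429)))
theorem Q35228 : ∀ i, i < 35228 → P i := stepQ 35227 Q35227 (allL N35227 (tt N25339 (iv1 F298661)) (tt N35533 (iv0 F299642)) (tt N18207 (iv2 F322519)) (tt N17832 F91651) (tt N46154 (iv4 F122253)) (tt N26767 F297604) (tt N17830 (iv6 D57930)) (tt N23122 (iv7 F299689)))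
theorem Q35229 : ∀ i, i < 35229 → P i := stepQ 35228 Q35228 (allL N35228 (tt N64967 D124255) (tt N64968 D124256) (tt N64969 D124257) (tt N17831 (iv3 D57931)) (tt N46153 (iv4 F122246)) (tt N64970 D124258) (tt N58719 (iv6 F325613)) (tt N45329 (iv7 F115304)))
theorem Q35230 : ∀ i, i < 35230 → P i := stepQ 35229 Q35229 (allL N35229 (tt N63880 (iv1 F191511)) (tt N63879 F191509) (tt N45368 (iv2 F115527)) (tt N64970 (iv3 F198755)) (tt N35232 (iv4 F91659)) (tt N17831 (iv5 D57932)) (tt N64971 D124260) (tt N45330 (iv7 F115306)))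
theorem Q35231 : ∀ i, i < 35231 → P i := stepQ 35230 Q35230 (allL N35230 (tt N18203 (iv1 F323084)) (tt N17832 (iv0 D57934)) (tt N31147 (iv2 F323089)) (tt N18005 (iv3 F254963)) (tt N31967 (iv4 F323090)) (tt N46707 F299644) (tt N25328 F299645) (tt N25340 (iv7 F254967)))
theorem Q35232 : ∀ i, i < 35232 → P i := stepQ 35231 Q35231 (allL N35231 (tt N64972 D124274) (tt N64973 D124275) (tt N64974 D124276) (tt N17833 (iv3 D57937)) (tt N51617 (iv4 F146907)) (tt N64975 D124277) (tt N64976 D124278) (tt N45369 (iv7 F115533)))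
theorem Q35233 : ∀ i, i < 35233 → P i := stepQ 35232 Q35232 (allL N35232 (tt N45938 (iv1 F119925)) (tt N34674 F91660) (tt N45372 (iv2 F115540)) (tt N64975 (iv3 F198771)) (tt N35229 F91659) (tt N17833 (iv5 D57938)) (tt N64977 D124279) (tt N45370 (iv7 F115535)))
theorem Q35234 : ∀ i, i < 35234 → P i := stepQ 35233 Q35233 (allL N35233 (tt N34990 (iv1 F121570)) (tt N24384 (iv0 F299591)) (tt N45373 (iv2 F115544)) (tt N64976 (iv3 F198772)) (tt N31972 (iv4 F326971)) (tt N31705 (iv5 F341333)) (tt N17833 (iv6 D57939)) (tt N31704 F341325))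
theorem Q35235 : ∀ i, i < 35235 → P i := stepQ 35234 Q35234 (allL N35234 (tt N64978 D124281) (tt N64979 D124282) (tt N64980 D124283) (tt N17834 (iv3 D57940)) (tt N45466 (iv4 F115958)) (tt N64981 D124284) (tt N31975 F326435) (tt N45371 (iv7 F115539)))
theorem Q35236 : ∀ i, i < 35236 → P i := stepQ 35235 Q35235 (allL N35235 (tt N34674 F91663) (tt N45938 (iv0 F119924)) (tt N45370 (iv2 F115534)) (tt N64981 (iv3 F198776)) (tt N34460 F91662) (tt N17834 (iv5 D57941)) (tt N64982 D124286) (tt N45372 (iv7 F115542)))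
theorem Q35237 : ∀ i, i < 35237 → P i := stepQ 35236 Q35236 (allL N35236 (tt N45375 (iv1 F115549)) (tt N17835 (iv0 D57943)) (tt N45374 F257948) (tt N31727 F327399) (tt N64983 D124293) (tt N64984 D124294) (tt N64985 D124295) (tt N31722 F327400))
theorem Q35238 : ∀ i, i < 35238 → P i := stepQ 35237 Q35237 (allL N35237 (tt N17835 (iv1 D57944)) (tt N45375 F115551) (tt N31722 F327523) (tt N64986 D124297) (tt N46301 (iv4 F122759)) (tt N64987 D124298) (tt N31720 (iv6 F328000)) (tt N45374 (iv7 F257947)))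
theorem Q35239 : ∀ i, i < 35239 → P i := stepQ 35238 Q35238 (allL N35238 (tt N45374 (iv1 F115550)) (tt N31722 F327521) (tt N17835 (iv2 D57945)) (tt N64359 (iv3 F196331)) (tt N18009 F91664) (tt N64988 D124300) (tt N64948 (iv6 F198708)) (tt N45375 (iv7 F115548)))
theorem Q35240 : ∀ i, i < 35240 → P i := stepQ 35239 Q35239 (allL N35239 (tt N64989 D124301) (tt N64990 D124302) (tt N64988 (iv2 F198783)) (tt N17836 F91665) (tt N64991 D124303) (tt N17835 (iv5 D57946)) (tt N64992 D124304) (tt N45376 (iv7 F115553)))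
theorem Q35241 : ∀ i, i < 35241 → P i := stepQ 35240 Q35240 (allL N35240 (tt N35242 (iv1 F91674)) (tt N17836 (iv0 D57947)) (tt N45378 (iv2 F115563)) (tt N64993 D124305) (tt N35225 (iv4 F91667)) (tt N23800 F91666) (tt N64994 D124306) (tt N45377 (iv7 F115558)))
theorem Q35242 : ∀ i, i < 35242 → P i := stepQ 35241 Q35241 (allL N35241 (tt N17836 (iv1 D57948)) (tt N35242 (iv0 F91673)) (tt N45377 (iv2 F115557)) (tt N64995 D124307) (tt N35223 (iv4 F91669)) (tt N23801 F91668) (tt N64996 D124308) (tt N45378 (iv7 F115560)))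
theorem Q35243 : ∀ i, i < 35243 → P i := stepQ 35242 Q35242 (allL N35242 (tt N35241 F91673) (tt N35240 F91674) (tt N23419 F91670) (tt N64997 D124309) (tt N17836 (iv4 D57949)) (tt N23398 F91672) (tt N64998 D124310) (tt N34832 F91671))
theorem Q35244 : ∀ i, i < 35244 → P i := stepQ 35243 Q35243 (allL N35243 (tt N64999 D124311) (tt N65000 D124312) (tt N64361 (iv2 F196334)) (tt N64992 (iv3 F198784)) (tt N64998 (iv4 F198792)) (tt N64953 (iv5 F198710)) (tt N17836 (iv6 D57950)) (tt N65001 D124313))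
theorem Q35245 : ∀ i, i < 35245 → P i := stepQ 35244 Q35244 (allL N35244 (tt N21582 (iv1 F91677)) (tt N17837 (iv0 D57951)) (tt N24997 (iv2 F91679)) (tt N46949 (iv3 F127859)) (tt N28288 F91676) (tt N28050 F91675) (tt N64438 (iv6 F331869)) (tt N24996 (iv7 F91680)))
theorem Q35246 : ∀ i, i < 35246 → P i := stepQ 35245 Q35245 (allL N35245 (tt N17837 (iv1 D57952)) (tt N21582 F91681) (tt N24996 (iv2 F91686)) (tt N28017 (iv3 F91685)) (tt N28289 (iv4 F91684)) (tt N28016 F91683) (tt N37372 (iv6 F314867)) (tt N24997 F91682))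
theorem Q35247 : ∀ i, i < 35247 → P i := stepQ 35246 Q35246 (allL N35246 (tt N65002 D124316) (tt N64552 (iv0 F348232)) (tt N63093 (iv2 F185498)) (tt N17838 F91687) (tt N24915 F91688) (tt N65003 D124318) (tt N17837 (iv6 D57953)) (tt N64929 (iv7 F301978)))
theorem Q35248 : ∀ i, i < 35248 → P i := stepQ 35247 Q35247 (allL N35247 (tt N65004 D124322) (tt N34853 F299213) (tt N17846 F91692) (tt N65003 (iv3 F198798)) (tt N65005 D124323) (tt N17838 (iv5 D57955)) (tt N28397 F91693) (tt N64932 (iv7 F301975)))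
theorem Q35249 : ∀ i, i < 35249 → P i := stepQ 35248 Q35248 (allL N35248 (tt N49305 (iv1 F135902)) (tt N24349 (iv0 F119077)) (tt N17848 F117388) (tt N54143 (iv3 F351619)) (tt N17839 (iv4 D57959)) (tt N65006 D124326) (tt N25250 (iv6 F117159)) (tt N17851 F117389))
theorem Q35250 : ∀ i, i < 35250 → P i := stepQ 35249 Q35249 (allL N35249 (tt N45624 F119112) (tt N58300 (iv0 F324498)) (tt N17855 F91709) (tt N65007 D124333) (tt N17840 (iv4 D57965)) (tt N65008 D124334) (tt N25366 F91710) (tt N58292 (iv7 F324496)))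
theorem Q35251 : ∀ i, i < 35251 → P i := stepQ 35250 Q35250 (allL N35250 (tt N63904 (iv1 F301599)) (tt N63906 (iv0 F301601)) (tt N25008 F91728) (tt N26073 F91729) (tt N65009 D124344) (tt N17842 (iv5 D57972)) (tt N26066 F91730) (tt N25235 F91731))
theorem Q35252 : ∀ i, i < 35252 → P i := stepQ 35251 Q35251 (allL N35251 (tt N65010 D124355) (tt N65011 D124356) (tt N28397 F91733) (tt N48854 (iv3 F134713)) (tt N65012 D124357) (tt N17843 (iv5 D57975)) (tt N17846 F91734) (tt N28971 (iv7 F289725)))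
theorem Q35253 : ∀ i, i < 35253 → P i := stepQ 35252 Q35252 (allL N35252 (tt N65013 D124359) (tt N28154 (iv0 F351761)) (tt N65014 D124361) (tt N17844 (iv3 D57977)) (tt N64432 (iv4 F197064)) (tt N65015 D124362) (tt N64921 (iv6 F304439)) (tt N64568 (iv7 F197567)))
theorem Q35254 : ∀ i, i < 35254 → P i := stepQ 35253 Q35253 (allL N35253 (tt N45356 F304326) (tt N39200 F325433) (tt N45609 (iv2 F117150)) (tt N65015 (iv3 F198895)) (tt N65016 D124366) (tt N17844 (iv5 D57978)) (tt N65017 D124367) (tt N64570 F304328))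
theorem Q35255 : ∀ i, i < 35255 → P i := stepQ 35254 Q35254 (allL N35254 (tt N26068 (iv1 F311709)) (tt N28080 (iv0 F311710)) (tt N28078 (iv2 F309521)) (tt N17845 (iv3 D57980)) (tt N24800 F309519) (tt N65018 D124371) (tt N45616 F304329) (tt N28077 (iv7 F311715)))
theorem Q35256 : ∀ i, i < 35256 → P i := stepQ 35255 Q35255 (allL N35255 (tt N39200 F325434) (tt N45356 F304331) (tt N64570 F304332) (tt N65018 (iv3 F198904)) (tt N65019 D124373) (tt N17845 (iv5 D57981)) (tt N65020 D124374) (tt N45609 (iv7 F117151)))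
theorem Q35257 : ∀ i, i < 35257 → P i := stepQ 35256 Q35256 (allL N35256 (tt N64932 (iv1 F301973)) (tt N17846 (iv0 D57983)) (tt N65004 (iv2 F198817)) (tt N65021 D124378) (tt N65022 D124379) (tt N34854 F301791) (tt N65023 D124380) (tt N34853 F301792))
theorem Q35258 : ∀ i, i < 35258 → P i := stepQ 35257 Q35257 (allL N35257 (tt N17846 (iv1 D57984)) (tt N64932 (iv0 F301972)) (tt N34853 F300543) (tt N65024 D124381) (tt N65025 D124382) (tt N24089 F300544) (tt N64557 (iv6 F303338)) (tt N65004 (iv7 F198816)))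
theorem Q35259 : ∀ i, i < 35259 → P i := stepQ 35258 Q35258 (allL N35258 (tt N65026 D124384) (tt N65027 D124385) (tt N65005 (iv2 F198810)) (tt N65028 D124386) (tt N17846 (iv4 D57985)) (tt N65029 D124387) (tt N65012 (iv6 F198888)) (tt N65030 D124388))
theorem Q35260 : ∀ i, i < 35260 → P i := stepQ 35259 Q35259 (allL N35259 (tt N34853 F301788) (tt N65004 F198814) (tt N64932 (iv2 F301974)) (tt N63100 (iv3 F185548)) (tt N65030 (iv4 F198920)) (tt N17847 F91741) (tt N65031 D124389) (tt N17846 (iv7 D57986)))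
theorem Q35261 : ∀ i, i < 35261 → P i := stepQ 35260 Q35260 (allL N35260 (tt N45345 F301960) (tt N45347 (iv0 F303346)) (tt N65006 (iv2 F198825)) (tt N54099 (iv3 F307577)) (tt N65032 D124401) (tt N17848 (iv5 D58002)) (tt N65033 D124402) (tt N54156 (iv7 F310315)))
theorem Q35262 : ∀ i, i < 35262 → P i := stepQ 35261 Q35261 (allL N35261 (tt N65034 D124407) (tt N65035 D124408) (tt N64613 F303750) (tt N65036 D124409) (tt N17849 (iv4 D58007)) (tt N65037 D124410) (tt N25044 F303751) (tt N64579 F303752))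
theorem Q35263 : ∀ i, i < 35263 → P i := stepQ 35262 Q35262 (allL N35262 (tt N23446 F121311) (tt N23644 (iv0 F91784)) (tt N24584 F117833) (tt N65038 D124412) (tt N17850 (iv4 D58016)) (tt N65039 D124413) (tt N24512 (iv6 F300057)) (tt N24582 (iv7 F118723)))
theorem Q35264 : ∀ i, i < 35264 → P i := stepQ 35263 Q35263 (allL N35263 (tt N54073 (iv1 F242108)) (tt N54142 (iv0 F351741)) (tt N54100 (iv2 F351603)) (tt N17851 (iv3 D58019)) (tt N65038 (iv4 F198964)) (tt N65040 D124424) (tt N64433 (iv6 F303601)) (tt N54143 (iv7 F351623)))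
theorem Q35265 : ∀ i, i < 35265 → P i := stepQ 35264 Q35264 (allL N35264 (tt N45347 (iv1 F303347)) (tt N45345 F301963) (tt N54156 (iv2 F310314)) (tt N65040 (iv3 F199008)) (tt N65041 D124426) (tt N17851 (iv5 D58020)) (tt N65042 D124427) (tt N65006 (iv7 F198826)))
theorem Q35266 : ∀ i, i < 35266 → P i := stepQ 35265 Q35265 (allL N35265 (tt N65035 (iv1 F198959)) (tt N65034 F198958) (tt N64579 (iv2 F302632)) (tt N65043 D124431) (tt N17852 (iv4 D58022)) (tt N65044 D124432) (tt N59829 (iv6 F324528)) (tt N64613 (iv7 F302628)))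
theorem Q35267 : ∀ i, i < 35267 → P i := stepQ 35266 Q35266 (allL N35266 (tt N31205 F326984) (tt N46710 F129972) (tt N47875 (iv2 F129969)) (tt N65045 D124437) (tt N17853 (iv4 D58030)) (tt N65046 D124438) (tt N35203 (iv6 F302229)) (tt N23410 F299355))
theorem Q35268 : ∀ i, i < 35268 → P i := stepQ 35267 Q35267 (allL N35267 (tt N46710 F126256) (tt N31205 F326983) (tt N23410 F299356) (tt N65047 D124441) (tt N17854 (iv4 D58034)) (tt N65048 D124442) (tt N23398 F299357) (tt N47875 F129971))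
theorem Q35269 : ∀ i, i < 35269 → P i := stepQ 35268 Q35268 (allL N35268 (tt N58292 (iv1 F324494)) (tt N17855 (iv0 D58036)) (tt N45624 (iv2 F118752)) (tt N59205 (iv3 F351080)) (tt N45623 F118753) (tt N59204 (iv5 F351085)) (tt N65049 D124446) (tt N58300 (iv7 F324502)))
theorem Q35270 : ∀ i, i < 35270 → P i := stepQ 35269 Q35269 (allL N35269 (tt N17855 (iv1 D58037)) (tt N58292 (iv0 F324493)) (tt N58300 (iv2 F324499)) (tt N31914 F326936) (tt N24092 F297438) (tt N65050 D124448) (tt N34457 F297439) (tt N45624 (iv7 F118749)))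
theorem Q35271 : ∀ i, i < 35271 → P i := stepQ 35270 Q35270 (allL N35270 (tt N65051 D124450) (tt N65052 D124451) (tt N65053 D124452) (tt N17855 (iv3 D58038)) (tt N17865 F91801) (tt N65054 D124453) (tt N25368 F91802) (tt N58296 (iv7 F321448)))
theorem Q35272 : ∀ i, i < 35272 → P i := stepQ 35271 Q35271 (allL N35271 (tt N65055 D124455) (tt N65056 D124456) (tt N65008 (iv2 F198851)) (tt N65054 (iv3 F199042)) (tt N65057 D124457) (tt N17855 (iv5 D58039)) (tt N56919 (iv6 F345409)) (tt N58301 (iv7 F324505)))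
theorem Q35273 : ∀ i, i < 35273 → P i := stepQ 35272 Q35272 (allL N35272 (tt N45448 F300916) (tt N44939 F318816) (tt N24622 (iv2 F118744)) (tt N63562 (iv3 F188087)) (tt N59519 (iv4 F327953)) (tt N17857 (iv5 D58055)) (tt N25370 (iv6 F327955)) (tt N24627 (iv7 F117681)))
theorem Q35274 : ∀ i, i < 35274 → P i := stepQ 35273 Q35273 (allL N35273 (tt N24513 F117713) (tt N17858 (iv0 D58056)) (tt N23036 F117714) (tt N23040 (iv3 F297357)) (tt N65058 D124464) (tt N22962 F117715) (tt N23040 F117716) (tt N24624 F117717))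
theorem Q35275 : ∀ i, i < 35275 → P i := stepQ 35274 Q35274 (allL N35274 (tt N17858 (iv1 D58057)) (tt N24513 F117708) (tt N24624 F117709) (tt N20513 F325859) (tt N65059 D124466) (tt N23037 F117710) (tt N23818 F117711) (tt N23036 F117712))
theorem Q35276 : ∀ i, i < 35276 → P i := stepQ 35275 Q35275 (allL N35275 (tt N45450 F300436) (tt N45452 F300437) (tt N24625 (iv2 F118743)) (tt N65060 D124469) (tt N17858 (iv4 D58058)) (tt N65061 D124470) (tt N46676 (iv6 F125772)) (tt N24628 (iv7 F117685)))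
theorem Q35277 : ∀ i, i < 35277 → P i := stepQ 35276 Q35276 (allL N35276 (tt N65062 D124471) (tt N65063 D124472) (tt N65064 D124473) (tt N17860 (iv3 D58060)) (tt N65060 (iv4 F199090)) (tt N64116 (iv5 F193134)) (tt N46677 (iv6 F125773)) (tt N24978 F91827))
theorem Q35278 : ∀ i, i < 35278 → P i := stepQ 35277 Q35277 (allL N35277 (tt N65065 D124474) (tt N65066 D124475) (tt N65067 D124476) (tt N17861 (iv3 D58085)) (tt N58094 (iv4 F366060)) (tt N44133 F311449) (tt N58092 (iv6 F323137)) (tt N24977 F91860))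
theorem Q35279 : ∀ i, i < 35279 → P i := stepQ 35278 Q35278 (allL N35278 (tt N17986 F91864) (tt N23810 (iv0 F91865)) (tt N24979 F91861) (tt N25316 F299549) (tt N32010 F321480) (tt N17862 (iv5 D58086)) (tt N17863 F91862) (tt N17891 F91863))
theorem Q35280 : ∀ i, i < 35280 → P i := stepQ 35279 Q35279 (allL N35279 (tt N24169 F91871) (tt N24168 F91872) (tt N24980 F91869) (tt N65068 D124477) (tt N17863 (iv4 D58088)) (tt N37447 F314137) (tt N32010 F321481) (tt N24013 F91870))
theorem Q35281 : ∀ i, i < 35281 → P i := stepQ 35280 Q35280 (allL N35280 (tt N47643 (iv1 F129381)) (tt N44851 (iv0 F118558)) (tt N24629 (iv2 F118571)) (tt N64103 (iv3 F193100)) (tt N17864 (iv4 D58092)) (tt N65069 D124479) (tt N35321 (iv6 F92043)) (tt N24631 (iv7 F117903)))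
theorem Q35282 : ∀ i, i < 35282 → P i := stepQ 35281 Q35281 (allL N35281 (tt N65070 D124480) (tt N17865 (iv0 D58098)) (tt N65071 D124481) (tt N35763 F326937) (tt N65072 D124483) (tt N65073 D124484) (tt N65074 D124485) (tt N65075 D124486))
theorem Q35283 : ∀ i, i < 35283 → P i := stepQ 35282 Q35282 (allL N35282 (tt N17865 (iv1 D58099)) (tt N65070 F199116) (tt N65075 (iv2 F199118)) (tt N65076 D124487) (tt N65077 D124488) (tt N57140 (iv5 F336028)) (tt N65078 D124490) (tt N65071 F199117))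
theorem Q35284 : ∀ i, i < 35284 → P i := stepQ 35283 Q35283 (allL N35283 (tt N65071 (iv1 F362194)) (tt N65075 (iv0 F345543)) (tt N17865 (iv2 D58100)) (tt N24988 F91890) (tt N65053 (iv4 F199040)) (tt N65079 D124493) (tt N25372 F91891) (tt N65070 (iv7 F199115)))
theorem Q35285 : ∀ i, i < 35285 → P i := stepQ 35284 Q35284 (allL N35284 (tt N65080 D124494) (tt N65081 D124495) (tt N65079 (iv2 F199121)) (tt N17866 F91892) (tt N65082 D124496) (tt N17865 (iv5 D58101)) (tt N65083 D124497) (tt N65084 D124498))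
theorem Q35286 : ∀ i, i < 35286 → P i := stepQ 35285 Q35285 (allL N35285 (tt N65075 (iv1 F345544)) (tt N65071 (iv0 F362193)) (tt N65070 F199113) (tt N17867 F91893) (tt N58296 (iv4 F321447)) (tt N65084 (iv5 F199129)) (tt N48345 (iv6 F132176)) (tt N17865 (iv7 D58102)))
theorem Q35287 : ∀ i, i < 35287 → P i := stepQ 35286 Q35286 (allL N35286 (tt N59943 (iv1 F324482)) (tt N25143 (iv0 F313781)) (tt N24993 F91898) (tt N65083 (iv3 F199125)) (tt N35487 F311378) (tt N18000 F91899) (tt N17866 (iv6 D58104)) (tt N48154 (iv7 F313786)))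
theorem Q35288 : ∀ i, i < 35288 → P i := stepQ 35287 Q35287 (allL N35287 (tt N22538 (iv1 F309217)) (tt N24991 F91904) (tt N24994 F91900) (tt N65084 (iv3 F199127)) (tt N21718 F91901) (tt N17867 F91902) (tt N65085 D124503) (tt N17866 (iv7 D58105)))
theorem Q35289 : ∀ i, i < 35289 → P i := stepQ 35288 Q35288 (allL N35288 (tt N64517 (iv1 F338146)) (tt N65086 D124505) (tt N63079 (iv2 F184930)) (tt N17869 F91905) (tt N24999 F91906) (tt N65087 D124506) (tt N17868 (iv6 D58106)) (tt N64925 (iv7 F297821)))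
theorem Q35290 : ∀ i, i < 35290 → P i := stepQ 35289 Q35289 (allL N35289 (tt N17869 (iv1 D58107)) (tt N17876 F91907) (tt N17874 F118153) (tt N65088 D124508) (tt N25376 F296511) (tt N65089 D124509) (tt N25190 (iv6 F131261)) (tt N17873 F118154))
theorem Q35291 : ∀ i, i < 35291 → P i := stepQ 35290 Q35290 (allL N35290 (tt N65090 D124510) (tt N46628 (iv0 F125644)) (tt N17875 F91908) (tt N65087 (iv3 F199147)) (tt N65091 D124511) (tt N17869 (iv5 D58108)) (tt N29142 F91909) (tt N64926 (iv7 F297824)))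
theorem Q35292 : ∀ i, i < 35292 → P i := stepQ 35291 Q35291 (allL N35291 (tt N24227 F120903) (tt N48409 F297752) (tt N17879 F116952) (tt N61421 (iv3 F312734)) (tt N17870 (iv4 D58115)) (tt N41822 (iv5 F308536)) (tt N25196 (iv6 F117020)) (tt N17877 F116953))
theorem Q35293 : ∀ i, i < 35293 → P i := stepQ 35292 Q35292 (allL N35292 (tt N17884 (iv1 F91922)) (tt N17871 (iv0 D58117)) (tt N17881 F116922) (tt N25274 (iv3 F297385)) (tt N65092 D124517) (tt N44908 F116923) (tt N31066 (iv6 F324413)) (tt N17882 F116924))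
theorem Q35294 : ∀ i, i < 35294 → P i := stepQ 35293 Q35293 (allL N35293 (tt N46144 F122173) (tt N65093 D124518) (tt N17883 F91917) (tt N65094 D124519) (tt N17871 (iv4 D58118)) (tt N65095 D124520) (tt N24242 F91918) (tt N64927 (iv7 F297509)))
theorem Q35295 : ∀ i, i < 35295 → P i := stepQ 35294 Q35294 (allL N35294 (tt N29143 (iv1 F91933)) (tt N17872 (iv0 D58120)) (tt N29141 F317933) (tt N65096 D124523) (tt N51805 (iv4 F315634)) (tt N65097 D124525) (tt N62732 F313237) (tt N18426 (iv7 F315640)))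
theorem Q35296 : ∀ i, i < 35296 → P i := stepQ 35295 Q35295 (allL N35295 (tt N17872 (iv1 D58121)) (tt N29143 F91925) (tt N18426 F315765) (tt N56044 (iv3 F318006)) (tt N51806 (iv4 F317173)) (tt N42443 (iv5 F318008)) (tt N18417 (iv6 F318009)) (tt N29141 F317934))
theorem Q35297 : ∀ i, i < 35297 → P i := stepQ 35296 Q35296 (allL N35296 (tt N65098 D124532) (tt N65099 D124533) (tt N29142 F91926) (tt N21126 F311064) (tt N65100 D124534) (tt N17872 (iv5 D58122)) (tt N17875 F91928) (tt N62714 (iv7 F313334)))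
theorem Q35298 : ∀ i, i < 35298 → P i := stepQ 35297 Q35297 (allL N35297 (tt N65101 D124536) (tt N52179 (iv0 F319572)) (tt N56109 (iv2 F297819)) (tt N17873 (iv3 D58125)) (tt N24665 F118459) (tt N65102 D124539) (tt N25374 F296507) (tt N65088 (iv7 F199154)))
theorem Q35299 : ∀ i, i < 35299 → P i := stepQ 35298 Q35298 (allL N35298 (tt N65103 D124541) (tt N41590 (iv0 F310876)) (tt N25464 (iv2 F297108)) (tt N65102 (iv3 F199203)) (tt N65104 D124543) (tt N17873 (iv5 D58127)) (tt N25834 (iv6 F297826)) (tt N65089 (iv7 F199156)))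
theorem Q35300 : ∀ i, i < 35300 → P i := stepQ 35299 Q35299 (allL N35299 (tt N41590 (iv1 F310877)) (tt N65103 F199207) (tt N65089 (iv2 F199155)) (tt N55181 (iv3 F337017)) (tt N65105 D124550) (tt N17874 (iv5 D58131)) (tt N55179 (iv6 F312110)) (tt N25464 F299091))
theorem Q35301 : ∀ i, i < 35301 → P i := stepQ 35300 Q35300 (allL N35300 (tt N64926 (iv1 F297822)) (tt N17875 (iv0 D58133)) (tt N65090 F199157) (tt N65106 D124552) (tt N65107 D124553) (tt N46629 F151616) (tt N65108 D124554) (tt N46628 (iv7 F151618)))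
theorem Q35302 : ∀ i, i < 35302 → P i := stepQ 35301 Q35301 (allL N35301 (tt N17875 (iv1 D58134)) (tt N64926 F299836) (tt N46628 (iv2 F125643)) (tt N56069 (iv3 F320803)) (tt N65109 D124556) (tt N24192 F299837) (tt N65110 D124557) (tt N65090 (iv7 F199158)))
theorem Q35303 : ∀ i, i < 35303 → P i := stepQ 35302 Q35302 (allL N35302 (tt N65111 D124558) (tt N65112 D124559) (tt N65091 (iv2 F199160)) (tt N65113 D124560) (tt N17875 (iv4 D58135)) (tt N65114 D124561) (tt N65100 (iv6 F199195)) (tt N65115 D124562))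
theorem Q35304 : ∀ i, i < 35304 → P i := stepQ 35303 Q35303 (allL N35303 (tt N46628 F125645) (tt N65090 F199159) (tt N64926 (iv2 F297823)) (tt N62605 (iv3 F308859)) (tt N65115 (iv4 F199216)) (tt N17876 F91938) (tt N62604 (iv6 F313263)) (tt N17875 (iv7 D58136)))
theorem Q35305 : ∀ i, i < 35305 → P i := stepQ 35304 Q35304 (allL N35304 (tt N61424 F312020) (tt N24755 (iv0 F314405)) (tt N61422 (iv2 F309812)) (tt N17877 (iv3 D58151)) (tt N23572 (iv4 F297964)) (tt N43851 (iv5 F308534)) (tt N23570 F297746) (tt N61421 (iv7 F312737)))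
theorem Q35306 : ∀ i, i < 35306 → P i := stepQ 35305 Q35305 (allL N35305 (tt N17878 (iv1 D58156)) (tt N17880 F91958) (tt N47755 F129681) (tt N17886 F116998) (tt N65116 D124584) (tt N23088 F116999) (tt N17993 F117000) (tt N25038 F117001))
theorem Q35307 : ∀ i, i < 35307 → P i := stepQ 35306 Q35306 (allL N35306 (tt N45878 (iv1 F299099)) (tt N45881 (iv0 F299100)) (tt N52350 F297277) (tt N65117 D124587) (tt N17878 (iv4 D58157)) (tt N65118 D124588) (tt N25610 F297278) (tt N47754 F129669))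
theorem Q35308 : ∀ i, i < 35308 → P i := stepQ 35307 Q35307 (allL N35307 (tt N52353 F154837) (tt N65119 D124592) (tt N44515 (iv2 F308667)) (tt N17879 (iv3 D58170)) (tt N44512 (iv4 F308491)) (tt N27726 F313014) (tt N27729 F313015) (tt N48426 F297772))
theorem Q35309 : ∀ i, i < 35309 → P i := stepQ 35308 Q35308 (allL N35308 (tt N41818 F309609) (tt N41823 F309610) (tt N41822 F309611) (tt N27726 (iv3 F310782)) (tt N65120 D124595) (tt N17879 (iv5 D58171)) (tt N27725 (iv6 F312546)) (tt N41821 F309612))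
theorem Q35310 : ∀ i, i < 35310 → P i := stepQ 35309 Q35309 (allL N35309 (tt N45881 (iv1 F299101)) (tt N45878 (iv0 F299098)) (tt N47754 (iv2 F129667)) (tt N60595 (iv3 F331142)) (tt N17880 (iv4 D58173)) (tt N60590 (iv5 F331164)) (tt N47682 (iv6 F129447)) (tt N52350 F297472))
theorem Q35311 : ∀ i, i < 35311 → P i := stepQ 35310 Q35310 (allL N35310 (tt N48484 (iv1 F297514)) (tt N48488 F296421) (tt N65092 (iv2 F199174)) (tt N32027 (iv3 F326670)) (tt N17881 (iv4 D58179)) (tt N65121 D124602) (tt N31067 F326096) (tt N46649 (iv7 F125702)))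
theorem Q35312 : ∀ i, i < 35312 → P i := stepQ 35311 Q35311 (allL N35311 (tt N48488 F296422) (tt N48484 (iv0 F297513)) (tt N46649 (iv2 F125701)) (tt N65122 D124606) (tt N17882 (iv4 D58184)) (tt N65123 D124607) (tt N64520 (iv6 F297652)) (tt N65092 (iv7 F199175)))
theorem Q35313 : ∀ i, i < 35313 → P i := stepQ 35312 Q35312 (allL N35312 (tt N64927 (iv1 F297507)) (tt N17883 (iv0 D58186)) (tt N46144 (iv2 F122174)) (tt N60766 (iv3 F358211)) (tt N46143 F122175) (tt N65124 D124610) (tt N65125 D124611) (tt N65093 (iv7 F199178)))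
theorem Q35314 : ∀ i, i < 35314 → P i := stepQ 35313 Q35313 (allL N35313 (tt N17883 (iv1 D58187)) (tt N64927 (iv0 F297506)) (tt N65093 F199180) (tt N65126 D124612) (tt N24198 (iv4 F296849)) (tt N65127 D124613) (tt N34626 (iv6 F297646)) (tt N46144 (iv7 F122170)))
theorem Q35315 : ∀ i, i < 35315 → P i := stepQ 35314 Q35314 (allL N35314 (tt N65128 D124615) (tt N60510 (iv0 F352186)) (tt N65129 D124617) (tt N17883 (iv3 D58188)) (tt N17894 F91977) (tt N65130 D124618) (tt N25304 F91978) (tt N65131 D124619))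
theorem Q35316 : ∀ i, i < 35316 → P i := stepQ 35315 Q35315 (allL N35315 (tt N65132 D124620) (tt N65133 D124621) (tt N65095 (iv2 F199183)) (tt N65130 (iv3 F199309)) (tt N65134 D124622) (tt N17883 (iv5 D58189)) (tt N65135 D124623) (tt N65136 D124624))
theorem Q35317 : ∀ i, i < 35317 → P i := stepQ 35316 Q35316 (allL N35316 (tt N65093 (iv1 F199177)) (tt N46144 (iv0 F122171)) (tt N64927 (iv2 F297508)) (tt N65131 (iv3 F199310)) (tt N17884 F91979) (tt N65136 (iv5 F199313)) (tt N55597 (iv6 F160855)) (tt N17883 (iv7 D58190)))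
theorem Q35318 : ∀ i, i < 35318 → P i := stepQ 35317 Q35317 (allL N35317 (tt N65137 D124626) (tt N65138 D124627) (tt N65139 D124628) (tt N17887 (iv3 D58216)) (tt N64284 F302626) (tt N43935 F317879) (tt N34620 F302627) (tt N25043 F92012))
theorem Q35319 : ∀ i, i < 35319 → P i := stepQ 35318 Q35318 (allL N35318 (tt N65140 D124631) (tt N65141 D124632) (tt N24678 F118568) (tt N63545 (iv3 F187993)) (tt N65142 D124633) (tt N17888 (iv5 D58233)) (tt N65143 D124634) (tt N24673 (iv7 F118005)))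
theorem Q35320 : ∀ i, i < 35320 → P i := stepQ 35319 Q35319 (allL N35319 (tt N24355 F297000) (tt N17889 (iv0 D58234)) (tt N24675 F117894) (tt N23025 (iv3 F297339)) (tt N45667 (iv4 F298768)) (tt N23020 (iv5 F298216)) (tt N23025 F117896) (tt N24674 F117897))
theorem Q35321 : ∀ i, i < 35321 → P i := stepQ 35320 Q35320 (allL N35320 (tt N17889 (iv1 D58235)) (tt N24355 F296999) (tt N24674 F117898) (tt N31239 F325045) (tt N45666 (iv4 F298764)) (tt N23044 F117899) (tt N31237 (iv6 F325273)) (tt N24675 F117900))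
theorem Q35322 : ∀ i, i < 35322 → P i := stepQ 35321 Q35321 (allL N35321 (tt N65144 D124639) (tt N65145 D124640) (tt N24680 F118570) (tt N55565 (iv3 F352052)) (tt N17889 (iv4 D58236)) (tt N65146 D124642) (tt N35280 F92043) (tt N24676 (iv7 F117937)))
theorem Q35323 : ∀ i, i < 35323 → P i := stepQ 35322 Q35322 (allL N35322 (tt N65147 D124643) (tt N65148 D124644) (tt N65149 D124645) (tt N17890 (iv3 D58237)) (tt N55565 (iv4 F352053)) (tt N57405 (iv5 F335977)) (tt N34638 F92045) (tt N25041 F92046))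
theorem Q35324 : ∀ i, i < 35324 → P i := stepQ 35323 Q35323 (allL N35323 (tt N29064 F118514) (tt N49349 F136145) (tt N24683 F118742) (tt N64247 (iv3 F194283)) (tt N17892 (iv4 D58246)) (tt N65150 D124646) (tt N65151 D124647) (tt N24681 (iv7 F117790)))
theorem Q35325 : ∀ i, i < 35325 → P i := stepQ 35324 Q35324 (allL N35324 (tt N23040 F117726) (tt N23043 F117727) (tt N24583 F299493) (tt N17893 F92067) (tt N65151 (iv4 F199398)) (tt N24570 F299494) (tt N17892 (iv6 D58247)) (tt N24585 F299495))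
theorem Q35326 : ∀ i, i < 35326 → P i := stepQ 35325 Q35325 (allL N35325 (tt N65152 D124648) (tt N17894 (iv0 D58248)) (tt N65153 D124649) (tt N65154 D124650) (tt N65155 D124651) (tt N65156 D124652) (tt N65157 D124653) (tt N65158 D124654))
theorem Q35327 : ∀ i, i < 35327 → P i := stepQ 35326 Q35326 (allL N35326 (tt N17894 (iv1 D58249)) (tt N65152 F199405) (tt N65158 (iv2 F199407)) (tt N65159 D124655) (tt N65160 D124656) (tt N65161 D124657) (tt N47282 (iv6 F342140)) (tt N65153 F199406))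
theorem Q35328 : ∀ i, i < 35328 → P i := stepQ 35327 Q35327 (allL N35327 (tt N65153 (iv1 F347458)) (tt N65158 (iv0 F347450)) (tt N17894 (iv2 D58250)) (tt N25053 F92070) (tt N65129 (iv4 F199307)) (tt N65162 D124661) (tt N25308 F92071) (tt N65152 (iv7 F199404)))
theorem Q35329 : ∀ i, i < 35329 → P i := stepQ 35328 Q35328 (allL N35328 (tt N65163 D124662) (tt N65164 D124663) (tt N65162 (iv2 F199410)) (tt N17895 F92072) (tt N65165 D124664) (tt N17894 (iv5 D58251)) (tt N48344 (iv6 F132174)) (tt N65166 D124665))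
theorem Q35330 : ∀ i, i < 35330 → P i := stepQ 35329 Q35329 (allL N35329 (tt N65158 (iv1 F347451)) (tt N65153 (iv0 F347457)) (tt N65152 F199402) (tt N17896 F92073) (tt N65131 (iv4 F199311)) (tt N65166 (iv5 F199413)) (tt N65167 D124666) (tt N17894 (iv7 D58252)))
theorem Q35331 : ∀ i, i < 35331 → P i := stepQ 35330 Q35330 (allL N35330 (tt N25057 (iv1 F92080)) (tt N25056 F92081) (tt N25059 F92077) (tt N65166 (iv3 F199412)) (tt N21126 F311066) (tt N17896 F92079) (tt N63081 (iv6 F185007)) (tt N17895 (iv7 D58254)))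
theorem Q35332 : ∀ i, i < 35332 → P i := stepQ 35331 Q35331 (allL N35331 (tt N25323 (iv1 F92088)) (tt N25322 (iv0 F92085)) (tt N25060 F92082) (tt N65167 (iv3 F199414)) (tt N17897 F92083) (tt N48154 F315768) (tt N17896 (iv6 D58255)) (tt N18000 F92084))
theorem Q35333 : ∀ i, i < 35333 → P i := stepQ 35332 Q35332 (allL N35332 (tt N22346 (iv1 F92095)) (tt N17898 (iv0 D58256)) (tt N22343 F109541) (tt N22458 F190609) (tt N65168 D124667) (tt N43491 F109542) (tt N65169 D124668) (tt N22344 F109543))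
theorem Q35334 : ∀ i, i < 35334 → P i := stepQ 35333 Q35333 (allL N35333 (tt N22344 (iv1 F92096)) (tt N22343 F92097) (tt N22346 F92091) (tt N17905 F92092) (tt N36573 (iv4 F94821)) (tt N17905 F92093) (tt N22300 F92094) (tt N17898 (iv7 D58258)))
theorem Q35335 : ∀ i, i < 35335 → P i := stepQ 35334 Q35334 (allL N35334 (tt N64587 (iv1 F197745)) (tt N64523 (iv0 F197485)) (tt N64428 (iv2 F197036)) (tt N17899 (iv3 D58259)) (tt N23893 F92098) (tt N65170 D124669) (tt N65171 D124670) (tt N22301 F92099))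
theorem Q35336 : ∀ i, i < 35336 → P i := stepQ 35335 Q35335 (allL N35335 (tt N22169 F92102) (tt N22221 F92103) (tt N22219 F92100) (tt N65170 (iv3 F199429)) (tt N36446 (iv4 F94635)) (tt N17899 (iv5 D58260)) (tt N65172 D124671) (tt N22218 F92101))
theorem Q35337 : ∀ i, i < 35337 → P i := stepQ 35336 Q35336 (allL N35336 (tt N22286 F110510) (tt N22290 F110511) (tt N22303 F92104) (tt N65171 (iv3 F199433)) (tt N33818 F92105) (tt N65173 D124672) (tt N17899 (iv6 D58261)) (tt N22387 F109823))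
theorem Q35338 : ∀ i, i < 35338 → P i := stepQ 35337 Q35337 (allL N35337 (tt N22221 F92108) (tt N22169 F92109) (tt N22218 F92106) (tt N63908 F191741) (tt N36447 (iv4 F94639)) (tt N17900 (iv5 D58262)) (tt N65174 D124673) (tt N22219 F92107))
theorem Q35339 : ∀ i, i < 35339 → P i := stepQ 35338 Q35338 (allL N35338 (tt N17920 (iv1 F199718)) (tt N17924 (iv0 F199719)) (tt N22302 F92110) (tt N48205 F307035) (tt N36431 (iv4 F94584)) (tt N65175 D124676) (tt N17900 (iv6 D58263)) (tt N64905 (iv7 F199724)))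
theorem Q35340 : ∀ i, i < 35340 → P i := stepQ 35339 Q35339 (allL N35339 (tt N17901 (iv1 D58264)) (tt N22306 F92118) (tt N22304 (iv2 F92114)) (tt N47073 (iv3 F128224)) (tt N35062 F92112) (tt N32623 (iv5 F92113)) (tt N65176 D124678) (tt N22305 F92111))
theorem Q35341 : ∀ i, i < 35341 → P i := stepQ 35340 Q35340 (allL N35340 (tt N22305 (iv1 F92122)) (tt N22304 F92121) (tt N17901 (iv2 D58265)) (tt N22329 F92119) (tt N36569 (iv4 F94815)) (tt N55774 (iv5 F161710)) (tt N65177 D124679) (tt N22306 F92120))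
theorem Q35342 : ∀ i, i < 35342 → P i := stepQ 35341 Q35341 (allL N35341 (tt N64546 (iv1 F235761)) (tt N65178 D124681) (tt N65177 (iv2 F199449)) (tt N17903 F92123) (tt N36570 (iv4 F94819)) (tt N65179 D124682) (tt N17901 (iv6 D58266)) (tt N65180 D124683))
theorem Q35343 : ∀ i, i < 35343 → P i := stepQ 35342 Q35342 (allL N35342 (tt N49876 (iv1 F345954)) (tt N65181 D124685) (tt N22332 F92124) (tt N61144 (iv3 F178114)) (tt N43635 (iv4 F109330)) (tt N65182 D124686) (tt N17902 (iv6 D58267)) (tt N65183 D124687))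
theorem Q35344 : ∀ i, i < 35344 → P i := stepQ 35343 Q35343 (allL N35343 (tt N22336 (iv1 F92130)) (tt N17903 (iv0 D58268)) (tt N22333 F190663) (tt N65184 D124688) (tt N33855 F190610) (tt N65185 D124689) (tt N65186 D124690) (tt N22334 F190664))
theorem Q35345 : ∀ i, i < 35345 → P i := stepQ 35344 Q35344 (allL N35344 (tt N17903 (iv1 D58269)) (tt N22336 F92125) (tt N22334 F190956) (tt N63098 (iv3 F305131)) (tt N36557 (iv4 F190958)) (tt N65187 D124691) (tt N48475 F310130) (tt N22333 F190957))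
theorem Q35346 : ∀ i, i < 35346 → P i := stepQ 35345 Q35345 (allL N35345 (tt N48932 F306637) (tt N29335 F306638) (tt N22335 F92126) (tt N65179 (iv3 F199451)) (tt N65188 D124695) (tt N17903 (iv5 D58270)) (tt N65182 (iv6 F199456)) (tt N48930 F306639))
theorem Q35347 : ∀ i, i < 35347 → P i := stepQ 35346 Q35346 (allL N35346 (tt N22334 (iv1 F92131)) (tt N22333 F92132) (tt N22336 F92127) (tt N65180 (iv3 F199452)) (tt N17905 F92128) (tt N48930 F307393) (tt N22314 F92129) (tt N17903 (iv7 D58271)))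
theorem Q35348 : ∀ i, i < 35348 → P i := stepQ 35347 Q35347 (allL N35347 (tt N63732 F190493) (tt N63731 F190494) (tt N22338 F109755) (tt N25078 F190495) (tt N37209 F309702) (tt N17904 (iv5 D58275)) (tt N37208 F309703) (tt N22341 F109756))
theorem Q35349 : ∀ i, i < 35349 → P i := stepQ 35348 Q35348 (allL N35348 (tt N17926 F190674) (tt N46669 F190559) (tt N22339 F109750) (tt N25079 F190560) (tt N54155 (iv4 F308445)) (tt N22266 F92134) (tt N17904 (iv6 D58276)) (tt N46670 F190561))
theorem Q35350 : ∀ i, i < 35350 → P i := stepQ 35349 Q35349 (allL N35349 (tt N22434 F190369) (tt N63528 F190370) (tt N17908 F92137) (tt N22293 F92138) (tt N28638 F92139) (tt N65189 D124699) (tt N17906 (iv6 D58282)) (tt N65190 D124700))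
theorem Q35351 : ∀ i, i < 35351 → P i := stepQ 35350 Q35350 (allL N35350 (tt N28285 F92143) (tt N51277 (iv0 F144659)) (tt N46693 (iv2 F125881)) (tt N17907 (iv3 D58283)) (tt N17909 F92140) (tt N28231 F92141) (tt N65191 D124701) (tt N22323 F92142))
theorem Q35352 : ∀ i, i < 35352 → P i := stepQ 35351 Q35351 (allL N35351 (tt N42523 F191121) (tt N28853 F314166) (tt N28638 F92144) (tt N65191 (iv3 F199504)) (tt N17908 F92145) (tt N65192 D124702) (tt N17907 (iv6 D58284)) (tt N42554 (iv7 F190894)))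
theorem Q35353 : ∀ i, i < 35353 → P i := stepQ 35352 Q35352 (allL N35352 (tt N65190 (iv1 F199500)) (tt N17908 (iv0 D58285)) (tt N22434 F191107) (tt N41001 F308930) (tt N21598 F191109) (tt N40999 (iv5 F311084)) (tt N56103 (iv6 F305125)) (tt N63528 F191110))
theorem Q35354 : ∀ i, i < 35354 → P i := stepQ 35353 Q35353 (allL N35353 (tt N17908 (iv1 D58286)) (tt N65190 F199499) (tt N63528 F191117) (tt N22425 F191118) (tt N21599 F191119) (tt N65193 D124705) (tt N64906 (iv6 F306492)) (tt N22434 F191120))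
theorem Q35355 : ∀ i, i < 35355 → P i := stepQ 35354 Q35354 (allL N35354 (tt N65194 D124707) (tt N65195 D124708) (tt N65189 (iv2 F199491)) (tt N17913 F92146) (tt N65196 D124709) (tt N17908 (iv5 D58287)) (tt N42488 (iv6 F106283)) (tt N65197 D124710))
theorem Q35356 : ∀ i, i < 35356 → P i := stepQ 35355 Q35355 (allL N35355 (tt N63528 F190740) (tt N22434 F190741) (tt N65190 (iv2 F199495)) (tt N17914 F92147) (tt N42554 F190742) (tt N65197 (iv5 F199529)) (tt N22327 F92148) (tt N17908 (iv7 D58288)))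
theorem Q35357 : ∀ i, i < 35357 → P i := stepQ 35356 Q35356 (allL N35356 (tt N28497 F92152) (tt N34850 F92153) (tt N42628 (iv2 F106639)) (tt N17910 F92149) (tt N23377 F92151) (tt N17909 (iv5 D58289)) (tt N65198 D124711) (tt N22330 F92150))
theorem Q35358 : ∀ i, i < 35358 → P i := stepQ 35357 Q35357 (allL N35357 (tt N26093 F304375) (tt N64441 (iv0 F197143)) (tt N64528 (iv2 F197495)) (tt N17911 F92154) (tt N65191 (iv4 F199505)) (tt N65199 D124712) (tt N17909 (iv6 D58290)) (tt N48783 F304376))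
theorem Q35359 : ∀ i, i < 35359 → P i := stepQ 35358 Q35358 (allL N35358 (tt N34506 F92158) (tt N21517 F92159) (tt N18581 F92155) (tt N42662 F108406) (tt N17910 (iv4 D58291)) (tt N18553 F92156) (tt N65200 D124713) (tt N18578 F92157))
theorem Q35360 : ∀ i, i < 35360 → P i := stepQ 35359 Q35359 (allL N35359 (tt N65201 D124714) (tt N65202 D124715) (tt N22311 F92160) (tt N65198 (iv3 F199530)) (tt N65200 (iv4 F199534)) (tt N52317 (iv5 F339695)) (tt N17910 (iv6 D58292)) (tt N65203 D124717))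
theorem Q35361 : ∀ i, i < 35361 → P i := stepQ 35360 Q35360 (allL N35360 (tt N65204 D124723) (tt N65205 D124724) (tt N22313 F92162) (tt N65199 (iv3 F199532)) (tt N65206 D124725) (tt N17911 (iv5 D58295)) (tt N52317 (iv6 F339696)) (tt N48784 F308301))
theorem Q35362 : ∀ i, i < 35362 → P i := stepQ 35361 Q35361 (allL N35361 (tt N63714 F190386) (tt N63713 F190387) (tt N22317 F190756) (tt N25088 F190389) (tt N61756 (iv4 F327337)) (tt N17912 (iv5 D58305)) (tt N61755 (iv6 F332564)) (tt N22315 F190757))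
theorem Q35363 : ∀ i, i < 35363 → P i := stepQ 35362 Q35362 (allL N35362 (tt N48161 F190391) (tt N17922 (iv0 F190780)) (tt N22318 F190760) (tt N25089 F190394) (tt N25826 F306141) (tt N52006 (iv5 F312744)) (tt N17912 (iv6 D58306)) (tt N25387 F306142))
theorem Q35364 : ∀ i, i < 35364 → P i := stepQ 35363 Q35363 (allL N35363 (tt N17913 (iv1 D58308)) (tt N22320 F92172) (tt N20687 F318069) (tt N25090 F190133) (tt N65207 D124729) (tt N43389 F190134) (tt N20679 (iv6 F318407)) (tt N22319 (iv7 F109431)))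
theorem Q35365 : ∀ i, i < 35365 → P i := stepQ 35364 Q35364 (allL N35364 (tt N20687 F318068) (tt N22319 F92177) (tt N22320 F92173) (tt N65197 (iv3 F199528)) (tt N56302 (iv4 F163384)) (tt N17914 F92174) (tt N65208 D124731) (tt N17913 (iv7 D58309)))
theorem Q35366 : ∀ i, i < 35366 → P i := stepQ 35365 Q35365 (allL N35365 (tt N40006 F314615) (tt N21911 F232422) (tt N42747 (iv2 F232355)) (tt N17915 (iv3 D58311)) (tt N28778 (iv4 F155125)) (tt N65209 D124734) (tt N65210 D124735) (tt N17923 F190849))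
theorem Q35367 : ∀ i, i < 35367 → P i := stepQ 35366 Q35366 (allL N35366 (tt N64905 (iv1 F198600)) (tt N22302 F199699) (tt N17920 F190850) (tt N64529 (iv3 F197497)) (tt N17915 (iv4 D58312)) (tt N48877 F308577) (tt N48553 F308578) (tt N17924 F190851))
theorem Q35368 : ∀ i, i < 35368 → P i := stepQ 35367 Q35367 (allL N35367 (tt N25135 F190639) (tt N65211 D124738) (tt N17921 F190852) (tt N65209 (iv3 F199602)) (tt N44302 F314347) (tt N17915 (iv5 D58313)) (tt N65212 D124740) (tt N17925 F190853))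
theorem Q35369 : ∀ i, i < 35369 → P i := stepQ 35368 Q35368 (allL N35368 (tt N22318 F190861) (tt N25387 F306140) (tt N17922 F190854) (tt N65210 (iv3 F199604)) (tt N48553 (iv4 F307011)) (tt N34549 F92179) (tt N17915 (iv6 D58314)) (tt N48161 F190855))
theorem Q35370 : ∀ i, i < 35370 → P i := stepQ 35369 Q35369 (allL N35369 (tt N22048 (iv1 F199872)) (tt N22726 F310700) (tt N39999 (iv2 F311936)) (tt N17916 (iv3 D58316)) (tt N36593 F94837) (tt N30644 F310701) (tt N65213 D124744) (tt N17919 F190841))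
theorem Q35371 : ∀ i, i < 35371 → P i := stepQ 35370 Q35370 (allL N35370 (tt N22302 F199700) (tt N64905 F198599) (tt N17924 F190842) (tt N65214 D124745) (tt N17916 (iv4 D58317)) (tt N48876 F308576) (tt N65215 D124747) (tt N17920 F190843))
theorem Q35372 : ∀ i, i < 35372 → P i := stepQ 35371 Q35371 (allL N35371 (tt N65211 (iv1 F199611)) (tt N25135 F190864) (tt N17925 F190844) (tt N30644 F311283) (tt N44303 (iv4 F312816)) (tt N17916 (iv5 D58318)) (tt N65216 D124749) (tt N17921 F190845))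
theorem Q35373 : ∀ i, i < 35373 → P i := stepQ 35372 Q35372 (allL N35372 (tt N46670 F190865) (tt N22339 F190866) (tt N17926 F190838) (tt N65213 (iv3 F199656)) (tt N65215 (iv4 F199661)) (tt N20688 F320567) (tt N17916 (iv6 D58319)) (tt N46669 F190839))
theorem Q35374 : ∀ i, i < 35374 → P i := stepQ 35373 Q35373 (allL N35373 (tt N17930 (iv1 F92188)) (tt N17917 (iv0 D58320)) (tt N17927 F155561) (tt N40003 (iv3 F314323)) (tt N39960 (iv4 F316125)) (tt N48443 F306657) (tt N33426 F322131) (tt N17928 F155562))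
theorem Q35375 : ∀ i, i < 35375 → P i := stepQ 35374 Q35374 (allL N35374 (tt N17917 (iv1 D58321)) (tt N17930 F92181) (tt N17928 F155558) (tt N22722 (iv3 F314329)) (tt N39961 (iv4 F314330)) (tt N22862 (iv5 F92182)) (tt N47748 F311861) (tt N17927 F155559))
theorem Q35376 : ∀ i, i < 35376 → P i := stepQ 35375 Q35375 (allL N35375 (tt N44369 F312321) (tt N44367 (iv0 F314702)) (tt N17929 F92183) (tt N65217 D124759) (tt N17917 (iv4 D58322)) (tt N65218 D124760) (tt N22164 F92184) (tt N65219 D124761))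
theorem Q35377 : ∀ i, i < 35377 → P i := stepQ 35376 Q35376 (allL N35376 (tt N17928 (iv1 F92189)) (tt N17927 F92190) (tt N17930 F92185) (tt N22733 F313630) (tt N65219 (iv4 F200391)) (tt N17918 F92187) (tt N65220 D124762) (tt N17917 (iv7 D58323)))
theorem Q35378 : ∀ i, i < 35378 → P i := stepQ 35377 Q35377 (allL N35377 (tt N39999 (iv1 F311935)) (tt N17919 (iv0 D58330)) (tt N22726 F310698) (tt N17939 F199642) (tt N37189 F310699) (tt N22724 (iv5 F311280)) (tt N22382 F199855) (tt N22048 (iv7 F199873)))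
theorem Q35379 : ∀ i, i < 35379 → P i := stepQ 35378 Q35378 (allL N35378 (tt N22726 F310702) (tt N22048 (iv0 F199871)) (tt N17919 (iv2 D58332)) (tt N42747 (iv3 F232356)) (tt N36592 (iv4 F190882)) (tt N30645 F310703) (tt N65221 D124766) (tt N39999 (iv7 F311937)))
theorem Q35380 : ∀ i, i < 35380 → P i := stepQ 35379 Q35379 (allL N35379 (tt N35474 F92462) (tt N36413 (iv0 F94528)) (tt N36592 F190881) (tt N65222 D124767) (tt N17919 (iv4 D58333)) (tt N36846 (iv5 F314448)) (tt N47554 F304915) (tt N36593 F190880))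
theorem Q35381 : ∀ i, i < 35381 → P i := stepQ 35380 Q35380 (allL N35380 (tt N63705 (iv1 F200439)) (tt N65223 D124774) (tt N65221 (iv2 F200419)) (tt N17922 F92200) (tt N47554 F305629) (tt N41971 F200293) (tt N17919 (iv6 D58335)) (tt N65224 D124775))
theorem Q35382 : ∀ i, i < 35382 → P i := stepQ 35381 Q35381 (allL N35381 (tt N17924 (iv1 F92206)) (tt N17920 (iv0 D58337)) (tt N64905 (iv2 F198594)) (tt N22797 F311085) (tt N22699 (iv4 F312242)) (tt N65225 D124777) (tt N22387 F199701) (tt N22302 F199702))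
theorem Q35383 : ∀ i, i < 35383 → P i := stepQ 35382 Q35382 (allL N35382 (tt N64897 F198476) (tt N65176 (iv0 F317262)) (tt N65226 D124779) (tt N17920 (iv3 D58339)) (tt N65222 (iv4 F200428)) (tt N65227 D124780) (tt N48715 F308829) (tt N65214 (iv7 F199657)))
theorem Q35384 : ∀ i, i < 35384 → P i := stepQ 35383 Q35383 (allL N35383 (tt N29347 F307401) (tt N48879 (iv0 F308462)) (tt N48877 (iv2 F308460)) (tt N65227 (iv3 F200450)) (tt N65228 D124784) (tt N17920 (iv5 D58340)) (tt N65229 D124785) (tt N48876 (iv7 F308459)))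
theorem Q35385 : ∀ i, i < 35385 → P i := stepQ 35384 Q35384 (allL N35384 (tt N17925 (iv1 F92210)) (tt N17921 (iv0 D58343)) (tt N25135 (iv2 F190593)) (tt N25104 F190536) (tt N65230 D124789) (tt N25426 F304644) (tt N25428 (iv6 F306654)) (tt N65211 (iv7 F199612)))
theorem Q35386 : ∀ i, i < 35386 → P i := stepQ 35385 Q35385 (allL N35385 (tt N17921 (iv1 D58344)) (tt N17925 F92207) (tt N65211 F199613) (tt N17936 F190640) (tt N65231 D124791) (tt N43151 F190641) (tt N43540 F109548) (tt N25135 F190642))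
theorem Q35387 : ∀ i, i < 35387 → P i := stepQ 35386 Q35386 (allL N35386 (tt N20221 F310577) (tt N44304 (iv0 F310663)) (tt N44302 (iv2 F312824)) (tt N65232 D124794) (tt N17921 (iv4 D58345)) (tt N65233 D124795) (tt N65234 D124796) (tt N44303 (iv7 F312817)))
theorem Q35388 : ∀ i, i < 35388 → P i := stepQ 35387 Q35387 (allL N35387 (tt N65235 D124797) (tt N65236 D124798) (tt N65212 (iv2 F199618)) (tt N44459 F314348) (tt N65234 (iv4 F200462)) (tt N65237 D124799) (tt N17921 (iv6 D58346)) (tt N65238 D124800))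
theorem Q35389 : ∀ i, i < 35389 → P i := stepQ 35388 Q35388 (allL N35388 (tt N34540 F92211) (tt N34551 (iv0 F92212)) (tt N34549 F190863) (tt N41971 (iv3 F200294)) (tt N52028 (iv4 F335099)) (tt N17922 (iv5 D58350)) (tt N65237 (iv6 F200464)) (tt N34548 F190703))
theorem Q35390 : ∀ i, i < 35390 → P i := stepQ 35389 Q35389 (allL N35389 (tt N25387 F305634) (tt N22318 F190859) (tt N48161 F190811) (tt N65224 (iv3 F200440)) (tt N48554 (iv4 F307009)) (tt N34548 (iv5 F190702)) (tt N46669 F190701) (tt N17922 (iv7 D58351)))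
theorem Q35391 : ∀ i, i < 35391 → P i := stepQ 35390 Q35390 (allL N35390 (tt N17923 (iv1 D58354)) (tt N42747 (iv0 F232354)) (tt N40006 F314616) (tt N17931 (iv3 F133069)) (tt N25236 F133068) (tt N40004 F314617) (tt N22398 F210890) (tt N21911 (iv7 F232359)))
theorem Q35392 : ∀ i, i < 35392 → P i := stepQ 35391 Q35391 (allL N35391 (tt N21911 F232419) (tt N40006 F314614) (tt N17923 (iv2 D58355)) (tt N39999 F314338) (tt N28779 F190879) (tt N44460 F314339) (tt N65239 D124807) (tt N42747 (iv7 F232358)))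
theorem Q35393 : ∀ i, i < 35393 → P i := stepQ 35392 Q35392 (allL N35392 (tt N28777 (iv1 F155116)) (tt N28781 (iv0 F155127)) (tt N28779 F190875) (tt N65240 D124808) (tt N17923 (iv4 D58356)) (tt N65241 D124809) (tt N65242 D124810) (tt N28778 F190876))
theorem Q35394 : ∀ i, i < 35394 → P i := stepQ 35393 Q35393 (allL N35393 (tt N65243 D124811) (tt N65244 D124812) (tt N44460 F314336) (tt N17925 F92214) (tt N65245 D124813) (tt N17923 (iv5 D58357)) (tt N65246 D124814) (tt N65209 (iv7 F199603)))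
theorem Q35395 : ∀ i, i < 35395 → P i := stepQ 35394 Q35394 (allL N35394 (tt N65247 D124815) (tt N63724 (iv0 F241310)) (tt N65239 (iv2 F200478)) (tt N17926 F92215) (tt N65242 (iv4 F200485)) (tt N65248 D124817) (tt N17923 (iv6 D58358)) (tt N65249 D124818))
theorem Q35396 : ∀ i, i < 35396 → P i := stepQ 35395 Q35395 (allL N35395 (tt N28156 F128808) (tt N48202 F304449) (tt N64530 F197504) (tt N17924 (iv3 D58359)) (tt N65240 (iv4 F200480)) (tt N65250 D124819) (tt N65251 D124820) (tt N64529 F197500))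
theorem Q35397 : ∀ i, i < 35397 → P i := stepQ 35396 Q35396 (allL N35396 (tt N48879 (iv1 F308463)) (tt N29347 F307400) (tt N48876 (iv2 F308458)) (tt N65250 (iv3 F200490)) (tt N65252 D124821) (tt N17924 (iv5 D58360)) (tt N65253 D124822) (tt N48877 (iv7 F308461)))
theorem Q35398 : ∀ i, i < 35398 → P i := stepQ 35397 Q35397 (allL N35397 (tt N65254 D124823) (tt N65186 (iv0 F268184)) (tt N65215 (iv2 F199660)) (tt N65251 (iv3 F200491)) (tt N17926 F92216) (tt N65255 D124825) (tt N17924 (iv6 D58361)) (tt N48718 F308824))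
theorem Q35399 : ∀ i, i < 35399 → P i := stepQ 35398 Q35398 (allL N35398 (tt N44304 (iv1 F310664)) (tt N20221 F310576) (tt N44303 (iv2 F312815)) (tt N65256 D124827) (tt N17925 (iv4 D58362)) (tt N65257 D124828) (tt N65258 D124829) (tt N44302 (iv7 F312825)))
theorem Q35400 : ∀ i, i < 35400 → P i := stepQ 35399 Q35399 (allL N35399 (tt N21052 F320496) (tt N43544 (iv0 F109175)) (tt N65216 (iv2 F199664)) (tt N65246 (iv3 F200487)) (tt N65258 (iv4 F200493)) (tt N65259 D124831) (tt N17925 (iv6 D58363)) (tt N65260 D124832))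
theorem Q35401 : ∀ i, i < 35401 → P i := stepQ 35400 Q35400 (allL N35400 (tt N20690 F320558) (tt N20680 F320559) (tt N20688 (iv2 F322359)) (tt N65248 (iv3 F200488)) (tt N65261 D124833) (tt N17926 (iv5 D58366)) (tt N65259 (iv6 F200494)) (tt N20689 (iv7 F322366)))
theorem Q35402 : ∀ i, i < 35402 → P i := stepQ 35401 Q35401 (allL N35401 (tt N22339 F190867) (tt N46670 F190868) (tt N46669 F190700) (tt N65249 (iv3 F200489)) (tt N48718 (iv4 F307010)) (tt N20689 F320569) (tt N48161 F190812) (tt N17926 (iv7 D58367)))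
theorem Q35403 : ∀ i, i < 35403 → P i := stepQ 35402 Q35402 (allL N35402 (tt N22690 F313631) (tt N39962 F313632) (tt N39960 (iv2 F316124)) (tt N65262 D124842) (tt N17927 (iv4 D58370)) (tt N65263 D124843) (tt N33297 F322256) (tt N39961 (iv7 F314331)))
theorem Q35404 : ∀ i, i < 35404 → P i := stepQ 35403 Q35403 (allL N35403 (tt N48444 (iv1 F304646)) (tt N22027 F190592) (tt N48443 F306656) (tt N38345 F309114) (tt N25721 (iv4 F304664)) (tt N17927 (iv5 D58371)) (tt N65264 D124847) (tt N22862 F155560))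
theorem Q35405 : ∀ i, i < 35405 → P i := stepQ 35404 Q35404 (allL N35404 (tt N40008 F313649) (tt N40004 (iv0 F314320)) (tt N39992 F313650) (tt N17928 (iv3 D58374)) (tt N65265 D124855) (tt N65266 D124856) (tt N65267 D124857) (tt N40003 (iv7 F314324)))
theorem Q35406 : ∀ i, i < 35406 → P i := stepQ 35405 Q35405 (allL N35405 (tt N39962 F314687) (tt N22690 F314688) (tt N39961 F314689) (tt N65268 D124858) (tt N17928 (iv4 D58375)) (tt N65269 D124859) (tt N65270 D124860) (tt N39960 (iv7 F316126)))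
theorem Q35407 : ∀ i, i < 35407 → P i := stepQ 35406 Q35406 (allL N35406 (tt N22027 F199674) (tt N48444 (iv0 F304645)) (tt N22862 F155541) (tt N65266 (iv3 F200536)) (tt N25722 (iv4 F304666)) (tt N17928 (iv5 D58376)) (tt N22203 F92219) (tt N48443 F306659))
theorem Q35408 : ∀ i, i < 35408 → P i := stepQ 35407 Q35407 (allL N35407 (tt N65271 D124862) (tt N65272 D124863) (tt N47748 F311845) (tt N65267 (iv3 F200538)) (tt N65270 (iv4 F200539)) (tt N47747 F311846) (tt N17928 (iv6 D58377)) (tt N65273 D124865))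
theorem Q35409 : ∀ i, i < 35409 → P i := stepQ 35408 Q35408 (allL N35408 (tt N65219 (iv1 F200396)) (tt N17929 (iv0 D58378)) (tt N44369 F312318) (tt N65274 D124867) (tt N20261 F312319) (tt N65275 D124868) (tt N20619 F321301) (tt N44367 (iv7 F314705)))
theorem Q35410 : ∀ i, i < 35410 → P i := stepQ 35409 Q35409 (allL N35409 (tt N17929 (iv1 D58379)) (tt N65219 F200393) (tt N44367 (iv2 F314704)) (tt N57822 (iv3 F314709)) (tt N20262 F312322) (tt N65276 D124873) (tt N65277 D124874) (tt N44369 F312323))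
theorem Q35411 : ∀ i, i < 35411 → P i := stepQ 35410 Q35410 (allL N35410 (tt N65278 D124880) (tt N65279 D124881) (tt N65218 (iv2 F200389)) (tt N57844 (iv3 F319268)) (tt N65280 D124882) (tt N17929 (iv5 D58381)) (tt N65281 D124883) (tt N65282 D124884))
theorem Q35412 : ∀ i, i < 35412 → P i := stepQ 35411 Q35411 (allL N35411 (tt N44367 (iv1 F314703)) (tt N44369 F312320) (tt N65219 (iv2 F200390)) (tt N57838 (iv3 F314706)) (tt N17930 F92222) (tt N65282 (iv5 F200563)) (tt N65283 D124885) (tt N17929 (iv7 D58382)))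
theorem Q35413 : ∀ i, i < 35413 → P i := stepQ 35412 Q35412 (allL N35412 (tt N65284 D124886) (tt N65285 D124887) (tt N65220 (iv2 F200398)) (tt N17959 F92223) (tt N65283 (iv4 F200564)) (tt N21388 F92224) (tt N17930 (iv6 D58383)) (tt N21391 F92225))
theorem Q35414 : ∀ i, i < 35414 → P i := stepQ 35413 Q35413 (allL N35413 (tt N63272 (iv1 F232378)) (tt N63271 (iv0 F232382)) (tt N25149 F133071) (tt N48471 (iv3 F232375)) (tt N17931 (iv4 D58386)) (tt N51997 (iv5 F301293)) (tt N22494 F210891) (tt N21921 (iv7 F232387)))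
theorem Q35415 : ∀ i, i < 35415 → P i := stepQ 35414 Q35414 (allL N35414 (tt N25172 F200358) (tt N17947 F200359) (tt N25150 F133073) (tt N40004 F314646) (tt N65286 D124893) (tt N17931 (iv5 D58387)) (tt N65287 D124894) (tt N21922 (iv7 F232389)))
theorem Q35416 : ∀ i, i < 35416 → P i := stepQ 35415 Q35415 (allL N35415 (tt N22440 F305197) (tt N22429 F199745) (tt N17933 F92229) (tt N25125 F305198) (tt N17932 (iv4 D58394)) (tt N43086 (iv5 F307095)) (tt N17932 F305199) (tt N25151 F92230))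
theorem Q35417 : ∀ i, i < 35417 → P i := stepQ 35416 Q35416 (allL N35416 (tt N25157 (iv1 F92236)) (tt N25156 F92237) (tt N17934 F92233) (tt N25124 F92234) (tt N44331 F312354) (tt N17932 (iv5 D58395)) (tt N56051 (iv6 F321485)) (tt N25152 F92235))
theorem Q35418 : ∀ i, i < 35418 → P i := stepQ 35417 Q35417 (allL N35417 (tt N25151 (iv1 F92240)) (tt N17933 (iv0 D58397)) (tt N22440 F305195) (tt N64906 (iv3 F198606)) (tt N39944 (iv4 F314454)) (tt N64011 (iv5 F307112)) (tt N22425 F305196) (tt N22429 F199749))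
theorem Q35419 : ∀ i, i < 35419 → P i := stepQ 35418 Q35418 (allL N35418 (tt N25152 (iv1 F92245)) (tt N17934 (iv0 D58401)) (tt N25157 F232628) (tt N65244 (iv3 F232988)) (tt N65288 D124930) (tt N34015 F305703) (tt N65289 D124932) (tt N25156 (iv7 F232631)))
theorem Q35420 : ∀ i, i < 35420 → P i := stepQ 35419 Q35419 (allL N35419 (tt N17934 (iv1 D58402)) (tt N25152 F92246) (tt N25156 (iv2 F232630)) (tt N38262 F312355) (tt N65290 D124935) (tt N43095 F305704) (tt N63337 (iv6 F232627)) (tt N25157 F232629))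
theorem Q35421 : ∀ i, i < 35421 → P i := stepQ 35420 Q35420 (allL N35420 (tt N44332 F313388) (tt N20205 F313389) (tt N44331 (iv2 F315857)) (tt N65291 D124940) (tt N17934 (iv4 D58403)) (tt N65292 D124941) (tt N65293 D124942) (tt N25158 F92247))
theorem Q35422 : ∀ i, i < 35422 → P i := stepQ 35421 Q35421 (allL N35421 (tt N65294 D124943) (tt N65295 D124944) (tt N56051 (iv2 F321483)) (tt N17938 F92248) (tt N65293 (iv4 F200674)) (tt N41345 (iv5 F321487)) (tt N17934 (iv6 D58404)) (tt N56042 (iv7 F321490)))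
theorem Q35423 : ∀ i, i < 35423 → P i := stepQ 35422 Q35422 (allL N35422 (tt N25097 (iv1 F130169)) (tt N18999 F311306) (tt N25104 F110348) (tt N17935 (iv3 D58408)) (tt N65296 D124956) (tt N33968 F92252) (tt N62219 (iv6 F313692)) (tt N25105 (iv7 F110347)))
theorem Q35424 : ∀ i, i < 35424 → P i := stepQ 35423 Q35423 (allL N35423 (tt N17981 F92257) (tt N17971 F92258) (tt N25136 F92255) (tt N65297 D124958) (tt N17935 (iv4 D58409)) (tt N43941 (iv5 F110221)) (tt N65298 D124959) (tt N25138 F92256))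
theorem Q35425 : ∀ i, i < 35425 → P i := stepQ 35424 Q35424 (allL N35424 (tt N63070 F184907) (tt N65299 D124960) (tt N25137 F92259) (tt N62219 (iv3 F313690)) (tt N65298 (iv4 F200687)) (tt N23932 F303487) (tt N17935 (iv6 D58410)) (tt N63772 (iv7 F189479)))
theorem Q35426 : ∀ i, i < 35426 → P i := stepQ 35425 Q35425 (allL N35425 (tt N17971 F92264) (tt N17981 F92265) (tt N25138 F92262) (tt N65300 D124961) (tt N17936 (iv4 D58412)) (tt N44877 (iv5 F113799)) (tt N63773 (iv6 F189487)) (tt N25136 F92263))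
theorem Q35427 : ∀ i, i < 35427 → P i := stepQ 35426 Q35426 (allL N35426 (tt N30461 (iv1 F320219)) (tt N65301 D124963) (tt N65302 D124964) (tt N17937 (iv3 D58413)) (tt N65291 (iv4 F200671)) (tt N48068 (iv5 F130610)) (tt N65303 D124965) (tt N25162 F92266))
theorem Q35428 : ∀ i, i < 35428 → P i := stepQ 35427 Q35427 (allL N35427 (tt N24993 F311441) (tt N48154 (iv0 F230114)) (tt N25143 F92267) (tt N65303 (iv3 F200699)) (tt N17938 F92268) (tt N31187 F323948) (tt N17937 (iv6 D58414)) (tt N59943 (iv7 F324486)))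
theorem Q35429 : ∀ i, i < 35429 → P i := stepQ 35428 Q35428 (allL N35428 (tt N25147 (iv1 F92272)) (tt N17938 (iv0 D58415)) (tt N25144 F106002) (tt N65304 D124970) (tt N31279 (iv4 F317198)) (tt N42398 F106120) (tt N22539 (iv6 F106121)) (tt N25145 F106000))
theorem Q35430 : ∀ i, i < 35430 → P i := stepQ 35429 Q35429 (allL N35429 (tt N17938 (iv1 D58416)) (tt N25147 F92269) (tt N25145 (iv2 F105999)) (tt N65236 (iv3 F243042)) (tt N45786 F313898) (tt N41834 (iv5 F104970)) (tt N41835 (iv6 F104973)) (tt N25144 (iv7 F106001)))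
theorem Q35431 : ∀ i, i < 35431 → P i := stepQ 35430 Q35430 (allL N35430 (tt N25145 (iv1 F92273)) (tt N25144 F92274) (tt N25147 F92270) (tt N56042 (iv3 F321489)) (tt N59943 (iv4 F324484)) (tt N44894 (iv5 F113846)) (tt N21054 F320500) (tt N17938 (iv7 D58417)))
theorem Q35432 : ∀ i, i < 35432 → P i := stepQ 35431 Q35431 (allL N35431 (tt N63204 F199883) (tt N63203 F199884) (tt N25122 F199643) (tt N65305 D124974) (tt N17939 (iv4 D58425)) (tt N65306 D124975) (tt N22514 F199885) (tt N22054 F199886))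
theorem Q35433 : ∀ i, i < 35433 → P i := stepQ 35432 Q35432 (allL N35432 (tt N22463 F155142) (tt N25126 F92281) (tt N17941 F92278) (tt N65307 D124977) (tt N17940 (iv4 D58428)) (tt N65308 D124978) (tt N65309 D124979) (tt N25123 F92279))
theorem Q35434 : ∀ i, i < 35434 → P i := stepQ 35433 Q35433 (allL N35433 (tt N63755 F199879) (tt N22473 F199880) (tt N17943 F92287) (tt N25153 F92288) (tt N65309 (iv4 F200743)) (tt N43335 F199881) (tt N17940 (iv6 D58430)) (tt N62533 (iv7 F322174)))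
theorem Q35435 : ∀ i, i < 35435 → P i := stepQ 35434 Q35434 (allL N35434 (tt N17941 (iv1 D58432)) (tt N25123 F92290) (tt N25126 F131860) (tt N24463 F155143) (tt N35477 (iv4 F92469)) (tt N65310 D124982) (tt N22517 F184596) (tt N22463 F155144))
theorem Q35436 : ∀ i, i < 35436 → P i := stepQ 35435 Q35435 (allL N35435 (tt N65311 D124983) (tt N65312 D124984) (tt N65308 (iv2 F200738)) (tt N23824 F320939) (tt N65313 D124985) (tt N17941 (iv5 D58433)) (tt N23953 (iv6 F322702)) (tt N23823 F320940))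
theorem Q35437 : ∀ i, i < 35437 → P i := stepQ 35436 Q35436 (allL N35436 (tt N65314 D124987) (tt N65315 D124988) (tt N65309 (iv2 F200742)) (tt N46421 F302759) (tt N17943 F92292) (tt N65316 D124989) (tt N17941 (iv6 D58434)) (tt N65317 D124990))
theorem Q35438 : ∀ i, i < 35438 → P i := stepQ 35437 Q35437 (allL N35437 (tt N65318 D124994) (tt N65319 D124995) (tt N44476 F316051) (tt N38180 (iv3 F316691)) (tt N17942 (iv4 D58437)) (tt N65320 D124997) (tt N62691 (iv6 F318438)) (tt N25129 F92295))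
theorem Q35439 : ∀ i, i < 35439 → P i := stepQ 35438 Q35438 (allL N35438 (tt N62533 (iv1 F322170)) (tt N17943 (iv0 D58439)) (tt N63755 F199916) (tt N63735 F199917) (tt N54310 (iv4 F344074)) (tt N22129 F199918) (tt N54308 (iv6 F344072)) (tt N22473 F199920))
theorem Q35440 : ∀ i, i < 35440 → P i := stepQ 35439 Q35439 (allL N35439 (tt N17943 (iv1 D58440)) (tt N62533 (iv0 F322169)) (tt N22473 F199921) (tt N65169 F199922) (tt N65321 D125001) (tt N22130 F199923) (tt N22458 F199924) (tt N63755 F199925))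
theorem Q35441 : ∀ i, i < 35441 → P i := stepQ 35440 Q35440 (allL N35440 (tt N22473 F199952) (tt N63755 F199953) (tt N62533 (iv2 F322171)) (tt N17946 F92298) (tt N65317 (iv4 F200765)) (tt N20638 (iv5 F318401)) (tt N25134 F92299) (tt N17943 (iv7 D58442)))
theorem Q35442 : ∀ i, i < 35442 → P i := stepQ 35441 Q35441 (allL N35441 (tt N65322 D125003) (tt N65323 D125004) (tt N65324 D125005) (tt N17944 (iv3 D58443)) (tt N38180 F319064) (tt N64017 (iv5 F192196)) (tt N65325 D125006) (tt N25142 F92300))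
theorem Q35443 : ∀ i, i < 35443 → P i := stepQ 35442 Q35442 (allL N35442 (tt N20505 F320501) (tt N42884 (iv0 F107530)) (tt N25163 F92301) (tt N65325 (iv3 F200791)) (tt N17945 F92302) (tt N23518 F323713) (tt N17944 (iv6 D58444)) (tt N45614 (iv7 F323776)))
theorem Q35444 : ∀ i, i < 35444 → P i := stepQ 35443 Q35443 (allL N35443 (tt N25150 F200372) (tt N21922 F232409) (tt N17947 (iv2 D58451)) (tt N22730 F313574) (tt N39925 (iv4 F316034)) (tt N45216 F307107) (tt N33391 F320415) (tt N25172 F92321))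
theorem Q35445 : ∀ i, i < 35445 → P i := stepQ 35444 Q35444 (allL N35444 (tt N39926 (iv1 F315840)) (tt N22710 F314653) (tt N39925 (iv2 F316033)) (tt N65326 D125019) (tt N17947 (iv4 D58452)) (tt N65327 D125020) (tt N33342 F319672) (tt N25173 F92325))
theorem Q35446 : ∀ i, i < 35446 → P i := stepQ 35445 Q35445 (allL N35445 (tt N57308 (iv1 F350806)) (tt N57379 (iv0 F336300)) (tt N57378 (iv2 F321602)) (tt N17948 (iv3 D58455)) (tt N65326 (iv4 F200833)) (tt N64016 (iv5 F192181)) (tt N65328 D125030) (tt N25175 F92329))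
theorem Q35447 : ∀ i, i < 35447 → P i := stepQ 35446 Q35446 (allL N35446 (tt N18365 F319586) (tt N18370 F319587) (tt N25168 F92330) (tt N65328 (iv3 F200849)) (tt N17950 F92331) (tt N37963 (iv5 F322391)) (tt N17948 (iv6 D58456)) (tt N38254 F320605))
theorem Q35448 : ∀ i, i < 35448 → P i := stepQ 35447 Q35447 (allL N35447 (tt N17950 (iv1 D58458)) (tt N25171 F92332) (tt N25170 F185081) (tt N33427 F320644) (tt N18797 F318583) (tt N40838 F318584) (tt N63459 (iv6 F187563)) (tt N25169 F185082))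
theorem Q35449 : ∀ i, i < 35449 → P i := stepQ 35448 Q35448 (allL N35448 (tt N25170 (iv1 F92337)) (tt N25169 F92338) (tt N25171 F92333) (tt N40531 F320658) (tt N38254 (iv4 F320297)) (tt N21693 F92334) (tt N25178 F92335) (tt N17950 (iv7 D58459)))
theorem Q35450 : ∀ i, i < 35450 → P i := stepQ 35449 Q35449 (allL N35449 (tt N60234 (iv1 F316038)) (tt N65329 D125043) (tt N39977 (iv2 F314310)) (tt N60222 (iv3 F316044)) (tt N17951 (iv4 D58463)) (tt N65330 D125045) (tt N65331 D125046) (tt N25164 F92345))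
theorem Q35451 : ∀ i, i < 35451 → P i := stepQ 35450 Q35450 (allL N35450 (tt N33460 (iv1 F325037)) (tt N40776 F320419) (tt N39979 (iv2 F314311)) (tt N17953 F92346) (tt N65331 (iv4 F200883)) (tt N42706 (iv5 F314092)) (tt N17951 (iv6 D58464)) (tt N33396 F320420))
theorem Q35452 : ∀ i, i < 35452 → P i := stepQ 35451 Q35451 (allL N35451 (tt N55007 (iv1 F355168)) (tt N65332 D125051) (tt N65333 D125052) (tt N17952 (iv3 D58465)) (tt N60222 (iv4 F316045)) (tt N64013 (iv5 F192172)) (tt N47790 F316255) (tt N25167 F92347))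
theorem Q35453 : ∀ i, i < 35453 → P i := stepQ 35452 Q35452 (allL N35452 (tt N25178 (iv1 F92356)) (tt N17953 (iv0 D58467)) (tt N25176 F189540) (tt N65271 (iv3 F209892)) (tt N45606 F323621) (tt N22833 F92350) (tt N40496 F318346) (tt N25177 F189541))
theorem Q35454 : ∀ i, i < 35454 → P i := stepQ 35453 Q35453 (allL N35453 (tt N17953 (iv1 D58468)) (tt N25178 F92351) (tt N25177 F189534) (tt N33448 F318409) (tt N45704 (iv4 F311392)) (tt N22834 F92352) (tt N22551 (iv6 F92353)) (tt N25176 F189535))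
theorem Q35455 : ∀ i, i < 35455 → P i := stepQ 35454 Q35454 (allL N35454 (tt N25177 (iv1 F92357)) (tt N25176 F92360) (tt N25178 F92354) (tt N33396 F320423) (tt N23702 F311429) (tt N22488 (iv5 F312480)) (tt N25171 F92355) (tt N17953 (iv7 D58469)))
theorem Q35456 : ∀ i, i < 35456 → P i := stepQ 35455 Q35455 (allL N35455 (tt N65334 D125063) (tt N65335 D125064) (tt N30438 (iv2 F319238)) (tt N17954 (iv3 D58470)) (tt N57511 F316893) (tt N64031 (iv5 F192320)) (tt N36016 (iv6 F319240)) (tt N25179 F92361))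
theorem Q35457 : ∀ i, i < 35457 → P i := stepQ 35456 Q35456 (allL N35456 (tt N57840 (iv1 F319274)) (tt N17956 (iv0 D58474)) (tt N65336 D125082) (tt N65337 D125083) (tt N65338 D125084) (tt N65339 D125085) (tt N65340 D125086) (tt N65341 D125087))
theorem Q35458 : ∀ i, i < 35458 → P i := stepQ 35457 Q35457 (allL N35457 (tt N17956 (iv1 D58475)) (tt N57840 (iv0 F319273)) (tt N65341 (iv2 F200957)) (tt N65342 D125088) (tt N65343 D125089) (tt N65344 D125090) (tt N65345 D125091) (tt N65336 F200956))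
theorem Q35459 : ∀ i, i < 35459 → P i := stepQ 35458 Q35458 (allL N35458 (tt N65336 (iv1 F352305)) (tt N65341 (iv0 F352302)) (tt N17956 (iv2 D58476)) (tt N25182 F92367) (tt N57843 (iv4 F319266)) (tt N65346 D125094) (tt N22567 F92368) (tt N57840 (iv7 F319278)))
theorem Q35460 : ∀ i, i < 35460 → P i := stepQ 35459 Q35459 (allL N35459 (tt N65347 D125095) (tt N65348 D125096) (tt N65346 (iv2 F200960)) (tt N17957 F92369) (tt N65349 D125097) (tt N17956 (iv5 D58477)) (tt N65350 D125098) (tt N23080 (iv7 F92370)))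
theorem Q35461 : ∀ i, i < 35461 → P i := stepQ 35460 Q35460 (allL N35460 (tt N65341 (iv1 F352303)) (tt N65336 (iv0 F352304)) (tt N57840 (iv2 F319275)) (tt N17958 F92371) (tt N57838 F317013) (tt N23080 F92372) (tt N65351 D125099) (tt N17956 (iv7 D58478)))
theorem Q35462 : ∀ i, i < 35462 → P i := stepQ 35461 Q35461 (allL N35461 (tt N65352 D125100) (tt N65353 D125101) (tt N25185 F92373) (tt N65350 (iv3 F200969)) (tt N23081 F92374) (tt N22569 F92375) (tt N17957 (iv6 D58479)) (tt N42416 (iv7 F106157)))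
theorem Q35463 : ∀ i, i < 35463 → P i := stepQ 35462 Q35462 (allL N35462 (tt N44124 (iv1 F110860)) (tt N44123 F110858) (tt N25186 F92376) (tt N65351 (iv3 F200971)) (tt N17959 F92377) (tt N41691 (iv5 F104744)) (tt N17958 (iv6 D58480)) (tt N21472 F92378))
theorem Q35464 : ∀ i, i < 35464 → P i := stepQ 35463 Q35463 (allL N35463 (tt N63902 F302879) (tt N63899 F302880) (tt N25229 F92385) (tt N52774 (iv3 F151241)) (tt N57815 (iv4 F329073)) (tt N17960 (iv5 D58483)) (tt N19705 F328660) (tt N24351 (iv7 F117249)))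
theorem Q35465 : ∀ i, i < 35465 → P i := stepQ 35464 Q35464 (allL N35464 (tt N28158 (iv1 F92427)) (tt N28157 F92428) (tt N28160 F92425) (tt N17961 (iv3 D58501)) (tt N48202 F304337) (tt N65354 D125111) (tt N64441 F304338) (tt N25007 F92426))
theorem Q35466 : ∀ i, i < 35466 → P i := stepQ 35465 Q35465 (allL N35465 (tt N63906 F304339) (tt N63904 F304340) (tt N25235 F92429) (tt N65354 (iv3 F201003)) (tt N57760 (iv4 F327321)) (tt N17961 (iv5 D58502)) (tt N19718 F326580) (tt N25008 F92430))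
theorem Q35467 : ∀ i, i < 35467 → P i := stepQ 35466 Q35466 (allL N35466 (tt N25237 (iv1 F92431)) (tt N17962 (iv0 D58503)) (tt N25236 F133086) (tt N65355 D125114) (tt N40006 (iv4 F312269)) (tt N65356 D125115) (tt N56145 (iv6 F210894)) (tt N21595 (iv7 F232491)))
theorem Q35468 : ∀ i, i < 35468 → P i := stepQ 35467 Q35467 (allL N35467 (tt N25236 (iv1 F92437)) (tt N21595 (iv0 F232489)) (tt N17962 (iv2 D58505)) (tt N37525 F313475) (tt N17967 F92434) (tt N65357 D125120) (tt N48206 (iv6 F131803)) (tt N25237 F92435))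
theorem Q35469 : ∀ i, i < 35469 → P i := stepQ 35468 Q35468 (allL N35468 (tt N65358 D125121) (tt N65359 D125122) (tt N65357 (iv2 F201024)) (tt N17963 F92438) (tt N58339 (iv4 F343114)) (tt N17962 (iv5 D58506)) (tt N58318 (iv6 F337491)) (tt N25238 F92439))
theorem Q35470 : ∀ i, i < 35470 → P i := stepQ 35469 Q35469 (allL N35469 (tt N25231 (iv1 F92440)) (tt N17963 (iv0 D58507)) (tt N25241 F117529) (tt N65360 D125125) (tt N65361 D125126) (tt N34482 F300555) (tt N64561 (iv6 F303354)) (tt N25240 (iv7 F117531)))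
theorem Q35471 : ∀ i, i < 35471 → P i := stepQ 35470 Q35470 (allL N35470 (tt N17963 (iv1 D58508)) (tt N25231 F92441) (tt N25240 (iv2 F117533)) (tt N65362 D125128) (tt N65363 D125129) (tt N34529 F301828) (tt N65364 D125130) (tt N25241 F117532))
theorem Q35472 : ∀ i, i < 35472 → P i := stepQ 35471 Q35471 (allL N35471 (tt N18490 (iv1 F92452)) (tt N17964 (iv0 D58525)) (tt N18601 F201090) (tt N24765 F92451) (tt N37191 F310690) (tt N65365 D125151) (tt N40752 F322955) (tt N18600 (iv7 F201093)))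
theorem Q35473 : ∀ i, i < 35473 → P i := stepQ 35472 Q35472 (allL N35472 (tt N17964 (iv1 D58526)) (tt N18490 F92457) (tt N18600 (iv2 F201092)) (tt N39884 (iv3 F312539)) (tt N37175 F310696) (tt N39882 (iv5 F312967)) (tt N46232 (iv6 F205843)) (tt N18601 F201091))
theorem Q35474 : ∀ i, i < 35474 → P i := stepQ 35473 Q35473 (allL N35473 (tt N18601 (iv1 F92458)) (tt N18600 F92456) (tt N17964 (iv2 D58527)) (tt N25199 F92453) (tt N65366 D125157) (tt N65367 D125158) (tt N18558 F92454) (tt N18490 F92455))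
theorem Q35475 : ∀ i, i < 35475 → P i := stepQ 35474 Q35474 (allL N35474 (tt N65368 D125159) (tt N35379 (iv0 F92462)) (tt N65366 (iv2 F201154)) (tt N24668 F298290) (tt N17964 (iv4 D58528)) (tt N65369 D125160) (tt N18590 F92460) (tt N18591 F92461))
theorem Q35476 : ∀ i, i < 35476 → P i := stepQ 35475 Q35475 (allL N35475 (tt N65370 D125161) (tt N44395 (iv0 F312150)) (tt N65367 (iv2 F201159)) (tt N17965 F92463) (tt N65371 D125163) (tt N17964 (iv5 D58529)) (tt N65372 D125164) (tt N18602 F92464))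
theorem Q35477 : ∀ i, i < 35477 → P i := stepQ 35476 Q35476 (allL N35476 (tt N44376 F317390) (tt N41581 (iv0 F316358)) (tt N25203 F92465) (tt N65372 (iv3 F201179)) (tt N48092 (iv4 F130686)) (tt N18471 F92466) (tt N17965 (iv6 D58530)) (tt N18474 F92467))
theorem Q35478 : ∀ i, i < 35478 → P i := stepQ 35477 Q35477 (allL N35477 (tt N25492 (iv1 F133062)) (tt N64726 (iv0 F198219)) (tt N48037 (iv2 F131859)) (tt N17966 (iv3 D58532)) (tt N35434 F92469) (tt N57671 (iv5 F314600)) (tt N44026 (iv6 F184606)) (tt N21591 F155123))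
theorem Q35479 : ∀ i, i < 35479 → P i := stepQ 35478 Q35478 (allL N35478 (tt N22666 (iv1 F311549)) (tt N17968 (iv0 D58542)) (tt N25255 F155299) (tt N65373 D125169) (tt N65374 D125170) (tt N30665 F310491) (tt N65375 D125171) (tt N25254 F155300))
theorem Q35480 : ∀ i, i < 35480 → P i := stepQ 35479 Q35479 (allL N35479 (tt N17968 (iv1 D58543)) (tt N22666 (iv0 F311548)) (tt N25254 F155264) (tt N65376 D125172) (tt N57556 (iv4 F312675)) (tt N30664 F310481) (tt N63104 (iv6 F185559)) (tt N25255 F155266))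
theorem Q35481 : ∀ i, i < 35481 → P i := stepQ 35480 Q35480 (allL N35480 (tt N65377 D125174) (tt N65378 D125175) (tt N37895 F315129) (tt N65379 D125176) (tt N17968 (iv4 D58544)) (tt N65380 D125177) (tt N65381 D125178) (tt N25256 F92479))
theorem Q35482 : ∀ i, i < 35482 → P i := stepQ 35481 Q35481 (allL N35481 (tt N41414 F155431) (tt N41410 (iv0 F155291)) (tt N37913 F315130) (tt N17972 F92480) (tt N65381 (iv4 F201222)) (tt N48243 (iv5 F131944)) (tt N17968 (iv6 D58545)) (tt N65382 D125179))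
theorem Q35483 : ∀ i, i < 35483 → P i := stepQ 35482 Q35482 (allL N35482 (tt N65365 (iv1 F201132)) (tt N39882 F313026) (tt N65383 D125180) (tt N17969 (iv3 D58546)) (tt N65384 D125181) (tt N24220 F302474) (tt N65385 D125182) (tt N25210 F92482))
theorem Q35484 : ∀ i, i < 35484 → P i := stepQ 35483 Q35483 (allL N35483 (tt N39919 F315102) (tt N40240 (iv0 F316496)) (tt N25209 F92483) (tt N65385 (iv3 F201240)) (tt N48060 (iv4 F130600)) (tt N24221 F303946) (tt N17969 (iv6 D58547)) (tt N40244 (iv7 F316495)))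
theorem Q35485 : ∀ i, i < 35485 → P i := stepQ 35484 Q35484 (allL N35484 (tt N25490 F191304) (tt N25494 F191305) (tt N65386 D125185) (tt N17970 (iv3 D58548)) (tt N65387 D125186) (tt N42845 (iv5 F107309)) (tt N53363 (iv6 F339138)) (tt N25207 F92485))
theorem Q35486 : ∀ i, i < 35486 → P i := stepQ 35485 Q35485 (allL N35485 (tt N65388 D125187) (tt N65389 D125188) (tt N57327 (iv2 F318488)) (tt N17971 (iv3 D58549)) (tt N65379 (iv4 F201219)) (tt N48160 (iv5 F131572)) (tt N65390 D125190) (tt N25262 F92486))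
theorem Q35487 : ∀ i, i < 35487 → P i := stepQ 35486 Q35486 (allL N35486 (tt N31279 F319477) (tt N45786 F313806) (tt N25212 F92487) (tt N65390 (iv3 F201264)) (tt N17972 F92488) (tt N31190 (iv5 F321466)) (tt N17971 (iv6 D58550)) (tt N45785 F313807))
theorem Q35488 : ∀ i, i < 35488 → P i := stepQ 35487 Q35487 (allL N35487 (tt N25216 (iv1 F92495)) (tt N17972 (iv0 D58551)) (tt N25213 F131540) (tt N47737 (iv3 F311377)) (tt N35286 (iv4 F311378)) (tt N33500 F92489) (tt N22574 (iv6 F92490)) (tt N25214 F131541))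
theorem Q35489 : ∀ i, i < 35489 → P i := stepQ 35488 Q35488 (allL N35488 (tt N17972 (iv1 D58552)) (tt N25216 F92491) (tt N25214 F131537) (tt N65391 D125197) (tt N47814 (iv4 F311442)) (tt N33499 (iv5 F92492)) (tt N41675 (iv6 F104713)) (tt N25213 F131538))
theorem Q35490 : ∀ i, i < 35490 → P i := stepQ 35489 Q35489 (allL N35489 (tt N25214 (iv1 F92496)) (tt N25213 F92497) (tt N25216 F92493) (tt N65382 (iv3 F201223)) (tt N45785 (iv4 F311443)) (tt N48245 (iv5 F131953)) (tt N25265 F92494) (tt N17972 (iv7 D58553)))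
theorem Q35491 : ∀ i, i < 35491 → P i := stepQ 35490 Q35490 (allL N35490 (tt N25268 (iv1 F92498)) (tt N17973 (iv0 D58554)) (tt N25267 (iv2 F155271)) (tt N49038 (iv3 F305095)) (tt N65392 D125200) (tt N44925 (iv5 F155388)) (tt N34996 F303906) (tt N25266 F155270))
theorem Q35492 : ∀ i, i < 35492 → P i := stepQ 35491 Q35491 (allL N35491 (tt N25267 (iv1 F92503)) (tt N25266 F92501) (tt N17973 (iv2 D58556)) (tt N25225 F92499) (tt N35196 (iv4 F304460)) (tt N41353 (iv5 F199850)) (tt N48215 (iv6 F131906)) (tt N25268 F92500))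
theorem Q35493 : ∀ i, i < 35493 → P i := stepQ 35492 Q35492 (allL N35492 (tt N41377 F155201) (tt N21105 F155202) (tt N41353 (iv2 F199849)) (tt N17974 F92504) (tt N65393 D125201) (tt N17973 (iv5 D58557)) (tt N65394 D125202) (tt N25269 F92505))
theorem Q35494 : ∀ i, i < 35494 → P i := stepQ 35493 Q35493 (allL N35493 (tt N41228 (iv1 F318728)) (tt N41226 (iv0 F318729)) (tt N25227 F92506) (tt N65394 (iv3 F201293)) (tt N64018 (iv4 F192207)) (tt N20247 F317311) (tt N17974 (iv6 D58558)) (tt N44378 F317312))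
theorem Q35495 : ∀ i, i < 35495 → P i := stepQ 35494 Q35494 (allL N35494 (tt N30521 F311354) (tt N30529 F311355) (tt N19493 F311356) (tt N17976 (iv3 D58574)) (tt N25230 F92535) (tt N19491 F311357) (tt N65395 D125214) (tt N25188 F92536))
theorem Q35496 : ∀ i, i < 35496 → P i := stepQ 35495 Q35495 (allL N35495 (tt N24195 F299416) (tt N24945 F125442) (tt N17978 F92541) (tt N65395 (iv3 F201327)) (tt N17977 F92542) (tt N42638 F311666) (tt N17976 (iv6 D58576)) (tt N25463 F299417))
theorem Q35497 : ∀ i, i < 35497 → P i := stepQ 35496 Q35496 (allL N35496 (tt N25463 F297932) (tt N17978 (iv0 D58588)) (tt N24195 (iv2 F299202)) (tt N65396 D125248) (tt N24188 F297933) (tt N24314 (iv5 F119009)) (tt N25412 F297934) (tt N24945 (iv7 F125451)))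
theorem Q35498 : ∀ i, i < 35498 → P i := stepQ 35497 Q35497 (allL N35497 (tt N44591 F311133) (tt N21723 (iv0 F199744)) (tt N17980 F92580) (tt N25253 F92581) (tt N19494 F311134) (tt N40489 F311135) (tt N17979 (iv6 D58612)) (tt N48165 (iv7 F131671)))
theorem Q35499 : ∀ i, i < 35499 → P i := stepQ 35498 Q35498 (allL N35498 (tt N48165 (iv1 F131673)) (tt N17980 (iv0 D58617)) (tt N44591 F309392) (tt N48083 (iv3 F307110)) (tt N34454 (iv4 F310991)) (tt N21855 F199768) (tt N34453 F309393) (tt N21723 F199770))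
theorem Q35500 : ∀ i, i < 35500 → P i := stepQ 35499 Q35499 (allL N35499 (tt N21055 F320503) (tt N23592 (iv0 F324085)) (tt N25263 F92588) (tt N21064 (iv3 F318350)) (tt N17982 F92589) (tt N24104 F322587) (tt N17981 (iv6 D58621)) (tt N40483 (iv7 F318447)))
theorem Q35501 : ∀ i, i < 35501 → P i := stepQ 35500 Q35500 (allL N35500 (tt N65397 D125273) (tt N65398 D125274) (tt N65399 D125275) (tt N17983 (iv3 D58626)) (tt N64923 (iv4 F198628)) (tt N63045 (iv5 F184558)) (tt N45394 (iv6 F115703)) (tt N17997 F92606))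
theorem Q35502 : ∀ i, i < 35502 → P i := stepQ 35501 Q35501 (allL N35501 (tt N22505 F92634) (tt N22526 F92635) (tt N23939 (iv2 F301331)) (tt N65400 D125287) (tt N17984 (iv4 D58651)) (tt N48273 (iv5 F132050)) (tt N23788 F92632) (tt N23940 (iv7 F302159)))
theorem Q35503 : ∀ i, i < 35503 → P i := stepQ 35502 Q35502 (allL N35502 (tt N52830 (iv1 F351712)) (tt N52826 (iv0 F336008)) (tt N65401 D125291) (tt N17985 (iv3 D58653)) (tt N64621 (iv4 F304199)) (tt N65402 D125292) (tt N59987 (iv6 F321412)) (tt N25279 F92641))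
theorem Q35504 : ∀ i, i < 35504 → P i := stepQ 35503 Q35503 (allL N35503 (tt N38031 F317241) (tt N23768 F92645) (tt N24816 F317242) (tt N65402 (iv3 F201504)) (tt N19028 F317243) (tt N17985 (iv5 D58654)) (tt N24814 (iv6 F318848)) (tt N18866 F317244))
theorem Q35505 : ∀ i, i < 35505 → P i := stepQ 35504 Q35504 (allL N35504 (tt N25047 (iv1 F92648)) (tt N31354 F319437) (tt N25278 F92646) (tt N59987 (iv3 F321411)) (tt N17986 F92647) (tt N65403 D125295) (tt N17985 (iv6 D58655)) (tt N45814 (iv7 F119695)))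
theorem Q35506 : ∀ i, i < 35506 → P i := stepQ 35505 Q35505 (allL N35505 (tt N46240 (iv1 F297615)) (tt N34741 (iv0 F297617)) (tt N45829 F296414) (tt N65404 D125304) (tt N17988 (iv4 D58675)) (tt N65405 D125305) (tt N25910 F296415) (tt N25275 F92668))
theorem Q35507 : ∀ i, i < 35507 → P i := stepQ 35506 Q35506 (allL N35506 (tt N34818 (iv1 F322043)) (tt N44752 (iv0 F322044)) (tt N46671 (iv2 F322045)) (tt N17989 (iv3 D58678)) (tt N65404 (iv4 F201537)) (tt N24822 F320373) (tt N38029 (iv6 F322051)) (tt N24821 F320374))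
theorem Q35508 : ∀ i, i < 35508 → P i := stepQ 35507 Q35507 (allL N35507 (tt N65406 D125311) (tt N40366 F341354) (tt N64281 (iv2 F195564)) (tt N65407 D125312) (tt N17990 (iv4 D58682)) (tt N65408 D125313) (tt N58727 (iv6 F358714)) (tt N25285 F92698))
theorem Q35509 : ∀ i, i < 35509 → P i := stepQ 35508 Q35508 (allL N35508 (tt N64939 F299721) (tt N59932 (iv0 F323978)) (tt N64161 F299722) (tt N17992 F92699) (tt N58727 (iv4 F358713)) (tt N23827 F92700) (tt N17990 (iv6 D58683)) (tt N64163 (iv7 F301321)))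
theorem Q35510 : ∀ i, i < 35510 → P i := stepQ 35509 Q35509 (allL N35509 (tt N47137 (iv1 F322764)) (tt N48404 F328764) (tt N28006 (iv2 F322767)) (tt N17991 (iv3 D58684)) (tt N65407 (iv4 F201555)) (tt N28003 F321013) (tt N45555 (iv6 F322769)) (tt N25286 F92701))
theorem Q35511 : ∀ i, i < 35511 → P i := stepQ 35510 Q35510 (allL N35510 (tt N23826 (iv1 F92709)) (tt N17992 (iv0 D58687)) (tt N25283 F132018) (tt N31146 (iv3 F323083)) (tt N45584 F322742) (tt N25284 F92708) (tt N18006 F92707) (tt N25284 F132019))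
theorem Q35512 : ∀ i, i < 35512 → P i := stepQ 35511 Q35511 (allL N35511 (tt N17992 (iv1 D58688)) (tt N23826 F92710) (tt N25284 (iv2 F132031)) (tt N64939 (iv3 F254958)) (tt N45585 (iv4 F322780)) (tt N25283 (iv5 F92711)) (tt N35533 (iv6 F92791)) (tt N25283 F132030))
theorem Q35513 : ∀ i, i < 35513 → P i := stepQ 35512 Q35512 (allL N35512 (tt N27285 (iv1 F126195)) (tt N34738 F297521) (tt N46187 F297522) (tt N52839 (iv3 F321831)) (tt N17993 (iv4 D58691)) (tt N52838 (iv5 F347410)) (tt N65116 (iv6 F199266)) (tt N25280 F92726))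
theorem Q35514 : ∀ i, i < 35514 → P i := stepQ 35513 Q35513 (allL N35513 (tt N28009 (iv1 F321827)) (tt N28008 (iv0 F321828)) (tt N28011 (iv2 F321829)) (tt N17994 (iv3 D58692)) (tt N52839 (iv4 F321832)) (tt N22990 F320079) (tt N46204 (iv6 F122491)) (tt N22989 (iv7 F320640)))
theorem Q35515 : ∀ i, i < 35515 → P i := stepQ 35514 Q35514 (allL N35514 (tt N45557 (iv1 F316318)) (tt N45556 (iv0 F317616)) (tt N25287 F92728) (tt N22990 (iv3 F317913)) (tt N21434 F92729) (tt N17994 (iv5 D58693)) (tt N24063 (iv6 F316554)) (tt N22987 (iv7 F317914)))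
theorem Q35516 : ∀ i, i < 35516 → P i := stepQ 35515 Q35515 (allL N35515 (tt N65409 D125334) (tt N34669 (iv0 F330727)) (tt N34142 (iv2 F322775)) (tt N17995 (iv3 D58694)) (tt N64234 (iv4 F304736)) (tt N34110 F321018) (tt N45580 (iv6 F322778)) (tt N25291 F92731))
theorem Q35517 : ∀ i, i < 35517 → P i := stepQ 35516 Q35516 (allL N35516 (tt N45904 F330690) (tt N45915 (iv0 F330701)) (tt N45913 (iv2 F332115)) (tt N17996 (iv3 D58697)) (tt N57669 (iv4 F326045)) (tt N46851 F320019) (tt N64235 (iv6 F194183)) (tt N25288 F92737))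
theorem Q35518 : ∀ i, i < 35518 → P i := stepQ 35517 Q35517 (allL N35517 (tt N45583 (iv1 F316269)) (tt N45582 (iv0 F316273)) (tt N25292 F92738) (tt N46851 (iv3 F317824)) (tt N21446 F92739) (tt N17996 (iv5 D58698)) (tt N45576 (iv6 F315920)) (tt N25289 F92740))
theorem Q35519 : ∀ i, i < 35519 → P i := stepQ 35518 Q35518 (allL N35518 (tt N65399 (iv1 F201458)) (tt N17997 (iv0 D58699)) (tt N65398 (iv2 F353889)) (tt N65410 D125348) (tt N65411 D125349) (tt N65412 D125350) (tt N65413 D125351) (tt N65397 (iv7 F353892)))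
theorem Q35520 : ∀ i, i < 35520 → P i := stepQ 35519 Q35519 (allL N35519 (tt N17997 (iv1 D58700)) (tt N65399 F201460) (tt N65397 (iv2 F353891)) (tt N65414 D125353) (tt N65415 D125354) (tt N65416 D125355) (tt N65138 (iv6 F330646)) (tt N65398 (iv7 F353890)))
theorem Q35521 : ∀ i, i < 35521 → P i := stepQ 35520 Q35520 (allL N35520 (tt N65398 (iv1 F201459)) (tt N65397 F201455) (tt N17997 (iv2 D58701)) (tt N25295 F92741) (tt N64948 (iv4 F198707)) (tt N65417 D125357) (tt N18009 F92742) (tt N65399 (iv7 F201457)))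
theorem Q35522 : ∀ i, i < 35522 → P i := stepQ 35521 Q35521 (allL N35521 (tt N65418 D125358) (tt N38894 (iv0 F330178)) (tt N65417 (iv2 F201628)) (tt N17998 F92743) (tt N65419 D125360) (tt N17997 (iv5 D58702)) (tt N44945 (iv6 F114168)) (tt N63045 (iv7 F184560)))
theorem Q35523 : ∀ i, i < 35523 → P i := stepQ 35522 Q35522 (allL N35522 (tt N21438 (iv1 F92746)) (tt N17998 (iv0 D58703)) (tt N25297 (iv2 F92747)) (tt N47987 (iv3 F318947)) (tt N19477 F316585) (tt N22505 F92744) (tt N34719 (iv6 F318948)) (tt N19284 (iv7 F317142)))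
theorem Q35524 : ∀ i, i < 35524 → P i := stepQ 35523 Q35523 (allL N35523 (tt N25308 (iv1 F92765)) (tt N17999 (iv0 D58705)) (tt N25307 F261301) (tt N46173 F122368) (tt N65420 D125366) (tt N25318 F194349) (tt N46345 F330790) (tt N25306 (iv7 F261305)))
theorem Q35525 : ∀ i, i < 35525 → P i := stepQ 35524 Q35524 (allL N35524 (tt N17999 (iv1 D58706)) (tt N25308 F92770) (tt N25306 (iv2 F261304)) (tt N65421 D125369) (tt N65422 D125370) (tt N25319 F201640) (tt N47434 F330868) (tt N25307 F261302))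
theorem Q35526 : ∀ i, i < 35526 → P i := stepQ 35525 Q35525 (allL N35525 (tt N25307 (iv1 F92771)) (tt N25306 F92769) (tt N17999 (iv2 D58707)) (tt N25320 F92766) (tt N55593 (iv4 F160842)) (tt N25372 F92767) (tt N65423 D125372) (tt N25308 F92768))
theorem Q35527 : ∀ i, i < 35527 → P i := stepQ 35526 Q35526 (allL N35526 (tt N65424 D125373) (tt N46870 F360731) (tt N65423 (iv2 F201644)) (tt N18000 F92772) (tt N55594 (iv4 F160849)) (tt N65083 (iv5 F199126)) (tt N17999 (iv6 D58708)) (tt N65167 (iv7 F199415)))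
theorem Q35528 : ∀ i, i < 35528 → P i := stepQ 35527 Q35527 (allL N35527 (tt N65425 D125376) (tt N45893 (iv0 F119818)) (tt N60427 (iv2 F323110)) (tt N18002 (iv3 D58710)) (tt N18003 F92776) (tt N65426 D125378) (tt N35793 F321454) (tt N22904 F92777))
theorem Q35529 : ∀ i, i < 35529 → P i := stepQ 35528 Q35528 (allL N35528 (tt N25683 (iv1 F294441)) (tt N48292 (iv0 F132095)) (tt N25586 F92778) (tt N65426 (iv3 F201658)) (tt N25574 F92779) (tt N18002 (iv5 D58711)) (tt N65427 D125380) (tt N22905 F92780))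
theorem Q35530 : ∀ i, i < 35530 → P i := stepQ 35529 Q35529 (allL N35529 (tt N22908 (iv1 F92782)) (tt N18003 (iv0 D58715)) (tt N22907 F256550) (tt N64083 (iv3 F192946)) (tt N65428 D125395) (tt N25370 F248734) (tt N28009 (iv6 F328762)) (tt N22906 F256551))
theorem Q35531 : ∀ i, i < 35531 → P i := stepQ 35530 Q35530 (allL N35530 (tt N18003 (iv1 D58716)) (tt N22908 F92787) (tt N22906 (iv2 F256542)) (tt N65429 D125399) (tt N65430 D125400) (tt N25371 F248743) (tt N47276 F329652) (tt N22907 (iv7 F256549)))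
theorem Q35532 : ∀ i, i < 35532 → P i := stepQ 35531 Q35531 (allL N35531 (tt N22907 (iv1 F92788)) (tt N22906 F92786) (tt N18003 (iv2 D58717)) (tt N25333 F92783) (tt N60427 (iv4 F323111)) (tt N22925 F92784) (tt N60425 (iv6 F319467)) (tt N22908 F92785))
theorem Q35533 : ∀ i, i < 35533 → P i := stepQ 35532 Q35532 (allL N35532 (tt N65431 D125404) (tt N65432 D125405) (tt N60425 (iv2 F319465)) (tt N18004 F92789) (tt N35793 (iv4 F319469)) (tt N47934 (iv5 F130074)) (tt N18003 (iv6 D58718)) (tt N47810 (iv7 F129782)))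
theorem Q35534 : ∀ i, i < 35534 → P i := stepQ 35533 Q35533 (allL N35533 (tt N35227 F299642) (tt N23430 (iv0 F92792)) (tt N25338 (iv2 F132027)) (tt N46707 F299643) (tt N31189 (iv4 F321462)) (tt N18005 (iv5 D58721)) (tt N35511 F92791) (tt N25342 (iv7 F132029)))
theorem Q35535 : ∀ i, i < 35535 → P i := stepQ 35534 Q35534 (allL N35534 (tt N45889 (iv1 F254382)) (tt N45906 (iv0 F254415)) (tt N45905 (iv2 F254349)) (tt N18007 (iv3 D58725)) (tt N45470 F115964) (tt N45980 (iv5 F254071)) (tt N65433 D125426) (tt N45397 F254331))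
theorem Q35536 : ∀ i, i < 35536 → P i := stepQ 35535 Q35535 (allL N35535 (tt N65434 D125428) (tt N65435 D125429) (tt N45401 F254332) (tt N65436 D125430) (tt N18007 (iv4 D58726)) (tt N65437 D125431) (tt N65438 D125432) (tt N45398 F254333))
theorem Q35537 : ∀ i, i < 35537 → P i := stepQ 35536 Q35536 (allL N35536 (tt N45762 F341250) (tt N34640 (iv0 F341251)) (tt N45402 F254336) (tt N65433 (iv3 F201713)) (tt N65438 (iv4 F201717)) (tt N65439 D125441) (tt N18007 (iv6 D58728)) (tt N45761 F339258))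
theorem Q35538 : ∀ i, i < 35538 → P i := stepQ 35537 Q35537 (allL N35537 (tt N65440 D125444) (tt N34664 F254353) (tt N65441 D125446) (tt N18008 (iv3 D58730)) (tt N65442 D125447) (tt N45983 (iv5 F254076)) (tt N65443 D125449) (tt N45400 (iv7 F254321)))
theorem Q35539 : ∀ i, i < 35539 → P i := stepQ 35538 Q35538 (allL N35538 (tt N65435 (iv1 F201716)) (tt N65434 F201720) (tt N45398 (iv2 F254326)) (tt N59385 (iv3 F349858)) (tt N18008 (iv4 D58731)) (tt N65444 D125451) (tt N59382 (iv6 F349855)) (tt N45401 (iv7 F254329)))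
theorem Q35540 : ∀ i, i < 35540 → P i := stepQ 35539 Q35539 (allL N35539 (tt N45930 F339250) (tt N65445 D125456) (tt N45399 (iv2 F254328)) (tt N65443 (iv3 F201730)) (tt N59382 (iv4 F349854)) (tt N65446 D125457) (tt N18008 (iv6 D58733)) (tt N65447 D125458))
theorem Q35541 : ∀ i, i < 35541 → P i := stepQ 35540 Q35540 (allL N35540 (tt N19930 F92798) (tt N19932 F92799) (tt N30577 F92796) (tt N65448 D125459) (tt N18011 (iv4 D58734)) (tt N19973 F92797) (tt N65449 D125460) (tt N38241 (iv7 F97753)))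
theorem Q35542 : ∀ i, i < 35542 → P i := stepQ 35541 Q35541 (allL N35541 (tt N65450 D125461) (tt N44455 (iv0 F166216)) (tt N30578 F92800) (tt N31434 F92801) (tt N65449 (iv4 F201734)) (tt N31428 F92802) (tt N18011 (iv6 D58735)) (tt N65451 D125462))
theorem Q35543 : ∀ i, i < 35543 → P i := stepQ 35542 Q35542 (allL N35542 (tt N19932 F92804) (tt N19930 F92805) (tt N38241 F97751) (tt N65452 D125463) (tt N18013 (iv4 D58736)) (tt N19974 (iv5 F92806)) (tt N65453 D125464) (tt N30577 F92803))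
theorem Q35544 : ∀ i, i < 35544 → P i := stepQ 35543 Q35543 (allL N35543 (tt N57184 F165744) (tt N39450 (iv0 F100300)) (tt N38697 (iv2 F98664)) (tt N20866 F92807) (tt N65453 (iv4 F201754)) (tt N36762 (iv5 F95165)) (tt N18013 (iv6 D58737)) (tt N57183 (iv7 F165738)))
theorem Q35545 : ∀ i, i < 35545 → P i := stepQ 35544 Q35544 (allL N35544 (tt N65454 D125465) (tt N57415 (iv0 F166512)) (tt N30602 F92808) (tt N38662 (iv3 F98567)) (tt N19964 F92809) (tt N35633 (iv5 F93030)) (tt N18014 (iv6 D58738)) (tt N60758 (iv7 F176829)))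
theorem Q35546 : ∀ i, i < 35546 → P i := stepQ 35545 Q35545 (allL N35545 (tt N65455 D125466) (tt N62956 (iv0 F328404)) (tt N38706 (iv2 F98677)) (tt N18290 F92810) (tt N19967 F92811) (tt N18273 F92812) (tt N18015 (iv6 D58739)) (tt N65456 D125468))
theorem Q35547 : ∀ i, i < 35547 → P i := stepQ 35546 Q35546 (allL N35546 (tt N65457 D125469) (tt N65458 D125470) (tt N65459 D125471) (tt N18016 (iv3 D58740)) (tt N18023 F92813) (tt N65460 D125472) (tt N31356 F92814) (tt N39291 (iv7 F99864)))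
theorem Q35548 : ∀ i, i < 35548 → P i := stepQ 35547 Q35547 (allL N35547 (tt N37805 (iv1 F96636)) (tt N37827 (iv0 F96687)) (tt N39275 F99815) (tt N65460 (iv3 F201781)) (tt N37796 (iv4 F96599)) (tt N18016 (iv5 D58741)) (tt N65461 D125473) (tt N39274 F99812))
theorem Q35549 : ∀ i, i < 35549 → P i := stepQ 35548 Q35548 (allL N35548 (tt N65462 D125474) (tt N55996 F162247) (tt N37794 (iv2 F96593)) (tt N18026 F92815) (tt N39292 (iv4 F99865)) (tt N35548 F92816) (tt N18017 (iv6 D58742)) (tt N21007 F92817))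
theorem Q35550 : ∀ i, i < 35550 → P i := stepQ 35549 Q35549 (allL N35549 (tt N65463 D125475) (tt N65464 D125476) (tt N65465 D125477) (tt N18018 (iv3 D58743)) (tt N32152 F92818) (tt N56878 (iv5 F164972)) (tt N65466 D125478) (tt N31451 F92819))
theorem Q35551 : ∀ i, i < 35551 → P i := stepQ 35550 Q35550 (allL N35550 (tt N56824 (iv1 F164876)) (tt N21019 (iv0 F92822)) (tt N30643 F92820) (tt N65466 (iv3 F201793)) (tt N18019 F92821) (tt N65467 D125479) (tt N18018 (iv6 D58744)) (tt N56911 (iv7 F165056)))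
theorem Q35552 : ∀ i, i < 35552 → P i := stepQ 35551 Q35551 (allL N35551 (tt N20836 F92824) (tt N18020 (iv0 D58745)) (tt N20833 F103542) (tt N65455 F201766) (tt N65468 D125480) (tt N31479 F92823) (tt N65469 D125481) (tt N20834 F103543))
theorem Q35553 : ∀ i, i < 35553 → P i := stepQ 35552 Q35552 (allL N35552 (tt N18020 (iv1 D58746)) (tt N20836 F92825) (tt N20834 F103539) (tt N53524 (iv3 F329696)) (tt N65470 D125482) (tt N31480 (iv5 F92826)) (tt N18343 F92828) (tt N20833 F103540))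
theorem Q35554 : ∀ i, i < 35554 → P i := stepQ 35553 Q35553 (allL N35553 (tt N20834 (iv1 F92833)) (tt N20833 (iv0 F92834)) (tt N20836 F92829) (tt N31482 F92830) (tt N55244 (iv4 F345174)) (tt N20793 F92831) (tt N31462 F92832) (tt N18020 (iv7 D58747)))
theorem Q35555 : ∀ i, i < 35555 → P i := stepQ 35554 Q35554 (allL N35554 (tt N65471 D125483) (tt N65472 D125484) (tt N58729 (iv2 F330469)) (tt N18021 (iv3 D58748)) (tt N30616 F92835) (tt N58714 (iv5 F330458)) (tt N65473 D125487) (tt N30187 F92836))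
theorem Q35556 : ∀ i, i < 35556 → P i := stepQ 35555 Q35555 (allL N35555 (tt N56801 (iv1 F164829)) (tt N36783 (iv0 F95193)) (tt N30182 F92837) (tt N58714 (iv3 F330457)) (tt N30188 F92839) (tt N18021 (iv5 D58749)) (tt N58712 (iv6 F330493)) (tt N30188 F92838))
theorem Q35557 : ∀ i, i < 35557 → P i := stepQ 35556 Q35556 (allL N35556 (tt N57413 (iv1 F166511)) (tt N57416 (iv0 F166509)) (tt N30183 F92840) (tt N65473 (iv3 F201822)) (tt N29932 F92841) (tt N65474 D125489) (tt N18021 (iv6 D58750)) (tt N60513 (iv7 F176531)))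
theorem Q35558 : ∀ i, i < 35558 → P i := stepQ 35557 Q35557 (allL N35557 (tt N59668 (iv1 F330478)) (tt N59667 (iv0 F330479)) (tt N31004 F330475) (tt N18022 (iv3 D58751)) (tt N22633 F92842) (tt N30814 (iv5 F330480)) (tt N65475 D125494) (tt N30181 F92843))
theorem Q35559 : ∀ i, i < 35559 → P i := stepQ 35558 Q35558 (allL N35558 (tt N36783 (iv1 F95194)) (tt N56801 (iv0 F164828)) (tt N30188 F92844) (tt N30814 F330483) (tt N30182 F92845) (tt N18022 (iv5 D58752)) (tt N30810 (iv6 F330485)) (tt N30182 F92846))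
theorem Q35560 : ∀ i, i < 35560 → P i := stepQ 35559 Q35559 (allL N35559 (tt N65468 (iv1 F201799)) (tt N65470 (iv0 F201809)) (tt N30189 F92847) (tt N65475 (iv3 F201837)) (tt N22632 F92848) (tt N65476 D125496) (tt N18022 (iv6 D58753)) (tt N65477 D125497))
theorem Q35561 : ∀ i, i < 35561 → P i := stepQ 35560 Q35560 (allL N35560 (tt N65478 D125498) (tt N18023 (iv0 D58754)) (tt N65479 D125499) (tt N65480 D125500) (tt N65481 D125501) (tt N65482 D125502) (tt N65483 D125503) (tt N65484 D125504))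
theorem Q35562 : ∀ i, i < 35562 → P i := stepQ 35561 Q35561 (allL N35561 (tt N18023 (iv1 D58755)) (tt N65478 F201852) (tt N65484 (iv2 F201854)) (tt N65485 D125505) (tt N65486 D125506) (tt N65487 D125507) (tt N65488 D125508) (tt N65479 F201853))
theorem Q35563 : ∀ i, i < 35563 → P i := stepQ 35562 Q35562 (allL N35562 (tt N65479 (iv1 F219721)) (tt N65484 (iv0 F219724)) (tt N18023 (iv2 D58756)) (tt N31465 F92849) (tt N65459 (iv4 F201779)) (tt N65489 D125511) (tt N31360 F92850) (tt N65478 (iv7 F201851)))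
theorem Q35564 : ∀ i, i < 35564 → P i := stepQ 35563 Q35563 (allL N35563 (tt N65490 D125512) (tt N65491 D125513) (tt N65489 (iv2 F201859)) (tt N18024 F92851) (tt N65492 D125514) (tt N18023 (iv5 D58757)) (tt N59202 (iv6 F172317)) (tt N65493 D125515))
theorem Q35565 : ∀ i, i < 35565 → P i := stepQ 35564 Q35564 (allL N35564 (tt N65484 (iv1 F219725)) (tt N65479 (iv0 F219720)) (tt N65478 F201849) (tt N18025 F92852) (tt N39291 (iv4 F99863)) (tt N65493 (iv5 F201862)) (tt N59199 (iv6 F172315)) (tt N18023 (iv7 D58758)))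
theorem Q35566 : ∀ i, i < 35566 → P i := stepQ 35565 Q35565 (allL N35565 (tt N30204 (iv1 F92855)) (tt N18024 (iv0 D58759)) (tt N30167 (iv2 F92856)) (tt N44662 F337381) (tt N30175 F92854) (tt N29930 F92853) (tt N44660 (iv6 F337384)) (tt N30175 (iv7 F92857)))
theorem Q35567 : ∀ i, i < 35567 → P i := stepQ 35566 Q35566 (allL N35566 (tt N18024 (iv1 D58760)) (tt N30204 F92858) (tt N30175 (iv2 F92861)) (tt N65494 D125518) (tt N30167 (iv4 F92862)) (tt N22614 F92860) (tt N65495 D125519) (tt N30167 F92859))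
theorem Q35568 : ∀ i, i < 35568 → P i := stepQ 35567 Q35567 (allL N35567 (tt N30203 F92865) (tt N22752 F92866) (tt N30206 F92863) (tt N65496 D125520) (tt N18024 (iv4 D58761)) (tt N29935 F92864) (tt N59209 (iv6 F172334)) (tt N29934 F92867))
theorem Q35569 : ∀ i, i < 35569 → P i := stepQ 35568 Q35568 (allL N35568 (tt N30175 (iv1 F92871)) (tt N30167 F92872) (tt N30204 F92868) (tt N65493 (iv3 F201861)) (tt N29934 F92869) (tt N18025 F92870) (tt N57160 (iv6 F165455)) (tt N18024 (iv7 D58762)))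
theorem Q35570 : ∀ i, i < 35570 → P i := stepQ 35569 Q35569 (allL N35569 (tt N58455 (iv1 F170674)) (tt N58458 (iv0 F169871)) (tt N29626 F92873) (tt N18030 F92874) (tt N59777 (iv4 F174000)) (tt N18702 F92875) (tt N18027 (iv6 D58763)) (tt N60008 (iv7 F175197)))
theorem Q35571 : ∀ i, i < 35571 → P i := stepQ 35570 Q35570 (allL N35570 (tt N18031 (iv1 F92878)) (tt N18029 (iv0 D58764)) (tt N18052 (iv2 F92877)) (tt N59994 (iv3 F175147)) (tt N18046 F92876) (tt N35664 (iv5 F93096)) (tt N65497 D125521) (tt N18053 F92879))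
theorem Q35572 : ∀ i, i < 35572 → P i := stepQ 35571 Q35571 (allL N35571 (tt N65498 D125522) (tt N65499 D125523) (tt N65500 D125524) (tt N18029 (iv3 D58765)) (tt N59776 (iv4 F173997)) (tt N65501 D125525) (tt N65502 D125526) (tt N18068 F92880))
theorem Q35573 : ∀ i, i < 35573 → P i := stepQ 35572 Q35572 (allL N35572 (tt N32270 F92884) (tt N29478 F92885) (tt N18055 F92881) (tt N65501 (iv3 F201889)) (tt N32255 F92883) (tt N18029 (iv5 D58766)) (tt N65503 D125527) (tt N18069 F92882))
theorem Q35574 : ∀ i, i < 35574 → P i := stepQ 35573 Q35573 (allL N35573 (tt N65504 D125528) (tt N59741 (iv0 F173728)) (tt N18056 F92886) (tt N65502 (iv3 F201891)) (tt N18030 F92887) (tt N65505 D125529) (tt N18029 (iv6 D58767)) (tt N60021 (iv7 F175321)))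
theorem Q35575 : ∀ i, i < 35575 → P i := stepQ 35574 Q35574 (allL N35574 (tt N65506 D125530) (tt N65507 D125531) (tt N65508 D125532) (tt N18031 (iv3 D58771)) (tt N58990 (iv4 F171697)) (tt N65509 D125533) (tt N65510 D125534) (tt N18054 F92898))
theorem Q35576 : ∀ i, i < 35576 → P i := stepQ 35575 Q35575 (allL N35575 (tt N29478 F92902) (tt N32270 F92903) (tt N18069 F92899) (tt N65509 (iv3 F201910)) (tt N30817 F92900) (tt N18031 (iv5 D58772)) (tt N65511 D125535) (tt N18055 F92901))
theorem Q35577 : ∀ i, i < 35577 → P i := stepQ 35576 Q35576 (allL N35576 (tt N65512 D125536) (tt N32274 (iv0 F92906)) (tt N18070 F92904) (tt N65510 (iv3 F201912)) (tt N18032 F92905) (tt N65513 D125537) (tt N18031 (iv6 D58773)) (tt N60117 (iv7 F175693)))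
theorem Q35578 : ∀ i, i < 35578 → P i := stepQ 35577 Q35577 (allL N35577 (tt N58591 (iv1 F169722)) (tt N58595 (iv0 F169727)) (tt N59588 (iv2 F173173)) (tt N18035 F92907) (tt N39218 (iv4 F99654)) (tt N21033 F92908) (tt N18033 (iv6 D58774)) (tt N57236 (iv7 F165866)))
theorem Q35579 : ∀ i, i < 35579 → P i := stepQ 35578 Q35578 (allL N35578 (tt N65514 D125538) (tt N65515 D125539) (tt N65516 D125540) (tt N18034 (iv3 D58775)) (tt N39216 (iv4 F99649)) (tt N65517 D125541) (tt N65518 D125542) (tt N18084 F92909))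
theorem Q35580 : ∀ i, i < 35580 → P i := stepQ 35579 Q35579 (allL N35579 (tt N35613 (iv1 F92987)) (tt N35610 (iv0 F92982)) (tt N18076 F92910) (tt N65517 (iv3 F201933)) (tt N32261 F92912) (tt N18034 (iv5 D58776)) (tt N65519 D125543) (tt N18085 F92911))
theorem Q35581 : ∀ i, i < 35581 → P i := stepQ 35580 Q35580 (allL N35580 (tt N65520 D125544) (tt N59874 (iv0 F174355)) (tt N18077 F92913) (tt N65518 (iv3 F201935)) (tt N18035 F92914) (tt N65521 D125545) (tt N18034 (iv6 D58777)) (tt N57241 (iv7 F165879)))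
theorem Q35582 : ∀ i, i < 35582 → P i := stepQ 35581 Q35581 (allL N35581 (tt N18035 (iv1 D58779)) (tt N18080 F92916) (tt N18079 F100260) (tt N29851 F168067) (tt N58139 (iv4 F168924)) (tt N41454 (iv5 F104274)) (tt N57182 (iv6 F165735)) (tt N18078 F100262))
theorem Q35583 : ∀ i, i < 35583 → P i := stepQ 35582 Q35582 (allL N35582 (tt N35610 (iv1 F92983)) (tt N35613 (iv0 F92986)) (tt N18085 F92917) (tt N59606 (iv3 F173219)) (tt N30909 F92918) (tt N18036 (iv5 D58780)) (tt N65522 D125546) (tt N18076 F92919))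
theorem Q35584 : ∀ i, i < 35584 → P i := stepQ 35583 Q35583 (allL N35583 (tt N65523 D125547) (tt N36757 F332757) (tt N18086 F92920) (tt N59607 (iv3 F173221)) (tt N18037 F92921) (tt N56529 (iv5 F332764)) (tt N18036 (iv6 D58781)) (tt N65524 D125550))
theorem Q35585 : ∀ i, i < 35585 → P i := stepQ 35584 Q35584 (allL N35584 (tt N18090 (iv1 F92929)) (tt N18037 (iv0 D58782)) (tt N18087 F103381) (tt N29854 F168021) (tt N46545 (iv4 F327081)) (tt N30027 F92922) (tt N62635 (iv6 F182896)) (tt N18088 F103382))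
theorem Q35586 : ∀ i, i < 35586 → P i := stepQ 35585 Q35585 (allL N35585 (tt N18088 (iv1 F92930)) (tt N18087 (iv0 F92931)) (tt N18090 F92926) (tt N59617 (iv3 F173234)) (tt N65524 (iv4 F201960)) (tt N18676 F92927) (tt N18080 F92928) (tt N18037 (iv7 D58784)))
theorem Q35587 : ∀ i, i < 35587 → P i := stepQ 35586 Q35586 (allL N35586 (tt N65525 D125551) (tt N18038 (iv0 D58785)) (tt N65526 D125552) (tt N65527 D125553) (tt N65528 D125554) (tt N65529 D125555) (tt N65530 D125556) (tt N65531 D125557))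
theorem Q35588 : ∀ i, i < 35588 → P i := stepQ 35587 Q35587 (allL N35587 (tt N18038 (iv1 D58786)) (tt N65525 F201968) (tt N65531 (iv2 F201971)) (tt N65532 D125558) (tt N65533 D125559) (tt N65534 D125560) (tt N65535 D125561) (tt N65526 F201969))
theorem Q35589 : ∀ i, i < 35589 → P i := stepQ 35588 Q35588 (allL N35588 (tt N65526 (iv1 F342902)) (tt N65531 (iv0 F342907)) (tt N18038 (iv2 D58787)) (tt N18099 F92932) (tt N29858 F92933) (tt N65536 D125564) (tt N29858 F92934) (tt N65525 (iv7 F201967)))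
theorem Q35590 : ∀ i, i < 35590 → P i := stepQ 35589 Q35589 (allL N35589 (tt N65537 D125565) (tt N65538 D125566) (tt N65536 (iv2 F201976)) (tt N18039 F92935) (tt N65539 D125567) (tt N18038 (iv5 D58788)) (tt N65540 D125568) (tt N35731 (iv7 F93160)))
theorem Q35591 : ∀ i, i < 35591 → P i := stepQ 35590 Q35590 (allL N35590 (tt N65531 (iv1 F342908)) (tt N65526 (iv0 F342901)) (tt N65525 F201964) (tt N18040 F92936) (tt N29860 F92937) (tt N35731 (iv5 F93159)) (tt N36747 F343572) (tt N18038 (iv7 D58789)))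
theorem Q35592 : ∀ i, i < 35592 → P i := stepQ 35591 Q35591 (allL N35591 (tt N65541 D125570) (tt N65542 D125571) (tt N18105 F92938) (tt N65540 (iv3 F201978)) (tt N35736 (iv4 F93163)) (tt N29861 F92939) (tt N18039 (iv6 D58790)) (tt N65543 D125572))
theorem Q35593 : ∀ i, i < 35593 → P i := stepQ 35592 Q35592 (allL N35592 (tt N35870 (iv1 F93406)) (tt N35869 F93405) (tt N18107 F92940) (tt N36747 (iv3 F343557)) (tt N18041 F92941) (tt N36746 (iv5 F343558)) (tt N18040 (iv6 D58791)) (tt N29862 F92942))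
theorem Q35594 : ∀ i, i < 35594 → P i := stepQ 35593 Q35593 (allL N35593 (tt N65544 D125574) (tt N65545 D125575) (tt N65546 D125576) (tt N18043 (iv3 D58792)) (tt N18054 F92943) (tt N59391 (iv5 F172797)) (tt N65547 D125577) (tt N58990 (iv7 F171699)))
theorem Q35595 : ∀ i, i < 35595 → P i := stepQ 35594 Q35594 (allL N35594 (tt N31072 F164101) (tt N59329 (iv0 F172624)) (tt N58980 (iv2 F171653)) (tt N65547 (iv3 F201992)) (tt N18044 F92944) (tt N65548 D125578) (tt N18043 (iv6 D58793)) (tt N59452 (iv7 F172913)))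
theorem Q35596 : ∀ i, i < 35596 → P i := stepQ 35595 Q35595 (allL N35595 (tt N58982 (iv1 F171667)) (tt N18044 (iv0 D58794)) (tt N58981 F171659) (tt N31254 (iv3 F168453)) (tt N31654 (iv4 F168455)) (tt N36909 F168454) (tt N32400 F167597) (tt N31289 (iv7 F170711)))
theorem Q35597 : ∀ i, i < 35597 → P i := stepQ 35596 Q35596 (allL N35596 (tt N18044 (iv1 D58795)) (tt N58982 F171666) (tt N31289 F171514) (tt N65549 D125579) (tt N31655 F172610) (tt N58942 (iv5 F171512)) (tt N65550 D125580) (tt N58981 (iv7 F171661)))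
theorem Q35598 : ∀ i, i < 35598 → P i := stepQ 35597 Q35597 (allL N35597 (tt N31289 (iv1 F168004)) (tt N58981 F171662) (tt N58982 (iv2 F171663)) (tt N18059 F92945) (tt N59452 (iv4 F172910)) (tt N28068 F327635) (tt N40322 F101582) (tt N18044 (iv7 D58796)))
theorem Q35599 : ∀ i, i < 35599 → P i := stepQ 35598 Q35598 (allL N35598 (tt N59750 (iv1 F173786)) (tt N56977 (iv0 F165158)) (tt N20057 F92946) (tt N32292 F92947) (tt N65497 (iv4 F201874)) (tt N20051 F92948) (tt N18046 (iv6 D58797)) (tt N32308 F92949))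
theorem Q35600 : ∀ i, i < 35600 → P i := stepQ 35599 Q35599 (allL N35599 (tt N65551 D125581) (tt N65552 D125582) (tt N65553 D125583) (tt N18047 (iv3 D58798)) (tt N32231 F92952) (tt N35727 (iv5 F93155)) (tt N64120 (iv6 F328215)) (tt N32254 F92953))
theorem Q35601 : ∀ i, i < 35601 → P i := stepQ 35600 Q35600 (allL N35600 (tt N35626 F164044) (tt N32032 (iv0 F164062)) (tt N30818 F92954) (tt N64120 (iv3 F328214)) (tt N18048 F92955) (tt N65554 D125585) (tt N18047 (iv6 D58799)) (tt N58847 (iv7 F171117)))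
theorem Q35602 : ∀ i, i < 35602 → P i := stepQ 35601 Q35601 (allL N35601 (tt N30821 (iv1 F92963)) (tt N18048 (iv0 D58800)) (tt N30819 (iv2 F165653)) (tt N59317 F172573) (tt N65504 (iv4 F201894)) (tt N30048 F92956) (tt N29485 (iv6 F92957)) (tt N30820 (iv7 F165655)))
theorem Q35603 : ∀ i, i < 35603 → P i := stepQ 35602 Q35602 (allL N35602 (tt N30820 (iv1 F92964)) (tt N30819 F92965) (tt N30821 F92960) (tt N32236 F92961) (tt N58847 (iv4 F171114)) (tt N56700 (iv5 F164607)) (tt N32259 F92962) (tt N18048 (iv7 D58802)))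
theorem Q35604 : ∀ i, i < 35604 → P i := stepQ 35603 Q35603 (allL N35603 (tt N65555 D125586) (tt N65556 D125587) (tt N65557 D125588) (tt N18050 (iv3 D58803)) (tt N30401 F92966) (tt N65558 D125589) (tt N65559 D125590) (tt N57951 (iv7 F168630)))
theorem Q35605 : ∀ i, i < 35605 → P i := stepQ 35604 Q35604 (allL N35604 (tt N30909 F92969) (tt N32261 F92970) (tt N31295 F92967) (tt N65558 (iv3 F202019)) (tt N32026 F92968) (tt N18050 (iv5 D58804)) (tt N65560 D125591) (tt N35701 (iv7 F93136)))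
theorem Q35606 : ∀ i, i < 35606 → P i := stepQ 35605 Q35605 (allL N35605 (tt N65561 D125592) (tt N65562 D125593) (tt N31296 F92971) (tt N65559 (iv3 F202020)) (tt N18051 F92972) (tt N65563 D125594) (tt N18050 (iv6 D58805)) (tt N60505 (iv7 F176523)))
theorem Q35607 : ∀ i, i < 35607 → P i := stepQ 35606 Q35606 (allL N35606 (tt N31299 (iv1 F92978)) (tt N18051 (iv0 D58806)) (tt N31297 (iv2 F166433)) (tt N59977 F175096) (tt N65564 D125595) (tt N57667 (iv5 F167346)) (tt N35744 (iv6 F93174)) (tt N31298 F166427))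
theorem Q35608 : ∀ i, i < 35608 → P i := stepQ 35607 Q35607 (allL N35607 (tt N18051 (iv1 D58807)) (tt N31299 F92973) (tt N31298 F166432) (tt N60073 (iv3 F175465)) (tt N65565 D125596) (tt N36201 (iv5 F94074)) (tt N30398 (iv6 F94075)) (tt N31297 (iv7 F166431)))
theorem Q35609 : ∀ i, i < 35609 → P i := stepQ 35608 Q35608 (allL N35608 (tt N31298 (iv1 F92979)) (tt N31297 F92980) (tt N31299 F92974) (tt N30400 F92975) (tt N60505 (iv4 F176522)) (tt N30384 F92976) (tt N18401 F92977) (tt N18051 (iv7 D58808)))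
theorem Q35610 : ∀ i, i < 35610 → P i := stepQ 35609 Q35609 (allL N35609 (tt N65566 D125597) (tt N65567 D125598) (tt N65568 D125599) (tt N18052 (iv3 D58809)) (tt N20085 F92981) (tt N65569 D125600) (tt N65570 D125601) (tt N59701 (iv7 F173583)))
theorem Q35611 : ∀ i, i < 35611 → P i := stepQ 35610 Q35610 (allL N35610 (tt N35579 F92982) (tt N35582 F92983) (tt N35664 F93098) (tt N65569 (iv3 F202048)) (tt N35663 (iv4 F93089)) (tt N18052 (iv5 D58810)) (tt N65571 D125602) (tt N35663 F93093))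
theorem Q35612 : ∀ i, i < 35612 → P i := stepQ 35611 Q35611 (allL N35611 (tt N65564 F202041) (tt N65565 (iv0 F202045)) (tt N65497 (iv2 F201873)) (tt N65570 (iv3 F202049)) (tt N20057 F92984) (tt N60597 (iv5 F176626)) (tt N18052 (iv6 D58811)) (tt N65572 D125603))
theorem Q35613 : ∀ i, i < 35613 → P i := stepQ 35612 Q35612 (allL N35612 (tt N65573 D125604) (tt N65574 D125605) (tt N65575 D125606) (tt N18053 (iv3 D58812)) (tt N31334 F92985) (tt N65576 D125607) (tt N65577 D125608) (tt N59994 (iv7 F175148)))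
theorem Q35614 : ∀ i, i < 35614 → P i := stepQ 35613 Q35613 (allL N35613 (tt N35582 F92986) (tt N35579 F92987) (tt N35663 F93092) (tt N65576 (iv3 F202058)) (tt N35664 (iv4 F93097)) (tt N18053 (iv5 D58813)) (tt N65578 D125609) (tt N35664 (iv7 F93095)))
theorem Q35615 : ∀ i, i < 35615 → P i := stepQ 35614 Q35614 (allL N35614 (tt N18400 F92990) (tt N32446 F92991) (tt N32309 F92988) (tt N65577 (iv3 F202059)) (tt N29491 F92989) (tt N65579 D125610) (tt N18053 (iv6 D58814)) (tt N32306 (iv7 F92992)))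
theorem Q35616 : ∀ i, i < 35616 → P i := stepQ 35615 Q35615 (allL N35615 (tt N65508 (iv1 F201907)) (tt N18054 (iv0 D58815)) (tt N65507 (iv2 F203764)) (tt N65580 D125612) (tt N65581 D125613) (tt N65582 D125614) (tt N65583 D125615) (tt N65506 (iv7 F203763)))
theorem Q35617 : ∀ i, i < 35617 → P i := stepQ 35616 Q35616 (allL N35616 (tt N18054 (iv1 D58816)) (tt N65508 F201909) (tt N65506 (iv2 F203762)) (tt N65584 D125617) (tt N65585 D125618) (tt N65586 D125619) (tt N65587 D125620) (tt N65507 (iv7 F203765)))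
theorem Q35618 : ∀ i, i < 35618 → P i := stepQ 35617 Q35617 (allL N35617 (tt N65507 (iv1 F201908)) (tt N65506 F201903) (tt N18054 (iv2 D58817)) (tt N65500 (iv3 F201885)) (tt N65546 (iv4 F201991)) (tt N65588 D125621) (tt N65589 D125622) (tt N65508 (iv7 F201906)))
theorem Q35619 : ∀ i, i < 35619 → P i := stepQ 35618 Q35618 (allL N35618 (tt N65590 D125623) (tt N65591 D125624) (tt N65588 (iv2 F202070)) (tt N18055 F92993) (tt N65592 D125625) (tt N18054 (iv5 D58818)) (tt N65593 D125626) (tt N65509 (iv7 F201911)))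
theorem Q35620 : ∀ i, i < 35620 → P i := stepQ 35619 Q35619 (allL N35619 (tt N65594 D125627) (tt N65595 D125628) (tt N65589 (iv2 F202071)) (tt N18056 F92994) (tt N65547 (iv4 F201993)) (tt N65596 D125629) (tt N18054 (iv6 D58819)) (tt N65597 D125630))
theorem Q35621 : ∀ i, i < 35621 → P i := stepQ 35620 Q35620 (allL N35620 (tt N18069 (iv1 F92998)) (tt N18055 (iv0 D58820)) (tt N32270 (iv2 F92997)) (tt N65598 D125631) (tt N29478 F92996) (tt N18074 F92995) (tt N65599 D125632) (tt N29478 F92999))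
theorem Q35622 : ∀ i, i < 35622 → P i := stepQ 35621 Q35621 (allL N35621 (tt N65600 D125633) (tt N65601 D125634) (tt N65503 (iv2 F201892)) (tt N65593 (iv3 F202072)) (tt N35730 (iv4 F93158)) (tt N65602 D125635) (tt N18055 (iv6 D58821)) (tt N65603 D125636))
theorem Q35623 : ∀ i, i < 35623 → P i := stepQ 35622 Q35622 (allL N35622 (tt N60021 F175323) (tt N18056 (iv0 D58822)) (tt N65504 F201895) (tt N65604 D125637) (tt N30819 F165632) (tt N37740 (iv5 F332805)) (tt N32287 (iv6 F165633)) (tt N59741 (iv7 F173726)))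
theorem Q35624 : ∀ i, i < 35624 → P i := stepQ 35623 Q35623 (allL N35623 (tt N18056 (iv1 D58823)) (tt N60021 (iv0 F175322)) (tt N59741 (iv2 F173725)) (tt N65605 D125638) (tt N30820 F172621) (tt N60621 (iv5 F176650)) (tt N65606 D125639) (tt N65504 (iv7 F201897)))
theorem Q35625 : ∀ i, i < 35625 → P i := stepQ 35624 Q35624 (allL N35624 (tt N65607 D125640) (tt N65608 D125641) (tt N65505 (iv2 F201899)) (tt N65596 (iv3 F202073)) (tt N65609 D125642) (tt N18056 (iv5 D58824)) (tt N65602 (iv6 F202079)) (tt N65610 D125643))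
theorem Q35626 : ∀ i, i < 35626 → P i := stepQ 35625 Q35625 (allL N35625 (tt N59741 (iv1 F173727)) (tt N65504 F201896) (tt N60021 (iv2 F175319)) (tt N65597 (iv3 F202074)) (tt N18059 F93000) (tt N65610 (iv5 F202089)) (tt N60117 (iv6 F175692)) (tt N18056 (iv7 D58825)))
theorem Q35627 : ∀ i, i < 35627 → P i := stepQ 35626 Q35626 (allL N35626 (tt N57960 (iv1 F168643)) (tt N35600 (iv0 F164044)) (tt N31312 F164096) (tt N65611 D125644) (tt N18057 (iv4 D58828)) (tt N56546 (iv5 F328933)) (tt N32409 F93004) (tt N57958 (iv7 F168637)))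
theorem Q35628 : ∀ i, i < 35628 → P i := stepQ 35627 Q35627 (allL N35627 (tt N18708 F93009) (tt N18058 (iv0 D58833)) (tt N18706 F100250) (tt N30027 F168040) (tt N65612 D125646) (tt N29854 F93008) (tt N60894 (iv6 F328776)) (tt N18707 F100252))
theorem Q35629 : ∀ i, i < 35629 → P i := stepQ 35628 Q35628 (allL N35628 (tt N60939 (iv1 F342917)) (tt N65613 D125649) (tt N18705 F93014) (tt N28119 F326582) (tt N18058 (iv4 D58835)) (tt N49532 (iv5 F327325)) (tt N18060 F93015) (tt N28117 (iv7 F327326)))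
theorem Q35630 : ∀ i, i < 35630 → P i := stepQ 35629 Q35629 (allL N35629 (tt N18707 (iv1 F93019)) (tt N18706 (iv0 F93020)) (tt N18708 F93016) (tt N28068 F327633) (tt N28117 F327634) (tt N18059 F93017) (tt N18701 F93018) (tt N18058 (iv7 D58836)))
theorem Q35631 : ∀ i, i < 35631 → P i := stepQ 35630 Q35630 (allL N35630 (tt N65614 D125653) (tt N65615 D125654) (tt N53031 (iv2 F325742)) (tt N18060 (iv3 D58837)) (tt N19720 F93021) (tt N65616 D125656) (tt N28119 (iv6 F325753)) (tt N18696 F93022))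
theorem Q35632 : ∀ i, i < 35632 → P i := stepQ 35631 Q35631 (allL N35631 (tt N36744 (iv1 F95147)) (tt N36747 (iv0 F95148)) (tt N18704 F93023) (tt N65616 (iv3 F202132)) (tt N36707 (iv4 F95082)) (tt N18060 (iv5 D58838)) (tt N65617 D125657) (tt N18697 F93024))
theorem Q35633 : ∀ i, i < 35633 → P i := stepQ 35632 Q35632 (allL N35632 (tt N31350 (iv1 F93044)) (tt N32435 (iv0 F93026)) (tt N18064 F93025) (tt N36064 (iv3 F93895)) (tt N59704 (iv4 F173595)) (tt N57962 (iv5 F168651)) (tt N18061 (iv6 D58839)) (tt N60063 (iv7 F175436)))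
theorem Q35634 : ∀ i, i < 35634 → P i := stepQ 35633 Q35633 (allL N35633 (tt N31666 F93031) (tt N32440 F93032) (tt N31323 F93027) (tt N32397 F93028) (tt N31858 F93029) (tt N35544 F93030) (tt N18062 (iv6 D58840)) (tt N32439 (iv7 F93034)))
theorem Q35635 : ∀ i, i < 35635 → P i := stepQ 35634 Q35634 (allL N35634 (tt N65618 D125658) (tt N65619 D125659) (tt N65620 D125660) (tt N18063 (iv3 D58841)) (tt N18068 F93036) (tt N56001 (iv5 F336180)) (tt N55534 (iv6 F355933)) (tt N59776 (iv7 F173998)))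
theorem Q35636 : ∀ i, i < 35636 → P i := stepQ 35635 Q35635 (allL N35635 (tt N19919 F93038) (tt N29674 F93039) (tt N39227 F99669) (tt N56001 (iv3 F336179)) (tt N29633 F93037) (tt N18063 (iv5 D58842)) (tt N65621 D125663) (tt N39226 F99666))
theorem Q35637 : ∀ i, i < 35637 → P i := stepQ 35636 Q35636 (allL N35636 (tt N59706 (iv1 F173609)) (tt N29125 F319033) (tt N59704 F173597) (tt N55534 (iv3 F355931)) (tt N18064 F93040) (tt N65622 D125664) (tt N18063 (iv6 D58843)) (tt N59705 (iv7 F173601)))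
theorem Q35638 : ∀ i, i < 35638 → P i := stepQ 35637 Q35637 (allL N35637 (tt N60063 (iv1 F175435)) (tt N18064 (iv0 D58844)) (tt N31350 (iv2 F93042)) (tt N40305 F101540) (tt N31870 (iv4 F101545)) (tt N60208 (iv5 F175902)) (tt N65623 D125665) (tt N32435 F93043))
theorem Q35639 : ∀ i, i < 35639 → P i := stepQ 35638 Q35638 (allL N35638 (tt N32435 (iv1 F93046)) (tt N31350 F93047) (tt N60063 F175437) (tt N18072 F93045) (tt N59705 F173602) (tt N62623 (iv5 F182860)) (tt N60008 F175200) (tt N18064 (iv7 D58845)))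
theorem Q35640 : ∀ i, i < 35640 → P i := stepQ 35639 Q35639 (allL N35639 (tt N65624 D125666) (tt N65625 D125667) (tt N65626 D125668) (tt N18066 (iv3 D58846)) (tt N30784 F93048) (tt N35729 (iv5 F93157)) (tt N65627 D125669) (tt N30816 F93049))
theorem Q35641 : ∀ i, i < 35641 → P i := stepQ 35640 Q35640 (allL N35640 (tt N32093 F93053) (tt N32277 (iv0 F93052)) (tt N32256 F93050) (tt N65627 (iv3 F202154)) (tt N18067 F93051) (tt N65628 D125670) (tt N18066 (iv6 D58847)) (tt N58844 (iv7 F170993)))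
theorem Q35642 : ∀ i, i < 35642 → P i := stepQ 35641 Q35641 (allL N35641 (tt N32259 (iv1 F93059)) (tt N18067 (iv0 D58848)) (tt N32257 (iv2 F93055)) (tt N31039 F93056) (tt N65512 (iv4 F201915)) (tt N32192 F93057) (tt N32051 F93054) (tt N29482 F93058))
theorem Q35643 : ∀ i, i < 35643 → P i := stepQ 35642 Q35642 (allL N35642 (tt N29482 (iv1 F93065)) (tt N32257 F93066) (tt N32259 F93062) (tt N30788 F93063) (tt N58844 (iv4 F170994)) (tt N38191 (iv5 F97621)) (tt N30821 F93064) (tt N18067 (iv7 D58849)))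
theorem Q35644 : ∀ i, i < 35644 → P i := stepQ 35643 Q35643 (allL N35643 (tt N65500 (iv1 F201887)) (tt N18068 (iv0 D58850)) (tt N65499 (iv2 F201882)) (tt N65629 D125671) (tt N65630 D125672) (tt N65631 D125673) (tt N65632 D125674) (tt N65498 F201883))
theorem Q35645 : ∀ i, i < 35645 → P i := stepQ 35644 Q35644 (allL N35644 (tt N18068 (iv1 D58851)) (tt N65500 F201888) (tt N65498 F201881) (tt N65633 D125675) (tt N58440 (iv4 F169346)) (tt N35702 (iv5 F349538)) (tt N35703 (iv6 F349539)) (tt N65499 (iv7 F201880)))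
theorem Q35646 : ∀ i, i < 35646 → P i := stepQ 35645 Q35645 (allL N35645 (tt N65499 (iv1 F201884)) (tt N65498 F201878) (tt N18068 (iv2 D58852)) (tt N65508 (iv3 F201905)) (tt N65620 (iv4 F202135)) (tt N65634 D125678) (tt N65635 D125679) (tt N65500 (iv7 F201886)))
theorem Q35647 : ∀ i, i < 35647 → P i := stepQ 35646 Q35646 (allL N35646 (tt N65636 D125680) (tt N65637 D125681) (tt N65634 (iv2 F202163)) (tt N18069 F93067) (tt N65638 D125682) (tt N18068 (iv5 D58853)) (tt N65639 D125683) (tt N65501 (iv7 F201890)))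
theorem Q35648 : ∀ i, i < 35648 → P i := stepQ 35647 Q35647 (allL N35647 (tt N65640 D125684) (tt N65641 D125685) (tt N65635 (iv2 F202164)) (tt N18070 F93068) (tt N55534 (iv4 F355932)) (tt N65642 D125686) (tt N18068 (iv6 D58854)) (tt N65643 D125687))
theorem Q35649 : ∀ i, i < 35649 → P i := stepQ 35648 Q35648 (allL N35648 (tt N65644 D125688) (tt N65598 (iv0 F366358)) (tt N65511 (iv2 F201913)) (tt N65639 (iv3 F202165)) (tt N35728 (iv4 F93156)) (tt N65566 (iv5 F366352)) (tt N18069 (iv6 D58855)) (tt N65645 D125691))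
theorem Q35650 : ∀ i, i < 35650 → P i := stepQ 35649 Q35649 (allL N35649 (tt N60117 F175695) (tt N18070 (iv0 D58856)) (tt N65512 F201916) (tt N46854 F328788) (tt N32257 F93069) (tt N65646 D125693) (tt N56980 (iv6 F165161)) (tt N32274 (iv7 F93070)))
theorem Q35651 : ∀ i, i < 35651 → P i := stepQ 35650 Q35650 (allL N35650 (tt N18070 (iv1 D58857)) (tt N60117 (iv0 F175694)) (tt N32274 F93072) (tt N65647 D125694) (tt N29482 F93073) (tt N65648 D125695) (tt N18397 (iv6 F93071)) (tt N65512 (iv7 F201918)))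
theorem Q35652 : ∀ i, i < 35652 → P i := stepQ 35651 Q35651 (allL N35651 (tt N65649 D125696) (tt N65647 (iv0 F366355)) (tt N65513 (iv2 F201920)) (tt N65642 (iv3 F202166)) (tt N65650 D125698) (tt N18070 (iv5 D58858)) (tt N65566 (iv6 F366353)) (tt N65651 D125699))
theorem Q35653 : ∀ i, i < 35653 → P i := stepQ 35652 Q35652 (allL N35652 (tt N32274 (iv1 F93075)) (tt N65512 F201917) (tt N60117 (iv2 F175691)) (tt N65643 (iv3 F202167)) (tt N18072 F93074) (tt N65651 (iv5 F202176)) (tt N60021 (iv6 F175320)) (tt N18070 (iv7 D58859)))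
theorem Q35654 : ∀ i, i < 35654 → P i := stepQ 35653 Q35653 (allL N35653 (tt N59590 (iv1 F173196)) (tt N18073 (iv0 D58860)) (tt N59589 F173185) (tt N35878 (iv3 F168470)) (tt N31702 (iv4 F168471)) (tt N47771 F332918) (tt N35900 F168469) (tt N35888 (iv7 F171881)))
theorem Q35655 : ∀ i, i < 35655 → P i := stepQ 35654 Q35654 (allL N35654 (tt N18073 (iv1 D58861)) (tt N59590 F173195) (tt N35888 F172705) (tt N65652 D125701) (tt N31703 F168696) (tt N59055 (iv5 F171935)) (tt N65653 D125702) (tt N59589 (iv7 F173187)))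
theorem Q35656 : ∀ i, i < 35656 → P i := stepQ 35655 Q35655 (allL N35655 (tt N35888 (iv1 F173189)) (tt N59589 F173190) (tt N59590 (iv2 F173192)) (tt N18080 F93077) (tt N34994 F343756) (tt N21030 F93078) (tt N59617 (iv6 F173237)) (tt N18073 (iv7 D58862)))
theorem Q35657 : ∀ i, i < 35657 → P i := stepQ 35656 Q35656 (allL N35656 (tt N65654 D125703) (tt N65655 D125704) (tt N65656 D125705) (tt N18074 (iv3 D58863)) (tt N31074 F93079) (tt N65598 (iv5 F202075)) (tt N65657 D125706) (tt N29477 F93080))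
theorem Q35658 : ∀ i, i < 35658 → P i := stepQ 35657 Q35657 (allL N35657 (tt N32389 (iv1 F93084)) (tt N32388 F93085) (tt N32272 F93081) (tt N65657 (iv3 F202195)) (tt N29479 F93082) (tt N65658 D125707) (tt N18074 (iv6 D58864)) (tt N29512 F93083))
theorem Q35659 : ∀ i, i < 35659 → P i := stepQ 35658 Q35658 (allL N35658 (tt N59601 (iv1 F173212)) (tt N18075 (iv0 D58865)) (tt N59605 (iv2 F204643)) (tt N65659 D125709) (tt N65660 D125710) (tt N65590 (iv5 F355946)) (tt N65661 D125712) (tt N59604 (iv7 F204639)))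
theorem Q35660 : ∀ i, i < 35660 → P i := stepQ 35659 Q35659 (allL N35659 (tt N18075 (iv1 D58866)) (tt N59601 F173210) (tt N59604 (iv2 F204638)) (tt N65662 D125714) (tt N65663 D125715) (tt N65591 (iv5 F405944)) (tt N32348 F343544) (tt N59605 (iv7 F204644)))
theorem Q35661 : ∀ i, i < 35661 → P i := stepQ 35660 Q35660 (allL N35660 (tt N59605 (iv1 F173217)) (tt N59604 F173216) (tt N18075 (iv2 D58867)) (tt N65516 (iv3 F201929)) (tt N59365 (iv4 F172753)) (tt N65664 D125718) (tt N65665 D125719) (tt N59601 (iv7 F173209)))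
theorem Q35662 : ∀ i, i < 35662 → P i := stepQ 35661 Q35661 (allL N35661 (tt N65666 D125720) (tt N65667 D125721) (tt N65664 (iv2 F202215)) (tt N18076 F93086) (tt N65668 D125722) (tt N18075 (iv5 D58868)) (tt N65669 D125723) (tt N59606 (iv7 F173220)))
theorem Q35663 : ∀ i, i < 35663 → P i := stepQ 35662 Q35662 (allL N35662 (tt N65670 D125724) (tt N60527 (iv0 F360478)) (tt N65665 (iv2 F202216)) (tt N18077 F93087) (tt N59367 (iv4 F172761)) (tt N65671 D125726) (tt N18075 (iv6 D58869)) (tt N65672 D125727))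
theorem Q35664 : ∀ i, i < 35664 → P i := stepQ 35663 Q35663 (allL N35663 (tt N18085 (iv1 F93091)) (tt N18076 (iv0 D58870)) (tt N35613 (iv2 F93092)) (tt N65673 D125728) (tt N35610 F93089) (tt N31801 F93088) (tt N65674 D125729) (tt N35610 (iv7 F93093)))
theorem Q35665 : ∀ i, i < 35665 → P i := stepQ 35664 Q35664 (allL N35664 (tt N18076 (iv1 D58871)) (tt N18085 F93094) (tt N35610 (iv2 F93098)) (tt N65675 D125730) (tt N35613 F93097) (tt N35570 F93096) (tt N65529 (iv6 F361385)) (tt N35613 F93095))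
theorem Q35666 : ∀ i, i < 35666 → P i := stepQ 35665 Q35665 (allL N35665 (tt N65676 D125732) (tt N65677 D125733) (tt N65519 (iv2 F201936)) (tt N65669 (iv3 F202219)) (tt N35710 (iv4 F93141)) (tt N65678 D125734) (tt N18076 (iv6 D58872)) (tt N65679 D125735))
theorem Q35667 : ∀ i, i < 35667 → P i := stepQ 35666 Q35666 (allL N35666 (tt N57241 (iv1 F165880)) (tt N18077 (iv0 D58873)) (tt N65520 F201939) (tt N62667 (iv3 F346879)) (tt N30911 F165565) (tt N65680 D125737) (tt N32345 (iv6 F165566)) (tt N59874 (iv7 F174354)))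
theorem Q35668 : ∀ i, i < 35668 → P i := stepQ 35667 Q35667 (allL N35667 (tt N18077 (iv1 D58874)) (tt N57241 F165881) (tt N59874 (iv2 F174353)) (tt N65681 D125738) (tt N30912 F93099) (tt N65682 D125739) (tt N65683 D125740) (tt N65520 (iv7 F201941)))
theorem Q35669 : ∀ i, i < 35669 → P i := stepQ 35668 Q35668 (allL N35668 (tt N60044 (iv1 F175372)) (tt N65684 D125741) (tt N65521 (iv2 F201943)) (tt N65671 (iv3 F202220)) (tt N65685 D125742) (tt N18077 (iv5 D58875)) (tt N65678 (iv6 F202230)) (tt N65686 D125743))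
theorem Q35670 : ∀ i, i < 35670 → P i := stepQ 35669 Q35669 (allL N35669 (tt N59874 (iv1 F174356)) (tt N65520 F201940) (tt N57241 (iv2 F165877)) (tt N65672 (iv3 F202221)) (tt N18080 F93100) (tt N65686 (iv5 F202238)) (tt N65524 (iv6 F201961)) (tt N18077 (iv7 D58876)))
theorem Q35671 : ∀ i, i < 35671 → P i := stepQ 35670 Q35670 (allL N35670 (tt N56972 (iv1 F165136)) (tt N18093 F100283) (tt N35892 F100282) (tt N65687 D125744) (tt N18078 (iv4 D58879)) (tt N65688 D125745) (tt N35834 (iv6 F93350)) (tt N58139 (iv7 F168923)))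
theorem Q35672 : ∀ i, i < 35672 → P i := stepQ 35671 Q35671 (allL N35671 (tt N41515 F104339) (tt N41512 (iv0 F104334)) (tt N35893 F100237) (tt N35821 (iv3 F168131)) (tt N65689 D125746) (tt N18078 (iv5 D58880)) (tt N37729 (iv6 F96526)) (tt N41454 (iv7 F104273)))
theorem Q35673 : ∀ i, i < 35673 → P i := stepQ 35672 Q35672 (allL N35672 (tt N18093 F93103) (tt N56972 (iv0 F165137)) (tt N58139 F168925) (tt N24963 (iv3 F326939)) (tt N18079 (iv4 D58883)) (tt N65690 D125747) (tt N65691 D125748) (tt N35892 F100165))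
theorem Q35674 : ∀ i, i < 35674 → P i := stepQ 35673 Q35673 (allL N35673 (tt N57414 F166506) (tt N35877 (iv0 F100276)) (tt N57182 (iv2 F165734)) (tt N18122 F100155) (tt N65691 (iv4 F202242)) (tt N20858 F100156) (tt N18079 (iv6 D58884)) (tt N35833 (iv7 F93344)))
theorem Q35675 : ∀ i, i < 35675 → P i := stepQ 35674 Q35674 (allL N35674 (tt N35897 F173090) (tt N65692 D125749) (tt N18083 F93105) (tt N38397 (iv3 F98197)) (tt N39221 (iv4 F99661)) (tt N30447 F93106) (tt N18081 (iv6 D58885)) (tt N65693 D125750))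
theorem Q35676 : ∀ i, i < 35676 → P i := stepQ 35675 Q35675 (allL N35675 (tt N65694 D125751) (tt N56003 (iv0 F344596)) (tt N65695 D125753) (tt N18082 (iv3 D58886)) (tt N18084 F93107) (tt N38175 (iv5 F344598)) (tt N65696 D125755) (tt N39216 (iv7 F99650)))
theorem Q35677 : ∀ i, i < 35677 → P i := stepQ 35676 Q35676 (allL N35676 (tt N31853 F93109) (tt N31850 F93110) (tt N39220 (iv2 F99657)) (tt N38175 F344599) (tt N29649 F93108) (tt N18082 (iv5 D58887)) (tt N38174 (iv6 F344602)) (tt N39217 (iv7 F99651)))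
theorem Q35678 : ∀ i, i < 35678 → P i := stepQ 35677 Q35677 (allL N35677 (tt N59899 F174539) (tt N59872 (iv0 F174352)) (tt N39221 (iv2 F99660)) (tt N65696 (iv3 F202255)) (tt N18083 F93111) (tt N65697 D125757) (tt N18082 (iv6 D58888)) (tt N59927 (iv7 F174623)))
theorem Q35679 : ∀ i, i < 35679 → P i := stepQ 35678 Q35678 (allL N35678 (tt N65693 (iv1 F202252)) (tt N18083 (iv0 D58889)) (tt N35897 (iv2 F174550)) (tt N58215 F174551) (tt N31933 F174552) (tt N37732 F174553) (tt N65698 D125758) (tt N65692 (iv7 F202244)))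
theorem Q35680 : ∀ i, i < 35680 → P i := stepQ 35679 Q35679 (allL N35679 (tt N18083 (iv1 D58890)) (tt N65693 F202251) (tt N65692 (iv2 F202247)) (tt N23623 F326790) (tt N31934 F174543) (tt N37733 (iv5 F174540)) (tt N35885 (iv6 F174545)) (tt N35897 F174542))
theorem Q35681 : ∀ i, i < 35681 → P i := stepQ 35680 Q35680 (allL N35680 (tt N65699 D125759) (tt N58818 (iv0 F170821)) (tt N30447 F93112) (tt N18089 F93113) (tt N65700 D125760) (tt N18083 (iv5 D58891)) (tt N18222 F93114) (tt N65701 D125761))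
theorem Q35682 : ∀ i, i < 35682 → P i := stepQ 35681 Q35681 (allL N35681 (tt N65692 (iv1 F202243)) (tt N35897 F174624) (tt N65693 (iv2 F202249)) (tt N18090 F93115) (tt N59927 (iv4 F174621)) (tt N65701 (iv5 F202274)) (tt N57236 F165867) (tt N18083 (iv7 D58892)))
theorem Q35683 : ∀ i, i < 35683 → P i := stepQ 35682 Q35682 (allL N35682 (tt N65516 (iv1 F201931)) (tt N18084 (iv0 D58893)) (tt N65515 (iv2 F201926)) (tt N65702 D125762) (tt N65703 D125763) (tt N65636 (iv5 F358192)) (tt N32355 F358190) (tt N65514 F201927))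
theorem Q35684 : ∀ i, i < 35684 → P i := stepQ 35683 Q35683 (allL N35683 (tt N18084 (iv1 D58894)) (tt N65516 F201932) (tt N65514 F201925) (tt N65704 D125766) (tt N58573 (iv4 F169702)) (tt N65637 (iv5 F362566)) (tt N65705 D125768) (tt N65515 (iv7 F201924)))
theorem Q35685 : ∀ i, i < 35685 → P i := stepQ 35684 Q35684 (allL N35684 (tt N65515 (iv1 F201928)) (tt N65514 F201921) (tt N18084 (iv2 D58895)) (tt N59601 F173211) (tt N65695 (iv4 F202253)) (tt N65706 D125769) (tt N51620 (iv6 F363215)) (tt N65516 (iv7 F201930)))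
theorem Q35686 : ∀ i, i < 35686 → P i := stepQ 35685 Q35685 (allL N35685 (tt N58138 (iv1 F349550)) (tt N65707 D125772) (tt N65706 (iv2 F202286)) (tt N18085 F93116) (tt N65708 D125773) (tt N18084 (iv5 D58896)) (tt N65709 D125774) (tt N65517 (iv7 F201934)))
theorem Q35687 : ∀ i, i < 35687 → P i := stepQ 35686 Q35686 (allL N35686 (tt N51621 (iv1 F328127)) (tt N44628 (iv0 F328128)) (tt N51620 (iv2 F363213)) (tt N18086 F93117) (tt N65696 (iv4 F202256)) (tt N65710 D125777) (tt N18084 (iv6 D58897)) (tt N51619 (iv7 F341940)))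
theorem Q35688 : ∀ i, i < 35688 → P i := stepQ 35687 Q35687 (allL N35687 (tt N56501 (iv1 F342878)) (tt N65711 D125780) (tt N65522 (iv2 F201945)) (tt N65709 (iv3 F202288)) (tt N35702 (iv4 F93137)) (tt N65712 D125781) (tt N18085 (iv6 D58898)) (tt N65713 D125782))
theorem Q35689 : ∀ i, i < 35689 → P i := stepQ 35688 Q35688 (allL N35688 (tt N65524 (iv1 F201963)) (tt N18086 (iv0 D58899)) (tt N65523 F201948) (tt N44631 F327555) (tt N32263 (iv4 F165609)) (tt N36758 (iv5 F332769)) (tt N65714 D125785) (tt N36757 F332763))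
theorem Q35690 : ∀ i, i < 35690 → P i := stepQ 35689 Q35689 (allL N35689 (tt N18086 (iv1 D58900)) (tt N65524 F201962) (tt N36757 F332759) (tt N65715 D125786) (tt N31177 F174555) (tt N35694 (iv5 F332767)) (tt N32320 F174556) (tt N65523 F201949))
theorem Q35691 : ∀ i, i < 35691 → P i := stepQ 35690 Q35690 (allL N35690 (tt N56531 (iv1 F332788)) (tt N19163 (iv0 F332790)) (tt N56529 F332770) (tt N65710 (iv3 F202289)) (tt N30121 (iv4 F332792)) (tt N18086 (iv5 D58901)) (tt N65712 (iv6 F202291)) (tt N56530 F332771))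
theorem Q35692 : ∀ i, i < 35692 → P i := stepQ 35691 Q35691 (allL N35691 (tt N36757 F332758) (tt N65523 F201957) (tt N65524 (iv2 F201959)) (tt N51619 (iv3 F341939)) (tt N18090 F93118) (tt N56530 (iv5 F332766)) (tt N57241 (iv6 F165878)) (tt N18086 (iv7 D58902)))
theorem Q35693 : ∀ i, i < 35693 → P i := stepQ 35692 Q35692 (allL N35692 (tt N35874 F93414) (tt N60134 (iv0 F175766)) (tt N62635 (iv2 F182894)) (tt N18131 F168024) (tt N46536 (iv4 F326907)) (tt N20799 F93120) (tt N18087 (iv6 D58906)) (tt N35824 (iv7 F93324)))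
theorem Q35694 : ∀ i, i < 35694 → P i := stepQ 35693 Q35693 (allL N35693 (tt N18096 F168559) (tt N46544 (iv0 F327083)) (tt N35902 (iv2 F168413)) (tt N65716 D125791) (tt N18088 (iv4 D58909)) (tt N36732 (iv5 F327446)) (tt N35820 (iv6 F93321)) (tt N46545 (iv7 F327082)))
theorem Q35695 : ∀ i, i < 35695 → P i := stepQ 35694 Q35694 (allL N35694 (tt N55694 (iv1 F332773)) (tt N60472 (iv0 F176481)) (tt N18673 F93122) (tt N65717 D125792) (tt N18089 (iv4 D58910)) (tt N35689 F332767) (tt N18646 F93123) (tt N60714 (iv7 F332783)))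
theorem Q35696 : ∀ i, i < 35696 → P i := stepQ 35695 Q35695 (allL N35695 (tt N18675 (iv1 F93128)) (tt N18674 (iv0 F93129)) (tt N18676 F93124) (tt N65701 (iv3 F202273)) (tt N60714 (iv4 F332781)) (tt N18090 F93125) (tt N18691 F93126) (tt N18089 (iv7 D58911)))
theorem Q35697 : ∀ i, i < 35697 → P i := stepQ 35696 Q35696 (allL N35696 (tt N60416 (iv1 F176380)) (tt N18091 (iv0 D58912)) (tt N60415 (iv2 F359808)) (tt N59598 F173207) (tt N65718 D125796) (tt N65719 D125797) (tt N65720 D125798) (tt N60414 (iv7 F359807)))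
theorem Q35698 : ∀ i, i < 35698 → P i := stepQ 35697 Q35697 (allL N35697 (tt N18091 (iv1 D58913)) (tt N60416 F176382) (tt N60414 (iv2 F359806)) (tt N65721 D125800) (tt N65722 D125801) (tt N65723 D125802) (tt N35836 F359805) (tt N60415 (iv7 F359809)))
theorem Q35699 : ∀ i, i < 35699 → P i := stepQ 35698 Q35698 (allL N35698 (tt N60415 (iv1 F176381)) (tt N60414 F176377) (tt N18091 (iv2 D58914)) (tt N58135 (iv3 F168911)) (tt N60371 (iv4 F176308)) (tt N65724 D125804) (tt N45732 F330159) (tt N60416 (iv7 F176379)))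
theorem Q35700 : ∀ i, i < 35700 → P i := stepQ 35699 Q35699 (allL N35699 (tt N65725 D125806) (tt N65726 D125807) (tt N65724 (iv2 F202316)) (tt N18092 F93130) (tt N65727 D125808) (tt N18091 (iv5 D58915)) (tt N65728 D125809) (tt N60417 (iv7 F176384)))
theorem Q35701 : ∀ i, i < 35701 → P i := stepQ 35700 Q35700 (allL N35700 (tt N64522 (iv1 F330152)) (tt N65729 D125811) (tt N45732 (iv2 F330153)) (tt N18093 F93131) (tt N46309 F330143) (tt N45719 F330149) (tt N18091 (iv6 D58916)) (tt N65730 D125813))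
theorem Q35702 : ∀ i, i < 35702 → P i := stepQ 35701 Q35701 (allL N35701 (tt N18095 (iv1 F93135)) (tt N18092 (iv0 D58917)) (tt N32026 (iv2 F93134)) (tt N65731 D125814) (tt N31295 F93133) (tt N30815 F93132) (tt N65732 D125815) (tt N35604 F93136))
theorem Q35703 : ∀ i, i < 35703 → P i := stepQ 35702 Q35702 (allL N35702 (tt N65517 (iv1 F349575)) (tt N65706 (iv0 F349584)) (tt N58138 (iv2 F168921)) (tt N65728 (iv3 F202319)) (tt N35687 F93137) (tt N35644 F349538) (tt N18092 (iv6 D58918)) (tt N65707 (iv7 F349555)))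
theorem Q35704 : ∀ i, i < 35704 → P i := stepQ 35703 Q35703 (allL N35703 (tt N57250 (iv1 F165896)) (tt N65733 D125820) (tt N58140 (iv2 F168926)) (tt N45719 F330148) (tt N65734 D125821) (tt N18093 (iv5 D58920)) (tt N35644 F349539) (tt N65735 D125822))
theorem Q35705 : ∀ i, i < 35705 → P i := stepQ 35704 Q35704 (allL N35704 (tt N58139 (iv1 F168922)) (tt N35892 (iv0 F100265)) (tt N56972 (iv2 F165133)) (tt N65730 (iv3 F202321)) (tt N32046 F93138) (tt N65735 (iv5 F202330)) (tt N46544 F327655) (tt N18093 (iv7 D58921)))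
theorem Q35706 : ∀ i, i < 35706 → P i := stepQ 35705 Q35705 (allL N35705 (tt N58135 (iv1 F168914)) (tt N18094 (iv0 D58922)) (tt N58134 (iv2 F397278)) (tt N65736 D125824) (tt N58302 (iv4 F169122)) (tt N65737 D125825) (tt N35844 F355940) (tt N58133 (iv7 F397277)))
theorem Q35707 : ∀ i, i < 35707 → P i := stepQ 35706 Q35706 (allL N35706 (tt N18094 (iv1 D58923)) (tt N58135 F168916) (tt N58133 (iv2 F397276)) (tt N65738 D125828) (tt N58231 (iv4 F169043)) (tt N65739 D125829) (tt N65740 D125830) (tt N58134 (iv7 F397280)))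
theorem Q35708 : ∀ i, i < 35708 → P i := stepQ 35707 Q35707 (allL N35707 (tt N58134 (iv1 F168915)) (tt N58133 F168910) (tt N18094 (iv2 D58924)) (tt N60416 (iv3 F176378)) (tt N57906 (iv4 F168536)) (tt N65741 D125831) (tt N65742 D125832) (tt N58135 (iv7 F168913)))
theorem Q35709 : ∀ i, i < 35709 → P i := stepQ 35708 Q35708 (allL N35708 (tt N65669 (iv1 F360459)) (tt N65743 D125834) (tt N65741 (iv2 F202334)) (tt N18095 F93139) (tt N65582 (iv4 F202066)) (tt N18094 (iv5 D58925)) (tt N65744 D125835) (tt N58136 (iv7 F168918)))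
theorem Q35710 : ∀ i, i < 35710 → P i := stepQ 35709 Q35709 (allL N35709 (tt N65745 D125836) (tt N65746 D125837) (tt N65742 (iv2 F202335)) (tt N18096 F93140) (tt N57908 (iv4 F168544)) (tt N65747 D125838) (tt N18094 (iv6 D58926)) (tt N65748 D125839))
theorem Q35711 : ∀ i, i < 35711 → P i := stepQ 35710 Q35710 (allL N35710 (tt N56418 (iv1 F360460)) (tt N65749 D125841) (tt N60419 (iv2 F176386)) (tt N65744 (iv3 F202336)) (tt N35665 F93141) (tt N65750 D125842) (tt N18095 (iv6 D58927)) (tt N65751 D125843))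
theorem Q35712 : ∀ i, i < 35712 → P i := stepQ 35711 Q35711 (allL N35711 (tt N37759 (iv1 F327649)) (tt N30034 (iv0 F327647)) (tt N37743 (iv2 F327444)) (tt N65747 (iv3 F202337)) (tt N30027 (iv4 F327657)) (tt N18096 (iv5 D58930)) (tt N65750 (iv6 F202339)) (tt N37745 (iv7 F327448)))
theorem Q35713 : ∀ i, i < 35713 → P i := stepQ 35712 Q35712 (allL N35712 (tt N35902 F168296) (tt N46545 (iv0 F327079)) (tt N46544 (iv2 F327084)) (tt N65748 (iv3 F202338)) (tt N55611 (iv4 F161084)) (tt N37745 (iv5 F327447)) (tt N56972 (iv6 F165134)) (tt N18096 (iv7 D58931)))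
theorem Q35714 : ∀ i, i < 35714 → P i := stepQ 35713 Q35713 (allL N35713 (tt N18098 (iv1 F93145)) (tt N18097 (iv0 D58932)) (tt N18101 (iv2 F93142)) (tt N65525 (iv3 F201965)) (tt N18133 F93143) (tt N65752 D125846) (tt N65753 D125847) (tt N18099 F93144))
theorem Q35715 : ∀ i, i < 35715 → P i := stepQ 35714 Q35714 (allL N35714 (tt N65738 (iv1 F405756)) (tt N65754 D125849) (tt N65755 D125850) (tt N18097 (iv3 D58934)) (tt N58486 F169469) (tt N65756 D125851) (tt N65757 D125852) (tt N65758 D125853))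
theorem Q35716 : ∀ i, i < 35716 → P i := stepQ 35715 Q35715 (allL N35715 (tt N65759 D125854) (tt N58831 (iv0 F171354)) (tt N59947 (iv2 F174932)) (tt N65756 (iv3 F202351)) (tt N65760 D125855) (tt N18097 (iv5 D58936)) (tt N65667 (iv6 F360427)) (tt N65761 D125857))
theorem Q35717 : ∀ i, i < 35717 → P i := stepQ 35716 Q35716 (allL N35716 (tt N24966 (iv1 F326455)) (tt N24963 (iv0 F326456)) (tt N46300 F325640) (tt N65757 (iv3 F202352)) (tt N46284 F325641) (tt N65762 D125860) (tt N18097 (iv6 D58937)) (tt N46299 (iv7 F326461)))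
theorem Q35718 : ∀ i, i < 35718 → P i := stepQ 35717 Q35717 (allL N35717 (tt N18099 F170418) (tt N18101 F170419) (tt N18098 F93147) (tt N65758 (iv3 F202353)) (tt N27292 F324004) (tt N65761 (iv5 F202359)) (tt N27291 (iv6 F325278)) (tt N18097 (iv7 D58938)))
theorem Q35719 : ∀ i, i < 35719 → P i := stepQ 35718 Q35718 (allL N35718 (tt N59595 F202282) (tt N59598 (iv0 F387406)) (tt N65763 D125864) (tt N18098 (iv3 D58939)) (tt N58715 (iv4 F170465)) (tt N65764 D125865) (tt N46542 (iv6 F326462)) (tt N59946 (iv7 F174931)))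
theorem Q35720 : ∀ i, i < 35720 → P i := stepQ 35719 Q35719 (allL N35719 (tt N58831 F170989) (tt N65759 F202357) (tt N65761 (iv2 F202358)) (tt N65764 (iv3 F202362)) (tt N65765 D125867) (tt N18098 (iv5 D58940)) (tt N65766 D125868) (tt N59947 (iv7 F174933)))
theorem Q35721 : ∀ i, i < 35721 → P i := stepQ 35720 Q35720 (allL N35720 (tt N65767 D125873) (tt N65768 D125874) (tt N18100 F93149) (tt N65536 (iv3 F201977)) (tt N65769 D125875) (tt N18099 (iv5 D58943)) (tt N65770 D125876) (tt N65752 (iv7 F202345)))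
theorem Q35722 : ∀ i, i < 35722 → P i := stepQ 35721 Q35721 (allL N35721 (tt N65752 (iv1 F202347)) (tt N18100 (iv0 D58944)) (tt N65767 F202366) (tt N65771 D125877) (tt N65772 D125878) (tt N45824 F325719) (tt N65773 D125879) (tt N65768 (iv7 F202369)))
theorem Q35723 : ∀ i, i < 35723 → P i := stepQ 35722 Q35722 (allL N35722 (tt N18100 (iv1 D58945)) (tt N65752 (iv0 F202346)) (tt N65768 F202371) (tt N65774 D125880) (tt N65775 D125881) (tt N58475 F170864) (tt N65776 D125882) (tt N65767 F202367))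
theorem Q35724 : ∀ i, i < 35724 → P i := stepQ 35723 Q35723 (allL N35723 (tt N65777 D125883) (tt N65778 D125884) (tt N65769 (iv2 F202372)) (tt N65779 D125885) (tt N18100 (iv4 D58946)) (tt N65780 D125886) (tt N65781 D125887) (tt N65782 D125888))
theorem Q35725 : ∀ i, i < 35725 → P i := stepQ 35724 Q35724 (allL N35724 (tt N65783 D125889) (tt N65784 D125890) (tt N65770 (iv2 F202374)) (tt N18105 F93150) (tt N65781 (iv4 F202380)) (tt N35861 (iv5 F93395)) (tt N18100 (iv6 D58947)) (tt N65785 D125891))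
theorem Q35726 : ∀ i, i < 35726 → P i := stepQ 35725 Q35725 (allL N35725 (tt N65768 (iv1 F202368)) (tt N65767 F202365) (tt N65752 (iv2 F202344)) (tt N18106 F93151) (tt N65782 (iv4 F202382)) (tt N18101 F93152) (tt N65786 D125892) (tt N18100 (iv7 D58948)))
theorem Q35727 : ∀ i, i < 35727 → P i := stepQ 35726 Q35726 (allL N35726 (tt N65787 D125893) (tt N65788 D125894) (tt N65753 (iv2 F202348)) (tt N18107 F93153) (tt N18146 F93154) (tt N65789 D125895) (tt N18101 (iv6 D58949)) (tt N35799 (iv7 F93276)))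
theorem Q35728 : ∀ i, i < 35728 → P i := stepQ 35727 Q35727 (allL N35727 (tt N65719 (iv1 F416842)) (tt N65723 (iv0 F416579)) (tt N65790 D125898) (tt N18102 (iv3 D58950)) (tt N65791 D125899) (tt N35599 F93155) (tt N65792 D125900) (tt N60409 (iv7 F176367)))
theorem Q35729 : ∀ i, i < 35729 → P i := stepQ 35728 Q35728 (allL N35728 (tt N65793 D125901) (tt N65794 D125902) (tt N57957 (iv2 F168636)) (tt N65792 (iv3 F202389)) (tt N35648 F93156) (tt N65795 D125903) (tt N18102 (iv6 D58951)) (tt N65796 D125904))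
theorem Q35730 : ∀ i, i < 35730 → P i := stepQ 35729 Q35729 (allL N35729 (tt N65737 (iv1 F355943)) (tt N65739 (iv0 F355982)) (tt N65776 (iv2 F356040)) (tt N18103 (iv3 D58952)) (tt N65590 (iv4 F355945)) (tt N35639 F93157) (tt N65768 (iv6 F356043)) (tt N57955 (iv7 F168633)))
theorem Q35731 : ∀ i, i < 35731 → P i := stepQ 35730 Q35730 (allL N35730 (tt N65797 D125909) (tt N65798 D125910) (tt N60411 (iv2 F176369)) (tt N65768 (iv3 F356042)) (tt N35621 F93158) (tt N65799 D125911) (tt N18103 (iv6 D58953)) (tt N65771 (iv7 F356046)))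
theorem Q35732 : ∀ i, i < 35732 → P i := stepQ 35731 Q35731 (allL N35731 (tt N65800 D125913) (tt N65801 D125914) (tt N65802 D125915) (tt N18104 (iv3 D58954)) (tt N65779 (iv4 F202376)) (tt N35590 F93159) (tt N65803 D125916) (tt N35589 F93160))
theorem Q35733 : ∀ i, i < 35733 → P i := stepQ 35732 Q35732 (allL N35732 (tt N65804 D125917) (tt N65805 D125918) (tt N35736 (iv2 F93162)) (tt N65803 (iv3 F202403)) (tt N18105 F93161) (tt N65806 D125919) (tt N18104 (iv6 D58955)) (tt N65807 D125920))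
theorem Q35734 : ∀ i, i < 35734 → P i := stepQ 35733 Q35733 (allL N35733 (tt N65543 (iv1 F201988)) (tt N18105 (iv0 D58956)) (tt N65541 (iv2 F399526)) (tt N65808 D125922) (tt N65540 (iv4 F398108)) (tt N65809 D125924) (tt N65539 (iv6 F398107)) (tt N65542 (iv7 F399525)))
theorem Q35735 : ∀ i, i < 35735 → P i := stepQ 35734 Q35734 (allL N35734 (tt N18105 (iv1 D58957)) (tt N65543 F201987) (tt N65542 (iv2 F399523)) (tt N65810 D125927) (tt N65811 D125928) (tt N65812 D125929) (tt N65813 D125930) (tt N65541 (iv7 F399527)))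
theorem Q35736 : ∀ i, i < 35736 → P i := stepQ 35735 Q35735 (allL N35735 (tt N65542 (iv1 F201983)) (tt N65541 F201986) (tt N65543 (iv2 F201984)) (tt N65785 (iv3 F202383)) (tt N65807 (iv4 F202405)) (tt N35868 (iv5 F93404)) (tt N65814 D125931) (tt N18105 (iv7 D58958)))
theorem Q35737 : ∀ i, i < 35737 → P i := stepQ 35736 Q35736 (allL N35736 (tt N65815 D125932) (tt N65816 D125933) (tt N35732 F93162) (tt N65786 (iv3 F202384)) (tt N35591 F93163) (tt N65817 D125934) (tt N18106 (iv6 D58959)) (tt N65814 (iv7 F202411)))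
theorem Q35738 : ∀ i, i < 35738 → P i := stepQ 35737 Q35737 (allL N35737 (tt N65818 D125935) (tt N65819 D125936) (tt N36746 F343576) (tt N65789 (iv3 F202386)) (tt N65820 D125937) (tt N18107 (iv5 D58962)) (tt N65817 (iv6 F202417)) (tt N35871 (iv7 F93408)))
theorem Q35739 : ∀ i, i < 35739 → P i := stepQ 35738 Q35738 (allL N35738 (tt N31316 F166186) (tt N33254 F166187) (tt N40044 F166444) (tt N18108 (iv3 D58964)) (tt N31003 F93168) (tt N65821 D125938) (tt N65822 D125939) (tt N35872 F166442))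
theorem Q35740 : ∀ i, i < 35740 → P i := stepQ 35739 Q35739 (allL N35739 (tt N29512 F161314) (tt N32272 F161315) (tt N32389 (iv2 F166435)) (tt N65823 D125940) (tt N18108 (iv4 D58965)) (tt N65824 D125941) (tt N65825 D125942) (tt N32388 F166436))
theorem Q35741 : ∀ i, i < 35741 → P i := stepQ 35740 Q35740 (allL N35740 (tt N55696 F161424) (tt N32033 (iv0 F164063)) (tt N35876 (iv2 F166429)) (tt N65821 (iv3 F202422)) (tt N65826 D125943) (tt N18108 (iv5 D58966)) (tt N21035 F93169) (tt N35873 F166430))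
theorem Q35742 : ∀ i, i < 35742 → P i := stepQ 35741 Q35741 (allL N35741 (tt N57182 F165737) (tt N35833 (iv0 F93341)) (tt N35877 F166419) (tt N65822 (iv3 F202426)) (tt N65825 (iv4 F202435)) (tt N31461 F93171) (tt N18108 (iv6 D58967)) (tt N57414 (iv7 F166504)))
theorem Q35743 : ∀ i, i < 35743 → P i := stepQ 35742 Q35742 (allL N35742 (tt N40317 F166191) (tt N31245 F166192) (tt N59965 (iv2 F174996)) (tt N18109 (iv3 D58969)) (tt N59682 (iv4 F173487)) (tt N65827 D125944) (tt N65828 D125945) (tt N35875 (iv7 F166424)))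
theorem Q35744 : ∀ i, i < 35744 → P i := stepQ 35743 Q35743 (allL N35743 (tt N32272 F161342) (tt N29512 F161343) (tt N32388 F166434) (tt N65829 D125946) (tt N18109 (iv4 D58970)) (tt N65830 D125947) (tt N65831 D125948) (tt N32389 (iv7 F166425)))
theorem Q35745 : ∀ i, i < 35745 → P i := stepQ 35744 Q35744 (allL N35744 (tt N32033 (iv1 F164064)) (tt N55696 (iv0 F161423)) (tt N35873 F166428) (tt N65827 (iv3 F202439)) (tt N65832 D125949) (tt N18109 (iv5 D58971)) (tt N35606 F93174) (tt N35876 (iv7 F166426)))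
theorem Q35746 : ∀ i, i < 35746 → P i := stepQ 35745 Q35745 (allL N35745 (tt N35824 F103480) (tt N62635 (iv0 F182898)) (tt N35874 (iv2 F166437)) (tt N65828 (iv3 F202441)) (tt N65831 (iv4 F202447)) (tt N30651 F93175) (tt N18109 (iv6 D58972)) (tt N60134 (iv7 F175765)))
theorem Q35747 : ∀ i, i < 35747 → P i := stepQ 35746 Q35746 (allL N35746 (tt N48356 (iv1 F323159)) (tt N48355 (iv0 F323158)) (tt N48358 F321902) (tt N18110 (iv3 D58973)) (tt N32242 F93176) (tt N58647 (iv5 F169908)) (tt N64107 (iv6 F323599)) (tt N35895 (iv7 F93466)))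
theorem Q35748 : ∀ i, i < 35748 → P i := stepQ 35747 Q35747 (allL N35747 (tt N23708 (iv1 F325660)) (tt N23707 (iv0 F325661)) (tt N18115 F93177) (tt N64107 F324566) (tt N18111 F93178) (tt N65833 D125954) (tt N18110 (iv6 D58974)) (tt N23709 (iv7 F325128)))
theorem Q35749 : ∀ i, i < 35749 → P i := stepQ 35748 Q35748 (allL N35748 (tt N18118 (iv1 F93182)) (tt N18111 (iv0 D58975)) (tt N18116 (iv2 F202480)) (tt N35816 F168013) (tt N65834 D125957) (tt N65835 D125958) (tt N18129 F93427) (tt N18117 F202479))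
theorem Q35750 : ∀ i, i < 35750 → P i := stepQ 35749 Q35749 (allL N35749 (tt N18111 (iv1 D58976)) (tt N18118 F93179) (tt N18117 F202483) (tt N58595 F169725) (tt N65836 D125959) (tt N57633 (iv5 F167256)) (tt N60109 (iv6 F175580)) (tt N18116 F202484))
theorem Q35751 : ∀ i, i < 35751 → P i := stepQ 35750 Q35750 (allL N35750 (tt N18117 (iv1 F93183)) (tt N18116 F93184) (tt N18118 F93180) (tt N35880 (iv3 F93421)) (tt N23709 (iv4 F325127)) (tt N21058 F93181) (tt N23625 (iv6 F325133)) (tt N18111 (iv7 D58977)))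
theorem Q35752 : ∀ i, i < 35752 → P i := stepQ 35751 Q35751 (allL N35751 (tt N48379 F351030) (tt N65837 D125961) (tt N65838 D125962) (tt N18112 (iv3 D58978)) (tt N32269 F93185) (tt N59998 (iv5 F175177)) (tt N65839 D125963) (tt N32228 F93186))
theorem Q35753 : ∀ i, i < 35753 → P i := stepQ 35752 Q35752 (allL N35752 (tt N59970 F175022) (tt N35913 (iv0 F161243)) (tt N35896 (iv2 F93478)) (tt N65839 (iv3 F202637)) (tt N31784 F93187) (tt N47948 F333673) (tt N18112 (iv6 D58979)) (tt N32252 F93188))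
theorem Q35754 : ∀ i, i < 35754 → P i := stepQ 35753 Q35753 (allL N35753 (tt N65840 D125965) (tt N65841 D125966) (tt N21315 (iv2 F93193)) (tt N18113 (iv3 D58980)) (tt N22586 F93189) (tt N21299 F93190) (tt N32227 F93191) (tt N21297 F93192))
theorem Q35755 : ∀ i, i < 35755 → P i := stepQ 35754 Q35754 (allL N35754 (tt N65842 D125967) (tt N65843 D125968) (tt N58648 (iv2 F169909)) (tt N59940 (iv3 F174807)) (tt N58627 (iv4 F169856)) (tt N65844 D125969) (tt N18114 (iv6 D58981)) (tt N65845 D125970))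
theorem Q35756 : ∀ i, i < 35756 → P i := stepQ 35755 Q35755 (allL N35755 (tt N23709 (iv1 F325126)) (tt N18115 (iv0 D58982)) (tt N23708 F326488) (tt N65846 D125971) (tt N59338 F172662) (tt N65847 D125972) (tt N64058 (iv6 F322462)) (tt N23707 F326489))
theorem Q35757 : ∀ i, i < 35757 → P i := stepQ 35756 Q35756 (allL N35756 (tt N18115 (iv1 D58983)) (tt N23709 (iv0 F325125)) (tt N23707 F326492) (tt N65848 D125974) (tt N59339 (iv4 F172665)) (tt N65345 (iv5 F350818)) (tt N65849 D125976) (tt N23708 F326493))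
theorem Q35758 : ∀ i, i < 35758 → P i := stepQ 35757 Q35757 (allL N35757 (tt N58796 F170765) (tt N65850 D125977) (tt N65833 (iv2 F202459)) (tt N23715 F324567) (tt N65851 D125978) (tt N18115 (iv5 D58984)) (tt N65844 (iv6 F202649)) (tt N23710 (iv7 F325670)))
theorem Q35759 : ∀ i, i < 35759 → P i := stepQ 35758 Q35758 (allL N35758 (tt N57236 F202620) (tt N59588 F173177) (tt N58591 (iv2 F202525)) (tt N18116 (iv3 D58987)) (tt N58560 F169690) (tt N65852 D125980) (tt N35830 (iv6 F170707)) (tt N58595 (iv7 F202528)))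
theorem Q35760 : ∀ i, i < 35760 → P i := stepQ 35759 Q35759 (allL N35759 (tt N65853 D125981) (tt N55638 F202619) (tt N65834 (iv2 F202615)) (tt N65854 D125982) (tt N18116 (iv4 D58988)) (tt N65855 D125983) (tt N58191 (iv6 F168981)) (tt N65836 (iv7 F202626)))
theorem Q35761 : ∀ i, i < 35761 → P i := stepQ 35760 Q35760 (allL N35760 (tt N60084 F175514) (tt N41584 (iv0 F166178)) (tt N65835 (iv2 F202621)) (tt N65852 (iv3 F202659)) (tt N65856 D125984) (tt N18116 (iv5 D58989)) (tt N37934 (iv6 F96962)) (tt N57633 F202558))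
theorem Q35762 : ∀ i, i < 35762 → P i := stepQ 35761 Q35761 (allL N35761 (tt N18124 F93694) (tt N18130 F93695) (tt N18129 F202481) (tt N35830 (iv3 F170705)) (tt N58191 F168980) (tt N35976 F93696) (tt N18116 (iv6 D58990)) (tt N18128 F202482))
theorem Q35763 : ∀ i, i < 35763 → P i := stepQ 35762 Q35762 (allL N35762 (tt N30964 (iv1 F167071)) (tt N35819 (iv0 F167070)) (tt N35817 F202523) (tt N18117 (iv3 D58992)) (tt N57899 (iv4 F168515)) (tt N65857 D125985) (tt N65858 D125986) (tt N35816 (iv7 F202522)))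
theorem Q35764 : ∀ i, i < 35764 → P i := stepQ 35763 Q35763 (allL N35763 (tt N55638 F167069) (tt N65853 F202661) (tt N65836 (iv2 F202625)) (tt N35281 (iv3 F326937)) (tt N18117 (iv4 D58993)) (tt N65859 D125988) (tt N65860 D125989) (tt N65834 (iv7 F202617)))
theorem Q35765 : ∀ i, i < 35765 → P i := stepQ 35764 Q35764 (allL N35764 (tt N41584 F170642) (tt N60084 (iv0 F175513)) (tt N57633 (iv2 F202559)) (tt N65857 (iv3 F202664)) (tt N65861 D125990) (tt N18117 (iv5 D58994)) (tt N29679 F93197) (tt N65835 (iv7 F202622)))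
theorem Q35766 : ∀ i, i < 35766 → P i := stepQ 35765 Q35765 (allL N35765 (tt N57418 F166518) (tt N59971 F175028) (tt N60109 (iv2 F202470)) (tt N65858 (iv3 F202666)) (tt N65860 (iv4 F202668)) (tt N55886 (iv5 F162041)) (tt N18117 (iv6 D58995)) (tt N60111 (iv7 F202476)))
theorem Q35767 : ∀ i, i < 35767 → P i := stepQ 35766 Q35766 (allL N35766 (tt N36201 F168063) (tt N57667 F168064) (tt N35821 F168065) (tt N18120 F93198) (tt N65862 D125991) (tt N18119 (iv5 D59000)) (tt N37957 (iv6 F97027)) (tt N35823 (iv7 F168080)))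
theorem Q35768 : ∀ i, i < 35768 → P i := stepQ 35767 Q35767 (allL N35767 (tt N33367 F93199) (tt N39959 F100926) (tt N35894 (iv2 F93445)) (tt N65863 D125992) (tt N18120 (iv4 D59001)) (tt N48107 (iv5 F313713)) (tt N37960 (iv6 F97034)) (tt N33461 (iv7 F94155)))
theorem Q35769 : ∀ i, i < 35769 → P i := stepQ 35768 Q35768 (allL N35768 (tt N65864 D125993) (tt N65865 D125994) (tt N48354 F324587) (tt N18123 (iv3 D59009)) (tt N35895 (iv4 F93465)) (tt N65866 D125995) (tt N48351 (iv6 F325140)) (tt N32242 F93206))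
theorem Q35770 : ∀ i, i < 35770 → P i := stepQ 35769 Q35769 (allL N35769 (tt N32078 F93210) (tt N32075 F93211) (tt N18126 F93207) (tt N65866 (iv3 F202674)) (tt N30268 F93208) (tt N18123 (iv5 D59010)) (tt N65867 D125997) (tt N32243 F93209))
theorem Q35771 : ∀ i, i < 35771 → P i := stepQ 35770 Q35770 (allL N35770 (tt N59925 F174616) (tt N64058 F323878) (tt N18127 F93212) (tt N48351 (iv3 F325139)) (tt N18124 F93213) (tt N65868 D125998) (tt N18123 (iv6 D59011)) (tt N64059 F323879))
theorem Q35772 : ∀ i, i < 35772 → P i := stepQ 35771 Q35771 (allL N35771 (tt N18130 (iv1 F93216)) (tt N18124 (iv0 D59012)) (tt N18128 F202472) (tt N59615 F173228) (tt N58190 (iv4 F202597)) (tt N35975 (iv5 F93690)) (tt N60111 (iv6 F175586)) (tt N18129 F202473))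
theorem Q35773 : ∀ i, i < 35773 → P i := stepQ 35772 Q35772 (allL N35772 (tt N18129 (iv1 F93217)) (tt N18128 F93218) (tt N18130 F93215) (tt N23625 (iv3 F325131)) (tt N64059 F323874) (tt N37801 (iv5 F96614)) (tt N35880 (iv6 F93423)) (tt N18124 (iv7 D59014)))
theorem Q35774 : ∀ i, i < 35774 → P i := stepQ 35773 Q35773 (allL N35773 (tt N65869 D126000) (tt N65870 D126001) (tt N65871 D126002) (tt N18125 (iv3 D59015)) (tt N31012 F93219) (tt N33197 F93220) (tt N65872 D126003) (tt N32227 F93221))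
theorem Q35775 : ∀ i, i < 35775 → P i := stepQ 35774 Q35774 (allL N35774 (tt N35913 (iv1 F161245)) (tt N59970 (iv0 F175021)) (tt N32252 F93222) (tt N65872 (iv3 F202695)) (tt N30868 F93223) (tt N47949 F333678) (tt N18125 (iv6 D59016)) (tt N35896 (iv7 F93480)))
theorem Q35776 : ∀ i, i < 35776 → P i := stepQ 35775 Q35775 (allL N35775 (tt N65873 D126005) (tt N65874 D126006) (tt N65867 (iv2 F202677)) (tt N33413 (iv3 F325379)) (tt N33132 F93224) (tt N37908 F324974) (tt N18126 (iv6 D59017)) (tt N36151 (iv7 F325969)))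
theorem Q35777 : ∀ i, i < 35777 → P i := stepQ 35776 Q35776 (allL N35776 (tt N64059 F323881) (tt N18127 (iv0 D59018)) (tt N59925 (iv2 F174613)) (tt N65875 D126009) (tt N30938 (iv4 F168163)) (tt N60005 (iv5 F175191)) (tt N65876 D126010) (tt N64058 (iv7 F322463)))
theorem Q35778 : ∀ i, i < 35778 → P i := stepQ 35777 Q35777 (allL N35777 (tt N18127 (iv1 D59019)) (tt N64059 F323880) (tt N64058 (iv2 F322460)) (tt N65877 D126011) (tt N30939 (iv4 F168169)) (tt N60006 F175192) (tt N23708 F326491) (tt N59925 (iv7 F174614)))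
theorem Q35779 : ∀ i, i < 35779 → P i := stepQ 35778 Q35778 (allL N35778 (tt N65878 D126012) (tt N64263 (iv0 F327233)) (tt N65868 (iv2 F202679)) (tt N18765 (iv3 F324945)) (tt N65879 D126014) (tt N18127 (iv5 D59020)) (tt N37908 (iv6 F323636)) (tt N18761 F323623))
theorem Q35780 : ∀ i, i < 35780 → P i := stepQ 35779 Q35779 (allL N35779 (tt N35831 F179349) (tt N35826 (iv0 F168984)) (tt N35829 (iv2 F202493)) (tt N18128 (iv3 D59023)) (tt N58628 F169867) (tt N37975 (iv5 F97075)) (tt N65880 D126016) (tt N35830 (iv7 F202489)))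
theorem Q35781 : ∀ i, i < 35781 → P i := stepQ 35780 Q35780 (allL N35780 (tt N58193 F168983) (tt N57292 (iv0 F179350)) (tt N58190 F202596) (tt N65881 D126017) (tt N18128 (iv4 D59024)) (tt N65882 D126018) (tt N65883 D126019) (tt N58191 F202594))
theorem Q35782 : ∀ i, i < 35782 → P i := stepQ 35781 Q35781 (allL N35781 (tt N59971 F175027) (tt N57418 (iv0 F166517)) (tt N60111 F202471) (tt N65880 (iv3 F202713)) (tt N65883 (iv4 F202715)) (tt N55887 F162045) (tt N18128 (iv6 D59026)) (tt N60109 F202467))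
theorem Q35783 : ∀ i, i < 35783 → P i := stepQ 35782 Q35782 (allL N35782 (tt N38397 F168010) (tt N59617 F173238) (tt N59616 F202503) (tt N18129 (iv3 D59028)) (tt N31725 (iv4 F172739)) (tt N37978 (iv5 F97078)) (tt N35816 (iv6 F168012)) (tt N59615 F202501))
theorem Q35784 : ∀ i, i < 35784 → P i := stepQ 35783 Q35783 (allL N35783 (tt N57292 (iv1 F172748)) (tt N58193 (iv0 F172746)) (tt N58191 (iv2 F202595)) (tt N65884 D126020) (tt N18129 (iv4 D59029)) (tt N65885 D126021) (tt N65834 (iv6 F202616)) (tt N58190 (iv7 F202598)))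
theorem Q35785 : ∀ i, i < 35785 → P i := stepQ 35784 Q35784 (allL N35784 (tt N35801 (iv1 F93278)) (tt N35800 F93277) (tt N18146 F93230) (tt N35796 (iv3 F93268)) (tt N65753 (iv4 F202349)) (tt N35796 (iv5 F93269)) (tt N18133 (iv6 D59041)) (tt N35796 (iv7 F93270)))
theorem Q35786 : ∀ i, i < 35786 → P i := stepQ 35785 Q35785 (allL N35785 (tt N65704 (iv1 F202285)) (tt N58672 (iv0 F170141)) (tt N18136 F93234) (tt N32265 F169959) (tt N18134 (iv4 D59045)) (tt N65886 D126023) (tt N24971 (iv6 F322496)) (tt N18140 F93235))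
theorem Q35787 : ∀ i, i < 35787 → P i := stepQ 35786 Q35786 (allL N35786 (tt N18140 (iv1 F93247)) (tt N18136 (iv0 D59054)) (tt N65704 F202283) (tt N65887 D126035) (tt N31955 F93242) (tt N65888 D126036) (tt N65889 D126037) (tt N58672 (iv7 F170139)))
theorem Q35788 : ∀ i, i < 35788 → P i := stepQ 35787 Q35787 (allL N35787 (tt N18136 (iv1 D59055)) (tt N18140 F93243) (tt N58672 (iv2 F170138)) (tt N65515 F201922) (tt N31962 (iv4 F169775)) (tt N65781 (iv5 F360438)) (tt N35905 (iv6 F326413)) (tt N65704 (iv7 F202281)))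
theorem Q35789 : ∀ i, i < 35789 → P i := stepQ 35788 Q35788 (allL N35788 (tt N65659 F202204) (tt N65890 D126040) (tt N65891 D126041) (tt N18136 (iv3 D59056)) (tt N58290 (iv4 F169974)) (tt N65892 D126042) (tt N65893 D126043) (tt N58304 F169986))
theorem Q35790 : ∀ i, i < 35790 → P i := stepQ 35789 Q35789 (allL N35789 (tt N65894 D126044) (tt N65728 (iv0 F349540)) (tt N65886 (iv2 F202718)) (tt N65892 (iv3 F202746)) (tt N65895 D126046) (tt N18136 (iv5 D59057)) (tt N65896 D126047) (tt N65897 D126048))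
theorem Q35791 : ∀ i, i < 35791 → P i := stepQ 35790 Q35790 (allL N35790 (tt N24034 (iv1 F325209)) (tt N24968 (iv0 F325210)) (tt N24971 F323929) (tt N65893 (iv3 F202747)) (tt N18138 F93244) (tt N65898 D126051) (tt N18136 (iv6 D59058)) (tt N24925 (iv7 F325217)))
theorem Q35792 : ∀ i, i < 35792 → P i := stepQ 35791 Q35791 (allL N35791 (tt N58672 (iv1 F170140)) (tt N65704 F202284) (tt N18140 F93245) (tt N58304 F169964) (tt N18139 F93246) (tt N65897 (iv5 F202754)) (tt N27636 (iv6 F324551)) (tt N18136 (iv7 D59059)))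
theorem Q35793 : ∀ i, i < 35793 → P i := stepQ 35792 Q35792 (allL N35792 (tt N46245 F323912) (tt N55595 (iv0 F324450)) (tt N55597 (iv2 F322533)) (tt N65899 D126054) (tt N18137 (iv4 D59062)) (tt N65900 D126055) (tt N64927 (iv6 F325188)) (tt N52296 (iv7 F324456)))
theorem Q35794 : ∀ i, i < 35794 → P i := stepQ 35793 Q35793 (allL N35793 (tt N32267 (iv1 F93258)) (tt N32269 (iv0 F93257)) (tt N32266 F176406) (tt N18140 (iv3 D59076)) (tt N35532 F319469) (tt N65901 D126085) (tt N35527 (iv6 F321454)) (tt N32265 (iv7 F169992)))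
theorem Q35795 : ∀ i, i < 35795 → P i := stepQ 35794 Q35794 (allL N35794 (tt N65728 (iv1 F349541)) (tt N65894 F202749) (tt N65897 (iv2 F202753)) (tt N65901 (iv3 F202788)) (tt N65902 D126087) (tt N18140 (iv5 D59077)) (tt N65903 D126088) (tt N65886 (iv7 F202720)))
theorem Q35796 : ∀ i, i < 35796 → P i := stepQ 35795 Q35795 (allL N35795 (tt N18176 F93265) (tt N18175 F93266) (tt N18144 F93263) (tt N56218 (iv3 F163212)) (tt N18141 (iv4 D59094)) (tt N56270 (iv5 F163296)) (tt N65904 D126113) (tt N18177 F93264))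
theorem Q35797 : ∀ i, i < 35797 → P i := stepQ 35796 Q35796 (allL N35796 (tt N25281 F324006) (tt N35802 F93279) (tt N18145 F93267) (tt N35784 F93268) (tt N65904 (iv4 F202800)) (tt N35784 F93269) (tt N18141 (iv6 D59095)) (tt N35784 F93270))
theorem Q35798 : ∀ i, i < 35798 → P i := stepQ 35797 Q35797 (allL N35797 (tt N59938 (iv1 F174755)) (tt N60603 F176634) (tt N18208 F173284) (tt N59627 (iv3 F173417)) (tt N18142 (iv4 D59097)) (tt N65905 D126114) (tt N23757 (iv6 F325590)) (tt N18204 F173285))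
theorem Q35799 : ∀ i, i < 35799 → P i := stepQ 35798 Q35798 (allL N35798 (tt N18177 (iv1 F93273)) (tt N18144 (iv0 D59104)) (tt N18176 F170130) (tt N59151 (iv3 F341782)) (tt N24026 F323932) (tt N59150 (iv5 F349569)) (tt N24025 (iv6 F325220)) (tt N18175 F170131))
theorem Q35800 : ∀ i, i < 35800 → P i := stepQ 35799 Q35799 (allL N35799 (tt N65906 D126128) (tt N65907 D126129) (tt N65904 (iv2 F202799)) (tt N18182 F93274) (tt N18145 F93275) (tt N65908 D126130) (tt N18144 (iv6 D59105)) (tt N35726 F93276))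
theorem Q35801 : ∀ i, i < 35801 → P i := stepQ 35800 Q35800 (allL N35800 (tt N35784 (iv1 F93277)) (tt N18145 (iv0 D59106)) (tt N25281 (iv2 F325648)) (tt N64161 (iv3 F325650)) (tt N65909 D126133) (tt N44627 (iv5 F325654)) (tt N24239 (iv6 F325655)) (tt N35802 (iv7 F326200)))
theorem Q35802 : ∀ i, i < 35802 → P i := stepQ 35801 Q35801 (allL N35801 (tt N18145 (iv1 D59107)) (tt N35784 F93278) (tt N35802 (iv2 F326199)) (tt N23826 (iv3 F325643)) (tt N65910 D126138) (tt N23825 (iv5 F325646)) (tt N25038 (iv6 F325647)) (tt N25281 (iv7 F325649)))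
theorem Q35803 : ∀ i, i < 35803 → P i := stepQ 35802 Q35802 (allL N35802 (tt N35796 (iv1 F93279)) (tt N18146 (iv0 D59108)) (tt N35801 F326199) (tt N35214 (iv3 F325282)) (tt N65911 D126143) (tt N45990 (iv5 F325283)) (tt N35212 (iv6 F325284)) (tt N35800 F326200))
theorem Q35804 : ∀ i, i < 35804 → P i := stepQ 35803 Q35803 (allL N35803 (tt N32252 (iv1 F161318)) (tt N35896 (iv0 F161316)) (tt N59970 (iv2 F175019)) (tt N45860 F324769) (tt N18147 (iv4 D59113)) (tt N48515 (iv5 F324937)) (tt N46199 (iv6 F325849)) (tt N35913 (iv7 F93539)))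
theorem Q35805 : ∀ i, i < 35805 → P i := stepQ 35804 Q35804 (allL N35804 (tt N58767 (iv1 F170640)) (tt N32024 (iv0 F166183)) (tt N58782 (iv2 F170736)) (tt N18148 F93281) (tt N64137 (iv4 F319906)) (tt N18147 (iv5 D59114)) (tt N21066 (iv6 F93282)) (tt N35914 (iv7 F93541)))
theorem Q35806 : ∀ i, i < 35806 → P i := stepQ 35805 Q35805 (allL N35805 (tt N60109 F175582) (tt N60111 (iv0 F175585)) (tt N59971 (iv2 F175023)) (tt N18149 F93283) (tt N46199 F326046) (tt N30608 (iv5 F166173)) (tt N18147 (iv6 D59115)) (tt N57418 (iv7 F166516)))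
theorem Q35807 : ∀ i, i < 35807 → P i := stepQ 35806 Q35806 (allL N35806 (tt N30252 (iv1 F93286)) (tt N18150 (iv0 D59116)) (tt N30251 F182499) (tt N21046 F93285) (tt N65912 D126154) (tt N30222 F166899) (tt N65913 D126155) (tt N30250 F182500))
theorem Q35808 : ∀ i, i < 35808 → P i := stepQ 35807 Q35807 (allL N35807 (tt N18150 (iv1 D59117)) (tt N30252 F93290) (tt N30250 F182522) (tt N65914 D126156) (tt N65915 D126157) (tt N30223 F182523) (tt N65916 D126158) (tt N30251 F182524))
theorem Q35809 : ∀ i, i < 35809 → P i := stepQ 35808 Q35808 (allL N35808 (tt N30251 (iv1 F93291)) (tt N30250 F93289) (tt N18150 (iv2 D59118)) (tt N30224 F93287) (tt N58397 (iv4 F169279)) (tt N56381 (iv5 F163674)) (tt N65917 D126159) (tt N30252 F93288))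
theorem Q35810 : ∀ i, i < 35810 → P i := stepQ 35809 Q35809 (allL N35809 (tt N22275 (iv1 F326607)) (tt N65918 D126161) (tt N65917 (iv2 F202858)) (tt N18151 F93292) (tt N58398 (iv4 F169284)) (tt N65919 D126162) (tt N18150 (iv6 D59119)) (tt N65920 D126163))
theorem Q35811 : ∀ i, i < 35811 → P i := stepQ 35810 Q35810 (allL N35810 (tt N65921 D126164) (tt N65922 D126165) (tt N30228 F93294) (tt N65919 (iv3 F202860)) (tt N50344 (iv4 F335535)) (tt N18151 (iv5 D59122)) (tt N56385 (iv6 F163684)) (tt N65923 D126167))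
theorem Q35812 : ∀ i, i < 35812 → P i := stepQ 35811 Q35811 (allL N35811 (tt N30227 (iv1 F93299)) (tt N30226 F93300) (tt N30229 F93295) (tt N65920 (iv3 F202861)) (tt N18154 F93296) (tt N65923 (iv5 F202873)) (tt N30255 F93297) (tt N18151 (iv7 D59123)))
theorem Q35813 : ∀ i, i < 35813 → P i := stepQ 35812 Q35812 (allL N35812 (tt N19866 F93302) (tt N39391 F100081) (tt N30231 (iv2 F111279)) (tt N20308 F111178) (tt N20824 F111179) (tt N18152 (iv5 D59127)) (tt N65924 D126168) (tt N20340 F111180))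
theorem Q35814 : ∀ i, i < 35814 → P i := stepQ 35813 Q35813 (allL N35813 (tt N30171 F100082) (tt N29931 (iv0 F93304)) (tt N30169 F111337) (tt N22663 (iv3 F111338)) (tt N59061 (iv4 F171942)) (tt N32121 F93303) (tt N18152 (iv6 D59128)) (tt N30170 (iv7 F111336)))
theorem Q35815 : ∀ i, i < 35815 → P i := stepQ 35814 Q35814 (allL N35814 (tt N39391 (iv1 F100083)) (tt N19866 (iv0 F93306)) (tt N20340 F111186) (tt N31027 (iv3 F111293)) (tt N20823 F111187) (tt N18153 (iv5 D59132)) (tt N32120 (iv6 F93307)) (tt N30231 (iv7 F111280)))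
theorem Q35816 : ∀ i, i < 35816 → P i := stepQ 35815 Q35815 (allL N35815 (tt N56395 F163702) (tt N56397 F164851) (tt N30233 F111377) (tt N39382 (iv3 F111294)) (tt N59106 (iv4 F172034)) (tt N57164 (iv5 F165675)) (tt N18153 (iv6 D59133)) (tt N57164 (iv7 F165678)))
theorem Q35817 : ∀ i, i < 35817 → P i := stepQ 35816 Q35816 (allL N35816 (tt N58253 F169063) (tt N18158 (iv0 D59134)) (tt N58252 F202524) (tt N35748 (iv3 F168013)) (tt N30924 (iv4 F168014)) (tt N65925 D126169) (tt N35782 F168012) (tt N35762 F202522))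
theorem Q35818 : ∀ i, i < 35818 → P i := stepQ 35817 Q35817 (allL N35817 (tt N18158 (iv1 D59135)) (tt N58253 F169062) (tt N35762 (iv2 F202523)) (tt N65926 D126170) (tt N30925 F168959) (tt N65927 D126171) (tt N65928 D126172) (tt N58252 F202519))
theorem Q35819 : ∀ i, i < 35819 → P i := stepQ 35818 Q35818 (allL N35818 (tt N29640 F93311) (tt N30888 F93312) (tt N30886 F93308) (tt N18161 F93309) (tt N20467 F93314) (tt N18158 (iv5 D59136)) (tt N19668 F93310) (tt N30885 (iv7 F101681)))
theorem Q35820 : ∀ i, i < 35820 → P i := stepQ 35819 Q35819 (allL N35819 (tt N35762 F167070) (tt N58252 F169061) (tt N58253 (iv2 F169058)) (tt N18162 F93316) (tt N57923 (iv4 F168583)) (tt N30885 (iv5 F101680)) (tt N56217 (iv6 F163206)) (tt N18158 (iv7 D59137)))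
theorem Q35821 : ∀ i, i < 35821 → P i := stepQ 35820 Q35820 (allL N35820 (tt N32319 F163191) (tt N18171 F163192) (tt N32316 (iv2 F165829)) (tt N65929 D126173) (tt N18159 (iv4 D59140)) (tt N36862 (iv5 F327965)) (tt N35693 F93321) (tt N32317 (iv7 F165834)))
theorem Q35822 : ∀ i, i < 35822 → P i := stepQ 35821 Q35821 (allL N35821 (tt N58842 F170888) (tt N58839 (iv0 F170880)) (tt N35766 (iv2 F168065)) (tt N35671 F168131) (tt N65930 D126175) (tt N18159 (iv5 D59141)) (tt N36804 (iv6 F95221)) (tt N56215 (iv7 F163201)))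
theorem Q35823 : ∀ i, i < 35823 → P i := stepQ 35822 Q35822 (allL N35822 (tt N18171 F95726) (tt N32319 F95727) (tt N32317 (iv2 F165832)) (tt N52374 (iv3 F326256)) (tt N18160 (iv4 D59144)) (tt N65931 D126176) (tt N65932 D126177) (tt N32316 (iv7 F165831)))
theorem Q35824 : ∀ i, i < 35824 → P i := stepQ 35823 Q35823 (allL N35823 (tt N58839 F170881) (tt N58842 (iv0 F170887)) (tt N56215 (iv2 F163199)) (tt N18193 F168079) (tt N65933 D126178) (tt N18160 (iv5 D59145)) (tt N18383 (iv6 F168088)) (tt N35766 F168080))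
theorem Q35825 : ∀ i, i < 35825 → P i := stepQ 35824 Q35824 (allL N35824 (tt N57664 F167343) (tt N35745 (iv0 F103480)) (tt N41114 (iv2 F103358)) (tt N18194 F168034) (tt N65932 (iv4 F202905)) (tt N32094 (iv5 F168056)) (tt N18160 (iv6 D59146)) (tt N35692 F93324))
theorem Q35826 : ∀ i, i < 35826 → P i := stepQ 35825 Q35825 (allL N35825 (tt N20055 F93333) (tt N60548 (iv0 F176564)) (tt N33540 F93330) (tt N65934 D126179) (tt N18161 (iv4 D59147)) (tt N65935 D126180) (tt N19387 F93331) (tt N33537 F93332))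
theorem Q35827 : ∀ i, i < 35827 → P i := stepQ 35826 Q35826 (allL N35826 (tt N35779 F168984) (tt N65936 D126181) (tt N18165 F93334) (tt N38690 (iv3 F98657)) (tt N44147 (iv4 F110936)) (tt N35928 (iv5 F93597)) (tt N18163 (iv6 D59148)) (tt N65937 D126182))
theorem Q35828 : ∀ i, i < 35828 → P i := stepQ 35827 Q35827 (allL N35827 (tt N20086 F93335) (tt N27487 F314293) (tt N44146 (iv2 F110931)) (tt N60611 (iv3 F176640)) (tt N57489 (iv4 F166885)) (tt N18164 (iv5 D59149)) (tt N65938 D126183) (tt N44143 (iv7 F110924)))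
theorem Q35829 : ∀ i, i < 35829 → P i := stepQ 35828 Q35828 (allL N35828 (tt N58631 (iv1 F169879)) (tt N58606 F169747) (tt N44147 (iv2 F110935)) (tt N60612 (iv3 F176641)) (tt N18165 F93337) (tt N65939 D126184) (tt N18164 (iv6 D59150)) (tt N58660 F169928))
theorem Q35830 : ∀ i, i < 35830 → P i := stepQ 35829 Q35829 (allL N35829 (tt N65937 (iv1 F202923)) (tt N18165 (iv0 D59151)) (tt N35779 F202493) (tt N59550 F173120) (tt N31171 (iv4 F169876)) (tt N36808 F173732) (tt N65940 D126185) (tt N65936 (iv7 F202916)))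
theorem Q35831 : ∀ i, i < 35831 → P i := stepQ 35830 Q35830 (allL N35830 (tt N18165 (iv1 D59152)) (tt N65937 F202922) (tt N65936 (iv2 F202919)) (tt N35761 F170705) (tt N31172 F170706) (tt N36809 F173178) (tt N35758 F170707) (tt N35779 F202489))
theorem Q35832 : ∀ i, i < 35832 → P i := stepQ 35831 Q35831 (allL N35831 (tt N65936 (iv1 F202915)) (tt N35779 (iv0 F179349)) (tt N65937 (iv2 F202921)) (tt N18168 F93338) (tt N58660 (iv4 F169926)) (tt N56486 (iv5 F163803)) (tt N56214 (iv6 F163187)) (tt N18165 (iv7 D59153)))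
theorem Q35833 : ∀ i, i < 35833 → P i := stepQ 35832 Q35832 (allL N35832 (tt N32341 F163884) (tt N18174 F163885) (tt N32338 (iv2 F164031)) (tt N25610 (iv3 F326752)) (tt N18166 (iv4 D59156)) (tt N65941 D126186) (tt N65117 (iv6 F326811)) (tt N32339 (iv7 F164028)))
theorem Q35834 : ∀ i, i < 35834 → P i := stepQ 35833 Q35833 (allL N35833 (tt N35741 F93341) (tt N59076 (iv0 F171994)) (tt N41473 (iv2 F104295)) (tt N18201 F100160) (tt N65117 (iv4 F326809)) (tt N30356 F93340) (tt N18166 (iv6 D59157)) (tt N35673 F93344))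
theorem Q35835 : ∀ i, i < 35835 → P i := stepQ 35834 Q35834 (allL N35834 (tt N18174 F163886) (tt N32341 F163887) (tt N32339 (iv2 F164025)) (tt N65942 D126188) (tt N18167 (iv4 D59160)) (tt N65943 D126189) (tt N35670 F93350) (tt N32338 (iv7 F164033)))
theorem Q35836 : ∀ i, i < 35836 → P i := stepQ 35835 Q35835 (allL N35835 (tt N32334 (iv1 F93351)) (tt N18169 (iv0 D59161)) (tt N32333 (iv2 F352262)) (tt N58268 F169079) (tt N65944 D126191) (tt N65945 D126192) (tt N65946 D126193) (tt N32332 (iv7 F352263)))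
theorem Q35837 : ∀ i, i < 35837 → P i := stepQ 35836 Q35836 (allL N35836 (tt N18169 (iv1 D59162)) (tt N32334 F93355) (tt N32332 F352264) (tt N65947 D126195) (tt N65948 D126196) (tt N65949 D126197) (tt N35697 (iv6 F359805)) (tt N32333 F352265))
theorem Q35838 : ∀ i, i < 35838 → P i := stepQ 35837 Q35837 (allL N35837 (tt N32333 (iv1 F93356)) (tt N32332 F93354) (tt N18169 (iv2 D59163)) (tt N32312 F93352) (tt N65950 D126199) (tt N65951 D126200) (tt N65952 D126201) (tt N32334 F93353))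
theorem Q35839 : ∀ i, i < 35839 → P i := stepQ 35838 Q35838 (allL N35838 (tt N45935 F320733) (tt N65953 D126202) (tt N65950 (iv2 F202944)) (tt N29493 F93357) (tt N18169 (iv4 D59164)) (tt N65954 D126203) (tt N45758 (iv6 F329021)) (tt N32328 F93358))
theorem Q35840 : ∀ i, i < 35840 → P i := stepQ 35839 Q35839 (allL N35839 (tt N60483 (iv1 F231077)) (tt N60487 (iv0 F338357)) (tt N65951 (iv2 F202949)) (tt N18170 F93359) (tt N62807 (iv4 F183741)) (tt N18169 (iv5 D59165)) (tt N65955 D126207) (tt N32335 F93360))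
theorem Q35841 : ∀ i, i < 35841 → P i := stepQ 35840 Q35840 (allL N35840 (tt N65956 D126208) (tt N65957 D126209) (tt N65952 (iv2 F202954)) (tt N18171 F93361) (tt N45758 F328589) (tt N65958 D126210) (tt N18169 (iv6 D59166)) (tt N65959 D126211))
theorem Q35842 : ∀ i, i < 35842 → P i := stepQ 35841 Q35841 (allL N35841 (tt N60828 (iv1 F178283)) (tt N60832 (iv0 F177001)) (tt N32315 F93362) (tt N65955 (iv3 F202969)) (tt N29534 F93363) (tt N65960 D126212) (tt N18170 (iv6 D59167)) (tt N65961 D126213))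
theorem Q35843 : ∀ i, i < 35843 → P i := stepQ 35842 Q35842 (allL N35842 (tt N65563 (iv1 F202037)) (tt N65962 D126214) (tt N32318 F93365) (tt N65958 (iv3 F202970)) (tt N65963 D126215) (tt N18171 (iv5 D59170)) (tt N65960 (iv6 F202974)) (tt N65964 D126216))
theorem Q35844 : ∀ i, i < 35844 → P i := stepQ 35843 Q35843 (allL N35843 (tt N32317 (iv1 F93370)) (tt N32316 F93371) (tt N32319 F93366) (tt N65959 (iv3 F202971)) (tt N29497 F93367) (tt N65964 (iv5 F202986)) (tt N32341 F93368) (tt N18171 (iv7 D59171)))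
theorem Q35845 : ∀ i, i < 35845 → P i := stepQ 35844 Q35844 (allL N35844 (tt N32312 (iv1 F93372)) (tt N18172 (iv0 D59172)) (tt N32311 (iv2 F355952)) (tt N65965 D126218) (tt N59625 (iv4 F173416)) (tt N65966 D126219) (tt N35705 (iv6 F355940)) (tt N32310 (iv7 F355953)))
theorem Q35846 : ∀ i, i < 35846 → P i := stepQ 35845 Q35845 (allL N35845 (tt N18172 (iv1 D59173)) (tt N32312 F93376) (tt N32310 F355956) (tt N65967 D126222) (tt N59566 (iv4 F173158)) (tt N65968 D126223) (tt N65969 D126224) (tt N32311 F355957))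
theorem Q35847 : ∀ i, i < 35847 → P i := stepQ 35846 Q35846 (allL N35846 (tt N32311 (iv1 F93377)) (tt N32310 F93375) (tt N18172 (iv2 D59174)) (tt N32334 F93373) (tt N59354 (iv4 F172719)) (tt N65970 D126225) (tt N65971 D126226) (tt N32312 F93374))
theorem Q35848 : ∀ i, i < 35848 → P i := stepQ 35847 Q35847 (allL N35847 (tt N60452 (iv1 F219100)) (tt N46549 (iv0 F349668)) (tt N65970 (iv2 F202991)) (tt N18173 F93378) (tt N65972 D126229) (tt N18172 (iv5 D59175)) (tt N56414 (iv6 F364687)) (tt N32313 F93379))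
theorem Q35849 : ∀ i, i < 35849 → P i := stepQ 35848 Q35848 (allL N35848 (tt N65973 D126231) (tt N65974 D126232) (tt N65971 (iv2 F202996)) (tt N18174 F93380) (tt N59356 (iv4 F172727)) (tt N65975 D126233) (tt N18172 (iv6 D59176)) (tt N65976 D126234))
theorem Q35850 : ∀ i, i < 35850 → P i := stepQ 35849 Q35849 (allL N35849 (tt N60810 (iv1 F343631)) (tt N60814 (iv0 F343637)) (tt N32337 F93381) (tt N56414 (iv3 F364686)) (tt N29533 F93382) (tt N65977 D126237) (tt N18173 (iv6 D59177)) (tt N65978 D126238))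
theorem Q35851 : ∀ i, i < 35851 → P i := stepQ 35850 Q35850 (allL N35850 (tt N60023 (iv1 F175331)) (tt N56546 (iv0 F328931)) (tt N32340 F93384) (tt N65975 (iv3 F203005)) (tt N56611 (iv4 F332825)) (tt N18174 (iv5 D59180)) (tt N65977 (iv6 F203010)) (tt N65979 D126240))
theorem Q35852 : ∀ i, i < 35852 → P i := stepQ 35851 Q35851 (allL N35851 (tt N32339 (iv1 F93389)) (tt N32338 F93390) (tt N32341 F93385) (tt N65976 (iv3 F203006)) (tt N29500 F93386) (tt N65979 (iv5 F203019)) (tt N32319 F93387) (tt N18174 (iv7 D59181)))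
theorem Q35853 : ∀ i, i < 35853 → P i := stepQ 35852 Q35852 (allL N35852 (tt N65967 (iv1 F355990)) (tt N65980 D126242) (tt N65981 D126243) (tt N18175 (iv3 D59183)) (tt N59766 F173963) (tt N59152 (iv5 F342893)) (tt N65982 D126245) (tt N59151 (iv7 F341785)))
theorem Q35854 : ∀ i, i < 35854 → P i := stepQ 35853 Q35853 (allL N35853 (tt N65983 D126246) (tt N41524 F170958) (tt N58682 (iv2 F170294)) (tt N59152 (iv3 F342892)) (tt N65984 D126247) (tt N18175 (iv5 D59185)) (tt N65985 D126248) (tt N59150 (iv7 F349570)))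
theorem Q35855 : ∀ i, i < 35855 → P i := stepQ 35854 Q35854 (allL N35854 (tt N24285 (iv1 F326403)) (tt N52374 (iv0 F326404)) (tt N45717 F325582) (tt N65982 (iv3 F203024)) (tt N25416 F325583) (tt N65986 D126251) (tt N18175 (iv6 D59186)) (tt N25415 (iv7 F326410)))
theorem Q35856 : ∀ i, i < 35856 → P i := stepQ 35855 Q35855 (allL N35855 (tt N58265 F176632) (tt N58268 (iv0 F358834)) (tt N65987 D126254) (tt N18176 (iv3 D59188)) (tt N58691 (iv4 F170312)) (tt N65988 D126255) (tt N45815 (iv6 F326412)) (tt N58681 (iv7 F170293)))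
theorem Q35857 : ∀ i, i < 35857 → P i := stepQ 35856 Q35856 (allL N35856 (tt N41524 (iv1 F170953)) (tt N65983 F203027) (tt N59150 (iv2 F349568)) (tt N65988 (iv3 F203028)) (tt N65989 D126257) (tt N18176 (iv5 D59189)) (tt N65990 D126258) (tt N58682 (iv7 F170295)))
theorem Q35858 : ∀ i, i < 35858 → P i := stepQ 35857 Q35857 (allL N35857 (tt N56269 (iv1 F163299)) (tt N56268 F163294) (tt N18178 F93393) (tt N56229 (iv3 F163221)) (tt N65780 (iv4 F202379)) (tt N18177 (iv5 D59191)) (tt N65991 D126263) (tt N56270 (iv7 F163297)))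
theorem Q35859 : ∀ i, i < 35859 → P i := stepQ 35858 Q35858 (allL N35858 (tt N56270 (iv1 F163298)) (tt N18178 (iv0 D59192)) (tt N56269 F170988) (tt N65992 D126264) (tt N65993 D126265) (tt N51615 (iv5 F323908)) (tt N65994 D126266) (tt N56268 (iv7 F170987)))
theorem Q35860 : ∀ i, i < 35860 → P i := stepQ 35859 Q35859 (allL N35859 (tt N18178 (iv1 D59193)) (tt N56270 F163300) (tt N56268 (iv2 F170986)) (tt N65995 D126267) (tt N65996 D126268) (tt N58843 F170924) (tt N65997 D126269) (tt N56269 (iv7 F170976)))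
theorem Q35861 : ∀ i, i < 35861 → P i := stepQ 35860 Q35860 (allL N35860 (tt N65998 D126270) (tt N65999 D126271) (tt N65780 (iv2 F202378)) (tt N56262 (iv3 F163286)) (tt N18178 (iv4 D59194)) (tt N65769 (iv5 F202373)) (tt N66000 D126272) (tt N56259 F163284))
theorem Q35862 : ∀ i, i < 35862 → P i := stepQ 35861 Q35861 (allL N35861 (tt N65993 (iv1 F360437)) (tt N65996 (iv0 F360450)) (tt N65991 (iv2 F203030)) (tt N18181 F93394) (tt N66000 (iv4 F203033)) (tt N35724 F93395) (tt N18178 (iv6 D59195)) (tt N66001 D126275))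
theorem Q35863 : ∀ i, i < 35863 → P i := stepQ 35862 Q35862 (allL N35862 (tt N65945 (iv1 F358831)) (tt N65949 (iv0 F359803)) (tt N66002 D126278) (tt N18179 (iv3 D59196)) (tt N66003 D126279) (tt N29483 F93396) (tt N66004 D126280) (tt N32300 F93397))
theorem Q35864 : ∀ i, i < 35864 → P i := stepQ 35863 Q35863 (allL N35863 (tt N60787 (iv1 F288400)) (tt N60791 (iv0 F288401)) (tt N32283 F93398) (tt N66004 (iv3 F203045)) (tt N29545 F93399) (tt N36971 F328928) (tt N18179 (iv6 D59197)) (tt N66005 D126284))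
theorem Q35865 : ∀ i, i < 35865 → P i := stepQ 35864 Q35864 (allL N35864 (tt N65966 (iv1 F219116)) (tt N65968 (iv0 F219113)) (tt N66006 D126287) (tt N18180 (iv3 D59198)) (tt N39701 (iv4 F100589)) (tt N29488 F93400) (tt N66007 D126288) (tt N32281 F93401))
theorem Q35866 : ∀ i, i < 35866 → P i := stepQ 35865 Q35865 (allL N35865 (tt N60740 (iv1 F395859)) (tt N60744 (iv0 F395856)) (tt N32302 F93402) (tt N66007 (iv3 F203062)) (tt N29543 F93403) (tt N66008 D126291) (tt N18180 (iv6 D59199)) (tt N66009 D126292))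
theorem Q35867 : ∀ i, i < 35867 → P i := stepQ 35866 Q35866 (allL N35866 (tt N56236 (iv1 F163237)) (tt N18181 (iv0 D59200)) (tt N56234 (iv2 F383823)) (tt N56255 (iv3 F377848)) (tt N32570 (iv4 F377849)) (tt N66010 D126296) (tt N66011 D126297) (tt N56235 (iv7 F383822)))
theorem Q35868 : ∀ i, i < 35868 → P i := stepQ 35867 Q35867 (allL N35867 (tt N18181 (iv1 D59201)) (tt N56236 F163236) (tt N56235 (iv2 F383820)) (tt N66012 D126299) (tt N32571 (iv4 F377845)) (tt N66013 D126301) (tt N66014 D126302) (tt N56234 (iv7 F383827)))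
theorem Q35869 : ∀ i, i < 35869 → P i := stepQ 35868 Q35868 (allL N35868 (tt N56235 (iv1 F163231)) (tt N56234 F163235) (tt N56236 (iv2 F163232)) (tt N66001 (iv3 F203034)) (tt N56279 (iv4 F163315)) (tt N35735 F93404) (tt N56273 (iv6 F163307)) (tt N18181 (iv7 D59202)))
theorem Q35870 : ∀ i, i < 35870 → P i := stepQ 35869 Q35869 (allL N35869 (tt N35592 (iv1 F93405)) (tt N18182 (iv0 D59203)) (tt N32391 (iv2 F161322)) (tt N66015 D126303) (tt N29513 F161241) (tt N66016 D126304) (tt N66017 D126305) (tt N32394 (iv7 F161333)))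
theorem Q35871 : ∀ i, i < 35871 → P i := stepQ 35870 Q35870 (allL N35870 (tt N18182 (iv1 D59204)) (tt N35592 F93406) (tt N32394 (iv2 F161332)) (tt N37202 (iv3 F343555)) (tt N29514 F161237) (tt N37201 (iv5 F343556)) (tt N66018 D126308) (tt N32391 (iv7 F161323)))
theorem Q35872 : ∀ i, i < 35872 → P i := stepQ 35871 Q35871 (allL N35871 (tt N66019 D126309) (tt N66020 D126310) (tt N56237 (iv2 F163238)) (tt N65908 (iv3 F202833)) (tt N66021 D126311) (tt N18182 (iv5 D59205)) (tt N56272 (iv6 F163304)) (tt N35737 F93408))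
theorem Q35873 : ∀ i, i < 35873 → P i := stepQ 35872 Q35872 (allL N35872 (tt N20299 F166162) (tt N20430 F166163) (tt N58350 (iv2 F169174)) (tt N18183 (iv3 D59207)) (tt N31775 F93410) (tt N66022 D126312) (tt N66023 D126313) (tt N35738 (iv7 F166442)))
theorem Q35874 : ∀ i, i < 35874 → P i := stepQ 35873 Q35873 (allL N35873 (tt N60022 F175329) (tt N31314 (iv0 F164080)) (tt N35744 (iv2 F166428)) (tt N66022 (iv3 F203092)) (tt N66024 D126314) (tt N18183 (iv5 D59209)) (tt N31297 F93411) (tt N35740 (iv7 F166430)))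
theorem Q35875 : ∀ i, i < 35875 → P i := stepQ 35874 Q35874 (allL N35874 (tt N41114 F103360) (tt N35692 (iv0 F93414)) (tt N35745 F166437) (tt N66023 (iv3 F203097)) (tt N60681 (iv4 F176709)) (tt N32105 F93413) (tt N18183 (iv6 D59210)) (tt N57664 (iv7 F167342)))
theorem Q35876 : ∀ i, i < 35876 → P i := stepQ 35875 Q35875 (allL N35875 (tt N31985 F172682) (tt N31984 F172683) (tt N58748 (iv2 F170581)) (tt N18184 (iv3 D59212)) (tt N58371 (iv4 F169205)) (tt N66025 D126315) (tt N66026 D126316) (tt N35742 F166424))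
theorem Q35877 : ∀ i, i < 35877 → P i := stepQ 35876 Q35876 (allL N35876 (tt N31314 (iv1 F164081)) (tt N60022 (iv0 F175328)) (tt N35740 F166429) (tt N66025 (iv3 F203107)) (tt N66027 D126317) (tt N18184 (iv5 D59214)) (tt N30397 F93417) (tt N35744 F166426))
theorem Q35878 : ∀ i, i < 35878 → P i := stepQ 35877 Q35877 (allL N35877 (tt N35673 F100276) (tt N41473 (iv0 F104297)) (tt N35741 (iv2 F166419)) (tt N66026 (iv3 F203110)) (tt N60684 (iv4 F176710)) (tt N30496 F93418) (tt N18184 (iv6 D59215)) (tt N59076 (iv7 F171993)))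
theorem Q35879 : ∀ i, i < 35879 → P i := stepQ 35878 Q35878 (allL N35878 (tt N18190 (iv1 F93424)) (tt N18185 (iv0 D59216)) (tt N18188 F171879) (tt N35653 F168470) (tt N63562 (iv4 F326679)) (tt N66028 D126319) (tt N18200 F93476) (tt N18189 F171880))
theorem Q35880 : ∀ i, i < 35880 → P i := stepQ 35879 Q35879 (allL N35879 (tt N18185 (iv1 D59217)) (tt N18190 F93419) (tt N18189 F171871) (tt N56213 F169336) (tt N63566 (iv4 F326688)) (tt N57409 (iv5 F166388)) (tt N41216 (iv6 F103658)) (tt N18188 F171872))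
theorem Q35881 : ∀ i, i < 35881 → P i := stepQ 35880 Q35880 (allL N35880 (tt N18189 (iv1 F93425)) (tt N18188 F93428) (tt N18190 F93420) (tt N35750 F93421) (tt N45902 F328018) (tt N33556 F93422) (tt N35772 F93423) (tt N18185 (iv7 D59218)))
theorem Q35882 : ∀ i, i < 35882 → P i := stepQ 35881 Q35881 (allL N35881 (tt N63635 (iv1 F347853)) (tt N63535 (iv0 F366627)) (tt N60381 (iv2 F176329)) (tt N58676 (iv3 F170164)) (tt N61778 (iv4 F179482)) (tt N62976 (iv5 F316279)) (tt N18186 (iv6 D59219)) (tt N66029 D126324))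
theorem Q35883 : ∀ i, i < 35883 → P i := stepQ 35882 Q35882 (allL N35882 (tt N18187 (iv1 D59221)) (tt N45902 (iv0 F327549)) (tt N45903 (iv2 F327554)) (tt N66030 D126327) (tt N57891 (iv4 F168503)) (tt N25075 (iv5 F320704)) (tt N45915 (iv6 F327557)) (tt N45890 F327024))
theorem Q35884 : ∀ i, i < 35884 → P i := stepQ 35883 Q35883 (allL N35883 (tt N59996 (iv1 F175153)) (tt N66031 D126330) (tt N60382 (iv2 F176331)) (tt N36967 (iv3 F318551)) (tt N43975 (iv4 F316278)) (tt N18187 (iv5 D59222)) (tt N62976 (iv6 F316280)) (tt N36962 F316277))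
theorem Q35885 : ∀ i, i < 35885 → P i := stepQ 35884 Q35884 (allL N35884 (tt N45903 (iv1 F327553)) (tt N45890 F327021) (tt N45902 F328016) (tt N23123 (iv3 F320696)) (tt N18190 F93429) (tt N36962 F318550) (tt N34605 (iv6 F320697)) (tt N18187 (iv7 D59223)))
theorem Q35886 : ∀ i, i < 35886 → P i := stepQ 35885 Q35885 (allL N35885 (tt N56214 (iv1 F202182)) (tt N56211 (iv0 F174271)) (tt N56212 F171922) (tt N18188 (iv3 D59225)) (tt N59835 F174268) (tt N66032 D126333) (tt N35679 F174545) (tt N56213 F171873))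
theorem Q35887 : ∀ i, i < 35887 → P i := stepQ 35886 Q35886 (allL N35886 (tt N66033 D126334) (tt N32239 F202183) (tt N63562 (iv2 F326678)) (tt N66034 D126335) (tt N18188 (iv4 D59226)) (tt N24735 (iv5 F326684)) (tt N45637 F327430) (tt N63566 (iv7 F326690)))
theorem Q35888 : ∀ i, i < 35888 → P i := stepQ 35887 Q35887 (allL N35887 (tt N58873 F171205) (tt N57376 (iv0 F166320)) (tt N66028 (iv2 F203124)) (tt N66032 (iv3 F203139)) (tt N66035 D126337) (tt N18188 (iv5 D59227)) (tt N37051 (iv6 F95460)) (tt N57409 F171874))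
theorem Q35889 : ∀ i, i < 35889 → P i := stepQ 35888 Q35888 (allL N35888 (tt N31740 (iv1 F173188)) (tt N35655 F173189) (tt N35654 (iv2 F172705)) (tt N18189 (iv3 D59230)) (tt N59349 (iv4 F172698)) (tt N64578 (iv5 F332924)) (tt N66036 D126339) (tt N35653 F171881))
theorem Q35890 : ∀ i, i < 35890 → P i := stepQ 35889 Q35889 (allL N35889 (tt N32239 (iv1 F100411)) (tt N66033 F203142) (tt N63566 (iv2 F326687)) (tt N24627 (iv3 F326691)) (tt N18189 (iv4 D59231)) (tt N22479 (iv5 F326692)) (tt N66037 D126342) (tt N63562 (iv7 F326681)))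
theorem Q35891 : ∀ i, i < 35891 → P i := stepQ 35890 Q35890 (allL N35890 (tt N57376 F175060) (tt N58873 (iv0 F171203)) (tt N57409 (iv2 F171921)) (tt N64578 (iv3 F332923)) (tt N66038 D126343) (tt N18189 (iv5 D59232)) (tt N18342 F93433) (tt N66028 (iv7 F203126)))
theorem Q35892 : ∀ i, i < 35892 → P i := stepQ 35891 Q35891 (allL N35891 (tt N57669 F167359) (tt N58761 (iv0 F170619)) (tt N41216 (iv2 F171870)) (tt N66036 (iv3 F203151)) (tt N66037 (iv4 F203154)) (tt N36038 (iv5 F93846)) (tt N18189 (iv6 D59233)) (tt N41220 (iv7 F171865)))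
theorem Q35893 : ∀ i, i < 35893 → P i := stepQ 35892 Q35892 (allL N35892 (tt N35704 F100265) (tt N30910 (iv0 F164019)) (tt N35670 (iv2 F100282)) (tt N47683 (iv3 F326255)) (tt N18191 (iv4 D59237)) (tt N66039 D126344) (tt N32339 (iv6 F164027)) (tt N35672 (iv7 F100165)))
theorem Q35894 : ∀ i, i < 35894 → P i := stepQ 35893 Q35893 (allL N35893 (tt N31510 F100266) (tt N57246 (iv0 F165889)) (tt N35671 (iv2 F100237)) (tt N18192 F93443) (tt N66040 D126345) (tt N18191 (iv5 D59238)) (tt N37082 (iv6 F95500)) (tt N31535 (iv7 F100167)))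
theorem Q35895 : ∀ i, i < 35895 → P i := stepQ 35894 Q35894 (allL N35894 (tt N20636 F93447) (tt N42957 (iv0 F316835)) (tt N35767 F93445) (tt N66041 D126346) (tt N18192 (iv4 D59239)) (tt N40496 F101779) (tt N37085 (iv6 F95502)) (tt N20764 (iv7 F101315)))
theorem Q35896 : ∀ i, i < 35896 → P i := stepQ 35895 Q35895 (allL N35895 (tt N66042 D126347) (tt N66043 D126348) (tt N25345 F323160) (tt N18195 (iv3 D59247)) (tt N35768 F93465) (tt N59854 (iv5 F174329)) (tt N25343 (iv6 F324588)) (tt N35746 F93466))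
theorem Q35897 : ∀ i, i < 35897 → P i := stepQ 35896 Q35896 (allL N35896 (tt N35803 F161316) (tt N58759 (iv0 F170610)) (tt N35752 F93478) (tt N41982 (iv3 F105212)) (tt N31073 F93479) (tt N63555 (iv5 F333671)) (tt N18197 (iv6 D59252)) (tt N35774 F93480))
theorem Q35898 : ∀ i, i < 35898 → P i := stepQ 35897 Q35897 (allL N35897 (tt N35681 (iv1 F174624)) (tt N35674 (iv0 F173090)) (tt N35678 F174550) (tt N18199 (iv3 D59259)) (tt N59896 (iv4 F174523)) (tt N37108 (iv5 F95542)) (tt N66044 D126364) (tt N35679 (iv7 F174542)))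
theorem Q35899 : ∀ i, i < 35899 → P i := stepQ 35898 Q35898 (allL N35898 (tt N59534 (iv1 F173096)) (tt N32330 F173087) (tt N45639 (iv2 F326787)) (tt N66045 D126365) (tt N18199 (iv4 D59260)) (tt N64080 (iv5 F326803)) (tt N66046 D126367) (tt N45637 (iv7 F326792)))
theorem Q35900 : ∀ i, i < 35900 → P i := stepQ 35899 Q35899 (allL N35899 (tt N58761 F170617) (tt N57669 (iv0 F167358)) (tt N41220 F171869) (tt N66044 (iv3 F203191)) (tt N66046 (iv4 F203195)) (tt N36039 F93848) (tt N18199 (iv6 D59262)) (tt N41216 (iv7 F171868)))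
theorem Q35901 : ∀ i, i < 35901 → P i := stepQ 35900 Q35900 (allL N35900 (tt N38690 (iv1 F168465)) (tt N56217 (iv0 F168461)) (tt N56216 F171891) (tt N18200 (iv3 D59264)) (tt N30949 F168462) (tt N37111 (iv5 F95545)) (tt N35653 (iv6 F168469)) (tt N45638 (iv7 F326786)))
theorem Q35902 : ∀ i, i < 35902 → P i := stepQ 35901 Q35901 (allL N35901 (tt N32330 (iv1 F168460)) (tt N59534 F173095) (tt N45637 (iv2 F326791)) (tt N25370 (iv3 F326804)) (tt N18200 (iv4 D59265)) (tt N64083 (iv5 F326805)) (tt N63562 (iv6 F326680)) (tt N45639 (iv7 F326788)))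
theorem Q35903 : ∀ i, i < 35903 → P i := stepQ 35902 Q35902 (allL N35902 (tt N32262 (iv1 F168298)) (tt N35712 (iv0 F168296)) (tt N35693 F168413) (tt N22896 (iv3 F326751)) (tt N18202 (iv4 D59274)) (tt N38430 (iv5 F327960)) (tt N32316 (iv6 F168062)) (tt N24245 (iv7 F326266)))
theorem Q35904 : ∀ i, i < 35904 → P i := stepQ 35903 Q35903 (allL N35903 (tt N31837 (iv1 F171329)) (tt N34988 F324424) (tt N35031 F324425) (tt N18205 F93513) (tt N57986 (iv4 F170951)) (tt N18203 (iv5 D59284)) (tt N34772 (iv6 F325544)) (tt N23413 F324426))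
theorem Q35905 : ∀ i, i < 35905 → P i := stepQ 35904 Q35904 (allL N35904 (tt N18208 (iv1 F93521)) (tt N18204 (iv0 D59287)) (tt N60603 F176633) (tt N66047 D126377) (tt N23795 F322497) (tt N66048 D126378) (tt N66049 D126379) (tt N59938 (iv7 F174754)))
theorem Q35906 : ∀ i, i < 35906 → P i := stepQ 35905 Q35905 (allL N35905 (tt N18204 (iv1 D59288)) (tt N18208 F93517) (tt N59938 (iv2 F174753)) (tt N55649 F170482) (tt N31197 F170483) (tt N66050 D126380) (tt N35787 F326413) (tt N60603 (iv7 F176631)))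
theorem Q35907 : ∀ i, i < 35907 → P i := stepQ 35906 Q35906 (allL N35906 (tt N60579 F176604) (tt N60639 F176685) (tt N60624 (iv2 F176654)) (tt N18204 (iv3 D59289)) (tt N58721 (iv4 F170516)) (tt N66051 D126382) (tt N66052 D126383) (tt N59627 (iv7 F173418)))
theorem Q35908 : ∀ i, i < 35908 → P i := stepQ 35907 Q35907 (allL N35907 (tt N66053 D126384) (tt N66054 D126385) (tt N60628 (iv2 F176664)) (tt N66051 (iv3 F203215)) (tt N66055 D126386) (tt N18204 (iv5 D59290)) (tt N66056 D126387) (tt N65905 (iv7 F202805)))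
theorem Q35909 : ∀ i, i < 35909 → P i := stepQ 35908 Q35908 (allL N35908 (tt N23700 (iv1 F326136)) (tt N48434 (iv0 F326137)) (tt N45388 (iv2 F325587)) (tt N66052 (iv3 F203216)) (tt N18206 F93518) (tt N66057 D126390) (tt N18204 (iv6 D59291)) (tt N34953 (iv7 F326145)))
theorem Q35910 : ∀ i, i < 35910 → P i := stepQ 35909 Q35909 (allL N35909 (tt N58846 F171083) (tt N65633 F202162) (tt N48253 F324606) (tt N66058 D126392) (tt N18205 (iv4 D59295)) (tt N66059 D126393) (tt N46534 (iv6 F325724)) (tt N49197 (iv7 F325532)))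
theorem Q35911 : ∀ i, i < 35911 → P i := stepQ 35910 Q35910 (allL N35910 (tt N31187 (iv1 F105364)) (tt N31184 (iv0 F93529)) (tt N46154 (iv2 F323171)) (tt N60632 (iv3 F176674)) (tt N18207 (iv4 D59306)) (tt N63785 F321494) (tt N23915 (iv6 F323173)) (tt N45390 (iv7 F323176)))
theorem Q35912 : ∀ i, i < 35912 → P i := stepQ 35911 Q35911 (allL N35911 (tt N66054 (iv1 F203219)) (tt N66053 F203218) (tt N65905 (iv2 F202804)) (tt N60636 (iv3 F176679)) (tt N66060 D126418) (tt N18208 (iv5 D59309)) (tt N66061 D126419) (tt N60628 (iv7 F176666)))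
theorem Q35913 : ∀ i, i < 35913 → P i := stepQ 35912 Q35912 (allL N35912 (tt N65633 F202161) (tt N58846 (iv0 F171082)) (tt N49197 (iv2 F325531)) (tt N65573 (iv3 F202056)) (tt N18209 (iv4 D59311)) (tt N66062 D126424) (tt N23735 (iv6 F325539)) (tt N48253 F324419))
theorem Q35914 : ∀ i, i < 35914 → P i := stepQ 35913 Q35913 (allL N35913 (tt N35752 F161243) (tt N35774 F161245) (tt N58759 (iv2 F170609)) (tt N25290 F325850) (tt N18210 (iv4 D59320)) (tt N34717 (iv5 F325937)) (tt N25288 (iv6 F326659)) (tt N35803 F93539))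
theorem Q35915 : ∀ i, i < 35915 → P i := stepQ 35914 Q35914 (allL N35914 (tt N59976 (iv1 F175059)) (tt N31292 (iv0 F166193)) (tt N58760 (iv2 F170612)) (tt N18211 F93540) (tt N45859 F319904) (tt N18210 (iv5 D59321)) (tt N31305 (iv6 F93542)) (tt N35804 F93541))
theorem Q35916 : ∀ i, i < 35916 → P i := stepQ 35915 Q35915 (allL N35915 (tt N41216 F166194) (tt N41220 (iv0 F166154)) (tt N58761 (iv2 F170615)) (tt N18212 F93543) (tt N25288 (iv4 F326658)) (tt N30472 (iv5 F166147)) (tt N18210 (iv6 D59322)) (tt N57669 (iv7 F167357)))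
theorem Q35917 : ∀ i, i < 35917 → P i := stepQ 35916 Q35916 (allL N35916 (tt N21567 F93548) (tt N20947 (iv0 F93549)) (tt N21572 F93545) (tt N18220 (iv3 D59323)) (tt N31365 F93546) (tt N38318 (iv5 F97951)) (tt N66063 D126447) (tt N21571 F93547))
theorem Q35918 : ∀ i, i < 35918 → P i := stepQ 35917 Q35917 (allL N35917 (tt N20994 F93551) (tt N21649 (iv0 F93552)) (tt N21655 F93550) (tt N66063 (iv3 F203255)) (tt N53664 (iv4 F154331)) (tt N44977 (iv5 F114257)) (tt N18220 (iv6 D59324)) (tt N21656 (iv7 F93553)))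
theorem Q35919 : ∀ i, i < 35919 → P i := stepQ 35918 Q35918 (allL N35918 (tt N18223 (iv1 F93560)) (tt N18222 (iv0 D59325)) (tt N18678 (iv2 F93559)) (tt N19675 (iv3 F93562)) (tt N18932 F93558) (tt N19672 F93557) (tt N64681 (iv6 F329393)) (tt N18677 F93561))
theorem Q35920 : ∀ i, i < 35920 → P i := stepQ 35919 Q35919 (allL N35919 (tt N19411 F93566) (tt N19410 F93567) (tt N30446 F93563) (tt N60720 (iv3 F328471)) (tt N18222 (iv4 D59326)) (tt N33010 F93565) (tt N65700 (iv6 F202269)) (tt N18679 F93564))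
theorem Q35921 : ∀ i, i < 35921 → P i := stepQ 35920 Q35920 (allL N35920 (tt N19410 F93575) (tt N19411 F93576) (tt N18679 F93572) (tt N45090 (iv3 F328434)) (tt N18223 (iv4 D59327)) (tt N23883 (iv5 F328436)) (tt N23884 F328037) (tt N30446 F93573))
theorem Q35922 : ∀ i, i < 35922 → P i := stepQ 35921 Q35921 (allL N35921 (tt N33683 F327558) (tt N33672 F327559) (tt N18680 F93577) (tt N30738 F93578) (tt N23884 (iv4 F327571)) (tt N58828 (iv5 F170851)) (tt N18223 (iv6 D59328)) (tt N66064 D126452))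
theorem Q35923 : ∀ i, i < 35923 → P i := stepQ 35922 Q35922 (allL N35922 (tt N66065 D126453) (tt N66066 D126454) (tt N57717 (iv2 F167616)) (tt N18650 F93579) (tt N33001 F93580) (tt N20802 F93581) (tt N18224 (iv6 D59329)) (tt N66067 D126455))
theorem Q35924 : ∀ i, i < 35924 → P i := stepQ 35923 Q35923 (allL N35923 (tt N37975 F179348) (tt N66068 D126456) (tt N18702 F93582) (tt N30741 F93583) (tt N33004 F93584) (tt N29626 F93585) (tt N18225 (iv6 D59330)) (tt N66069 D126457))
theorem Q35925 : ∀ i, i < 35925 → P i := stepQ 35924 Q35924 (allL N35924 (tt N66070 D126458) (tt N66071 D126459) (tt N60984 (iv2 F332584)) (tt N18226 (iv3 D59331)) (tt N18239 F93586) (tt N23183 F332573) (tt N35964 (iv6 F93656)) (tt N38853 (iv7 F98901)))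
theorem Q35926 : ∀ i, i < 35926 → P i := stepQ 35925 Q35925 (allL N35925 (tt N18935 F93587) (tt N23842 F326290) (tt N38234 F97729) (tt N23183 F332572) (tt N60356 (iv4 F176268)) (tt N18226 (iv5 D59332)) (tt N66072 D126462) (tt N38235 (iv7 F97732)))
theorem Q35927 : ∀ i, i < 35927 → P i := stepQ 35926 Q35926 (allL N35926 (tt N37790 (iv1 F102069)) (tt N60876 (iv0 F327839)) (tt N58951 (iv2 F171541)) (tt N18242 F93589) (tt N38854 (iv4 F98903)) (tt N35926 F93590) (tt N18227 (iv6 D59333)) (tt N35966 (iv7 F93665)))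
theorem Q35928 : ∀ i, i < 35928 → P i := stepQ 35927 Q35927 (allL N35927 (tt N19341 F93593) (tt N19343 F93594) (tt N30003 F93591) (tt N66073 D126464) (tt N18228 (iv4 D59334)) (tt N19813 F93592) (tt N66074 D126465) (tt N35961 (iv7 F93646)))
theorem Q35929 : ∀ i, i < 35929 → P i := stepQ 35928 Q35928 (allL N35928 (tt N37833 (iv1 F169868)) (tt N66075 D126466) (tt N30004 F93595) (tt N31382 F93596) (tt N66074 (iv4 F203313)) (tt N35826 F93597) (tt N18228 (iv6 D59335)) (tt N66076 D126467))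
theorem Q35930 : ∀ i, i < 35930 → P i := stepQ 35929 Q35929 (allL N35929 (tt N37932 F168315) (tt N60892 (iv0 F336156)) (tt N30017 F93598) (tt N31383 F93599) (tt N19842 F93600) (tt N39450 (iv5 F100299)) (tt N18230 (iv6 D59336)) (tt N66077 D126469))
theorem Q35931 : ∀ i, i < 35931 → P i := stepQ 35930 Q35930 (allL N35930 (tt N37407 F95932) (tt N66078 D126470) (tt N66079 D126471) (tt N18231 (iv3 D59337)) (tt N30742 F93601) (tt N37162 (iv5 F95611)) (tt N38852 (iv6 F98898)) (tt N38837 (iv7 F98857)))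
theorem Q35932 : ∀ i, i < 35932 → P i := stepQ 35931 Q35931 (allL N35931 (tt N19794 F93602) (tt N18983 F93603) (tt N35965 (iv2 F93657)) (tt N37162 F95609) (tt N35993 (iv4 F93742)) (tt N18231 (iv5 D59338)) (tt N66080 D126472) (tt N35991 (iv7 F93739)))
theorem Q35933 : ∀ i, i < 35933 → P i := stepQ 35932 Q35932 (allL N35932 (tt N60876 (iv1 F327840)) (tt N37790 (iv0 F102068)) (tt N35966 (iv2 F93662)) (tt N30745 F93604) (tt N38838 (iv4 F98862)) (tt N35932 F93605) (tt N18232 (iv6 D59339)) (tt N58951 (iv7 F171545)))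
theorem Q35934 : ∀ i, i < 35934 → P i := stepQ 35933 Q35933 (allL N35933 (tt N66081 D126473) (tt N66082 D126474) (tt N66083 D126475) (tt N18233 (iv3 D59340)) (tt N37798 (iv4 F96603)) (tt N66084 D126476) (tt N66085 D126477) (tt N35967 (iv7 F93666)))
theorem Q35935 : ∀ i, i < 35935 → P i := stepQ 35934 Q35934 (allL N35934 (tt N19817 F93608) (tt N19791 F93609) (tt N18736 F93606) (tt N66084 (iv3 F203343)) (tt N18983 F93607) (tt N18233 (iv5 D59341)) (tt N66086 D126478) (tt N35968 (iv7 F93669)))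
theorem Q35936 : ∀ i, i < 35936 → P i := stepQ 35935 Q35935 (allL N35935 (tt N66087 D126479) (tt N66088 D126480) (tt N18737 F93610) (tt N66085 (iv3 F203344)) (tt N18234 F93611) (tt N66089 D126481) (tt N18233 (iv6 D59342)) (tt N66090 D126482))
theorem Q35937 : ∀ i, i < 35937 → P i := stepQ 35936 Q35936 (allL N35936 (tt N18739 (iv1 F93615)) (tt N18738 F93616) (tt N18740 F93612) (tt N37801 (iv3 F96613)) (tt N66090 (iv4 F203357)) (tt N23625 (iv5 F325132)) (tt N35971 (iv6 F93675)) (tt N18234 (iv7 D59343)))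
theorem Q35938 : ∀ i, i < 35938 → P i := stepQ 35937 Q35937 (allL N35937 (tt N66091 D126483) (tt N66092 D126484) (tt N66093 D126485) (tt N18235 (iv3 D59344)) (tt N37914 (iv4 F96926)) (tt N66094 D126486) (tt N66095 D126487) (tt N35972 (iv7 F93684)))
theorem Q35939 : ∀ i, i < 35939 → P i := stepQ 35938 Q35938 (allL N35938 (tt N36895 (iv1 F95319)) (tt N36892 (iv0 F95310)) (tt N18805 F93617) (tt N66094 (iv3 F203361)) (tt N19619 F93618) (tt N18235 (iv5 D59345)) (tt N66096 D126488) (tt N35973 (iv7 F93687)))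
theorem Q35940 : ∀ i, i < 35940 → P i := stepQ 35939 Q35939 (allL N35939 (tt N66097 D126489) (tt N66098 D126490) (tt N18806 F93619) (tt N66095 (iv3 F203362)) (tt N18236 F93620) (tt N66099 D126491) (tt N18235 (iv6 D59346)) (tt N66100 D126492))
theorem Q35941 : ∀ i, i < 35941 → P i := stepQ 35940 Q35940 (allL N35940 (tt N18809 F93622) (tt N18236 (iv0 D59347)) (tt N18807 F171912) (tt N37713 F168467) (tt N66101 D126493) (tt N66102 D126494) (tt N18835 F93621) (tt N18808 F171913))
theorem Q35942 : ∀ i, i < 35942 → P i := stepQ 35941 Q35941 (allL N35941 (tt N18236 (iv1 D59348)) (tt N18809 F93623) (tt N18808 F171914) (tt N66066 (iv3 F203495)) (tt N66103 D126496) (tt N36171 (iv5 F94033)) (tt N66104 D126497) (tt N18807 F171915))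
theorem Q35943 : ∀ i, i < 35943 → P i := stepQ 35942 Q35942 (allL N35942 (tt N18808 (iv1 F93625)) (tt N18807 F93626) (tt N18809 F93624) (tt N37919 (iv3 F96939)) (tt N66100 (iv4 F203377)) (tt N44483 (iv5 F112244)) (tt N35977 (iv6 F93700)) (tt N18236 (iv7 D59349)))
theorem Q35944 : ∀ i, i < 35944 → P i := stepQ 35943 Q35943 (allL N35943 (tt N66105 D126498) (tt N66106 D126499) (tt N66107 D126500) (tt N18237 (iv3 D59350)) (tt N38671 (iv4 F98595)) (tt N66108 D126501) (tt N66109 D126502) (tt N35981 (iv7 F93714)))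
theorem Q35945 : ∀ i, i < 35945 → P i := stepQ 35944 Q35944 (allL N35944 (tt N36887 (iv1 F95292)) (tt N36880 (iv0 F95283)) (tt N35979 (iv2 F93708)) (tt N66108 (iv3 F203403)) (tt N19844 F93627) (tt N18237 (iv5 D59351)) (tt N66110 D126503) (tt N35982 (iv7 F93717)))
theorem Q35946 : ∀ i, i < 35946 → P i := stepQ 35945 Q35945 (allL N35945 (tt N66101 F203383) (tt N66103 (iv0 F203397)) (tt N35980 (iv2 F93711)) (tt N66109 (iv3 F203404)) (tt N19782 F93628) (tt N66111 D126504) (tt N18237 (iv6 D59352)) (tt N66112 D126505))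
theorem Q35947 : ∀ i, i < 35947 → P i := stepQ 35946 Q35946 (allL N35946 (tt N66113 D126506) (tt N66114 D126507) (tt N66115 D126508) (tt N18238 (iv3 D59353)) (tt N30032 F93629) (tt N45085 F333193) (tt N66116 D126510) (tt N35978 (iv7 F93706)))
theorem Q35948 : ∀ i, i < 35948 → P i := stepQ 35947 Q35947 (allL N35947 (tt N36880 (iv1 F95284)) (tt N36887 (iv0 F95291)) (tt N35982 (iv2 F93715)) (tt N45085 (iv3 F333190)) (tt N19841 F93630) (tt N18238 (iv5 D59354)) (tt N45088 F333189) (tt N35979 (iv7 F93709)))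
theorem Q35949 : ∀ i, i < 35949 → P i := stepQ 35948 Q35948 (allL N35948 (tt N37976 (iv1 F179351)) (tt N37979 F168006) (tt N35983 (iv2 F93718)) (tt N66116 (iv3 F203418)) (tt N19783 F93631) (tt N66117 D126512) (tt N18238 (iv6 D59355)) (tt N66118 D126513))
theorem Q35950 : ∀ i, i < 35950 → P i := stepQ 35949 Q35949 (allL N35949 (tt N66119 D126514) (tt N18239 (iv0 D59356)) (tt N66120 D126515) (tt N35989 F93729) (tt N66121 D126516) (tt N38939 (iv5 F99050)) (tt N66122 D126517) (tt N66123 D126518))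
theorem Q35951 : ∀ i, i < 35951 → P i := stepQ 35950 Q35950 (allL N35950 (tt N18239 (iv1 D59357)) (tt N66119 F203424) (tt N66123 (iv2 F203426)) (tt N66124 D126519) (tt N66125 D126520) (tt N66126 D126521) (tt N66127 D126522) (tt N66120 F203425))
theorem Q35952 : ∀ i, i < 35952 → P i := stepQ 35951 Q35951 (allL N35951 (tt N66120 (iv1 F203432)) (tt N66123 F203431) (tt N18239 (iv2 D59358)) (tt N35986 (iv3 F93720)) (tt N60984 (iv4 F332586)) (tt N66113 F203411) (tt N55843 (iv6 F161927)) (tt N66119 (iv7 F203423)))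
theorem Q35953 : ∀ i, i < 35953 → P i := stepQ 35952 Q35952 (allL N35952 (tt N35978 F93707) (tt N66115 (iv0 F203591)) (tt N66113 F203410) (tt N18240 F93632) (tt N66128 D126524) (tt N18239 (iv5 D59359)) (tt N66129 D126525) (tt N66114 (iv7 F203412)))
theorem Q35954 : ∀ i, i < 35954 → P i := stepQ 35953 Q35953 (allL N35953 (tt N66123 F203429) (tt N66120 F203430) (tt N66119 F203422) (tt N18241 F93633) (tt N38853 (iv4 F98900)) (tt N66114 (iv5 F203414)) (tt N66130 D126526) (tt N18239 (iv7 D59360)))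
theorem Q35955 : ∀ i, i < 35955 → P i := stepQ 35954 Q35954 (allL N35954 (tt N35993 (iv1 F93745)) (tt N18240 (iv0 D59361)) (tt N35989 F93726) (tt N66131 D126527) (tt N19812 F93635) (tt N19777 F93634) (tt N66132 D126528) (tt N35990 (iv7 F93731)))
theorem Q35956 : ∀ i, i < 35956 → P i := stepQ 35955 Q35955 (allL N35955 (tt N18240 (iv1 D59362)) (tt N35993 F93744) (tt N35990 F93734) (tt N66123 (iv3 F203427)) (tt N19813 F93637) (tt N19779 F93636) (tt N66133 D126529) (tt N35989 F93727))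
theorem Q35957 : ∀ i, i < 35957 → P i := stepQ 35956 Q35956 (allL N35956 (tt N18983 F93639) (tt N19794 F93640) (tt N35991 (iv2 F93735)) (tt N66134 D126530) (tt N18240 (iv4 D59363)) (tt N19618 F93638) (tt N66135 D126531) (tt N35965 (iv7 F93658)))
theorem Q35958 : ∀ i, i < 35958 → P i := stepQ 35957 Q35957 (allL N35957 (tt N61710 (iv1 F326947)) (tt N61714 (iv0 F326944)) (tt N35992 (iv2 F93740)) (tt N66129 (iv3 F203445)) (tt N66135 (iv4 F203452)) (tt N55847 (iv5 F161939)) (tt N18240 (iv6 D59364)) (tt N66136 D126534))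
theorem Q35959 : ∀ i, i < 35959 → P i := stepQ 35958 Q35958 (allL N35958 (tt N35990 (iv1 F93730)) (tt N35989 F93728) (tt N35993 (iv2 F93741)) (tt N66114 F203413) (tt N35965 (iv4 F93659)) (tt N18241 F93641) (tt N66137 D126535) (tt N18240 (iv7 D59365)))
theorem Q35960 : ∀ i, i < 35960 → P i := stepQ 35959 Q35959 (allL N35959 (tt N66138 D126536) (tt N66139 D126537) (tt N35994 (iv2 F93746)) (tt N66130 (iv3 F203446)) (tt N18242 F93642) (tt N66140 D126538) (tt N18241 (iv6 D59366)) (tt N37797 (iv7 F96602)))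
theorem Q35961 : ∀ i, i < 35961 → P i := stepQ 35960 Q35960 (allL N35960 (tt N18771 (iv1 F93643)) (tt N18242 (iv0 D59367)) (tt N18894 F101898) (tt N35995 F101899) (tt N66141 D126539) (tt N66142 D126540) (tt N66143 D126541) (tt N35995 F101900))
theorem Q35962 : ∀ i, i < 35962 → P i := stepQ 35961 Q35961 (allL N35961 (tt N18976 F93648) (tt N18978 F93649) (tt N19141 F93645) (tt N66144 D126542) (tt N18243 (iv4 D59369)) (tt N19816 F93647) (tt N66145 D126543) (tt N35927 F93646))
theorem Q35963 : ∀ i, i < 35963 → P i := stepQ 35962 Q35962 (allL N35962 (tt N37004 (iv1 F96464)) (tt N36761 (iv0 F95163)) (tt N19142 F93650) (tt N31389 F93651) (tt N66145 (iv4 F203473)) (tt N57520 (iv5 F167005)) (tt N18243 (iv6 D59370)) (tt N66146 D126544))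
theorem Q35964 : ∀ i, i < 35964 → P i := stepQ 35963 Q35963 (allL N35963 (tt N37108 F168437) (tt N66147 D126545) (tt N19160 F93652) (tt N31390 F93653) (tt N19811 F93654) (tt N55685 (iv5 F161394)) (tt N18245 (iv6 D59371)) (tt N66148 D126546))
theorem Q35965 : ∀ i, i < 35965 → P i := stepQ 35964 Q35964 (allL N35964 (tt N66149 D126547) (tt N66150 D126548) (tt N66151 D126549) (tt N18246 (iv3 D59372)) (tt N29607 F93655) (tt N56278 (iv5 F332601)) (tt N35924 F93656) (tt N38588 (iv7 F98446)))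
theorem Q35966 : ∀ i, i < 35966 → P i := stepQ 35965 Q35965 (allL N35965 (tt N19348 F93660) (tt N19827 F93661) (tt N35931 F93657) (tt N56278 (iv3 F332599)) (tt N35958 F93659) (tt N18246 (iv5 D59373)) (tt N56277 (iv6 F332593)) (tt N35956 F93658))
theorem Q35967 : ∀ i, i < 35967 → P i := stepQ 35966 Q35966 (allL N35966 (tt N32533 F328641) (tt N66152 D126552) (tt N35932 F93662) (tt N19186 F93663) (tt N38589 (iv4 F98447)) (tt N35966 F93664) (tt N18247 (iv6 D59374)) (tt N35926 F93665))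
theorem Q35968 : ∀ i, i < 35968 → P i := stepQ 35967 Q35967 (allL N35967 (tt N66153 D126553) (tt N66154 D126554) (tt N66155 D126555) (tt N18248 (iv3 D59375)) (tt N36978 (iv4 F95385)) (tt N66156 D126556) (tt N66157 D126557) (tt N35933 F93666))
theorem Q35969 : ∀ i, i < 35969 → P i := stepQ 35968 Q35968 (allL N35968 (tt N19784 F93670) (tt N19851 F93671) (tt N19230 F93667) (tt N66156 (iv3 F203528)) (tt N19348 F93668) (tt N18248 (iv5 D59376)) (tt N66158 D126558) (tt N35934 F93669))
theorem Q35970 : ∀ i, i < 35970 → P i := stepQ 35969 Q35969 (allL N35969 (tt N66159 D126559) (tt N36991 (iv0 F95396)) (tt N19231 F93672) (tt N66157 (iv3 F203530)) (tt N18249 F93673) (tt N66160 D126560) (tt N18248 (iv6 D59377)) (tt N66161 D126561))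
theorem Q35971 : ∀ i, i < 35971 → P i := stepQ 35970 Q35970 (allL N35970 (tt N19234 (iv1 F93676)) (tt N18249 (iv0 D59378)) (tt N19232 F93680) (tt N44325 (iv3 F171559)) (tt N66162 D126562) (tt N55864 (iv5 F161977)) (tt N36988 (iv6 F95394)) (tt N19195 F93679))
theorem Q35972 : ∀ i, i < 35972 → P i := stepQ 35971 Q35971 (allL N35971 (tt N19195 (iv1 F93677)) (tt N19232 F93683) (tt N19234 F93674) (tt N36889 F95298) (tt N66161 (iv4 F203539)) (tt N41569 (iv5 F104421)) (tt N35936 F93675) (tt N18249 (iv7 D59379)))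
theorem Q35973 : ∀ i, i < 35973 → P i := stepQ 35972 Q35972 (allL N35972 (tt N66163 D126563) (tt N66164 D126564) (tt N66165 D126565) (tt N18250 (iv3 D59380)) (tt N37089 (iv4 F95513)) (tt N66166 D126566) (tt N66167 D126567) (tt N35937 F93684))
theorem Q35974 : ∀ i, i < 35974 → P i := stepQ 35973 Q35973 (allL N35973 (tt N36894 (iv1 F95314)) (tt N37043 F95451) (tt N19274 F93685) (tt N66166 (iv3 F203552)) (tt N19737 F93686) (tt N18250 (iv5 D59381)) (tt N66168 D126568) (tt N35938 F93687))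
theorem Q35975 : ∀ i, i < 35975 → P i := stepQ 35974 Q35974 (allL N35974 (tt N66169 D126569) (tt N66170 D126570) (tt N19275 F93688) (tt N66167 (iv3 F203554)) (tt N18251 F93689) (tt N66171 D126571) (tt N18250 (iv6 D59382)) (tt N66172 D126572))
theorem Q35976 : ∀ i, i < 35976 → P i := stepQ 35975 Q35975 (allL N35975 (tt N19278 F93691) (tt N18251 (iv0 D59383)) (tt N19276 F202474) (tt N56520 (iv3 F168749)) (tt N66173 D126573) (tt N35771 F93690) (tt N66174 D126574) (tt N19277 F202475))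
theorem Q35977 : ∀ i, i < 35977 → P i := stepQ 35976 Q35976 (allL N35976 (tt N18251 (iv1 D59384)) (tt N19278 F93692) (tt N19277 F202485) (tt N36809 (iv3 F173179)) (tt N66175 D126575) (tt N35761 (iv5 F93696)) (tt N19254 (iv6 F93697)) (tt N19276 F202486))
theorem Q35978 : ∀ i, i < 35978 → P i := stepQ 35977 Q35977 (allL N35977 (tt N19277 (iv1 F93701)) (tt N19276 (iv0 F93703)) (tt N19278 F93698) (tt N37093 (iv3 F95522)) (tt N66172 (iv4 F203568)) (tt N31994 F93699) (tt N35942 F93700) (tt N18251 (iv7 D59385)))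
theorem Q35979 : ∀ i, i < 35979 → P i := stepQ 35978 Q35978 (allL N35978 (tt N66176 D126576) (tt N35952 (iv0 F93707)) (tt N66177 D126577) (tt N18252 (iv3 D59386)) (tt N19167 F93705) (tt N66178 D126578) (tt N66179 D126579) (tt N35946 F93706))
theorem Q35980 : ∀ i, i < 35980 → P i := stepQ 35979 Q35979 (allL N35979 (tt N37873 (iv1 F96813)) (tt N37875 (iv0 F96818)) (tt N35944 F93708) (tt N66178 (iv3 F203597)) (tt N19810 F93710) (tt N18252 (iv5 D59387)) (tt N66180 D126580) (tt N35947 F93709))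
theorem Q35981 : ∀ i, i < 35981 → P i := stepQ 35980 Q35980 (allL N35980 (tt N37050 F203290) (tt N37054 (iv0 F166285)) (tt N35945 F93711) (tt N66179 (iv3 F203600)) (tt N19789 F93712) (tt N66181 D126581) (tt N18252 (iv6 D59388)) (tt N66182 D126582))
theorem Q35982 : ∀ i, i < 35982 → P i := stepQ 35981 Q35981 (allL N35981 (tt N66183 D126583) (tt N66184 D126584) (tt N66185 D126585) (tt N18253 (iv3 D59389)) (tt N19711 F93713) (tt N66186 D126586) (tt N66187 D126587) (tt N35943 F93714))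
theorem Q35983 : ∀ i, i < 35983 → P i := stepQ 35982 Q35982 (allL N35982 (tt N37875 (iv1 F96819)) (tt N37873 (iv0 F96812)) (tt N35947 F93715) (tt N66186 (iv3 F203617)) (tt N19807 F93716) (tt N18253 (iv5 D59390)) (tt N66188 D126588) (tt N35944 F93717))
theorem Q35984 : ∀ i, i < 35984 → P i := stepQ 35983 Q35983 (allL N35983 (tt N66173 (iv1 F203574)) (tt N66175 (iv0 F203584)) (tt N35948 F93718) (tt N66187 (iv3 F203619)) (tt N19710 F93719) (tt N66189 D126589) (tt N18253 (iv6 D59391)) (tt N66190 D126590))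
theorem Q35985 : ∀ i, i < 35985 → P i := stepQ 35984 Q35984 (allL N35984 (tt N66191 D126591) (tt N18254 (iv0 D59392)) (tt N66192 D126592) (tt N66193 D126593) (tt N66194 D126594) (tt N66195 D126595) (tt N66196 D126596) (tt N66197 D126597))
theorem Q35986 : ∀ i, i < 35986 → P i := stepQ 35985 Q35985 (allL N35985 (tt N18254 (iv1 D59393)) (tt N66191 F203633) (tt N66197 (iv2 F203637)) (tt N66198 D126598) (tt N66199 D126599) (tt N66200 D126600) (tt N66201 D126601) (tt N66192 F203634))
theorem Q35987 : ∀ i, i < 35987 → P i := stepQ 35986 Q35986 (allL N35986 (tt N66192 (iv1 F208369)) (tt N66197 (iv0 F208377)) (tt N18254 (iv2 D59394)) (tt N35951 F93720) (tt N58948 (iv4 F171537)) (tt N37061 F95475) (tt N55850 (iv6 F161941)) (tt N66191 (iv7 F203632)))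
theorem Q35988 : ∀ i, i < 35988 → P i := stepQ 35987 Q35987 (allL N35987 (tt N66202 D126604) (tt N66198 (iv0 F208390)) (tt N37061 (iv2 F95474)) (tt N18255 F93721) (tt N19279 (iv4 F93725)) (tt N18254 (iv5 D59395)) (tt N37114 (iv6 F323885)) (tt N37058 F95468))
theorem Q35989 : ∀ i, i < 35989 → P i := stepQ 35988 Q35988 (allL N35988 (tt N66197 (iv1 F208378)) (tt N66192 (iv0 F208368)) (tt N66191 F203629) (tt N18256 F93722) (tt N38488 (iv4 F98367)) (tt N37058 F95467) (tt N66203 D126607) (tt N18254 (iv7 D59396)))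
theorem Q35990 : ∀ i, i < 35990 → P i := stepQ 35989 Q35989 (allL N35989 (tt N35958 (iv1 F93728)) (tt N18255 (iv0 D59397)) (tt N35954 (iv2 F93726)) (tt N35949 (iv3 F93729)) (tt N19816 F93724) (tt N19786 F93723) (tt N66204 D126608) (tt N35955 (iv7 F93727)))
theorem Q35991 : ∀ i, i < 35991 → P i := stepQ 35990 Q35990 (allL N35990 (tt N18255 (iv1 D59398)) (tt N35958 F93730) (tt N35955 (iv2 F93734)) (tt N66205 D126609) (tt N19815 F93733) (tt N19693 F93732) (tt N66206 D126610) (tt N35954 F93731))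
theorem Q35992 : ∀ i, i < 35992 → P i := stepQ 35991 Q35991 (allL N35991 (tt N19827 F93737) (tt N19348 F93738) (tt N35956 F93735) (tt N38005 F97177) (tt N18255 (iv4 D59399)) (tt N19736 F93736) (tt N66207 D126611) (tt N35931 F93739))
theorem Q35993 : ∀ i, i < 35993 → P i := stepQ 35992 Q35992 (allL N35992 (tt N66208 D126612) (tt N66209 D126613) (tt N35957 F93740) (tt N37114 F325151) (tt N66207 (iv4 F203659)) (tt N55853 (iv5 F161949)) (tt N18255 (iv6 D59400)) (tt N66210 D126614))
theorem Q35994 : ∀ i, i < 35994 → P i := stepQ 35993 Q35993 (allL N35993 (tt N35955 (iv1 F93744)) (tt N35954 F93745) (tt N35958 F93741) (tt N37058 (iv3 F95466)) (tt N35931 F93742) (tt N18256 F93743) (tt N66211 D126615) (tt N18255 (iv7 D59401)))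
theorem Q35995 : ∀ i, i < 35995 → P i := stepQ 35994 Q35994 (allL N35994 (tt N66212 D126616) (tt N66213 D126617) (tt N35959 F93746) (tt N66203 (iv3 F203649)) (tt N18257 F93747) (tt N66214 D126618) (tt N18256 (iv6 D59402)) (tt N36977 (iv7 F95384)))
theorem Q35996 : ∀ i, i < 35996 → P i := stepQ 35995 Q35995 (allL N35995 (tt N18257 (iv1 D59404)) (tt N19186 F93749) (tt N19336 F101878) (tt N35960 (iv3 F101899)) (tt N66215 D126619) (tt N66216 D126620) (tt N66217 D126621) (tt N35960 (iv7 F101900)))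
theorem Q35997 : ∀ i, i < 35997 → P i := stepQ 35996 Q35996 (allL N35996 (tt N66218 D126622) (tt N66219 D126623) (tt N66220 D126624) (tt N18258 (iv3 D59405)) (tt N31407 F93750) (tt N66221 D126625) (tt N44063 F325776) (tt N18301 F93751))
theorem Q35998 : ∀ i, i < 35998 → P i := stepQ 35997 Q35997 (allL N35997 (tt N39386 (iv1 F100068)) (tt N38649 (iv0 F98532)) (tt N18287 F93752) (tt N66221 (iv3 F203704)) (tt N19908 F93754) (tt N18258 (iv5 D59406)) (tt N66222 D126627) (tt N18302 F93753))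
theorem Q35999 : ∀ i, i < 35999 → P i := stepQ 35998 Q35998 (allL N35998 (tt N39407 (iv1 F111419)) (tt N39408 (iv0 F111418)) (tt N18288 F93755) (tt N44063 (iv3 F324660)) (tt N18259 F93756) (tt N66223 D126628) (tt N18258 (iv6 D59407)) (tt N49025 (iv7 F329369)))
theorem Q36000 : ∀ i, i < 36000 → P i := stepQ 35999 Q35999 (allL N35999 (tt N66224 D126629) (tt N66225 D126630) (tt N66226 D126631) (tt N18260 (iv3 D59411)) (tt N58057 (iv4 F168785)) (tt N66227 D126632) (tt N66228 D126633) (tt N18286 F93768))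
theorem Q36001 : ∀ i, i < 36001 → P i := stepQ 36000 Q36000 (allL N36000 (tt N38649 (iv1 F98533)) (tt N39386 (iv0 F100067)) (tt N18302 F93769) (tt N66227 (iv3 F203719)) (tt N19907 F93770) (tt N18260 (iv5 D59412)) (tt N66229 D126634) (tt N18287 F93771))
theorem Q36002 : ∀ i, i < 36002 → P i := stepQ 36001 Q36001 (allL N36001 (tt N39535 F100394) (tt N39538 F100412) (tt N18303 F93772) (tt N66228 (iv3 F203721)) (tt N18261 F93773) (tt N22471 (iv5 F331937)) (tt N18260 (iv6 D59413)) (tt N62694 (iv7 F183119)))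
theorem Q36003 : ∀ i, i < 36003 → P i := stepQ 36002 Q36002 (allL N36002 (tt N66230 D126636) (tt N65328 (iv0 F321554)) (tt N66231 D126638) (tt N18262 (iv3 D59414)) (tt N31421 F93774) (tt N66232 D126639) (tt N66233 D126640) (tt N18317 F93775))
theorem Q36004 : ∀ i, i < 36004 → P i := stepQ 36003 Q36003 (allL N36003 (tt N36045 (iv1 F93862)) (tt N36042 (iv0 F93856)) (tt N18309 F93776) (tt N66232 (iv3 F203738)) (tt N19900 F93778) (tt N18262 (iv5 D59415)) (tt N66234 D126641) (tt N18318 F93777))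
theorem Q36005 : ∀ i, i < 36005 → P i := stepQ 36004 Q36004 (allL N36004 (tt N57017 F165227) (tt N62363 (iv0 F180908)) (tt N18310 F93779) (tt N66233 (iv3 F203775)) (tt N18263 F93780) (tt N58188 (iv5 F330499)) (tt N18262 (iv6 D59416)) (tt N66235 D126643))
theorem Q36006 : ∀ i, i < 36006 → P i := stepQ 36005 Q36005 (allL N36005 (tt N18263 (iv1 D59418)) (tt N18314 F93781) (tt N18312 F162106) (tt N55863 F162107) (tt N39606 F162108) (tt N66143 (iv5 F203466)) (tt N66236 D126644) (tt N18311 F162109))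
theorem Q36007 : ∀ i, i < 36007 → P i := stepQ 36006 Q36006 (allL N36006 (tt N18312 (iv1 F93786)) (tt N18311 F93787) (tt N18314 F93782) (tt N31427 F93783) (tt N66235 (iv4 F203781)) (tt N36890 (iv5 F95307)) (tt N18323 F93784) (tt N18263 (iv7 D59419)))
theorem Q36008 : ∀ i, i < 36008 → P i := stepQ 36007 Q36007 (allL N36007 (tt N36042 (iv1 F93857)) (tt N36045 (iv0 F93861)) (tt N18318 F93788) (tt N62057 (iv3 F179901)) (tt N19896 F93789) (tt N18264 (iv5 D59420)) (tt N66237 D126645) (tt N18309 F93790))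
theorem Q36009 : ∀ i, i < 36009 → P i := stepQ 36008 Q36008 (allL N36008 (tt N66238 D126646) (tt N57067 F166205) (tt N18319 F93791) (tt N34233 F336272) (tt N18265 F93792) (tt N66239 D126647) (tt N18264 (iv6 D59421)) (tt N66240 D126648))
theorem Q36010 : ∀ i, i < 36010 → P i := stepQ 36009 Q36009 (allL N36009 (tt N18323 (iv1 F93797)) (tt N18265 (iv0 D59422)) (tt N18320 F166112) (tt N55867 F166069) (tt N66241 D126649) (tt N55867 (iv5 F161989)) (tt N58873 (iv6 F171204)) (tt N18321 F166113))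
theorem Q36011 : ∀ i, i < 36011 → P i := stepQ 36010 Q36010 (allL N36010 (tt N18321 (iv1 F93798)) (tt N18320 F93799) (tt N18323 F93794) (tt N62065 (iv3 F179926)) (tt N66240 (iv4 F203797)) (tt N30593 F93795) (tt N18314 F93796) (tt N18265 (iv7 D59424)))
theorem Q36012 : ∀ i, i < 36012 → P i := stepQ 36011 Q36011 (allL N36011 (tt N66242 D126650) (tt N66243 D126651) (tt N66244 D126652) (tt N18266 (iv3 D59425)) (tt N36674 (iv4 F95004)) (tt N66245 D126653) (tt N66246 D126654) (tt N18324 F93800))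
theorem Q36013 : ∀ i, i < 36013 → P i := stepQ 36012 Q36012 (allL N36012 (tt N36036 (iv1 F93843)) (tt N33338 F325026) (tt N18328 F93801) (tt N66245 (iv3 F203811)) (tt N19885 F93802) (tt N18266 (iv5 D59426)) (tt N36936 (iv6 F325999)) (tt N18325 F93803))
theorem Q36014 : ∀ i, i < 36014 → P i := stepQ 36013 Q36013 (allL N36013 (tt N66241 (iv1 F203803)) (tt N56012 F162296) (tt N18329 F93805) (tt N66246 (iv3 F203813)) (tt N29927 F93806) (tt N63256 (iv5 F327814)) (tt N18266 (iv6 D59427)) (tt N66247 D126657))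
theorem Q36015 : ∀ i, i < 36015 → P i := stepQ 36014 Q36014 (allL N36014 (tt N66248 D126658) (tt N18267 (iv0 D59428)) (tt N66249 D126659) (tt N57136 F165426) (tt N66250 D126660) (tt N40659 F359100) (tt N66251 D126662) (tt N66252 D126663))
theorem Q36016 : ∀ i, i < 36016 → P i := stepQ 36015 Q36015 (allL N36015 (tt N18267 (iv1 D59429)) (tt N66248 F203826) (tt N66252 (iv2 F203828)) (tt N66253 D126664) (tt N66254 D126665) (tt N40658 F359095) (tt N66255 D126667) (tt N66249 F203827))
theorem Q36017 : ∀ i, i < 36017 → P i := stepQ 36016 Q36016 (allL N36016 (tt N66249 (iv1 F359085)) (tt N66252 (iv0 F359106)) (tt N18267 (iv2 D59430)) (tt N18332 F93807) (tt N55871 (iv4 F162000)) (tt N66256 D126670) (tt N35455 F319240) (tt N66248 (iv7 F203825)))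
theorem Q36018 : ∀ i, i < 36018 → P i := stepQ 36017 Q36017 (allL N36017 (tt N39378 (iv1 F338723)) (tt N66257 D126672) (tt N66256 (iv2 F203832)) (tt N18268 F93808) (tt N66258 D126673) (tt N18267 (iv5 D59431)) (tt N66259 D126674) (tt N20183 (iv7 F93809)))
theorem Q36019 : ∀ i, i < 36019 → P i := stepQ 36018 Q36018 (allL N36018 (tt N66252 (iv1 F359107)) (tt N66249 (iv0 F359084)) (tt N66248 F203823) (tt N18269 F93810) (tt N55873 (iv4 F162003)) (tt N20183 F93811) (tt N66260 D126675) (tt N18267 (iv7 D59432)))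
theorem Q36020 : ∀ i, i < 36020 → P i := stepQ 36019 Q36019 (allL N36019 (tt N18268 (iv1 D59433)) (tt N18339 F93812) (tt N18336 (iv2 F93816)) (tt N66261 D126676) (tt N19871 F93815) (tt N19875 F93814) (tt N38913 F327365) (tt N18335 F93813))
theorem Q36021 : ∀ i, i < 36021 → P i := stepQ 36020 Q36020 (allL N36020 (tt N38868 F338469) (tt N38883 F338470) (tt N18338 F93817) (tt N66259 (iv3 F203841)) (tt N20188 F93818) (tt N57315 (iv5 F166043)) (tt N18268 (iv6 D59434)) (tt N38881 F337837))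
theorem Q36022 : ∀ i, i < 36022 → P i := stepQ 36021 Q36021 (allL N36021 (tt N39845 F100715) (tt N57406 F166381) (tt N18340 F93819) (tt N66260 (iv3 F203842)) (tt N18270 F93820) (tt N45768 (iv5 F320714)) (tt N18269 (iv6 D59435)) (tt N57316 (iv7 F166046)))
theorem Q36023 : ∀ i, i < 36023 → P i := stepQ 36022 Q36022 (allL N36022 (tt N30598 F93823) (tt N66262 D126682) (tt N20802 F93821) (tt N38701 (iv3 F98671)) (tt N33081 F93822) (tt N57717 (iv5 F167619)) (tt N18271 (iv6 D59436)) (tt N66263 D126683))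
theorem Q36024 : ∀ i, i < 36024 → P i := stepQ 36023 Q36023 (allL N36023 (tt N66264 D126684) (tt N66265 D126685) (tt N66266 D126686) (tt N18272 (iv3 D59437)) (tt N18286 F93824) (tt N61813 (iv5 F179547)) (tt N66267 D126687) (tt N58057 (iv7 F168787)))
theorem Q36025 : ∀ i, i < 36025 → P i := stepQ 36024 Q36024 (allL N36024 (tt N20415 F101952) (tt N39491 (iv0 F111275)) (tt N60363 (iv2 F176280)) (tt N66267 (iv3 F203870)) (tt N18273 F93825) (tt N66268 D126688) (tt N18272 (iv6 D59438)) (tt N61897 (iv7 F179648)))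
theorem Q36026 : ∀ i, i < 36026 → P i := stepQ 36025 Q36025 (allL N36025 (tt N60364 (iv1 F176290)) (tt N18273 (iv0 D59439)) (tt N57972 (iv2 F168664)) (tt N20791 F111430) (tt N33090 F111431) (tt N30371 F111432) (tt N57320 (iv6 F166209)) (tt N20830 F111433))
theorem Q36027 : ∀ i, i < 36027 → P i := stepQ 36026 Q36026 (allL N36026 (tt N18273 (iv1 D59440)) (tt N60364 F176289) (tt N20830 F111439) (tt N57867 F167971) (tt N33091 (iv4 F165010)) (tt N36032 (iv5 F93835)) (tt N66269 D126689) (tt N57972 (iv7 F168666)))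
theorem Q36028 : ∀ i, i < 36028 → P i := stepQ 36027 Q36027 (allL N36027 (tt N20830 F111379) (tt N57972 (iv0 F168667)) (tt N60364 (iv2 F176285)) (tt N18291 F93826) (tt N61897 (iv4 F179645)) (tt N65456 (iv5 F201776)) (tt N58059 (iv6 F168795)) (tt N18273 (iv7 D59441)))
theorem Q36029 : ∀ i, i < 36029 → P i := stepQ 36028 Q36028 (allL N36028 (tt N55996 F162246) (tt N65462 F201785) (tt N21007 F93827) (tt N31398 F93828) (tt N39152 (iv4 F99527)) (tt N36028 F93829) (tt N18276 (iv6 D59442)) (tt N37794 (iv7 F96595)))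
theorem Q36030 : ∀ i, i < 36030 → P i := stepQ 36029 Q36029 (allL N36029 (tt N60107 F175579) (tt N66270 D126690) (tt N21013 F93830) (tt N31406 F93831) (tt N39118 (iv4 F99435)) (tt N31666 F93832) (tt N18277 (iv6 D59443)) (tt N66271 D126691))
theorem Q36031 : ∀ i, i < 36031 → P i := stepQ 36030 Q36030 (allL N36030 (tt N66272 D126692) (tt N66273 D126693) (tt N66274 D126694) (tt N18278 (iv3 D59444)) (tt N57865 (iv4 F167961)) (tt N20179 F93833) (tt N66275 D126695) (tt N58073 (iv7 F168837)))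
theorem Q36032 : ∀ i, i < 36032 → P i := stepQ 36031 Q36031 (allL N36031 (tt N20037 F111425) (tt N20039 F111426) (tt N55877 (iv2 F162010)) (tt N66275 (iv3 F203889)) (tt N18279 F93834) (tt N66276 D126696) (tt N18278 (iv6 D59445)) (tt N62246 (iv7 F180438)))
theorem Q36033 : ∀ i, i < 36033 → P i := stepQ 36032 Q36032 (allL N36032 (tt N55878 (iv1 F162029)) (tt N18279 (iv0 D59446)) (tt N31477 (iv2 F111436)) (tt N31410 F111437) (tt N39127 F111438) (tt N36026 F93835) (tt N65450 (iv6 F201741)) (tt N39481 F111440))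
theorem Q36034 : ∀ i, i < 36034 → P i := stepQ 36033 Q36033 (allL N36033 (tt N66277 D126697) (tt N57208 (iv0 F165800)) (tt N32148 F93836) (tt N31400 F93837) (tt N44173 (iv4 F111029)) (tt N18279 (iv5 D59448)) (tt N18280 F93838) (tt N66278 D126698))
theorem Q36035 : ∀ i, i < 36035 → P i := stepQ 36034 Q36034 (allL N36034 (tt N39481 (iv1 F111442)) (tt N31477 F111443) (tt N55878 (iv2 F162024)) (tt N57868 (iv3 F167976)) (tt N62246 (iv4 F180435)) (tt N66278 (iv5 F203898)) (tt N57235 F165864) (tt N18279 (iv7 D59449)))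
theorem Q36036 : ∀ i, i < 36036 → P i := stepQ 36035 Q36035 (allL N36035 (tt N66279 D126699) (tt N66280 D126700) (tt N66281 D126701) (tt N18282 (iv3 D59450)) (tt N55883 (iv4 F162032)) (tt N66282 D126702) (tt N66283 D126703) (tt N39371 (iv7 F100048)))
theorem Q36037 : ∀ i, i < 36037 → P i := stepQ 36036 Q36036 (allL N36036 (tt N20089 F93842) (tt N36012 F93843) (tt N20845 F93840) (tt N66282 (iv3 F203903)) (tt N20016 F93841) (tt N18282 (iv5 D59451)) (tt N66284 D126704) (tt N36136 (iv7 F94003)))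
theorem Q36038 : ∀ i, i < 36038 → P i := stepQ 36037 Q36037 (allL N36037 (tt N66285 D126705) (tt N66286 D126706) (tt N20846 F93844) (tt N66283 (iv3 F203904)) (tt N18283 F93845) (tt N66287 D126707) (tt N18282 (iv6 D59452)) (tt N66288 D126708))
theorem Q36039 : ∀ i, i < 36039 → P i := stepQ 36038 Q36038 (allL N36038 (tt N20849 (iv1 F93851)) (tt N18283 (iv0 D59453)) (tt N20847 F171862) (tt N40340 (iv3 F168900)) (tt N42127 F332105) (tt N35891 F93846) (tt N36174 (iv6 F94035)) (tt N20848 F171863))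
theorem Q36040 : ∀ i, i < 36040 → P i := stepQ 36039 Q36039 (allL N36039 (tt N18283 (iv1 D59454)) (tt N20849 F93847) (tt N20848 F171866) (tt N62622 F182856) (tt N66289 D126710) (tt N35899 (iv5 F93848)) (tt N57331 (iv6 F166234)) (tt N20847 F171867))
theorem Q36041 : ∀ i, i < 36041 → P i := stepQ 36040 Q36040 (allL N36040 (tt N20848 (iv1 F93852)) (tt N20847 F93853) (tt N20849 F93849) (tt N55888 (iv3 F162049)) (tt N66288 (iv4 F203918)) (tt N31269 F93850) (tt N44483 (iv6 F112245)) (tt N18283 (iv7 D59455)))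
theorem Q36042 : ∀ i, i < 36042 → P i := stepQ 36041 Q36041 (allL N36041 (tt N66290 D126711) (tt N66291 D126712) (tt N66292 D126713) (tt N18284 (iv3 D59456)) (tt N20446 F93854) (tt N66293 D126714) (tt N66294 D126715) (tt N39397 (iv7 F100103)))
theorem Q36043 : ∀ i, i < 36043 → P i := stepQ 36042 Q36042 (allL N36042 (tt N36003 F93856) (tt N36007 F93857) (tt N36097 F93952) (tt N66293 (iv3 F203930)) (tt N20103 F93855) (tt N18284 (iv5 D59457)) (tt N66295 D126716) (tt N36096 F93947))
theorem Q36044 : ∀ i, i < 36044 → P i := stepQ 36043 Q36043 (allL N36043 (tt N42127 F332104) (tt N66289 (iv0 F203928)) (tt N39393 (iv2 F100086)) (tt N66294 (iv3 F203931)) (tt N19980 F93858) (tt N66296 D126717) (tt N18284 (iv6 D59458)) (tt N66297 D126718))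
theorem Q36045 : ∀ i, i < 36045 → P i := stepQ 36044 Q36044 (allL N36044 (tt N66298 D126719) (tt N66299 D126720) (tt N65143 (iv2 F330920)) (tt N18285 (iv3 D59459)) (tt N21018 F93859) (tt N37353 F330915) (tt N24678 (iv6 F330924)) (tt N39392 (iv7 F100085)))
theorem Q36046 : ∀ i, i < 36046 → P i := stepQ 36045 Q36045 (allL N36045 (tt N36007 F93861) (tt N36003 F93862) (tt N36096 F93946) (tt N37353 F330914) (tt N20104 F93860) (tt N18285 (iv5 D59460)) (tt N37351 (iv6 F330916)) (tt N36097 (iv7 F93949)))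
theorem Q36047 : ∀ i, i < 36047 → P i := stepQ 36046 Q36046 (allL N36046 (tt N57307 F166011) (tt N57355 F166284) (tt N39398 (iv2 F100104)) (tt N24678 F330931) (tt N19981 F93863) (tt N24677 (iv5 F330940)) (tt N18285 (iv6 D59461)) (tt N57353 F166282))
theorem Q36048 : ∀ i, i < 36048 → P i := stepQ 36047 Q36047 (allL N36047 (tt N66226 (iv1 F203716)) (tt N18286 (iv0 D59462)) (tt N66225 (iv2 F203952)) (tt N66300 D126727) (tt N66301 D126728) (tt N66302 D126729) (tt N66303 D126730) (tt N66224 F203950))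
theorem Q36049 : ∀ i, i < 36049 → P i := stepQ 36048 Q36048 (allL N36048 (tt N18286 (iv1 D59463)) (tt N66226 F203718) (tt N66224 (iv2 F203951)) (tt N66304 D126731) (tt N66305 D126732) (tt N66306 D126733) (tt N66307 D126734) (tt N66225 (iv7 F203953)))
theorem Q36050 : ∀ i, i < 36050 → P i := stepQ 36049 Q36049 (allL N36049 (tt N66225 (iv1 F203717)) (tt N66224 F203712) (tt N18286 (iv2 D59464)) (tt N66220 (iv3 F203699)) (tt N66266 (iv4 F203869)) (tt N66308 D126735) (tt N66309 D126736) (tt N66226 (iv7 F203715)))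
theorem Q36051 : ∀ i, i < 36051 → P i := stepQ 36050 Q36050 (allL N36050 (tt N66310 D126737) (tt N66311 D126738) (tt N66308 (iv2 F203964)) (tt N18287 F93864) (tt N66312 D126739) (tt N18286 (iv5 D59465)) (tt N66313 D126740) (tt N66227 (iv7 F203720)))
theorem Q36052 : ∀ i, i < 36052 → P i := stepQ 36051 Q36051 (allL N36051 (tt N66314 D126741) (tt N66315 D126742) (tt N66309 (iv2 F203965)) (tt N18288 F93865) (tt N66267 (iv4 F203871)) (tt N66316 D126743) (tt N18286 (iv6 D59466)) (tt N66317 D126744))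
theorem Q36053 : ∀ i, i < 36053 → P i := stepQ 36052 Q36052 (allL N36052 (tt N18302 (iv1 F93868)) (tt N18287 (iv0 D59467)) (tt N39386 (iv2 F100064)) (tt N66318 D126745) (tt N31357 F93867) (tt N18307 F93866) (tt N66319 D126746) (tt N38649 (iv7 F98530)))
theorem Q36054 : ∀ i, i < 36054 → P i := stepQ 36053 Q36053 (allL N36053 (tt N66320 D126747) (tt N66321 D126748) (tt N66222 (iv2 F203708)) (tt N66313 (iv3 F203967)) (tt N20182 F93869) (tt N66322 D126749) (tt N18287 (iv6 D59468)) (tt N66323 D126750))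
theorem Q36055 : ∀ i, i < 36055 → P i := stepQ 36054 Q36054 (allL N36054 (tt N49025 F329607) (tt N18288 (iv0 D59469)) (tt N39407 F111349) (tt N66324 D126751) (tt N19986 F111289) (tt N66325 D126752) (tt N57342 F166256) (tt N39408 F111345))
theorem Q36056 : ∀ i, i < 36056 → P i := stepQ 36055 Q36055 (allL N36055 (tt N18288 (iv1 D59470)) (tt N49025 F329606) (tt N39408 F111351) (tt N66326 D126753) (tt N19987 F111352) (tt N66327 D126754) (tt N66328 D126755) (tt N39407 F111353))
theorem Q36057 : ∀ i, i < 36057 → P i := stepQ 36056 Q36056 (allL N36056 (tt N66329 D126756) (tt N66330 D126757) (tt N66223 (iv2 F203710)) (tt N66316 (iv3 F203968)) (tt N66331 D126758) (tt N18288 (iv5 D59471)) (tt N66322 (iv6 F203972)) (tt N66332 D126759))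
theorem Q36058 : ∀ i, i < 36058 → P i := stepQ 36057 Q36057 (allL N36057 (tt N39408 F111382) (tt N39407 F111383) (tt N49025 F329608) (tt N66317 (iv3 F203969)) (tt N18291 F93870) (tt N66332 (iv5 F203978)) (tt N62694 (iv6 F183118)) (tt N18288 (iv7 D59472)))
theorem Q36059 : ∀ i, i < 36059 → P i := stepQ 36058 Q36058 (allL N36058 (tt N39381 F111273) (tt N20001 F111274) (tt N20885 (iv2 F101944)) (tt N63800 (iv3 F324657)) (tt N18289 (iv4 D59475)) (tt N44103 (iv5 F324658)) (tt N57345 (iv6 F166260)) (tt N39379 F111372))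
theorem Q36060 : ∀ i, i < 36060 → P i := stepQ 36059 Q36059 (allL N36059 (tt N30615 (iv1 F93883)) (tt N18290 (iv0 D59482)) (tt N20893 F162097) (tt N55907 F162098) (tt N66333 D126762) (tt N55907 (iv5 F162094)) (tt N66334 D126763) (tt N30614 F162099))
theorem Q36061 : ∀ i, i < 36061 → P i := stepQ 36060 Q36060 (allL N36060 (tt N66335 D126764) (tt N66336 D126765) (tt N30613 F93878) (tt N66337 D126766) (tt N18290 (iv4 D59484)) (tt N66338 D126767) (tt N18292 F93879) (tt N66339 D126768))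
theorem Q36062 : ∀ i, i < 36062 → P i := stepQ 36061 Q36061 (allL N36061 (tt N30614 (iv1 F93884)) (tt N20893 (iv0 F101917)) (tt N30615 F93880) (tt N65456 (iv3 F201774)) (tt N66339 (iv4 F204001)) (tt N18291 F93881) (tt N30609 F93882) (tt N18290 (iv7 D59485)))
theorem Q36063 : ∀ i, i < 36063 → P i := stepQ 36062 Q36062 (allL N36062 (tt N66340 D126769) (tt N66341 D126770) (tt N66342 D126771) (tt N18292 (iv3 D59486)) (tt N19965 F93890) (tt N60317 (iv5 F176183)) (tt N66337 (iv6 F203998)) (tt N30604 F93891))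
theorem Q36064 : ∀ i, i < 36064 → P i := stepQ 36063 Q36063 (allL N36063 (tt N57531 (iv1 F167051)) (tt N57534 (iv0 F167062)) (tt N30612 F93892) (tt N60317 F176181) (tt N44169 (iv4 F111017)) (tt N18292 (iv5 D59487)) (tt N66343 D126772) (tt N30605 F93893))
theorem Q36065 : ∀ i, i < 36065 → P i := stepQ 36064 Q36064 (allL N36064 (tt N59487 F172993) (tt N20432 (iv0 F93897)) (tt N31415 F93894) (tt N35632 F93895) (tt N40425 (iv4 F101700)) (tt N30824 F93896) (tt N18293 (iv6 D59488)) (tt N60694 (iv7 F176720)))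
theorem Q36066 : ∀ i, i < 36066 → P i := stepQ 36065 Q36065 (allL N36065 (tt N19565 F93901) (tt N57349 F166277) (tt N21009 F93898) (tt N39450 (iv3 F100297)) (tt N33262 F93899) (tt N31383 F93900) (tt N18295 (iv6 D59489)) (tt N57348 (iv7 F166271)))
theorem Q36067 : ∀ i, i < 36067 → P i := stepQ 36066 Q36066 (allL N36066 (tt N66344 D126773) (tt N66345 D126774) (tt N66346 D126775) (tt N18296 (iv3 D59490)) (tt N18301 F93902) (tt N66347 D126776) (tt N43759 F329623) (tt N31407 F93903))
theorem Q36068 : ∀ i, i < 36068 → P i := stepQ 36067 Q36067 (allL N36067 (tt N19529 F93907) (tt N20301 F93908) (tt N31417 F93904) (tt N66347 (iv3 F204026)) (tt N31627 F93906) (tt N18296 (iv5 D59491)) (tt N35152 F336752) (tt N31408 F93905))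
theorem Q36069 : ∀ i, i < 36069 → P i := stepQ 36068 Q36068 (allL N36068 (tt N35054 F329223) (tt N31711 (iv0 F93911)) (tt N31418 F93909) (tt N43759 (iv3 F329522)) (tt N18297 F93910) (tt N24381 (iv5 F329523)) (tt N18296 (iv6 D59492)) (tt N24380 F329224))
theorem Q36070 : ∀ i, i < 36070 → P i := stepQ 36069 Q36069 (allL N36069 (tt N31420 (iv1 F93915)) (tt N18297 (iv0 D59493)) (tt N21030 (iv2 F93912)) (tt N39564 F100427) (tt N33271 (iv4 F104325)) (tt N59590 (iv5 F173194)) (tt N66348 D126780) (tt N31419 F93913))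
theorem Q36071 : ∀ i, i < 36071 → P i := stepQ 36070 Q36070 (allL N36070 (tt N31419 (iv1 F93919)) (tt N21030 F93920) (tt N31420 F93916) (tt N18305 F93917) (tt N24380 (iv4 F329211)) (tt N58866 (iv5 F171187)) (tt N31412 F93918) (tt N18297 (iv7 D59494)))
theorem Q36072 : ∀ i, i < 36072 → P i := stepQ 36071 Q36071 (allL N36071 (tt N66349 D126781) (tt N66350 D126782) (tt N66351 D126783) (tt N18299 (iv3 D59495)) (tt N55857 (iv4 F161959)) (tt N20181 F93921) (tt N66352 D126784) (tt N55876 (iv7 F162009)))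
theorem Q36073 : ∀ i, i < 36073 → P i := stepQ 36072 Q36072 (allL N36072 (tt N20076 F93923) (tt N20078 F99507) (tt N58074 (iv2 F168838)) (tt N66352 (iv3 F204038)) (tt N18300 F93922) (tt N66353 D126785) (tt N18299 (iv6 D59496)) (tt N58611 (iv7 F169750)))
theorem Q36074 : ∀ i, i < 36074 → P i := stepQ 36073 Q36073 (allL N36073 (tt N18300 (iv1 D59498)) (tt N57235 F165861) (tt N21033 F93925) (tt N31419 F93926) (tt N39143 (iv4 F99502)) (tt N59588 (iv5 F173176)) (tt N30576 (iv6 F93924)) (tt N39564 (iv7 F100426)))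
theorem Q36075 : ∀ i, i < 36075 → P i := stepQ 36074 Q36074 (allL N36074 (tt N21033 (iv1 F93928)) (tt N39564 F100428) (tt N57235 F165860) (tt N21057 F93927) (tt N58611 F169751) (tt N58769 (iv5 F170721)) (tt N55878 (iv6 F162027)) (tt N18300 (iv7 D59499)))
theorem Q36076 : ∀ i, i < 36076 → P i := stepQ 36075 Q36075 (allL N36075 (tt N66220 (iv1 F203702)) (tt N18301 (iv0 D59500)) (tt N66219 (iv2 F203696)) (tt N66354 D126786) (tt N66355 D126787) (tt N66356 D126788) (tt N66357 D126789) (tt N66218 F203697))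
theorem Q36077 : ∀ i, i < 36077 → P i := stepQ 36076 Q36076 (allL N36076 (tt N18301 (iv1 D59501)) (tt N66220 F203703) (tt N66218 F203695) (tt N37034 F323539) (tt N40114 (iv4 F101163)) (tt N37033 (iv5 F324039)) (tt N42146 F336319) (tt N66219 (iv7 F203694)))
theorem Q36078 : ∀ i, i < 36078 → P i := stepQ 36077 Q36077 (allL N36077 (tt N66219 (iv1 F203698)) (tt N66218 F203692) (tt N18301 (iv2 D59502)) (tt N66226 (iv3 F203714)) (tt N66346 (iv4 F204021)) (tt N66358 D126793) (tt N66359 D126794) (tt N66220 (iv7 F203701)))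
theorem Q36079 : ∀ i, i < 36079 → P i := stepQ 36078 Q36078 (allL N36078 (tt N66360 D126795) (tt N66361 D126796) (tt N66358 (iv2 F204047)) (tt N18302 F93929) (tt N60581 (iv4 F176609)) (tt N18301 (iv5 D59503)) (tt N38084 F347003) (tt N66221 (iv7 F203705)))
theorem Q36080 : ∀ i, i < 36080 → P i := stepQ 36079 Q36079 (allL N36079 (tt N66362 D126798) (tt N43711 (iv0 F329830)) (tt N66359 (iv2 F204048)) (tt N18303 F93930) (tt N43759 F329714) (tt N66363 D126800) (tt N18301 (iv6 D59504)) (tt N49021 F329715))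
theorem Q36081 : ∀ i, i < 36081 → P i := stepQ 36080 Q36080 (allL N36080 (tt N66364 D126802) (tt N66365 D126803) (tt N66229 (iv2 F203722)) (tt N38084 F347002) (tt N20180 F93931) (tt N65321 (iv5 F331977)) (tt N18302 (iv6 D59505)) (tt N66366 D126805))
theorem Q36082 : ∀ i, i < 36082 → P i := stepQ 36081 Q36081 (allL N36081 (tt N62694 (iv1 F183120)) (tt N18303 (iv0 D59506)) (tt N39535 (iv2 F100392)) (tt N66367 D126806) (tt N32045 F93932) (tt N66368 D126807) (tt N66369 D126808) (tt N39538 (iv7 F100409)))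
theorem Q36083 : ∀ i, i < 36083 → P i := stepQ 36082 Q36082 (allL N36082 (tt N18303 (iv1 D59507)) (tt N62694 (iv0 F183121)) (tt N39538 (iv2 F100407)) (tt N66370 D126809) (tt N20472 (iv4 F100396)) (tt N66371 D126810) (tt N37243 F100397) (tt N39535 F100395))
theorem Q36084 : ∀ i, i < 36084 → P i := stepQ 36083 Q36083 (allL N36083 (tt N66372 D126811) (tt N56122 (iv0 F331973)) (tt N22471 F331945) (tt N66363 (iv3 F204052)) (tt N22458 (iv4 F331976)) (tt N18303 (iv5 D59508)) (tt N65321 (iv6 F331978)) (tt N22474 (iv7 F331947)))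
theorem Q36085 : ∀ i, i < 36085 → P i := stepQ 36084 Q36084 (allL N36084 (tt N39538 F100410) (tt N39535 (iv0 F100393)) (tt N62694 (iv2 F183117)) (tt N49021 (iv3 F329678)) (tt N18305 F93933) (tt N22474 (iv5 F331946)) (tt N49025 F329498) (tt N18303 (iv7 D59509)))
theorem Q36086 : ∀ i, i < 36086 → P i := stepQ 36085 Q36085 (allL N36085 (tt N20060 F166350) (tt N62696 F183128) (tt N21064 F93934) (tt N66373 D126815) (tt N18304 (iv4 D59510)) (tt N66374 D126816) (tt N38164 (iv6 F97568)) (tt N62695 (iv7 F183123)))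
theorem Q36087 : ∀ i, i < 36087 → P i := stepQ 36086 Q36086 (allL N36086 (tt N62045 (iv1 F179877)) (tt N18306 (iv0 D59511)) (tt N62044 F179867) (tt N31488 (iv3 F165195)) (tt N33133 (iv4 F165193)) (tt N60897 (iv5 F328379)) (tt N57208 (iv6 F165796)) (tt N56008 F165196))
theorem Q36088 : ∀ i, i < 36088 → P i := stepQ 36087 Q36087 (allL N36087 (tt N18306 (iv1 D59512)) (tt N62045 F179876) (tt N56008 F179779) (tt N66375 D126818) (tt N33134 F179780) (tt N66376 D126819) (tt N66377 D126820) (tt N62044 (iv7 F179869)))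
theorem Q36089 : ∀ i, i < 36089 → P i := stepQ 36088 Q36088 (allL N36088 (tt N19142 F93937) (tt N66146 F203481) (tt N36761 (iv2 F95161)) (tt N18313 F93935) (tt N37315 (iv4 F95796)) (tt N18306 (iv5 D59513)) (tt N19223 F93936) (tt N37004 (iv7 F95404)))
theorem Q36090 : ∀ i, i < 36090 → P i := stepQ 36089 Q36089 (allL N36089 (tt N56008 F179213) (tt N62044 F179870) (tt N62045 (iv2 F179871)) (tt N18314 F93938) (tt N61788 (iv4 F179509)) (tt N37004 (iv5 F95403)) (tt N62065 (iv6 F179929)) (tt N18306 (iv7 D59514)))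
theorem Q36091 : ∀ i, i < 36091 → P i := stepQ 36090 Q36090 (allL N36090 (tt N66378 D126821) (tt N66379 D126822) (tt N66380 D126823) (tt N18307 (iv3 D59515)) (tt N20416 F93939) (tt N66318 (iv5 F203970)) (tt N65855 (iv6 F351689)) (tt N38648 (iv7 F98528)))
theorem Q36092 : ∀ i, i < 36092 → P i := stepQ 36091 Q36091 (allL N36091 (tt N57410 F171830) (tt N57408 (iv0 F166387)) (tt N39387 (iv2 F100069)) (tt N65855 (iv3 F351687)) (tt N19979 F93940) (tt N65854 (iv5 F351045)) (tt N18307 (iv6 D59516)) (tt N57360 (iv7 F166297)))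
theorem Q36093 : ∀ i, i < 36093 → P i := stepQ 36092 Q36092 (allL N36092 (tt N62053 (iv1 F179893)) (tt N18308 (iv0 D59517)) (tt N62056 (iv2 F218817)) (tt N66381 D126827) (tt N66382 D126828) (tt N66310 (iv5 F233516)) (tt N66383 D126830) (tt N62055 (iv7 F218815)))
theorem Q36094 : ∀ i, i < 36094 → P i := stepQ 36093 Q36093 (allL N36093 (tt N18308 (iv1 D59518)) (tt N62053 F179891) (tt N62055 (iv2 F218814)) (tt N66384 D126832) (tt N66385 D126833) (tt N66311 (iv5 F347037)) (tt N57362 (iv6 F351557)) (tt N62056 (iv7 F218818)))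
theorem Q36095 : ∀ i, i < 36095 → P i := stepQ 36094 Q36094 (allL N36094 (tt N62056 (iv1 F179898)) (tt N62055 F179897) (tt N18308 (iv2 D59519)) (tt N66231 (iv3 F203733)) (tt N61786 (iv4 F179497)) (tt N66386 D126836) (tt N57291 (iv6 F330506)) (tt N62053 (iv7 F179890)))
theorem Q36096 : ∀ i, i < 36096 → P i := stepQ 36095 Q36095 (allL N36095 (tt N66387 D126838) (tt N66388 D126839) (tt N66386 (iv2 F204081)) (tt N18309 F93941) (tt N66389 D126840) (tt N18308 (iv5 D59520)) (tt N58192 (iv6 F351669)) (tt N62057 (iv7 F179902)))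
theorem Q36097 : ∀ i, i < 36097 → P i := stepQ 36096 Q36096 (allL N36096 (tt N18318 (iv1 F93945)) (tt N18309 (iv0 D59522)) (tt N36045 (iv2 F93946)) (tt N66390 D126846) (tt N20019 F93944) (tt N19998 F93943) (tt N66391 D126847) (tt N36042 (iv7 F93947)))
theorem Q36098 : ∀ i, i < 36098 → P i := stepQ 36097 Q36097 (allL N36097 (tt N18309 (iv1 D59523)) (tt N18318 F93948) (tt N36042 (iv2 F93952)) (tt N66392 D126848) (tt N20023 F93951) (tt N19996 F93950) (tt N66393 D126849) (tt N36045 F93949))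
theorem Q36099 : ∀ i, i < 36099 → P i := stepQ 36098 Q36098 (allL N36098 (tt N66394 D126850) (tt N66395 D126851) (tt N66234 (iv2 F203777)) (tt N58192 (iv3 F351668)) (tt N20158 F93953) (tt N58189 (iv5 F330503)) (tt N18309 (iv6 D59524)) (tt N66396 D126853))
theorem Q36100 : ∀ i, i < 36100 → P i := stepQ 36099 Q36099 (allL N36099 (tt N66235 (iv1 F203784)) (tt N18310 (iv0 D59525)) (tt N57017 (iv2 F165225)) (tt N66397 D126854) (tt N20091 F102189) (tt N66398 D126855) (tt N57383 F167750) (tt N62363 (iv7 F180907)))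
theorem Q36101 : ∀ i, i < 36101 → P i := stepQ 36100 Q36100 (allL N36100 (tt N18310 (iv1 D59526)) (tt N66235 F203783) (tt N62363 (iv2 F180906)) (tt N47321 (iv3 F332387)) (tt N20092 F165194) (tt N66399 D126857) (tt N47320 F332386) (tt N57017 (iv7 F165226)))
theorem Q36102 : ∀ i, i < 36102 → P i := stepQ 36101 Q36101 (allL N36101 (tt N62363 F180909) (tt N57017 F179212) (tt N66235 (iv2 F203780)) (tt N57288 (iv3 F330508)) (tt N18314 F93954) (tt N57287 (iv5 F330504)) (tt N66240 (iv6 F203798)) (tt N18310 (iv7 D59528)))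
theorem Q36103 : ∀ i, i < 36103 → P i := stepQ 36102 Q36102 (allL N36102 (tt N39608 F102080) (tt N18326 F102081) (tt N39605 F102078) (tt N66400 D126863) (tt N18311 (iv4 D59531)) (tt N66401 D126864) (tt N44110 (iv6 F321639)) (tt N39606 (iv7 F102084)))
theorem Q36104 : ∀ i, i < 36104 → P i := stepQ 36103 Q36103 (allL N36103 (tt N66402 D126865) (tt N66104 (iv0 F203401)) (tt N56011 (iv2 F162267)) (tt N55939 (iv3 F162194)) (tt N66403 D126866) (tt N18311 (iv5 D59532)) (tt N55939 (iv6 F162195)) (tt N66143 F203468))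
theorem Q36105 : ∀ i, i < 36105 → P i := stepQ 36104 Q36104 (allL N36104 (tt N18326 F98731) (tt N39608 F100490) (tt N39606 F102082) (tt N40642 (iv3 F102339)) (tt N18312 (iv4 D59535)) (tt N45929 (iv5 F320720)) (tt N66404 D126868) (tt N39605 F102079))
theorem Q36106 : ∀ i, i < 36106 → P i := stepQ 36105 Q36105 (allL N36105 (tt N66104 (iv1 F203402)) (tt N66402 F204106) (tt N66143 (iv2 F203464)) (tt N18349 F101868) (tt N66405 D126869) (tt N18312 (iv5 D59536)) (tt N18894 (iv6 F101872)) (tt N56011 (iv7 F162270)))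
theorem Q36107 : ∀ i, i < 36107 → P i := stepQ 36106 Q36106 (allL N36106 (tt N37051 F95462) (tt N37055 (iv0 F175215)) (tt N66236 (iv2 F203785)) (tt N18350 F101869) (tt N66404 (iv4 F204108)) (tt N36927 (iv5 F101875)) (tt N18312 (iv6 D59537)) (tt N57386 (iv7 F166333)))
theorem Q36108 : ∀ i, i < 36108 → P i := stepQ 36107 Q36107 (allL N36107 (tt N38460 F98337) (tt N66406 D126870) (tt N36888 (iv2 F95293)) (tt N66407 D126871) (tt N18313 (iv4 D59538)) (tt N66408 D126872) (tt N19224 F93958) (tt N37005 (iv7 F95405)))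
theorem Q36109 : ∀ i, i < 36109 → P i := stepQ 36108 Q36108 (allL N36108 (tt N66409 D126873) (tt N66410 D126874) (tt N66411 D126875) (tt N18315 (iv3 D59540)) (tt N18317 F93960) (tt N66412 D126876) (tt N66413 D126877) (tt N31421 F93961))
theorem Q36110 : ∀ i, i < 36110 → P i := stepQ 36109 Q36109 (allL N36109 (tt N30907 F93965) (tt N33259 F93966) (tt N31430 F93962) (tt N66412 (iv3 F204120)) (tt N31617 F93964) (tt N18315 (iv5 D59541)) (tt N66414 D126878) (tt N31422 F93963))
theorem Q36111 : ∀ i, i < 36111 → P i := stepQ 36110 Q36110 (allL N36110 (tt N62399 (iv1 F181188)) (tt N62400 (iv0 F181193)) (tt N31431 F93967) (tt N66413 (iv3 F204122)) (tt N18316 F93968) (tt N66415 D126879) (tt N18315 (iv6 D59542)) (tt N62421 (iv7 F181230)))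
theorem Q36112 : ∀ i, i < 36112 → P i := stepQ 36111 Q36111 (allL N36111 (tt N31435 (iv1 F93973)) (tt N18316 (iv0 D59543)) (tt N31432 (iv2 F166457)) (tt N39681 (iv3 F166470)) (tt N33348 (iv4 F166465)) (tt N40706 F166463) (tt N66416 D126880) (tt N31433 (iv7 F166459)))
theorem Q36113 : ∀ i, i < 36113 → P i := stepQ 36112 Q36112 (allL N36112 (tt N18316 (iv1 D59544)) (tt N31435 F93969) (tt N31433 F166458) (tt N30404 F166138) (tt N33349 F166139) (tt N40710 F166140) (tt N57412 (iv6 F166492)) (tt N31432 F166456))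
theorem Q36114 : ∀ i, i < 36114 → P i := stepQ 36113 Q36113 (allL N36113 (tt N31433 (iv1 F93974)) (tt N31432 F93975) (tt N31435 F93970) (tt N18323 F93971) (tt N62421 (iv4 F181227)) (tt N38696 (iv5 F98663)) (tt N31427 F93972) (tt N18316 (iv7 D59545)))
theorem Q36115 : ∀ i, i < 36115 → P i := stepQ 36114 Q36114 (allL N36114 (tt N66231 (iv1 F203736)) (tt N18317 (iv0 D59546)) (tt N65328 (iv2 F321556)) (tt N66417 D126881) (tt N66418 D126882) (tt N66360 F204050) (tt N57378 (iv6 F336324)) (tt N66230 F203731))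
theorem Q36116 : ∀ i, i < 36116 → P i := stepQ 36115 Q36115 (allL N36115 (tt N18317 (iv1 D59547)) (tt N66231 F203737) (tt N66230 F203729) (tt N38254 F320657) (tt N40530 (iv4 F101822)) (tt N66361 (iv5 F336591)) (tt N47792 (iv6 F323654)) (tt N65328 (iv7 F321558)))
theorem Q36117 : ∀ i, i < 36117 → P i := stepQ 36116 Q36116 (allL N36116 (tt N65328 (iv1 F321555)) (tt N66230 F203725) (tt N18317 (iv2 D59548)) (tt N62053 F179892) (tt N66411 (iv4 F204115)) (tt N66419 D126887) (tt N66420 D126888) (tt N66231 (iv7 F203735)))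
theorem Q36118 : ∀ i, i < 36118 → P i := stepQ 36117 Q36117 (allL N36117 (tt N66421 D126889) (tt N36185 F325894) (tt N66419 (iv2 F204140)) (tt N18318 F93976) (tt N60703 (iv4 F176741)) (tt N18317 (iv5 D59549)) (tt N37842 (iv6 F326708)) (tt N66232 (iv7 F203739)))
theorem Q36119 : ∀ i, i < 36119 → P i := stepQ 36118 Q36118 (allL N36118 (tt N66422 D126892) (tt N66423 D126893) (tt N66420 (iv2 F204144)) (tt N18319 F93977) (tt N66413 (iv4 F204123)) (tt N38372 F329083) (tt N18317 (iv6 D59550)) (tt N66424 D126895))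
theorem Q36120 : ∀ i, i < 36120 → P i := stepQ 36119 Q36119 (allL N36119 (tt N38143 (iv1 F327895)) (tt N66425 D126897) (tt N66237 (iv2 F203789)) (tt N37842 F327379) (tt N20149 F93978) (tt N38370 (iv5 F327907)) (tt N18318 (iv6 D59551)) (tt N66426 D126899))
theorem Q36121 : ∀ i, i < 36121 → P i := stepQ 36120 Q36120 (allL N36120 (tt N66240 (iv1 F203800)) (tt N18319 (iv0 D59552)) (tt N66238 F203792) (tt N47260 (iv3 F331924)) (tt N56350 F166135) (tt N47256 (iv5 F331925)) (tt N66427 D126902) (tt N57067 (iv7 F166136)))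
theorem Q36122 : ∀ i, i < 36122 → P i := stepQ 36121 Q36121 (allL N36121 (tt N18319 (iv1 D59553)) (tt N66240 F203799) (tt N57067 F166476) (tt N66428 D126903) (tt N20615 F166477) (tt N66429 D126904) (tt N57369 F166478) (tt N66238 (iv7 F203793)))
theorem Q36123 : ∀ i, i < 36123 → P i := stepQ 36122 Q36122 (allL N36122 (tt N66430 D126905) (tt N66431 D126906) (tt N66239 (iv2 F203795)) (tt N38372 (iv3 F328680)) (tt N66432 D126907) (tt N18319 (iv5 D59554)) (tt N38370 F328286) (tt N66433 D126908))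
theorem Q36124 : ∀ i, i < 36124 → P i := stepQ 36123 Q36123 (allL N36123 (tt N57067 F166204) (tt N66238 F203794) (tt N66240 (iv2 F203796)) (tt N66424 (iv3 F204147)) (tt N18323 F93979) (tt N66433 (iv5 F204154)) (tt N66235 (iv6 F203782)) (tt N18319 (iv7 D59555)))
theorem Q36125 : ∀ i, i < 36125 → P i := stepQ 36124 Q36124 (allL N36124 (tt N66247 (iv1 F203821)) (tt N18329 F166116) (tt N66241 (iv2 F203801)) (tt N23586 (iv3 F323259)) (tt N18320 (iv4 D59558)) (tt N22466 (iv5 F324258)) (tt N22469 F322781) (tt N56012 F166118))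
theorem Q36126 : ∀ i, i < 36126 → P i := stepQ 36125 Q36125 (allL N36125 (tt N57409 F166389) (tt N66028 (iv0 F203127)) (tt N58873 (iv2 F171202)) (tt N18360 F166119) (tt N22469 (iv4 F321022)) (tt N21069 (iv5 F166122)) (tt N18320 (iv6 D59560)) (tt N57376 (iv7 F166319)))
theorem Q36127 : ∀ i, i < 36127 → P i := stepQ 36126 Q36126 (allL N36126 (tt N18329 F166134) (tt N66247 F203820) (tt N56012 F166141) (tt N66434 D126911) (tt N18321 (iv4 D59563)) (tt N66435 D126912) (tt N57373 (iv6 F166314)) (tt N66241 (iv7 F203802)))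
theorem Q36128 : ∀ i, i < 36128 → P i := stepQ 36127 Q36127 (allL N36127 (tt N18322 (iv1 D59567)) (tt N30593 F93986) (tt N30592 (iv2 F111399)) (tt N44464 (iv3 F112186)) (tt N66436 D126913) (tt N30456 (iv5 F93987)) (tt N66437 D126914) (tt N30591 F111405))
theorem Q36129 : ∀ i, i < 36129 → P i := stepQ 36128 Q36128 (allL N36128 (tt N66438 D126915) (tt N66439 D126916) (tt N30590 F93988) (tt N66440 D126917) (tt N18322 (iv4 D59568)) (tt N66441 D126918) (tt N30568 F93989) (tt N66442 D126919))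
theorem Q36130 : ∀ i, i < 36130 → P i := stepQ 36129 Q36129 (allL N36129 (tt N30592 (iv1 F93994)) (tt N30591 F93995) (tt N30593 F93990) (tt N38696 (iv3 F98662)) (tt N66442 (iv4 F204176)) (tt N18323 F93991) (tt N20867 F93992) (tt N18322 (iv7 D59569)))
theorem Q36131 : ∀ i, i < 36131 → P i := stepQ 36130 Q36130 (allL N36130 (tt N66244 (iv1 F203808)) (tt N18324 (iv0 D59570)) (tt N66243 (iv2 F359997)) (tt N62050 F179888) (tt N66443 D126921) (tt N66444 D126922) (tt N66445 D126923) (tt N66242 (iv7 F359996)))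
theorem Q36132 : ∀ i, i < 36132 → P i := stepQ 36131 Q36131 (allL N36131 (tt N18324 (iv1 D59571)) (tt N66244 F203810) (tt N66242 (iv2 F359993)) (tt N66446 D126925) (tt N66447 D126926) (tt N66448 D126927) (tt N57387 (iv6 F355420)) (tt N66243 (iv7 F359998)))
theorem Q36133 : ∀ i, i < 36133 → P i := stepQ 36132 Q36132 (allL N36132 (tt N66243 (iv1 F203809)) (tt N66242 F203805) (tt N18324 (iv2 D59572)) (tt N39601 (iv3 F100472)) (tt N66449 D126929) (tt N66450 D126930) (tt N66451 D126931) (tt N66244 (iv7 F203807)))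
theorem Q36134 : ∀ i, i < 36134 → P i := stepQ 36133 Q36133 (allL N36133 (tt N62478 F181751) (tt N66452 D126932) (tt N66449 (iv2 F204183)) (tt N18642 F93996) (tt N18324 (iv4 D59573)) (tt N66453 D126933) (tt N66454 D126934) (tt N36674 (iv7 F95005)))
theorem Q36135 : ∀ i, i < 36135 → P i := stepQ 36134 Q36134 (allL N36134 (tt N66455 D126935) (tt N66456 D126936) (tt N66450 (iv2 F204185)) (tt N18325 F93997) (tt N66457 D126937) (tt N18324 (iv5 D59574)) (tt N66458 D126938) (tt N66245 (iv7 F203812)))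
theorem Q36136 : ∀ i, i < 36136 → P i := stepQ 36135 Q36135 (allL N36135 (tt N60092 (iv1 F347898)) (tt N66459 D126940) (tt N66451 (iv2 F204187)) (tt N18326 F93998) (tt N66454 (iv4 F204191)) (tt N60359 (iv5 F355462)) (tt N18324 (iv6 D59575)) (tt N66460 D126942))
theorem Q36137 : ∀ i, i < 36137 → P i := stepQ 36136 Q36136 (allL N36136 (tt N18328 (iv1 F94002)) (tt N18325 (iv0 D59576)) (tt N33338 F325028) (tt N40660 F325029) (tt N20148 F94000) (tt N19982 F93999) (tt N36947 (iv6 F326000)) (tt N36036 F94003))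
theorem Q36138 : ∀ i, i < 36138 → P i := stepQ 36137 Q36137 (allL N36137 (tt N66461 D126945) (tt N36968 (iv0 F336498)) (tt N39604 (iv2 F100482)) (tt N66458 (iv3 F204193)) (tt N20128 F94004) (tt N66462 D126947) (tt N18325 (iv6 D59577)) (tt N66463 D126948))
theorem Q36139 : ∀ i, i < 36139 → P i := stepQ 36138 Q36138 (allL N36138 (tt N58199 (iv1 F325251)) (tt N58201 (iv0 F325254)) (tt N39607 (iv2 F100485)) (tt N60359 (iv3 F355461)) (tt N66464 D126951) (tt N18326 (iv5 D59580)) (tt N66462 (iv6 F204200)) (tt N66465 D126952))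
theorem Q36140 : ∀ i, i < 36140 → P i := stepQ 36139 Q36139 (allL N36139 (tt N39606 (iv1 F100484)) (tt N39605 F100489) (tt N39608 (iv2 F100486)) (tt N66460 (iv3 F204195)) (tt N39598 (iv4 F100465)) (tt N66465 (iv5 F204204)) (tt N66247 (iv6 F203819)) (tt N18326 (iv7 D59581)))
theorem Q36141 : ∀ i, i < 36141 → P i := stepQ 36140 Q36140 (allL N36140 (tt N39601 (iv1 F100475)) (tt N18327 (iv0 D59582)) (tt N39600 F161457) (tt N66466 D126953) (tt N39774 (iv4 F100667)) (tt N55698 F161455) (tt N57393 (iv6 F346582)) (tt N39599 (iv7 F161456)))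
theorem Q36142 : ∀ i, i < 36142 → P i := stepQ 36141 Q36141 (allL N36141 (tt N18327 (iv1 D59583)) (tt N39601 F100477) (tt N39599 (iv2 F161458)) (tt N66467 D126955) (tt N39699 (iv4 F100588)) (tt N60776 (iv5 F176864)) (tt N66468 D126956) (tt N39600 F161459))
theorem Q36143 : ∀ i, i < 36143 → P i := stepQ 36142 Q36142 (allL N36142 (tt N39600 (iv1 F100476)) (tt N39599 F100471) (tt N18327 (iv2 D59584)) (tt N66244 (iv3 F203806)) (tt N39168 (iv4 F99556)) (tt N66469 D126957) (tt N46216 (iv6 F327825)) (tt N39601 (iv7 F100474)))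
theorem Q36144 : ∀ i, i < 36144 → P i := stepQ 36143 Q36143 (allL N36143 (tt N32482 (iv1 F114384)) (tt N66470 D126959) (tt N66469 (iv2 F204207)) (tt N18328 F94005) (tt N45023 (iv4 F114381)) (tt N18327 (iv5 D59585)) (tt N23022 F325738) (tt N39602 (iv7 F100479)))
theorem Q36145 : ∀ i, i < 36145 → P i := stepQ 36144 Q36144 (allL N36144 (tt N24592 (iv1 F327826)) (tt N46213 (iv0 F327827)) (tt N46216 (iv2 F327824)) (tt N18329 F94006) (tt N39170 (iv4 F99564)) (tt N23023 (iv5 F327816)) (tt N18327 (iv6 D59586)) (tt N46217 (iv7 F327828)))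
theorem Q36146 : ∀ i, i < 36146 → P i := stepQ 36145 Q36145 (allL N36145 (tt N18949 (iv1 F326568)) (tt N36938 (iv0 F326569)) (tt N36936 (iv2 F325998)) (tt N23022 F325737) (tt N20105 F94007) (tt N19639 (iv5 F326570)) (tt N18328 (iv6 D59587)) (tt N36937 (iv7 F326571)))
theorem Q36147 : ∀ i, i < 36147 → P i := stepQ 36146 Q36146 (allL N36146 (tt N66471 D126969) (tt N66472 D126970) (tt N63256 (iv2 F327813)) (tt N23023 (iv3 F327815)) (tt N66473 D126971) (tt N18329 (iv5 D59590)) (tt N19639 F327311) (tt N66474 D126972))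
theorem Q36148 : ∀ i, i < 36148 → P i := stepQ 36147 Q36147 (allL N36147 (tt N56012 F162295) (tt N66241 (iv0 F203804)) (tt N66247 (iv2 F203817)) (tt N46217 F328239) (tt N39165 (iv4 F99552)) (tt N66474 (iv5 F204227)) (tt N39608 (iv6 F100488)) (tt N18329 (iv7 D59591)))
theorem Q36149 : ∀ i, i < 36149 → P i := stepQ 36148 Q36148 (allL N36148 (tt N18331 (iv1 F94011)) (tt N18330 (iv0 D59592)) (tt N18334 (iv2 F94008)) (tt N66248 (iv3 F203822)) (tt N18362 F94009) (tt N37127 (iv5 F321963)) (tt N34641 (iv6 F318512)) (tt N18332 F94010))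
theorem Q36150 : ∀ i, i < 36150 → P i := stepQ 36149 Q36149 (allL N36149 (tt N66467 F204206) (tt N66475 D126975) (tt N66476 D126976) (tt N18330 (iv3 D59594)) (tt N40294 F101516) (tt N37026 (iv5 F322574)) (tt N66477 D126978) (tt N37025 (iv7 F322575)))
theorem Q36151 : ∀ i, i < 36151 → P i := stepQ 36150 Q36150 (allL N36150 (tt N34384 (iv1 F321545)) (tt N40642 (iv0 F321546)) (tt N31961 F324570) (tt N66477 (iv3 F204237)) (tt N34379 (iv4 F321150)) (tt N31958 F324571) (tt N18330 (iv6 D59597)) (tt N44097 (iv7 F321547)))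
theorem Q36152 : ∀ i, i < 36152 → P i := stepQ 36151 Q36151 (allL N36151 (tt N48117 F351323) (tt N62050 (iv0 F224449)) (tt N66478 D126991) (tt N18331 (iv3 D59599)) (tt N61983 (iv4 F326825)) (tt N19240 (iv5 F324737)) (tt N66029 (iv6 F326829)) (tt N35775 F325969))
theorem Q36153 : ∀ i, i < 36153 → P i := stepQ 36152 Q36152 (allL N36152 (tt N23586 F323273) (tt N66479 D126997) (tt N37029 F323274) (tt N66029 (iv3 F326827)) (tt N43330 (iv4 F321151)) (tt N19241 (iv5 F324679)) (tt N18331 (iv6 D59601)) (tt N58676 (iv7 F348341)))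
theorem Q36154 : ∀ i, i < 36154 → P i := stepQ 36153 Q36153 (allL N36153 (tt N36183 (iv1 F322092)) (tt N36184 (iv0 F322103)) (tt N18333 F94015) (tt N66256 (iv3 F203833)) (tt N19617 (iv4 F323653)) (tt N18332 (iv5 D59603)) (tt N19264 F322002) (tt N37127 F322003))
theorem Q36155 : ∀ i, i < 36155 → P i := stepQ 36154 Q36154 (allL N36154 (tt N37127 F322425) (tt N18333 (iv0 D59604)) (tt N36183 F322426) (tt N66480 D127004) (tt N29686 (iv4 F323864)) (tt N40241 F182037) (tt N36183 F322427) (tt N36184 F322428))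
theorem Q36156 : ∀ i, i < 36156 → P i := stepQ 36155 Q36155 (allL N36155 (tt N18333 (iv1 D59605)) (tt N37127 F322915) (tt N36184 F322916) (tt N66481 D127007) (tt N19339 (iv4 F324377)) (tt N40242 (iv5 F162514)) (tt N19337 (iv6 F324378)) (tt N36183 F322917))
theorem Q36157 : ∀ i, i < 36157 → P i := stepQ 36156 Q36156 (allL N36156 (tt N36184 (iv1 F322104)) (tt N36183 (iv0 F322091)) (tt N37127 F321999) (tt N18339 F94017) (tt N19624 F322000) (tt N18334 F94018) (tt N19285 F322001) (tt N18333 (iv7 D59608)))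
theorem Q36158 : ∀ i, i < 36158 → P i := stepQ 36157 Q36157 (allL N36157 (tt N66444 (iv1 F382339)) (tt N66448 (iv0 F355419)) (tt N66482 D127025) (tt N18335 (iv3 D59610)) (tt N66483 D127026) (tt N20000 F94021) (tt N66484 D127027) (tt N66261 (iv7 F203844)))
theorem Q36159 : ∀ i, i < 36159 → P i := stepQ 36158 Q36158 (allL N36158 (tt N20183 F336109) (tt N66256 F336110) (tt N39378 (iv2 F100057)) (tt N66484 (iv3 F204267)) (tt N20071 F94022) (tt N66280 (iv5 F331748)) (tt N18335 (iv6 D59611)) (tt N66257 (iv7 F338721)))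
theorem Q36160 : ∀ i, i < 36160 → P i := stepQ 36159 Q36159 (allL N36159 (tt N55698 (iv1 F161454)) (tt N60776 (iv0 F176865)) (tt N60783 F176878) (tt N18336 (iv3 D59612)) (tt N50277 (iv4 F139388)) (tt N20059 F94023) (tt N66485 D127032) (tt N39376 (iv7 F100054)))
theorem Q36161 : ∀ i, i < 36161 → P i := stepQ 36160 Q36160 (allL N36160 (tt N19642 (iv1 F326671)) (tt N38864 (iv0 F326672)) (tt N38913 (iv2 F326673)) (tt N66485 (iv3 F204270)) (tt N20032 F94024) (tt N65315 F325866) (tt N18336 (iv6 D59613)) (tt N38914 (iv7 F326674)))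
theorem Q36162 : ∀ i, i < 36162 → P i := stepQ 36161 Q36161 (allL N36161 (tt N66486 D127037) (tt N66487 D127038) (tt N66488 D127039) (tt N18337 (iv3 D59614)) (tt N38777 F325100) (tt N19906 F94025) (tt N38776 F325101) (tt N19905 F94026))
theorem Q36163 : ∀ i, i < 36163 → P i := stepQ 36162 Q36162 (allL N36162 (tt N38806 F337830) (tt N42540 F321115) (tt N20188 F94027) (tt N38776 (iv3 F324675)) (tt N18338 F94028) (tt N66489 D127043) (tt N18337 (iv6 D59615)) (tt N66490 D127044))
theorem Q36164 : ∀ i, i < 36164 → P i := stepQ 36163 Q36163 (allL N36163 (tt N18338 (iv1 D59617)) (tt N38881 (iv0 F337832)) (tt N38883 (iv2 F337833)) (tt N66491 D127051) (tt N42536 F337831) (tt N46021 (iv5 F337852)) (tt N38897 (iv6 F337834)) (tt N38868 (iv7 F337835)))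
theorem Q36165 : ∀ i, i < 36165 → P i := stepQ 36164 Q36164 (allL N36164 (tt N38883 (iv1 F338467)) (tt N38868 (iv0 F338468)) (tt N38881 F337838) (tt N19263 F323272) (tt N66490 (iv4 F204285)) (tt N57404 (iv5 F166378)) (tt N37128 (iv6 F323862)) (tt N18338 (iv7 D59618)))
theorem Q36166 : ∀ i, i < 36166 → P i := stepQ 36165 Q36165 (allL N36165 (tt N66492 D127056) (tt N19636 (iv0 F333830)) (tt N20184 F94029) (tt N19285 F322424) (tt N19909 F94030) (tt N34619 F322422) (tt N18339 (iv6 D59619)) (tt N37128 (iv7 F323863)))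
theorem Q36167 : ∀ i, i < 36167 → P i := stepQ 36166 Q36166 (allL N36166 (tt N57316 F166048) (tt N18340 (iv0 D59620)) (tt N39845 (iv2 F100716)) (tt N66493 D127059) (tt N39367 (iv4 F163985)) (tt N65062 (iv5 F345347)) (tt N66494 D127061) (tt N57406 (iv7 F166382)))
theorem Q36168 : ∀ i, i < 36168 → P i := stepQ 36167 Q36167 (allL N36167 (tt N18340 (iv1 D59621)) (tt N57316 F166047) (tt N57406 F166380) (tt N66495 D127062) (tt N39212 (iv4 F99645)) (tt N65063 (iv5 F345351)) (tt N66496 D127064) (tt N39845 (iv7 F100714)))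
theorem Q36169 : ∀ i, i < 36169 → P i := stepQ 36168 Q36168 (allL N36168 (tt N32151 (iv1 F168125)) (tt N31246 (iv0 F168124)) (tt N60055 F175400) (tt N18341 (iv3 D59624)) (tt N44292 F111536) (tt N66497 D127068) (tt N66498 D127069) (tt N57407 F171841))
theorem Q36170 : ∀ i, i < 36170 → P i := stepQ 36169 Q36169 (allL N36169 (tt N57360 F166298) (tt N39387 (iv0 F168126)) (tt N57410 (iv2 F171930)) (tt N66499 D127070) (tt N18341 (iv4 D59625)) (tt N66500 D127071) (tt N66501 D127072) (tt N57408 (iv7 F171931)))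
theorem Q36171 : ∀ i, i < 36171 → P i := stepQ 36170 Q36170 (allL N36170 (tt N66502 D127073) (tt N33486 (iv0 F101935)) (tt N57411 (iv2 F171856)) (tt N66497 (iv3 F204301)) (tt N66503 D127074) (tt N18341 (iv5 D59626)) (tt N37006 (iv6 F95406)) (tt N41217 F171858))
theorem Q36172 : ∀ i, i < 36172 → P i := stepQ 36171 Q36171 (allL N36171 (tt N66236 F203788) (tt N57386 (iv0 F166339)) (tt N37055 (iv2 F171917)) (tt N66498 (iv3 F204303)) (tt N66501 (iv4 F204305)) (tt N35941 F94033) (tt N18341 (iv6 D59627)) (tt N37051 (iv7 F171916)))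
theorem Q36173 : ∀ i, i < 36173 → P i := stepQ 36172 Q36172 (allL N36172 (tt N31398 F166987) (tt N31403 (iv0 F166985)) (tt N31450 F171846) (tt N18342 (iv3 D59629)) (tt N59273 (iv4 F172442)) (tt N66504 D127075) (tt N64578 (iv6 F332925)) (tt N31449 F171847))
theorem Q36174 : ∀ i, i < 36174 → P i := stepQ 36173 Q36173 (allL N36173 (tt N39387 F166984) (tt N57360 F166986) (tt N57408 F171932) (tt N66505 D127076) (tt N18342 (iv4 D59630)) (tt N66506 D127077) (tt N66038 (iv6 F203155)) (tt N57410 (iv7 F171853)))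
theorem Q36175 : ∀ i, i < 36175 → P i := stepQ 36174 Q36174 (allL N36174 (tt N33486 F112196) (tt N66502 F204309) (tt N41217 F171855) (tt N66504 (iv3 F204313)) (tt N66507 D127078) (tt N18342 (iv5 D59631)) (tt N36038 F94035) (tt N57411 (iv7 F171854)))
theorem Q36176 : ∀ i, i < 36176 → P i := stepQ 36175 Q36175 (allL N36175 (tt N31427 F103602) (tt N31395 (iv0 F102036)) (tt N31424 (iv2 F103608)) (tt N18343 (iv3 D59633)) (tt N40517 F101811) (tt N66508 D127079) (tt N53524 (iv6 F329698)) (tt N31425 (iv7 F103605)))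
theorem Q36177 : ∀ i, i < 36177 → P i := stepQ 36176 Q36176 (allL N36176 (tt N30279 F102037) (tt N29939 F103601) (tt N30276 F103598) (tt N66509 D127080) (tt N18343 (iv4 D59634)) (tt N66510 D127081) (tt N65470 (iv6 F201807)) (tt N30277 (iv7 F103599)))
theorem Q36178 : ∀ i, i < 36178 → P i := stepQ 36177 Q36177 (allL N36177 (tt N60894 (iv1 F328772)) (tt N37731 (iv0 F96531)) (tt N31500 F103611) (tt N66508 (iv3 F204318)) (tt N55671 (iv4 F329142)) (tt N18343 (iv5 D59635)) (tt N56007 (iv6 F162261)) (tt N31501 (iv7 F103612)))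
theorem Q36179 : ∀ i, i < 36179 → P i := stepQ 36178 Q36178 (allL N36178 (tt N29939 F96435) (tt N30279 F96436) (tt N30277 (iv2 F103600)) (tt N66511 D127085) (tt N18344 (iv4 D59638)) (tt N66512 D127086) (tt N66513 D127087) (tt N30276 (iv7 F103597)))
theorem Q36180 : ∀ i, i < 36180 → P i := stepQ 36179 Q36179 (allL N36179 (tt N37082 (iv1 F100264)) (tt N31533 (iv0 F96449)) (tt N31502 (iv2 F103533)) (tt N60895 (iv3 F328413)) (tt N66513 (iv4 F204333)) (tt N36737 (iv5 F95137)) (tt N18344 (iv6 D59640)) (tt N65469 (iv7 F201803)))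
theorem Q36181 : ∀ i, i < 36181 → P i := stepQ 36180 Q36180 (allL N36180 (tt N56699 F164605) (tt N57028 (iv0 F165242)) (tt N31504 F94039) (tt N66514 D127089) (tt N18345 (iv4 D59641)) (tt N66515 D127090) (tt N19130 F94040) (tt N36777 (iv7 F95183)))
theorem Q36182 : ∀ i, i < 36182 → P i := stepQ 36181 Q36181 (allL N36181 (tt N55964 F163623) (tt N33117 (iv0 F102035)) (tt N55938 (iv2 F162191)) (tt N40641 (iv3 F102333)) (tt N18347 (iv4 D59645)) (tt N66516 D127091) (tt N41428 (iv6 F321596)) (tt N55940 (iv7 F162196)))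
theorem Q36183 : ∀ i, i < 36183 → P i := stepQ 36182 Q36182 (allL N36182 (tt N37977 F162047) (tt N37938 (iv0 F162115)) (tt N55939 (iv2 F162193)) (tt N18348 F94041) (tt N66517 D127092) (tt N18347 (iv5 D59646)) (tt N56011 (iv6 F162269)) (tt N38107 F97379))
theorem Q36184 : ∀ i, i < 36184 → P i := stepQ 36183 Q36183 (allL N36183 (tt N36156 F322091) (tt N36153 F322092) (tt N36154 (iv2 F322426)) (tt N66518 D127093) (tt N18348 (iv4 D59647)) (tt N40662 (iv5 F102370)) (tt N36154 (iv6 F322427)) (tt N36155 (iv7 F322917)))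
theorem Q36185 : ∀ i, i < 36185 → P i := stepQ 36184 Q36184 (allL N36184 (tt N36153 F322103) (tt N36156 F322104) (tt N36155 (iv2 F322916)) (tt N66519 D127094) (tt N18349 (iv4 D59654)) (tt N40663 (iv5 F102373)) (tt N18895 F94045) (tt N36154 (iv7 F322428)))
theorem Q36186 : ∀ i, i < 36186 → P i := stepQ 36185 Q36185 (allL N36185 (tt N36117 (iv1 F325894)) (tt N66520 D127096) (tt N66356 (iv2 F325895)) (tt N18351 (iv3 D59655)) (tt N66514 (iv4 F204337)) (tt N66219 F324860) (tt N19211 F94046) (tt N37033 (iv7 F95424)))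
theorem Q36187 : ∀ i, i < 36187 → P i := stepQ 36186 Q36186 (allL N36186 (tt N40237 F321837) (tt N40239 F321838) (tt N36935 (iv2 F95348)) (tt N66219 (iv3 F323525)) (tt N41028 F319832) (tt N18351 (iv5 D59656)) (tt N66521 D127100) (tt N37034 (iv7 F95425)))
theorem Q36188 : ∀ i, i < 36188 → P i := stepQ 36187 Q36187 (allL N36187 (tt N33525 F94050) (tt N33522 F94051) (tt N18355 F94047) (tt N52033 (iv3 F356908)) (tt N29680 F94049) (tt N18352 (iv5 D59657)) (tt N52030 (iv6 F356963)) (tt N31486 F94048))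
theorem Q36189 : ∀ i, i < 36189 → P i := stepQ 36188 Q36188 (allL N36188 (tt N57064 (iv1 F165319)) (tt N57070 F165333) (tt N18356 F94052) (tt N55125 (iv3 F350558)) (tt N18353 F94053) (tt N55123 (iv5 F350557)) (tt N18352 (iv6 D59658)) (tt N55210 (iv7 F339736)))
theorem Q36190 : ∀ i, i < 36190 → P i := stepQ 36189 Q36189 (allL N36189 (tt N18359 F94055) (tt N18353 (iv0 D59659)) (tt N18357 F166405) (tt N62063 F179910) (tt N39663 (iv4 F165335)) (tt N30403 F94054) (tt N58842 (iv6 F170885)) (tt N18358 F166406))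
theorem Q36191 : ∀ i, i < 36191 → P i := stepQ 36190 Q36190 (allL N36190 (tt N18353 (iv1 D59660)) (tt N18359 F94056) (tt N18358 F166414) (tt N40710 (iv3 F102410)) (tt N39664 F161379) (tt N30404 (iv5 F94057)) (tt N30650 F94059) (tt N18357 F166415))
theorem Q36192 : ∀ i, i < 36192 → P i := stepQ 36191 Q36191 (allL N36191 (tt N18358 (iv1 F94064)) (tt N18357 (iv0 F94065)) (tt N18359 F94060) (tt N30405 F94061) (tt N55210 (iv4 F339734)) (tt N31456 F94062) (tt N31490 F94063) (tt N18353 (iv7 D59661)))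
theorem Q36193 : ∀ i, i < 36193 → P i := stepQ 36192 Q36192 (allL N36192 (tt N66522 D127104) (tt N66523 D127105) (tt N66524 D127106) (tt N18354 (iv3 D59662)) (tt N20300 F94066) (tt N62659 (iv5 F182956)) (tt N66525 D127107) (tt N32189 F94067))
theorem Q36194 : ∀ i, i < 36194 → P i := stepQ 36193 Q36193 (allL N36193 (tt N56032 F168207) (tt N60160 (iv0 F175820)) (tt N41078 (iv2 F103304)) (tt N66525 (iv3 F204360)) (tt N20049 F94068) (tt N66526 D127108) (tt N18354 (iv6 D59663)) (tt N32202 F94069))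
theorem Q36195 : ∀ i, i < 36195 → P i := stepQ 36194 Q36194 (allL N36194 (tt N66527 D127109) (tt N66528 D127110) (tt N52030 (iv2 F356961)) (tt N58915 (iv3 F355228)) (tt N59121 (iv4 F172129)) (tt N66529 D127111) (tt N18355 (iv6 D59664)) (tt N66530 D127112))
theorem Q36196 : ∀ i, i < 36196 → P i := stepQ 36195 Q36195 (allL N36195 (tt N55210 (iv1 F339732)) (tt N18356 (iv0 D59665)) (tt N57064 (iv2 F165317)) (tt N66531 D127113) (tt N20121 F163598) (tt N66532 D127114) (tt N66533 D127115) (tt N57070 (iv7 F165331)))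
theorem Q36197 : ∀ i, i < 36197 → P i := stepQ 36196 Q36196 (allL N36196 (tt N18356 (iv1 D59666)) (tt N55210 (iv0 F339731)) (tt N57070 (iv2 F165330)) (tt N66534 D127116) (tt N20122 F163578) (tt N66535 D127117) (tt N60130 F175744) (tt N57064 (iv7 F165318)))
theorem Q36198 : ∀ i, i < 36198 → P i := stepQ 36197 Q36197 (allL N36197 (tt N55207 (iv1 F350570)) (tt N51942 (iv0 F297681)) (tt N55123 (iv2 F350556)) (tt N55197 (iv3 F346741)) (tt N61084 (iv4 F346740)) (tt N18356 (iv5 D59667)) (tt N66529 (iv6 F204364)) (tt N55208 (iv7 F350567)))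
theorem Q36199 : ∀ i, i < 36199 → P i := stepQ 36198 Q36198 (allL N36198 (tt N57070 (iv1 F165332)) (tt N57064 (iv0 F165320)) (tt N55210 (iv2 F339733)) (tt N43399 (iv3 F321233)) (tt N18359 F94070) (tt N55208 (iv5 F350566)) (tt N56004 (iv6 F162259)) (tt N18356 (iv7 D59668)))
theorem Q36200 : ∀ i, i < 36200 → P i := stepQ 36199 Q36199 (allL N36199 (tt N55942 F166084) (tt N36670 (iv0 F166200)) (tt N40706 (iv2 F166462)) (tt N18357 (iv3 D59670)) (tt N40671 F102386) (tt N31432 (iv5 F166202)) (tt N66536 D127122) (tt N40710 F166449))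
theorem Q36201 : ∀ i, i < 36201 → P i := stepQ 36200 Q36200 (allL N36200 (tt N39666 F161382) (tt N36676 F163695) (tt N39663 F166452) (tt N66537 D127123) (tt N18357 (iv4 D59671)) (tt N66538 D127124) (tt N66539 D127125) (tt N39664 F166450))
theorem Q36202 : ∀ i, i < 36202 → P i := stepQ 36201 Q36201 (allL N36201 (tt N56215 F163202) (tt N35766 (iv0 F168063)) (tt N58842 (iv2 F170884)) (tt N66536 (iv3 F204372)) (tt N66539 (iv4 F204376)) (tt N35607 F94074) (tt N18357 (iv6 D59672)) (tt N58839 (iv7 F170879)))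
theorem Q36203 : ∀ i, i < 36203 → P i := stepQ 36202 Q36202 (allL N36202 (tt N31428 F166483) (tt N62065 F179930) (tt N62064 (iv2 F179922)) (tt N18358 (iv3 D59674)) (tt N33150 F163599) (tt N31511 F94078) (tt N57356 (iv6 F166288)) (tt N62063 (iv7 F179912)))
theorem Q36204 : ∀ i, i < 36204 → P i := stepQ 36203 Q36203 (allL N36203 (tt N36676 F163546) (tt N39666 F163547) (tt N39664 (iv2 F166451)) (tt N66540 D127126) (tt N18358 (iv4 D59675)) (tt N66541 D127127) (tt N60133 (iv6 F175761)) (tt N39663 (iv7 F166453)))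
theorem Q36205 : ∀ i, i < 36205 → P i := stepQ 36204 Q36204 (allL N36204 (tt N30292 F104362) (tt N55972 F162226) (tt N55955 (iv2 F166099)) (tt N40760 (iv3 F102585)) (tt N18361 (iv4 D59684)) (tt N66542 D127128) (tt N57417 (iv6 F166513)) (tt N55953 (iv7 F166107)))
theorem Q36206 : ∀ i, i < 36206 → P i := stepQ 36205 Q36205 (allL N36205 (tt N44487 F316234) (tt N44486 F316235) (tt N18375 F94081) (tt N40585 (iv3 F102217)) (tt N34641 (iv4 F318511)) (tt N33858 F316236) (tt N18362 (iv6 D59685)) (tt N36647 F316237))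
theorem Q36207 : ∀ i, i < 36207 → P i := stepQ 36206 Q36206 (allL N36206 (tt N40595 (iv1 F102823)) (tt N33355 F102795) (tt N39762 F102763) (tt N18363 (iv3 D59688)) (tt N40843 F102764) (tt N66543 D127130) (tt N66544 D127131) (tt N18369 F94084))
theorem Q36208 : ∀ i, i < 36208 → P i := stepQ 36207 Q36207 (allL N36207 (tt N38254 (iv1 F318528)) (tt N25168 (iv0 F319060)) (tt N18365 F94085) (tt N56352 (iv3 F163557)) (tt N18363 (iv4 D59689)) (tt N18993 (iv5 F320300)) (tt N63785 (iv6 F318531)) (tt N18370 F94086))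
theorem Q36209 : ∀ i, i < 36209 → P i := stepQ 36208 Q36208 (allL N36208 (tt N20396 F220555) (tt N33330 F318132) (tt N18366 F94087) (tt N66543 (iv3 F204380)) (tt N33387 (iv4 F320302)) (tt N18363 (iv5 D59690)) (tt N40635 (iv6 F320304)) (tt N18371 F94088))
theorem Q36210 : ∀ i, i < 36210 → P i := stepQ 36209 Q36209 (allL N36209 (tt N22581 (iv1 F320652)) (tt N36656 (iv0 F320653)) (tt N18367 F94089) (tt N66544 (iv3 F204382)) (tt N63785 (iv4 F318530)) (tt N48156 F318527) (tt N18363 (iv6 D59691)) (tt N36655 (iv7 F320656)))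
theorem Q36211 : ∀ i, i < 36211 → P i := stepQ 36210 Q36210 (allL N36210 (tt N18364 (iv1 D59693)) (tt N39765 (iv0 F102777)) (tt N33316 (iv2 F102527)) (tt N40726 F102514) (tt N20703 F102542) (tt N42633 (iv5 F320903)) (tt N48138 (iv6 F321644)) (tt N39761 (iv7 F102537)))
theorem Q36212 : ∀ i, i < 36212 → P i := stepQ 36211 Q36211 (allL N36211 (tt N40743 (iv1 F103088)) (tt N66545 D127144) (tt N39763 F102831) (tt N18366 F94090) (tt N66546 D127145) (tt N18364 (iv5 D59695)) (tt N66547 D127146) (tt N39778 (iv7 F102832)))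
theorem Q36213 : ∀ i, i < 36213 → P i := stepQ 36212 Q36212 (allL N36212 (tt N66548 D127147) (tt N66549 D127148) (tt N39764 F102792) (tt N18367 F94091) (tt N39755 (iv4 F102783)) (tt N66550 D127149) (tt N18364 (iv6 D59696)) (tt N66551 D127150))
theorem Q36214 : ∀ i, i < 36214 → P i := stepQ 36213 Q36213 (allL N36213 (tt N18370 (iv1 F94098)) (tt N18365 (iv0 D59698)) (tt N38254 F320604) (tt N66552 D127151) (tt N25171 F319584) (tt N37992 (iv5 F321552)) (tt N23702 (iv6 F321553)) (tt N25168 F319585))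
theorem Q36215 : ∀ i, i < 36215 → P i := stepQ 36214 Q36214 (allL N36214 (tt N66381 F204075) (tt N66553 D127156) (tt N66554 D127157) (tt N18365 (iv3 D59700)) (tt N39753 (iv4 F102782)) (tt N38253 (iv5 F322560)) (tt N66555 D127158) (tt N38252 (iv7 F321768)))
theorem Q36216 : ∀ i, i < 36216 → P i := stepQ 36215 Q36215 (allL N36215 (tt N22557 (iv1 F321559)) (tt N48328 (iv0 F321560)) (tt N63785 F319588) (tt N66555 (iv3 F204417)) (tt N18367 F94095) (tt N46154 (iv5 F320665)) (tt N18365 (iv6 D59702)) (tt N63784 (iv7 F321562)))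
theorem Q36217 : ∀ i, i < 36217 → P i := stepQ 36216 Q36216 (allL N36216 (tt N18371 (iv1 F94102)) (tt N18366 (iv0 D59704)) (tt N20396 F204427) (tt N40631 F204428) (tt N33331 (iv4 F318142)) (tt N20394 F204429) (tt N21669 (iv6 F319825)) (tt N33330 (iv7 F317326)))
theorem Q36218 : ∀ i, i < 36218 → P i := stepQ 36217 Q36217 (allL N36217 (tt N20389 (iv1 F321565)) (tt N40637 (iv0 F321566)) (tt N40635 (iv2 F320303)) (tt N66547 (iv3 F204407)) (tt N20918 (iv4 F321564)) (tt N21145 (iv5 F321283)) (tt N18366 (iv6 D59707)) (tt N40634 (iv7 F321570)))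
theorem Q36219 : ∀ i, i < 36219 → P i := stepQ 36218 Q36218 (allL N36218 (tt N33330 (iv1 F317325)) (tt N20396 (iv0 F220554)) (tt N18371 F94100) (tt N39778 F102773) (tt N33388 (iv4 F317720)) (tt N18368 F94101) (tt N21675 (iv6 F318623)) (tt N18366 (iv7 D59708)))
theorem Q36220 : ∀ i, i < 36220 → P i := stepQ 36219 Q36219 (allL N36219 (tt N25270 F319230) (tt N40645 (iv0 F207810)) (tt N48156 F319231) (tt N66550 (iv3 F204408)) (tt N47512 (iv4 F321782)) (tt N18367 (iv5 D59711)) (tt N21145 (iv6 F321284)) (tt N48155 F319232))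
theorem Q36221 : ∀ i, i < 36221 → P i := stepQ 36220 Q36220 (allL N36220 (tt N36656 (iv1 F320654)) (tt N22581 (iv0 F320651)) (tt N36655 (iv2 F320655)) (tt N66551 (iv3 F204409)) (tt N63784 (iv4 F321561)) (tt N48155 F319592) (tt N40758 F322440) (tt N18367 (iv7 D59712)))
theorem Q36222 : ∀ i, i < 36222 → P i := stepQ 36221 Q36221 (allL N36221 (tt N39762 (iv1 F102800)) (tt N18369 (iv0 D59714)) (tt N33355 (iv2 F102815)) (tt N40603 F102798) (tt N20681 F94104) (tt N40470 F321035) (tt N36618 (iv6 F319161)) (tt N40595 F102799))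
theorem Q36223 : ∀ i, i < 36223 → P i := stepQ 36222 Q36222 (allL N36222 (tt N33355 F100688) (tt N40595 F102824) (tt N18369 (iv2 D59716)) (tt N39765 (iv3 F102779)) (tt N40844 (iv4 F102753)) (tt N66556 D127202) (tt N66557 D127203) (tt N39762 F102794))
theorem Q36224 : ∀ i, i < 36224 → P i := stepQ 36223 Q36223 (allL N36223 (tt N33375 (iv1 F102867)) (tt N33371 (iv0 F94105)) (tt N40844 F102755) (tt N66558 D127204) (tt N18369 (iv4 D59717)) (tt N66559 D127205) (tt N66560 D127206) (tt N40843 (iv7 F102762)))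
theorem Q36225 : ∀ i, i < 36225 → P i := stepQ 36224 Q36224 (allL N36224 (tt N66561 D127207) (tt N40613 (iv0 F204483)) (tt N66556 (iv2 F204474)) (tt N18371 F94106) (tt N66562 D127208) (tt N18369 (iv5 D59718)) (tt N63084 (iv6 F321579)) (tt N66543 (iv7 F204381)))
theorem Q36226 : ∀ i, i < 36226 → P i := stepQ 36225 Q36225 (allL N36225 (tt N66563 D127210) (tt N66564 D127211) (tt N66557 (iv2 F204476)) (tt N18372 F94107) (tt N66560 (iv4 F204484)) (tt N36477 (iv5 F321590)) (tt N18369 (iv6 D59719)) (tt N42867 (iv7 F321591)))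
theorem Q36227 : ∀ i, i < 36227 → P i := stepQ 36226 Q36226 (allL N36226 (tt N56354 (iv1 F163560)) (tt N30337 (iv0 F94108)) (tt N56353 F165420) (tt N18370 (iv3 D59720)) (tt N66558 (iv4 F204478)) (tt N18992 (iv5 F323658)) (tt N66565 D127215) (tt N56352 F163558))
theorem Q36228 : ∀ i, i < 36228 → P i := stepQ 36227 Q36227 (allL N36227 (tt N47303 (iv1 F323660)) (tt N66566 D127219) (tt N38096 F322006) (tt N66565 (iv3 F204494)) (tt N18372 F94109) (tt N18888 F322007) (tt N18370 (iv6 D59722)) (tt N42870 F322008))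
theorem Q36229 : ∀ i, i < 36229 → P i := stepQ 36228 Q36228 (allL N36228 (tt N18372 (iv1 D59726)) (tt N40758 (iv0 F320646)) (tt N33365 (iv2 F321582)) (tt N40759 (iv3 F321622)) (tt N66479 (iv4 F321583)) (tt N48165 (iv5 F321584)) (tt N36384 (iv6 F321585)) (tt N40489 (iv7 F321581)))
theorem Q36230 : ∀ i, i < 36230 → P i := stepQ 36229 Q36229 (allL N36229 (tt N36647 F316233) (tt N18375 (iv0 D59757)) (tt N44487 (iv2 F318506)) (tt N66567 D127294) (tt N45706 (iv4 F318508)) (tt N30684 (iv5 F318509)) (tt N36650 (iv6 F318510)) (tt N44486 (iv7 F318502)))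
theorem Q36231 : ∀ i, i < 36231 → P i := stepQ 36230 Q36230 (allL N36230 (tt N18375 (iv1 D59758)) (tt N36647 F316232) (tt N44486 (iv2 F318501)) (tt N47726 (iv3 F318503)) (tt N45708 (iv4 F318504)) (tt N30683 (iv5 F318505)) (tt N40485 (iv6 F318642)) (tt N44487 (iv7 F318507)))
theorem Q36232 : ∀ i, i < 36232 → P i := stepQ 36231 Q36231 (allL N36231 (tt N66568 D127306) (tt N40283 F318791) (tt N63264 (iv2 F314084)) (tt N18376 (iv3 D59761)) (tt N66569 D127309) (tt N21934 F311618) (tt N66570 D127311) (tt N42333 F166595))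
theorem Q36233 : ∀ i, i < 36233 → P i := stepQ 36232 Q36232 (allL N36232 (tt N40482 (iv1 F204548)) (tt N42296 F316534) (tt N42326 (iv2 F166599)) (tt N66570 (iv3 F204533)) (tt N33807 F166598) (tt N42848 (iv5 F314087)) (tt N18376 (iv6 D59764)) (tt N42847 (iv7 F314089)))
theorem Q36234 : ∀ i, i < 36234 → P i := stepQ 36233 Q36233 (allL N36233 (tt N40463 F339630) (tt N66571 D127321) (tt N66572 D127322) (tt N18377 (iv3 D59766)) (tt N66573 D127323) (tt N33824 F313312) (tt N46621 (iv6 F315570)) (tt N42325 (iv7 F166592)))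
theorem Q36235 : ∀ i, i < 36235 → P i := stepQ 36234 Q36234 (allL N36234 (tt N30672 (iv1 F94125)) (tt N18379 (iv0 D59780)) (tt N40592 F102227) (tt N47728 (iv3 F315952)) (tt N38642 F313488) (tt N20774 F94132) (tt N41434 (iv6 F315955)) (tt N40593 (iv7 F102230)))
theorem Q36236 : ∀ i, i < 36236 → P i := stepQ 36235 Q36235 (allL N36235 (tt N18379 (iv1 D59781)) (tt N30672 F94126) (tt N40593 F102232) (tt N66574 D127334) (tt N38644 F313489) (tt N20780 (iv5 F94127)) (tt N37367 (iv6 F315959)) (tt N40592 F102228))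
theorem Q36237 : ∀ i, i < 36237 → P i := stepQ 36236 Q36236 (allL N36236 (tt N38099 (iv1 F314872)) (tt N38102 F313341) (tt N40594 (iv2 F102233)) (tt N36552 (iv3 F315757)) (tt N18379 (iv4 D59782)) (tt N57699 (iv5 F167449)) (tt N38031 (iv6 F315311)) (tt N57420 (iv7 F166602)))
theorem Q36238 : ∀ i, i < 36238 → P i := stepQ 36237 Q36237 (allL N36237 (tt N59065 F171964) (tt N30373 (iv0 F100229)) (tt N31532 F100241) (tt N18381 F94135) (tt N66575 D127337) (tt N18380 (iv5 D59787)) (tt N36779 (iv6 F100205)) (tt N31534 (iv7 F100231)))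
theorem Q36239 : ∀ i, i < 36239 → P i := stepQ 36238 Q36238 (allL N36238 (tt N31502 (iv1 F100238)) (tt N65469 (iv0 F201804)) (tt N31533 F100242) (tt N18382 F94136) (tt N57154 (iv4 F165446)) (tt N19158 F100216) (tt N18380 (iv6 D59788)) (tt N37082 (iv7 F95501)))
theorem Q36240 : ∀ i, i < 36240 → P i := stepQ 36239 Q36239 (allL N36239 (tt N41078 (iv1 F168324)) (tt N32202 (iv0 F168322)) (tt N60160 (iv2 F175818)) (tt N62562 (iv3 F182374)) (tt N18383 (iv4 D59798)) (tt N66576 D127339) (tt N65933 (iv6 F202908)) (tt N56032 (iv7 F162377)))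
theorem Q36241 : ∀ i, i < 36241 → P i := stepQ 36240 Q36240 (allL N36240 (tt N41099 F168075) (tt N41188 F168076) (tt N41115 F168077) (tt N18384 F94141) (tt N66577 D127340) (tt N18383 (iv5 D59799)) (tt N32094 F94142) (tt N41187 (iv7 F168082)))
theorem Q36242 : ∀ i, i < 36242 → P i := stepQ 36241 Q36241 (allL N36241 (tt N30084 (iv1 F94159)) (tt N18385 (iv0 D59803)) (tt N30406 F94161) (tt N32096 F94158) (tt N42355 (iv4 F106044)) (tt N29875 (iv5 F115177)) (tt N45171 (iv6 F115176)) (tt N30072 (iv7 F94160)))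
theorem Q36243 : ∀ i, i < 36243 → P i := stepQ 36242 Q36242 (allL N36242 (tt N18385 (iv1 D59804)) (tt N30084 F94162) (tt N30072 (iv2 F94166)) (tt N23280 (iv3 F94164)) (tt N41301 (iv4 F103879)) (tt N29876 F94167) (tt N30068 F94165) (tt N30406 F94163))
theorem Q36244 : ∀ i, i < 36244 → P i := stepQ 36243 Q36243 (allL N36243 (tt N21650 F94172) (tt N45124 F114578) (tt N18388 F94168) (tt N26443 F94169) (tt N18394 F94170) (tt N44954 F114182) (tt N18387 (iv6 D59805)) (tt N26557 F94171))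
theorem Q36245 : ∀ i, i < 36245 → P i := stepQ 36244 Q36244 (allL N36244 (tt N18388 (iv1 D59806)) (tt N26557 F94173) (tt N45124 (iv2 F114575)) (tt N32977 (iv3 F94175)) (tt N20994 (iv4 F94176)) (tt N63282 (iv5 F186711)) (tt N20993 F94177) (tt N21650 F94174))
theorem Q36246 : ∀ i, i < 36246 → P i := stepQ 36245 Q36245 (allL N36245 (tt N34008 F94181) (tt N34009 F94180) (tt N44954 (iv2 F114183)) (tt N18389 F94179) (tt N66578 D127342) (tt N18388 (iv5 D59807)) (tt N60913 (iv6 F177200)) (tt N44953 F114180))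
theorem Q36247 : ∀ i, i < 36247 → P i := stepQ 36246 Q36246 (allL N36246 (tt N32700 F94182) (tt N32703 F94183) (tt N56154 (iv2 F163116)) (tt N66579 D127343) (tt N18389 (iv4 D59808)) (tt N56154 (iv5 F163118)) (tt N60921 (iv6 F177206)) (tt N56436 (iv7 F163746)))
theorem Q36248 : ∀ i, i < 36248 → P i := stepQ 36247 Q36247 (allL N36247 (tt N45171 (iv1 F114674)) (tt N30077 (iv0 F139431)) (tt N45173 (iv2 F114678)) (tt N18390 (iv3 D59809)) (tt N36247 F94184) (tt N36403 (iv5 F94501)) (tt N45173 (iv6 F114681)) (tt N32431 F94185))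
theorem Q36249 : ∀ i, i < 36249 → P i := stepQ 36248 Q36248 (allL N36248 (tt N18393 (iv1 F94188)) (tt N18391 (iv0 D59810)) (tt N23280 (iv2 F94189)) (tt N30526 F94187) (tt N23273 F94186) (tt N41719 (iv5 F104817)) (tt N30524 (iv6 F94190)) (tt N23276 (iv7 F94191)))
theorem Q36250 : ∀ i, i < 36250 → P i := stepQ 36249 Q36249 (allL N36249 (tt N18391 (iv1 D59811)) (tt N18393 F94192) (tt N23276 F94195) (tt N30406 F94196) (tt N23272 (iv4 F94194)) (tt N41720 (iv5 F104820)) (tt N42635 (iv6 F106660)) (tt N23280 F94193))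
theorem Q36251 : ∀ i, i < 36251 → P i := stepQ 36250 Q36250 (allL N36250 (tt N56039 (iv1 F162410)) (tt N56244 (iv0 F163257)) (tt N56034 (iv2 F162383)) (tt N46009 (iv3 F120099)) (tt N62805 (iv4 F183733)) (tt N18391 (iv5 D59812)) (tt N66580 D127344) (tt N46008 (iv7 F120081)))
theorem Q36252 : ∀ i, i < 36252 → P i := stepQ 36251 Q36251 (allL N36251 (tt N30527 (iv1 F94201)) (tt N30069 F94202) (tt N30522 F94197) (tt N22794 F94198) (tt N18392 F94199) (tt N63420 (iv5 F187366)) (tt N18391 (iv6 D59813)) (tt N30523 F94200))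
theorem Q36253 : ∀ i, i < 36253 → P i := stepQ 36252 Q36252 (allL N36252 (tt N56244 (iv1 F163258)) (tt N56039 (iv0 F162409)) (tt N46008 (iv2 F120079)) (tt N32448 F94203) (tt N62806 (iv4 F183739)) (tt N18393 (iv5 D59814)) (tt N61722 (iv6 F324716)) (tt N56034 (iv7 F162385)))
theorem Q36254 : ∀ i, i < 36254 → P i := stepQ 36253 Q36253 (allL N36253 (tt N20287 F312296) (tt N33995 (iv0 F94208)) (tt N18396 F94204) (tt N33751 F94205) (tt N44992 (iv4 F114302)) (tt N18394 (iv5 D59815)) (tt N20712 F320524) (tt N34029 F94206))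
theorem Q36255 : ∀ i, i < 36255 → P i := stepQ 36254 Q36254 (allL N36254 (tt N42635 (iv1 F106663)) (tt N42634 (iv0 F106658)) (tt N45258 (iv2 F114954)) (tt N28477 (iv3 F94210)) (tt N18395 (iv4 D59816)) (tt N61161 (iv5 F178129)) (tt N45264 (iv6 F114978)) (tt N28472 F94209))
theorem Q36256 : ∀ i, i < 36256 → P i := stepQ 36255 Q36255 (allL N36255 (tt N44979 (iv1 F114267)) (tt N44995 F114306) (tt N44992 F114303) (tt N44400 (iv3 F319660)) (tt N18396 (iv4 D59817)) (tt N66581 D127347) (tt N42227 (iv6 F105604)) (tt N42935 (iv7 F107748)))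
theorem Q36257 : ∀ i, i < 36257 → P i := stepQ 36256 Q36256 (allL N36256 (tt N66582 D127351) (tt N66583 D127352) (tt N66584 D127353) (tt N18397 (iv3 D59819)) (tt N31035 F94212) (tt N36776 F328813) (tt N65647 (iv6 F202173)) (tt N32052 F94213))
theorem Q36258 : ∀ i, i < 36258 → P i := stepQ 36257 Q36257 (allL N36257 (tt N32405 (iv1 F94214)) (tt N18398 (iv0 D59820)) (tt N32404 F203743) (tt N59431 F172887) (tt N66585 D127354) (tt N60587 F203742) (tt N66586 D127355) (tt N32403 F203744))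
theorem Q36259 : ∀ i, i < 36259 → P i := stepQ 36258 Q36258 (allL N36258 (tt N18398 (iv1 D59821)) (tt N32405 F94218) (tt N32403 F203753) (tt N66587 D127356) (tt N57998 (iv4 F168701)) (tt N60588 F203754) (tt N66588 D127357) (tt N32404 F203755))
theorem Q36260 : ∀ i, i < 36260 → P i := stepQ 36259 Q36259 (allL N36259 (tt N32404 (iv1 F94219)) (tt N32403 F94217) (tt N18398 (iv2 D59822)) (tt N32443 F94215) (tt N40332 (iv4 F101594)) (tt N66589 D127358) (tt N66590 D127359) (tt N32405 F94216))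
theorem Q36261 : ∀ i, i < 36261 → P i := stepQ 36260 Q36260 (allL N36260 (tt N66591 D127360) (tt N66592 D127361) (tt N66589 (iv2 F204603)) (tt N18399 F94220) (tt N66593 D127362) (tt N18398 (iv5 D59823)) (tt N66594 D127363) (tt N32381 F94221))
theorem Q36262 : ∀ i, i < 36262 → P i := stepQ 36261 Q36261 (allL N36261 (tt N66595 D127364) (tt N65587 (iv0 F360430)) (tt N66590 (iv2 F204608)) (tt N18400 F94222) (tt N40333 (iv4 F101596)) (tt N66596 D127366) (tt N18398 (iv6 D59824)) (tt N66597 D127367))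
theorem Q36263 : ∀ i, i < 36263 → P i := stepQ 36262 Q36262 (allL N36262 (tt N56512 (iv1 F362101)) (tt N66598 D127369) (tt N32384 F94223) (tt N66594 (iv3 F204668)) (tt N29528 F94224) (tt N66599 D127370) (tt N18399 (iv6 D59825)) (tt N66600 D127371))
theorem Q36264 : ∀ i, i < 36264 → P i := stepQ 36263 Q36263 (allL N36263 (tt N32446 (iv1 F94229)) (tt N18400 (iv0 D59826)) (tt N32306 (iv2 F94226)) (tt N66601 D127372) (tt N29490 F94225) (tt N66602 D127373) (tt N65572 (iv6 F202053)) (tt N32309 F94227))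
theorem Q36265 : ∀ i, i < 36265 → P i := stepQ 36264 Q36264 (allL N36264 (tt N66603 D127374) (tt N66604 D127375) (tt N32445 F94232) (tt N66596 (iv3 F204669)) (tt N66605 D127376) (tt N18400 (iv5 D59827)) (tt N66599 (iv6 F204674)) (tt N66606 D127377))
theorem Q36266 : ∀ i, i < 36266 → P i := stepQ 36265 Q36265 (allL N36265 (tt N32309 (iv1 F94236)) (tt N32306 F94237) (tt N32446 F94233) (tt N66597 (iv3 F204670)) (tt N18402 F94234) (tt N66606 (iv5 F204693)) (tt N32408 F94235) (tt N18400 (iv7 D59828)))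
theorem Q36267 : ∀ i, i < 36267 → P i := stepQ 36266 Q36266 (allL N36266 (tt N32421 F94243) (tt N32420 F94242) (tt N18406 F94239) (tt N32452 F94240) (tt N66607 D127378) (tt N18405 (iv5 D59829)) (tt N66608 D127379) (tt N32418 F94241))
theorem Q36268 : ∀ i, i < 36268 → P i := stepQ 36267 Q36267 (allL N36267 (tt N41856 (iv1 F105006)) (tt N41863 (iv0 F105014)) (tt N66607 (iv2 F204696)) (tt N66609 D127380) (tt N18406 (iv4 D59830)) (tt N66610 D127381) (tt N66611 D127382) (tt N32422 F94245))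
theorem Q36269 : ∀ i, i < 36269 → P i := stepQ 36268 Q36268 (allL N36268 (tt N66612 D127383) (tt N66613 D127384) (tt N66608 (iv2 F204701)) (tt N18408 F94246) (tt N66611 (iv4 F204708)) (tt N56438 (iv5 F163752)) (tt N18406 (iv6 D59831)) (tt N66614 D127385))
theorem Q36270 : ∀ i, i < 36270 → P i := stepQ 36269 Q36269 (allL N36269 (tt N66615 D127386) (tt N66616 D127387) (tt N66617 D127388) (tt N18407 (iv3 D59832)) (tt N66609 (iv4 F204703)) (tt N29520 F94247) (tt N66618 D127389) (tt N32383 F94248))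
theorem Q36271 : ∀ i, i < 36271 → P i := stepQ 36270 Q36270 (allL N36270 (tt N49532 (iv1 F332869)) (tt N36815 F332854) (tt N32382 F94249) (tt N66618 (iv3 F204720)) (tt N18408 F94250) (tt N56407 (iv5 F332796)) (tt N18407 (iv6 D59833)) (tt N66619 D127393))
theorem Q36272 : ∀ i, i < 36272 → P i := stepQ 36271 Q36271 (allL N36271 (tt N32459 (iv1 F94254)) (tt N18408 (iv0 D59834)) (tt N32457 F176893) (tt N66620 D127394) (tt N36841 F329736) (tt N66621 D127396) (tt N50881 F142882) (tt N32458 F176894))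
theorem Q36273 : ∀ i, i < 36273 → P i := stepQ 36272 Q36272 (allL N36272 (tt N18408 (iv1 D59835)) (tt N32459 F94251) (tt N32458 (iv2 F176895)) (tt N66622 D127397) (tt N60466 (iv4 F332873)) (tt N66623 D127399) (tt N66624 D127400) (tt N32457 (iv7 F176896)))
theorem Q36274 : ∀ i, i < 36274 → P i := stepQ 36273 Q36273 (allL N36273 (tt N32458 (iv1 F94255)) (tt N32457 F94256) (tt N32459 F94252) (tt N66614 (iv3 F204711)) (tt N66619 (iv4 F204725)) (tt N56441 (iv5 F163758)) (tt N32430 F94253) (tt N18408 (iv7 D59836)))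
theorem Q36275 : ∀ i, i < 36275 → P i := stepQ 36274 Q36274 (allL N36274 (tt N39656 F327583) (tt N42357 F106049) (tt N42359 (iv2 F106058)) (tt N33640 F94257) (tt N60800 (iv4 F176920)) (tt N18410 (iv5 D59837)) (tt N66625 D127401) (tt N41755 (iv7 F104872)))
theorem Q36276 : ∀ i, i < 36276 → P i := stepQ 36275 Q36275 (allL N36275 (tt N60761 F176846) (tt N60762 (iv0 F357983)) (tt N66626 D127403) (tt N18411 (iv3 D59838)) (tt N41891 (iv4 F105042)) (tt N29501 F94258) (tt N60506 (iv6 F395591)) (tt N32359 F94259))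
theorem Q36277 : ∀ i, i < 36277 → P i := stepQ 36276 Q36276 (allL N36276 (tt N66627 D127405) (tt N66628 D127406) (tt N32352 F94260) (tt N60506 (iv3 F395589)) (tt N18412 F94261) (tt N66629 D127407) (tt N18411 (iv6 D59839)) (tt N66630 D127408))
theorem Q36278 : ∀ i, i < 36278 → P i := stepQ 36277 Q36277 (allL N36277 (tt N32485 (iv1 F94265)) (tt N18412 (iv0 D59840)) (tt N32483 F178277) (tt N66631 D127409) (tt N60529 (iv4 F178281)) (tt N66632 D127410) (tt N66633 D127411) (tt N32484 F178278))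
theorem Q36279 : ∀ i, i < 36279 → P i := stepQ 36278 Q36278 (allL N36278 (tt N18412 (iv1 D59841)) (tt N32485 F94262) (tt N32484 F178273) (tt N66634 D127412) (tt N60530 (iv4 F176549)) (tt N50013 (iv5 F138557)) (tt N56198 (iv6 F178298)) (tt N32483 F178274))
theorem Q36280 : ∀ i, i < 36280 → P i := stepQ 36279 Q36279 (allL N36279 (tt N32484 (iv1 F94266)) (tt N32483 F94267) (tt N32485 F94263) (tt N41896 (iv3 F105044)) (tt N66630 (iv4 F204771)) (tt N49224 (iv5 F135441)) (tt N32474 F94264) (tt N18412 (iv7 D59842)))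
theorem Q36281 : ∀ i, i < 36281 → P i := stepQ 36280 Q36280 (allL N36280 (tt N29873 F94273) (tt N29873 (iv0 F94274)) (tt N32127 F94268) (tt N18413 (iv3 D59843)) (tt N36280 F94269) (tt N26784 F94270) (tt N29899 F94271) (tt N32127 F94272))
theorem Q36282 : ∀ i, i < 36282 → P i := stepQ 36281 Q36281 (allL N36281 (tt N66635 D127415) (tt N46614 F341039) (tt N18456 F94281) (tt N56036 (iv3 F162394)) (tt N51975 (iv4 F317119)) (tt N66636 D127417) (tt N18415 (iv6 D59845)) (tt N66637 D127418))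
theorem Q36283 : ∀ i, i < 36283 → P i := stepQ 36282 Q36282 (allL N36282 (tt N18606 F94284) (tt N18605 F94285) (tt N18459 F94282) (tt N44980 (iv3 F114269)) (tt N66638 D127419) (tt N18416 (iv5 D59846)) (tt N66636 (iv6 F204795)) (tt N18491 F94283))
theorem Q36284 : ∀ i, i < 36284 → P i := stepQ 36283 Q36283 (allL N36283 (tt N22869 F94288) (tt N41960 (iv0 F105181)) (tt N18425 F94286) (tt N66639 D127420) (tt N18417 (iv4 D59847)) (tt N66640 D127421) (tt N51806 (iv6 F314951)) (tt N18436 F94287))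
theorem Q36285 : ∀ i, i < 36285 → P i := stepQ 36284 Q36284 (allL N36284 (tt N18444 F94291) (tt N45192 (iv0 F114751)) (tt N20967 F94290) (tt N41879 (iv3 F105031)) (tt N33707 F94292) (tt N18418 (iv5 D59849)) (tt N66641 D127426) (tt N60862 (iv7 F177057)))
theorem Q36286 : ∀ i, i < 36286 → P i := stepQ 36285 Q36285 (allL N36285 (tt N18419 (iv1 D59850)) (tt N39649 (iv0 F328828)) (tt N21106 (iv2 F94295)) (tt N41357 (iv3 F104008)) (tt N33675 (iv4 F94296)) (tt N33562 F94294) (tt N66642 D127427) (tt N41371 (iv7 F104040)))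
theorem Q36287 : ∀ i, i < 36287 → P i := stepQ 36286 Q36286 (allL N36286 (tt N21206 F94293) (tt N39648 F328461) (tt N39650 F328462) (tt N26218 (iv3 F329603)) (tt N18419 (iv4 D59851)) (tt N39161 F328463) (tt N26216 (iv6 F329604)) (tt N39160 F328464))
theorem Q36288 : ∀ i, i < 36288 → P i := stepQ 36287 Q36287 (allL N36287 (tt N66643 D127430) (tt N66644 D127431) (tt N60863 (iv2 F177060)) (tt N18426 F94297) (tt N26216 F329756) (tt N66645 D127432) (tt N18419 (iv6 D59852)) (tt N65096 (iv7 F315633)))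
theorem Q36289 : ∀ i, i < 36289 → P i := stepQ 36288 Q36288 (allL N36288 (tt N21103 F94299) (tt N41357 F104012) (tt N41347 (iv2 F103988)) (tt N18422 F94298) (tt N42395 (iv4 F106114)) (tt N18420 (iv5 D59853)) (tt N66645 (iv6 F204831)) (tt N41359 (iv7 F104022)))
theorem Q36290 : ∀ i, i < 36290 → P i := stepQ 36289 Q36289 (allL N36289 (tt N21362 F94301) (tt N21358 F94302) (tt N21084 F94300) (tt N41747 (iv3 F104850)) (tt N42028 (iv4 F105293)) (tt N18421 (iv5 D59854)) (tt N66646 D127434) (tt N41958 (iv7 F105165)))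
theorem Q36291 : ∀ i, i < 36291 → P i := stepQ 36290 Q36290 (allL N36290 (tt N21292 F94304) (tt N21212 F94305) (tt N41319 (iv2 F103925)) (tt N66647 D127435) (tt N18422 (iv4 D59855)) (tt N21370 F94303) (tt N66648 D127436) (tt N41318 F103922))
theorem Q36292 : ∀ i, i < 36292 → P i := stepQ 36291 Q36291 (allL N36291 (tt N66649 D127437) (tt N62711 (iv0 F243304)) (tt N42443 (iv2 F106188)) (tt N66645 (iv3 F204830)) (tt N66648 (iv4 F204838)) (tt N18426 F94306) (tt N18422 (iv6 D59856)) (tt N65097 (iv7 F315639)))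
theorem Q36293 : ∀ i, i < 36293 → P i := stepQ 36292 Q36292 (allL N36292 (tt N21311 F94308) (tt N21289 F94309) (tt N21116 F94307) (tt N55216 (iv3 F350021)) (tt N18424 (iv4 D59857)) (tt N52572 F319928) (tt N55206 F319929) (tt N41329 (iv7 F103939)))
theorem Q36294 : ∀ i, i < 36294 → P i := stepQ 36293 Q36293 (allL N36293 (tt N55188 (iv1 F307161)) (tt N66650 D127443) (tt N21117 F94310) (tt N41339 (iv3 F103967)) (tt N55206 (iv4 F317728)) (tt N42686 (iv5 F106857)) (tt N18424 (iv6 D59858)) (tt N66651 D127444))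
theorem Q36295 : ∀ i, i < 36295 → P i := stepQ 36294 Q36294 (allL N36294 (tt N18436 (iv1 F94313)) (tt N18425 (iv0 D59859)) (tt N22869 (iv2 F94312)) (tt N66652 D127445) (tt N21254 F94311) (tt N52270 (iv5 F320058)) (tt N63996 (iv6 F192112)) (tt N41960 (iv7 F105180)))
theorem Q36296 : ∀ i, i < 36296 → P i := stepQ 36295 Q36295 (allL N36295 (tt N18425 (iv1 D59860)) (tt N18436 F94314) (tt N41960 (iv2 F105179)) (tt N66653 D127447) (tt N21225 F94316) (tt N52271 (iv5 F320061)) (tt N27765 F319344) (tt N22869 F94315))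
theorem Q36297 : ∀ i, i < 36297 → P i := stepQ 36296 Q36296 (allL N36296 (tt N31814 F94317) (tt N58506 (iv0 F171278)) (tt N54491 (iv2 F329861)) (tt N18425 (iv3 D59861)) (tt N26218 F329750) (tt N31890 (iv5 F94318)) (tt N26217 (iv6 F329864)) (tt N58507 (iv7 F169508)))
theorem Q36298 : ∀ i, i < 36298 → P i := stepQ 36297 Q36297 (allL N36297 (tt N51655 (iv1 F318899)) (tt N51652 (iv0 F318886)) (tt N66640 (iv2 F204807)) (tt N31890 F94319) (tt N21371 (iv4 F94320)) (tt N18425 (iv5 D59862)) (tt N58575 (iv6 F325239)) (tt N58641 (iv7 F169884)))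
theorem Q36299 : ∀ i, i < 36299 → P i := stepQ 36298 Q36298 (allL N36298 (tt N27295 F317102) (tt N51808 F317103) (tt N51806 (iv2 F314950)) (tt N26217 F329916) (tt N18426 F94321) (tt N28883 (iv5 F329955)) (tt N18425 (iv6 D59863)) (tt N51805 (iv7 F314949)))
theorem Q36300 : ∀ i, i < 36300 → P i := stepQ 36299 Q36299 (allL N36299 (tt N41960 (iv1 F105182)) (tt N22869 (iv0 F94324)) (tt N18436 F94322) (tt N58507 F169507) (tt N18427 F94323) (tt N58641 (iv5 F169883)) (tt N66654 D127458) (tt N18425 (iv7 D59864)))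
theorem Q36301 : ∀ i, i < 36301 → P i := stepQ 36300 Q36300 (allL N36300 (tt N62733 F188388) (tt N21151 F188389) (tt N18437 F94325) (tt N60868 (iv3 F177083)) (tt N66654 (iv4 F204884)) (tt N42622 (iv5 F106608)) (tt N18427 (iv6 D59868)) (tt N62732 (iv7 F204934)))
theorem Q36302 : ∀ i, i < 36302 → P i := stepQ 36301 Q36301 (allL N36301 (tt N45187 (iv1 F114731)) (tt N18447 F94327) (tt N21081 F94326) (tt N41958 (iv3 F105164)) (tt N33769 F94328) (tt N18429 (iv5 D59869)) (tt N43916 F308954) (tt N41747 (iv7 F104851)))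
theorem Q36303 : ∀ i, i < 36303 → P i := stepQ 36302 Q36302 (allL N36302 (tt N21134 F94331) (tt N23274 (iv0 F94332)) (tt N18432 F94329) (tt N39649 F329164) (tt N62813 (iv4 F183759)) (tt N18430 (iv5 D59870)) (tt N66655 D127471) (tt N23282 F94330))
theorem Q36304 : ∀ i, i < 36304 → P i := stepQ 36303 Q36303 (allL N36303 (tt N56034 (iv1 F162387)) (tt N46008 (iv0 F120082)) (tt N56244 (iv2 F163253)) (tt N45212 F114799) (tt N66656 D127472) (tt N18431 (iv5 D59871)) (tt N66657 D127473) (tt N56039 (iv7 F162408)))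
theorem Q36305 : ∀ i, i < 36305 → P i := stepQ 36304 Q36304 (allL N36304 (tt N26083 F94338) (tt N22000 F94339) (tt N28132 F94333) (tt N28133 F94334) (tt N18433 F94335) (tt N26869 (iv5 F94337)) (tt N18431 (iv6 D59872)) (tt N28133 F94336))
theorem Q36306 : ∀ i, i < 36306 → P i := stepQ 36305 Q36305 (allL N36305 (tt N23282 (iv1 F94343)) (tt N18432 (iv0 D59873)) (tt N21134 (iv2 F94342)) (tt N41588 (iv3 F104496)) (tt N33647 F94341) (tt N23275 F94340) (tt N66658 D127474) (tt N23274 F94344))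
theorem Q36307 : ∀ i, i < 36307 → P i := stepQ 36306 Q36306 (allL N36306 (tt N21192 F94345) (tt N21189 F94346) (tt N62813 F183760) (tt N66659 D127475) (tt N18432 (iv4 D59874)) (tt N66660 D127476) (tt N66661 D127477) (tt N56046 (iv7 F162417)))
theorem Q36308 : ∀ i, i < 36308 → P i := stepQ 36307 Q36307 (allL N36307 (tt N66662 D127478) (tt N66663 D127479) (tt N66655 (iv2 F204894)) (tt N18437 F94347) (tt N66661 (iv4 F204907)) (tt N42629 (iv5 F106645)) (tt N18432 (iv6 D59875)) (tt N66664 D127480))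
theorem Q36309 : ∀ i, i < 36309 → P i := stepQ 36308 Q36308 (allL N36308 (tt N21212 F94349) (tt N21292 F94350) (tt N41318 F103921) (tt N44891 F320737) (tt N18434 (iv4 D59876)) (tt N21371 F94348) (tt N44890 (iv6 F322505)) (tt N41319 (iv7 F103923)))
theorem Q36310 : ∀ i, i < 36310 → P i := stepQ 36309 Q36309 (allL N36309 (tt N66665 D127482) (tt N66666 D127483) (tt N42442 (iv2 F106187)) (tt N41346 (iv3 F103987)) (tt N44890 F323668) (tt N42624 (iv5 F106614)) (tt N18434 (iv6 D59877)) (tt N66667 D127484))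
theorem Q36311 : ∀ i, i < 36311 → P i := stepQ 36310 Q36310 (allL N36310 (tt N66668 D127485) (tt N66669 D127486) (tt N66670 D127487) (tt N18436 (iv3 D59878)) (tt N66659 (iv4 F204904)) (tt N66671 D127488) (tt N66672 D127489) (tt N66639 (iv7 F204806)))
theorem Q36312 : ∀ i, i < 36312 → P i := stepQ 36311 Q36311 (allL N36311 (tt N51652 (iv1 F318887)) (tt N51655 (iv0 F318898)) (tt N58641 (iv2 F169885)) (tt N66671 (iv3 F204914)) (tt N21370 F94351) (tt N18436 (iv5 D59879)) (tt N66673 D127490) (tt N66640 (iv7 F204809)))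
theorem Q36313 : ∀ i, i < 36313 → P i := stepQ 36312 Q36312 (allL N36312 (tt N66674 D127491) (tt N51820 (iv0 F348969)) (tt N66654 (iv2 F204883)) (tt N66672 (iv3 F204924)) (tt N18437 F94352) (tt N66675 D127493) (tt N18436 (iv6 D59880)) (tt N66676 D127494))
theorem Q36314 : ∀ i, i < 36314 → P i := stepQ 36313 Q36313 (allL N36313 (tt N18437 (iv1 D59882)) (tt N62732 (iv0 F204931)) (tt N21151 (iv2 F204935)) (tt N56052 (iv3 F243387)) (tt N51926 (iv4 F317110)) (tt N66677 D127503) (tt N46604 F316755) (tt N62733 (iv7 F204937)))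
theorem Q36315 : ∀ i, i < 36315 → P i := stepQ 36314 Q36314 (allL N36314 (tt N46621 F308836) (tt N27855 (iv0 F311001)) (tt N42622 (iv2 F106607)) (tt N42629 (iv3 F106644)) (tt N61336 (iv4 F178627)) (tt N18437 (iv5 D59883)) (tt N18439 F94353) (tt N46619 F313242))
theorem Q36316 : ∀ i, i < 36316 → P i := stepQ 36315 Q36315 (allL N36315 (tt N21151 F188392) (tt N62733 F188393) (tt N62732 (iv2 F204932)) (tt N66664 (iv3 F204908)) (tt N66676 (iv4 F204926)) (tt N46619 F313240) (tt N29141 (iv6 F315641)) (tt N18437 (iv7 D59884)))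
theorem Q36317 : ∀ i, i < 36317 → P i := stepQ 36316 Q36316 (allL N36316 (tt N20985 F243327) (tt N46609 (iv0 F315260)) (tt N18446 F94356) (tt N45191 (iv3 F114747)) (tt N27616 (iv4 F316809)) (tt N62378 (iv5 F316877)) (tt N18440 (iv6 D59886)) (tt N27612 F314500))
theorem Q36318 : ∀ i, i < 36318 → P i := stepQ 36317 Q36317 (allL N36317 (tt N22586 F94368) (tt N59679 F173481) (tt N18450 F94365) (tt N51982 (iv3 F321391)) (tt N21374 F94367) (tt N18442 (iv5 D59891)) (tt N45486 F334012) (tt N21372 F94366))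
theorem Q36319 : ∀ i, i < 36319 → P i := stepQ 36318 Q36318 (allL N36318 (tt N42155 F162456) (tt N52025 (iv0 F317847)) (tt N18451 F94369) (tt N51983 (iv3 F321393)) (tt N18443 F94370) (tt N51928 F318859) (tt N18442 (iv6 D59892)) (tt N52023 (iv7 F317843)))
theorem Q36320 : ∀ i, i < 36320 → P i := stepQ 36319 Q36319 (allL N36319 (tt N18455 (iv1 F94374)) (tt N18443 (iv0 D59893)) (tt N18453 (iv2 F233722)) (tt N66678 D127529) (tt N66679 D127530) (tt N66680 D127531) (tt N27745 F310950) (tt N18454 (iv7 F233727)))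
theorem Q36321 : ∀ i, i < 36321 → P i := stepQ 36320 Q36320 (allL N36320 (tt N18443 (iv1 D59894)) (tt N18455 F94371) (tt N18454 F233728) (tt N62959 (iv3 F184235)) (tt N66681 D127534) (tt N42434 (iv5 F106183)) (tt N66682 D127535) (tt N18453 F233729))
theorem Q36322 : ∀ i, i < 36322 → P i := stepQ 36321 Q36321 (allL N36321 (tt N18454 (iv1 F94375)) (tt N18453 F94376) (tt N18455 F94372) (tt N56060 (iv3 F162458)) (tt N52023 (iv4 F317842)) (tt N18558 F94373) (tt N66637 (iv6 F204797)) (tt N18443 (iv7 D59895)))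
theorem Q36323 : ∀ i, i < 36323 → P i := stepQ 36322 Q36322 (allL N36322 (tt N66683 D127536) (tt N66684 D127537) (tt N62940 (iv2 F184186)) (tt N18446 F94377) (tt N62897 (iv4 F184072)) (tt N62385 (iv5 F319283)) (tt N18444 (iv6 D59896)) (tt N46608 F317482))
theorem Q36324 : ∀ i, i < 36324 → P i := stepQ 36323 Q36323 (allL N36323 (tt N31892 F94382) (tt N51719 (iv0 F349482)) (tt N58643 F169895) (tt N18445 (iv3 D59899)) (tt N62895 (iv4 F184065)) (tt N31087 (iv5 F105469)) (tt N51714 F320054) (tt N27644 F320055))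
theorem Q36325 : ∀ i, i < 36325 → P i := stepQ 36324 Q36324 (allL N36324 (tt N51657 F320063) (tt N44585 (iv0 F112590)) (tt N51658 F320064) (tt N31087 F105467) (tt N21363 F94383) (tt N18445 (iv5 D59900)) (tt N66685 D127546) (tt N27650 F320065))
theorem Q36326 : ∀ i, i < 36326 → P i := stepQ 36325 Q36325 (allL N36325 (tt N27612 F314499) (tt N18446 (iv0 D59902)) (tt N20985 (iv2 F243162)) (tt N56035 (iv3 F316390)) (tt N27844 F316024) (tt N66686 D127554) (tt N66687 D127555) (tt N46609 F317480))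
theorem Q36327 : ∀ i, i < 36327 → P i := stepQ 36326 Q36326 (allL N36326 (tt N21171 F94386) (tt N21165 F94387) (tt N29585 (iv2 F312199)) (tt N46114 (iv3 F314414)) (tt N18447 (iv4 D59906)) (tt N63767 (iv5 F314417)) (tt N21537 F312043) (tt N45190 (iv7 F114744)))
theorem Q36328 : ∀ i, i < 36328 → P i := stepQ 36327 Q36327 (allL N36327 (tt N66688 D127593) (tt N66689 D127594) (tt N39595 (iv2 F100458)) (tt N18448 (iv3 D59915)) (tt N56179 (iv4 F319199)) (tt N39594 F100457) (tt N51981 F318866) (tt N27848 F318867))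
theorem Q36329 : ∀ i, i < 36329 → P i := stepQ 36328 Q36328 (allL N36328 (tt N51976 F318873) (tt N41657 (iv0 F104657)) (tt N31795 F94393) (tt N39594 (iv3 F100456)) (tt N21352 F94394) (tt N18448 (iv5 D59916)) (tt N66690 D127597) (tt N27849 F318874))
theorem Q36330 : ∀ i, i < 36330 → P i := stepQ 36329 Q36329 (allL N36329 (tt N51984 (iv1 F317352)) (tt N18449 (iv0 D59919)) (tt N56029 (iv2 F205108)) (tt N66691 D127606) (tt N63022 (iv4 F205105)) (tt N66692 D127608) (tt N56029 (iv6 F346321)) (tt N51739 (iv7 F317382)))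
theorem Q36331 : ∀ i, i < 36331 → P i := stepQ 36330 Q36330 (allL N36330 (tt N18449 (iv1 D59920)) (tt N51984 F319625) (tt N51739 F319626) (tt N53869 (iv3 F321614)) (tt N20731 (iv4 F94395)) (tt N58538 (iv5 F182588)) (tt N27685 (iv6 F321618)) (tt N56029 (iv7 F205111)))
theorem Q36332 : ∀ i, i < 36332 → P i := stepQ 36331 Q36331 (allL N36331 (tt N56029 (iv1 F162364)) (tt N51739 F318769) (tt N18449 (iv2 D59921)) (tt N27843 (iv3 F320920)) (tt N18462 F94396) (tt N66693 D127611) (tt N66694 D127612) (tt N51984 F318770))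
theorem Q36333 : ∀ i, i < 36333 → P i := stepQ 36332 Q36332 (allL N36332 (tt N66695 D127613) (tt N59881 (iv0 F174376)) (tt N66693 (iv2 F205176)) (tt N18450 F94397) (tt N57294 F165983) (tt N18449 (iv5 D59922)) (tt N66696 D127614) (tt N56030 (iv7 F162367)))
theorem Q36334 : ∀ i, i < 36334 → P i := stepQ 36333 Q36333 (allL N36333 (tt N66697 D127615) (tt N66698 D127616) (tt N66694 (iv2 F205179)) (tt N18451 F94398) (tt N18463 F94399) (tt N66699 D127617) (tt N18449 (iv6 D59923)) (tt N66700 D127618))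
theorem Q36335 : ∀ i, i < 36335 → P i := stepQ 36334 Q36334 (allL N36334 (tt N21372 (iv1 F94403)) (tt N18450 (iv0 D59924)) (tt N22586 (iv2 F94401)) (tt N44152 (iv3 F110941)) (tt N21315 F94402) (tt N21289 F94400) (tt N39224 (iv6 F99662)) (tt N59679 (iv7 F173479)))
theorem Q36336 : ∀ i, i < 36336 → P i := stepQ 36335 Q36335 (allL N36335 (tt N21371 F94406) (tt N21370 F94407) (tt N21374 F94404) (tt N66701 D127619) (tt N18450 (iv4 D59925)) (tt N21276 F94405) (tt N24054 F333993) (tt N21333 F94408))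
theorem Q36337 : ∀ i, i < 36337 → P i := stepQ 36336 Q36336 (allL N36336 (tt N66702 D127621) (tt N66703 D127622) (tt N45486 (iv2 F333994)) (tt N66696 (iv3 F205182)) (tt N24054 F333992) (tt N66704 D127623) (tt N18450 (iv6 D59926)) (tt N45488 (iv7 F334009)))
theorem Q36338 : ∀ i, i < 36338 → P i := stepQ 36337 Q36337 (allL N36337 (tt N59679 (iv1 F173480)) (tt N22586 (iv0 F94412)) (tt N21372 F94409) (tt N56030 (iv3 F162366)) (tt N21333 F94410) (tt N18452 F94411) (tt N66705 D127625) (tt N18450 (iv7 D59927)))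
theorem Q36339 : ∀ i, i < 36339 → P i := stepQ 36338 Q36338 (allL N36338 (tt N18451 (iv1 D59929)) (tt N52023 (iv0 F317840)) (tt N52025 (iv2 F317849)) (tt N66706 D127628) (tt N42059 (iv4 F105403)) (tt N66707 D127629) (tt N52014 (iv6 F334504)) (tt N42155 (iv7 F192090)))
theorem Q36340 : ∀ i, i < 36340 → P i := stepQ 36339 Q36339 (allL N36339 (tt N27836 F319357) (tt N51930 F319358) (tt N51928 (iv2 F317113)) (tt N66699 (iv3 F205183)) (tt N66708 D127633) (tt N18451 (iv5 D59930)) (tt N66704 (iv6 F205190)) (tt N51927 (iv7 F317112)))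
theorem Q36341 : ∀ i, i < 36341 → P i := stepQ 36340 Q36340 (allL N36340 (tt N52025 (iv1 F317848)) (tt N42155 (iv0 F105519)) (tt N52023 (iv2 F317841)) (tt N66700 (iv3 F205184)) (tt N18455 F94413) (tt N51927 (iv5 F317111)) (tt N66709 D127635) (tt N18451 (iv7 D59931)))
theorem Q36342 : ∀ i, i < 36342 → P i := stepQ 36341 Q36341 (allL N36341 (tt N66710 D127636) (tt N27860 F334488) (tt N51975 (iv2 F317118)) (tt N56031 (iv3 F162368)) (tt N18456 F94414) (tt N55202 (iv5 F320990)) (tt N18452 (iv6 D59932)) (tt N66709 (iv7 F205195)))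
theorem Q36343 : ∀ i, i < 36343 → P i := stepQ 36342 Q36342 (allL N36342 (tt N66711 D127645) (tt N66641 F204825) (tt N62957 (iv2 F233835)) (tt N18453 (iv3 D59934)) (tt N62905 F184102) (tt N66712 D127647) (tt N51999 (iv6 F308810)) (tt N62959 (iv7 F233730)))
theorem Q36344 : ∀ i, i < 36344 → P i := stepQ 36343 Q36343 (allL N36343 (tt N66713 D127650) (tt N51653 (iv0 F318892)) (tt N66679 (iv2 F233724)) (tt N66714 D127651) (tt N18453 (iv4 D59935)) (tt N66715 D127652) (tt N51648 (iv6 F308811)) (tt N66681 (iv7 F233732)))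
theorem Q36345 : ∀ i, i < 36345 → P i := stepQ 36344 Q36344 (allL N36344 (tt N66716 D127655) (tt N21873 F188385) (tt N66680 (iv2 F233720)) (tt N66712 (iv3 F205210)) (tt N66717 D127656) (tt N18453 (iv5 D59936)) (tt N66718 D127657) (tt N42434 (iv7 F233734)))
theorem Q36346 : ∀ i, i < 36346 → P i := stepQ 36345 Q36345 (allL N36345 (tt N43916 F308951) (tt N43921 F308952) (tt N66719 D127666) (tt N18454 (iv3 D59939)) (tt N66720 D127667) (tt N66721 D127668) (tt N66722 D127669) (tt N66678 (iv7 F233723)))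
theorem Q36347 : ∀ i, i < 36347 → P i := stepQ 36346 Q36346 (allL N36346 (tt N51653 (iv1 F318893)) (tt N66713 F205218) (tt N66681 (iv2 F233731)) (tt N66723 D127670) (tt N18454 (iv4 D59940)) (tt N66724 D127671) (tt N66725 D127672) (tt N66679 (iv7 F233725)))
theorem Q36348 : ∀ i, i < 36348 → P i := stepQ 36347 Q36347 (allL N36347 (tt N21873 F205204) (tt N66716 F205222) (tt N42434 (iv2 F233733)) (tt N66721 (iv3 F205272)) (tt N66726 D127673) (tt N18454 (iv5 D59941)) (tt N42422 (iv6 F106169)) (tt N66680 (iv7 F233721)))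
theorem Q36349 : ∀ i, i < 36349 → P i := stepQ 36348 Q36348 (allL N36348 (tt N66727 D127674) (tt N66687 (iv0 F261825)) (tt N66682 (iv2 F233735)) (tt N66722 (iv3 F205275)) (tt N66725 (iv4 F205276)) (tt N54967 (iv5 F315761)) (tt N18454 (iv6 D59942)) (tt N51998 (iv7 F308817)))
theorem Q36350 : ∀ i, i < 36350 → P i := stepQ 36349 Q36349 (allL N36349 (tt N46614 (iv1 F341036)) (tt N66635 F204798) (tt N66637 (iv2 F204796)) (tt N18471 F94417) (tt N66709 (iv4 F205194)) (tt N65372 (iv5 F201180)) (tt N18455 (iv6 D59943)) (tt N18456 F94418))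
theorem Q36351 : ∀ i, i < 36351 → P i := stepQ 36350 Q36350 (allL N36350 (tt N66637 (iv1 F204800)) (tt N18456 (iv0 D59944)) (tt N66635 (iv2 F341040)) (tt N66728 D127679) (tt N66729 D127680) (tt N47717 (iv5 F341008)) (tt N66730 D127682) (tt N46614 F336845))
theorem Q36352 : ∀ i, i < 36352 → P i := stepQ 36351 Q36351 (allL N36351 (tt N18456 (iv1 D59945)) (tt N66637 F204799) (tt N46614 (iv2 F336834)) (tt N40262 (iv3 F330074)) (tt N66731 D127685) (tt N40253 (iv5 F330075)) (tt N27853 F330073) (tt N66635 (iv7 F341042)))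
theorem Q36353 : ∀ i, i < 36353 → P i := stepQ 36352 Q36352 (allL N36352 (tt N55190 (iv1 F350187)) (tt N55187 (iv0 F350188)) (tt N66636 (iv2 F204794)) (tt N18474 F94419) (tt N66732 D127690) (tt N18456 (iv5 D59946)) (tt N18459 F94420) (tt N65372 (iv7 F201181)))
theorem Q36354 : ∀ i, i < 36354 → P i := stepQ 36353 Q36353 (allL N36353 (tt N43585 (iv1 F109221)) (tt N21862 F94423) (tt N18537 F94421) (tt N56093 (iv3 F162618)) (tt N57196 (iv4 F322057)) (tt N18457 (iv5 D59947)) (tt N66733 D127691) (tt N18604 F94422))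
theorem Q36355 : ∀ i, i < 36355 → P i := stepQ 36354 Q36354 (allL N36354 (tt N21862 F94427) (tt N43585 F109223) (tt N18604 F94424) (tt N21880 F94425) (tt N57197 F322626) (tt N18458 (iv5 D59948)) (tt N46459 F310462) (tt N18537 F94426))
theorem Q36356 : ∀ i, i < 36356 → P i := stepQ 36355 Q36355 (allL N36355 (tt N18491 (iv1 F94429)) (tt N18459 (iv0 D59949)) (tt N18606 (iv2 F94430)) (tt N63110 F185672) (tt N63196 (iv4 F186217)) (tt N21523 F94428) (tt N66734 D127692) (tt N18605 (iv7 F94431)))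
theorem Q36357 : ∀ i, i < 36357 → P i := stepQ 36356 Q36356 (allL N36356 (tt N18459 (iv1 D59950)) (tt N18491 F94432) (tt N18605 (iv2 F94435)) (tt N21883 (iv3 F94436)) (tt N63197 (iv4 F186223)) (tt N30677 F94434) (tt N66735 D127693) (tt N18606 F94433))
theorem Q36358 : ∀ i, i < 36358 → P i := stepQ 36357 Q36357 (allL N36357 (tt N42933 (iv1 F107744)) (tt N42930 (iv0 F107732)) (tt N66638 (iv2 F204801)) (tt N66736 D127694) (tt N18459 (iv4 D59951)) (tt N43595 (iv5 F109232)) (tt N66732 (iv6 F205280)) (tt N18607 F94437))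
theorem Q36359 : ∀ i, i < 36359 → P i := stepQ 36358 Q36358 (allL N36358 (tt N40281 F180185) (tt N66737 D127695) (tt N42116 (iv2 F105486)) (tt N18460 (iv3 D59953)) (tt N33444 F94439) (tt N40214 (iv5 F101364)) (tt N56027 (iv6 F321627)) (tt N42119 (iv7 F105488)))
theorem Q36360 : ∀ i, i < 36360 → P i := stepQ 36359 Q36359 (allL N36359 (tt N66738 D127697) (tt N66739 D127698) (tt N56028 (iv2 F162360)) (tt N31084 F94440) (tt N18460 (iv4 D59954)) (tt N31083 (iv5 F94442)) (tt N56028 (iv6 F321629)) (tt N42585 F319624))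
theorem Q36361 : ∀ i, i < 36361 → P i := stepQ 36360 Q36360 (allL N36360 (tt N66740 D127704) (tt N40461 F205308) (tt N66741 D127705) (tt N18461 (iv3 D59957)) (tt N66742 D127706) (tt N40217 (iv5 F101367)) (tt N42530 (iv6 F321610)) (tt N56027 (iv7 F162359)))
theorem Q36362 : ∀ i, i < 36362 → P i := stepQ 36361 Q36361 (allL N36361 (tt N66739 (iv1 F205300)) (tt N66738 F205298) (tt N42585 F319622) (tt N66743 D127708) (tt N18461 (iv4 D59958)) (tt N59713 (iv5 F173628)) (tt N42531 (iv6 F321611)) (tt N56028 (iv7 F162361)))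
theorem Q36363 : ∀ i, i < 36363 → P i := stepQ 36362 Q36362 (allL N36362 (tt N66744 D127714) (tt N42560 (iv0 F317383)) (tt N18463 F94444) (tt N40482 (iv3 F317925)) (tt N66694 (iv4 F205180)) (tt N66745 D127716) (tt N18462 (iv6 D59961)) (tt N66746 D127717))
theorem Q36364 : ∀ i, i < 36364 → P i := stepQ 36363 Q36363 (allL N36363 (tt N66746 (iv1 F205323)) (tt N18463 (iv0 D59962)) (tt N66744 (iv2 F363632)) (tt N66747 D127719) (tt N66748 D127720) (tt N66749 D127721) (tt N62730 (iv6 F320012)) (tt N42560 (iv7 F320014)))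
theorem Q36365 : ∀ i, i < 36365 → P i := stepQ 36364 Q36364 (allL N36364 (tt N18463 (iv1 D59963)) (tt N66746 F205322) (tt N42560 (iv2 F320013)) (tt N66750 D127724) (tt N66751 D127725) (tt N37613 (iv5 F320015)) (tt N42524 (iv6 F320016)) (tt N66744 (iv7 F363633)))
theorem Q36366 : ∀ i, i < 36366 → P i := stepQ 36365 Q36365 (allL N36365 (tt N19075 (iv1 F318851)) (tt N66752 D127729) (tt N66745 (iv2 F205319)) (tt N18464 F94445) (tt N63603 (iv4 F344033)) (tt N18463 (iv5 D59964)) (tt N40591 (iv6 F102224)) (tt N38328 F316560))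
theorem Q36367 : ∀ i, i < 36367 → P i := stepQ 36366 Q36366 (allL N36366 (tt N42560 (iv1 F317384)) (tt N66744 F205321) (tt N66746 (iv2 F205320)) (tt N18465 F94446) (tt N66700 (iv4 F205185)) (tt N38328 (iv5 F315911)) (tt N42557 F315171) (tt N18463 (iv7 D59965)))
theorem Q36368 : ∀ i, i < 36368 → P i := stepQ 36367 Q36367 (allL N36367 (tt N18866 F317135) (tt N24816 F317136) (tt N38031 F317137) (tt N66753 D127732) (tt N18464 (iv4 D59966)) (tt N23769 F94447) (tt N40594 (iv6 F102234)) (tt N23768 F94450))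
theorem Q36369 : ∀ i, i < 36369 → P i := stepQ 36368 Q36368 (allL N36368 (tt N44927 F130831) (tt N18466 (iv0 D59968)) (tt N44375 F311030) (tt N43921 (iv3 F307101)) (tt N66754 D127733) (tt N18608 F130833) (tt N20249 (iv6 F313281)) (tt N21083 F130834))
theorem Q36370 : ∀ i, i < 36370 → P i := stepQ 36369 Q36369 (allL N36369 (tt N66755 D127734) (tt N62602 (iv0 F182691)) (tt N37077 (iv2 F319210)) (tt N63041 (iv3 F184505)) (tt N18466 (iv4 D59971)) (tt N19264 (iv5 F320875)) (tt N34578 (iv6 F130839)) (tt N37076 (iv7 F319974)))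
theorem Q36371 : ∀ i, i < 36371 → P i := stepQ 36370 Q36370 (allL N36370 (tt N57698 (iv1 F310513)) (tt N21854 F130817) (tt N42717 F130818) (tt N18467 F94455) (tt N41261 (iv4 F314533)) (tt N18466 (iv5 D59972)) (tt N23662 (iv6 F130826)) (tt N23093 F94456))
theorem Q36372 : ∀ i, i < 36372 → P i := stepQ 36371 Q36371 (allL N36371 (tt N18468 (iv1 D59975)) (tt N42855 (iv0 F107356)) (tt N44911 F131116) (tt N27747 F307006) (tt N42301 (iv4 F105877)) (tt N25224 F199803) (tt N42863 (iv6 F308803)) (tt N21096 F131117))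
theorem Q36373 : ∀ i, i < 36373 → P i := stepQ 36372 Q36372 (allL N36372 (tt N18469 (iv1 D59978)) (tt N44926 F130844) (tt N56081 F162539) (tt N66711 F205208) (tt N66756 D127738) (tt N18617 F184583) (tt N57680 (iv6 F315155)) (tt N20969 F155382))
theorem Q36374 : ∀ i, i < 36374 → P i := stepQ 36373 Q36373 (allL N36373 (tt N20969 F155348) (tt N56081 F162540) (tt N18469 (iv2 D59979)) (tt N44927 F130843) (tt N66757 D127739) (tt N42493 F155349) (tt N66758 D127740) (tt N44926 (iv7 F130841)))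
theorem Q36375 : ∀ i, i < 36375 → P i := stepQ 36374 Q36374 (allL N36374 (tt N61353 (iv1 F318212)) (tt N66759 D127742) (tt N66757 (iv2 F205348)) (tt N48411 F320078) (tt N18469 (iv4 D59980)) (tt N61764 (iv5 F338534)) (tt N60899 (iv6 F338539)) (tt N56082 (iv7 F162544)))
theorem Q36376 : ∀ i, i < 36376 → P i := stepQ 36375 Q36375 (allL N36375 (tt N66760 D127745) (tt N66761 D127746) (tt N66758 (iv2 F205349)) (tt N18470 F94460) (tt N60899 (iv4 F338538)) (tt N64027 (iv5 F192293)) (tt N18469 (iv6 D59981)) (tt N43939 F313154))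
theorem Q36377 : ∀ i, i < 36377 → P i := stepQ 36376 Q36376 (allL N36376 (tt N34296 F310955) (tt N18470 (iv0 D59982)) (tt N42601 F310956) (tt N66727 (iv3 F243095)) (tt N23968 (iv4 F313199)) (tt N21130 F94461) (tt N62608 (iv6 F182792)) (tt N20987 F182738))
theorem Q36378 : ∀ i, i < 36378 → P i := stepQ 36377 Q36377 (allL N36377 (tt N20249 F315673) (tt N21086 (iv0 F237423)) (tt N40235 F315674) (tt N18472 (iv3 D59986)) (tt N34726 F323506) (tt N20857 F315675) (tt N57487 (iv6 F237431)) (tt N20856 F315676))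
theorem Q36379 : ∀ i, i < 36379 → P i := stepQ 36378 Q36378 (allL N36378 (tt N41675 F104714) (tt N42651 F309222) (tt N56084 F182283) (tt N20857 F316341) (tt N66762 D127755) (tt N18472 (iv5 D59988)) (tt N39919 F316342) (tt N20853 (iv7 F318613)))
theorem Q36380 : ∀ i, i < 36380 → P i := stepQ 36379 Q36379 (allL N36379 (tt N20989 F182266) (tt N62608 F182793) (tt N37623 F182260) (tt N57487 (iv3 F237430)) (tt N20755 F104775) (tt N19503 F94463) (tt N18472 (iv6 D59989)) (tt N37621 F182254))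
theorem Q36381 : ∀ i, i < 36381 → P i := stepQ 36380 Q36380 (allL N36380 (tt N20966 (iv1 F278602)) (tt N57680 F317362) (tt N40230 (iv2 F317915)) (tt N18473 (iv3 D59991)) (tt N63809 (iv4 F315727)) (tt N40221 (iv5 F319628)) (tt N63807 (iv6 F313226)) (tt N56083 (iv7 F182289)))
theorem Q36382 : ∀ i, i < 36382 → P i := stepQ 36381 Q36381 (allL N36381 (tt N42651 F309223) (tt N41675 (iv0 F104715)) (tt N20853 F318776) (tt N40221 (iv3 F319627)) (tt N66763 D127762) (tt N18473 (iv5 D59993)) (tt N20852 F318777) (tt N56084 (iv7 F182284)))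
theorem Q36383 : ∀ i, i < 36383 → P i := stepQ 36382 Q36382 (allL N36382 (tt N42863 F310987) (tt N21095 F104781) (tt N41709 F317825) (tt N63807 (iv3 F313224)) (tt N20758 F104778) (tt N20574 F317826) (tt N18473 (iv6 D59994)) (tt N41713 F317827))
theorem Q36384 : ∀ i, i < 36384 → P i := stepQ 36383 Q36383 (allL N36383 (tt N25203 (iv1 F94465)) (tt N18474 (iv0 D59995)) (tt N41581 (iv2 F316360)) (tt N20248 F317313) (tt N44123 (iv4 F110859)) (tt N40647 (iv5 F316366)) (tt N20501 (iv6 F316348)) (tt N44376 F317314))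
theorem Q36385 : ∀ i, i < 36385 → P i := stepQ 36384 Q36384 (allL N36384 (tt N18474 (iv1 D59996)) (tt N25203 F94466) (tt N44376 F317391) (tt N57679 (iv3 F315151)) (tt N44124 (iv4 F110861)) (tt N41354 (iv5 F104000)) (tt N36228 F321585) (tt N41581 (iv7 F316362)))
theorem Q36386 : ∀ i, i < 36386 → P i := stepQ 36385 Q36385 (allL N36385 (tt N42336 (iv1 F167444)) (tt N42338 (iv0 F167440)) (tt N36661 (iv2 F94958)) (tt N66764 D127765) (tt N18474 (iv4 D59997)) (tt N48514 (iv5 F133113)) (tt N18475 F94467) (tt N48092 (iv7 F130688)))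
theorem Q36387 : ∀ i, i < 36387 → P i := stepQ 36386 Q36386 (allL N36386 (tt N66765 D127766) (tt N66766 D127767) (tt N66767 D127768) (tt N18475 (iv3 D59998)) (tt N66736 (iv4 F205289)) (tt N23155 F94468) (tt N66764 (iv6 F205389)) (tt N18627 F94469))
theorem Q36388 : ∀ i, i < 36388 → P i := stepQ 36387 Q36387 (allL N36387 (tt N20493 F319133) (tt N29903 (iv0 F290365)) (tt N62244 F319134) (tt N18476 (iv3 D60000)) (tt N42672 F290352) (tt N66768 D127773) (tt N66769 D127774) (tt N32693 F178220))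
theorem Q36389 : ∀ i, i < 36389 → P i := stepQ 36388 Q36388 (allL N36388 (tt N66770 D127775) (tt N66771 D127776) (tt N32691 F178223) (tt N66768 (iv3 F205404)) (tt N66772 D127777) (tt N18476 (iv5 D60002)) (tt N66773 D127778) (tt N32694 F178224))
theorem Q36390 : ∀ i, i < 36390 → P i := stepQ 36389 Q36389 (allL N36389 (tt N54831 (iv1 F290548)) (tt N66774 D127779) (tt N32692 F178225) (tt N66769 (iv3 F205406)) (tt N32663 (iv4 F114628)) (tt N26390 F94471) (tt N18476 (iv6 D60003)) (tt N61022 F178226))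
theorem Q36391 : ∀ i, i < 36391 → P i := stepQ 36390 Q36390 (allL N36390 (tt N34127 (iv1 F178287)) (tt N56183 F178289) (tt N56182 F178211) (tt N18477 (iv3 D60005)) (tt N66775 D127780) (tt N66776 D127781) (tt N66777 D127782) (tt N32690 F178212))
theorem Q36392 : ∀ i, i < 36392 → P i := stepQ 36391 Q36391 (allL N36391 (tt N66771 (iv1 F205412)) (tt N66770 F205409) (tt N32694 F178213) (tt N66776 (iv3 F205529)) (tt N66778 D127783) (tt N18477 (iv5 D60007)) (tt N66779 D127784) (tt N32691 F178214))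
theorem Q36393 : ∀ i, i < 36393 → P i := stepQ 36392 Q36392 (allL N36392 (tt N56170 F178033) (tt N56173 F178034) (tt N32695 F178209) (tt N66777 (iv3 F205531)) (tt N32666 (iv4 F114633)) (tt N56329 (iv5 F163430)) (tt N18477 (iv6 D60008)) (tt N66780 D127785))
theorem Q36394 : ∀ i, i < 36394 → P i := stepQ 36393 Q36393 (allL N36393 (tt N32699 (iv1 F94479)) (tt N18478 (iv0 D60009)) (tt N32696 F161681) (tt N66781 D127786) (tt N61313 (iv4 F178571)) (tt N46039 (iv5 F161682)) (tt N66782 D127787) (tt N32697 F161679))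
theorem Q36395 : ∀ i, i < 36395 → P i := stepQ 36394 Q36394 (allL N36394 (tt N18478 (iv1 D60010)) (tt N32699 F94473) (tt N32697 (iv2 F161678)) (tt N66783 D127788) (tt N61314 (iv4 F178567)) (tt N32641 (iv5 F94474)) (tt N66784 D127789) (tt N32696 (iv7 F161680)))
theorem Q36396 : ∀ i, i < 36396 → P i := stepQ 36395 Q36395 (allL N36395 (tt N66785 D127790) (tt N66786 D127791) (tt N32698 F94475) (tt N40730 (iv3 F340007)) (tt N18478 (iv4 D60011)) (tt N40729 F340006) (tt N18485 F94476) (tt N66787 D127794))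
theorem Q36397 : ∀ i, i < 36397 → P i := stepQ 36396 Q36396 (allL N36396 (tt N32697 (iv1 F94480)) (tt N32696 F94482) (tt N32699 F94477) (tt N43274 (iv3 F108441)) (tt N66787 (iv4 F205565)) (tt N18479 F94478) (tt N66788 D127795) (tt N18478 (iv7 D60012)))
theorem Q36398 : ∀ i, i < 36398 → P i := stepQ 36397 Q36397 (allL N36397 (tt N29880 (iv1 F94487)) (tt N18480 (iv0 D60013)) (tt N29905 (iv2 F94486)) (tt N29773 F94484) (tt N32879 F94483) (tt N66789 D127796) (tt N29901 F94485) (tt N29770 F94488))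
theorem Q36399 : ∀ i, i < 36399 → P i := stepQ 36398 Q36398 (allL N36398 (tt N66790 D127797) (tt N66791 D127798) (tt N29915 F94489) (tt N18481 F94490) (tt N66792 D127799) (tt N18480 (iv5 D60014)) (tt N66793 D127800) (tt N32702 F94491))
theorem Q36400 : ∀ i, i < 36400 → P i := stepQ 36399 Q36399 (allL N36399 (tt N56436 (iv1 F163748)) (tt N56154 (iv0 F163119)) (tt N32700 F94492) (tt N66794 D127801) (tt N18481 (iv4 D60015)) (tt N32781 F94494) (tt N66795 D127802) (tt N32703 F94493))
theorem Q36401 : ∀ i, i < 36401 → P i := stepQ 36400 Q36400 (allL N36400 (tt N57094 (iv1 F339909)) (tt N66796 D127804) (tt N32701 F94495) (tt N66793 (iv3 F205591)) (tt N66795 (iv4 F205596)) (tt N32649 F94496) (tt N18481 (iv6 D60016)) (tt N66797 D127805))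
theorem Q36402 : ∀ i, i < 36402 → P i := stepQ 36401 Q36401 (allL N36401 (tt N56154 (iv1 F163120)) (tt N56436 (iv0 F163747)) (tt N32703 F94497) (tt N66798 D127806) (tt N18482 (iv4 D60017)) (tt N32780 F94498) (tt N57938 (iv6 F356727)) (tt N32700 F94499))
theorem Q36403 : ∀ i, i < 36403 → P i := stepQ 36402 Q36402 (allL N36402 (tt N66799 D127808) (tt N66800 D127809) (tt N32704 F94500) (tt N45020 (iv3 F114346)) (tt N57938 (iv4 F356726)) (tt N56162 (iv5 F163133)) (tt N18482 (iv6 D60018)) (tt N66801 D127810))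
theorem Q36404 : ∀ i, i < 36404 → P i := stepQ 36403 Q36403 (allL N36403 (tt N66789 F205577) (tt N29904 F164497) (tt N66802 D127811) (tt N18483 (iv3 D60019)) (tt N66803 D127812) (tt N36247 F94501) (tt N51455 (iv6 F356658)) (tt N32708 F94502))
theorem Q36405 : ∀ i, i < 36405 → P i := stepQ 36404 Q36404 (allL N36404 (tt N66804 D127814) (tt N66805 D127815) (tt N32707 F94503) (tt N51455 (iv3 F356657)) (tt N61322 (iv4 F178588)) (tt N66806 D127816) (tt N18483 (iv6 D60020)) (tt N66807 D127817))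
theorem Q36406 : ∀ i, i < 36406 → P i := stepQ 36405 Q36405 (allL N36405 (tt N66808 D127818) (tt N51409 (iv0 F178372)) (tt N32710 F94504) (tt N50874 (iv3 F142853)) (tt N57202 (iv4 F339926)) (tt N23258 F94505) (tt N18484 (iv6 D60021)) (tt N51059 F205456))
theorem Q36407 : ∀ i, i < 36407 → P i := stepQ 36406 Q36406 (allL N36406 (tt N32715 (iv1 F94507)) (tt N18485 (iv0 D60022)) (tt N32711 F94509) (tt N50406 (iv3 F327161)) (tt N22893 F94506) (tt N21903 (iv5 F94508)) (tt N66809 D127820) (tt N32712 F94510))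
theorem Q36408 : ∀ i, i < 36408 → P i := stepQ 36407 Q36407 (allL N36407 (tt N18485 (iv1 D60023)) (tt N32715 F94511) (tt N32712 (iv2 F94514)) (tt N28534 F329942) (tt N20998 F94513) (tt N36410 (iv5 F94518)) (tt N56931 (iv6 F339960)) (tt N32711 F94512))
theorem Q36409 : ∀ i, i < 36409 → P i := stepQ 36408 Q36408 (allL N36408 (tt N66810 D127823) (tt N66811 D127824) (tt N66812 D127825) (tt N18485 (iv3 D60024)) (tt N43291 (iv4 F108454)) (tt N61223 (iv5 F178379)) (tt N40730 F340010) (tt N61222 F178377))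
theorem Q36410 : ∀ i, i < 36410 → P i := stepQ 36409 Q36409 (allL N36409 (tt N66813 D127826) (tt N66814 D127827) (tt N32716 F94515) (tt N43294 (iv3 F108456)) (tt N61224 (iv4 F178380)) (tt N32146 F94516) (tt N18486 (iv6 D60025)) (tt N66788 (iv7 F205570)))
theorem Q36411 : ∀ i, i < 36411 → P i := stepQ 36410 Q36410 (allL N36410 (tt N42943 (iv1 F107777)) (tt N32433 F94520) (tt N32719 F94517) (tt N50333 (iv3 F329842)) (tt N18487 (iv4 D60026)) (tt N36407 F94518) (tt N57093 (iv6 F339963)) (tt N32722 F94519))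
theorem Q36412 : ∀ i, i < 36412 → P i := stepQ 36411 Q36411 (allL N36411 (tt N50350 F157812) (tt N66815 D127830) (tt N32720 F94521) (tt N42911 (iv3 F107620)) (tt N57093 (iv4 F339962)) (tt N56285 (iv5 F163339)) (tt N18487 (iv6 D60027)) (tt N66816 D127831))
theorem Q36413 : ∀ i, i < 36413 → P i := stepQ 36412 Q36412 (allL N36412 (tt N45641 (iv1 F119233)) (tt N45640 F119231) (tt N24572 F94522) (tt N18489 (iv3 D60028)) (tt N25397 F94523) (tt N22367 F94524) (tt N37016 (iv6 F307933)) (tt N18554 F94525))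
theorem Q36414 : ∀ i, i < 36414 → P i := stepQ 36413 Q36413 (allL N36413 (tt N35379 F94528) (tt N65368 F201167) (tt N18591 F94526) (tt N37016 F309907) (tt N18490 F94527) (tt N37014 (iv5 F312119)) (tt N18489 (iv6 D60029)) (tt N65366 (iv7 F201156)))
theorem Q36415 : ∀ i, i < 36415 → P i := stepQ 36414 Q36414 (allL N36414 (tt N44395 (iv1 F312151)) (tt N65370 F201173) (tt N18602 F94529) (tt N25487 F94530) (tt N65485 (iv4 F312154)) (tt N18490 (iv5 D60030)) (tt N18491 F94531) (tt N65367 (iv7 F201161)))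
theorem Q36416 : ∀ i, i < 36416 → P i := stepQ 36415 Q36415 (allL N36415 (tt N42930 (iv1 F107733)) (tt N42933 (iv0 F107743)) (tt N18607 F94532) (tt N65488 (iv3 F366756)) (tt N18491 (iv4 D60031)) (tt N43594 (iv5 F109228)) (tt N65485 (iv6 F312155)) (tt N66638 (iv7 F204802)))
theorem Q36417 : ∀ i, i < 36417 → P i := stepQ 36416 Q36416 (allL N36416 (tt N19117 F188464) (tt N38381 F188465) (tt N18520 F94540) (tt N25661 (iv3 F305288)) (tt N66817 D127838) (tt N18495 (iv5 D60037)) (tt N18496 F94542) (tt N38380 (iv7 F188418)))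
theorem Q36418 : ∀ i, i < 36418 → P i := stepQ 36417 Q36417 (allL N36417 (tt N22822 F94550) (tt N22814 F94551) (tt N18525 F94548) (tt N66818 D127839) (tt N18496 (iv4 D60039)) (tt N25190 F311220) (tt N66817 (iv6 F205672)) (tt N22818 F94549))
theorem Q36419 : ∀ i, i < 36419 → P i := stepQ 36418 Q36418 (allL N36418 (tt N18592 F184589) (tt N63512 (iv0 F187772)) (tt N21592 F94552) (tt N43226 (iv3 F108362)) (tt N34178 F94553) (tt N66641 (iv5 F204822)) (tt N18497 (iv6 D60040)) (tt N63610 (iv7 F188293)))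
theorem Q36420 : ∀ i, i < 36420 → P i := stepQ 36419 Q36419 (allL N36419 (tt N42431 F155407) (tt N66819 D127841) (tt N21777 F94554) (tt N42483 (iv3 F106277)) (tt N34101 F94555) (tt N66820 D127842) (tt N18498 (iv6 D60041)) (tt N66821 D127843))
theorem Q36421 : ∀ i, i < 36421 → P i := stepQ 36420 Q36420 (allL N36420 (tt N36469 F300968) (tt N18499 (iv0 D60042)) (tt N61344 F191019) (tt N21766 F191020) (tt N34106 F191021) (tt N28075 (iv5 F303687)) (tt N66822 D127845) (tt N21791 F191022))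
theorem Q36422 : ∀ i, i < 36422 → P i := stepQ 36421 Q36421 (allL N36421 (tt N18499 (iv1 D60043)) (tt N36469 F298854) (tt N21791 F191016) (tt N46354 (iv3 F301498)) (tt N34107 F191017) (tt N48420 (iv5 F301499)) (tt N66823 D127848) (tt N61344 F191018))
theorem Q36423 : ∀ i, i < 36423 → P i := stepQ 36422 Q36422 (allL N36422 (tt N28418 (iv1 F303689)) (tt N48919 (iv0 F303690)) (tt N52874 (iv2 F303424)) (tt N18520 F94556) (tt N46726 (iv4 F303691)) (tt N18499 (iv5 D60044)) (tt N18502 F94557) (tt N52875 (iv7 F303432)))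
theorem Q36424 : ∀ i, i < 36424 → P i := stepQ 36423 Q36423 (allL N36423 (tt N21791 F190986) (tt N61344 F178644) (tt N36469 F300642) (tt N18521 F94558) (tt N36483 F300643) (tt N52875 (iv5 F303430)) (tt N46479 (iv6 F188323)) (tt N18499 (iv7 D60045)))
theorem Q36425 : ∀ i, i < 36425 → P i := stepQ 36424 Q36424 (allL N36424 (tt N57430 (iv1 F166711)) (tt N38332 F112265) (tt N57441 F166751) (tt N19064 F94559) (tt N57426 (iv4 F166673)) (tt N18500 (iv5 D60046)) (tt N66824 D127853) (tt N19079 F94560))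
theorem Q36426 : ∀ i, i < 36426 → P i := stepQ 36425 Q36425 (allL N36425 (tt N18506 F94564) (tt N19046 (iv0 F94565)) (tt N19069 F94561) (tt N18501 (iv3 D60047)) (tt N32131 F94562) (tt N48130 F314279) (tt N18501 (iv6 F94566)) (tt N19065 F94563))
theorem Q36427 : ∀ i, i < 36427 → P i := stepQ 36426 Q36426 (allL N36426 (tt N38332 F97993) (tt N57430 (iv0 F166710)) (tt N19079 F94567) (tt N48130 F314276) (tt N57425 (iv4 F166667)) (tt N18501 (iv5 D60048)) (tt N66825 D127855) (tt N57441 (iv7 F166753)))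
theorem Q36428 : ∀ i, i < 36428 → P i := stepQ 36427 Q36427 (allL N36427 (tt N30543 (iv1 F94572)) (tt N18502 (iv0 D60049)) (tt N61345 F178649) (tt N19083 (iv3 F94570)) (tt N28511 F311793) (tt N22780 F94568) (tt N66826 D127856) (tt N19089 F94571))
theorem Q36429 : ∀ i, i < 36429 → P i := stepQ 36428 Q36428 (allL N36428 (tt N18502 (iv1 D60050)) (tt N30543 F94573) (tt N19089 (iv2 F94575)) (tt N42496 (iv3 F106293)) (tt N34117 (iv4 F94576)) (tt N23834 F94574) (tt N66827 D127857) (tt N61345 (iv7 F178651)))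
theorem Q36430 : ∀ i, i < 36430 → P i := stepQ 36429 Q36429 (allL N36429 (tt N18970 F94577) (tt N34581 F94578) (tt N38264 F97802) (tt N52715 (iv3 F307739)) (tt N18502 (iv4 D60051)) (tt N64818 (iv5 F314900)) (tt N46726 F305735) (tt N38265 (iv7 F97805)))
theorem Q36431 : ∀ i, i < 36431 → P i := stepQ 36430 Q36430 (allL N36430 (tt N19089 (iv1 F94582)) (tt N61345 F178650) (tt N30543 F94579) (tt N18526 F94580) (tt N38265 F97806) (tt N18503 F94581) (tt N66828 D127860) (tt N18502 (iv7 D60052)))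
theorem Q36432 : ∀ i, i < 36432 → P i := stepQ 36431 Q36431 (allL N36431 (tt N25488 F199686) (tt N39912 F312244) (tt N20264 F312245) (tt N43020 (iv3 F107950)) (tt N35338 F94584) (tt N20263 F312246) (tt N18504 (iv6 D60053)) (tt N44370 F312247))
theorem Q36433 : ∀ i, i < 36433 → P i := stepQ 36432 Q36432 (allL N36432 (tt N19069 (iv1 F94589)) (tt N19065 F94590) (tt N19046 F94586) (tt N18510 F94587) (tt N38282 (iv4 F97842)) (tt N42502 (iv5 F106305)) (tt N18603 F94588) (tt N18506 (iv7 D60055)))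
theorem Q36434 : ∀ i, i < 36434 → P i := stepQ 36433 Q36433 (allL N36433 (tt N42469 F186861) (tt N66829 D127862) (tt N21835 F94591) (tt N42680 (iv3 F106825)) (tt N43409 (iv4 F108751)) (tt N38362 (iv5 F98084)) (tt N18507 (iv6 D60056)) (tt N66830 D127863))
theorem Q36435 : ∀ i, i < 36435 → P i := stepQ 36434 Q36434 (allL N36434 (tt N43555 F191285) (tt N21851 F191286) (tt N18536 F94592) (tt N42484 (iv3 F106280)) (tt N22851 F94593) (tt N66733 (iv5 F205282)) (tt N18508 (iv6 D60060)) (tt N25538 F305232))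
theorem Q36436 : ∀ i, i < 36436 → P i := stepQ 36435 Q36435 (allL N36435 (tt N46425 (iv1 F123578)) (tt N46424 F123577) (tt N23449 F94598) (tt N18511 (iv3 D60062)) (tt N42452 (iv4 F106204)) (tt N63938 (iv5 F191878)) (tt N66831 D127868) (tt N42420 (iv7 F106166)))
theorem Q36437 : ∀ i, i < 36437 → P i := stepQ 36436 Q36436 (allL N36436 (tt N44574 F112567) (tt N66832 D127869) (tt N21797 F94599) (tt N66831 (iv3 F205777)) (tt N18512 F94600) (tt N66833 D127870) (tt N18511 (iv6 D60063)) (tt N66834 D127871))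
theorem Q36438 : ∀ i, i < 36438 → P i := stepQ 36437 Q36437 (allL N36437 (tt N18512 (iv1 D60065)) (tt N21800 F94601) (tt N21799 F234212) (tt N42499 (iv3 F234204)) (tt N66835 D127878) (tt N25412 F309388) (tt N46483 (iv6 F201147)) (tt N21798 (iv7 F234215)))
theorem Q36439 : ∀ i, i < 36439 → P i := stepQ 36438 Q36438 (allL N36438 (tt N21799 (iv1 F94604)) (tt N21798 F94605) (tt N21800 F94602) (tt N42456 (iv3 F106209)) (tt N66834 (iv4 F205784)) (tt N24282 F311664) (tt N42425 (iv6 F106175)) (tt N18512 (iv7 D60066)))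
theorem Q36440 : ∀ i, i < 36440 → P i := stepQ 36439 Q36439 (allL N36439 (tt N66836 D127880) (tt N47090 (iv0 F128260)) (tt N42113 F303571) (tt N18513 (iv3 D60067)) (tt N22107 F94606) (tt N42042 (iv5 F305674)) (tt N66837 D127882) (tt N43434 (iv7 F108864)))
theorem Q36441 : ∀ i, i < 36441 → P i := stepQ 36440 Q36440 (allL N36440 (tt N35079 F94608) (tt N35087 F94609) (tt N36532 F94770) (tt N42042 F307690) (tt N22309 F94607) (tt N18513 (iv5 D60068)) (tt N42040 (iv6 F309695)) (tt N36531 F94765))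
theorem Q36442 : ∀ i, i < 36442 → P i := stepQ 36441 Q36441 (allL N36441 (tt N38375 F308673) (tt N66835 (iv0 F205791)) (tt N42724 (iv2 F106988)) (tt N66837 (iv3 F205797)) (tt N22106 F94610) (tt N66838 D127885) (tt N18513 (iv6 D60069)) (tt N66839 D127886))
theorem Q36443 : ∀ i, i < 36443 → P i := stepQ 36442 Q36442 (allL N36442 (tt N35087 F94614) (tt N35079 F94615) (tt N36531 F94764) (tt N44596 F308216) (tt N22310 F94613) (tt N18514 (iv5 D60071)) (tt N44595 (iv6 F310230)) (tt N36532 (iv7 F94767)))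
theorem Q36444 : ∀ i, i < 36444 → P i := stepQ 36443 Q36443 (allL N36443 (tt N42432 F205690) (tt N42436 (iv0 F230637)) (tt N43435 (iv2 F108865)) (tt N53063 (iv3 F296787)) (tt N22171 F94623) (tt N66840 D127891) (tt N18514 (iv6 D60072)) (tt N66841 D127892))
theorem Q36445 : ∀ i, i < 36445 → P i := stepQ 36444 Q36444 (allL N36444 (tt N33939 (iv1 F94627)) (tt N32656 (iv0 F94626)) (tt N18515 (iv2 D60073)) (tt N34435 F298359) (tt N33927 F94624) (tt N32596 F94625) (tt N22046 (iv6 F299489)) (tt N43173 (iv7 F108247)))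
theorem Q36446 : ∀ i, i < 36446 → P i := stepQ 36445 Q36445 (allL N36445 (tt N32656 (iv1 F94632)) (tt N33939 F94633) (tt N43173 (iv2 F108244)) (tt N18518 F94629) (tt N22993 F94630) (tt N32597 F94631) (tt N66842 D127898) (tt N18515 (iv7 D60075)))
theorem Q36447 : ∀ i, i < 36447 → P i := stepQ 36446 Q36446 (allL N36446 (tt N18539 (iv1 F94636)) (tt N18516 (iv0 D60076)) (tt N43427 (iv2 F108820)) (tt N64048 (iv3 F192389)) (tt N35335 F94635) (tt N18560 F94634) (tt N66843 D127899) (tt N43429 (iv7 F108842)))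
theorem Q36448 : ∀ i, i < 36448 → P i := stepQ 36447 Q36447 (allL N36447 (tt N18516 (iv1 D60077)) (tt N18539 F94637) (tt N43429 (iv2 F108840)) (tt N53065 (iv3 F296802)) (tt N35337 F94639) (tt N18561 F94638) (tt N66844 D127901) (tt N43427 (iv7 F108821)))
theorem Q36449 : ∀ i, i < 36449 → P i := stepQ 36448 Q36448 (allL N36448 (tt N66845 D127902) (tt N66846 D127903) (tt N64704 (iv2 F198162)) (tt N43183 (iv3 F108261)) (tt N22366 F94640) (tt N47165 F308842) (tt N18516 (iv6 D60078)) (tt N66847 D127905))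
theorem Q36450 : ∀ i, i < 36450 → P i := stepQ 36449 Q36449 (allL N36449 (tt N34433 F302405) (tt N18517 (iv0 D60079)) (tt N38377 F303586) (tt N46873 F302406) (tt N22175 F191027) (tt N45508 (iv5 F304847)) (tt N43719 F191028) (tt N38376 (iv7 F303592)))
theorem Q36451 : ∀ i, i < 36451 → P i := stepQ 36450 Q36450 (allL N36450 (tt N38376 (iv1 F303591)) (tt N38377 F303583) (tt N34433 F302417) (tt N22053 F302418) (tt N18521 F94641) (tt N22052 (iv5 F304856)) (tt N46480 F188365) (tt N18517 (iv7 D60082)))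
theorem Q36452 : ∀ i, i < 36452 → P i := stepQ 36451 Q36451 (allL N36451 (tt N43534 (iv1 F190320)) (tt N43536 F190301) (tt N18540 F94642) (tt N66842 (iv3 F205812)) (tt N18522 F94643) (tt N55460 (iv5 F333907)) (tt N18518 (iv6 D60083)) (tt N46480 (iv7 F188359)))
theorem Q36453 : ∀ i, i < 36453 → P i := stepQ 36452 Q36452 (allL N36452 (tt N42438 (iv1 F206135)) (tt N66718 (iv0 F205223)) (tt N21814 F189879) (tt N46513 F303542) (tt N52812 F303543) (tt N36557 F94798) (tt N18519 (iv6 D60088)) (tt N66848 D127921))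
theorem Q36454 : ∀ i, i < 36454 → P i := stepQ 36453 Q36453 (allL N36453 (tt N38380 F188413) (tt N18520 (iv0 D60094)) (tt N19117 F188414) (tt N21806 (iv3 F303811)) (tt N24277 F303511) (tt N34607 F303512) (tt N52386 (iv6 F304558)) (tt N38381 F188416))
theorem Q36455 : ∀ i, i < 36455 → P i := stepQ 36454 Q36454 (allL N36454 (tt N37644 F190452) (tt N46601 (iv0 F305338)) (tt N66817 (iv2 F205671)) (tt N27680 (iv3 F306822)) (tt N18520 (iv4 D60096)) (tt N55179 (iv5 F306823)) (tt N18525 F94646) (tt N46556 (iv7 F305606)))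
theorem Q36456 : ∀ i, i < 36456 → P i := stepQ 36455 Q36455 (allL N36455 (tt N38381 F188466) (tt N19117 F188467) (tt N38380 F188419) (tt N52875 F303515) (tt N46556 (iv4 F305605)) (tt N18521 F94647) (tt N44529 (iv6 F185326)) (tt N18520 (iv7 D60097)))
theorem Q36457 : ∀ i, i < 36457 → P i := stepQ 36456 Q36456 (allL N36456 (tt N63181 F190972) (tt N21877 F190973) (tt N18542 F94654) (tt N61376 (iv3 F178709)) (tt N66849 D127928) (tt N18522 (iv5 D60101)) (tt N18527 F94655) (tt N46481 (iv7 F188360)))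
theorem Q36458 : ∀ i, i < 36458 → P i := stepQ 36457 Q36457 (allL N36457 (tt N22805 F94657) (tt N22810 F94658) (tt N19039 F94656) (tt N37491 F185269) (tt N18523 (iv4 D60102)) (tt N25401 F308531) (tt N66850 D127929) (tt N25465 (iv7 F310261)))
theorem Q36459 : ∀ i, i < 36459 → P i := stepQ 36458 Q36458 (allL N36458 (tt N66851 D127930) (tt N66852 D127931) (tt N19040 F94659) (tt N38314 (iv3 F97937)) (tt N66850 (iv4 F205864)) (tt N44020 F317610) (tt N18523 (iv6 D60103)) (tt N48478 F314588))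
theorem Q36460 : ∀ i, i < 36460 → P i := stepQ 36459 Q36459 (allL N36459 (tt N38363 (iv1 F98085)) (tt N22199 F94661) (tt N19102 F94660) (tt N42695 (iv3 F309363)) (tt N18524 (iv4 D60104)) (tt N27728 F308533) (tt N66853 D127935) (tt N38361 (iv7 F98079)))
theorem Q36461 : ∀ i, i < 36461 → P i := stepQ 36460 Q36460 (allL N36460 (tt N66854 D127936) (tt N66855 D127937) (tt N19103 F94662) (tt N38351 (iv3 F98070)) (tt N66853 (iv4 F205880)) (tt N41330 (iv5 F103942)) (tt N18524 (iv6 D60105)) (tt N66856 D127938))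
theorem Q36462 : ∀ i, i < 36462 → P i := stepQ 36461 Q36461 (allL N36461 (tt N44527 F112417) (tt N66857 D127941) (tt N46555 (iv2 F310766)) (tt N18525 (iv3 D60107)) (tt N52715 F308657) (tt N25200 F307184) (tt N27680 (iv6 F310767)) (tt N25453 F307186))
theorem Q36463 : ∀ i, i < 36463 → P i := stepQ 36462 Q36462 (allL N36462 (tt N44531 F185325) (tt N38386 (iv0 F209901)) (tt N38331 (iv2 F97979)) (tt N66828 (iv3 F205741)) (tt N25459 F307178) (tt N63184 (iv5 F185879)) (tt N18526 (iv6 D60110)) (tt N44529 F185324))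
theorem Q36464 : ∀ i, i < 36464 → P i := stepQ 36463 Q36463 (allL N36463 (tt N43543 F109171) (tt N42676 (iv0 F106808)) (tt N18546 F94671) (tt N66858 D127948) (tt N18527 (iv4 D60111)) (tt N66859 D127949) (tt N66849 (iv6 F205861)) (tt N63183 (iv7 F185874)))
theorem Q36465 : ∀ i, i < 36465 → P i := stepQ 36464 Q36464 (allL N36464 (tt N21847 F188317) (tt N34021 (iv0 F305692)) (tt N18534 F94674) (tt N42497 (iv3 F106298)) (tt N36474 (iv4 F304886)) (tt N44987 (iv5 F114290)) (tt N18529 (iv6 D60113)) (tt N36470 F304858))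
theorem Q36466 : ∀ i, i < 36466 → P i := stepQ 36465 Q36465 (allL N36465 (tt N22361 F94675) (tt N23221 F94676) (tt N43032 F107984) (tt N42235 F309439) (tt N18530 (iv4 D60114)) (tt N44559 (iv5 F112542)) (tt N42233 (iv6 F311648)) (tt N43033 (iv7 F107987)))
theorem Q36467 : ∀ i, i < 36467 → P i := stepQ 36466 Q36466 (allL N36466 (tt N61149 (iv1 F349954)) (tt N63463 (iv0 F360696)) (tt N45205 (iv2 F114786)) (tt N33767 F314114) (tt N42233 F314115) (tt N66860 D127955) (tt N18530 (iv6 D60115)) (tt N42202 (iv7 F316575)))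
theorem Q36468 : ∀ i, i < 36468 → P i := stepQ 36467 Q36467 (allL N36467 (tt N61161 F178131) (tt N45257 (iv0 F114953)) (tt N44985 (iv2 F114284)) (tt N44975 (iv3 F114243)) (tt N66861 D127957) (tt N18531 (iv5 D60116)) (tt N66860 (iv6 F205913)) (tt N44981 (iv7 F114274)))
theorem Q36469 : ∀ i, i < 36469 → P i := stepQ 36468 Q36468 (allL N36468 (tt N66862 D127958) (tt N42435 (iv0 F230634)) (tt N21830 F94677) (tt N42686 (iv3 F106855)) (tt N34015 F94678) (tt N41339 (iv5 F103968)) (tt N18532 (iv6 D60117)) (tt N66863 D127960))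
theorem Q36470 : ∀ i, i < 36470 → P i := stepQ 36469 Q36469 (allL N36469 (tt N36421 (iv1 F298854)) (tt N36420 (iv0 F300968)) (tt N36423 (iv2 F300642)) (tt N18533 (iv3 D60118)) (tt N18538 F94679) (tt N48765 (iv5 F134359)) (tt N66864 D127962) (tt N32799 (iv7 F300637)))
theorem Q36471 : ∀ i, i < 36471 → P i := stepQ 36470 Q36470 (allL N36470 (tt N36472 (iv1 F305305)) (tt N36471 (iv0 F305726)) (tt N36474 (iv2 F304885)) (tt N66864 (iv3 F205930)) (tt N18534 F94680) (tt N28305 F339153) (tt N18533 (iv6 D60119)) (tt N36464 (iv7 F304858)))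
theorem Q36472 : ∀ i, i < 36472 → P i := stepQ 36471 Q36471 (allL N36471 (tt N36470 F305726) (tt N18534 (iv0 D60120)) (tt N21847 F188368) (tt N43555 (iv3 F190276)) (tt N33992 F305727) (tt N66865 D127964) (tt N66866 D127965) (tt N34021 F305728))
theorem Q36473 : ∀ i, i < 36473 → P i := stepQ 36472 Q36472 (allL N36472 (tt N18534 (iv1 D60121)) (tt N36470 F305305) (tt N34021 (iv2 F305694)) (tt N21828 F188370) (tt N20727 F319257) (tt N66867 D127966) (tt N66868 D127967) (tt N21847 F188372))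
theorem Q36474 : ∀ i, i < 36474 → P i := stepQ 36473 Q36473 (allL N36473 (tt N53364 (iv1 F339140)) (tt N53363 (iv0 F339133)) (tt N44987 (iv2 F114289)) (tt N18542 F94681) (tt N53320 (iv4 F339158)) (tt N18534 (iv5 D60122)) (tt N18535 F94682) (tt N53319 (iv7 F339152)))
theorem Q36475 : ∀ i, i < 36475 → P i := stepQ 36474 Q36474 (allL N36474 (tt N34021 (iv1 F305693)) (tt N21847 F188311) (tt N36470 F304885) (tt N18543 F94683) (tt N36464 F304886) (tt N53319 (iv5 F339150)) (tt N23296 F304887) (tt N18534 (iv7 D60123)))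
theorem Q36476 : ∀ i, i < 36476 → P i := stepQ 36475 Q36475 (allL N36475 (tt N42636 (iv1 F106664)) (tt N18535 (iv0 D60124)) (tt N21859 (iv2 F94684)) (tt N43585 F109222) (tt N34038 (iv4 F107525)) (tt N41437 F104206) (tt N66869 D127971) (tt N42627 (iv7 F106636)))
theorem Q36477 : ∀ i, i < 36477 → P i := stepQ 36476 Q36476 (allL N36476 (tt N63290 (iv1 F186764)) (tt N45262 (iv0 F114973)) (tt N44986 (iv2 F114286)) (tt N54118 (iv3 F352719)) (tt N18535 (iv4 D60125)) (tt N66870 D127973) (tt N53320 (iv6 F339159)) (tt N44982 (iv7 F114275)))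
theorem Q36478 : ∀ i, i < 36478 → P i := stepQ 36477 Q36477 (allL N36477 (tt N25538 F305233) (tt N18536 (iv0 D60126)) (tt N43555 F205760) (tt N21827 F205761) (tt N43488 F205762) (tt N36225 F321590) (tt N57696 (iv6 F310507)) (tt N21851 F205763))
theorem Q36479 : ∀ i, i < 36479 → P i := stepQ 36478 Q36478 (allL N36478 (tt N18536 (iv1 D60127)) (tt N25538 F305234) (tt N21851 F205764) (tt N34021 F307704) (tt N43489 F205765) (tt N66871 D127976) (tt N66872 D127977) (tt N43555 F205766))
theorem Q36480 : ∀ i, i < 36480 → P i := stepQ 36479 Q36479 (allL N36479 (tt N63802 (iv1 F241037)) (tt N66873 D127979) (tt N66733 (iv2 F205281)) (tt N39893 F315866) (tt N66874 D127980) (tt N18536 (iv5 D60128)) (tt N18537 F94685) (tt N46452 F305235))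
theorem Q36481 : ∀ i, i < 36481 → P i := stepQ 36480 Q36480 (allL N36480 (tt N18537 (iv1 D60130)) (tt N18604 F94686) (tt N21862 (iv2 F94688)) (tt N42627 (iv3 F106635)) (tt N43496 (iv4 F109095)) (tt N23383 F94687) (tt N40250 F324032) (tt N43585 (iv7 F109220)))
theorem Q36482 : ∀ i, i < 36482 → P i := stepQ 36481 Q36481 (allL N36481 (tt N22161 F94689) (tt N22271 F94690) (tt N57196 (iv2 F322056)) (tt N66875 D127983) (tt N18537 (iv4 D60131)) (tt N66876 D127984) (tt N66874 (iv6 F205956)) (tt N57197 (iv7 F322061)))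
theorem Q36483 : ∀ i, i < 36483 → P i := stepQ 36482 Q36482 (allL N36482 (tt N34435 F298156) (tt N18538 (iv0 D60132)) (tt N33967 F298157) (tt N25791 F94691) (tt N25424 F94692) (tt N66877 D127985) (tt N44428 F316069) (tt N34111 F298158))
theorem Q36484 : ∀ i, i < 36484 → P i := stepQ 36483 Q36483 (allL N36483 (tt N33967 F298153) (tt N34111 F298154) (tt N18538 (iv2 D60133)) (tt N43173 (iv3 F108245)) (tt N36423 (iv4 F300643)) (tt N43172 F108243) (tt N43395 (iv6 F300645)) (tt N34435 F298155))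
theorem Q36485 : ∀ i, i < 36485 → P i := stepQ 36484 Q36484 (allL N36484 (tt N64046 F192387) (tt N46137 (iv0 F121967)) (tt N43172 (iv2 F108241)) (tt N18539 F94694) (tt N27453 (iv4 F94695)) (tt N18538 (iv5 D60134)) (tt N49635 (iv6 F308369)) (tt N44773 (iv7 F300641)))
theorem Q36486 : ∀ i, i < 36486 → P i := stepQ 36485 Q36485 (allL N36485 (tt N34144 (iv1 F300972)) (tt N34045 (iv0 F299520)) (tt N43395 (iv2 F300644)) (tt N18540 F94696) (tt N66864 (iv4 F205931)) (tt N66878 D127990) (tt N18538 (iv6 D60135)) (tt N34434 (iv7 F299488)))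
theorem Q36487 : ∀ i, i < 36487 → P i := stepQ 36486 Q36486 (allL N36486 (tt N46480 (iv1 F188373)) (tt N18540 (iv0 D60137)) (tt N43534 (iv2 F190315)) (tt N44766 F303596) (tt N43447 (iv4 F190139)) (tt N45713 (iv5 F321786)) (tt N66879 D127998) (tt N43536 F190318))
theorem Q36488 : ∀ i, i < 36488 → P i := stepQ 36487 Q36487 (allL N36487 (tt N18540 (iv1 D60138)) (tt N46480 F188366) (tt N43536 (iv2 F190316)) (tt N66880 D127999) (tt N22125 F188367) (tt N66881 D128000) (tt N66882 D128001) (tt N43534 (iv7 F190312)))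
theorem Q36489 : ∀ i, i < 36489 → P i := stepQ 36488 Q36488 (allL N36488 (tt N23641 F333983) (tt N66883 D128003) (tt N55460 (iv2 F333906)) (tt N66878 (iv3 F205982)) (tt N51676 (iv4 F352717)) (tt N18540 (iv5 D60139)) (tt N49636 (iv6 F308370)) (tt N66884 D128005))
theorem Q36490 : ∀ i, i < 36490 → P i := stepQ 36489 Q36489 (allL N36489 (tt N43536 F190292) (tt N43534 F190319) (tt N46480 F188364) (tt N34434 F302419) (tt N18543 F94698) (tt N66884 (iv5 F205991)) (tt N34433 F302420) (tt N18540 (iv7 D60140)))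
theorem Q36491 : ∀ i, i < 36491 → P i := stepQ 36490 Q36490 (allL N36490 (tt N22248 F190176) (tt N46467 F188333) (tt N21872 F188334) (tt N52843 F301513) (tt N18541 (iv4 D60148)) (tt N58802 (iv5 F344631)) (tt N66885 D128008) (tt N46468 F188335))
theorem Q36492 : ∀ i, i < 36492 → P i := stepQ 36491 Q36491 (allL N36491 (tt N20630 (iv1 F319290)) (tt N20629 (iv0 F319289)) (tt N20631 F317016) (tt N46503 F188339) (tt N66886 D128009) (tt N18541 (iv5 D60149)) (tt N62380 F317017) (tt N20624 F317018))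
theorem Q36493 : ∀ i, i < 36493 → P i := stepQ 36492 Q36492 (allL N36492 (tt N66680 F204991) (tt N42434 F188391) (tt N21873 F188341) (tt N46504 F188342) (tt N66885 (iv4 F205995)) (tt N36602 (iv5 F94856)) (tt N18541 (iv6 D60150)) (tt N66716 (iv7 F205221)))
theorem Q36494 : ∀ i, i < 36494 → P i := stepQ 36493 Q36493 (allL N36493 (tt N18542 (iv1 D60152)) (tt N46481 F188362) (tt N21877 F190677) (tt N39890 F310665) (tt N66887 D128010) (tt N45700 F190679) (tt N22669 F310666) (tt N63181 F190680))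
theorem Q36495 : ∀ i, i < 36495 → P i := stepQ 36494 Q36494 (allL N36494 (tt N66888 D128012) (tt N66889 D128013) (tt N66849 (iv2 F205860)) (tt N54117 (iv3 F352712)) (tt N18542 (iv4 D60153)) (tt N55391 (iv5 F352716)) (tt N18546 F94701) (tt N54116 (iv7 F352711)))
theorem Q36496 : ∀ i, i < 36496 → P i := stepQ 36495 Q36495 (allL N36495 (tt N21877 F190970) (tt N63181 F190971) (tt N46481 F188361) (tt N53319 (iv3 F339149)) (tt N54116 (iv4 F352710)) (tt N18543 F94702) (tt N66890 D128017) (tt N18542 (iv7 D60154)))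
theorem Q36497 : ∀ i, i < 36497 → P i := stepQ 36496 Q36496 (allL N36496 (tt N42194 (iv1 F105559)) (tt N42196 (iv0 F105566)) (tt N21888 F94703) (tt N51036 (iv3 F329720)) (tt N18544 (iv4 D60155)) (tt N51035 (iv5 F339951)) (tt N66891 D128020) (tt N43872 (iv7 F110074)))
theorem Q36498 : ∀ i, i < 36498 → P i := stepQ 36497 Q36497 (allL N36497 (tt N44373 F316993) (tt N44372 F316994) (tt N21889 F94704) (tt N56106 (iv3 F162673)) (tt N66891 (iv4 F206010)) (tt N66646 (iv5 F204834)) (tt N18544 (iv6 D60156)) (tt N44371 F316995))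
theorem Q36499 : ∀ i, i < 36499 → P i := stepQ 36498 Q36498 (allL N36498 (tt N22254 F94706) (tt N42192 (iv0 F105552)) (tt N21893 F94705) (tt N51046 (iv3 F329199)) (tt N18545 (iv4 D60157)) (tt N51071 (iv5 F339902)) (tt N33226 F322662) (tt N43860 (iv7 F110048)))
theorem Q36500 : ∀ i, i < 36500 → P i := stepQ 36499 Q36499 (allL N36499 (tt N63183 (iv1 F185877)) (tt N18546 (iv0 D60159)) (tt N43543 (iv2 F109168)) (tt N66892 D128030) (tt N22408 F94708) (tt N66893 D128031) (tt N66894 D128032) (tt N42676 (iv7 F106807)))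
theorem Q36501 : ∀ i, i < 36501 → P i := stepQ 36500 Q36500 (allL N36500 (tt N18546 (iv1 D60160)) (tt N63183 (iv0 F185876)) (tt N42676 (iv2 F106806)) (tt N66895 D128033) (tt N22140 F94709) (tt N66896 D128034) (tt N40435 F323806) (tt N43543 (iv7 F109169)))
theorem Q36502 : ∀ i, i < 36502 → P i := stepQ 36501 Q36501 (allL N36501 (tt N66897 D128036) (tt N66898 D128037) (tt N54232 (iv2 F352718)) (tt N18546 (iv3 D60161)) (tt N54118 (iv4 F352720)) (tt N66899 D128039) (tt N54117 (iv6 F352713)) (tt N66900 D128040))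
theorem Q36503 : ∀ i, i < 36503 → P i := stepQ 36502 Q36502 (allL N36502 (tt N22421 F94710) (tt N66901 D128041) (tt N66859 (iv2 F205900)) (tt N66899 (iv3 F206037)) (tt N66902 D128042) (tt N18546 (iv5 D60162)) (tt N66903 D128043) (tt N66904 D128044))
theorem Q36504 : ∀ i, i < 36504 → P i := stepQ 36503 Q36503 (allL N36503 (tt N42676 (iv1 F106809)) (tt N43543 (iv0 F109170)) (tt N63183 (iv2 F185873)) (tt N66900 (iv3 F206039)) (tt N18547 F94711) (tt N66904 (iv5 F206049)) (tt N66905 D128045) (tt N18546 (iv7 D60163)))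
theorem Q36505 : ∀ i, i < 36505 → P i := stepQ 36504 Q36504 (allL N36504 (tt N62569 (iv1 F318151)) (tt N66906 D128047) (tt N63184 (iv2 F185878)) (tt N44983 (iv3 F114278)) (tt N66905 (iv4 F206052)) (tt N38331 (iv5 F97980)) (tt N18547 (iv6 D60164)) (tt N66890 (iv7 F206004)))
theorem Q36506 : ∀ i, i < 36506 → P i := stepQ 36505 Q36505 (allL N36505 (tt N33978 F305913) (tt N34348 F305914) (tt N36607 (iv2 F306331)) (tt N18550 F94712) (tt N36606 (iv4 F307036)) (tt N45312 (iv5 F115131)) (tt N18548 (iv6 D60165)) (tt N42996 (iv7 F306948)))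
theorem Q36507 : ∀ i, i < 36507 → P i := stepQ 36506 Q36506 (allL N36506 (tt N46135 F121955) (tt N34608 (iv0 F94714)) (tt N34231 F298716) (tt N18549 (iv3 D60166)) (tt N63262 (iv4 F186619)) (tt N52490 F149795) (tt N34160 (iv6 F301375)) (tt N18571 F94713))
theorem Q36508 : ∀ i, i < 36508 → P i := stepQ 36507 Q36507 (allL N36507 (tt N47301 F308983) (tt N63704 F188818) (tt N18564 F94715) (tt N34160 F304137) (tt N18550 F94716) (tt N66907 D128050) (tt N18549 (iv6 D60167)) (tt N34224 (iv7 F304314)))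
theorem Q36509 : ∀ i, i < 36509 → P i := stepQ 36508 Q36508 (allL N36508 (tt N21636 F188382) (tt N40737 F319834) (tt N18566 F94718) (tt N45312 (iv3 F115130)) (tt N66908 D128051) (tt N18550 (iv5 D60170)) (tt N21513 F94719) (tt N40749 F320157))
theorem Q36510 : ∀ i, i < 36510 → P i := stepQ 36509 Q36509 (allL N36509 (tt N65168 F199419) (tt N63736 F190032) (tt N18573 F94725) (tt N63586 (iv3 F188204)) (tt N18552 F94726) (tt N66909 D128052) (tt N18551 (iv6 D60172)) (tt N45697 F191392))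
theorem Q36511 : ∀ i, i < 36511 → P i := stepQ 36510 Q36510 (allL N36510 (tt N52849 (iv1 F151706)) (tt N52846 (iv0 F151699)) (tt N54072 (iv2 F155886)) (tt N18553 (iv3 D60176)) (tt N24358 F94733) (tt N42662 (iv5 F108407)) (tt N43725 (iv6 F109552)) (tt N18577 F94734))
theorem Q36512 : ∀ i, i < 36512 → P i := stepQ 36511 Q36511 (allL N36511 (tt N24572 (iv1 F94735)) (tt N18554 (iv0 D60177)) (tt N45640 (iv2 F123977)) (tt N66910 D128053) (tt N33945 F305792) (tt N66911 D128054) (tt N52779 (iv6 F343995)) (tt N45641 (iv7 F123978)))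
theorem Q36513 : ∀ i, i < 36513 → P i := stepQ 36512 Q36512 (allL N36512 (tt N18554 (iv1 D60178)) (tt N24572 F94736) (tt N45641 F123975) (tt N63659 (iv3 F300857)) (tt N33944 F305791) (tt N66912 D128056) (tt N66913 D128057) (tt N45640 F123976))
theorem Q36514 : ∀ i, i < 36514 → P i := stepQ 36513 Q36513 (allL N36513 (tt N66914 D128058) (tt N25081 (iv0 F300868)) (tt N24665 F298301) (tt N18555 F94737) (tt N56109 (iv4 F162690)) (tt N66915 D128060) (tt N18554 (iv6 D60179)) (tt N66916 D128061))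
theorem Q36515 : ∀ i, i < 36515 → P i := stepQ 36514 Q36514 (allL N36514 (tt N18555 (iv1 D60180)) (tt N18590 F94738) (tt N18588 F109993) (tt N64464 (iv3 F304701)) (tt N43410 (iv4 F130771)) (tt N66917 D128063) (tt N24589 F302133) (tt N18587 (iv7 F110021)))
theorem Q36516 : ∀ i, i < 36516 → P i := stepQ 36515 Q36515 (allL N36515 (tt N66918 D128065) (tt N66919 D128066) (tt N18589 F94739) (tt N66915 (iv3 F206071)) (tt N66920 D128067) (tt N18555 (iv5 D60181)) (tt N64713 (iv6 F198198)) (tt N66921 D128068))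
theorem Q36517 : ∀ i, i < 36517 → P i := stepQ 36516 Q36516 (allL N36516 (tt N18588 (iv1 F94742)) (tt N18587 F94743) (tt N18590 F94740) (tt N66916 (iv3 F206072)) (tt N18558 F94741) (tt N66921 (iv5 F206081)) (tt N65366 (iv6 F201155)) (tt N18555 (iv7 D60182)))
theorem Q36518 : ∀ i, i < 36518 → P i := stepQ 36517 Q36517 (allL N36517 (tt N43902 (iv1 F307097)) (tt N21710 F185361) (tt N43915 F307056) (tt N18556 (iv3 D60184)) (tt N63263 (iv4 F232336)) (tt N46602 (iv5 F313482)) (tt N46603 F311178) (tt N18596 F185343))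
theorem Q36519 : ∀ i, i < 36519 → P i := stepQ 36518 Q36518 (allL N36518 (tt N47307 (iv1 F304743)) (tt N43430 F185359) (tt N18593 F185344) (tt N34208 F303482) (tt N18556 (iv4 D60185)) (tt N66922 D128073) (tt N46605 F314073) (tt N18597 F185345))
theorem Q36520 : ∀ i, i < 36520 → P i := stepQ 36519 Q36519 (allL N36519 (tt N43430 F131212) (tt N47307 F305900) (tt N18597 F185352) (tt N43306 F305901) (tt N18557 (iv4 D60189)) (tt N66923 D128079) (tt N34203 F305902) (tt N18593 F185353))
theorem Q36521 : ∀ i, i < 36521 → P i := stepQ 36520 Q36520 (allL N36520 (tt N46604 F315996) (tt N42900 F188381) (tt N18598 F185354) (tt N63620 (iv3 F188497)) (tt N27794 (iv4 F318176)) (tt N18557 (iv5 D60190)) (tt N41332 (iv6 F103946)) (tt N18594 F185355))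
theorem Q36522 : ∀ i, i < 36522 → P i := stepQ 36521 Q36521 (allL N36521 (tt N63574 (iv1 F188169)) (tt N18559 (iv0 D60192)) (tt N47966 F188767) (tt N21584 F188768) (tt N34179 F188769) (tt N66924 D128083) (tt N52876 (iv6 F303648)) (tt N21606 F188770))
theorem Q36523 : ∀ i, i < 36523 → P i := stepQ 36522 Q36522 (allL N36522 (tt N18559 (iv1 D60193)) (tt N63574 F188168) (tt N21606 F188764) (tt N66925 D128085) (tt N34180 F188765) (tt N66926 D128086) (tt N66927 D128087) (tt N47966 F188766))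
theorem Q36524 : ∀ i, i < 36524 → P i := stepQ 36523 Q36523 (allL N36523 (tt N66928 D128088) (tt N66929 D128089) (tt N63573 (iv2 F188161)) (tt N18566 F94747) (tt N66930 D128090) (tt N18559 (iv5 D60194)) (tt N44141 (iv6 F110917)) (tt N66931 D128091))
theorem Q36525 : ∀ i, i < 36525 → P i := stepQ 36524 Q36524 (allL N36524 (tt N21606 (iv1 F188401)) (tt N47966 (iv0 F188402)) (tt N63574 (iv2 F188164)) (tt N18567 F94748) (tt N24743 F94749) (tt N66931 (iv5 F206163)) (tt N45696 (iv6 F189956)) (tt N18559 (iv7 D60195)))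
theorem Q36526 : ∀ i, i < 36526 → P i := stepQ 36525 Q36525 (allL N36525 (tt N66932 D128092) (tt N52793 (iv0 F151369)) (tt N47372 (iv2 F128717)) (tt N18560 (iv3 D60196)) (tt N22052 F94750) (tt N64048 (iv5 F192388)) (tt N66933 D128093) (tt N43428 (iv7 F108839)))
theorem Q36527 : ∀ i, i < 36527 → P i := stepQ 36526 Q36526 (allL N36526 (tt N37175 F310685) (tt N37191 F310686) (tt N37144 F310687) (tt N66933 (iv3 F206170)) (tt N22048 F94751) (tt N37844 (iv5 F312960)) (tt N18560 (iv6 D60197)) (tt N37189 F310688))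
theorem Q36528 : ∀ i, i < 36528 → P i := stepQ 36527 Q36527 (allL N36527 (tt N25360 F94753) (tt N45410 (iv0 F132282)) (tt N45409 F115758) (tt N18561 (iv3 D60198)) (tt N21713 F94752) (tt N53065 F298387) (tt N46384 (iv6 F300874)) (tt N37145 F307066))
theorem Q36529 : ∀ i, i < 36529 → P i := stepQ 36528 Q36528 (allL N36528 (tt N18593 F131196) (tt N18597 F131197) (tt N43430 (iv2 F108845)) (tt N46384 F303651) (tt N22170 F94754) (tt N66934 D128096) (tt N18561 (iv6 D60199)) (tt N47307 F306742))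
theorem Q36530 : ∀ i, i < 36530 → P i := stepQ 36529 Q36529 (allL N36529 (tt N34280 (iv1 F94758)) (tt N32598 F94757) (tt N18562 (iv2 D60200)) (tt N34231 F298717) (tt N22108 F94755) (tt N22084 F94756) (tt N34228 (iv6 F301376)) (tt N43958 (iv7 F110317)))
theorem Q36531 : ∀ i, i < 36531 → P i := stepQ 36530 Q36530 (allL N36530 (tt N47256 (iv1 F331901)) (tt N66429 (iv0 F331893)) (tt N34228 F304142) (tt N18564 F94759) (tt N24739 F94760) (tt N55956 (iv5 F329467)) (tt N18562 (iv6 D60201)) (tt N66935 D128101))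
theorem Q36532 : ∀ i, i < 36532 → P i := stepQ 36531 Q36531 (allL N36531 (tt N18572 (iv1 F94763)) (tt N18563 (iv0 D60202)) (tt N36442 (iv2 F94764)) (tt N66936 D128102) (tt N22208 F94762) (tt N22189 F94761) (tt N66937 D128103) (tt N36440 (iv7 F94765)))
theorem Q36533 : ∀ i, i < 36533 → P i := stepQ 36532 Q36532 (allL N36532 (tt N18563 (iv1 D60203)) (tt N18572 F94766) (tt N36440 (iv2 F94770)) (tt N66938 D128104) (tt N22210 F94769) (tt N21740 F94768) (tt N66939 D128105) (tt N36442 F94767))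
theorem Q36534 : ∀ i, i < 36534 → P i := stepQ 36533 Q36533 (allL N36533 (tt N66940 D128106) (tt N64016 (iv0 F336309)) (tt N64684 (iv2 F198062)) (tt N46090 (iv3 F120210)) (tt N22363 F94775) (tt N48084 F329664) (tt N18563 (iv6 D60204)) (tt N57350 (iv7 F329469)))
theorem Q36535 : ∀ i, i < 36535 → P i := stepQ 36534 Q36534 (allL N36534 (tt N34224 F306334) (tt N18564 (iv0 D60205)) (tt N47301 (iv2 F307123)) (tt N66941 D128110) (tt N22297 F190724) (tt N66422 (iv5 F333393)) (tt N34202 F306329) (tt N63704 (iv7 F188816)))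
theorem Q36536 : ∀ i, i < 36536 → P i := stepQ 36535 Q36535 (allL N36535 (tt N18564 (iv1 D60206)) (tt N34224 (iv0 F304313)) (tt N63704 (iv2 F188815)) (tt N47304 F308984) (tt N22298 F190719) (tt N66423 (iv5 F333397)) (tt N47395 F308242) (tt N47301 F308985))
theorem Q36537 : ∀ i, i < 36537 → P i := stepQ 36536 Q36536 (allL N36536 (tt N66942 D128116) (tt N66943 D128117) (tt N66907 (iv2 F206059)) (tt N55956 (iv3 F329466)) (tt N66944 D128118) (tt N18564 (iv5 D60207)) (tt N48084 F329665) (tt N66945 D128119))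
theorem Q36538 : ∀ i, i < 36538 → P i := stepQ 36537 Q36537 (allL N36537 (tt N63704 F188817) (tt N47301 F308982) (tt N34224 F305912) (tt N66935 (iv3 F206177)) (tt N18567 F94776) (tt N66945 (iv5 F206196)) (tt N45697 (iv6 F191390)) (tt N18564 (iv7 D60208)))
theorem Q36539 : ∀ i, i < 36539 → P i := stepQ 36538 Q36538 (allL N36538 (tt N43638 (iv1 F190375)) (tt N18579 F190372) (tt N21625 F188437) (tt N52776 F302135) (tt N18565 (iv4 D60211)) (tt N66946 D128121) (tt N24591 F302136) (tt N43636 (iv7 F190729)))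
theorem Q36540 : ∀ i, i < 36540 → P i := stepQ 36539 Q36539 (allL N36539 (tt N46228 F188439) (tt N46227 F188440) (tt N21626 F188441) (tt N46193 F188442) (tt N66947 D128123) (tt N18565 (iv5 D60212)) (tt N63066 (iv6 F317791)) (tt N46225 F188443))
theorem Q36541 : ∀ i, i < 36541 → P i := stepQ 36540 Q36540 (allL N36540 (tt N40749 F319835) (tt N18566 (iv0 D60219)) (tt N21636 F188346) (tt N56119 (iv3 F191169)) (tt N66948 D128125) (tt N66949 D128126) (tt N66677 F204929) (tt N40737 F319836))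
theorem Q36542 : ∀ i, i < 36542 → P i := stepQ 36541 Q36541 (allL N36541 (tt N66950 D128127) (tt N66951 D128128) (tt N66908 (iv2 F206060)) (tt N32744 (iv3 F94781)) (tt N18566 (iv4 D60221)) (tt N66952 D128129) (tt N32740 F94780) (tt N66953 D128130))
theorem Q36543 : ∀ i, i < 36543 → P i := stepQ 36542 Q36542 (allL N36542 (tt N40737 F319833) (tt N21636 F188387) (tt N40749 F320158) (tt N66931 (iv3 F206162)) (tt N66953 (iv4 F206228)) (tt N18567 F94782) (tt N66954 D128131) (tt N18566 (iv7 D60222)))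
theorem Q36544 : ∀ i, i < 36544 → P i := stepQ 36543 Q36543 (allL N36543 (tt N49039 F135088) (tt N53549 (iv0 F153998)) (tt N64060 (iv2 F192601)) (tt N18569 (iv3 D60223)) (tt N18571 F94783) (tt N48454 (iv5 F132808)) (tt N66955 D128132) (tt N63262 (iv7 F186621)))
theorem Q36545 : ∀ i, i < 36545 → P i := stepQ 36544 Q36544 (allL N36544 (tt N63719 (iv1 F190937)) (tt N48460 F309013) (tt N56125 (iv2 F162802)) (tt N66955 (iv3 F206248)) (tt N18570 F94784) (tt N66956 D128133) (tt N18569 (iv6 D60224)) (tt N63725 (iv7 F191378)))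
theorem Q36546 : ∀ i, i < 36546 → P i := stepQ 36545 Q36545 (allL N36545 (tt N45739 (iv1 F189945)) (tt N18570 (iv0 D60225)) (tt N21720 F189897) (tt N43704 (iv3 F190962)) (tt N34309 F189899) (tt N66957 D128134) (tt N48082 (iv6 F307109)) (tt N44009 (iv7 F307900)))
theorem Q36547 : ∀ i, i < 36547 → P i := stepQ 36546 Q36546 (allL N36546 (tt N44009 F308745) (tt N21720 F189987) (tt N45739 (iv2 F189946)) (tt N18576 F94785) (tt N63725 F189988) (tt N21727 (iv5 F189993)) (tt N42996 F308746) (tt N18570 (iv7 D60227)))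
theorem Q36548 : ∀ i, i < 36548 → P i := stepQ 36547 Q36547 (allL N36547 (tt N34231 F298202) (tt N18571 (iv0 D60228)) (tt N34608 (iv2 F94789)) (tt N28709 F94787) (tt N27939 F94788) (tt N64046 (iv5 F192385)) (tt N34183 (iv6 F300689)) (tt N46135 (iv7 F121954)))
theorem Q36549 : ∀ i, i < 36549 → P i := stepQ 36548 Q36548 (allL N36548 (tt N34608 (iv1 F121957)) (tt N46135 F121956) (tt N18571 (iv2 D60229)) (tt N43958 (iv3 F110321)) (tt N64060 (iv4 F192602)) (tt N46077 (iv5 F120186)) (tt N66958 D128137) (tt N34231 F298722))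
theorem Q36550 : ∀ i, i < 36550 → P i := stepQ 36549 Q36549 (allL N36549 (tt N59984 (iv1 F323301)) (tt N63252 (iv0 F298159)) (tt N46077 (iv2 F120184)) (tt N18572 F94790) (tt N27448 (iv4 F94791)) (tt N18571 (iv5 D60230)) (tt N63241 (iv6 F336408)) (tt N52490 (iv7 F149793)))
theorem Q36551 : ∀ i, i < 36551 → P i := stepQ 36550 Q36550 (allL N36550 (tt N66959 D128140) (tt N43982 F303611) (tt N66958 (iv2 F206261)) (tt N18573 F94792) (tt N66955 (iv4 F206249)) (tt N63242 (iv5 F311883)) (tt N18571 (iv6 D60231)) (tt N34227 F306342))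
theorem Q36552 : ∀ i, i < 36552 → P i := stepQ 36551 Q36551 (allL N36551 (tt N66960 D128143) (tt N66961 D128144) (tt N64692 (iv2 F198094)) (tt N63241 (iv3 F336406)) (tt N22354 F94793) (tt N63240 (iv5 F311886)) (tt N18572 (iv6 D60232)) (tt N66962 D128146))
theorem Q36553 : ∀ i, i < 36553 → P i := stepQ 36552 Q36552 (allL N36552 (tt N45697 F189933) (tt N18573 (iv0 D60233)) (tt N65168 (iv2 F199416)) (tt N36236 F315757) (tt N22343 F190649) (tt N66963 D128148) (tt N66964 D128149) (tt N63736 F189935))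
theorem Q36554 : ∀ i, i < 36554 → P i := stepQ 36553 Q36553 (allL N36553 (tt N18573 (iv1 D60234)) (tt N45697 F189936) (tt N63736 F189937) (tt N66965 D128150) (tt N22344 F190644) (tt N66966 D128151) (tt N47333 F310177) (tt N65168 (iv7 F199417)))
theorem Q36555 : ∀ i, i < 36555 → P i := stepQ 36554 Q36554 (allL N36554 (tt N19325 F309700) (tt N66967 D128154) (tt N66909 (iv2 F206063)) (tt N63242 (iv3 F311882)) (tt N66968 D128155) (tt N18573 (iv5 D60235)) (tt N63240 (iv6 F311887)) (tt N66969 D128156))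
theorem Q36556 : ∀ i, i < 36556 → P i := stepQ 36555 Q36555 (allL N36555 (tt N63736 F190003) (tt N65168 (iv0 F199418)) (tt N45697 F191391) (tt N34227 F306339) (tt N18576 F94794) (tt N66969 (iv5 F206285)) (tt N34224 F306340) (tt N18573 (iv7 D60236)))
theorem Q36557 : ∀ i, i < 36557 → P i := stepQ 36556 Q36556 (allL N36556 (tt N18582 F190667) (tt N43727 F190668) (tt N21734 F189924) (tt N66970 D128157) (tt N18574 (iv4 D60244)) (tt N66971 D128158) (tt N64519 (iv6 F310567)) (tt N43724 (iv7 F190661)))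
theorem Q36558 : ∀ i, i < 36558 → P i := stepQ 36557 Q36557 (allL N36557 (tt N18575 (iv1 D60248)) (tt N45698 (iv0 F190964)) (tt N21724 F189886) (tt N44009 F309900) (tt N35344 F190958) (tt N36452 (iv5 F94798)) (tt N25458 F308735) (tt N43704 (iv7 F190963)))
theorem Q36559 : ∀ i, i < 36559 → P i := stepQ 36558 Q36558 (allL N36558 (tt N21724 F190004) (tt N43704 (iv0 F190959)) (tt N45698 F190967) (tt N21727 F190006) (tt N22365 F94800) (tt N18576 F94801) (tt N46190 (iv6 F190018)) (tt N18575 (iv7 D60249)))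
theorem Q36560 : ∀ i, i < 36560 → P i := stepQ 36559 Q36559 (allL N36559 (tt N54072 (iv1 F155890)) (tt N18577 (iv0 D60250)) (tt N52846 (iv2 F151696)) (tt N24575 F94802) (tt N49436 (iv4 F136433)) (tt N62885 (iv5 F184005)) (tt N66972 D128163) (tt N52849 (iv7 F151704)))
theorem Q36561 : ∀ i, i < 36561 → P i := stepQ 36560 Q36560 (allL N36560 (tt N18577 (iv1 D60251)) (tt N54072 (iv0 F155889)) (tt N52849 (iv2 F151701)) (tt N66973 D128164) (tt N47816 (iv4 F129799)) (tt N23356 F114724) (tt N66974 D128165) (tt N52846 (iv7 F151697)))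
theorem Q36562 : ∀ i, i < 36562 → P i := stepQ 36561 Q36561 (allL N36561 (tt N52846 (iv1 F151700)) (tt N52849 (iv0 F151705)) (tt N18577 (iv2 D60252)) (tt N43632 (iv3 F109309)) (tt N24357 F94803) (tt N42663 (iv5 F108410)) (tt N66975 D128166) (tt N54072 (iv7 F155888)))
theorem Q36563 : ∀ i, i < 36563 → P i := stepQ 36562 Q36562 (allL N36562 (tt N34584 (iv1 F106437)) (tt N33836 (iv0 F106438)) (tt N42663 F108409) (tt N18578 F94804) (tt N42581 F106436) (tt N18577 (iv5 D60253)) (tt N66976 D128167) (tt N42662 (iv7 F108408)))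
theorem Q36564 : ∀ i, i < 36564 → P i := stepQ 36563 Q36563 (allL N36563 (tt N66977 D128168) (tt N66978 D128169) (tt N66975 (iv2 F206304)) (tt N18579 F94805) (tt N53979 (iv4 F155625)) (tt N66979 D128170) (tt N18577 (iv6 D60254)) (tt N66980 D128171))
theorem Q36565 : ∀ i, i < 36565 → P i := stepQ 36564 Q36564 (allL N36564 (tt N66981 D128172) (tt N66982 D128173) (tt N43635 (iv2 F109329)) (tt N66976 (iv3 F206306)) (tt N22332 F94806) (tt N66983 D128174) (tt N18578 (iv6 D60255)) (tt N66984 D128175))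
theorem Q36566 : ∀ i, i < 36566 → P i := stepQ 36565 Q36565 (allL N36565 (tt N66985 D128176) (tt N66986 D128177) (tt N43637 (iv2 F109332)) (tt N66979 (iv3 F206307)) (tt N66987 D128178) (tt N18579 (iv5 D60258)) (tt N66983 (iv6 F206310)) (tt N66988 D128179))
theorem Q36567 : ∀ i, i < 36567 → P i := stepQ 36566 Q36566 (allL N36566 (tt N43636 (iv1 F109331)) (tt N21625 F190739) (tt N43638 (iv2 F109333)) (tt N66980 (iv3 F206308)) (tt N43631 (iv4 F109304)) (tt N66988 (iv5 F206314)) (tt N43727 (iv6 F109556)) (tt N18579 (iv7 D60259)))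
theorem Q36568 : ∀ i, i < 36568 → P i := stepQ 36567 Q36567 (allL N36567 (tt N43632 (iv1 F109312)) (tt N18580 (iv0 D60260)) (tt N35059 (iv2 F94811)) (tt N63538 (iv3 F300847)) (tt N34905 (iv4 F109316)) (tt N32638 F94807) (tt N63536 (iv6 F307774)) (tt N35056 (iv7 F94812)))
theorem Q36569 : ∀ i, i < 36569 → P i := stepQ 36568 Q36568 (allL N36568 (tt N18580 (iv1 D60261)) (tt N43632 F109313) (tt N35056 F94809) (tt N45646 (iv3 F119258)) (tt N34906 (iv4 F109320)) (tt N50072 (iv5 F138813)) (tt N66989 D128182) (tt N35059 F94810))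
theorem Q36570 : ∀ i, i < 36570 → P i := stepQ 36569 Q36569 (allL N36569 (tt N35059 (iv1 F94817)) (tt N35056 F94816) (tt N18580 (iv2 D60262)) (tt N54072 (iv3 F155887)) (tt N35340 F94815) (tt N55782 (iv5 F161729)) (tt N44835 F321523) (tt N43632 (iv7 F109311)))
theorem Q36571 : ∀ i, i < 36571 → P i := stepQ 36570 Q36570 (allL N36570 (tt N47049 (iv1 F319544)) (tt N23650 (iv0 F319545)) (tt N44835 (iv2 F319546)) (tt N18582 F94818) (tt N35341 F94819) (tt N27991 F317246) (tt N18580 (iv6 D60263)) (tt N44839 F317247))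
theorem Q36572 : ∀ i, i < 36572 → P i := stepQ 36571 Q36571 (allL N36571 (tt N47174 (iv1 F319547)) (tt N47579 (iv0 F319548)) (tt N65200 (iv2 F199533)) (tt N44832 (iv3 F319549)) (tt N22311 F94820) (tt N44831 F317250) (tt N18581 (iv6 D60264)) (tt N66990 D128191))
theorem Q36573 : ∀ i, i < 36573 → P i := stepQ 36572 Q36572 (allL N36572 (tt N46879 F312578) (tt N44738 F312579) (tt N43726 (iv2 F109553)) (tt N27991 (iv3 F315030)) (tt N45509 (iv4 F315032)) (tt N18582 (iv5 D60267)) (tt N44831 (iv6 F315034)) (tt N44838 F312580))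
theorem Q36574 : ∀ i, i < 36574 → P i := stepQ 36573 Q36573 (allL N36573 (tt N21734 (iv1 F190658)) (tt N43724 F109557) (tt N43727 (iv2 F109554)) (tt N44839 (iv3 F315036)) (tt N35333 F94821) (tt N44838 F312592) (tt N43638 (iv6 F109335)) (tt N18582 (iv7 D60268)))
theorem Q36575 : ∀ i, i < 36575 → P i := stepQ 36574 Q36574 (allL N36574 (tt N62885 (iv1 F184008)) (tt N23356 (iv0 F108875)) (tt N64039 (iv2 F192372)) (tt N18583 (iv3 D60269)) (tt N45186 (iv4 F114721)) (tt N22191 F94822) (tt N63699 (iv6 F334116)) (tt N64038 (iv7 F192366)))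
theorem Q36576 : ∀ i, i < 36576 → P i := stepQ 36575 Q36575 (allL N36575 (tt N66991 D128197) (tt N66992 D128198) (tt N43418 (iv2 F108793)) (tt N63699 (iv3 F334114)) (tt N22258 F94823) (tt N63698 (iv5 F304288)) (tt N18583 (iv6 D60270)) (tt N66993 D128200))
theorem Q36577 : ∀ i, i < 36577 → P i := stepQ 36576 Q36576 (allL N36576 (tt N32638 (iv1 F94828)) (tt N50072 (iv0 F138812)) (tt N32743 F94827) (tt N18584 (iv3 D60271)) (tt N23175 F94824) (tt N22247 F94825) (tt N66994 D128201) (tt N32738 F94826))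
theorem Q36578 : ∀ i, i < 36578 → P i := stepQ 36577 Q36577 (allL N36577 (tt N49629 (iv1 F311629)) (tt N49632 F309399) (tt N48692 (iv2 F309574)) (tt N66994 (iv3 F206339)) (tt N22220 F94829) (tt N52274 (iv5 F344673)) (tt N18584 (iv6 D60272)) (tt N66995 D128205))
theorem Q36579 : ∀ i, i < 36579 → P i := stepQ 36578 Q36578 (allL N36578 (tt N64714 (iv1 F198204)) (tt N18585 (iv0 D60273)) (tt N64711 (iv2 F354959)) (tt N57391 (iv3 F354083)) (tt N66996 D128208) (tt N57389 (iv5 F354086)) (tt N66997 D128210) (tt N64712 (iv7 F357696)))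
theorem Q36580 : ∀ i, i < 36580 → P i := stepQ 36579 Q36579 (allL N36579 (tt N18585 (iv1 D60274)) (tt N64714 F198203) (tt N64712 (iv2 F357694)) (tt N66998 D128212) (tt N66999 D128213) (tt N55093 (iv5 F347138)) (tt N67000 D128215) (tt N64711 (iv7 F354961)))
theorem Q36581 : ∀ i, i < 36581 → P i := stepQ 36580 Q36580 (allL N36580 (tt N67001 D128216) (tt N67002 D128217) (tt N64713 (iv2 F198197)) (tt N45652 (iv3 F119268)) (tt N67003 D128218) (tt N18585 (iv5 D60275)) (tt N18589 F94830) (tt N67004 D128219))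
theorem Q36582 : ∀ i, i < 36582 → P i := stepQ 36581 Q36581 (allL N36581 (tt N64712 (iv1 F198196)) (tt N64711 F198202) (tt N64714 (iv2 F198199)) (tt N45653 (iv3 F119270)) (tt N64701 (iv4 F198120)) (tt N67004 (iv5 F206346)) (tt N67005 D128220) (tt N18585 (iv7 D60276)))
theorem Q36583 : ∀ i, i < 36583 → P i := stepQ 36582 Q36582 (allL N36582 (tt N67006 D128221) (tt N67007 D128222) (tt N22368 F94831) (tt N25362 F94832) (tt N22281 F94833) (tt N67008 D128223) (tt N18586 (iv6 D60277)) (tt N67005 (iv7 F206350)))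
theorem Q36584 : ∀ i, i < 36584 → P i := stepQ 36583 Q36583 (allL N36583 (tt N67009 D128224) (tt N66974 (iv0 F332350)) (tt N67010 D128226) (tt N18587 (iv3 D60279)) (tt N54121 (iv4 F184638)) (tt N66494 (iv5 F332352)) (tt N67011 D128228) (tt N64464 (iv7 F304702)))
theorem Q36585 : ∀ i, i < 36585 → P i := stepQ 36584 Q36584 (allL N36584 (tt N67012 D128229) (tt N67013 D128230) (tt N43812 (iv2 F110032)) (tt N66494 (iv3 F332351)) (tt N67014 D128231) (tt N18587 (iv5 D60281)) (tt N66493 (iv6 F357890)) (tt N66917 (iv7 F206076)))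
theorem Q36586 : ∀ i, i < 36586 → P i := stepQ 36585 Q36585 (allL N36585 (tt N64519 (iv1 F310564)) (tt N24612 F304754) (tt N43813 F110031) (tt N67011 (iv3 F206360)) (tt N27716 F310098) (tt N67015 D128235) (tt N18587 (iv6 D60282)) (tt N52789 (iv7 F304709)))
theorem Q36587 : ∀ i, i < 36587 → P i := stepQ 36586 Q36586 (allL N36586 (tt N63536 (iv1 F305722)) (tt N67016 D128238) (tt N67017 D128239) (tt N18588 (iv3 D60284)) (tt N43627 (iv4 F109299)) (tt N67018 D128240) (tt N28761 F303517) (tt N43811 F110043))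
theorem Q36588 : ∀ i, i < 36588 → P i := stepQ 36587 Q36587 (allL N36587 (tt N67013 (iv1 F206363)) (tt N67012 F206362) (tt N66917 (iv2 F206075)) (tt N67018 (iv3 F206370)) (tt N67019 D128242) (tt N18588 (iv5 D60285)) (tt N67020 D128243) (tt N43812 F110044))
theorem Q36589 : ∀ i, i < 36589 → P i := stepQ 36588 Q36588 (allL N36588 (tt N66921 (iv1 F206084)) (tt N18589 (iv0 D60287)) (tt N66918 (iv2 F231556)) (tt N67021 D128249) (tt N67022 D128250) (tt N67023 D128251) (tt N54989 (iv6 F354121)) (tt N66919 (iv7 F231559)))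
theorem Q36590 : ∀ i, i < 36590 → P i := stepQ 36589 Q36589 (allL N36589 (tt N18589 (iv1 D60288)) (tt N66921 F206083) (tt N66919 (iv2 F231558)) (tt N67024 D128254) (tt N67025 D128255) (tt N67026 D128256) (tt N67027 D128257) (tt N66918 (iv7 F231557)))
theorem Q36591 : ∀ i, i < 36591 → P i := stepQ 36590 Q36590 (allL N36590 (tt N54986 (iv1 F369798)) (tt N67028 D128259) (tt N66920 (iv2 F206079)) (tt N67029 D128260) (tt N18589 (iv4 D60289)) (tt N67030 D128261) (tt N67003 (iv6 F206345)) (tt N67031 D128262))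
theorem Q36592 : ∀ i, i < 36592 → P i := stepQ 36591 Q36591 (allL N36591 (tt N66919 (iv1 F206078)) (tt N66918 F206082) (tt N66921 (iv2 F206080)) (tt N24667 F303388) (tt N67031 (iv4 F206383)) (tt N18590 F94836) (tt N39402 F343459) (tt N18589 (iv7 D60290)))
theorem Q36593 : ∀ i, i < 36593 → P i := stepQ 36592 Q36592 (allL N36592 (tt N65366 F201158) (tt N18591 (iv0 D60291)) (tt N35379 (iv2 F190881)) (tt N19758 (iv3 F315357)) (tt N35378 F190882) (tt N19756 (iv5 F315358)) (tt N52795 (iv6 F300720)) (tt N65368 (iv7 F201168)))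
theorem Q36594 : ∀ i, i < 36594 → P i := stepQ 36593 Q36593 (allL N36593 (tt N18591 (iv1 D60292)) (tt N65366 (iv0 F201157)) (tt N65368 F201166) (tt N67032 D128267) (tt N35369 (iv4 F94837)) (tt N67033 D128268) (tt N67034 D128269) (tt N35379 (iv7 F190880)))
theorem Q36595 : ∀ i, i < 36595 → P i := stepQ 36594 Q36594 (allL N36594 (tt N67035 D128270) (tt N67036 D128271) (tt N37014 F314318) (tt N25363 F94838) (tt N67037 D128272) (tt N18591 (iv5 D60293)) (tt N67008 (iv6 F206357)) (tt N65369 (iv7 F201170)))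
theorem Q36596 : ∀ i, i < 36596 → P i := stepQ 36595 Q36595 (allL N36595 (tt N63512 F187774) (tt N18592 (iv0 D60300)) (tt N63610 F188291) (tt N18617 F131202) (tt N34241 F131203) (tt N66711 F205207) (tt N25251 F184577) (tt N21592 F184578))
theorem Q36597 : ∀ i, i < 36597 → P i := stepQ 36596 Q36596 (allL N36596 (tt N67038 D128273) (tt N67039 D128274) (tt N63611 (iv2 F188301)) (tt N18594 F94847) (tt N67040 D128275) (tt N18592 (iv5 D60303)) (tt N24935 F315992) (tt N63620 (iv7 F188498)))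
theorem Q36598 : ∀ i, i < 36598 → P i := stepQ 36597 Q36597 (allL N36597 (tt N63105 (iv1 F278071)) (tt N67041 D128278) (tt N63612 (iv2 F188302)) (tt N18595 F94848) (tt N63511 (iv4 F187767)) (tt N27735 F312799) (tt N18592 (iv6 D60304)) (tt N67042 D128280))
theorem Q36599 : ∀ i, i < 36599 → P i := stepQ 36598 Q36598 (allL N36598 (tt N18597 (iv1 F94855)) (tt N18593 (iv0 D60306)) (tt N47307 F306739) (tt N67043 D128281) (tt N22382 (iv4 F110589)) (tt N67044 D128282) (tt N37189 (iv6 F308614)) (tt N43430 F131195))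
theorem Q36600 : ∀ i, i < 36600 → P i := stepQ 36599 Q36599 (allL N36599 (tt N47346 (iv1 F307715)) (tt N43960 F328951) (tt N47348 (iv2 F305723)) (tt N18593 (iv3 D60308)) (tt N63509 (iv4 F187762)) (tt N67045 D128286) (tt N67046 D128287) (tt N43306 F305706))
theorem Q36601 : ∀ i, i < 36601 → P i := stepQ 36600 Q36600 (allL N36600 (tt N67047 D128288) (tt N63777 (iv0 F355176)) (tt N66922 (iv2 F206102)) (tt N67045 (iv3 F206408)) (tt N67048 D128290) (tt N18593 (iv5 D60309)) (tt N67049 D128291) (tt N66923 (iv7 F206123)))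
theorem Q36602 : ∀ i, i < 36602 → P i := stepQ 36601 Q36601 (allL N36601 (tt N47333 F310176) (tt N46310 F316578) (tt N46605 (iv2 F311614)) (tt N67046 (iv3 F206409)) (tt N18595 F94852) (tt N67050 D128293) (tt N18593 (iv6 D60310)) (tt N47330 F307593))
theorem Q36603 : ∀ i, i < 36603 → P i := stepQ 36602 Q36602 (allL N36602 (tt N18598 (iv1 F94860)) (tt N18594 (iv0 D60312)) (tt N42900 (iv2 F188352)) (tt N56137 (iv3 F191329)) (tt N27834 F319352) (tt N36492 F94856) (tt N67051 D128296) (tt N46604 (iv7 F319117)))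
theorem Q36604 : ∀ i, i < 36604 → P i := stepQ 36603 Q36603 (allL N36603 (tt N18594 (iv1 D60313)) (tt N18598 F94857) (tt N46604 (iv2 F319116)) (tt N18614 F188353) (tt N27835 F319355) (tt N42901 F188354) (tt N21151 F188355) (tt N42900 F188356))
theorem Q36605 : ∀ i, i < 36605 → P i := stepQ 36604 Q36604 (allL N36604 (tt N18595 (iv1 D60318)) (tt N46133 F304758) (tt N45723 (iv2 F310569)) (tt N18615 F190683) (tt N24612 F304759) (tt N25273 F308617) (tt N24186 F190684) (tt N21736 F190685))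
theorem Q36606 : ∀ i, i < 36606 → P i := stepQ 36605 Q36605 (allL N36605 (tt N45723 (iv1 F310568)) (tt N21736 F191375) (tt N46133 (iv2 F303876)) (tt N67042 (iv3 F206405)) (tt N47330 (iv4 F305602)) (tt N27736 F309389) (tt N34606 F303509) (tt N18595 (iv7 D60320)))
theorem Q36607 : ∀ i, i < 36607 → P i := stepQ 36606 Q36606 (allL N36606 (tt N21710 F185362) (tt N43902 (iv0 F307096)) (tt N18596 (iv2 D60324)) (tt N63512 (iv3 F187773)) (tt N36505 F307036) (tt N67052 D128308) (tt N33976 F307037) (tt N43915 F307038))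
theorem Q36608 : ∀ i, i < 36608 → P i := stepQ 36607 Q36607 (allL N36607 (tt N21934 F232292) (tt N22494 (iv0 F94865)) (tt N36505 F306331) (tt N34205 F306332) (tt N18596 (iv4 D60325)) (tt N42626 (iv5 F308264)) (tt N23906 F306333) (tt N63263 (iv7 F232337)))
theorem Q36609 : ∀ i, i < 36609 → P i := stepQ 36608 Q36608 (allL N36608 (tt N67053 D128313) (tt N67054 D128314) (tt N67052 (iv2 F206432)) (tt N18598 F94866) (tt N45125 (iv4 F318144)) (tt N18596 (iv5 D60326)) (tt N67055 D128316) (tt N46602 F315947))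
theorem Q36610 : ∀ i, i < 36610 → P i := stepQ 36609 Q36609 (allL N36609 (tt N63777 (iv1 F355177)) (tt N67047 F206411) (tt N66923 (iv2 F206122)) (tt N34207 F306330) (tt N67056 D128325) (tt N18597 (iv5 D60329)) (tt N67057 D128326) (tt N66922 (iv7 F206103)))
theorem Q36611 : ∀ i, i < 36611 → P i := stepQ 36610 Q36610 (allL N36610 (tt N41333 F205239) (tt N41330 (iv0 F103943)) (tt N41332 F185357) (tt N67055 (iv3 F206438)) (tt N27768 (iv4 F317069)) (tt N67058 D128334) (tt N18598 (iv6 D60332)) (tt N24937 F314768))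
theorem Q36612 : ∀ i, i < 36612 → P i := stepQ 36611 Q36611 (allL N36611 (tt N24219 F302473) (tt N25443 (iv0 F303539)) (tt N42835 F191038) (tt N25439 (iv3 F304891)) (tt N64623 (iv4 F304892)) (tt N18599 (iv5 D60335)) (tt N67058 (iv6 F206451)) (tt N42836 (iv7 F191039)))
theorem Q36613 : ∀ i, i < 36613 → P i := stepQ 36612 Q36612 (allL N36612 (tt N25251 (iv1 F131867)) (tt N47945 (iv0 F155131)) (tt N24761 F201094) (tt N18600 (iv3 D60338)) (tt N24745 F94871) (tt N67059 D128336) (tt N67060 D128337) (tt N24765 F201095))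
theorem Q36614 : ∀ i, i < 36614 → P i := stepQ 36613 Q36613 (allL N36613 (tt N65383 F201229) (tt N25210 F201230) (tt N39882 F314361) (tt N67059 (iv3 F206454)) (tt N44443 (iv4 F316711)) (tt N18600 (iv5 D60340)) (tt N67061 D128342) (tt N65365 (iv7 F201118)))
theorem Q36615 : ∀ i, i < 36615 → P i := stepQ 36614 Q36614 (allL N36614 (tt N46226 F201152) (tt N25217 F201153) (tt N46232 (iv2 F205841)) (tt N67060 (iv3 F206458)) (tt N37190 F314469) (tt N67062 D128343) (tt N18600 (iv6 D60341)) (tt N46231 F205846))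
theorem Q36616 : ∀ i, i < 36616 → P i := stepQ 36615 Q36615 (allL N36615 (tt N43020 F200342) (tt N20245 (iv0 F312534)) (tt N39888 (iv2 F312542)) (tt N18601 (iv3 D60343)) (tt N63272 (iv4 F232380)) (tt N22683 F311111) (tt N67063 D128345) (tt N39884 (iv7 F312540)))
theorem Q36617 : ∀ i, i < 36617 → P i := stepQ 36616 Q36616 (allL N36616 (tt N25210 F201231) (tt N65383 F201232) (tt N65365 F201120) (tt N22683 F311110) (tt N44444 (iv4 F313377)) (tt N18601 (iv5 D60345)) (tt N40479 F322612) (tt N39882 (iv7 F312968)))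
theorem Q36618 : ∀ i, i < 36618 → P i := stepQ 36617 Q36617 (allL N36617 (tt N24186 F201233) (tt N45700 F201234) (tt N40752 F322952) (tt N67063 (iv3 F206470)) (tt N37204 F314468) (tt N40738 F319307) (tt N18601 (iv6 D60346)) (tt N40756 F322953))
theorem Q36619 : ∀ i, i < 36619 → P i := stepQ 36618 Q36618 (allL N36618 (tt N65367 (iv1 F201163)) (tt N18602 (iv0 D60347)) (tt N44395 (iv2 F312152)) (tt N57674 (iv3 F313030)) (tt N39996 (iv4 F313032)) (tt N38371 F310795) (tt N36221 F319161) (tt N65370 (iv7 F234252)))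
theorem Q36620 : ∀ i, i < 36620 → P i := stepQ 36619 Q36619 (allL N36619 (tt N18602 (iv1 D60348)) (tt N65367 F201162) (tt N65370 (iv2 F234251)) (tt N20242 (iv3 F313039)) (tt N39997 (iv4 F313040)) (tt N38374 F310807) (tt N24947 (iv6 F315482)) (tt N44395 (iv7 F312153)))
theorem Q36621 : ∀ i, i < 36621 → P i := stepQ 36620 Q36620 (allL N36620 (tt N44403 F314325) (tt N44401 F314326) (tt N65485 F314327) (tt N67064 D128361) (tt N18602 (iv4 D60349)) (tt N67065 D128362) (tt N18607 F94873) (tt N65371 (iv7 F201177)))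
theorem Q36622 : ∀ i, i < 36622 → P i := stepQ 36621 Q36621 (allL N36621 (tt N41418 (iv1 F104120)) (tt N43374 F162642) (tt N40288 F323755) (tt N18604 F94874) (tt N67066 D128363) (tt N18603 (iv5 D60350)) (tt N47731 F313838) (tt N56093 (iv7 F162619)))
theorem Q36623 : ∀ i, i < 36623 → P i := stepQ 36622 Q36622 (allL N36622 (tt N22271 F94875) (tt N22161 F94876) (tt N57197 (iv2 F322060)) (tt N67067 D128365) (tt N18604 (iv4 D60351)) (tt N66902 (iv5 F206045)) (tt N47732 F313839) (tt N57196 (iv7 F322058)))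
theorem Q36624 : ∀ i, i < 36624 → P i := stepQ 36623 Q36623 (allL N36623 (tt N43279 F115252) (tt N43275 (iv0 F110825)) (tt N57444 (iv2 F166763)) (tt N18605 (iv3 D60353)) (tt N62989 (iv4 F184287)) (tt N45326 (iv5 F115245)) (tt N67068 D128370) (tt N63110 (iv7 F185669)))
theorem Q36625 : ∀ i, i < 36625 → P i := stepQ 36624 Q36624 (allL N36624 (tt N22269 F94877) (tt N21898 F94878) (tt N63197 F186224) (tt N67069 D128371) (tt N18605 (iv4 D60354)) (tt N67070 D128372) (tt N67071 D128373) (tt N63196 F186220))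
theorem Q36626 : ∀ i, i < 36626 → P i := stepQ 36625 Q36625 (allL N36625 (tt N67072 D128374) (tt N67073 D128375) (tt N66735 (iv2 F205286)) (tt N67068 (iv3 F206491)) (tt N67071 (iv4 F206494)) (tt N38333 (iv5 F98000)) (tt N18605 (iv6 D60355)) (tt N67074 D128376))
theorem Q36627 : ∀ i, i < 36627 → P i := stepQ 36626 Q36626 (allL N36626 (tt N21898 F94879) (tt N22269 F94880) (tt N63196 F186219) (tt N67075 D128377) (tt N18606 (iv4 D60356)) (tt N67076 D128378) (tt N67077 D128379) (tt N63197 (iv7 F186222)))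
theorem Q36628 : ∀ i, i < 36628 → P i := stepQ 36627 Q36627 (allL N36627 (tt N67078 D128380) (tt N67079 D128381) (tt N66734 (iv2 F205284)) (tt N20566 F319216) (tt N67077 (iv4 F206498)) (tt N56061 (iv5 F162466)) (tt N18606 (iv6 D60357)) (tt N67080 D128382))
theorem Q36629 : ∀ i, i < 36629 → P i := stepQ 36628 Q36628 (allL N36628 (tt N66638 (iv1 F204805)) (tt N18607 (iv0 D60358)) (tt N42930 (iv2 F107730)) (tt N67081 D128383) (tt N22812 F94881) (tt N67082 D128384) (tt N67083 D128385) (tt N42933 (iv7 F107742)))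
theorem Q36630 : ∀ i, i < 36630 → P i := stepQ 36629 Q36629 (allL N36629 (tt N18607 (iv1 D60359)) (tt N66638 (iv0 F204804)) (tt N42933 (iv2 F107741)) (tt N67084 D128386) (tt N33919 F94882) (tt N67085 D128387) (tt N42084 (iv6 F105431)) (tt N42930 (iv7 F107731)))
theorem Q36631 : ∀ i, i < 36631 → P i := stepQ 36630 Q36630 (allL N36630 (tt N67086 D128388) (tt N67087 D128389) (tt N67088 D128390) (tt N18607 (iv3 D60360)) (tt N18627 F94883) (tt N67089 D128391) (tt N67064 (iv6 F206484)) (tt N66736 (iv7 F205290)))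
theorem Q36632 : ∀ i, i < 36632 → P i := stepQ 36631 Q36631 (allL N36631 (tt N43598 F109237) (tt N43498 (iv0 F109098)) (tt N43594 F109229) (tt N67089 (iv3 F206509)) (tt N66901 F206044) (tt N18607 (iv5 D60361)) (tt N67090 D128392) (tt N43595 (iv7 F109231)))
theorem Q36633 : ∀ i, i < 36633 → P i := stepQ 36632 Q36632 (allL N36632 (tt N42871 F109833) (tt N37151 F313661) (tt N18611 F94889) (tt N32854 (iv3 F309861)) (tt N36943 (iv4 F314426)) (tt N18609 (iv5 D60373)) (tt N32852 F307845) (tt N56151 (iv7 F163088)))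
theorem Q36634 : ∀ i, i < 36634 → P i := stepQ 36633 Q36633 (allL N36633 (tt N21726 F109834) (tt N34453 (iv0 F307345)) (tt N18612 F94890) (tt N56144 (iv3 F163031)) (tt N34613 F305245) (tt N19509 F109835) (tt N18609 (iv6 D60374)) (tt N37633 F110519))
theorem Q36635 : ∀ i, i < 36635 → P i := stepQ 36634 Q36634 (allL N36634 (tt N21801 F305356) (tt N21802 F305357) (tt N34613 (iv2 F305217)) (tt N25273 F94893) (tt N18612 F94894) (tt N18615 (iv5 F307354)) (tt N18610 (iv6 D60378)) (tt N21739 F305358))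
theorem Q36636 : ∀ i, i < 36636 → P i := stepQ 36635 Q36635 (allL N36635 (tt N56151 F163091) (tt N18611 (iv0 D60379)) (tt N42871 (iv2 F110550)) (tt N67054 (iv3 F244277)) (tt N37152 F315516) (tt N40213 F315517) (tt N48155 (iv6 F131550)) (tt N37151 F315518))
theorem Q36637 : ∀ i, i < 36637 → P i := stepQ 36636 Q36636 (allL N36636 (tt N18611 (iv1 D60380)) (tt N56151 (iv0 F163089)) (tt N37151 F315514) (tt N67091 D128412) (tt N19299 F315515) (tt N42872 F110547) (tt N21146 F110548) (tt N42871 F110549))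
theorem Q36638 : ∀ i, i < 36638 → P i := stepQ 36637 Q36637 (allL N36637 (tt N37955 (iv1 F313659)) (tt N18820 (iv0 F313657)) (tt N36943 (iv2 F314425)) (tt N64040 (iv3 F316403)) (tt N18611 (iv4 D60381)) (tt N18943 (iv5 F314431)) (tt N63088 (iv6 F307289)) (tt N37953 (iv7 F313133)))
theorem Q36639 : ∀ i, i < 36639 → P i := stepQ 36638 Q36638 (allL N36638 (tt N34453 (iv1 F307346)) (tt N21726 F109842) (tt N37633 (iv2 F110520)) (tt N18616 F94896) (tt N21739 F305354) (tt N19508 F109843) (tt N25437 F300073) (tt N18612 (iv7 D60385)))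
theorem Q36640 : ∀ i, i < 36640 → P i := stepQ 36639 Q36639 (allL N36639 (tt N56115 (iv1 F191353)) (tt N55178 (iv0 F321842)) (tt N56137 (iv2 F191328)) (tt N18613 (iv3 D60386)) (tt N21123 F320098) (tt N24203 F94898) (tt N21122 F320099) (tt N56138 (iv7 F191336)))
theorem Q36641 : ∀ i, i < 36641 → P i := stepQ 36640 Q36640 (allL N36640 (tt N43841 F131169) (tt N43617 F131170) (tt N43844 (iv2 F184609)) (tt N54237 F184580) (tt N18617 (iv4 D60402)) (tt N67092 D128432) (tt N25252 F184581) (tt N21593 F184582))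
theorem Q36642 : ∀ i, i < 36642 → P i := stepQ 36641 Q36641 (allL N36641 (tt N56149 (iv1 F163052)) (tt N56148 F163051) (tt N18619 F94919) (tt N56151 (iv3 F163087)) (tt N32857 (iv4 F314435)) (tt N18618 (iv5 D60406)) (tt N41368 F184618) (tt N32854 F312059))
theorem Q36643 : ∀ i, i < 36643 → P i := stepQ 36642 Q36642 (allL N36642 (tt N32854 F312057) (tt N18619 (iv0 D60412)) (tt N56149 (iv2 F187662)) (tt N67093 D128452) (tt N61057 (iv4 F347672)) (tt N67094 D128454) (tt N62719 (iv6 F205365)) (tt N56148 F187661))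
theorem Q36644 : ∀ i, i < 36644 → P i := stepQ 36643 Q36643 (allL N36643 (tt N18619 (iv1 D60413)) (tt N32854 F312056) (tt N56148 F187658) (tt N67038 (iv3 F206397)) (tt N67095 D128455) (tt N33886 F184773) (tt N67096 D128456) (tt N56149 (iv7 F187660)))
theorem Q36645 : ∀ i, i < 36645 → P i := stepQ 36644 Q36644 (allL N36644 (tt N32856 (iv1 F318178)) (tt N32855 (iv0 F317608)) (tt N32857 F315997) (tt N67097 D128459) (tt N18619 (iv4 D60414)) (tt N67098 D128460) (tt N32848 (iv6 F316446)) (tt N32835 F315998))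
theorem Q36646 : ∀ i, i < 36646 → P i := stepQ 36645 Q36645 (allL N36645 (tt N41369 F184740) (tt N21108 F184741) (tt N41368 (iv2 F184659)) (tt N18621 F94925) (tt N32848 (iv4 F316445)) (tt N47385 F312772) (tt N18619 (iv6 D60415)) (tt N32845 F313958))
theorem Q36647 : ∀ i, i < 36647 → P i := stepQ 36646 Q36646 (allL N36646 (tt N46565 (iv1 F318185)) (tt N46566 (iv0 F318186)) (tt N46642 (iv2 F318187)) (tt N18620 (iv3 D60420)) (tt N67097 (iv4 F206596)) (tt N38279 (iv5 F317145)) (tt N64053 F316002) (tt N23361 F316003))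
theorem Q36648 : ∀ i, i < 36648 → P i := stepQ 36647 Q36647 (allL N36647 (tt N36230 (iv1 F316232)) (tt N36229 (iv0 F316233)) (tt N25498 F94943) (tt N57670 (iv3 F315120)) (tt N23704 (iv4 F311367)) (tt N21717 F309166) (tt N18622 (iv6 D60428)) (tt N36205 (iv7 F316237)))
theorem Q36649 : ∀ i, i < 36649 → P i := stepQ 36648 Q36648 (allL N36648 (tt N60353 (iv1 F319235)) (tt N60354 (iv0 F319236)) (tt N60352 (iv2 F320629)) (tt N18623 (iv3 D60429)) (tt N67064 (iv4 F206483)) (tt N67099 D128484) (tt N18627 F94945) (tt N48091 (iv7 F130685)))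
theorem Q36650 : ∀ i, i < 36650 → P i := stepQ 36649 Q36649 (allL N36649 (tt N25148 F94949) (tt N34560 F94950) (tt N25500 F94946) (tt N67099 (iv3 F206636)) (tt N21812 F94947) (tt N18623 (iv5 D60430)) (tt N67100 D128485) (tt N21811 F94948))
theorem Q36651 : ∀ i, i < 36651 → P i := stepQ 36650 Q36650 (allL N36650 (tt N44140 (iv1 F110899)) (tt N18624 (iv0 D60431)) (tt N44138 (iv2 F208054)) (tt N67101 D128487) (tt N44081 (iv4 F207953)) (tt N67102 D128489) (tt N36229 F318510) (tt N44139 (iv7 F208059)))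
theorem Q36652 : ∀ i, i < 36652 → P i := stepQ 36651 Q36651 (allL N36651 (tt N18624 (iv1 D60432)) (tt N44140 F110898) (tt N44139 (iv2 F208058)) (tt N67073 (iv3 F211146)) (tt N24717 F321023) (tt N37650 (iv5 F96386)) (tt N41073 F318622) (tt N44138 (iv7 F208055)))
theorem Q36653 : ∀ i, i < 36653 → P i := stepQ 36652 Q36652 (allL N36652 (tt N44139 (iv1 F110891)) (tt N44138 F110897) (tt N44140 (iv2 F110893)) (tt N20579 F309983) (tt N63791 (iv4 F189638)) (tt N37366 (iv5 F95876)) (tt N20578 (iv6 F312224)) (tt N18624 (iv7 D60433)))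
theorem Q36654 : ∀ i, i < 36654 → P i := stepQ 36653 Q36653 (allL N36653 (tt N42749 (iv1 F107059)) (tt N67103 D128494) (tt N20983 F94951) (tt N63794 (iv3 F189649)) (tt N18625 (iv4 D60434)) (tt N67104 D128495) (tt N67105 D128496) (tt N44136 (iv7 F110885)))
theorem Q36655 : ∀ i, i < 36655 → P i := stepQ 36654 Q36654 (allL N36654 (tt N62392 F317974) (tt N29693 F320124) (tt N20577 F317975) (tt N18626 F94953) (tt N67105 (iv4 F206656)) (tt N20961 F94954) (tt N18625 (iv6 D60435)) (tt N61381 (iv7 F311539)))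
theorem Q36656 : ∀ i, i < 36656 → P i := stepQ 36655 Q36655 (allL N36655 (tt N20578 F314547) (tt N18626 (iv0 D60436)) (tt N36220 F320655) (tt N67078 F206500) (tt N44095 (iv4 F189610)) (tt N48244 (iv5 F131946)) (tt N21853 F94955) (tt N36209 F320656))
theorem Q36657 : ∀ i, i < 36657 → P i := stepQ 36656 Q36656 (allL N36656 (tt N36209 F320653) (tt N36220 F320654) (tt N20578 F314544) (tt N61381 (iv3 F311537)) (tt N58805 (iv4 F323141)) (tt N44606 (iv5 F112686)) (tt N44140 (iv6 F110896)) (tt N18626 (iv7 D60438)))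
theorem Q36658 : ∀ i, i < 36658 → P i := stepQ 36657 Q36657 (allL N36657 (tt N66767 (iv1 F205393)) (tt N18627 (iv0 D60439)) (tt N66766 (iv2 F346493)) (tt N67106 D128501) (tt N67107 D128502) (tt N67108 D128503) (tt N24723 (iv6 F339212)) (tt N66765 (iv7 F346491)))
theorem Q36659 : ∀ i, i < 36659 → P i := stepQ 36658 Q36658 (allL N36658 (tt N18627 (iv1 D60440)) (tt N66767 F205395) (tt N66765 (iv2 F346489)) (tt N67109 D128506) (tt N67110 D128507) (tt N67111 D128508) (tt N67112 D128509) (tt N66766 (iv7 F346496)))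
theorem Q36660 : ∀ i, i < 36660 → P i := stepQ 36659 Q36659 (allL N36659 (tt N66766 (iv1 F205394)) (tt N66765 F205390) (tt N18627 (iv2 D60441)) (tt N44999 (iv3 F114309)) (tt N67088 (iv4 F206508)) (tt N67113 D128510) (tt N60352 (iv6 F320631)) (tt N66767 (iv7 F205392)))
theorem Q36661 : ∀ i, i < 36661 → P i := stepQ 36660 Q36660 (allL N36660 (tt N67114 D128511) (tt N67115 D128512) (tt N67113 (iv2 F206668)) (tt N18628 F94956) (tt N67116 D128513) (tt N18627 (iv5 D60442)) (tt N67117 D128514) (tt N23155 F94957))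
theorem Q36662 : ∀ i, i < 36662 → P i := stepQ 36661 Q36661 (allL N36661 (tt N63075 (iv1 F184924)) (tt N63077 (iv0 F184926)) (tt N36385 F94958) (tt N67117 (iv3 F206677)) (tt N23156 F94959) (tt N67100 (iv5 F206640)) (tt N18628 (iv6 D60443)) (tt N48141 (iv7 F131412)))
theorem Q36663 : ∀ i, i < 36663 → P i := stepQ 36662 Q36662 (allL N36662 (tt N41436 F104202) (tt N23236 (iv0 F94964)) (tt N26937 F94960) (tt N18630 (iv3 D60444)) (tt N18631 F94961) (tt N32965 F94962) (tt N18917 F94963) (tt N41340 (iv7 F103971)))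
theorem Q36664 : ∀ i, i < 36664 → P i := stepQ 36663 Q36663 (allL N36663 (tt N23301 (iv1 F94969)) (tt N18631 (iv0 D60445)) (tt N23344 (iv2 F94968)) (tt N41384 F104076) (tt N57447 (iv4 F166769)) (tt N34359 F94967) (tt N23339 F94966) (tt N23329 F94970))
theorem Q36665 : ∀ i, i < 36665 → P i := stepQ 36664 Q36664 (allL N36664 (tt N23344 (iv1 F94977)) (tt N23329 F94976) (tt N18631 (iv2 D60446)) (tt N20999 F94971) (tt N26937 F94972) (tt N21925 F94973) (tt N19370 F94974) (tt N23301 F94975))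
theorem Q36666 : ∀ i, i < 36666 → P i := stepQ 36665 Q36665 (allL N36665 (tt N23139 (iv1 F94982)) (tt N18632 (iv0 D60447)) (tt N32705 (iv2 F94981)) (tt N66802 (iv3 F205621)) (tt N61621 (iv4 F179154)) (tt N23263 F94980) (tt N66806 (iv6 F205630)) (tt N23262 F94983))
theorem Q36667 : ∀ i, i < 36667 → P i := stepQ 36666 Q36666 (allL N36666 (tt N67118 D128515) (tt N45162 (iv0 F114661)) (tt N32980 F94984) (tt N67119 D128516) (tt N18632 (iv4 D60448)) (tt N44966 F114212) (tt N67120 D128517) (tt N32975 F94985))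
theorem Q36668 : ∀ i, i < 36668 → P i := stepQ 36667 Q36667 (allL N36667 (tt N67121 D128518) (tt N66783 (iv0 F290515)) (tt N32981 F94986) (tt N34131 F94987) (tt N67120 (iv4 F206686)) (tt N34127 F94988) (tt N18632 (iv6 D60449)) (tt N67122 D128520))
theorem Q36669 : ∀ i, i < 36669 → P i := stepQ 36668 Q36668 (allL N36668 (tt N50744 F142211) (tt N41423 (iv0 F104135)) (tt N60995 (iv2 F177542)) (tt N18633 (iv3 D60450)) (tt N18634 F94989) (tt N56347 (iv5 F163522)) (tt N20906 F94990) (tt N32978 F94991))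
theorem Q36670 : ∀ i, i < 36670 → P i := stepQ 36669 Q36669 (allL N36669 (tt N62352 F180900) (tt N59127 F180901) (tt N39719 (iv2 F100602)) (tt N29616 F94992) (tt N30148 F94993) (tt N37813 (iv5 F96655)) (tt N18635 (iv6 D60451)) (tt N67123 D128521))
theorem Q36671 : ∀ i, i < 36671 → P i := stepQ 36670 Q36670 (allL N36670 (tt N36199 F166200) (tt N59017 (iv0 F171745)) (tt N29654 F94994) (tt N39186 (iv3 F99607)) (tt N30151 F94995) (tt N38407 (iv5 F98224)) (tt N18636 (iv6 D60452)) (tt N67124 D128522))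
theorem Q36672 : ∀ i, i < 36672 → P i := stepQ 36671 Q36671 (allL N36671 (tt N54790 (iv1 F361815)) (tt N54786 (iv0 F333097)) (tt N67125 D128525) (tt N18637 (iv3 D60453)) (tt N19884 F94996) (tt N67126 D128526) (tt N58444 (iv6 F328448)) (tt N20118 F94997))
theorem Q36673 : ∀ i, i < 36673 → P i := stepQ 36672 Q36672 (allL N36672 (tt N20804 F95000) (tt N20796 F95001) (tt N36686 (iv2 F95029)) (tt N67126 (iv3 F206724)) (tt N20119 F94999) (tt N18637 (iv5 D60454)) (tt N67127 D128528) (tt N20119 F94998))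
theorem Q36674 : ∀ i, i < 36674 → P i := stepQ 36673 Q36673 (allL N36673 (tt N59125 (iv1 F172157)) (tt N59128 (iv0 F172156)) (tt N36687 (iv2 F95034)) (tt N58444 (iv3 F328446)) (tt N19882 F95003) (tt N58573 (iv5 F344591)) (tt N18637 (iv6 D60455)) (tt N67128 D128530))
theorem Q36675 : ∀ i, i < 36675 → P i := stepQ 36674 Q36674 (allL N36674 (tt N40778 F102641) (tt N67129 D128531) (tt N67130 D128532) (tt N18638 (iv3 D60456)) (tt N36011 F95004) (tt N67131 D128533) (tt N67132 D128534) (tt N36133 F95005))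
theorem Q36676 : ∀ i, i < 36676 → P i := stepQ 36675 Q36675 (allL N36675 (tt N20796 F95007) (tt N20804 F95008) (tt N20119 F95006) (tt N67131 (iv3 F206742)) (tt N36686 (iv4 F95030)) (tt N18638 (iv5 D60457)) (tt N67133 D128535) (tt N36686 (iv7 F95031)))
theorem Q36677 : ∀ i, i < 36677 → P i := stepQ 36676 Q36676 (allL N36676 (tt N36200 (iv1 F163695)) (tt N36203 (iv0 F163546)) (tt N20120 F95009) (tt N67132 (iv3 F206744)) (tt N20117 F95010) (tt N67134 D128536) (tt N18638 (iv6 D60458)) (tt N67135 D128537))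
theorem Q36678 : ∀ i, i < 36678 → P i := stepQ 36677 Q36677 (allL N36677 (tt N41081 (iv1 F103310)) (tt N18639 (iv0 D60459)) (tt N41080 (iv2 F206764)) (tt N67136 D128539) (tt N67137 D128540) (tt N61248 (iv5 F331511)) (tt N67138 D128542) (tt N41079 (iv7 F206767)))
theorem Q36679 : ∀ i, i < 36679 → P i := stepQ 36678 Q36678 (allL N36678 (tt N18639 (iv1 D60460)) (tt N41081 F103312) (tt N41079 (iv2 F206766)) (tt N67139 D128544) (tt N67140 D128545) (tt N61243 (iv5 F331514)) (tt N67141 D128547) (tt N41080 (iv7 F206765)))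
theorem Q36680 : ∀ i, i < 36680 → P i := stepQ 36679 Q36679 (allL N36679 (tt N41080 (iv1 F103311)) (tt N41079 F103307) (tt N18639 (iv2 D60461)) (tt N36690 (iv3 F95036)) (tt N62339 (iv4 F180862)) (tt N60198 (iv5 F331481)) (tt N32112 F95011) (tt N41081 (iv7 F103309)))
theorem Q36681 : ∀ i, i < 36681 → P i := stepQ 36680 Q36680 (allL N36680 (tt N60197 (iv1 F331483)) (tt N60196 (iv0 F331482)) (tt N60198 (iv2 F331479)) (tt N18640 F95012) (tt N32187 F331475) (tt N18639 (iv5 D60462)) (tt N60158 (iv6 F331487)) (tt N32184 F331476))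
theorem Q36682 : ∀ i, i < 36682 → P i := stepQ 36681 Q36681 (allL N36681 (tt N33510 (iv1 F95015)) (tt N18640 (iv0 D60463)) (tt N36692 F95041) (tt N67142 D128553) (tt N20054 F95014) (tt N19865 F95013) (tt N52682 (iv6 F331312)) (tt N20054 (iv7 F95016)))
theorem Q36683 : ∀ i, i < 36683 → P i := stepQ 36682 Q36682 (allL N36682 (tt N18640 (iv1 D60464)) (tt N33510 F95017) (tt N20054 (iv2 F95019)) (tt N52698 (iv3 F331278)) (tt N36692 (iv4 F95040)) (tt N20050 F95018) (tt N52686 (iv6 F331314)) (tt N36692 (iv7 F95043)))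
theorem Q36684 : ∀ i, i < 36684 → P i := stepQ 36683 Q36683 (allL N36683 (tt N67143 D128557) (tt N67144 D128558) (tt N36693 (iv2 F95044)) (tt N60158 (iv3 F331486)) (tt N62660 (iv4 F182959)) (tt N32115 F95020) (tt N18640 (iv6 D60465)) (tt N60155 (iv7 F331505)))
theorem Q36685 : ∀ i, i < 36685 → P i := stepQ 36684 Q36684 (allL N36684 (tt N67145 D128560) (tt N67146 D128561) (tt N67147 D128562) (tt N18641 (iv3 D60466)) (tt N18643 F95021) (tt N67148 D128563) (tt N32149 F95022) (tt N33122 F95023))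
theorem Q36686 : ∀ i, i < 36686 → P i := stepQ 36685 Q36685 (allL N36685 (tt N30211 F95027) (tt N31282 F95028) (tt N33088 F95024) (tt N67148 (iv3 F206786)) (tt N31248 F95026) (tt N18641 (iv5 D60467)) (tt N67149 D128564) (tt N33087 F95025))
theorem Q36687 : ∀ i, i < 36687 → P i := stepQ 36686 Q36686 (allL N36686 (tt N33513 F95032) (tt N33517 F95033) (tt N36672 F95029) (tt N66453 (iv3 F204189)) (tt N36675 F95030) (tt N18642 (iv5 D60468)) (tt N67150 D128565) (tt N36675 F95031))
theorem Q36688 : ∀ i, i < 36688 → P i := stepQ 36687 Q36687 (allL N36687 (tt N56006 (iv1 F172141)) (tt N56009 (iv0 F162264)) (tt N36673 F95034) (tt N66454 (iv3 F204190)) (tt N32208 F95035) (tt N67151 D128566) (tt N18642 (iv6 D60469)) (tt N67152 D128567))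
theorem Q36689 : ∀ i, i < 36689 → P i := stepQ 36688 Q36688 (allL N36688 (tt N62610 (iv1 F182824)) (tt N18643 (iv0 D60470)) (tt N62077 (iv2 F179957)) (tt N59814 (iv3 F336219)) (tt N62076 F179958) (tt N67153 D128569) (tt N59813 (iv6 F336227)) (tt N62609 (iv7 F182819)))
theorem Q36690 : ∀ i, i < 36690 → P i := stepQ 36689 Q36689 (allL N36689 (tt N18643 (iv1 D60471)) (tt N62610 F182825) (tt N62609 F182817) (tt N62473 (iv3 F181717)) (tt N62079 (iv4 F179955)) (tt N67154 D128571) (tt N67155 D128572) (tt N62077 F179956))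
theorem Q36691 : ∀ i, i < 36691 → P i := stepQ 36690 Q36690 (allL N36690 (tt N62077 (iv1 F182820)) (tt N62609 F182818) (tt N18643 (iv2 D60472)) (tt N36679 F95036) (tt N67147 (iv4 F206780)) (tt N67156 D128573) (tt N32159 F95037) (tt N62610 (iv7 F182823)))
theorem Q36692 : ∀ i, i < 36692 → P i := stepQ 36691 Q36691 (allL N36691 (tt N67157 D128574) (tt N67158 D128575) (tt N67156 (iv2 F206800)) (tt N18644 F95038) (tt N67159 D128576) (tt N18643 (iv5 D60473)) (tt N67160 D128577) (tt N62611 (iv7 F182827)))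
theorem Q36693 : ∀ i, i < 36693 → P i := stepQ 36692 Q36692 (allL N36692 (tt N20785 (iv1 F95042)) (tt N18644 (iv0 D60474)) (tt N36681 (iv2 F95041)) (tt N27900 F331277) (tt N36682 F95040) (tt N19992 F95039) (tt N27895 (iv6 F331293)) (tt N36682 F95043))
theorem Q36694 : ∀ i, i < 36694 → P i := stepQ 36693 Q36693 (allL N36693 (tt N67161 D128580) (tt N67162 D128581) (tt N36683 F95044) (tt N67160 (iv3 F206804)) (tt N41160 (iv4 F103444)) (tt N32162 F95045) (tt N18644 (iv6 D60475)) (tt N67163 D128582))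
theorem Q36695 : ∀ i, i < 36695 → P i := stepQ 36694 Q36694 (allL N36694 (tt N19542 F95048) (tt N30111 F95049) (tt N18667 F95046) (tt N67164 D128583) (tt N18645 (iv4 D60476)) (tt N36830 (iv5 F95238)) (tt N37704 (iv6 F96487)) (tt N18665 F95047))
theorem Q36696 : ∀ i, i < 36696 → P i := stepQ 36695 Q36695 (allL N36695 (tt N18646 (iv1 D60477)) (tt N18647 F95050) (tt N18670 (iv2 F95053)) (tt N67165 D128584) (tt N18662 F95052) (tt N36796 (iv5 F95209)) (tt N37699 F96473) (tt N18669 F95051))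
theorem Q36697 : ∀ i, i < 36697 → P i := stepQ 36696 Q36696 (allL N36696 (tt N67166 D128585) (tt N67167 D128586) (tt N67168 D128587) (tt N18646 (iv3 D60478)) (tt N60720 (iv4 F328472)) (tt N67169 D128588) (tt N65717 (iv6 F202307)) (tt N18686 F95054))
theorem Q36698 : ∀ i, i < 36698 → P i := stepQ 36697 Q36697 (allL N36697 (tt N56706 (iv1 F164623)) (tt N19824 F95057) (tt N18672 F95055) (tt N67169 (iv3 F206826)) (tt N36718 (iv4 F95105)) (tt N18646 (iv5 D60479)) (tt N60541 (iv6 F364827)) (tt N18687 F95056))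
theorem Q36699 : ∀ i, i < 36699 → P i := stepQ 36698 Q36698 (allL N36698 (tt N67170 D128590) (tt N67171 D128591) (tt N67172 D128592) (tt N18647 (iv3 D60480)) (tt N57713 (iv4 F167603)) (tt N67173 D128593) (tt N67174 D128594) (tt N18671 F95058))
theorem Q36700 : ∀ i, i < 36700 → P i := stepQ 36699 Q36699 (allL N36699 (tt N19824 F95061) (tt N56706 (iv0 F164622)) (tt N18687 F95059) (tt N67173 (iv3 F206835)) (tt N36717 F95099) (tt N18647 (iv5 D60481)) (tt N67175 D128595) (tt N18672 F95060))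
theorem Q36701 : ∀ i, i < 36701 → P i := stepQ 36700 Q36700 (allL N36700 (tt N57031 (iv1 F165252)) (tt N37674 (iv0 F96433)) (tt N18688 F95062) (tt N67174 (iv3 F206837)) (tt N18648 F95063) (tt N60048 (iv5 F329195)) (tt N18647 (iv6 D60482)) (tt N57029 (iv7 F165244)))
theorem Q36702 : ∀ i, i < 36702 → P i := stepQ 36701 Q36701 (allL N36701 (tt N60943 (iv1 F342940)) (tt N67176 D128598) (tt N67177 D128599) (tt N18649 (iv3 D60483)) (tt N32999 F95064) (tt N67178 D128600) (tt N67179 D128601) (tt N18703 F95065))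
theorem Q36703 : ∀ i, i < 36703 → P i := stepQ 36702 Q36702 (allL N36702 (tt N36747 (iv1 F95149)) (tt N36744 (iv0 F95146)) (tt N18697 F95066) (tt N67178 (iv3 F206847)) (tt N36710 (iv4 F95087)) (tt N18649 (iv5 D60484)) (tt N67180 D128602) (tt N18704 F95067))
theorem Q36704 : ∀ i, i < 36704 → P i := stepQ 36703 Q36703 (allL N36703 (tt N67181 D128603) (tt N67182 D128604) (tt N18698 F95068) (tt N67179 (iv3 F206849)) (tt N18650 F95069) (tt N67183 D128605) (tt N18649 (iv6 D60485)) (tt N67184 D128606))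
theorem Q36705 : ∀ i, i < 36705 → P i := stepQ 36704 Q36704 (allL N36704 (tt N18650 (iv1 D60487)) (tt N18701 F95072) (tt N18700 F103371) (tt N30021 F168068) (tt N67185 D128607) (tt N41088 (iv5 F103320)) (tt N67186 D128608) (tt N18699 F103372))
theorem Q36706 : ∀ i, i < 36706 → P i := stepQ 36705 Q36705 (allL N36705 (tt N18700 (iv1 F95076)) (tt N18699 (iv0 F95077)) (tt N18701 F95073) (tt N66067 (iv3 F203285)) (tt N67184 (iv4 F206863)) (tt N20807 F95074) (tt N18708 F95075) (tt N18650 (iv7 D60488)))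
theorem Q36707 : ∀ i, i < 36707 → P i := stepQ 36706 Q36706 (allL N36706 (tt N67187 D128609) (tt N67188 D128610) (tt N67189 D128611) (tt N18651 (iv3 D60489)) (tt N19576 F95078) (tt N67190 D128612) (tt N67191 D128613) (tt N18712 F95079))
theorem Q36708 : ∀ i, i < 36708 → P i := stepQ 36707 Q36707 (allL N36707 (tt N36741 (iv1 F95143)) (tt N36735 (iv0 F95134)) (tt N18710 F95080) (tt N67190 (iv3 F206884)) (tt N35631 F95082) (tt N18651 (iv5 D60490)) (tt N67192 D128614) (tt N18713 F95081))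
theorem Q36709 : ∀ i, i < 36709 → P i := stepQ 36708 Q36708 (allL N36708 (tt N37956 F168314) (tt N67185 (iv0 F206869)) (tt N18711 F95083) (tt N67191 (iv3 F206886)) (tt N19574 F95084) (tt N67193 D128615) (tt N18651 (iv6 D60491)) (tt N67194 D128616))
theorem Q36710 : ∀ i, i < 36710 → P i := stepQ 36709 Q36709 (allL N36709 (tt N67195 D128617) (tt N67196 D128618) (tt N67197 D128619) (tt N18652 (iv3 D60492)) (tt N55838 (iv4 F161917)) (tt N67198 D128620) (tt N67199 D128621) (tt N18709 F95085))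
theorem Q36711 : ∀ i, i < 36711 → P i := stepQ 36710 Q36710 (allL N36710 (tt N36735 (iv1 F95135)) (tt N36741 (iv0 F95142)) (tt N18713 F95086) (tt N67198 (iv3 F206902)) (tt N36702 F95087) (tt N18652 (iv5 D60493)) (tt N67200 D128622) (tt N18710 F95088))
theorem Q36712 : ∀ i, i < 36712 → P i := stepQ 36711 Q36711 (allL N36711 (tt N65612 (iv1 F202101)) (tt N37993 F164029) (tt N18714 F95089) (tt N67199 (iv3 F206904)) (tt N30113 F95090) (tt N60787 (iv5 F329261)) (tt N18652 (iv6 D60494)) (tt N67201 D128624))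
theorem Q36713 : ∀ i, i < 36713 → P i := stepQ 36712 Q36712 (allL N36712 (tt N67202 D128625) (tt N18653 (iv0 D60495)) (tt N67203 D128626) (tt N60680 (iv3 F358340)) (tt N67204 D128628) (tt N60679 (iv5 F358330)) (tt N67205 D128630) (tt N67206 D128631))
theorem Q36714 : ∀ i, i < 36714 → P i := stepQ 36713 Q36713 (allL N36713 (tt N18653 (iv1 D60496)) (tt N67202 F206917) (tt N67206 (iv2 F206919)) (tt N67207 D128632) (tt N67208 D128633) (tt N67209 D128634) (tt N67210 D128635) (tt N67203 F206918))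
theorem Q36715 : ∀ i, i < 36715 → P i := stepQ 36714 Q36714 (allL N36714 (tt N67203 (iv1 F358350)) (tt N67206 (iv0 F358331)) (tt N18653 (iv2 D60497)) (tt N18717 F95091) (tt N30037 F95092) (tt N67211 D128638) (tt N30037 F95093) (tt N67202 (iv7 F206916)))
theorem Q36716 : ∀ i, i < 36716 → P i := stepQ 36715 Q36715 (allL N36715 (tt N67212 D128639) (tt N67213 D128640) (tt N67211 (iv2 F206924)) (tt N18654 F95094) (tt N67214 D128641) (tt N18653 (iv5 D60498)) (tt N65595 (iv6 F358327)) (tt N36865 (iv7 F95272)))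
theorem Q36717 : ∀ i, i < 36717 → P i := stepQ 36716 Q36716 (allL N36716 (tt N67206 (iv1 F358332)) (tt N67203 (iv0 F358349)) (tt N67202 F206913) (tt N18655 F95095) (tt N30039 F95096) (tt N36865 (iv5 F95271)) (tt N67215 D128643) (tt N18653 (iv7 D60499)))
theorem Q36718 : ∀ i, i < 36718 → P i := stepQ 36717 Q36717 (allL N36717 (tt N18724 (iv1 F95098)) (tt N18654 (iv0 D60500)) (tt N18720 F95100) (tt N67216 D128644) (tt N36699 (iv4 F95099)) (tt N19542 F95097) (tt N60533 (iv6 F328359)) (tt N18721 F95101))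
theorem Q36719 : ∀ i, i < 36719 → P i := stepQ 36718 Q36718 (allL N36718 (tt N18654 (iv1 D60501)) (tt N18724 F95102) (tt N18721 (iv2 F95106)) (tt N67217 D128646) (tt N36697 F95105) (tt N30111 F95104) (tt N67218 D128647) (tt N18720 F95103))
theorem Q36720 : ∀ i, i < 36720 → P i := stepQ 36719 Q36719 (allL N36719 (tt N67219 D128648) (tt N67220 D128649) (tt N18723 F95107) (tt N65595 (iv3 F358325)) (tt N36870 (iv4 F95275)) (tt N30042 F95108) (tt N18654 (iv6 D60502)) (tt N67221 D128650))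
theorem Q36721 : ∀ i, i < 36721 → P i := stepQ 36720 Q36720 (allL N36720 (tt N37785 (iv1 F96585)) (tt N37784 F96584) (tt N18725 F95109) (tt N67215 (iv3 F206931)) (tt N18656 F95110) (tt N67222 D128651) (tt N18655 (iv6 D60503)) (tt N30043 F95111))
theorem Q36722 : ∀ i, i < 36722 → P i := stepQ 36721 Q36721 (allL N36721 (tt N20348 F95115) (tt N20354 F95116) (tt N19669 F95112) (tt N54222 (iv3 F352690)) (tt N18657 (iv4 D60504)) (tt N30768 F95114) (tt N54220 (iv6 F352682)) (tt N19673 F95113))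
theorem Q36723 : ∀ i, i < 36723 → P i := stepQ 36722 Q36722 (allL N36722 (tt N67223 D128653) (tt N67224 D128654) (tt N38467 (iv2 F98346)) (tt N18778 F95117) (tt N38727 (iv4 F98706)) (tt N30460 F95118) (tt N18658 (iv6 D60505)) (tt N67225 D128655))
theorem Q36724 : ∀ i, i < 36724 → P i := stepQ 36723 Q36723 (allL N36723 (tt N22673 F95119) (tt N58954 F171555) (tt N37813 (iv2 F96653)) (tt N33672 F327562) (tt N38730 (iv4 F98710)) (tt N39719 (iv5 F100605)) (tt N18659 (iv6 D60506)) (tt N58953 (iv7 F171556)))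
theorem Q36725 : ∀ i, i < 36725 → P i := stepQ 36724 Q36724 (allL N36724 (tt N18660 (iv1 D60507)) (tt N30737 F95120) (tt N19359 (iv2 F95123)) (tt N67226 D128656) (tt N19358 F95122) (tt N38799 (iv5 F98813)) (tt N38480 (iv6 F98357)) (tt N19683 F95121))
theorem Q36726 : ∀ i, i < 36726 → P i := stepQ 36725 Q36725 (allL N36725 (tt N67227 D128657) (tt N67228 D128658) (tt N67229 D128659) (tt N18660 (iv3 D60508)) (tt N18671 F95124) (tt N67230 D128660) (tt N52994 (iv6 F354672)) (tt N57713 (iv7 F167605)))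
theorem Q36727 : ∀ i, i < 36727 → P i := stepQ 36726 Q36726 (allL N36726 (tt N19732 F95128) (tt N19662 F95129) (tt N19728 F95125) (tt N67230 (iv3 F206958)) (tt N30769 F95127) (tt N18660 (iv5 D60509)) (tt N58317 (iv6 F362606)) (tt N19729 F95126))
theorem Q36728 : ∀ i, i < 36728 → P i := stepQ 36727 Q36727 (allL N36727 (tt N37359 F164099) (tt N58036 (iv0 F168723)) (tt N57710 (iv2 F167592)) (tt N52994 (iv3 F354670)) (tt N18661 F95130) (tt N67231 D128663) (tt N18660 (iv6 D60510)) (tt N67232 D128664))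
theorem Q36729 : ∀ i, i < 36729 → P i := stepQ 36728 Q36728 (allL N36728 (tt N57712 (iv1 F167602)) (tt N18661 (iv0 D60511)) (tt N57711 (iv2 F170684)) (tt N32023 F167998) (tt N38737 (iv4 F167993)) (tt N32021 (iv5 F167997)) (tt N37658 (iv6 F164678)) (tt N37835 (iv7 F170687)))
theorem Q36730 : ∀ i, i < 36730 → P i := stepQ 36729 Q36729 (allL N36729 (tt N18661 (iv1 D60512)) (tt N57712 F167601) (tt N37835 (iv2 F170680)) (tt N66075 F203318) (tt N38738 F173144) (tt N56733 (iv5 F164675)) (tt N67233 D128665) (tt N57711 F170686))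
theorem Q36731 : ∀ i, i < 36731 → P i := stepQ 36730 Q36730 (allL N36730 (tt N37835 (iv1 F168451)) (tt N57711 F167600) (tt N57712 (iv2 F167598)) (tt N18676 F95131) (tt N67232 (iv4 F206964)) (tt N59617 (iv5 F173236)) (tt N57716 (iv6 F167614)) (tt N18661 (iv7 D60513)))
theorem Q36732 : ∀ i, i < 36732 → P i := stepQ 36731 Q36731 (allL N36731 (tt N67234 D128666) (tt N67235 D128667) (tt N67236 D128668) (tt N18663 (iv3 D60514)) (tt N39240 (iv4 F99696)) (tt N36861 (iv5 F95267)) (tt N67237 D128669) (tt N56698 (iv7 F164602)))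
theorem Q36733 : ∀ i, i < 36733 → P i := stepQ 36732 Q36732 (allL N36732 (tt N32285 (iv1 F327964)) (tt N36759 F164347) (tt N38430 (iv2 F98277)) (tt N67237 (iv3 F206968)) (tt N18664 F95132) (tt N35693 F327446) (tt N18663 (iv6 D60515)) (tt N67238 D128671))
theorem Q36734 : ∀ i, i < 36734 → P i := stepQ 36733 Q36733 (allL N36733 (tt N38432 (iv1 F98281)) (tt N38431 F98286) (tt N38433 (iv2 F98283)) (tt N39244 (iv3 F99701)) (tt N67238 (iv4 F206969)) (tt N32264 F95133) (tt N56377 F163659) (tt N18664 (iv7 D60516)))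
theorem Q36735 : ∀ i, i < 36735 → P i := stepQ 36734 Q36734 (allL N36734 (tt N67239 D128672) (tt N67240 D128673) (tt N67241 D128674) (tt N18665 (iv3 D60517)) (tt N37661 (iv4 F96402)) (tt N67242 D128675) (tt N67243 D128676) (tt N67164 (iv7 F206817)))
theorem Q36736 : ∀ i, i < 36736 → P i := stepQ 36735 Q36735 (allL N36735 (tt N36707 F95134) (tt N36710 F95135) (tt N36831 F95246) (tt N67242 (iv3 F206973)) (tt N36741 (iv4 F95141)) (tt N18665 (iv5 D60518)) (tt N67244 D128677) (tt N36830 F95241))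
theorem Q36737 : ∀ i, i < 36737 → P i := stepQ 36736 Q36736 (allL N36736 (tt N67245 D128678) (tt N67246 D128679) (tt N37839 (iv2 F96699)) (tt N67243 (iv3 F206974)) (tt N18666 F95136) (tt N67247 D128680) (tt N18665 (iv6 D60519)) (tt N67248 D128681))
theorem Q36738 : ∀ i, i < 36738 → P i := stepQ 36737 Q36737 (allL N36737 (tt N37703 F96484) (tt N18666 (iv0 D60520)) (tt N37840 F103534) (tt N67249 D128682) (tt N67250 D128683) (tt N36179 F95137) (tt N36878 (iv6 F95282)) (tt N37841 (iv7 F103614)))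
theorem Q36739 : ∀ i, i < 36739 → P i := stepQ 36738 Q36738 (allL N36738 (tt N18666 (iv1 D60521)) (tt N37703 F96485) (tt N37841 (iv2 F103615)) (tt N67224 (iv3 F214360)) (tt N67251 D128685) (tt N41191 (iv5 F103525)) (tt N37665 F103528) (tt N37840 (iv7 F103532)))
theorem Q36740 : ∀ i, i < 36740 → P i := stepQ 36739 Q36739 (allL N36739 (tt N37841 (iv1 F96705)) (tt N37840 F96704) (tt N37703 (iv2 F96480)) (tt N37666 (iv3 F96411)) (tt N67248 (iv4 F206977)) (tt N30361 F95138) (tt N30014 F95139) (tt N18666 (iv7 D60522)))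
theorem Q36741 : ∀ i, i < 36741 → P i := stepQ 36740 Q36740 (allL N36740 (tt N67252 D128686) (tt N67253 D128687) (tt N67254 D128688) (tt N18667 (iv3 D60523)) (tt N18749 F95140) (tt N67255 D128689) (tt N67256 D128690) (tt N37838 (iv7 F96698)))
theorem Q36742 : ∀ i, i < 36742 → P i := stepQ 36741 Q36741 (allL N36741 (tt N36710 F95142) (tt N36707 F95143) (tt N36830 F95240) (tt N67255 (iv3 F206983)) (tt N36735 F95141) (tt N18667 (iv5 D60524)) (tt N67257 D128691) (tt N36831 (iv7 F95243)))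
theorem Q36743 : ∀ i, i < 36743 → P i := stepQ 36742 Q36742 (allL N36742 (tt N30053 F95145) (tt N56419 F163721) (tt N37704 (iv2 F96486)) (tt N67256 (iv3 F206984)) (tt N18668 F95144) (tt N67258 D128692) (tt N18667 (iv6 D60525)) (tt N37702 (iv7 F96478)))
theorem Q36744 : ∀ i, i < 36744 → P i := stepQ 36743 Q36743 (allL N36743 (tt N67259 D128693) (tt N67260 D128694) (tt N65908 (iv2 F330455)) (tt N18669 (iv3 D60526)) (tt N37394 (iv4 F95915)) (tt N65904 (iv5 F330426)) (tt N67261 D128697) (tt N67165 (iv7 F206819)))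
theorem Q36745 : ∀ i, i < 36745 → P i := stepQ 36744 Q36744 (allL N36744 (tt N36702 F95146) (tt N35631 F95147) (tt N36797 F95218) (tt N65904 (iv3 F330425)) (tt N36796 (iv4 F95210)) (tt N18669 (iv5 D60527)) (tt N56218 (iv6 F343595)) (tt N36796 F95213))
theorem Q36746 : ∀ i, i < 36746 → P i := stepQ 36745 Q36745 (allL N36745 (tt N67250 (iv1 F211333)) (tt N67251 (iv0 F206981)) (tt N56827 (iv2 F164884)) (tt N67261 (iv3 F206988)) (tt N37393 (iv4 F95913)) (tt N67262 D128700) (tt N18669 (iv6 D60528)) (tt N67263 D128701))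
theorem Q36747 : ∀ i, i < 36747 → P i := stepQ 36746 Q36746 (allL N36746 (tt N66020 (iv1 F343573)) (tt N66019 (iv0 F343575)) (tt N35737 (iv2 F343576)) (tt N18670 (iv3 D60529)) (tt N37879 (iv4 F96829)) (tt N35592 F343558) (tt N65806 (iv6 F343579)) (tt N56237 (iv7 F343583)))
theorem Q36748 : ∀ i, i < 36748 → P i := stepQ 36747 Q36747 (allL N36747 (tt N35631 F95148) (tt N36702 F95149) (tt N36796 F95212) (tt N35592 F343557) (tt N36797 (iv4 F95217)) (tt N18670 (iv5 D60530)) (tt N35590 (iv6 F343572)) (tt N36797 (iv7 F95215)))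
theorem Q36749 : ∀ i, i < 36749 → P i := stepQ 36748 Q36748 (allL N36748 (tt N30013 F95151) (tt N37701 F96477) (tt N37699 (iv2 F96474)) (tt N65806 (iv3 F343577)) (tt N29967 F95150) (tt N65803 (iv5 F362927)) (tt N18670 (iv6 D60531)) (tt N37698 (iv7 F163727)))
theorem Q36750 : ∀ i, i < 36750 → P i := stepQ 36749 Q36749 (allL N36749 (tt N67172 (iv1 F206832)) (tt N18671 (iv0 D60532)) (tt N67171 (iv2 F339369)) (tt N67264 D128710) (tt N67265 D128711) (tt N67266 D128712) (tt N67267 D128713) (tt N67170 (iv7 F352477)))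
theorem Q36751 : ∀ i, i < 36751 → P i := stepQ 36750 Q36750 (allL N36750 (tt N18671 (iv1 D60533)) (tt N67172 F206834) (tt N67170 (iv2 F352476)) (tt N67268 D128715) (tt N67269 D128716) (tt N67270 D128717) (tt N67271 D128718) (tt N67171 (iv7 F339371)))
theorem Q36752 : ∀ i, i < 36752 → P i := stepQ 36751 Q36751 (allL N36751 (tt N67171 (iv1 F206833)) (tt N67170 F206829) (tt N18671 (iv2 D60534)) (tt N67168 (iv3 F206821)) (tt N67229 (iv4 F206957)) (tt N67272 D128719) (tt N67273 D128720) (tt N67172 (iv7 F206831)))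
theorem Q36753 : ∀ i, i < 36753 → P i := stepQ 36752 Q36752 (allL N36752 (tt N67274 D128721) (tt N67275 D128722) (tt N67272 (iv2 F206996)) (tt N18672 F95152) (tt N67276 D128723) (tt N18671 (iv5 D60535)) (tt N67277 D128724) (tt N67173 (iv7 F206836)))
theorem Q36754 : ∀ i, i < 36754 → P i := stepQ 36753 Q36753 (allL N36753 (tt N53042 (iv1 F332747)) (tt N67278 D128726) (tt N67273 (iv2 F206997)) (tt N18673 F95153) (tt N52994 (iv4 F354671)) (tt N45893 (iv5 F332753)) (tt N18671 (iv6 D60536)) (tt N67279 D128728))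
theorem Q36755 : ∀ i, i < 36755 → P i := stepQ 36754 Q36754 (allL N36754 (tt N18687 (iv1 F95156)) (tt N18672 (iv0 D60537)) (tt N56706 (iv2 F164620)) (tt N44626 F330389) (tt N19824 F95155) (tt N18695 F95154) (tt N44624 F330390) (tt N19824 F95157))
theorem Q36756 : ∀ i, i < 36756 → P i := stepQ 36755 Q36755 (allL N36755 (tt N67280 D128731) (tt N57249 (iv0 F348399)) (tt N60541 (iv2 F364825)) (tt N67277 (iv3 F206998)) (tt N36864 (iv4 F95270)) (tt N55640 (iv5 F332761)) (tt N18672 (iv6 D60538)) (tt N60545 (iv7 F364832)))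
theorem Q36757 : ∀ i, i < 36757 → P i := stepQ 36756 Q36756 (allL N36756 (tt N18673 (iv1 D60540)) (tt N60714 (iv0 F332778)) (tt N60472 (iv2 F176479)) (tt N67281 D128737) (tt N38432 (iv4 F173156)) (tt N55695 (iv5 F332800)) (tt N67282 D128739) (tt N55694 (iv7 F332775)))
theorem Q36758 : ∀ i, i < 36758 → P i := stepQ 36757 Q36757 (allL N36757 (tt N35583 (iv1 F332757)) (tt N35691 (iv0 F332758)) (tt N35689 (iv2 F332759)) (tt N45893 F332756) (tt N45897 (iv4 F332760)) (tt N18673 (iv5 D60541)) (tt N55640 (iv6 F332762)) (tt N35688 (iv7 F332763)))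
theorem Q36759 : ∀ i, i < 36759 → P i := stepQ 36758 Q36758 (allL N36758 (tt N60472 (iv1 F176482)) (tt N55694 (iv0 F332772)) (tt N60714 (iv2 F332779)) (tt N67279 (iv3 F207000)) (tt N18676 F95158) (tt N35688 F332769) (tt N57029 F165247) (tt N18673 (iv7 D60542)))
theorem Q36760 : ∀ i, i < 36760 → P i := stepQ 36759 Q36759 (allL N36759 (tt N36732 (iv1 F164347)) (tt N46546 F328078) (tt N60470 (iv2 F328350)) (tt N67283 D128747) (tt N18675 (iv4 D60548)) (tt N55626 (iv5 F328123)) (tt N67284 D128749) (tt N37868 F164088))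
theorem Q36761 : ∀ i, i < 36761 → P i := stepQ 36760 Q36760 (allL N36760 (tt N36876 F95279) (tt N36878 (iv0 F96448)) (tt N60716 (iv2 F176760)) (tt N18769 F164089) (tt N67284 (iv4 F207018)) (tt N37687 (iv5 F96446)) (tt N18675 (iv6 D60549)) (tt N37687 (iv7 F96447)))
theorem Q36762 : ∀ i, i < 36762 → P i := stepQ 36761 Q36761 (allL N36761 (tt N35962 F95163) (tt N37692 F96468) (tt N36088 F95161) (tt N37654 (iv3 F96391)) (tt N38226 (iv4 F97704)) (tt N33162 F95162) (tt N18677 (iv6 D60550)) (tt N37690 (iv7 F96463)))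
theorem Q36763 : ∀ i, i < 36763 → P i := stepQ 36762 Q36762 (allL N36762 (tt N67249 F206980) (tt N67285 D128750) (tt N64681 (iv2 F329390)) (tt N18729 F95164) (tt N38229 (iv4 F97715)) (tt N35543 F95165) (tt N18678 (iv6 D60551)) (tt N67286 D128751))
theorem Q36764 : ∀ i, i < 36764 → P i := stepQ 36763 Q36763 (allL N36763 (tt N66064 (iv1 F203282)) (tt N18680 (iv0 D60554)) (tt N33683 F327372) (tt N58953 F171557) (tt N33673 F327373) (tt N39720 (iv5 F100608)) (tt N50900 F327374) (tt N33672 F327375))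
theorem Q36765 : ∀ i, i < 36765 → P i := stepQ 36764 Q36764 (allL N36764 (tt N18680 (iv1 D60555)) (tt N66064 F203281) (tt N33672 F327376) (tt N18776 F95170) (tt N32467 F327377) (tt N29646 F95171) (tt N18774 (iv6 F95169)) (tt N33683 F327378))
theorem Q36766 : ∀ i, i < 36766 → P i := stepQ 36765 Q36765 (allL N36765 (tt N60891 (iv1 F328475)) (tt N60893 (iv0 F328268)) (tt N58828 (iv2 F170849)) (tt N18690 F95172) (tt N39268 (iv4 F99803)) (tt N18680 (iv5 D60556)) (tt N18682 F95173) (tt N57237 (iv7 F165869)))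
theorem Q36767 : ∀ i, i < 36767 → P i := stepQ 36766 Q36766 (allL N36766 (tt N33672 F327560) (tt N33683 F327561) (tt N66064 (iv2 F203277)) (tt N18691 F95174) (tt N20902 (iv4 F327574)) (tt N57237 (iv5 F165870)) (tt N65701 (iv6 F202275)) (tt N18680 (iv7 D60557)))
theorem Q36768 : ∀ i, i < 36768 → P i := stepQ 36767 Q36767 (allL N36767 (tt N67287 D128761) (tt N67288 D128762) (tt N67289 D128763) (tt N18683 (iv3 D60558)) (tt N38410 (iv4 F98234)) (tt N36863 (iv5 F95269)) (tt N60523 (iv6 F345919)) (tt N38429 (iv7 F98276)))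
theorem Q36769 : ∀ i, i < 36769 → P i := stepQ 36768 Q36768 (allL N36768 (tt N36777 F95184) (tt N31504 (iv0 F96552)) (tt N56699 (iv2 F164603)) (tt N60523 (iv3 F345917)) (tt N18684 F95175) (tt N67290 D128765) (tt N18683 (iv6 D60559)) (tt N57028 (iv7 F165241)))
theorem Q36770 : ∀ i, i < 36770 → P i := stepQ 36769 Q36769 (allL N36769 (tt N57166 F165686) (tt N60025 (iv0 F175337)) (tt N30164 F95176) (tt N20349 F95177) (tt N57645 (iv4 F167301)) (tt N18684 (iv5 D60561)) (tt N18685 F95178) (tt N30258 F95179))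
theorem Q36771 : ∀ i, i < 36771 → P i := stepQ 36770 Q36770 (allL N36770 (tt N67168 (iv1 F206823)) (tt N18686 (iv0 D60562)) (tt N67167 (iv2 F214638)) (tt N67291 D128767) (tt N60721 (iv4 F343528)) (tt N67292 D128769) (tt N67293 D128770) (tt N67166 (iv7 F214642)))
theorem Q36772 : ∀ i, i < 36772 → P i := stepQ 36771 Q36771 (allL N36771 (tt N18686 (iv1 D60563)) (tt N67168 F206825) (tt N67166 (iv2 F214641)) (tt N67037 (iv3 F316700)) (tt N60722 (iv4 F355239)) (tt N67294 D128774) (tt N67295 D128775) (tt N67167 (iv7 F214639)))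
theorem Q36773 : ∀ i, i < 36773 → P i := stepQ 36772 Q36772 (allL N36772 (tt N67167 (iv1 F206824)) (tt N67166 F206820) (tt N18686 (iv2 D60564)) (tt N67172 (iv3 F206830)) (tt N32487 F328852) (tt N67296 D128776) (tt N30265 F328853) (tt N67168 (iv7 F206822)))
theorem Q36774 : ∀ i, i < 36774 → P i := stepQ 36773 Q36773 (allL N36773 (tt N67297 D128778) (tt N67298 D128779) (tt N67296 (iv2 F207035)) (tt N18687 F95180) (tt N67299 D128780) (tt N18686 (iv5 D60565)) (tt N60044 (iv6 F364836)) (tt N67169 (iv7 F206827)))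
theorem Q36775 : ∀ i, i < 36775 → P i := stepQ 36774 Q36774 (allL N36774 (tt N67300 D128786) (tt N67301 D128787) (tt N67175 (iv2 F206838)) (tt N60044 (iv3 F364835)) (tt N36862 (iv4 F95268)) (tt N60043 (iv5 F329196)) (tt N18687 (iv6 D60567)) (tt N67302 D128789))
theorem Q36776 : ∀ i, i < 36776 → P i := stepQ 36775 Q36775 (allL N36775 (tt N57029 (iv1 F165243)) (tt N18688 (iv0 D60568)) (tt N57031 (iv2 F165249)) (tt N67303 D128790) (tt N56378 F163669) (tt N29506 F342865) (tt N67304 D128792) (tt N37674 (iv7 F163670)))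
theorem Q36777 : ∀ i, i < 36777 → P i := stepQ 36776 Q36776 (allL N36776 (tt N37674 (iv1 F96434)) (tt N57031 F165251) (tt N57029 F165246) (tt N20903 (iv3 F328468)) (tt N18691 F95182) (tt N36256 (iv5 F328813)) (tt N60714 (iv6 F332782)) (tt N18688 (iv7 D60571)))
theorem Q36778 : ∀ i, i < 36778 → P i := stepQ 36777 Q36777 (allL N36777 (tt N59149 (iv1 F172209)) (tt N36768 (iv0 F95184)) (tt N59152 (iv2 F172214)) (tt N67305 D128797) (tt N18689 (iv4 D60572)) (tt N65981 (iv5 F342874)) (tt N67306 D128799) (tt N36180 F95183))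
theorem Q36779 : ∀ i, i < 36779 → P i := stepQ 36778 Q36778 (allL N36778 (tt N37665 (iv1 F96409)) (tt N37664 F96414) (tt N37666 (iv2 F96410)) (tt N18748 F95187) (tt N67306 (iv4 F207047)) (tt N22770 F95188) (tt N18689 (iv6 D60573)) (tt N18742 F95189))
theorem Q36780 : ∀ i, i < 36780 → P i := stepQ 36779 Q36779 (allL N36779 (tt N21032 (iv1 F95190)) (tt N18690 (iv0 D60574)) (tt N41202 F103630) (tt N18800 F100204) (tt N67307 D128800) (tt N37731 (iv5 F96530)) (tt N36237 F100205) (tt N37912 F100206))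
theorem Q36781 : ∀ i, i < 36781 → P i := stepQ 36780 Q36780 (allL N36780 (tt N18690 (iv1 D60575)) (tt N21032 F95191) (tt N37912 (iv2 F100232)) (tt N37706 (iv3 F168136)) (tt N67308 D128801) (tt N60894 (iv5 F328775)) (tt N21016 F100233) (tt N41202 (iv7 F103632)))
theorem Q36782 : ∀ i, i < 36782 → P i := stepQ 36781 Q36781 (allL N36781 (tt N67309 D128802) (tt N67310 D128803) (tt N41201 (iv2 F103627)) (tt N67311 D128804) (tt N18690 (iv4 D60576)) (tt N57013 (iv5 F165221)) (tt N18692 F95192) (tt N57240 (iv7 F165876)))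
theorem Q36783 : ∀ i, i < 36783 → P i := stepQ 36782 Q36782 (allL N36782 (tt N67312 D128805) (tt N67313 D128806) (tt N67314 D128807) (tt N18692 (iv3 D60577)) (tt N39266 (iv4 F99799)) (tt N67315 D128808) (tt N67311 (iv6 F207060)) (tt N41203 (iv7 F103633)))
theorem Q36784 : ∀ i, i < 36784 → P i := stepQ 36783 Q36783 (allL N36783 (tt N35555 F95193) (tt N35558 F95194) (tt N41200 (iv2 F103624)) (tt N67315 (iv3 F207061)) (tt N56852 (iv4 F164937)) (tt N18692 (iv5 D60578)) (tt N67316 D128809) (tt N41204 (iv7 F103634)))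
theorem Q36785 : ∀ i, i < 36785 → P i := stepQ 36784 Q36784 (allL N36784 (tt N67317 D128810) (tt N67318 D128811) (tt N67319 D128812) (tt N18693 (iv3 D60579)) (tt N18696 F95195) (tt N51133 F324645) (tt N28092 (iv6 F325754)) (tt N19720 F95196))
theorem Q36786 : ∀ i, i < 36786 → P i := stepQ 36785 Q36785 (allL N36785 (tt N38139 (iv1 F97501)) (tt N38720 (iv0 F98690)) (tt N19718 F95197) (tt N51133 F324643) (tt N30761 F95199) (tt N18693 (iv5 D60580)) (tt N25235 (iv6 F325752)) (tt N19721 F95198))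
theorem Q36787 : ∀ i, i < 36787 → P i := stepQ 36786 Q36786 (allL N36786 (tt N57719 (iv1 F167629)) (tt N18694 (iv0 D60582)) (tt N57718 F202515) (tt N37917 (iv3 F168016)) (tt N38772 (iv4 F168017)) (tt N67320 D128819) (tt N37978 F168015) (tt N37935 (iv7 F202546)))
theorem Q36788 : ∀ i, i < 36788 → P i := stepQ 36787 Q36787 (allL N36787 (tt N18694 (iv1 D60583)) (tt N57719 F167627) (tt N37935 (iv2 F202545)) (tt N60892 (iv3 F336159)) (tt N38773 (iv4 F167628)) (tt N67321 D128820) (tt N60889 (iv6 F336155)) (tt N57718 F202517))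
theorem Q36789 : ∀ i, i < 36789 → P i := stepQ 36788 Q36788 (allL N36788 (tt N37935 (iv1 F202544)) (tt N57718 F167626) (tt N57719 (iv2 F167623)) (tt N18701 F95202) (tt N25009 F326605) (tt N38700 (iv5 F103352)) (tt N28068 (iv6 F327064)) (tt N18694 (iv7 D60584)))
theorem Q36790 : ∀ i, i < 36790 → P i := stepQ 36789 Q36789 (allL N36789 (tt N67322 D128822) (tt N67323 D128823) (tt N39078 (iv2 F99336)) (tt N18695 (iv3 D60585)) (tt N19850 F95203) (tt N44626 F330394) (tt N67324 D128824) (tt N19823 F95204))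
theorem Q36791 : ∀ i, i < 36791 → P i := stepQ 36790 Q36790 (allL N36790 (tt N37791 (iv1 F102067)) (tt N37788 (iv0 F102060)) (tt N56708 (iv2 F164627)) (tt N67324 (iv3 F207090)) (tt N19825 F95205) (tt N67325 D128825) (tt N18695 (iv6 D60586)) (tt N30108 F95206))
theorem Q36792 : ∀ i, i < 36792 → P i := stepQ 36791 Q36791 (allL N36791 (tt N53031 (iv1 F325741)) (tt N18696 (iv0 D60587)) (tt N65615 (iv2 F355047)) (tt N67326 D128827) (tt N67327 D128828) (tt N67274 (iv5 F333040)) (tt N67328 D128830) (tt N65614 (iv7 F355038)))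
theorem Q36793 : ∀ i, i < 36793 → P i := stepQ 36792 Q36792 (allL N36792 (tt N18696 (iv1 D60588)) (tt N53031 (iv0 F325740)) (tt N65614 (iv2 F355037)) (tt N67329 D128832) (tt N67330 D128833) (tt N67275 (iv5 F332809)) (tt N37717 F354700) (tt N65615 (iv7 F355048)))
theorem Q36794 : ∀ i, i < 36794 → P i := stepQ 36793 Q36793 (allL N36793 (tt N65615 (iv1 F202130)) (tt N65614 F202125) (tt N18696 (iv2 D60589)) (tt N67177 (iv3 F206841)) (tt N67319 (iv4 F207064)) (tt N46845 F324889) (tt N67331 D128837) (tt N53031 (iv7 F325745)))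
theorem Q36795 : ∀ i, i < 36795 → P i := stepQ 36794 Q36794 (allL N36794 (tt N67332 D128838) (tt N67333 D128839) (tt N46845 (iv2 F323561)) (tt N18697 F95207) (tt N44745 F321880) (tt N18696 (iv5 D60590)) (tt N44749 (iv6 F323562)) (tt N65616 (iv7 F202133)))
theorem Q36796 : ∀ i, i < 36796 → P i := stepQ 36795 Q36795 (allL N36795 (tt N67334 D128842) (tt N67335 D128843) (tt N67331 (iv2 F207100)) (tt N18698 F95208) (tt N28092 F326583) (tt N67336 D128844) (tt N18696 (iv6 D60591)) (tt N28091 (iv7 F327327)))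
theorem Q36797 : ∀ i, i < 36797 → P i := stepQ 36796 Q36796 (allL N36796 (tt N18704 (iv1 F95211)) (tt N18697 (iv0 D60592)) (tt N36747 (iv2 F95212)) (tt N65753 (iv3 F330427)) (tt N36744 F95210) (tt N36695 F95209) (tt N65525 (iv6 F343589)) (tt N36744 (iv7 F95213)))
theorem Q36798 : ∀ i, i < 36798 → P i := stepQ 36797 Q36797 (allL N36797 (tt N18697 (iv1 D60593)) (tt N18704 F95214) (tt N36744 (iv2 F95218)) (tt N29862 F343571) (tt N36747 F95217) (tt N30180 F95216) (tt N29860 (iv6 F343588)) (tt N36747 F95215))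
theorem Q36799 : ∀ i, i < 36799 → P i := stepQ 36798 Q36798 (allL N36798 (tt N67337 D128850) (tt N67338 D128851) (tt N67180 (iv2 F206851)) (tt N44749 F324890) (tt N36840 (iv4 F95250)) (tt N67339 D128852) (tt N18697 (iv6 D60594)) (tt N67340 D128853))
theorem Q36800 : ∀ i, i < 36800 → P i := stepQ 36799 Q36799 (allL N36799 (tt N67184 (iv1 F206866)) (tt N18698 (iv0 D60595)) (tt N67181 F206853) (tt N67341 D128854) (tt N38486 F168195) (tt N67342 D128855) (tt N37741 (iv6 F168196)) (tt N67182 (iv7 F206858)))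
theorem Q36801 : ∀ i, i < 36801 → P i := stepQ 36800 Q36800 (allL N36800 (tt N18698 (iv1 D60596)) (tt N67184 F206865) (tt N67182 F206860) (tt N67343 D128856) (tt N38487 F99163) (tt N67344 D128857) (tt N67345 D128858) (tt N67181 F206855))
theorem Q36802 : ∀ i, i < 36802 → P i := stepQ 36801 Q36801 (allL N36801 (tt N67346 D128859) (tt N67347 D128860) (tt N67183 (iv2 F206861)) (tt N67336 (iv3 F207102)) (tt N67348 D128861) (tt N18698 (iv5 D60597)) (tt N67339 (iv6 F207112)) (tt N67349 D128862))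
theorem Q36803 : ∀ i, i < 36803 → P i := stepQ 36802 Q36802 (allL N36802 (tt N67182 (iv1 F206857)) (tt N67181 F206856) (tt N67184 (iv2 F206862)) (tt N28091 F327832) (tt N18701 F95219) (tt N67349 (iv5 F207115)) (tt N28117 F327833) (tt N18698 (iv7 D60598)))
theorem Q36804 : ∀ i, i < 36804 → P i := stepQ 36803 Q36803 (allL N36803 (tt N67194 (iv1 F206895)) (tt N18711 F168147) (tt N37956 F168148) (tt N67350 D128863) (tt N18699 (iv4 D60601)) (tt N60765 (iv5 F358208)) (tt N37745 (iv6 F96547)) (tt N67185 (iv7 F206868)))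
theorem Q36805 : ∀ i, i < 36805 → P i := stepQ 36804 Q36804 (allL N36804 (tt N59112 F172060) (tt N59129 (iv0 F172161)) (tt N37957 F168130) (tt N37729 (iv3 F168129)) (tt N67351 D128865) (tt N18699 (iv5 D60602)) (tt N35821 F95221) (tt N41088 F103373))
theorem Q36806 : ∀ i, i < 36806 → P i := stepQ 36805 Q36805 (allL N36805 (tt N18711 F112220) (tt N67194 F206894) (tt N67185 (iv2 F206867)) (tt N65124 (iv3 F341952)) (tt N18700 (iv4 D60605)) (tt N60766 (iv5 F358213)) (tt N67352 D128868) (tt N37956 F168084))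
theorem Q36807 : ∀ i, i < 36807 → P i := stepQ 36806 Q36806 (allL N36806 (tt N59129 (iv1 F172162)) (tt N59112 (iv0 F172059)) (tt N41088 F103374) (tt N18826 F168085) (tt N67353 D128869) (tt N18700 (iv5 D60606)) (tt N29703 (iv6 F168090)) (tt N37957 F168086))
theorem Q36808 : ∀ i, i < 36808 → P i := stepQ 36807 Q36807 (allL N36807 (tt N56007 F162263) (tt N37793 F172146) (tt N67186 (iv2 F206871)) (tt N18827 F168050) (tt N67352 (iv4 F207118)) (tt N37705 (iv5 F96489)) (tt N18700 (iv6 D60607)) (tt N37744 (iv7 F96544)))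
theorem Q36809 : ∀ i, i < 36809 → P i := stepQ 36808 Q36808 (allL N36808 (tt N66069 (iv1 F203303)) (tt N18702 (iv0 D60608)) (tt N37975 (iv2 F202490)) (tt N58955 F173731) (tt N38857 (iv4 F173733)) (tt N35829 (iv5 F173732)) (tt N60874 (iv6 F327481)) (tt N66068 (iv7 F203292)))
theorem Q36810 : ∀ i, i < 36810 → P i := stepQ 36809 Q36809 (allL N36809 (tt N18702 (iv1 D60609)) (tt N66069 F203302) (tt N66068 (iv2 F203295)) (tt N35976 F173179) (tt N38858 F173181) (tt N35830 (iv5 F173178)) (tt N37932 (iv6 F173180)) (tt N37975 (iv7 F202487)))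
theorem Q36811 : ∀ i, i < 36811 → P i := stepQ 36810 Q36810 (allL N36810 (tt N66068 (iv1 F203291)) (tt N37975 (iv0 F175201)) (tt N66069 (iv2 F203298)) (tt N18708 F95224) (tt N60886 (iv4 F327976)) (tt N60008 F175199) (tt N66067 (iv6 F203288)) (tt N18702 (iv7 D60610)))
theorem Q36812 : ∀ i, i < 36812 → P i := stepQ 36811 Q36811 (allL N36811 (tt N67177 (iv1 F206844)) (tt N18703 (iv0 D60611)) (tt N67176 (iv2 F207735)) (tt N67354 D128872) (tt N67355 D128873) (tt N67297 (iv5 F355245)) (tt N37735 F342926) (tt N60943 (iv7 F342942)))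
theorem Q36813 : ∀ i, i < 36813 → P i := stepQ 36812 Q36812 (allL N36812 (tt N18703 (iv1 D60612)) (tt N67177 F206846) (tt N60943 (iv2 F342941)) (tt N67356 D128877) (tt N56276 (iv4 F332637)) (tt N67298 (iv5 F342951)) (tt N55750 (iv6 F342950)) (tt N67176 (iv7 F207737)))
theorem Q36814 : ∀ i, i < 36814 → P i := stepQ 36813 Q36813 (allL N36813 (tt N67176 (iv1 F206845)) (tt N60943 (iv0 F342939)) (tt N18703 (iv2 D60613)) (tt N53031 (iv3 F325743)) (tt N60935 (iv4 F347549)) (tt N67357 D128881) (tt N53030 (iv6 F332865)) (tt N67177 (iv7 F206843)))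
theorem Q36815 : ∀ i, i < 36815 → P i := stepQ 36814 Q36814 (allL N36814 (tt N67358 D128883) (tt N67359 D128884) (tt N67357 (iv2 F207124)) (tt N18704 F95225) (tt N67360 D128885) (tt N18703 (iv5 D60614)) (tt N67361 D128886) (tt N67178 (iv7 F206848)))
theorem Q36816 : ∀ i, i < 36816 → P i := stepQ 36815 Q36815 (allL N36815 (tt N36270 (iv1 F332854)) (tt N60665 (iv0 F332855)) (tt N53030 (iv2 F332863)) (tt N18705 F95226) (tt N55744 F332853) (tt N36820 (iv5 F332858)) (tt N18703 (iv6 D60615)) (tt N36819 (iv7 F332860)))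
theorem Q36817 : ∀ i, i < 36817 → P i := stepQ 36816 Q36816 (allL N36816 (tt N66629 (iv1 F362299)) (tt N67362 D128892) (tt N65617 (iv2 F202134)) (tt N67361 (iv3 F207126)) (tt N36832 (iv4 F95247)) (tt N67363 D128893) (tt N18704 (iv6 D60616)) (tt N67364 D128894))
theorem Q36818 : ∀ i, i < 36818 → P i := stepQ 36817 Q36817 (allL N36817 (tt N28117 F327830) (tt N18705 (iv0 D60617)) (tt N60939 (iv2 F342918)) (tt N67365 D128895) (tt N32343 F165618) (tt N67366 D128896) (tt N55672 (iv6 F329141)) (tt N65613 (iv7 F202113)))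
theorem Q36819 : ∀ i, i < 36819 → P i := stepQ 36818 Q36818 (allL N36818 (tt N18705 (iv1 D60618)) (tt N28117 F327829) (tt N65613 F202115) (tt N67367 D128898) (tt N32346 (iv4 F173729)) (tt N67368 D128899) (tt N37724 F173730) (tt N60939 (iv7 F342921)))
theorem Q36820 : ∀ i, i < 36820 → P i := stepQ 36819 Q36819 (allL N36819 (tt N66619 (iv1 F332806)) (tt N32382 F332804) (tt N49532 (iv2 F327324)) (tt N36820 F332859) (tt N32550 (iv4 F332850)) (tt N18705 (iv5 D60619)) (tt N67363 (iv6 F207129)) (tt N36815 F332860))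
theorem Q36821 : ∀ i, i < 36821 → P i := stepQ 36820 Q36820 (allL N36820 (tt N65613 (iv1 F202112)) (tt N60939 (iv0 F342916)) (tt N28117 F327831) (tt N36819 (iv3 F332859)) (tt N18708 F95227) (tt N36815 F332858) (tt N67184 (iv6 F206864)) (tt N18705 (iv7 D60620)))
theorem Q36822 : ∀ i, i < 36822 → P i := stepQ 36821 Q36821 (allL N36821 (tt N67201 (iv1 F206912)) (tt N18714 F163888) (tt N65612 (iv2 F202098)) (tt N67369 D128904) (tt N18706 (iv4 D60623)) (tt N67370 D128905) (tt N67371 D128906) (tt N37993 F100188))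
theorem Q36823 : ∀ i, i < 36823 → P i := stepQ 36822 Q36822 (allL N36822 (tt N31501 F95231) (tt N31500 (iv0 F100277)) (tt N60894 (iv2 F328773)) (tt N18847 F100189) (tt N67371 (iv4 F207140)) (tt N37912 F100190) (tt N18706 (iv6 D60624)) (tt N37731 (iv7 F96529)))
theorem Q36824 : ∀ i, i < 36824 → P i := stepQ 36823 Q36823 (allL N36823 (tt N18714 F168640) (tt N67201 F206911) (tt N37993 F100239) (tt N67372 D128907) (tt N18707 (iv4 D60627)) (tt N67373 D128908) (tt N37728 (iv6 F96525)) (tt N65612 (iv7 F202099)))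
theorem Q36825 : ∀ i, i < 36825 → P i := stepQ 36824 Q36824 (allL N36824 (tt N67197 (iv1 F206899)) (tt N18709 (iv0 D60628)) (tt N67196 (iv2 F403293)) (tt N67374 D128910) (tt N67375 D128911) (tt N67376 D128912) (tt N67377 D128913) (tt N67195 (iv7 F403292)))
theorem Q36826 : ∀ i, i < 36826 → P i := stepQ 36825 Q36825 (allL N36825 (tt N18709 (iv1 D60629)) (tt N67197 F206901) (tt N67195 (iv2 F403290)) (tt N67378 D128915) (tt N67379 D128916) (tt N67380 D128917) (tt N37747 (iv6 F396537)) (tt N67196 (iv7 F403294)))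
theorem Q36827 : ∀ i, i < 36827 → P i := stepQ 36826 Q36826 (allL N36826 (tt N67196 (iv1 F206900)) (tt N67195 F206896) (tt N18709 (iv2 D60630)) (tt N67189 (iv3 F206878)) (tt N67381 D128919) (tt N67382 D128920) (tt N67383 D128921) (tt N67197 (iv7 F206898)))
theorem Q36828 : ∀ i, i < 36828 → P i := stepQ 36827 Q36827 (allL N36827 (tt N67384 D128922) (tt N66129 (iv0 F347620)) (tt N67381 (iv2 F207145)) (tt N19923 F95235) (tt N18709 (iv4 D60631)) (tt N67385 D128924) (tt N67386 D128925) (tt N55838 (iv7 F161918)))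
theorem Q36829 : ∀ i, i < 36829 → P i := stepQ 36828 Q36828 (allL N36828 (tt N67387 D128926) (tt N55675 (iv0 F362943)) (tt N67382 (iv2 F207146)) (tt N18710 F95236) (tt N67388 D128928) (tt N18709 (iv5 D60632)) (tt N67389 D128929) (tt N67198 (iv7 F206903)))
theorem Q36830 : ∀ i, i < 36830 → P i := stepQ 36829 Q36829 (allL N36829 (tt N60511 (iv1 F352201)) (tt N60515 (iv0 F352200)) (tt N67383 (iv2 F207147)) (tt N18711 F95237) (tt N67386 (iv4 F207152)) (tt N67390 D128932) (tt N18709 (iv6 D60633)) (tt N67391 D128933))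
theorem Q36831 : ∀ i, i < 36831 → P i := stepQ 36830 Q36830 (allL N36830 (tt N18713 (iv1 F95239)) (tt N18710 (iv0 D60634)) (tt N36741 (iv2 F95240)) (tt N67392 D128934) (tt N36831 (iv4 F95245)) (tt N36694 F95238) (tt N67393 D128935) (tt N36735 (iv7 F95241)))
theorem Q36832 : ∀ i, i < 36832 → P i := stepQ 36831 Q36831 (allL N36831 (tt N18710 (iv1 D60635)) (tt N18713 F95242) (tt N36735 (iv2 F95246)) (tt N67394 D128936) (tt N36830 F95245) (tt N19204 F95244) (tt N67395 D128937) (tt N36741 F95243))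
theorem Q36833 : ∀ i, i < 36833 → P i := stepQ 36832 Q36832 (allL N36832 (tt N67396 D128938) (tt N67397 D128939) (tt N67192 (iv2 F206888)) (tt N67389 (iv3 F207154)) (tt N36816 F95247) (tt N67398 D128940) (tt N18710 (iv6 D60636)) (tt N67399 D128941))
theorem Q36834 : ∀ i, i < 36834 → P i := stepQ 36833 Q36833 (allL N36833 (tt N67400 D128942) (tt N67401 D128943) (tt N67193 (iv2 F206890)) (tt N67390 (iv3 F207155)) (tt N67402 D128944) (tt N18711 (iv5 D60639)) (tt N67398 (iv6 F207164)) (tt N67403 D128945))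
theorem Q36835 : ∀ i, i < 36835 → P i := stepQ 36834 Q36834 (allL N36834 (tt N67185 F206870) (tt N37956 (iv0 F168412)) (tt N67194 (iv2 F206891)) (tt N67391 (iv3 F207156)) (tt N39014 (iv4 F99159)) (tt N67403 (iv5 F207168)) (tt N67201 (iv6 F206910)) (tt N18711 (iv7 D60640)))
theorem Q36836 : ∀ i, i < 36836 → P i := stepQ 36835 Q36835 (allL N36835 (tt N67189 (iv1 F206881)) (tt N18712 (iv0 D60641)) (tt N67188 (iv2 F354993)) (tt N67404 D128947) (tt N67405 D128948) (tt N67406 D128949) (tt N37753 (iv6 F339688)) (tt N67187 (iv7 F355009)))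
theorem Q36837 : ∀ i, i < 36837 → P i := stepQ 36836 Q36836 (allL N36836 (tt N18712 (iv1 D60642)) (tt N67189 F206883) (tt N67187 (iv2 F355008)) (tt N67407 D128952) (tt N67408 D128953) (tt N67409 D128954) (tt N67410 D128955) (tt N67188 (iv7 F354997)))
theorem Q36838 : ∀ i, i < 36838 → P i := stepQ 36837 Q36837 (allL N36837 (tt N67188 (iv1 F206882)) (tt N67187 F206877) (tt N18712 (iv2 D60643)) (tt N67197 (iv3 F206897)) (tt N58052 (iv4 F168766)) (tt N67411 D128956) (tt N67412 D128957) (tt N67189 (iv7 F206880)))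
theorem Q36839 : ∀ i, i < 36839 → P i := stepQ 36838 Q36838 (allL N36838 (tt N67413 D128958) (tt N67414 D128959) (tt N67411 (iv2 F207173)) (tt N18713 F95248) (tt N67415 D128960) (tt N18712 (iv5 D60644)) (tt N67416 D128961) (tt N67190 (iv7 F206885)))
theorem Q36840 : ∀ i, i < 36840 → P i := stepQ 36839 Q36839 (allL N36839 (tt N60461 (iv1 F360820)) (tt N67417 D128963) (tt N67412 (iv2 F207174)) (tt N18714 F95249) (tt N58044 (iv4 F168740)) (tt N67418 D128964) (tt N18712 (iv6 D60645)) (tt N67419 D128965))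
theorem Q36841 : ∀ i, i < 36841 → P i := stepQ 36840 Q36840 (allL N36840 (tt N65960 (iv1 F363268)) (tt N67420 D128967) (tt N67200 (iv2 F206905)) (tt N67416 (iv3 F207176)) (tt N36798 F95250) (tt N67421 D128968) (tt N18713 (iv6 D60646)) (tt N67422 D128969))
theorem Q36842 : ∀ i, i < 36842 → P i := stepQ 36841 Q36841 (allL N36841 (tt N66005 (iv1 F329263)) (tt N32283 F329123) (tt N60787 F329576) (tt N67418 (iv3 F207177)) (tt N36271 (iv4 F329736)) (tt N18714 (iv5 D60649)) (tt N67421 (iv6 F207179)) (tt N60791 F329577))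
theorem Q36843 : ∀ i, i < 36843 → P i := stepQ 36842 Q36842 (allL N36842 (tt N37993 F164024) (tt N65612 (iv0 F202100)) (tt N67201 (iv2 F206908)) (tt N67419 (iv3 F207178)) (tt N39017 (iv4 F99169)) (tt N60791 (iv5 F329262)) (tt N67194 (iv6 F206893)) (tt N18714 (iv7 D60650)))
theorem Q36844 : ∀ i, i < 36844 → P i := stepQ 36843 Q36843 (allL N36843 (tt N18716 (iv1 F95254)) (tt N18715 (iv0 D60651)) (tt N18719 (iv2 F95251)) (tt N67202 (iv3 F206914)) (tt N18869 F95252) (tt N67423 D128974) (tt N67424 D128975) (tt N18717 F95253))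
theorem Q36845 : ∀ i, i < 36845 → P i := stepQ 36844 Q36844 (allL N36844 (tt N18719 (iv1 F207218)) (tt N18717 (iv0 F207219)) (tt N18715 (iv2 D60652)) (tt N67425 D128978) (tt N19756 F207217) (tt N67426 D128980) (tt N67427 D128981) (tt N18716 (iv7 F95255)))
theorem Q36846 : ∀ i, i < 36846 → P i := stepQ 36845 Q36845 (allL N36845 (tt N67407 (iv1 F355004)) (tt N67428 D128983) (tt N39070 (iv2 F207227)) (tt N18715 (iv3 D60653)) (tt N39068 (iv4 F207226)) (tt N65909 (iv5 F330409)) (tt N67429 D128986) (tt N39075 (iv7 F207223)))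
theorem Q36847 : ∀ i, i < 36847 → P i := stepQ 36846 Q36846 (allL N36846 (tt N46813 F314447) (tt N37941 (iv0 F207726)) (tt N19756 F207216) (tt N67430 D128990) (tt N18715 (iv4 D60654)) (tt N35379 F314448) (tt N67431 D128992) (tt N67033 (iv7 F315356)))
theorem Q36848 : ∀ i, i < 36848 → P i := stepQ 36847 Q36847 (allL N36847 (tt N67432 D128994) (tt N67394 (iv0 F208790)) (tt N67426 (iv2 F207197)) (tt N65909 (iv3 F330408)) (tt N67433 D128996) (tt N18715 (iv5 D60655)) (tt N67434 D128997) (tt N67435 D128998))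
theorem Q36849 : ∀ i, i < 36849 → P i := stepQ 36848 Q36848 (allL N36848 (tt N65127 (iv1 F347418)) (tt N65124 (iv0 F347419)) (tt N67427 (iv2 F207199)) (tt N67429 (iv3 F207201)) (tt N67431 (iv4 F207238)) (tt N45875 (iv5 F347420)) (tt N18715 (iv6 D60656)) (tt N67436 D129002))
theorem Q36850 : ∀ i, i < 36850 → P i := stepQ 36849 Q36849 (allL N36849 (tt N18717 F207220) (tt N18719 F207221) (tt N18716 F95256) (tt N39075 (iv3 F207222)) (tt N67033 (iv4 F315355)) (tt N67435 (iv5 F207252)) (tt N67437 D129003) (tt N18715 (iv7 D60657)))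
theorem Q36851 : ∀ i, i < 36851 → P i := stepQ 36850 Q36850 (allL N36850 (tt N67438 D129004) (tt N67374 (iv0 F218460)) (tt N67439 D129006) (tt N18716 (iv3 D60658)) (tt N49603 (iv4 F332687)) (tt N60660 (iv5 F345747)) (tt N49602 (iv6 F361236)) (tt N67425 (iv7 F207193)))
theorem Q36852 : ∀ i, i < 36852 → P i := stepQ 36851 Q36851 (allL N36851 (tt N37941 (iv1 F207727)) (tt N46813 F316693) (tt N67033 (iv2 F315353)) (tt N19760 F207214) (tt N18716 (iv4 D60659)) (tt N65368 (iv5 F312118)) (tt N67440 D129011) (tt N19756 F207215))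
theorem Q36853 : ∀ i, i < 36853 → P i := stepQ 36852 Q36852 (allL N36852 (tt N67394 (iv1 F208791)) (tt N67432 F207253) (tt N67435 (iv2 F207251)) (tt N60660 (iv3 F345746)) (tt N67441 D129012) (tt N18716 (iv5 D60660)) (tt N67442 D129013) (tt N67426 (iv7 F207198)))
theorem Q36854 : ∀ i, i < 36854 → P i := stepQ 36853 Q36853 (allL N36853 (tt N67369 (iv1 F361234)) (tt N67443 D129015) (tt N67437 (iv2 F207254)) (tt N49602 (iv3 F361235)) (tt N67440 (iv4 F207266)) (tt N67444 D129016) (tt N18716 (iv6 D60661)) (tt N49600 (iv7 F361252)))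
theorem Q36855 : ∀ i, i < 36855 → P i := stepQ 36854 Q36854 (allL N36854 (tt N67445 D129018) (tt N67446 D129019) (tt N18718 F95261) (tt N67211 (iv3 F206925)) (tt N57649 (iv4 F167314)) (tt N18717 (iv5 D60664)) (tt N67447 D129020) (tt N67423 (iv7 F207186)))
theorem Q36856 : ∀ i, i < 36856 → P i := stepQ 36855 Q36855 (allL N36855 (tt N67423 (iv1 F207188)) (tt N18718 (iv0 D60665)) (tt N67445 (iv2 F214152)) (tt N67448 D129022) (tt N67449 D129023) (tt N67252 (iv5 F208887)) (tt N67450 D129025) (tt N67446 (iv7 F214149)))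
theorem Q36857 : ∀ i, i < 36857 → P i := stepQ 36856 Q36856 (allL N36856 (tt N18718 (iv1 D60666)) (tt N67423 F207187) (tt N67446 (iv2 F214148)) (tt N67451 D129027) (tt N67452 D129028) (tt N67253 (iv5 F211935)) (tt N67453 D129030) (tt N67445 (iv7 F214153)))
theorem Q36858 : ∀ i, i < 36858 → P i := stepQ 36857 Q36857 (allL N36857 (tt N67454 D129031) (tt N67455 D129032) (tt N57649 (iv2 F167311)) (tt N67456 D129033) (tt N18718 (iv4 D60667)) (tt N57648 F167310) (tt N67457 D129034) (tt N67458 D129035))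
theorem Q36859 : ∀ i, i < 36859 → P i := stepQ 36858 Q36858 (allL N36858 (tt N49196 (iv1 F341821)) (tt N67459 D129037) (tt N67447 (iv2 F207269)) (tt N18723 F95262) (tt N67457 (iv4 F207277)) (tt N37775 (iv5 F96575)) (tt N18718 (iv6 D60668)) (tt N67460 D129038))
theorem Q36860 : ∀ i, i < 36860 → P i := stepQ 36859 Q36859 (allL N36859 (tt N67446 (iv1 F207268)) (tt N67445 F207267) (tt N67423 (iv2 F207184)) (tt N18724 F95263) (tt N67458 (iv4 F207280)) (tt N18719 F95264) (tt N67461 D129039) (tt N18718 (iv7 D60669)))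
theorem Q36861 : ∀ i, i < 36861 → P i := stepQ 36860 Q36860 (allL N36860 (tt N67462 D129040) (tt N67463 D129041) (tt N67424 (iv2 F207189)) (tt N18725 F95265) (tt N18885 F95266) (tt N67464 D129042) (tt N18719 (iv6 D60670)) (tt N37776 (iv7 F96578)))
theorem Q36862 : ∀ i, i < 36862 → P i := stepQ 36861 Q36861 (allL N36861 (tt N67376 (iv1 F362191)) (tt N67380 (iv0 F396536)) (tt N67465 D129045) (tt N18720 (iv3 D60671)) (tt N67466 D129046) (tt N36731 F95267) (tt N67467 D129047) (tt N67217 (iv7 F206939)))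
theorem Q36863 : ∀ i, i < 36863 → P i := stepQ 36862 Q36862 (allL N36862 (tt N67468 D129048) (tt N67469 D129049) (tt N60533 (iv2 F328357)) (tt N67467 (iv3 F207288)) (tt N36774 F95268) (tt N35820 F327965) (tt N18720 (iv6 D60672)) (tt N60535 (iv7 F328361)))
theorem Q36864 : ∀ i, i < 36864 → P i := stepQ 36863 Q36863 (allL N36863 (tt N67406 (iv1 F339684)) (tt N67409 (iv0 F347506)) (tt N67470 D129054) (tt N18721 (iv3 D60673)) (tt N67471 D129055) (tt N36767 F95269) (tt N67472 D129056) (tt N67216 (iv7 F206935)))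
theorem Q36865 : ∀ i, i < 36865 → P i := stepQ 36864 Q36864 (allL N36864 (tt N67473 D129057) (tt N67474 D129058) (tt N67218 (iv2 F206940)) (tt N67472 (iv3 F207293)) (tt N36755 F95270) (tt N67475 D129059) (tt N18721 (iv6 D60674)) (tt N67476 D129060))
theorem Q36866 : ∀ i, i < 36866 → P i := stepQ 36865 Q36865 (allL N36865 (tt N67477 D129061) (tt N67478 D129062) (tt N67479 D129063) (tt N18722 (iv3 D60675)) (tt N67456 (iv4 F207274)) (tt N36716 F95271) (tt N60711 (iv6 F341837)) (tt N36715 F95272))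
theorem Q36867 : ∀ i, i < 36867 → P i := stepQ 36866 Q36866 (allL N36866 (tt N67480 D129065) (tt N67481 D129066) (tt N36870 (iv2 F95274)) (tt N60711 (iv3 F341835)) (tt N18723 F95273) (tt N67482 D129067) (tt N18722 (iv6 D60676)) (tt N67483 D129068))
theorem Q36868 : ∀ i, i < 36868 → P i := stepQ 36867 Q36867 (allL N36867 (tt N67221 (iv1 F206947)) (tt N18723 (iv0 D60677)) (tt N67219 (iv2 F358305)) (tt N67484 D129070) (tt N67485 D129071) (tt N67486 D129072) (tt N67487 D129073) (tt N67220 (iv7 F358311)))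
theorem Q36869 : ∀ i, i < 36869 → P i := stepQ 36868 Q36868 (allL N36868 (tt N18723 (iv1 D60678)) (tt N67221 F206946) (tt N67220 (iv2 F358310)) (tt N50667 (iv3 F341816)) (tt N67488 D129076) (tt N67489 D129077) (tt N67490 D129078) (tt N67219 (iv7 F358308)))
theorem Q36870 : ∀ i, i < 36870 → P i := stepQ 36869 Q36869 (allL N36869 (tt N67220 (iv1 F206942)) (tt N67219 F206945) (tt N67221 (iv2 F206943)) (tt N67460 (iv3 F207283)) (tt N67483 (iv4 F207306)) (tt N37783 (iv5 F96583)) (tt N67491 D129079) (tt N18723 (iv7 D60679)))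
theorem Q36871 : ∀ i, i < 36871 → P i := stepQ 36870 Q36870 (allL N36870 (tt N67492 D129080) (tt N67493 D129081) (tt N36866 F95274) (tt N67461 (iv3 F207284)) (tt N36719 F95275) (tt N67494 D129082) (tt N18724 (iv6 D60680)) (tt N67491 (iv7 F207312)))
theorem Q36872 : ∀ i, i < 36872 → P i := stepQ 36871 Q36871 (allL N36871 (tt N30043 (iv1 F95276)) (tt N18725 (iv0 D60681)) (tt N37785 F102155) (tt N67495 D129083) (tt N30132 (iv4 F102064)) (tt N67496 D129084) (tt N67497 D129085) (tt N37784 (iv7 F102158)))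
theorem Q36873 : ∀ i, i < 36873 → P i := stepQ 36872 Q36872 (allL N36872 (tt N18725 (iv1 D60682)) (tt N30043 F95277) (tt N37784 F102159) (tt N67498 D129086) (tt N30131 (iv4 F102053)) (tt N67499 D129087) (tt N57027 (iv6 F165240)) (tt N37785 F102151))
theorem Q36874 : ∀ i, i < 36874 → P i := stepQ 36873 Q36873 (allL N36873 (tt N60668 (iv1 F399091)) (tt N67500 D129089) (tt N67222 (iv2 F206948)) (tt N67464 (iv3 F207285)) (tt N67501 D129090) (tt N18725 (iv5 D60683)) (tt N67494 (iv6 F207318)) (tt N37786 (iv7 F96586)))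
theorem Q36875 : ∀ i, i < 36875 → P i := stepQ 36874 Q36874 (allL N36874 (tt N31386 (iv1 F101912)) (tt N30745 (iv0 F101911)) (tt N57727 F167639) (tt N18726 (iv3 D60685)) (tt N38565 F98525) (tt N67502 D129091) (tt N67503 D129092) (tt N37787 F103556))
theorem Q36876 : ∀ i, i < 36876 → P i := stepQ 36875 Q36875 (allL N36875 (tt N30108 F102058) (tt N56708 F164630) (tt N37791 F103566) (tt N67504 D129093) (tt N18726 (iv4 D60686)) (tt N67505 D129094) (tt N67506 D129095) (tt N37788 F103557))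
theorem Q36877 : ∀ i, i < 36877 → P i := stepQ 36876 Q36876 (allL N36876 (tt N56494 (iv1 F163835)) (tt N36760 (iv0 F95279)) (tt N37792 (iv2 F103563)) (tt N67502 (iv3 F207322)) (tt N67507 D129096) (tt N18726 (iv5 D60687)) (tt N36915 (iv6 F95334)) (tt N37789 F103558))
theorem Q36878 : ∀ i, i < 36878 → P i := stepQ 36877 Q36877 (allL N36877 (tt N67186 F206876) (tt N37744 (iv0 F96540)) (tt N37793 (iv2 F103551)) (tt N67503 (iv3 F207324)) (tt N67506 (iv4 F207326)) (tt N31489 F95280) (tt N18726 (iv6 D60688)) (tt N56007 (iv7 F162262)))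
theorem Q36879 : ∀ i, i < 36879 → P i := stepQ 36878 Q36878 (allL N36878 (tt N36760 F96448) (tt N56494 (iv0 F163834)) (tt N37789 F103565) (tt N60896 (iv3 F328644)) (tt N67508 D129100) (tt N18727 (iv5 D60692)) (tt N36737 F95282) (tt N37792 F103564))
theorem Q36880 : ∀ i, i < 36880 → P i := stepQ 36879 Q36879 (allL N36879 (tt N45085 F333192) (tt N67509 D129101) (tt N67510 D129102) (tt N18728 (iv3 D60693)) (tt N38227 (iv4 F97708)) (tt N67511 D129103) (tt N67512 D129104) (tt N37872 (iv7 F96808)))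
theorem Q36881 : ∀ i, i < 36881 → P i := stepQ 36880 Q36880 (allL N36880 (tt N35944 F95283) (tt N35947 F95284) (tt N37875 (iv2 F96815)) (tt N67511 (iv3 F207331)) (tt N32465 F326331) (tt N18728 (iv5 D60694)) (tt N32464 (iv6 F327153)) (tt N37873 (iv7 F96810)))
theorem Q36882 : ∀ i, i < 36882 → P i := stepQ 36881 Q36881 (allL N36881 (tt N67513 D129106) (tt N67514 D129107) (tt N37876 (iv2 F96820)) (tt N67512 (iv3 F207333)) (tt N18729 F95285) (tt N67515 D129108) (tt N18728 (iv6 D60695)) (tt N67516 D129109))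
theorem Q36883 : ∀ i, i < 36883 → P i := stepQ 36882 Q36882 (allL N36882 (tt N37878 (iv1 F96828)) (tt N18729 (iv0 D60696)) (tt N37849 (iv2 F103862)) (tt N37809 (iv3 F166342)) (tt N67517 D129110) (tt N67518 D129111) (tt N66216 (iv6 F203684)) (tt N37877 (iv7 F103863)))
theorem Q36884 : ∀ i, i < 36884 → P i := stepQ 36883 Q36883 (allL N36883 (tt N18729 (iv1 D60697)) (tt N37878 F96827) (tt N37877 F103858) (tt N18747 F103859) (tt N67519 D129112) (tt N41299 (iv5 F103857)) (tt N37810 (iv6 F166337)) (tt N37849 F103861))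
theorem Q36885 : ∀ i, i < 36885 → P i := stepQ 36884 Q36884 (allL N36884 (tt N37877 (iv1 F96822)) (tt N37849 (iv0 F101904)) (tt N37878 (iv2 F96823)) (tt N67286 (iv3 F207019)) (tt N67516 (iv4 F207334)) (tt N41233 F103694) (tt N18784 (iv6 F95301)) (tt N18729 (iv7 D60698)))
theorem Q36886 : ∀ i, i < 36886 → P i := stepQ 36885 Q36885 (allL N36885 (tt N19531 F95289) (tt N19532 F95290) (tt N19554 F95287) (tt N67520 D129113) (tt N18730 (iv4 D60699)) (tt N38495 (iv5 F98372)) (tt N38755 F98748) (tt N19553 F95288))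
theorem Q36887 : ∀ i, i < 36887 → P i := stepQ 36886 Q36886 (allL N36886 (tt N67521 D129114) (tt N67522 D129115) (tt N67523 D129116) (tt N18731 (iv3 D60700)) (tt N67520 (iv4 F207342)) (tt N36952 F95908) (tt N67524 D129117) (tt N37874 (iv7 F96814)))
theorem Q36888 : ∀ i, i < 36888 → P i := stepQ 36887 Q36887 (allL N36887 (tt N35947 F95291) (tt N35944 F95292) (tt N37873 (iv2 F96809)) (tt N36952 (iv3 F95907)) (tt N38119 (iv4 F97444)) (tt N18731 (iv5 D60701)) (tt N67525 D129118) (tt N37875 (iv7 F96817)))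
theorem Q36889 : ∀ i, i < 36889 → P i := stepQ 36888 Q36888 (allL N36888 (tt N61670 F179210) (tt N67526 D129119) (tt N36107 F95293) (tt N67524 (iv3 F207347)) (tt N18732 F95294) (tt N67527 D129120) (tt N18731 (iv6 D60702)) (tt N67528 D129121))
theorem Q36890 : ∀ i, i < 36890 → P i := stepQ 36889 Q36889 (allL N36889 (tt N18732 (iv1 D60703)) (tt N18784 (iv0 F95299)) (tt N18786 (iv2 F95297)) (tt N35971 (iv3 F95298)) (tt N67529 D129122) (tt N57332 (iv5 F166237)) (tt N37801 (iv6 F96615)) (tt N18773 F95296))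
theorem Q36891 : ∀ i, i < 36891 → P i := stepQ 36890 Q36890 (allL N36890 (tt N18786 (iv1 F95308)) (tt N18773 F95309) (tt N18784 F95306) (tt N57715 (iv3 F167761)) (tt N67528 (iv4 F207354)) (tt N36006 F95307) (tt N37878 (iv6 F96825)) (tt N18732 (iv7 D60704)))
theorem Q36892 : ∀ i, i < 36892 → P i := stepQ 36891 Q36891 (allL N36891 (tt N67530 D129123) (tt N67531 D129124) (tt N66021 (iv2 F343598)) (tt N18733 (iv3 D60705)) (tt N56237 (iv4 F343582)) (tt N65820 (iv5 F343594)) (tt N67532 D129127) (tt N37879 (iv7 F96830)))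
theorem Q36893 : ∀ i, i < 36893 → P i := stepQ 36892 Q36892 (allL N36892 (tt N35938 F95310) (tt N19274 F95311) (tt N36894 (iv2 F95315)) (tt N65820 (iv3 F343593)) (tt N38117 (iv4 F97434)) (tt N18733 (iv5 D60706)) (tt N60865 (iv6 F328050)) (tt N37043 (iv7 F95452)))
theorem Q36894 : ∀ i, i < 36894 → P i := stepQ 36893 Q36893 (allL N36893 (tt N67517 (iv1 F211973)) (tt N67519 (iv0 F207341)) (tt N37881 (iv2 F96834)) (tt N67532 (iv3 F207369)) (tt N38924 (iv4 F99021)) (tt N67533 D129130) (tt N18733 (iv6 D60707)) (tt N67534 D129131))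
theorem Q36895 : ∀ i, i < 36895 → P i := stepQ 36894 Q36894 (allL N36894 (tt N18805 F95312) (tt N35973 F95314) (tt N36892 F95315) (tt N18734 (iv3 D60708)) (tt N37392 (iv4 F95903)) (tt N19228 (iv5 F95313)) (tt N67535 D129132) (tt N36895 (iv7 F95317)))
theorem Q36896 : ∀ i, i < 36896 → P i := stepQ 36895 Q36895 (allL N36895 (tt N19274 F95318) (tt N35938 F95319) (tt N37043 F95450) (tt N19228 F95316) (tt N38111 (iv4 F97395)) (tt N18734 (iv5 D60709)) (tt N67536 D129133) (tt N36894 F95317))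
theorem Q36897 : ∀ i, i < 36897 → P i := stepQ 36896 Q36896 (allL N36896 (tt N18783 F95321) (tt N67529 (iv0 F207359)) (tt N37880 (iv2 F96831)) (tt N67535 (iv3 F207373)) (tt N20093 F95320) (tt N67537 D129134) (tt N18734 (iv6 D60710)) (tt N67538 D129135))
theorem Q36898 : ∀ i, i < 36898 → P i := stepQ 36897 Q36897 (allL N36897 (tt N37884 (iv1 F96839)) (tt N18735 (iv0 D60711)) (tt N37883 F214754) (tt N67539 D129137) (tt N67540 D129138) (tt N67541 D129139) (tt N67542 D129140) (tt N37882 F214755))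
theorem Q36899 : ∀ i, i < 36899 → P i := stepQ 36898 Q36898 (allL N36898 (tt N18735 (iv1 D60712)) (tt N37884 F96841) (tt N37882 (iv2 F214753)) (tt N67543 D129142) (tt N38244 (iv4 F97759)) (tt N67544 D129143) (tt N67545 D129144) (tt N37883 (iv7 F214752)))
theorem Q36900 : ∀ i, i < 36900 → P i := stepQ 36899 Q36899 (allL N36899 (tt N37883 (iv1 F96840)) (tt N37882 F96835) (tt N18735 (iv2 D60713)) (tt N66083 (iv3 F203342)) (tt N18759 F95322) (tt N67546 D129145) (tt N67547 D129146) (tt N37884 (iv7 F96838)))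
theorem Q36901 : ∀ i, i < 36901 → P i := stepQ 36900 Q36900 (allL N36900 (tt N67548 D129147) (tt N67549 D129148) (tt N67546 (iv2 F207384)) (tt N18736 F95323) (tt N67550 D129149) (tt N18735 (iv5 D60714)) (tt N67551 D129150) (tt N37885 (iv7 F96843)))
theorem Q36902 : ∀ i, i < 36902 → P i := stepQ 36901 Q36901 (allL N36901 (tt N67552 D129151) (tt N67553 D129152) (tt N67547 (iv2 F207386)) (tt N18737 F95324) (tt N18761 F95325) (tt N67554 D129153) (tt N18735 (iv6 D60715)) (tt N65879 (iv7 F324948)))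
theorem Q36903 : ∀ i, i < 36903 → P i := stepQ 36902 Q36902 (allL N36902 (tt N67555 D129155) (tt N67556 D129156) (tt N66086 (iv2 F203345)) (tt N67551 (iv3 F207393)) (tt N39028 (iv4 F99188)) (tt N67557 D129157) (tt N18736 (iv6 D60716)) (tt N67558 D129158))
theorem Q36904 : ∀ i, i < 36904 → P i := stepQ 36903 Q36903 (allL N36903 (tt N66090 (iv1 F203359)) (tt N18737 (iv0 D60717)) (tt N66087 F203348) (tt N67559 D129159) (tt N38927 F169032) (tt N67560 D129160) (tt N37829 (iv6 F169033)) (tt N66088 (iv7 F203352)))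
theorem Q36905 : ∀ i, i < 36905 → P i := stepQ 36904 Q36904 (allL N36904 (tt N18737 (iv1 D60718)) (tt N66090 F203358) (tt N66088 F203354) (tt N67561 D129161) (tt N38928 (iv4 F163879)) (tt N67562 D129162) (tt N67563 D129163) (tt N66087 F203349))
theorem Q36906 : ∀ i, i < 36906 → P i := stepQ 36905 Q36905 (allL N36905 (tt N67564 D129164) (tt N67565 D129165) (tt N66089 (iv2 F203355)) (tt N67554 (iv3 F207394)) (tt N67566 D129166) (tt N18737 (iv5 D60719)) (tt N67557 (iv6 F207397)) (tt N67567 D129167))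
theorem Q36907 : ∀ i, i < 36907 → P i := stepQ 36906 Q36906 (allL N36906 (tt N66088 (iv1 F203351)) (tt N66087 F203350) (tt N66090 (iv2 F203356)) (tt N65879 (iv3 F324946)) (tt N18740 F95326) (tt N67567 (iv5 F207400)) (tt N37890 (iv6 F96847)) (tt N18737 (iv7 D60720)))
theorem Q36908 : ∀ i, i < 36908 → P i := stepQ 36907 Q36907 (allL N36907 (tt N65701 (iv1 F202277)) (tt N30447 F169869) (tt N65699 F202265) (tt N18738 (iv3 D60722)) (tt N61680 (iv4 F179237)) (tt N55688 F169870) (tt N37833 (iv6 F96692)) (tt N58818 (iv7 F170820)))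
theorem Q36909 : ∀ i, i < 36909 → P i := stepQ 36908 Q36908 (allL N36908 (tt N67568 D129168) (tt N38940 F170848) (tt N58827 (iv2 F170845)) (tt N67569 D129169) (tt N18738 (iv4 D60723)) (tt N67570 D129170) (tt N37834 (iv6 F96693)) (tt N58822 (iv7 F170833)))
theorem Q36910 : ∀ i, i < 36910 → P i := stepQ 36909 Q36909 (allL N36909 (tt N31382 F168457) (tt N37660 F168458) (tt N37659 F171516) (tt N18739 (iv3 D60725)) (tt N58228 (iv4 F169031)) (tt N35595 (iv5 F168454)) (tt N67571 D129171) (tt N37658 F170714))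
theorem Q36911 : ∀ i, i < 36911 → P i := stepQ 36910 Q36910 (allL N36910 (tt N38940 F168459) (tt N67568 F207402) (tt N58822 (iv2 F170832)) (tt N67572 D129172) (tt N18739 (iv4 D60726)) (tt N67573 D129173) (tt N67574 D129174) (tt N58827 (iv7 F170846)))
theorem Q36912 : ∀ i, i < 36912 → P i := stepQ 36911 Q36911 (allL N36911 (tt N37238 F101884) (tt N66216 (iv0 F203683)) (tt N58823 (iv2 F170835)) (tt N67571 (iv3 F207404)) (tt N67574 (iv4 F207405)) (tt N37837 (iv5 F96695)) (tt N18739 (iv6 D60727)) (tt N37837 (iv7 F96696)))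
theorem Q36913 : ∀ i, i < 36913 → P i := stepQ 36912 Q36912 (allL N36912 (tt N67575 D129175) (tt N67576 D129176) (tt N67577 D129177) (tt N18741 (iv3 D60728)) (tt N18743 F95329) (tt N50000 (iv5 F340294)) (tt N65132 (iv6 F341758)) (tt N37667 (iv7 F96418)))
theorem Q36914 : ∀ i, i < 36914 → P i := stepQ 36913 Q36913 (allL N36913 (tt N19168 F95331) (tt N19171 F95332) (tt N37662 (iv2 F96403)) (tt N50000 (iv3 F340293)) (tt N29981 F95330) (tt N18741 (iv5 D60729)) (tt N49999 (iv6 F341775)) (tt N37668 (iv7 F96420)))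
theorem Q36915 : ∀ i, i < 36915 → P i := stepQ 36914 Q36914 (allL N36914 (tt N60767 (iv1 F358163)) (tt N67578 D129182) (tt N37663 (iv2 F96407)) (tt N65132 (iv3 F341756)) (tt N18742 F95333) (tt N67579 D129183) (tt N18741 (iv6 D60730)) (tt N67306 (iv7 F207048)))
theorem Q36916 : ∀ i, i < 36916 → P i := stepQ 36915 Q36915 (allL N36915 (tt N37666 F96416) (tt N18742 (iv0 D60731)) (tt N37664 F103560) (tt N64679 (iv3 F328649)) (tt N67580 D129185) (tt N59129 (iv5 F172159)) (tt N36876 F95334) (tt N37665 (iv7 F103559)))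
theorem Q36917 : ∀ i, i < 36917 → P i := stepQ 36916 Q36916 (allL N36916 (tt N18742 (iv1 D60732)) (tt N37666 F96415) (tt N37665 (iv2 F103561)) (tt N67581 D129186) (tt N67582 D129187) (tt N59112 (iv5 F172058)) (tt N37841 F103616) (tt N37664 F103562))
theorem Q36918 : ∀ i, i < 36918 → P i := stepQ 36917 Q36917 (allL N36917 (tt N37852 (iv1 F96738)) (tt N18743 (iv0 D60733)) (tt N37851 F217667) (tt N67583 D129189) (tt N67584 D129190) (tt N19113 (iv5 F211043)) (tt N67585 D129192) (tt N37850 F217668))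
theorem Q36919 : ∀ i, i < 36919 → P i := stepQ 36918 Q36918 (allL N36918 (tt N18743 (iv1 D60734)) (tt N37852 F96740) (tt N37850 (iv2 F217660)) (tt N67586 D129194) (tt N67587 D129195) (tt N19114 F211039) (tt N67588 D129197) (tt N37851 (iv7 F217663)))
theorem Q36920 : ∀ i, i < 36920 → P i := stepQ 36919 Q36919 (allL N36919 (tt N37851 (iv1 F96739)) (tt N37850 F96735) (tt N18743 (iv2 D60735)) (tt N37844 (iv3 F96707)) (tt N67577 (iv4 F207406)) (tt N66933 (iv5 F312942)) (tt N67589 D129199) (tt N37852 (iv7 F96737)))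
theorem Q36921 : ∀ i, i < 36921 → P i := stepQ 36920 Q36920 (allL N36920 (tt N19314 F212099) (tt N19319 F212100) (tt N66933 (iv2 F312941)) (tt N18744 F95335) (tt N47373 (iv4 F312944)) (tt N18743 (iv5 D60736)) (tt N47372 F310673) (tt N37142 (iv7 F95588)))
theorem Q36922 : ∀ i, i < 36922 → P i := stepQ 36921 Q36921 (allL N36921 (tt N67590 D129204) (tt N67591 D129205) (tt N67589 (iv2 F207423)) (tt N18745 F95336) (tt N65132 (iv4 F341757)) (tt N65105 (iv5 F333927)) (tt N18743 (iv6 D60737)) (tt N67592 D129207))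
theorem Q36923 : ∀ i, i < 36923 → P i := stepQ 36922 Q36922 (allL N36922 (tt N45410 (iv1 F308928)) (tt N25360 (iv0 F308927)) (tt N37145 (iv2 F95594)) (tt N47372 (iv3 F310054)) (tt N18963 F95337) (tt N53064 F308038) (tt N18744 (iv6 D60738)) (tt N45409 F308039))
theorem Q36924 : ∀ i, i < 36924 → P i := stepQ 36923 Q36923 (allL N36923 (tt N37848 (iv1 F96731)) (tt N18745 (iv0 D60739)) (tt N37846 F96721) (tt N50286 (iv3 F317743)) (tt N18944 F96722) (tt N66754 (iv5 F320190)) (tt N24129 F306717) (tt N37847 F96723))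
theorem Q36925 : ∀ i, i < 36925 → P i := stepQ 36924 Q36924 (allL N36924 (tt N18745 (iv1 D60740)) (tt N37848 F96730) (tt N37847 F96715) (tt N67593 D129214) (tt N18945 F95338) (tt N62599 (iv5 F320186)) (tt N37847 F96716) (tt N37846 (iv7 F96720)))
theorem Q36926 : ∀ i, i < 36926 → P i := stepQ 36925 Q36925 (allL N36925 (tt N37152 F95603) (tt N19299 F95339) (tt N37149 F95599) (tt N65105 (iv3 F333926)) (tt N46103 F313660) (tt N18745 (iv5 D60741)) (tt N53064 (iv6 F306588)) (tt N37150 (iv7 F95600)))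
theorem Q36927 : ∀ i, i < 36927 → P i := stepQ 36926 Q36926 (allL N36926 (tt N37847 (iv1 F96713)) (tt N37846 F96725) (tt N37848 (iv2 F96727)) (tt N67592 (iv3 F207427)) (tt N18748 F95340) (tt N37150 F95601) (tt N18799 F95341) (tt N18745 (iv7 D60742)))
theorem Q36928 : ∀ i, i < 36928 → P i := stepQ 36927 Q36927 (allL N36927 (tt N37811 F101873) (tt N18778 F101874) (tt N37809 F166340) (tt N18746 (iv3 D60743)) (tt N67594 D129217) (tt N36106 F101875) (tt N37238 (iv6 F95689)) (tt N37810 (iv7 F166338)))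
theorem Q36929 : ∀ i, i < 36929 → P i := stepQ 36928 Q36928 (allL N36928 (tt N37342 (iv1 F95845)) (tt N18754 F95837) (tt N37340 F95834) (tt N67595 D129218) (tt N18746 (iv4 D60744)) (tt N64231 (iv5 F308704)) (tt N37240 (iv6 F95691)) (tt N37341 F95833))
theorem Q36930 : ∀ i, i < 36930 → P i := stepQ 36929 Q36929 (allL N36929 (tt N18754 F95343) (tt N37342 F95844) (tt N37341 F95831) (tt N67596 D129220) (tt N18747 (iv4 D60746)) (tt N41604 F322908) (tt N37341 F95832) (tt N37340 (iv7 F95836)))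
theorem Q36931 : ∀ i, i < 36931 → P i := stepQ 36930 Q36930 (allL N36930 (tt N37844 (iv1 F96709)) (tt N18749 (iv0 D60747)) (tt N37843 F211993) (tt N66426 (iv3 F327911)) (tt N67597 D129224) (tt N18881 (iv5 F208883)) (tt N67598 D129226) (tt N37842 (iv7 F211997)))
theorem Q36932 : ∀ i, i < 36932 → P i := stepQ 36931 Q36931 (allL N36931 (tt N18749 (iv1 D60748)) (tt N37844 F96711) (tt N37842 (iv2 F211996)) (tt N44786 (iv3 F313019)) (tt N67599 D129229) (tt N18882 F208879) (tt N66419 (iv6 F325315)) (tt N37843 F211994))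
theorem Q36933 : ∀ i, i < 36933 → P i := stepQ 36932 Q36932 (allL N36932 (tt N37843 (iv1 F96710)) (tt N37842 F96706) (tt N18749 (iv2 D60749)) (tt N37852 (iv3 F96736)) (tt N67254 (iv4 F206982)) (tt N37189 F208777) (tt N67600 D129233) (tt N37844 (iv7 F96708)))
theorem Q36934 : ∀ i, i < 36934 → P i := stepQ 36933 Q36933 (allL N36933 (tt N37191 F212139) (tt N37175 (iv0 F212140)) (tt N37189 F208774) (tt N18750 F95344) (tt N22726 (iv4 F95345)) (tt N18749 (iv5 D60750)) (tt N47307 F306741) (tt N37144 (iv7 F95593)))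
theorem Q36935 : ∀ i, i < 36935 → P i := stepQ 36934 Q36934 (allL N36934 (tt N67585 (iv1 F212204)) (tt N67601 D129238) (tt N67600 (iv2 F207446)) (tt N18751 F95346) (tt N67256 (iv4 F206985)) (tt N67602 D129239) (tt N18749 (iv6 D60751)) (tt N37910 (iv7 F96907)))
theorem Q36936 : ∀ i, i < 36936 → P i := stepQ 36935 Q36935 (allL N36935 (tt N40652 (iv1 F102361)) (tt N40657 (iv0 F102366)) (tt N36186 F95348) (tt N67602 (iv3 F207450)) (tt N20881 F320795) (tt N18751 (iv5 D60753)) (tt N47308 F308045) (tt N37911 (iv7 F96909)))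
theorem Q36937 : ∀ i, i < 36937 → P i := stepQ 36936 Q36936 (allL N36936 (tt N37347 (iv1 F95856)) (tt N18752 (iv0 D60754)) (tt N36145 F325998) (tt N67603 D129245) (tt N39158 (iv4 F326900)) (tt N33970 F209323) (tt N36012 F325999) (tt N37346 (iv7 F216651)))
theorem Q36938 : ∀ i, i < 36938 → P i := stepQ 36937 Q36937 (allL N36937 (tt N18752 (iv1 D60755)) (tt N37347 F95858) (tt N37346 F216655) (tt N44729 F319737) (tt N39644 (iv4 F327310)) (tt N33971 F209328) (tt N67604 D129253) (tt N36145 F326571))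
theorem Q36939 : ∀ i, i < 36939 → P i := stepQ 36938 Q36938 (allL N36938 (tt N36145 F326569) (tt N37346 F95853) (tt N18752 (iv2 D60756)) (tt N37338 (iv3 F95823)) (tt N39724 F328677) (tt N47039 F314811) (tt N67605 D129256) (tt N37347 (iv7 F95855)))
theorem Q36940 : ∀ i, i < 36940 → P i := stepQ 36939 Q36939 (allL N36939 (tt N39182 F328666) (tt N39725 F328667) (tt N39724 F328675) (tt N19353 F95349) (tt N18752 (iv4 D60757)) (tt N35009 (iv5 F328335)) (tt N35011 (iv6 F328336)) (tt N37345 (iv7 F95852)))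
theorem Q36941 : ∀ i, i < 36941 → P i := stepQ 36940 Q36940 (allL N36940 (tt N19630 F216480) (tt N19635 F216481) (tt N47039 (iv2 F312379)) (tt N18753 F95350) (tt N47345 (iv4 F312381)) (tt N18752 (iv5 D60758)) (tt N46924 F310114) (tt N37070 (iv7 F95483)))
theorem Q36942 : ∀ i, i < 36942 → P i := stepQ 36941 Q36941 (allL N36941 (tt N67606 D129265) (tt N67607 D129266) (tt N67605 (iv2 F207467)) (tt N18754 F95351) (tt N35011 F328726) (tt N61413 (iv5 F334123)) (tt N18752 (iv6 D60759)) (tt N67608 D129268))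
theorem Q36943 : ∀ i, i < 36943 → P i := stepQ 36942 Q36942 (allL N36942 (tt N67609 D129269) (tt N45594 F308090) (tt N37073 (iv2 F95488)) (tt N46924 (iv3 F308093)) (tt N19024 F95352) (tt N61412 (iv5 F307836)) (tt N18753 (iv6 D60760)) (tt N47038 (iv7 F308095)))
theorem Q36944 : ∀ i, i < 36944 → P i := stepQ 36943 Q36943 (allL N36943 (tt N37080 F95498) (tt N19265 F95353) (tt N36637 F314425) (tt N61413 (iv3 F334122)) (tt N36632 F314426) (tt N18754 (iv5 D60762)) (tt N61412 (iv6 F307837)) (tt N37078 (iv7 F95495)))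
theorem Q36945 : ∀ i, i < 36945 → P i := stepQ 36944 Q36944 (allL N36944 (tt N37341 (iv1 F95829)) (tt N37340 F95839) (tt N37342 (iv2 F95841)) (tt N67608 (iv3 F207476)) (tt N19357 F95354) (tt N37078 F95496) (tt N18796 F95355) (tt N18754 (iv7 D60763)))
theorem Q36946 : ∀ i, i < 36946 → P i := stepQ 36945 Q36945 (allL N36945 (tt N37338 (iv1 F95825)) (tt N18755 (iv0 D60764)) (tt N37337 F214117) (tt N67610 D129275) (tt N67611 D129276) (tt N19766 (iv5 F211046)) (tt N67612 D129278) (tt N37336 (iv7 F214121)))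
theorem Q36947 : ∀ i, i < 36947 → P i := stepQ 36946 Q36946 (allL N36946 (tt N18755 (iv1 D60765)) (tt N37338 F95827) (tt N37336 (iv2 F214120)) (tt N67613 D129280) (tt N67614 D129281) (tt N19767 (iv5 F211050)) (tt N67615 D129283) (tt N37337 F214118))
theorem Q36948 : ∀ i, i < 36948 → P i := stepQ 36947 Q36947 (allL N36947 (tt N37337 (iv1 F95826)) (tt N37336 F95822) (tt N18755 (iv2 D60766)) (tt N37347 (iv3 F95854)) (tt N39723 (iv4 F326902)) (tt N38877 (iv5 F212144)) (tt N36136 F326000) (tt N37338 (iv7 F95824)))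
theorem Q36949 : ∀ i, i < 36949 → P i := stepQ 36948 Q36948 (allL N36948 (tt N67616 D129286) (tt N67617 D129287) (tt N39723 (iv2 F326901)) (tt N19359 F95356) (tt N18755 (iv4 D60767)) (tt N67618 D129288) (tt N20010 F326002) (tt N37330 (iv7 F95810)))
theorem Q36950 : ∀ i, i < 36950 → P i := stepQ 36949 Q36949 (allL N36949 (tt N38880 (iv1 F208795)) (tt N38867 (iv0 F208796)) (tt N38877 (iv2 F212142)) (tt N18756 F95357) (tt N67619 D129291) (tt N18755 (iv5 D60768)) (tt N62575 (iv6 F325032)) (tt N37072 (iv7 F95487)))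
theorem Q36951 : ∀ i, i < 36951 → P i := stepQ 36950 Q36950 (allL N36950 (tt N24118 F303986) (tt N45590 (iv0 F306038)) (tt N37071 (iv2 F95484)) (tt N62575 (iv3 F325031)) (tt N19026 F95358) (tt N40243 F323784) (tt N18756 (iv6 D60769)) (tt N45588 F307984))
theorem Q36952 : ∀ i, i < 36952 → P i := stepQ 36951 Q36951 (allL N36951 (tt N67613 (iv1 F214129)) (tt N67620 D129296) (tt N67621 D129297) (tt N18757 (iv3 D60771)) (tt N37405 F95929) (tt N64659 F319008) (tt N49253 (iv6 F321125)) (tt N37897 F97421))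
theorem Q36953 : ∀ i, i < 36953 → P i := stepQ 36952 Q36952 (allL N36952 (tt N67622 D129300) (tt N67623 D129301) (tt N37901 (iv2 F97420)) (tt N36887 F95907) (tt N18757 (iv4 D60772)) (tt N36886 (iv5 F95908)) (tt N67624 D129302) (tt N37898 F97402))
theorem Q36954 : ∀ i, i < 36954 → P i := stepQ 36953 Q36953 (allL N36953 (tt N37062 (iv1 F95910)) (tt N19282 (iv0 F95909)) (tt N37065 F97416) (tt N64659 (iv3 F316639)) (tt N48239 (iv4 F318033)) (tt N18757 (iv5 D60773)) (tt N64658 (iv6 F318039)) (tt N37064 (iv7 F97417)))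
theorem Q36955 : ∀ i, i < 36955 → P i := stepQ 36954 Q36954 (allL N36954 (tt N67625 D129305) (tt N67596 (iv0 F358022)) (tt N37902 F97422) (tt N49253 F322860) (tt N67624 (iv4 F207504)) (tt N50757 (iv5 F324315)) (tt N18757 (iv6 D60774)) (tt N50238 (iv7 F324320)))
theorem Q36956 : ∀ i, i < 36956 → P i := stepQ 36955 Q36955 (allL N36955 (tt N44824 F317044) (tt N67603 (iv0 F212538)) (tt N67626 D129311) (tt N18758 (iv3 D60776)) (tt N67627 D129312) (tt N47193 F320105) (tt N67628 D129314) (tt N37900 (iv7 F97408)))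
theorem Q36957 : ∀ i, i < 36957 → P i := stepQ 36956 Q36956 (allL N36956 (tt N67623 (iv1 F207501)) (tt N67622 F207500) (tt N37898 (iv2 F97411)) (tt N67629 D129315) (tt N18758 (iv4 D60777)) (tt N67630 D129316) (tt N67631 D129317) (tt N37901 (iv7 F97409)))
theorem Q36958 : ∀ i, i < 36958 → P i := stepQ 36957 Q36957 (allL N36957 (tt N19282 F97418) (tt N37062 F97419) (tt N37064 (iv2 F97412)) (tt N47193 (iv3 F317944)) (tt N66927 (iv4 F318029)) (tt N18758 (iv5 D60778)) (tt N34180 (iv6 F318031)) (tt N37065 (iv7 F97415)))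
theorem Q36959 : ∀ i, i < 36959 → P i := stepQ 36958 Q36958 (allL N36958 (tt N18794 F348923) (tt N67632 D129321) (tt N37899 (iv2 F97413)) (tt N67628 (iv3 F207507)) (tt N67631 (iv4 F207516)) (tt N67633 D129322) (tt N18758 (iv6 D60779)) (tt N67634 D129323))
theorem Q36960 : ∀ i, i < 36960 → P i := stepQ 36959 Q36959 (allL N36959 (tt N64263 (iv1 F327234)) (tt N65878 (iv0 F324943)) (tt N18761 F95362) (tt N37860 (iv3 F96749)) (tt N67547 (iv4 F207387)) (tt N64059 (iv5 F320258)) (tt N18759 (iv6 D60781)) (tt N65868 (iv7 F324942)))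
theorem Q36961 : ∀ i, i < 36961 → P i := stepQ 36960 Q36960 (allL N36960 (tt N37903 (iv1 F96870)) (tt N18760 (iv0 D60782)) (tt N34101 (iv2 F313823)) (tt N67635 D129330) (tt N21777 (iv4 F315083)) (tt N18810 F95469) (tt N21776 (iv6 F315084)) (tt N37905 F96876))
theorem Q36962 : ∀ i, i < 36962 → P i := stepQ 36961 Q36961 (allL N36961 (tt N18760 (iv1 D60783)) (tt N37903 F96869) (tt N37905 F96877) (tt N44823 (iv3 F314733)) (tt N66821 (iv4 F315085)) (tt N18811 F96878) (tt N67636 D129335) (tt N34101 (iv7 F313824)))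
theorem Q36963 : ∀ i, i < 36963 → P i := stepQ 36962 Q36962 (allL N36962 (tt N67637 D129340) (tt N58881 F316276) (tt N44863 F311380) (tt N18762 F95364) (tt N43148 F311381) (tt N35884 (iv5 F318550)) (tt N18760 (iv6 D60785)) (tt N35883 (iv7 F316277)))
theorem Q36964 : ∀ i, i < 36964 → P i := stepQ 36963 Q36963 (allL N36963 (tt N65868 (iv1 F324939)) (tt N18761 (iv0 D60786)) (tt N64263 (iv2 F327235)) (tt N67638 D129345) (tt N67639 D129346) (tt N32015 (iv5 F325143)) (tt N37864 F348906) (tt N65878 (iv7 F325145)))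
theorem Q36965 : ∀ i, i < 36965 → P i := stepQ 36964 Q36964 (allL N36964 (tt N18761 (iv1 D60787)) (tt N65868 (iv0 F324938)) (tt N65878 (iv2 F325144)) (tt N67640 D129350) (tt N67641 D129351) (tt N32016 (iv5 F325146)) (tt N67642 D129353) (tt N64263 (iv7 F327236)))
theorem Q36966 : ∀ i, i < 36966 → P i := stepQ 36965 Q36965 (allL N36965 (tt N37867 (iv1 F96766)) (tt N18762 (iv0 D60790)) (tt N37444 F162922) (tt N67643 D129358) (tt N19436 F162923) (tt N24013 (iv5 F313288)) (tt N67644 D129360) (tt N37447 F162924))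
theorem Q36967 : ∀ i, i < 36967 → P i := stepQ 36966 Q36966 (allL N36966 (tt N18762 (iv1 D60791)) (tt N37867 F96765) (tt N37447 F162925) (tt N67645 D129361) (tt N19437 F162926) (tt N24980 (iv5 F315532)) (tt N45573 F305937) (tt N37444 F162927))
theorem Q36968 : ∀ i, i < 36968 → P i := stepQ 36967 Q36967 (allL N36967 (tt N37447 (iv1 F162888)) (tt N37444 (iv0 F162915)) (tt N37867 (iv2 F96761)) (tt N35883 F318551) (tt N19112 F95368) (tt N23431 (iv5 F314095)) (tt N37909 (iv6 F96894)) (tt N18762 (iv7 D60793)))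
theorem Q36969 : ∀ i, i < 36969 → P i := stepQ 36968 Q36968 (allL N36968 (tt N36137 F336498) (tt N67604 (iv0 F336499)) (tt N67646 D129370) (tt N18763 (iv3 D60794)) (tt N39748 F333868) (tt N23808 (iv5 F323610)) (tt N37360 (iv6 F95866)) (tt N37363 (iv7 F95870)))
theorem Q36970 : ∀ i, i < 36970 → P i := stepQ 36969 Q36969 (allL N36969 (tt N67612 (iv1 F359074)) (tt N67647 D129376) (tt N67648 D129377) (tt N18764 (iv3 D60796)) (tt N67649 D129378) (tt N23953 (iv5 F322701)) (tt N65316 (iv6 F307029)) (tt N37360 (iv7 F95867)))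
theorem Q36971 : ∀ i, i < 36971 → P i := stepQ 36970 Q36970 (allL N36970 (tt N37240 (iv1 F98509)) (tt N37240 (iv0 F98508)) (tt N37364 (iv2 F95871)) (tt N65316 (iv3 F307028)) (tt N19368 F95371) (tt N46421 (iv5 F305121)) (tt N18764 (iv6 D60798)) (tt N37364 (iv7 F95873)))
theorem Q36972 : ∀ i, i < 36972 → P i := stepQ 36971 Q36971 (allL N36971 (tt N56405 F164046) (tt N30046 F164047) (tt N37685 F164048) (tt N67650 D129394) (tt N18766 (iv4 D60806)) (tt N35863 (iv5 F328928)) (tt N37868 (iv6 F96788)) (tt N37686 (iv7 F164049)))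
theorem Q36973 : ∀ i, i < 36973 → P i := stepQ 36972 Q36972 (allL N36972 (tt N67651 D129396) (tt N67588 (iv0 F336575)) (tt N67652 D129398) (tt N18767 (iv3 D60807)) (tt N67650 (iv4 F207568)) (tt N23726 (iv5 F323647)) (tt N37869 (iv6 F96790)) (tt N37870 (iv7 F96803)))
theorem Q36974 : ∀ i, i < 36974 → P i := stepQ 36973 Q36973 (allL N36973 (tt N67598 (iv1 F341925)) (tt N67653 D129403) (tt N67654 D129404) (tt N18768 (iv3 D60814)) (tt N67283 (iv4 F207016)) (tt N23952 (iv5 F322746)) (tt N67655 D129406) (tt N37869 (iv7 F96791)))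
theorem Q36975 : ∀ i, i < 36975 → P i := stepQ 36974 Q36974 (allL N36974 (tt N24129 F305444) (tt N24129 F305445) (tt N37871 (iv2 F96804)) (tt N67655 (iv3 F207578)) (tt N18769 F95380) (tt N24862 (iv5 F306851)) (tt N18768 (iv6 D60816)) (tt N37871 (iv7 F96806)))
theorem Q36976 : ∀ i, i < 36976 → P i := stepQ 36975 Q36975 (allL N36975 (tt N67656 D129410) (tt N67657 D129411) (tt N67658 D129412) (tt N18770 (iv3 D60817)) (tt N38763 (iv4 F98767)) (tt N67659 D129413) (tt N67660 D129414) (tt N29609 F95381))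
theorem Q36977 : ∀ i, i < 36977 → P i := stepQ 36976 Q36976 (allL N36976 (tt N55846 (iv1 F161934)) (tt N55845 F161931) (tt N37796 (iv2 F96597)) (tt N67659 (iv3 F207591)) (tt N39275 F99816) (tt N18770 (iv5 D60818)) (tt N67661 D129415) (tt N29610 F95382))
theorem Q36978 : ∀ i, i < 36978 → P i := stepQ 36977 Q36977 (allL N36977 (tt N66139 (iv1 F203455)) (tt N66138 F203454) (tt N37797 (iv2 F96600)) (tt N67660 (iv3 F207593)) (tt N18771 F95383) (tt N67662 D129416) (tt N18770 (iv6 D60819)) (tt N35994 F95384))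
theorem Q36979 : ∀ i, i < 36979 → P i := stepQ 36978 Q36978 (allL N36978 (tt N67663 D129417) (tt N67664 D129418) (tt N67665 D129419) (tt N18772 (iv3 D60820)) (tt N35967 F95385) (tt N67666 D129420) (tt N67667 D129421) (tt N37798 (iv7 F96604)))
theorem Q36980 : ∀ i, i < 36980 → P i := stepQ 36979 Q36979 (allL N36979 (tt N32987 F95387) (tt N37826 F96681) (tt N18782 F95386) (tt N67666 (iv3 F207598)) (tt N37805 (iv4 F96635)) (tt N18772 (iv5 D60821)) (tt N67668 D129422) (tt N37799 (iv7 F96607)))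
theorem Q36981 : ∀ i, i < 36981 → P i := stepQ 36980 Q36980 (allL N36980 (tt N67538 (iv1 F207379)) (tt N37880 (iv0 F96832)) (tt N18783 F95388) (tt N67667 (iv3 F207599)) (tt N18773 F95389) (tt N67669 D129423) (tt N18772 (iv6 D60822)) (tt N67529 (iv7 F207358)))
theorem Q36982 : ∀ i, i < 36982 → P i := stepQ 36981 Q36981 (allL N36981 (tt N67670 D129424) (tt N67671 D129425) (tt N67672 D129426) (tt N18775 (iv3 D60823)) (tt N32473 F327335) (tt N67673 D129427) (tt N32476 (iv6 F327834)) (tt N37806 (iv7 F96638)))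
theorem Q36983 : ∀ i, i < 36983 → P i := stepQ 36982 Q36982 (allL N36982 (tt N38506 (iv1 F98388)) (tt N39245 (iv0 F99703)) (tt N37815 (iv2 F96658)) (tt N67673 (iv3 F207604)) (tt N39267 (iv4 F99800)) (tt N18775 (iv5 D60824)) (tt N67674 D129429) (tt N37807 (iv7 F96640)))
theorem Q36984 : ∀ i, i < 36984 → P i := stepQ 36983 Q36983 (allL N36983 (tt N38744 F98736) (tt N67675 D129430) (tt N37816 (iv2 F96660)) (tt N32476 F328246) (tt N18776 F95390) (tt N67676 D129431) (tt N18775 (iv6 D60825)) (tt N37891 (iv7 F96854)))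
theorem Q36985 : ∀ i, i < 36985 → P i := stepQ 36984 Q36984 (allL N36984 (tt N67677 D129432) (tt N67678 D129433) (tt N67679 D129434) (tt N18777 (iv3 D60826)) (tt N38725 (iv4 F98703)) (tt N67680 D129435) (tt N67681 D129436) (tt N37814 (iv7 F96657)))
theorem Q36986 : ∀ i, i < 36986 → P i := stepQ 36985 Q36985 (allL N36985 (tt N39245 (iv1 F99704)) (tt N38506 (iv0 F98387)) (tt N37807 (iv2 F96639)) (tt N67680 (iv3 F207609)) (tt N39270 (iv4 F99804)) (tt N18777 (iv5 D60827)) (tt N67682 D129437) (tt N37815 (iv7 F96659)))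
theorem Q36987 : ∀ i, i < 36987 → P i := stepQ 36986 Q36986 (allL N36986 (tt N67683 D129438) (tt N67684 D129439) (tt N37808 (iv2 F96641)) (tt N67681 (iv3 F207610)) (tt N18778 F95391) (tt N67685 D129440) (tt N18777 (iv6 D60828)) (tt N67686 D129441))
theorem Q36988 : ∀ i, i < 36988 → P i := stepQ 36987 Q36987 (allL N36987 (tt N18778 (iv1 D60830)) (tt N37811 F96647) (tt N37810 (iv2 F166334)) (tt N37877 (iv3 F101907)) (tt N67687 D129442) (tt N67688 D129443) (tt N37877 (iv6 F101908)) (tt N37809 F166341))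
theorem Q36989 : ∀ i, i < 36989 → P i := stepQ 36988 Q36988 (allL N36988 (tt N37810 (iv1 F96643)) (tt N37809 F96646) (tt N37811 (iv2 F96644)) (tt N67225 (iv3 F206953)) (tt N67686 (iv4 F207612)) (tt N30465 F95393) (tt N35970 F95394) (tt N18778 (iv7 D60831)))
theorem Q36990 : ∀ i, i < 36990 → P i := stepQ 36989 Q36989 (allL N36989 (tt N67689 D129444) (tt N67690 D129445) (tt N67691 D129446) (tt N18779 (iv3 D60832)) (tt N37672 (iv4 F96427)) (tt N67692 D129447) (tt N67693 D129448) (tt N37817 (iv7 F96662)))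
theorem Q36991 : ∀ i, i < 36991 → P i := stepQ 36990 Q36990 (allL N36990 (tt N37090 (iv1 F95516)) (tt N19252 F95395) (tt N37102 F95538) (tt N67692 (iv3 F207621)) (tt N39260 (iv4 F99724)) (tt N18779 (iv5 D60833)) (tt N67694 D129449) (tt N37101 F95535))
theorem Q36992 : ∀ i, i < 36992 → P i := stepQ 36991 Q36991 (allL N36991 (tt N35969 F95396) (tt N37890 F96848) (tt N37820 (iv2 F96665)) (tt N67693 (iv3 F207622)) (tt N38457 (iv4 F98329)) (tt N67695 D129450) (tt N18779 (iv6 D60834)) (tt N37888 (iv7 F163625)))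
theorem Q36993 : ∀ i, i < 36993 → P i := stepQ 36992 Q36992 (allL N36992 (tt N67696 D129451) (tt N67697 D129452) (tt N67698 D129453) (tt N18780 (iv3 D60835)) (tt N37301 (iv4 F95783)) (tt N67699 D129454) (tt N67700 D129455) (tt N37819 (iv7 F96664)))
theorem Q36994 : ∀ i, i < 36994 → P i := stepQ 36993 Q36993 (allL N36993 (tt N19252 F95397) (tt N37090 (iv0 F95515)) (tt N37101 F95534) (tt N67699 (iv3 F207623)) (tt N39265 (iv4 F99795)) (tt N18780 (iv5 D60836)) (tt N67701 D129456) (tt N37102 (iv7 F95536)))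
theorem Q36995 : ∀ i, i < 36995 → P i := stepQ 36994 Q36994 (allL N36994 (tt N67594 F207437) (tt N67687 (iv0 F207614)) (tt N37818 (iv2 F96663)) (tt N67700 (iv3 F207624)) (tt N37300 (iv4 F95781)) (tt N67702 D129457) (tt N18780 (iv6 D60837)) (tt N67703 D129458))
theorem Q36996 : ∀ i, i < 36996 → P i := stepQ 36995 Q36995 (allL N36995 (tt N37823 (iv1 F96672)) (tt N18781 (iv0 D60838)) (tt N37822 (iv2 F209631)) (tt N67704 D129460) (tt N67705 D129461) (tt N67706 D129462) (tt N67707 D129463) (tt N37821 (iv7 F209634)))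
theorem Q36997 : ∀ i, i < 36997 → P i := stepQ 36996 Q36996 (allL N36996 (tt N18781 (iv1 D60839)) (tt N37823 F96674) (tt N37821 (iv2 F209633)) (tt N67708 D129465) (tt N38140 (iv4 F97503)) (tt N67709 D129466) (tt N67710 D129467) (tt N37822 (iv7 F209632)))
theorem Q36998 : ∀ i, i < 36998 → P i := stepQ 36997 Q36997 (allL N36997 (tt N37822 (iv1 F96673)) (tt N37821 F96668) (tt N18781 (iv2 D60840)) (tt N67665 (iv3 F207596)) (tt N18792 F95398) (tt N67711 D129468) (tt N67712 D129469) (tt N37823 (iv7 F96671)))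
theorem Q36999 : ∀ i, i < 36999 → P i := stepQ 36998 Q36998 (allL N36998 (tt N67713 D129470) (tt N67714 D129471) (tt N67711 (iv2 F207629)) (tt N18782 F95399) (tt N67715 D129472) (tt N18781 (iv5 D60841)) (tt N67716 D129473) (tt N37824 (iv7 F96676)))
theorem Q37000 : ∀ i, i < 37000 → P i := stepQ 36999 Q36999 (allL N36999 (tt N67717 D129474) (tt N67545 (iv0 F361156)) (tt N67712 (iv2 F207630)) (tt N18783 F95400) (tt N18794 F95401) (tt N67718 D129476) (tt N18781 (iv6 D60842)) (tt N67719 D129477))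
theorem Q37001 : ∀ i, i < 37001 → P i := stepQ 37000 Q37000 (allL N37000 (tt N67720 D129478) (tt N67721 D129479) (tt N67668 (iv2 F207601)) (tt N67716 (iv3 F207632)) (tt N39276 (iv4 F99818)) (tt N67722 D129480) (tt N18782 (iv6 D60843)) (tt N67723 D129481))
theorem Q37002 : ∀ i, i < 37002 → P i := stepQ 37001 Q37001 (allL N37001 (tt N67529 F207360) (tt N18783 (iv0 D60844)) (tt N67538 (iv2 F207376)) (tt N67724 D129482) (tt N38461 F162110) (tt N67725 D129483) (tt N67534 (iv6 F207371)) (tt N37880 (iv7 F162113)))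
theorem Q37003 : ∀ i, i < 37003 → P i := stepQ 37002 Q37002 (allL N37002 (tt N67726 D129484) (tt N67727 D129485) (tt N67669 (iv2 F207602)) (tt N67718 (iv3 F207633)) (tt N67728 D129486) (tt N18783 (iv5 D60845)) (tt N67722 (iv6 F207636)) (tt N67729 D129487))
theorem Q37004 : ∀ i, i < 37004 → P i := stepQ 37003 Q37003 (allL N37003 (tt N37880 (iv1 F96833)) (tt N67538 F207378) (tt N67529 (iv2 F207357)) (tt N67719 (iv3 F207634)) (tt N18786 F95402) (tt N67729 (iv5 F207637)) (tt N37832 (iv6 F96689)) (tt N18783 (iv7 D60846)))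
theorem Q37005 : ∀ i, i < 37005 → P i := stepQ 37004 Q37004 (allL N37004 (tt N37692 (iv1 F96469)) (tt N35962 F96464) (tt N37690 F96462) (tt N18784 (iv3 D60847)) (tt N39029 F99196) (tt N36089 F95403) (tt N67286 (iv6 F207021)) (tt N36088 F95404))
theorem Q37006 : ∀ i, i < 37006 → P i := stepQ 37005 Q37005 (allL N37005 (tt N67526 (iv1 F207348)) (tt N61670 (iv0 F179211)) (tt N67528 (iv2 F207353)) (tt N67730 D129488) (tt N18784 (iv4 D60848)) (tt N67731 D129489) (tt N67516 (iv6 F207335)) (tt N36107 F95405))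
theorem Q37007 : ∀ i, i < 37007 → P i := stepQ 37006 Q37006 (allL N37006 (tt N57332 F166240) (tt N18785 (iv0 D60849)) (tt N57330 F171857) (tt N67732 D129490) (tt N67733 D129491) (tt N66104 (iv5 F203399)) (tt N36170 F95406) (tt N57331 (iv7 F171859)))
theorem Q37008 : ∀ i, i < 37008 → P i := stepQ 37007 Q37007 (allL N37007 (tt N18785 (iv1 D60850)) (tt N57332 F166239) (tt N57331 (iv2 F171861)) (tt N67734 D129492) (tt N67735 D129493) (tt N66402 (iv5 F204103)) (tt N20848 F166321) (tt N57330 F171860))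
theorem Q37009 : ∀ i, i < 37009 → P i := stepQ 37008 Q37008 (allL N37008 (tt N67736 D129494) (tt N67737 D129495) (tt N57329 (iv2 F166227)) (tt N25212 (iv3 F316487)) (tt N18785 (iv4 D60851)) (tt N59944 (iv5 F323991)) (tt N18789 F95407) (tt N62697 (iv7 F183133)))
theorem Q37010 : ∀ i, i < 37010 → P i := stepQ 37009 Q37009 (allL N37009 (tt N30482 F95409) (tt N30485 F95410) (tt N57328 (iv2 F166223)) (tt N23079 (iv3 F316486)) (tt N38218 (iv4 F97679)) (tt N18789 (iv5 D60853)) (tt N67738 D129502) (tt N41300 (iv7 F103876)))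
theorem Q37011 : ∀ i, i < 37011 → P i := stepQ 37010 Q37010 (allL N37010 (tt N44729 (iv1 F317496)) (tt N44725 (iv0 F317494)) (tt N44818 (iv2 F317497)) (tt N18790 (iv3 D60855)) (tt N37317 F95798) (tt N24856 F315274) (tt N67739 D129513) (tt N37853 (iv7 F209653)))
theorem Q37012 : ∀ i, i < 37012 → P i := stepQ 37011 Q37011 (allL N37011 (tt N67740 D129515) (tt N67741 D129516) (tt N37857 (iv2 F209649)) (tt N67742 D129517) (tt N18790 (iv4 D60856)) (tt N67743 D129518) (tt N67744 D129519) (tt N37854 (iv7 F209655)))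
theorem Q37013 : ∀ i, i < 37013 → P i := stepQ 37012 Q37012 (allL N37012 (tt N37118 (iv1 F208667)) (tt N19260 (iv0 F208668)) (tt N37121 (iv2 F209639)) (tt N24856 (iv3 F312899)) (tt N48131 F312003) (tt N18790 (iv5 D60857)) (tt N46932 (iv6 F314398)) (tt N37120 (iv7 F209640)))
theorem Q37014 : ∀ i, i < 37014 → P i := stepQ 37013 Q37013 (allL N37013 (tt N37904 F350854) (tt N37908 (iv0 F350855)) (tt N37858 (iv2 F209651)) (tt N67739 (iv3 F207661)) (tt N67744 (iv4 F207665)) (tt N67745 D129528) (tt N18790 (iv6 D60858)) (tt N37907 (iv7 F359749)))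
theorem Q37015 : ∀ i, i < 37015 → P i := stepQ 37014 Q37014 (allL N37014 (tt N67746 D129531) (tt N67610 (iv0 F211917)) (tt N36594 (iv2 F314318)) (tt N18791 (iv3 D60860)) (tt N67747 D129534) (tt N36413 F312119) (tt N43772 (iv6 F314449)) (tt N37856 (iv7 F209648)))
theorem Q37016 : ∀ i, i < 37016 → P i := stepQ 37015 Q37015 (allL N37015 (tt N67741 (iv1 F207664)) (tt N67740 F207668) (tt N37854 (iv2 F209654)) (tt N67748 D129537) (tt N18791 (iv4 D60861)) (tt N67749 D129538) (tt N67750 D129539) (tt N37857 (iv7 F209650)))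
theorem Q37017 : ∀ i, i < 37017 → P i := stepQ 37016 Q37016 (allL N37016 (tt N19260 F208669) (tt N37118 F208670) (tt N37120 F209641) (tt N36413 (iv3 F309907)) (tt N48422 F307932) (tt N18791 (iv5 D60862)) (tt N36412 F307933) (tt N37121 F209642))
theorem Q37018 : ∀ i, i < 37018 → P i := stepQ 37017 Q37017 (allL N37017 (tt N67595 (iv1 F363457)) (tt N67751 D129543) (tt N37855 (iv2 F209656)) (tt N43772 F316782) (tt N67750 (iv4 F207678)) (tt N43769 (iv5 F319160)) (tt N18791 (iv6 D60863)) (tt N67752 D129545))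
theorem Q37019 : ∀ i, i < 37019 → P i := stepQ 37018 Q37018 (allL N37018 (tt N37861 (iv1 F96751)) (tt N27985 F316281) (tt N18793 F95413) (tt N37903 (iv3 F96867)) (tt N67753 D129546) (tt N18792 (iv5 D60864)) (tt N67754 D129547) (tt N37859 (iv7 F96745)))
theorem Q37020 : ∀ i, i < 37020 → P i := stepQ 37019 Q37019 (allL N37019 (tt N67634 (iv1 F350882)) (tt N37899 (iv0 F350883)) (tt N18794 F95414) (tt N37904 (iv3 F96872)) (tt N67712 (iv4 F207631)) (tt N67755 D129550) (tt N18792 (iv6 D60865)) (tt N67632 (iv7 F348920)))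
theorem Q37021 : ∀ i, i < 37021 → P i := stepQ 37020 Q37020 (allL N37020 (tt N37859 (iv1 F96747)) (tt N18793 (iv0 D60866)) (tt N37861 (iv2 F212260)) (tt N27987 F316226) (tt N44904 F316227) (tt N18837 F207690) (tt N46818 F316228) (tt N27985 F316229))
theorem Q37022 : ∀ i, i < 37022 → P i := stepQ 37021 Q37021 (allL N37021 (tt N18793 (iv1 D60867)) (tt N37859 F96746) (tt N27985 (iv2 F313844)) (tt N46808 F312037) (tt N46593 F312038) (tt N18838 F207693) (tt N27984 (iv6 F314411)) (tt N37861 (iv7 F212263)))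
theorem Q37023 : ∀ i, i < 37023 → P i := stepQ 37022 Q37022 (allL N37022 (tt N67756 D129559) (tt N67757 D129560) (tt N67753 (iv2 F207679)) (tt N19102 F95415) (tt N18793 (iv4 D60868)) (tt N46577 F309761) (tt N67758 D129562) (tt N37862 (iv7 F96753)))
theorem Q37024 : ∀ i, i < 37024 → P i := stepQ 37023 Q37023 (allL N37023 (tt N46853 F342310) (tt N67759 D129564) (tt N67754 (iv2 F207680)) (tt N18795 F95416) (tt N67758 (iv4 F207754)) (tt N67760 D129565) (tt N18793 (iv6 D60869)) (tt N67761 D129566))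
theorem Q37025 : ∀ i, i < 37025 → P i := stepQ 37024 Q37024 (allL N37024 (tt N67632 (iv1 F348916)) (tt N18794 (iv0 D60870)) (tt N67634 (iv2 F348921)) (tt N50228 (iv3 F354209)) (tt N67762 D129569) (tt N67763 D129570) (tt N50238 F348915) (tt N37899 (iv7 F348922)))
theorem Q37026 : ∀ i, i < 37026 → P i := stepQ 37025 Q37025 (allL N37025 (tt N65340 (iv1 F352297)) (tt N67764 D129578) (tt N67755 (iv2 F207682)) (tt N18797 F95417) (tt N38656 (iv4 F324049)) (tt N18794 (iv5 D60872)) (tt N67760 (iv6 F207756)) (tt N36149 F322575))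
theorem Q37027 : ∀ i, i < 37027 → P i := stepQ 37026 Q37026 (allL N37026 (tt N37899 F350884) (tt N67634 F350885) (tt N67632 (iv2 F348917)) (tt N18798 F95418) (tt N67719 (iv4 F207635)) (tt N36149 F322574) (tt N37866 (iv6 F96757)) (tt N18794 (iv7 D60873)))
theorem Q37028 : ∀ i, i < 37028 → P i := stepQ 37027 Q37027 (allL N37027 (tt N37909 (iv1 F96897)) (tt N18795 (iv0 D60874)) (tt N37386 F105943) (tt N67765 D129581) (tt N19375 F102299) (tt N45782 (iv5 F316268)) (tt N45583 F306025) (tt N37390 (iv7 F105938)))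
theorem Q37029 : ∀ i, i < 37029 → P i := stepQ 37028 Q37028 (allL N37028 (tt N18795 (iv1 D60875)) (tt N37909 F96896) (tt N37390 (iv2 F105944)) (tt N67766 D129584) (tt N19376 F102297) (tt N21857 (iv5 F318538)) (tt N44106 (iv6 F318541)) (tt N37386 F105945))
theorem Q37030 : ∀ i, i < 37030 → P i := stepQ 37029 Q37029 (allL N37029 (tt N45532 F306855) (tt N45596 (iv0 F307879)) (tt N36152 (iv2 F323274)) (tt N67760 (iv3 F207755)) (tt N63459 (iv4 F320716)) (tt N18795 (iv5 D60876)) (tt N18797 F95419) (tt N45595 F309890))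
theorem Q37031 : ∀ i, i < 37031 → P i := stepQ 37030 Q37030 (allL N37030 (tt N37390 (iv1 F101404)) (tt N37386 (iv0 F102307)) (tt N37909 (iv2 F96892)) (tt N67761 (iv3 F207757)) (tt N19106 F95420) (tt N45595 F309889) (tt N37867 (iv6 F96763)) (tt N18795 (iv7 D60877)))
theorem Q37032 : ∀ i, i < 37032 → P i := stepQ 37031 Q37031 (allL N37031 (tt N67767 D129591) (tt N67615 (iv0 F216488)) (tt N66282 (iv2 F325878)) (tt N18796 (iv3 D60878)) (tt N67768 D129594) (tt N66281 (iv5 F321998)) (tt N67608 (iv6 F207477)) (tt N20590 F95421))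
theorem Q37033 : ∀ i, i < 37033 → P i := stepQ 37032 Q37032 (allL N37032 (tt N40242 (iv1 F321278)) (tt N40241 (iv0 F320786)) (tt N20844 F320295) (tt N66281 (iv3 F321997)) (tt N20852 F320296) (tt N18796 (iv5 D60879)) (tt N66763 (iv6 F319958)) (tt N20591 F95422))
theorem Q37034 : ∀ i, i < 37034 → P i := stepQ 37033 Q37033 (allL N37033 (tt N66232 (iv1 F325312)) (tt N66419 (iv0 F325314)) (tt N66421 (iv2 F325318)) (tt N18799 (iv3 D60884)) (tt N67305 (iv4 F207044)) (tt N36076 F324039) (tt N67592 (iv6 F207428)) (tt N36185 F95424))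
theorem Q37035 : ∀ i, i < 37035 → P i := stepQ 37034 Q37034 (allL N37034 (tt N40657 (iv1 F102367)) (tt N40652 (iv0 F102360)) (tt N37911 (iv2 F96908)) (tt N36076 (iv3 F323539)) (tt N40840 (iv4 F102736)) (tt N18799 (iv5 D60885)) (tt N63074 (iv6 F319406)) (tt N36186 F95425))
theorem Q37036 : ∀ i, i < 37036 → P i := stepQ 37035 Q37035 (allL N37035 (tt N30015 F168045) (tt N37708 F168046) (tt N37706 F168047) (tt N18801 (iv3 D60888)) (tt N67769 D129614) (tt N37744 F168048) (tt N20799 F168049) (tt N37705 (iv7 F168070)))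
theorem Q37037 : ∀ i, i < 37037 → P i := stepQ 37036 Q37036 (allL N37036 (tt N67770 D129639) (tt N67771 D129640) (tt N39081 (iv2 F99343)) (tt N18803 (iv3 D60898)) (tt N56705 (iv4 F164618)) (tt N39081 (iv5 F99344)) (tt N67772 D129641) (tt N19790 F95443))
theorem Q37038 : ∀ i, i < 37038 → P i := stepQ 37037 Q37037 (allL N37037 (tt N66141 F203459) (tt N38105 F102070) (tt N37964 (iv2 F97056)) (tt N67772 (iv3 F207824)) (tt N19792 F95444) (tt N67773 D129642) (tt N18803 (iv6 D60899)) (tt N37921 (iv7 F96947)))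
theorem Q37039 : ∀ i, i < 37039 → P i := stepQ 37038 Q37038 (allL N37038 (tt N37967 (iv1 F97064)) (tt N18804 (iv0 D60900)) (tt N37966 (iv2 F208433)) (tt N67774 D129644) (tt N44779 F315471) (tt N67548 (iv5 F212465)) (tt N67775 D129647) (tt N37965 (iv7 F208436)))
theorem Q37040 : ∀ i, i < 37040 → P i := stepQ 37039 Q37039 (allL N37039 (tt N18804 (iv1 D60901)) (tt N37967 F97066) (tt N37965 (iv2 F208435)) (tt N67776 D129649) (tt N38016 (iv4 F97214)) (tt N67549 (iv5 F207388)) (tt N37923 F325489) (tt N37966 (iv7 F208434)))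
theorem Q37041 : ∀ i, i < 37041 → P i := stepQ 37040 Q37040 (allL N37040 (tt N37966 (iv1 F97065)) (tt N37965 F97059) (tt N18804 (iv2 D60902)) (tt N66093 (iv3 F203360)) (tt N18812 F95445) (tt N67777 D129651) (tt N67778 D129652) (tt N37967 (iv7 F97063)))
theorem Q37042 : ∀ i, i < 37042 → P i := stepQ 37041 Q37041 (allL N37041 (tt N67779 D129653) (tt N67780 D129654) (tt N67777 (iv2 F207828)) (tt N18805 F95446) (tt N67781 D129655) (tt N18804 (iv5 D60903)) (tt N67782 D129656) (tt N37968 (iv7 F97068)))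
theorem Q37043 : ∀ i, i < 37043 → P i := stepQ 37042 Q37042 (allL N37042 (tt N67783 D129657) (tt N67784 D129658) (tt N67778 (iv2 F207831)) (tt N18806 F95447) (tt N18814 F95448) (tt N67785 D129659) (tt N18804 (iv6 D60904)) (tt N67786 D129660))
theorem Q37044 : ∀ i, i < 37044 → P i := stepQ 37043 Q37043 (allL N37043 (tt N35973 (iv1 F95451)) (tt N18805 (iv0 D60905)) (tt N36895 (iv2 F95450)) (tt N66021 (iv3 F343599)) (tt N37395 (iv4 F95916)) (tt N19227 F95449) (tt N67787 D129661) (tt N36892 F95452))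
theorem Q37045 : ∀ i, i < 37045 → P i := stepQ 37044 Q37044 (allL N37044 (tt N67788 D129662) (tt N67561 (iv0 F378885)) (tt N66096 (iv2 F203363)) (tt N67782 (iv3 F207835)) (tt N39045 (iv4 F99232)) (tt N67789 D129664) (tt N18805 (iv6 D60906)) (tt N67790 D129665))
theorem Q37046 : ∀ i, i < 37046 → P i := stepQ 37045 Q37045 (allL N37045 (tt N66100 (iv1 F203379)) (tt N18806 (iv0 D60907)) (tt N66097 (iv2 F203369)) (tt N67791 D129666) (tt N38933 F203370) (tt N67792 D129667) (tt N67793 D129668) (tt N66098 (iv7 F203372)))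
theorem Q37047 : ∀ i, i < 37047 → P i := stepQ 37046 Q37046 (allL N37046 (tt N18806 (iv1 D60908)) (tt N66100 F203378) (tt N66098 F203373) (tt N67556 (iv3 F363935)) (tt N38934 (iv4 F163998)) (tt N67794 D129670) (tt N67795 D129671) (tt N66097 F203367))
theorem Q37048 : ∀ i, i < 37048 → P i := stepQ 37047 Q37047 (allL N37047 (tt N67796 D129672) (tt N67797 D129673) (tt N66099 (iv2 F203375)) (tt N67785 (iv3 F207836)) (tt N67798 D129674) (tt N18806 (iv5 D60909)) (tt N67789 (iv6 F207840)) (tt N67799 D129675))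
theorem Q37049 : ∀ i, i < 37049 → P i := stepQ 37048 Q37048 (allL N37048 (tt N66098 (iv1 F203371)) (tt N66097 F203368) (tt N66100 (iv2 F203376)) (tt N67786 (iv3 F207837)) (tt N18809 F95453) (tt N67799 (iv5 F207850)) (tt N37974 (iv6 F97072)) (tt N18806 (iv7 D60910)))
theorem Q37050 : ∀ i, i < 37050 → P i := stepQ 37049 Q37049 (allL N37049 (tt N66067 F203289) (tt N57717 (iv0 F174544)) (tt N66065 F203492) (tt N18807 (iv3 D60912)) (tt N61689 (iv4 F179264)) (tt N67800 D129676) (tt N37733 (iv6 F171903)) (tt N66066 (iv7 F203497)))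
theorem Q37051 : ∀ i, i < 37051 → P i := stepQ 37050 Q37050 (allL N37050 (tt N66112 (iv1 F203408)) (tt N35980 (iv0 F203290)) (tt N66101 (iv2 F203380)) (tt N67801 D129677) (tt N18807 (iv4 D60913)) (tt N67802 D129678) (tt N67803 D129679) (tt N66103 (iv7 F203396)))
theorem Q37052 : ∀ i, i < 37052 → P i := stepQ 37051 Q37051 (allL N37051 (tt N67688 F207620) (tt N36106 (iv0 F95462)) (tt N66102 (iv2 F203384)) (tt N67800 (iv3 F207852)) (tt N67804 D129680) (tt N18807 (iv5 D60914)) (tt N35887 F95460) (tt N36171 F171916))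
theorem Q37053 : ∀ i, i < 37053 → P i := stepQ 37052 Q37052 (allL N37052 (tt N18829 F95461) (tt N18836 (iv0 F95456)) (tt N18835 F171877) (tt N37733 F171902) (tt N67803 (iv4 F207856)) (tt N23623 F326085) (tt N18807 (iv6 D60915)) (tt N18834 F171878))
theorem Q37054 : ∀ i, i < 37054 → P i := stepQ 37053 Q37053 (allL N37053 (tt N31383 (iv1 F166287)) (tt N37715 (iv0 F166286)) (tt N37714 F171911) (tt N18808 (iv3 D60917)) (tt N67805 D129681) (tt N59053 (iv5 F171836)) (tt N67806 D129682) (tt N37713 F171909))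
theorem Q37055 : ∀ i, i < 37055 → P i := stepQ 37054 Q37054 (allL N37054 (tt N35980 F166285) (tt N66112 F203407) (tt N66103 (iv2 F203395)) (tt N67807 D129683) (tt N18808 (iv4 D60918)) (tt N67808 D129684) (tt N67809 D129685) (tt N66101 (iv7 F203382)))
theorem Q37056 : ∀ i, i < 37056 → P i := stepQ 37055 Q37055 (allL N37055 (tt N36106 F175215) (tt N67688 (iv0 F207619)) (tt N36171 F171917) (tt N59053 (iv3 F171835)) (tt N67810 D129686) (tt N18808 (iv5 D60919)) (tt N30494 (iv6 F95464)) (tt N66102 (iv7 F203386)))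
theorem Q37057 : ∀ i, i < 37057 → P i := stepQ 37056 Q37056 (allL N37056 (tt N56011 F166230) (tt N66143 (iv0 F203465)) (tt N66104 (iv2 F203398)) (tt N67806 (iv3 F207865)) (tt N67809 (iv4 F207866)) (tt N57330 (iv5 F166229)) (tt N18808 (iv6 D60920)) (tt N66402 (iv7 F204107)))
theorem Q37058 : ∀ i, i < 37058 → P i := stepQ 37057 Q37057 (allL N37057 (tt N19761 (iv1 F98969)) (tt N67430 (iv0 F207206)) (tt N67811 D129687) (tt N18810 (iv3 D60922)) (tt N37162 F95610) (tt N67635 (iv5 F207525)) (tt N67812 D129688) (tt N37980 (iv7 F97079)))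
theorem Q37059 : ∀ i, i < 37059 → P i := stepQ 37058 Q37058 (allL N37058 (tt N37198 F95655) (tt N67813 D129689) (tt N37982 (iv2 F97082)) (tt N35993 F95466) (tt N18810 (iv4 D60923)) (tt N35988 (iv5 F95467)) (tt N67814 D129690) (tt N35987 (iv7 F95468)))
theorem Q37060 : ∀ i, i < 37060 → P i := stepQ 37059 Q37059 (allL N37059 (tt N67815 D129691) (tt N38108 F350872) (tt N37983 (iv2 F97084)) (tt N67812 (iv3 F207873)) (tt N67814 (iv4 F207876)) (tt N46398 (iv5 F319575)) (tt N18810 (iv6 D60924)) (tt N37940 (iv7 F325152)))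
theorem Q37061 : ∀ i, i < 37061 → P i := stepQ 37060 Q37060 (allL N37060 (tt N37763 F96567) (tt N37768 (iv0 F211551)) (tt N38602 (iv2 F98968)) (tt N18811 (iv3 D60925)) (tt N67816 D129696) (tt N44823 F317036) (tt N37941 (iv6 F325147)) (tt N37981 (iv7 F97081)))
theorem Q37062 : ∀ i, i < 37062 → P i := stepQ 37061 Q37061 (allL N37061 (tt N67813 (iv1 F207874)) (tt N37198 F95656) (tt N35987 F95474) (tt N66113 (iv3 F203409)) (tt N18811 (iv4 D60926)) (tt N35986 (iv5 F95475)) (tt N37942 (iv6 F325148)) (tt N37982 (iv7 F97083)))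
theorem Q37063 : ∀ i, i < 37063 → P i := stepQ 37062 Q37062 (allL N37062 (tt N36957 (iv1 F97419)) (tt N36953 F95910) (tt N18813 F95476) (tt N37943 (iv3 F96968)) (tt N25094 F313368) (tt N18812 (iv5 D60929)) (tt N25093 F313369) (tt N37984 (iv7 F97087)))
theorem Q37064 : ∀ i, i < 37064 → P i := stepQ 37063 Q37063 (allL N37063 (tt N67817 D129705) (tt N67818 D129706) (tt N18814 F95477) (tt N37944 (iv3 F96973)) (tt N67778 (iv4 F207832)) (tt N67819 D129707) (tt N18812 (iv6 D60930)) (tt N67820 D129708))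
theorem Q37065 : ∀ i, i < 37065 → P i := stepQ 37064 Q37064 (allL N37064 (tt N37984 (iv1 F97089)) (tt N18813 (iv0 D60931)) (tt N36957 F97412) (tt N67821 D129709) (tt N42562 (iv4 F315814)) (tt N19236 F97403) (tt N25085 (iv6 F315815)) (tt N36953 F97417))
theorem Q37066 : ∀ i, i < 37066 → P i := stepQ 37065 Q37065 (allL N37065 (tt N18813 (iv1 D60932)) (tt N37984 F97088) (tt N36953 (iv2 F97416)) (tt N47596 (iv3 F315816)) (tt N67822 D129713) (tt N19237 F97414) (tt N52501 (iv6 F315818)) (tt N36957 F97415))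
theorem Q37067 : ∀ i, i < 37067 → P i := stepQ 37066 Q37066 (allL N37066 (tt N67820 (iv1 F207895)) (tt N18814 (iv0 D60935)) (tt N67817 (iv2 F364572)) (tt N67823 D129724) (tt N67824 D129725) (tt N67825 D129726) (tt N60005 (iv6 F364571)) (tt N67818 (iv7 F364576)))
theorem Q37068 : ∀ i, i < 37068 → P i := stepQ 37067 Q37067 (allL N37067 (tt N18814 (iv1 D60936)) (tt N67820 F207894) (tt N67818 (iv2 F364575)) (tt N67826 D129729) (tt N67827 D129730) (tt N67828 D129731) (tt N67829 D129732) (tt N67817 (iv7 F364573)))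
theorem Q37069 : ∀ i, i < 37069 → P i := stepQ 37068 Q37068 (allL N37068 (tt N67830 D129733) (tt N67831 D129734) (tt N67819 (iv2 F207891)) (tt N18820 F95480) (tt N67832 D129735) (tt N18814 (iv5 D60937)) (tt N25103 F313370) (tt N67833 D129736))
theorem Q37070 : ∀ i, i < 37070 → P i := stepQ 37069 Q37069 (allL N37069 (tt N67818 (iv1 F207890)) (tt N67817 F207893) (tt N67820 (iv2 F207892)) (tt N18821 F95481) (tt N67786 (iv4 F207838)) (tt N67833 (iv5 F207925)) (tt N37989 (iv6 F97098)) (tt N18814 (iv7 D60938)))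
theorem Q37071 : ∀ i, i < 37071 → P i := stepQ 37070 Q37070 (allL N37070 (tt N38612 (iv1 F319729)) (tt N24843 F318040) (tt N38611 (iv2 F216476)) (tt N18815 (iv3 D60939)) (tt N63829 (iv4 F189767)) (tt N18949 F95482) (tt N67834 D129740) (tt N36940 F95483))
theorem Q37072 : ∀ i, i < 37072 → P i := stepQ 37071 Q37071 (allL N37071 (tt N23582 F306035) (tt N46403 F306036) (tt N36950 F95484) (tt N67834 (iv3 F207933)) (tt N18964 F95485) (tt N40664 (iv5 F102374)) (tt N18815 (iv6 D60940)) (tt N46402 (iv7 F308033)))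
theorem Q37073 : ∀ i, i < 37073 → P i := stepQ 37072 Q37072 (allL N37072 (tt N19758 F212146) (tt N19763 (iv0 F212147)) (tt N66972 (iv2 F314808)) (tt N18816 (iv3 D60941)) (tt N52847 (iv4 F317133)) (tt N18942 F95486) (tt N52846 (iv6 F310113)) (tt N36949 F95487))
theorem Q37074 : ∀ i, i < 37074 → P i := stepQ 37073 Q37073 (allL N37073 (tt N67835 D129748) (tt N66910 F308091) (tt N36942 F95488) (tt N52846 (iv3 F310112)) (tt N18966 F95489) (tt N63088 (iv5 F309855)) (tt N18816 (iv6 D60942)) (tt N66973 F308092))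
theorem Q37075 : ∀ i, i < 37075 → P i := stepQ 37074 Q37074 (allL N37074 (tt N21144 F316143) (tt N64250 (iv0 F319109)) (tt N37949 (iv2 F96983)) (tt N25103 (iv3 F311089)) (tt N42410 F316144) (tt N18817 (iv5 D60945)) (tt N18820 F95490) (tt N64222 (iv7 F306873)))
theorem Q37076 : ∀ i, i < 37076 → P i := stepQ 37075 Q37075 (allL N37075 (tt N38615 (iv1 F337691)) (tt N38601 (iv0 F337692)) (tt N38613 F341743) (tt N18818 (iv3 D60947)) (tt N67836 D129769) (tt N42282 F323492) (tt N37990 (iv6 F97115)) (tt N37952 (iv7 F96995)))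
theorem Q37077 : ∀ i, i < 37077 → P i := stepQ 37076 Q37076 (allL N37076 (tt N41604 (iv1 F321251)) (tt N64231 (iv0 F308702)) (tt N37951 (iv2 F96993)) (tt N42282 (iv3 F321785)) (tt N29747 F319973) (tt N18818 (iv5 D60948)) (tt N34749 (iv6 F319975)) (tt N36369 F319974))
theorem Q37078 : ∀ i, i < 37078 → P i := stepQ 37077 Q37077 (allL N37077 (tt N64231 (iv1 F308703)) (tt N41604 (iv0 F321250)) (tt N36369 F319210) (tt N30490 (iv3 F319583)) (tt N23107 F319211) (tt N18819 (iv5 D60950)) (tt N23106 (iv6 F321252)) (tt N37951 (iv7 F96994)))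
theorem Q37079 : ∀ i, i < 37079 → P i := stepQ 37078 Q37078 (allL N37078 (tt N18820 (iv1 D60953)) (tt N37955 F97015) (tt N37953 F97011) (tt N67837 D129783) (tt N56151 (iv4 F313130)) (tt N36944 (iv5 F95496)) (tt N65353 (iv6 F317753)) (tt N36943 F95495))
theorem Q37080 : ∀ i, i < 37080 → P i := stepQ 37079 Q37079 (allL N37079 (tt N63517 (iv1 F312466)) (tt N63652 F311295) (tt N37954 (iv2 F97012)) (tt N22519 (iv3 F313656)) (tt N18820 (iv4 D60954)) (tt N44439 (iv5 F313283)) (tt N42410 (iv6 F313658)) (tt N63654 (iv7 F312463)))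
theorem Q37081 : ∀ i, i < 37081 → P i := stepQ 37080 Q37080 (allL N37080 (tt N37953 (iv1 F97008)) (tt N36943 (iv0 F95498)) (tt N37955 (iv2 F97013)) (tt N67833 (iv3 F207924)) (tt N63654 (iv4 F312462)) (tt N18821 F95497) (tt N46175 F320717) (tt N18820 (iv7 D60955)))
theorem Q37082 : ∀ i, i < 37082 → P i := stepQ 37081 Q37081 (allL N37081 (tt N37752 F164007) (tt N30031 (iv0 F164014)) (tt N37728 F100235) (tt N67838 D129792) (tt N18822 (iv4 D60959)) (tt N67839 D129793) (tt N37993 (iv6 F97152)) (tt N37730 (iv7 F100215)))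
theorem Q37083 : ∀ i, i < 37083 → P i := stepQ 37082 Q37082 (allL N37082 (tt N41191 F103527) (tt N36179 F100264) (tt N37729 F100236) (tt N18824 F95499) (tt N67840 D129794) (tt N18822 (iv5 D60960)) (tt N35893 F95500) (tt N36238 F95501))
theorem Q37084 : ∀ i, i < 37084 → P i := stepQ 37083 Q37083 (allL N37083 (tt N38055 (iv1 F336584)) (tt N38036 (iv0 F336585)) (tt N38053 (iv2 F338389)) (tt N18823 (iv3 D60961)) (tt N67838 (iv4 F208143)) (tt N67841 D129798) (tt N37994 (iv6 F97154)) (tt N37961 (iv7 F97047)))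
theorem Q37085 : ∀ i, i < 37085 → P i := stepQ 37084 Q37084 (allL N37084 (tt N62599 (iv1 F320185)) (tt N66754 (iv0 F320187)) (tt N37959 (iv2 F97031)) (tt N67841 (iv3 F208147)) (tt N33743 F318354) (tt N18823 (iv5 D60962)) (tt N25056 (iv6 F320515)) (tt N37962 (iv7 F97049)))
theorem Q37086 : ∀ i, i < 37086 → P i := stepQ 37085 Q37085 (allL N37085 (tt N21900 F312204) (tt N33336 F95504) (tt N37960 (iv2 F97033)) (tt N67842 D129801) (tt N18824 (iv4 D60963)) (tt N44542 F312205) (tt N35894 F95502) (tt N33459 F95503))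
theorem Q37087 : ∀ i, i < 37087 → P i := stepQ 37086 Q37086 (allL N37086 (tt N18874 F337777) (tt N67843 D129803) (tt N67844 D129804) (tt N18825 (iv3 D60970)) (tt N65124 (iv4 F341953)) (tt N65109 (iv5 F341960)) (tt N67845 D129806) (tt N37958 (iv7 F97030)))
theorem Q37088 : ∀ i, i < 37088 → P i := stepQ 37087 Q37087 (allL N37087 (tt N66754 (iv1 F320188)) (tt N62599 (iv0 F320184)) (tt N37962 (iv2 F97048)) (tt N65109 (iv3 F341959)) (tt N23071 F318631) (tt N18825 (iv5 D60971)) (tt N23070 (iv6 F320785)) (tt N37959 (iv7 F97032)))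
theorem Q37089 : ∀ i, i < 37089 → P i := stepQ 37088 Q37088 (allL N37088 (tt N20586 (iv1 F95509)) (tt N20589 F95510) (tt N37963 (iv2 F97050)) (tt N67845 (iv3 F208151)) (tt N18827 F95508) (tt N25168 F322004) (tt N18825 (iv6 D60972)) (tt N37992 (iv7 F97140)))
theorem Q37090 : ∀ i, i < 37090 → P i := stepQ 37089 Q37089 (allL N37089 (tt N67846 D129809) (tt N67847 D129810) (tt N67848 D129811) (tt N18828 (iv3 D60974)) (tt N35972 F95513) (tt N67849 D129812) (tt N67850 D129813) (tt N37914 (iv7 F96927)))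
theorem Q37091 : ∀ i, i < 37091 → P i := stepQ 37090 Q37090 (allL N37090 (tt N36993 F95515) (tt N36990 F95516) (tt N18832 F95514) (tt N67849 (iv3 F208155)) (tt N39093 (iv4 F99373)) (tt N18828 (iv5 D60975)) (tt N67851 D129814) (tt N37915 (iv7 F96930)))
theorem Q37092 : ∀ i, i < 37092 → P i := stepQ 37091 Q37091 (allL N37091 (tt N67852 D129815) (tt N67793 F207845) (tt N18833 F95517) (tt N67850 (iv3 F208156)) (tt N18829 F95518) (tt N67853 D129816) (tt N18828 (iv6 D60976)) (tt N67854 D129817))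
theorem Q37093 : ∀ i, i < 37093 → P i := stepQ 37092 Q37092 (allL N37092 (tt N18836 F95520) (tt N18829 (iv0 D60977)) (tt N18834 F171884) (tt N57720 F171898) (tt N67855 D129818) (tt N23624 F326086) (tt N66402 (iv6 F204104)) (tt N18835 F171885))
theorem Q37094 : ∀ i, i < 37094 → P i := stepQ 37093 Q37093 (allL N37093 (tt N18835 (iv1 F95524)) (tt N18834 (iv0 F95525)) (tt N18836 F95521) (tt N35977 F95522) (tt N67854 (iv4 F208167)) (tt N31256 F95523) (tt N37919 (iv6 F96940)) (tt N18829 (iv7 D60978)))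
theorem Q37095 : ∀ i, i < 37095 → P i := stepQ 37094 Q37094 (allL N37094 (tt N67856 D129819) (tt N67857 D129820) (tt N67858 D129821) (tt N18830 (iv3 D60979)) (tt N33009 F95526) (tt N39360 (iv5 F100038)) (tt N67859 D129822) (tt N32986 F95527))
theorem Q37096 : ∀ i, i < 37096 → P i := stepQ 37095 Q37095 (allL N37095 (tt N38105 F102061) (tt N66141 (iv0 F203458)) (tt N37921 (iv2 F96945)) (tt N67859 (iv3 F208179)) (tt N32988 F95528) (tt N67860 D129823) (tt N18830 (iv6 D60980)) (tt N37964 (iv7 F97058)))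
theorem Q37097 : ∀ i, i < 37097 → P i := stepQ 37096 Q37096 (allL N37096 (tt N37924 (iv1 F96952)) (tt N18831 (iv0 D60981)) (tt N37923 (iv2 F208595)) (tt N67861 D129825) (tt N38057 (iv4 F97286)) (tt N67713 (iv5 F211869)) (tt N37965 (iv6 F326346)) (tt N37922 (iv7 F208627)))
theorem Q37098 : ∀ i, i < 37098 → P i := stepQ 37097 Q37097 (allL N37097 (tt N18831 (iv1 D60982)) (tt N37924 F96954) (tt N37922 (iv2 F208626)) (tt N67862 D129829) (tt N37995 (iv4 F97161)) (tt N67714 F207694) (tt N67863 D129830) (tt N37923 (iv7 F208596)))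
theorem Q37099 : ∀ i, i < 37099 → P i := stepQ 37098 Q37098 (allL N37098 (tt N37923 (iv1 F96953)) (tt N37922 F96948) (tt N18831 (iv2 D60983)) (tt N67848 (iv3 F208153)) (tt N18839 F95529) (tt N67864 D129831) (tt N67865 D129832) (tt N37924 (iv7 F96951)))
theorem Q37100 : ∀ i, i < 37100 → P i := stepQ 37099 Q37099 (allL N37099 (tt N67866 D129833) (tt N67867 D129834) (tt N67864 (iv2 F208184)) (tt N18832 F95530) (tt N67868 D129835) (tt N18831 (iv5 D60984)) (tt N67869 D129836) (tt N37925 (iv7 F96956)))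
theorem Q37101 : ∀ i, i < 37101 → P i := stepQ 37100 Q37100 (allL N37100 (tt N67870 D129837) (tt N67871 D129838) (tt N67865 (iv2 F208185)) (tt N18833 F95531) (tt N18841 F95532) (tt N67872 D129839) (tt N18831 (iv6 D60985)) (tt N60007 (iv7 F326081)))
theorem Q37102 : ∀ i, i < 37102 → P i := stepQ 37101 Q37101 (allL N37101 (tt N37915 (iv1 F96932)) (tt N18832 (iv0 D60986)) (tt N36993 (iv2 F95534)) (tt N67873 D129841) (tt N39328 (iv4 F100014)) (tt N19196 F95533) (tt N67874 D129842) (tt N36990 (iv7 F95535)))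
theorem Q37103 : ∀ i, i < 37103 → P i := stepQ 37102 Q37102 (allL N37102 (tt N18832 (iv1 D60987)) (tt N37915 (iv0 F96931)) (tt N36990 (iv2 F95538)) (tt N67875 D129843) (tt N38243 (iv4 F97755)) (tt N19197 F95537) (tt N67876 D129844) (tt N36993 F95536))
theorem Q37104 : ∀ i, i < 37104 → P i := stepQ 37103 Q37103 (allL N37103 (tt N67877 D129845) (tt N67878 D129846) (tt N67851 (iv2 F208158)) (tt N67869 (iv3 F208189)) (tt N39301 (iv4 F99880)) (tt N67879 D129847) (tt N18832 (iv6 D60988)) (tt N67880 D129848))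
theorem Q37105 : ∀ i, i < 37105 → P i := stepQ 37104 Q37104 (allL N37104 (tt N67854 (iv1 F208169)) (tt N18833 (iv0 D60989)) (tt N67852 F208160) (tt N67881 D129849) (tt N38508 (iv4 F168299)) (tt N67564 (iv5 F207398)) (tt N67882 D129850) (tt N67793 F207843))
theorem Q37106 : ∀ i, i < 37106 → P i := stepQ 37105 Q37105 (allL N37105 (tt N18833 (iv1 D60990)) (tt N67854 F208168) (tt N67793 (iv2 F207841)) (tt N67883 D129851) (tt N38509 (iv4 F163870)) (tt N67565 F207399) (tt N66097 F203366) (tt N67852 (iv7 F208161)))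
theorem Q37107 : ∀ i, i < 37107 → P i := stepQ 37106 Q37106 (allL N37106 (tt N67884 D129852) (tt N67885 D129853) (tt N67853 (iv2 F208163)) (tt N67872 (iv3 F208190)) (tt N67886 D129854) (tt N18833 (iv5 D60991)) (tt N67879 (iv6 F208199)) (tt N67887 D129855))
theorem Q37108 : ∀ i, i < 37108 → P i := stepQ 37107 Q37107 (allL N37107 (tt N67793 F207844) (tt N67852 F208162) (tt N67854 (iv2 F208166)) (tt N60007 (iv3 F326079)) (tt N18836 F95539) (tt N67887 (iv5 F208206)) (tt N37931 (iv6 F96960)) (tt N18833 (iv7 D60992)))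
theorem Q37109 : ∀ i, i < 37109 → P i := stepQ 37108 Q37108 (allL N37108 (tt N37734 F173089) (tt N35963 (iv0 F168437)) (tt N37732 (iv2 F171899)) (tt N18834 (iv3 D60994)) (tt N39046 F99240) (tt N35897 F95542) (tt N67888 D129856) (tt N37733 (iv7 F171901)))
theorem Q37110 : ∀ i, i < 37110 → P i := stepQ 37109 Q37109 (allL N37109 (tt N67889 D129857) (tt N55840 (iv0 F173088)) (tt N67855 (iv2 F208170)) (tt N67890 D129858) (tt N18834 (iv4 D60995)) (tt N67891 D129859) (tt N67892 D129860) (tt N67803 F207857))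
theorem Q37111 : ∀ i, i < 37111 → P i := stepQ 37110 Q37110 (allL N37110 (tt N66143 F203467) (tt N56011 (iv0 F162271)) (tt N66402 F204105) (tt N67888 (iv3 F208209)) (tt N67892 (iv4 F208213)) (tt N57331 F166233) (tt N18834 (iv6 D60996)) (tt N66104 (iv7 F203400)))
theorem Q37112 : ∀ i, i < 37112 → P i := stepQ 37111 Q37111 (allL N37111 (tt N30741 F168463) (tt N28068 F327626) (tt N57721 (iv2 F171894)) (tt N18835 (iv3 D60998)) (tt N38788 F170841) (tt N35900 F95545) (tt N37713 (iv6 F168466)) (tt N57720 (iv7 F171897)))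
theorem Q37113 : ∀ i, i < 37113 → P i := stepQ 37112 Q37112 (allL N37112 (tt N55840 F170830) (tt N67889 F208211) (tt N67803 (iv2 F207855)) (tt N67893 D129861) (tt N18835 (iv4 D60999)) (tt N67894 D129862) (tt N66101 (iv6 F203381)) (tt N67855 (iv7 F208171)))
theorem Q37114 : ∀ i, i < 37114 → P i := stepQ 37113 Q37113 (allL N37113 (tt N24844 (iv1 F319065)) (tt N38618 (iv0 F211597)) (tt N38617 (iv2 F207713)) (tt N18837 (iv3 D61001)) (tt N37137 F95579) (tt N27987 F317484) (tt N37980 F323884) (tt N27986 (iv7 F317558)))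
theorem Q37115 : ∀ i, i < 37115 → P i := stepQ 37114 Q37114 (allL N37114 (tt N67895 D129866) (tt N67896 D129867) (tt N37942 F207724) (tt N35992 (iv3 F325151)) (tt N18837 (iv4 D61002)) (tt N67897 D129869) (tt N35987 F323885) (tt N37939 F207706))
theorem Q37116 : ∀ i, i < 37116 → P i := stepQ 37115 Q37115 (allL N37115 (tt N67033 (iv1 F315352)) (tt N19756 F207718) (tt N46813 (iv2 F314316)) (tt N18838 (iv3 D61006)) (tt N37183 (iv4 F95644)) (tt N46808 F313635) (tt N67898 D129875) (tt N37941 F207719))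
theorem Q37117 : ∀ i, i < 37117 → P i := stepQ 37116 Q37116 (allL N37116 (tt N67896 (iv1 F208218)) (tt N67895 F208216) (tt N37939 F207721) (tt N67384 (iv3 F207148)) (tt N18838 (iv4 D61007)) (tt N67899 D129876) (tt N67900 D129877) (tt N37942 (iv7 F207723)))
theorem Q37118 : ∀ i, i < 37118 → P i := stepQ 37117 Q37117 (allL N37117 (tt N38108 F350873) (tt N67815 F326063) (tt N37940 F207722) (tt N67898 (iv3 F208220)) (tt N67900 (iv4 F208221)) (tt N46393 (iv5 F322468)) (tt N18838 (iv6 D61009)) (tt N37983 F326064))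
theorem Q37119 : ∀ i, i < 37119 → P i := stepQ 37118 Q37118 (allL N37118 (tt N37016 (iv1 F208670)) (tt N37012 F208667) (tt N18840 F95548) (tt N37984 (iv3 F97086)) (tt N67901 D129882) (tt N18839 (iv5 D61010)) (tt N67902 D129883) (tt N37943 (iv7 F96969)))
theorem Q37120 : ∀ i, i < 37120 → P i := stepQ 37119 Q37119 (allL N37119 (tt N60006 (iv1 F326073)) (tt N60005 (iv0 F326072)) (tt N18841 F95549) (tt N37985 (iv3 F97091)) (tt N67865 (iv4 F208186)) (tt N46127 F324734) (tt N18839 (iv6 D61011)) (tt N59973 (iv7 F326078)))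
theorem Q37121 : ∀ i, i < 37121 → P i := stepQ 37120 Q37120 (allL N37120 (tt N37943 (iv1 F96971)) (tt N18840 (iv0 D61012)) (tt N37016 (iv2 F209641)) (tt N24573 (iv3 F310642)) (tt N25398 F309795) (tt N19212 F209583) (tt N24572 F309796) (tt N37012 F209640))
theorem Q37122 : ∀ i, i < 37122 → P i := stepQ 37121 Q37121 (allL N37121 (tt N18840 (iv1 D61013)) (tt N37943 F96970) (tt N37012 F209639) (tt N65366 (iv3 F312120)) (tt N67903 D129895) (tt N19213 F209645) (tt N66916 (iv6 F312122)) (tt N37016 (iv7 F209642)))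
theorem Q37123 : ∀ i, i < 37123 → P i := stepQ 37122 Q37122 (allL N37122 (tt N37487 (iv1 F186351)) (tt N67904 D129898) (tt N67901 (iv2 F208222)) (tt N19039 F95550) (tt N18840 (iv4 D61014)) (tt N25470 F307763) (tt N42272 F319526) (tt N33955 (iv7 F185232)))
theorem Q37124 : ∀ i, i < 37124 → P i := stepQ 37123 Q37123 (allL N37123 (tt N67905 D129901) (tt N67906 D129902) (tt N67902 (iv2 F208229)) (tt N18842 F95551) (tt N42272 F319524) (tt N31349 F326963) (tt N18840 (iv6 D61015)) (tt N31348 F326964))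
theorem Q37125 : ∀ i, i < 37125 → P i := stepQ 37124 Q37124 (allL N37124 (tt N59973 (iv1 F326075)) (tt N18841 (iv0 D61016)) (tt N60006 (iv2 F359737)) (tt N67907 D129906) (tt N67908 D129907) (tt N64058 (iv5 F359736)) (tt N67909 D129909) (tt N60005 (iv7 F359740)))
theorem Q37126 : ∀ i, i < 37126 → P i := stepQ 37125 Q37125 (allL N37125 (tt N18841 (iv1 D61017)) (tt N59973 (iv0 F326074)) (tt N60005 (iv2 F359739)) (tt N67910 D129911) (tt N67911 D129912) (tt N59925 (iv5 F332142)) (tt N67817 (iv6 F361186)) (tt N60006 (iv7 F359738)))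
theorem Q37127 : ∀ i, i < 37127 → P i := stepQ 37126 Q37126 (allL N37126 (tt N49587 (iv1 F338306)) (tt N19764 F339530) (tt N39821 (iv2 F325105)) (tt N18843 (iv3 D61024)) (tt N51688 (iv4 F323624)) (tt N64057 F321961) (tt N39820 F324970) (tt N37990 (iv7 F97116)))
theorem Q37128 : ∀ i, i < 37128 → P i := stepQ 37127 Q37127 (allL N37127 (tt N36155 (iv1 F322915)) (tt N36154 (iv0 F322425)) (tt N36156 (iv2 F321999)) (tt N39820 (iv3 F323626)) (tt N19752 F95556) (tt N36148 F321963) (tt N18843 (iv6 D61025)) (tt N36153 (iv7 F322003)))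
theorem Q37129 : ∀ i, i < 37129 → P i := stepQ 37128 Q37128 (allL N37128 (tt N38616 (iv1 F340132)) (tt N38627 F340129) (tt N38625 (iv2 F333832)) (tt N18844 (iv3 D61026)) (tt N39206 (iv4 F325106)) (tt N46352 F321964) (tt N36164 F323862) (tt N36165 F323863))
theorem Q37130 : ∀ i, i < 37130 → P i := stepQ 37129 Q37129 (allL N37129 (tt N67912 D129950) (tt N18879 (iv0 F333899)) (tt N67913 D129952) (tt N18846 (iv3 D61036)) (tt N67369 (iv4 F207138)) (tt N23916 F321981) (tt N66361 (iv6 F336592)) (tt N37994 (iv7 F97155)))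
theorem Q37131 : ∀ i, i < 37131 → P i := stepQ 37130 Q37130 (allL N37130 (tt N20589 (iv1 F95570)) (tt N20586 F95571) (tt N37992 (iv2 F97138)) (tt N66361 (iv3 F336590)) (tt N18847 F95569) (tt N38254 (iv5 F97772)) (tt N18846 (iv6 D61038)) (tt N37963 (iv7 F97052)))
theorem Q37132 : ∀ i, i < 37132 → P i := stepQ 37131 Q37131 (allL N37131 (tt N30034 F168041) (tt N37759 F168042) (tt N37745 F168043) (tt N67914 D129956) (tt N18848 (iv4 D61042)) (tt N46544 (iv5 F325972)) (tt N37956 (iv6 F97024)) (tt N37743 F168044))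
theorem Q37133 : ∀ i, i < 37133 → P i := stepQ 37132 Q37132 (allL N37132 (tt N38056 F338308) (tt N38069 (iv0 F338309)) (tt N38067 F338367) (tt N18849 (iv3 D61043)) (tt N67914 (iv4 F208335)) (tt N34756 F321983) (tt N37958 (iv6 F97029)) (tt N37991 (iv7 F97133)))
theorem Q37134 : ∀ i, i < 37134 → P i := stepQ 37133 Q37133 (allL N37133 (tt N38038 (iv1 F213145)) (tt N38042 (iv0 F213150)) (tt N38037 F208399) (tt N18850 (iv3 D61051)) (tt N67915 D129991) (tt N44720 F316616) (tt N37999 F324701) (tt N38018 (iv7 F208416)))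
theorem Q37135 : ∀ i, i < 37135 → P i := stepQ 37134 Q37134 (allL N37134 (tt N38024 (iv1 F97228)) (tt N38023 F97227) (tt N18852 F95576) (tt N61686 (iv3 F179252)) (tt N18851 (iv4 D61055)) (tt N47006 F315833) (tt N26882 F321708) (tt N38021 (iv7 F97217)))
theorem Q37136 : ∀ i, i < 37136 → P i := stepQ 37135 Q37135 (allL N37135 (tt N49235 (iv1 F319811)) (tt N49238 (iv0 F319808)) (tt N18854 F95578) (tt N38003 (iv3 F97174)) (tt N26882 (iv4 F319814)) (tt N24811 F317521) (tt N18851 (iv6 D61057)) (tt N29017 (iv7 F319807)))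
theorem Q37137 : ∀ i, i < 37137 → P i := stepQ 37136 Q37136 (allL N37136 (tt N38021 (iv1 F97219)) (tt N18852 (iv0 D61058)) (tt N38024 (iv2 F207711)) (tt N56276 (iv3 F332636)) (tt N24445 F317534) (tt N47523 (iv5 F318983)) (tt N56274 (iv6 F339453)) (tt N38023 F207712))
theorem Q37138 : ∀ i, i < 37138 → P i := stepQ 37137 Q37137 (allL N37137 (tt N18852 (iv1 D61059)) (tt N38021 (iv0 F97218)) (tt N38023 F207710) (tt N66207 (iv3 F326068)) (tt N37113 (iv4 F95579)) (tt N47524 (iv5 F318984)) (tt N38005 F325150) (tt N38024 (iv7 F207709)))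
theorem Q37139 : ∀ i, i < 37139 → P i := stepQ 37138 Q37138 (allL N37138 (tt N29017 F321692) (tt N18854 (iv0 D61066)) (tt N49235 (iv2 F323380)) (tt N67916 D130043) (tt N25950 (iv4 F323383)) (tt N67917 D130045) (tt N67918 D130046) (tt N49238 (iv7 F323373)))
theorem Q37140 : ∀ i, i < 37140 → P i := stepQ 37139 Q37139 (allL N37139 (tt N18854 (iv1 D61067)) (tt N29017 F321691) (tt N49238 (iv2 F323372)) (tt N56356 (iv3 F342188)) (tt N25949 (iv4 F323375)) (tt N54885 (iv5 F323376)) (tt N56355 (iv6 F336036)) (tt N49235 (iv7 F323381)))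
theorem Q37141 : ∀ i, i < 37141 → P i := stepQ 37140 Q37140 (allL N37140 (tt N27109 (iv1 F319804)) (tt N50952 (iv0 F319801)) (tt N24811 F318048) (tt N18858 F95585) (tt N26426 (iv4 F320210)) (tt N18854 (iv5 D61068)) (tt N24553 F313373) (tt N50755 F318049))
theorem Q37142 : ∀ i, i < 37142 → P i := stepQ 37141 Q37141 (allL N37141 (tt N49238 (iv1 F319809)) (tt N49235 (iv0 F319810)) (tt N29017 (iv2 F319806)) (tt N18859 F95586) (tt N26884 (iv4 F319812)) (tt N50755 F317580) (tt N38030 (iv6 F97241)) (tt N18854 (iv7 D61069)))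
theorem Q37143 : ∀ i, i < 37143 → P i := stepQ 37142 Q37142 (allL N37142 (tt N38052 (iv1 F213169)) (tt N38035 (iv0 F213164)) (tt N38049 (iv2 F212095)) (tt N18855 (iv3 D61070)) (tt N67919 D130059) (tt N19211 F95587) (tt N67920 D130060) (tt N36920 F95588))
theorem Q37144 : ∀ i, i < 37144 → P i := stepQ 37143 Q37143 (allL N37143 (tt N24098 F305599) (tt N24718 (iv0 F306360)) (tt N24716 F305719) (tt N67920 (iv3 F208505)) (tt N19043 F95590) (tt N66521 (iv5 F204345)) (tt N18855 (iv6 D61071)) (tt N24715 F305720))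
theorem Q37145 : ∀ i, i < 37145 → P i := stepQ 37144 Q37144 (allL N37144 (tt N18873 F208772) (tt N18878 (iv0 F208773)) (tt N36526 (iv2 F310687)) (tt N18856 (iv3 D61072)) (tt N20276 F95591) (tt N19206 F95592) (tt N22183 F308616) (tt N36933 F95593))
theorem Q37146 : ∀ i, i < 37146 → P i := stepQ 37145 Q37145 (allL N37145 (tt N23444 (iv1 F308037)) (tt N48388 (iv0 F308036)) (tt N36922 F95594) (tt N22183 (iv3 F308411)) (tt N19041 F95595) (tt N67921 D130069) (tt N18856 (iv6 D61073)) (tt N36527 (iv7 F307066)))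
theorem Q37147 : ∀ i, i < 37147 → P i := stepQ 37146 Q37146 (allL N37146 (tt N24814 F308918) (tt N18857 (iv0 D61074)) (tt N24813 F308919) (tt N67922 D130071) (tt N19060 F185277) (tt N67923 D130072) (tt N67924 D130073) (tt N24644 F306085))
theorem Q37148 : ∀ i, i < 37148 → P i := stepQ 37147 Q37147 (allL N37147 (tt N18857 (iv1 D61075)) (tt N24814 (iv0 F307083)) (tt N24644 (iv2 F303983)) (tt N63570 (iv3 F304926)) (tt N19061 F185273) (tt N67925 D130075) (tt N24079 F302497) (tt N24813 (iv7 F307065)))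
theorem Q37149 : ∀ i, i < 37149 → P i := stepQ 37148 Q37148 (allL N37148 (tt N42408 F316470) (tt N47921 F316552) (tt N38013 (iv2 F97196)) (tt N24553 (iv3 F311095)) (tt N41696 F316471) (tt N18857 (iv5 D61076)) (tt N18858 F95596) (tt N24815 (iv7 F311078)))
theorem Q37150 : ∀ i, i < 37150 → P i := stepQ 37149 Q37149 (allL N37149 (tt N38015 (iv1 F97212)) (tt N18858 (iv0 D61078)) (tt N36925 (iv2 F95599)) (tt N67926 D130080) (tt N63517 (iv4 F312467)) (tt N19207 F95598) (tt N67921 (iv6 F208538)) (tt N38014 (iv7 F97205)))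
theorem Q37151 : ∀ i, i < 37151 → P i := stepQ 37150 Q37150 (allL N37150 (tt N18858 (iv1 D61079)) (tt N38015 F97211) (tt N38014 F97207) (tt N48481 F333922) (tt N63652 (iv4 F309120)) (tt N36926 (iv5 F95601)) (tt N67927 D130082) (tt N36925 F95600))
theorem Q37152 : ∀ i, i < 37152 → P i := stepQ 37151 Q37151 (allL N37151 (tt N36632 (iv1 F313661)) (tt N29818 F313131) (tt N36636 (iv2 F315514)) (tt N67928 D130084) (tt N18858 (iv4 D61080)) (tt N57698 (iv5 F313673)) (tt N41696 (iv6 F315524)) (tt N36635 (iv7 F315518)))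
theorem Q37153 : ∀ i, i < 37153 → P i := stepQ 37152 Q37152 (allL N37152 (tt N38014 (iv1 F97204)) (tt N36925 (iv0 F95603)) (tt N38015 (iv2 F97209)) (tt N50755 (iv3 F315839)) (tt N36635 (iv4 F315516)) (tt N18859 F95602) (tt N67929 D130087) (tt N18858 (iv7 D61081)))
theorem Q37154 : ∀ i, i < 37154 → P i := stepQ 37153 Q37153 (allL N37153 (tt N38033 (iv1 F213159)) (tt N38058 (iv0 F213179)) (tt N38057 (iv2 F208594)) (tt N18860 (iv3 D61083)) (tt N37923 F96949) (tt N67930 D130096) (tt N38016 (iv6 F324324)) (tt N37995 (iv7 F208600)))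
theorem Q37155 : ∀ i, i < 37155 → P i := stepQ 37154 Q37154 (allL N37154 (tt N67931 D130099) (tt N39074 F208568) (tt N38000 (iv2 F208612)) (tt N60968 F326369) (tt N18860 (iv4 D61084)) (tt N60964 F326370) (tt N38017 (iv6 F324325)) (tt N37996 (iv7 F208603)))
theorem Q37156 : ∀ i, i < 37156 → P i := stepQ 37155 Q37155 (allL N37155 (tt N38087 F208572) (tt N18887 F208573) (tt N38001 (iv2 F208614)) (tt N67930 (iv3 F208575)) (tt N67932 D130104) (tt N18860 (iv5 D61085)) (tt N44807 F317541) (tt N37997 (iv7 F208605)))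
theorem Q37157 : ∀ i, i < 37157 → P i := stepQ 37156 Q37156 (allL N37156 (tt N67933 D130112) (tt N18871 F207734) (tt N67934 D130113) (tt N18861 (iv3 D61088)) (tt N38605 (iv4 F98471)) (tt N52819 (iv5 F321374)) (tt N66364 (iv6 F347087)) (tt N37999 (iv7 F208611)))
theorem Q37158 : ∀ i, i < 37158 → P i := stepQ 37157 Q37157 (allL N37157 (tt N39074 F207248) (tt N67931 F208580) (tt N37996 (iv2 F208602)) (tt N39053 (iv3 F99290)) (tt N18861 (iv4 D61089)) (tt N67935 D130116) (tt N67936 D130117) (tt N38000 (iv7 F208613)))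
theorem Q37159 : ∀ i, i < 37159 → P i := stepQ 37158 Q37158 (allL N37158 (tt N38104 (iv1 F322818)) (tt N44796 (iv0 F322819)) (tt N37998 (iv2 F208606)) (tt N66364 (iv3 F347084)) (tt N67936 (iv4 F208633)) (tt N44722 (iv5 F322822)) (tt N18861 (iv6 D61091)) (tt N38020 (iv7 F322817)))
theorem Q37160 : ∀ i, i < 37160 → P i := stepQ 37159 Q37159 (allL N37159 (tt N38005 (iv1 F97176)) (tt N38004 F97175) (tt N18863 F95606) (tt N39042 (iv3 F99223)) (tt N18862 (iv4 D61092)) (tt N67937 D130124) (tt N67938 D130125) (tt N38002 (iv7 F97164)))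
theorem Q37161 : ∀ i, i < 37161 → P i := stepQ 37160 Q37160 (allL N37160 (tt N67939 D130128) (tt N67918 (iv0 F331839)) (tt N18865 F95608) (tt N38022 (iv3 F97226)) (tt N67938 (iv4 F208636)) (tt N67940 D130130) (tt N18862 (iv6 D61094)) (tt N67941 D130131))
theorem Q37162 : ∀ i, i < 37162 → P i := stepQ 37161 Q37161 (allL N37161 (tt N38002 (iv1 F97167)) (tt N18863 (iv0 D61095)) (tt N38005 (iv2 F97181)) (tt N67942 D130132) (tt N38885 (iv4 F98965)) (tt N67943 D130133) (tt N38023 (iv6 F326067)) (tt N38004 F97182))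
theorem Q37163 : ∀ i, i < 37163 → P i := stepQ 37162 Q37162 (allL N37162 (tt N18863 (iv1 D61096)) (tt N38002 (iv0 F97165)) (tt N38004 F97180) (tt N35931 (iv3 F95609)) (tt N37057 (iv4 F95610)) (tt N35930 F95611) (tt N67944 D130135) (tt N38005 (iv7 F97179)))
theorem Q37164 : ∀ i, i < 37164 → P i := stepQ 37163 Q37163 (allL N37163 (tt N50203 (iv1 F323240)) (tt N37399 (iv0 F95923)) (tt N67937 (iv2 F208634)) (tt N19619 F95612) (tt N67945 D130137) (tt N18863 (iv5 D61097)) (tt N67946 D130138) (tt N38006 (iv7 F97184)))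
theorem Q37165 : ∀ i, i < 37165 → P i := stepQ 37164 Q37164 (allL N37164 (tt N67947 D130139) (tt N51594 (iv0 F354338)) (tt N67938 (iv2 F208635)) (tt N19620 F95613) (tt N18865 F95614) (tt N67948 D130141) (tt N18863 (iv6 D61098)) (tt N67949 D130142))
theorem Q37166 : ∀ i, i < 37166 → P i := stepQ 37165 Q37165 (allL N37165 (tt N24806 (iv1 F315053)) (tt N18864 (iv0 D61099)) (tt N37427 (iv2 F209621)) (tt N67950 D130144) (tt N43650 F312103) (tt N19360 F208664) (tt N43649 (iv6 F314444)) (tt N37423 (iv7 F209618)))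
theorem Q37167 : ∀ i, i < 37167 → P i := stepQ 37166 Q37166 (allL N37166 (tt N18864 (iv1 D61100)) (tt N24806 (iv0 F315052)) (tt N37423 F209619) (tt N67951 D130148) (tt N67952 D130149) (tt N19361 (iv5 F97469)) (tt N67953 D130150) (tt N37427 (iv7 F209622)))
theorem Q37168 : ∀ i, i < 37168 → P i := stepQ 37167 Q37167 (allL N37167 (tt N67954 D130155) (tt N67955 D130156) (tt N64833 (iv2 F315287)) (tt N18866 F95616) (tt N54342 (iv4 F355374)) (tt N25279 (iv5 F320828)) (tt N18864 (iv6 D61102)) (tt N65402 (iv7 F319530)))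
theorem Q37169 : ∀ i, i < 37169 → P i := stepQ 37168 Q37168 (allL N37168 (tt N67941 (iv1 F208644)) (tt N18865 (iv0 D61103)) (tt N67939 (iv2 F342177)) (tt N65885 (iv3 F345540)) (tt N67956 D130161) (tt N65884 (iv5 F345539)) (tt N67957 D130163) (tt N67918 (iv7 F342174)))
theorem Q37170 : ∀ i, i < 37170 → P i := stepQ 37169 Q37169 (allL N37169 (tt N18865 (iv1 D61104)) (tt N67941 F208643) (tt N67918 (iv2 F342173)) (tt N67958 D130165) (tt N49236 (iv4 F342175)) (tt N67959 D130167) (tt N49235 (iv6 F342176)) (tt N67939 (iv7 F342178)))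
theorem Q37171 : ∀ i, i < 37171 → P i := stepQ 37170 Q37170 (allL N37170 (tt N60015 (iv1 F334379)) (tt N44675 F336082) (tt N67940 (iv2 F208640)) (tt N18867 F95617) (tt N34467 (iv4 F324072)) (tt N18865 (iv5 D61105)) (tt N25279 F322581) (tt N45813 (iv7 F324073)))
theorem Q37172 : ∀ i, i < 37172 → P i := stepQ 37171 Q37171 (allL N37171 (tt N67918 (iv1 F331840)) (tt N67939 F208642) (tt N67941 (iv2 F208641)) (tt N18868 F95618) (tt N67949 (iv4 F208661)) (tt N45813 F324233) (tt N38012 (iv6 F97194)) (tt N18865 (iv7 D61106)))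
theorem Q37173 : ∀ i, i < 37173 → P i := stepQ 37172 Q37172 (allL N37172 (tt N38085 (iv1 F97317)) (tt N38084 F97316) (tt N18885 F95630) (tt N38032 (iv3 F97257)) (tt N67424 (iv4 F207190)) (tt N67960 D130193) (tt N18869 (iv6 D61115)) (tt N38032 (iv7 F97258)))
theorem Q37174 : ∀ i, i < 37174 → P i := stepQ 37173 Q37173 (allL N37173 (tt N44779 (iv1 F313033)) (tt N38016 F208440) (tt N44791 (iv2 F315345)) (tt N18870 (iv3 D61118)) (tt N66202 F208362) (tt N24763 F312966) (tt N67961 D130195) (tt N18876 F95633))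
theorem Q37175 : ∀ i, i < 37175 → P i := stepQ 37174 Q37174 (allL N37174 (tt N67356 (iv1 F208712)) (tt N67962 D130197) (tt N18872 F95634) (tt N56701 F208363) (tt N18870 (iv4 D61119)) (tt N60688 (iv5 F343565)) (tt N67963 D130199) (tt N18877 F95635))
theorem Q37176 : ∀ i, i < 37176 → P i := stepQ 37175 Q37175 (allL N37175 (tt N36933 F212140) (tt N36526 (iv0 F310685)) (tt N18873 F95636) (tt N24763 (iv3 F310695)) (tt N35472 (iv4 F310696)) (tt N18870 (iv5 D61120)) (tt N24760 (iv6 F310697)) (tt N18878 F95637))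
theorem Q37177 : ∀ i, i < 37177 → P i := stepQ 37176 Q37176 (allL N37176 (tt N37958 (iv1 F341753)) (tt N67844 F341750) (tt N18874 F95638) (tt N67961 (iv3 F208705)) (tt N67963 (iv4 F208718)) (tt N67964 D130206) (tt N18870 (iv6 D61121)) (tt N67843 (iv7 F337772)))
theorem Q37178 : ∀ i, i < 37178 → P i := stepQ 37177 Q37177 (allL N37177 (tt N18871 (iv1 D61123)) (tt N67933 F208592) (tt N37999 (iv2 F208610)) (tt N38057 (iv3 F97287)) (tt N38606 (iv4 F211563)) (tt N67965 D130209) (tt N38037 (iv6 F325797)) (tt N67934 (iv7 F208628)))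
theorem Q37179 : ∀ i, i < 37179 → P i := stepQ 37178 Q37178 (allL N37178 (tt N67934 (iv1 F208629)) (tt N37999 (iv0 F208624)) (tt N18871 (iv2 D61124)) (tt N44791 F317567) (tt N19596 F208351) (tt N67966 D130211) (tt N67967 D130212) (tt N67933 (iv7 F208591)))
theorem Q37180 : ∀ i, i < 37180 → P i := stepQ 37179 Q37179 (allL N37179 (tt N19600 F95639) (tt N19598 (iv0 F95640)) (tt N19596 F208354) (tt N67968 D130213) (tt N18871 (iv4 D61125)) (tt N67969 D130214) (tt N67970 D130215) (tt N19597 F208355))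
theorem Q37181 : ∀ i, i < 37181 → P i := stepQ 37180 Q37180 (allL N37180 (tt N67951 (iv1 F216530)) (tt N63696 (iv0 F306860)) (tt N67966 (iv2 F208732)) (tt N18873 F95641) (tt N47361 (iv4 F315329)) (tt N18871 (iv5 D61126)) (tt N67971 D130219) (tt N47405 F312963))
theorem Q37182 : ∀ i, i < 37182 → P i := stepQ 37181 Q37181 (allL N37181 (tt N67972 D130221) (tt N67973 D130222) (tt N67967 (iv2 F208733)) (tt N18874 F95642) (tt N67970 (iv4 F208740)) (tt N67974 D130223) (tt N18871 (iv6 D61127)) (tt N67975 D130224))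
theorem Q37183 : ∀ i, i < 37183 → P i := stepQ 37182 Q37182 (allL N37182 (tt N37999 (iv1 F208625)) (tt N67934 F208630) (tt N67933 F208590) (tt N18875 F95643) (tt N19597 F208357) (tt N47405 F312962) (tt N67976 D130225) (tt N18871 (iv7 D61128)))
theorem Q37184 : ∀ i, i < 37184 → P i := stepQ 37183 Q37183 (allL N37183 (tt N18877 (iv1 F95649)) (tt N18872 (iv0 D61129)) (tt N67356 (iv2 F207730)) (tt N67977 D130226) (tt N37115 F95644) (tt N67978 D130227) (tt N67979 D130228) (tt N67962 (iv7 F208710)))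
theorem Q37185 : ∀ i, i < 37185 → P i := stepQ 37184 Q37184 (allL N37184 (tt N18872 (iv1 D61130)) (tt N18877 F95645) (tt N67962 (iv2 F208709)) (tt N67176 (iv3 F207736)) (tt N38869 (iv4 F207733)) (tt N67980 D130229) (tt N38044 F326943) (tt N67356 F207731))
theorem Q37186 : ∀ i, i < 37186 → P i := stepQ 37185 Q37185 (allL N37185 (tt N67326 F207096) (tt N67981 D130231) (tt N67982 D130232) (tt N18872 (iv3 D61131)) (tt N67968 (iv4 F208735)) (tt N67983 D130233) (tt N67984 D130234) (tt N67985 D130235))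
theorem Q37187 : ∀ i, i < 37187 → P i := stepQ 37186 Q37186 (allL N37186 (tt N65740 (iv1 F355972)) (tt N60518 (iv0 F354367)) (tt N60688 (iv2 F343564)) (tt N67983 (iv3 F208751)) (tt N67986 D130238) (tt N18872 (iv5 D61132)) (tt N67987 D130239) (tt N67988 D130240))
theorem Q37188 : ∀ i, i < 37188 → P i := stepQ 37187 Q37187 (allL N37187 (tt N67989 D130241) (tt N67990 D130242) (tt N67963 (iv2 F208717)) (tt N67984 (iv3 F208752)) (tt N18874 F95646) (tt N45881 (iv5 F354341)) (tt N18872 (iv6 D61133)) (tt N67991 D130244))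
theorem Q37189 : ∀ i, i < 37189 → P i := stepQ 37188 Q37188 (allL N37188 (tt N67962 (iv1 F208707)) (tt N67356 (iv0 F208711)) (tt N18877 F95647) (tt N67985 (iv3 F208753)) (tt N18875 F95648) (tt N67988 (iv5 F208757)) (tt N67992 D130245) (tt N18872 (iv7 D61134)))
theorem Q37190 : ∀ i, i < 37190 → P i := stepQ 37189 Q37189 (allL N37189 (tt N18878 (iv1 F95653)) (tt N18873 (iv0 D61135)) (tt N36933 (iv2 F208774)) (tt N38049 (iv3 F212096)) (tt N35377 (iv4 F310699)) (tt N36932 (iv5 F208777)) (tt N36598 F308614) (tt N36526 (iv7 F310688)))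
theorem Q37191 : ∀ i, i < 37191 → P i := stepQ 37190 Q37190 (allL N37190 (tt N67993 D130262) (tt N63570 (iv0 F315333)) (tt N24760 F312965) (tt N67971 (iv3 F208741)) (tt N36614 (iv4 F314469)) (tt N67994 D130264) (tt N18873 (iv6 D61138)) (tt N67995 D130265))
theorem Q37192 : ∀ i, i < 37192 → P i := stepQ 37191 Q37191 (allL N37191 (tt N36526 (iv1 F310686)) (tt N36933 (iv0 F212139)) (tt N18878 F95651) (tt N47405 (iv3 F310689)) (tt N35471 (iv4 F310690)) (tt N18875 F95652) (tt N67996 D130266) (tt N18873 (iv7 D61139)))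
theorem Q37193 : ∀ i, i < 37193 → P i := stepQ 37192 Q37192 (allL N37192 (tt N67843 (iv1 F337769)) (tt N18874 (iv0 D61140)) (tt N37958 (iv2 F337773)) (tt N38053 F338391) (tt N65127 (iv4 F341968)) (tt N65107 (iv5 F341966)) (tt N38067 F338370) (tt N67844 (iv7 F337776)))
theorem Q37194 : ∀ i, i < 37194 → P i := stepQ 37193 Q37193 (allL N37193 (tt N67997 D130277) (tt N48481 (iv0 F333916)) (tt N67964 (iv2 F208725)) (tt N67974 (iv3 F208744)) (tt N41823 (iv4 F333917)) (tt N18874 (iv5 D61142)) (tt N67994 (iv6 F208810)) (tt N41820 F333915))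
theorem Q37195 : ∀ i, i < 37195 → P i := stepQ 37194 Q37194 (allL N37194 (tt N67844 F341751) (tt N37958 (iv0 F341752)) (tt N67843 (iv2 F337770)) (tt N67975 (iv3 F208745)) (tt N67991 (iv4 F208759)) (tt N41820 F333914) (tt N67912 (iv6 F333896)) (tt N18874 (iv7 D61143)))
theorem Q37196 : ∀ i, i < 37196 → P i := stepQ 37195 Q37195 (allL N37195 (tt N67913 F334292) (tt N37994 F334293) (tt N18879 F95654) (tt N67976 (iv3 F208746)) (tt N67992 (iv4 F208761)) (tt N45811 F334291) (tt N18875 (iv6 D61144)) (tt N67912 (iv7 F333897)))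
theorem Q37197 : ∀ i, i < 37197 → P i := stepQ 37196 Q37196 (allL N37196 (tt N44791 F315437) (tt N18876 (iv0 D61145)) (tt N38016 (iv2 F208426)) (tt N38037 F97271) (tt N37965 F97060) (tt N44780 F315438) (tt N38057 F325488) (tt N44779 F315439))
theorem Q37198 : ∀ i, i < 37198 → P i := stepQ 37197 Q37197 (allL N37197 (tt N38016 (iv1 F208439)) (tt N44779 F315469) (tt N18876 (iv2 D61147)) (tt N67933 (iv3 F208588)) (tt N66198 (iv4 F208382)) (tt N67998 D130287) (tt N67999 D130288) (tt N44791 F315470))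
theorem Q37199 : ∀ i, i < 37199 → P i := stepQ 37198 Q37198 (allL N37198 (tt N37061 (iv1 F95656)) (tt N37058 (iv0 F95655)) (tt N66198 (iv2 F208383)) (tt N68000 D130289) (tt N18876 (iv4 D61148)) (tt N68001 D130290) (tt N68002 D130291) (tt N66202 (iv7 F208389)))
theorem Q37200 : ∀ i, i < 37200 → P i := stepQ 37199 Q37199 (allL N37199 (tt N68003 D130292) (tt N47572 (iv0 F315304)) (tt N67998 (iv2 F208822)) (tt N18878 F95657) (tt N68004 D130294) (tt N18876 (iv5 D61149)) (tt N68005 D130295) (tt N24763 F312961))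
theorem Q37201 : ∀ i, i < 37201 → P i := stepQ 37200 Q37200 (allL N37200 (tt N64142 (iv1 F334295)) (tt N64147 (iv0 F334296)) (tt N67999 (iv2 F208823)) (tt N18879 F95658) (tt N68002 (iv4 F208829)) (tt N46338 F334294) (tt N18876 (iv6 D61150)) (tt N68006 D130299))
theorem Q37202 : ∀ i, i < 37202 → P i := stepQ 37201 Q37201 (allL N37201 (tt N56703 F164615) (tt N56705 F164619) (tt N56702 (iv2 F218489)) (tt N18877 (iv3 D61151)) (tt N68000 (iv4 F208824)) (tt N35870 F343556) (tt N68007 D130302) (tt N56701 (iv7 F208387)))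
theorem Q37203 : ∀ i, i < 37203 → P i := stepQ 37202 Q37202 (allL N37202 (tt N60518 (iv1 F354368)) (tt N65740 (iv0 F355971)) (tt N67988 (iv2 F208756)) (tt N35870 F343555) (tt N58356 (iv4 F343562)) (tt N18877 (iv5 D61152)) (tt N68008 D130304) (tt N60688 (iv7 F343566)))
theorem Q37204 : ∀ i, i < 37204 → P i := stepQ 37203 Q37203 (allL N37203 (tt N60664 (iv1 F359788)) (tt N68009 D130306) (tt N67992 (iv2 F208760)) (tt N68007 (iv3 F208837)) (tt N18879 F95659) (tt N68010 D130307) (tt N18877 (iv6 D61153)) (tt N68011 D130308))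
theorem Q37205 : ∀ i, i < 37205 → P i := stepQ 37204 Q37204 (allL N37204 (tt N45673 (iv1 F340264)) (tt N68012 D130311) (tt N67996 (iv2 F208811)) (tt N68005 (iv3 F208833)) (tt N36617 (iv4 F314468)) (tt N68013 D130312) (tt N18878 (iv6 D61155)) (tt N68014 D130313))
theorem Q37206 : ∀ i, i < 37206 → P i := stepQ 37205 Q37205 (allL N37205 (tt N18879 (iv1 D61157)) (tt N67912 F333898) (tt N37994 (iv2 F333900)) (tt N38067 F338368) (tt N67443 (iv4 F361229)) (tt N46161 (iv5 F333902)) (tt N38053 F338392) (tt N67913 (iv7 F333904)))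
theorem Q37207 : ∀ i, i < 37207 → P i := stepQ 37206 Q37206 (allL N37206 (tt N34617 (iv1 F334288)) (tt N45810 (iv0 F334289)) (tt N45811 (iv2 F334285)) (tt N46338 (iv3 F334290)) (tt N68015 D130326) (tt N18879 (iv5 D61158)) (tt N68013 (iv6 F208843)) (tt N45812 F334284))
theorem Q37208 : ∀ i, i < 37208 → P i := stepQ 37207 Q37207 (allL N37207 (tt N37994 (iv1 F334286)) (tt N67913 (iv0 F334287)) (tt N67912 (iv2 F333894)) (tt N68006 (iv3 F208835)) (tt N68011 (iv4 F208841)) (tt N45812 F334282) (tt N67843 (iv6 F337771)) (tt N18879 (iv7 D61159)))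
theorem Q37209 : ∀ i, i < 37209 → P i := stepQ 37208 Q37208 (allL N37208 (tt N38346 (iv1 F98056)) (tt N38345 F98051) (tt N18883 F95663) (tt N40039 (iv3 F101056)) (tt N18880 (iv4 D61170)) (tt N22759 (iv5 F95664)) (tt N35347 (iv6 F309703)) (tt N38347 (iv7 F98054)))
theorem Q37210 : ∀ i, i < 37210 → P i := stepQ 37209 Q37209 (allL N37209 (tt N68016 D130329) (tt N68017 D130330) (tt N18884 F95665) (tt N38071 (iv3 F97303)) (tt N35347 (iv4 F309702)) (tt N38071 (iv5 F97304)) (tt N18880 (iv6 D61171)) (tt N43719 F307695))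
theorem Q37211 : ∀ i, i < 37211 → P i := stepQ 37210 Q37210 (allL N37210 (tt N52819 (iv1 F321373)) (tt N67965 (iv0 F208731)) (tt N44788 F315476) (tt N18881 (iv3 D61173)) (tt N63244 F186475) (tt N66426 (iv5 F327912)) (tt N68018 D130341) (tt N38370 (iv7 F212005)))
theorem Q37212 : ∀ i, i < 37212 → P i := stepQ 37211 Q37211 (allL N37211 (tt N46517 (iv1 F309716)) (tt N46239 (iv0 F309717)) (tt N38374 (iv2 F211999)) (tt N68019 D130345) (tt N18881 (iv4 D61174)) (tt N65370 (iv5 F309721)) (tt N21798 (iv6 F309723)) (tt N38371 (iv7 F212007)))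
theorem Q37213 : ∀ i, i < 37213 → P i := stepQ 37212 Q37212 (allL N37212 (tt N66839 (iv1 F309724)) (tt N42724 (iv0 F309725)) (tt N38375 (iv2 F212001)) (tt N68018 (iv3 F208863)) (tt N21798 (iv4 F309722)) (tt N46308 F330147) (tt N18881 (iv6 D61176)) (tt N66835 (iv7 F309726)))
theorem Q37214 : ∀ i, i < 37214 → P i := stepQ 37213 Q37213 (allL N37213 (tt N46239 F310786) (tt N46517 F310787) (tt N38371 (iv2 F212006)) (tt N43083 F310788) (tt N18882 (iv4 D61179)) (tt N44395 (iv5 F208889)) (tt N46484 (iv6 F313023)) (tt N38374 (iv7 F212000)))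
theorem Q37215 : ∀ i, i < 37215 → P i := stepQ 37214 Q37214 (allL N37214 (tt N66879 (iv1 F314368)) (tt N68020 D130366) (tt N38372 (iv2 F212008)) (tt N44787 (iv3 F313021)) (tt N46484 F313049) (tt N66420 (iv5 F329421)) (tt N18882 (iv6 D61181)) (tt N68021 D130368))
theorem Q37216 : ∀ i, i < 37216 → P i := stepQ 37215 Q37215 (allL N37215 (tt N38347 (iv1 F98055)) (tt N18883 (iv0 D61182)) (tt N38346 (iv2 F214133)) (tt N22862 (iv3 F309712)) (tt N46812 (iv4 F309714)) (tt N22722 F208886) (tt N22859 (iv6 F309715)) (tt N38345 (iv7 F214140)))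
theorem Q37217 : ∀ i, i < 37217 → P i := stepQ 37216 Q37216 (allL N37216 (tt N18883 (iv1 D61183)) (tt N38347 F98057) (tt N38345 (iv2 F214139)) (tt N68022 D130374) (tt N43159 (iv4 F108230)) (tt N22723 F208892) (tt N68023 D130375) (tt N38346 (iv7 F214134)))
theorem Q37218 : ∀ i, i < 37218 → P i := stepQ 37217 Q37217 (allL N37217 (tt N43719 F307692) (tt N18884 (iv0 D61185)) (tt N68016 (iv2 F307700)) (tt N68024 D130381) (tt N66718 (iv4 F309698)) (tt N68025 D130383) (tt N66717 (iv6 F309699)) (tt N68017 (iv7 F307699)))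
theorem Q37219 : ∀ i, i < 37219 → P i := stepQ 37218 Q37218 (allL N37218 (tt N18884 (iv1 D61186)) (tt N43719 F306307) (tt N68017 (iv2 F307698)) (tt N34437 (iv3 F309697)) (tt N42438 (iv4 F308258)) (tt N68026 D130388) (tt N42436 (iv6 F308259)) (tt N68016 (iv7 F307701)))
theorem Q37220 : ∀ i, i < 37220 → P i := stepQ 37219 Q37219 (allL N37219 (tt N68017 (iv1 F208849)) (tt N68016 F208851) (tt N43719 (iv2 F305680)) (tt N18891 F95670) (tt N34322 (iv4 F305681)) (tt N38083 (iv5 F97314)) (tt N38377 (iv6 F98105)) (tt N18884 (iv7 D61187)))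
theorem Q37221 : ∀ i, i < 37221 → P i := stepQ 37220 Q37220 (allL N37220 (tt N38032 (iv1 F97260)) (tt N18885 (iv0 D61188)) (tt N38085 F346985) (tt N66366 (iv3 F347004)) (tt N68027 D130392) (tt N68028 D130393) (tt N68029 D130394) (tt N38084 (iv7 F346994)))
theorem Q37222 : ∀ i, i < 37222 → P i := stepQ 37221 Q37221 (allL N37221 (tt N18885 (iv1 D61189)) (tt N38032 F97259) (tt N38084 (iv2 F346993)) (tt N68030 D130396) (tt N68031 D130397) (tt N68032 D130398) (tt N66358 (iv6 F346968)) (tt N38085 F346992))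
theorem Q37223 : ∀ i, i < 37223 → P i := stepQ 37222 Q37222 (allL N37222 (tt N68033 D130400) (tt N68034 D130401) (tt N67960 (iv2 F208702)) (tt N18893 F95671) (tt N44744 (iv4 F306316)) (tt N18885 (iv5 D61190)) (tt N24076 F304354) (tt N38086 (iv7 F97320)))
theorem Q37224 : ∀ i, i < 37224 → P i := stepQ 37223 Q37223 (allL N37223 (tt N38092 (iv1 F97339)) (tt N18886 (iv0 D61196)) (tt N38090 F130948) (tt N68035 D130423) (tt N19110 F130949) (tt N24008 (iv5 F311142)) (tt N68036 D130425) (tt N38091 F130950))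
theorem Q37225 : ∀ i, i < 37225 → P i := stepQ 37224 Q37224 (allL N37224 (tt N18886 (iv1 D61197)) (tt N38092 F97338) (tt N38091 (iv2 F130945)) (tt N42724 (iv3 F306589)) (tt N19111 F130756) (tt N23694 (iv5 F314100)) (tt N42723 F304571) (tt N38090 (iv7 F130944)))
theorem Q37226 : ∀ i, i < 37226 → P i := stepQ 37225 Q37225 (allL N37225 (tt N38091 (iv1 F97331)) (tt N38090 F97337) (tt N38092 (iv2 F97334)) (tt N23471 (iv3 F309591)) (tt N19010 F95676) (tt N23121 (iv5 F314097)) (tt N38097 (iv6 F97355)) (tt N18886 (iv7 D61199)))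
theorem Q37227 : ∀ i, i < 37227 → P i := stepQ 37226 Q37226 (allL N37226 (tt N53259 (iv1 F315093)) (tt N42778 (iv0 F315096)) (tt N44798 (iv2 F315090)) (tt N18970 F95678) (tt N18887 (iv4 D61203)) (tt N68037 D130437) (tt N68038 D130438) (tt N38088 (iv7 F97329)))
theorem Q37228 : ∀ i, i < 37228 → P i := stepQ 37227 Q37227 (allL N37227 (tt N52831 (iv1 F351714)) (tt N68039 D130440) (tt N44799 (iv2 F315092)) (tt N18888 F95679) (tt N68038 (iv4 F208950)) (tt N66565 (iv5 F323659)) (tt N18887 (iv6 D61204)) (tt N68040 D130442))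
theorem Q37229 : ∀ i, i < 37229 → P i := stepQ 37228 Q37228 (allL N37228 (tt N38097 (iv1 F97358)) (tt N18888 (iv0 D61205)) (tt N38094 (iv2 F182267)) (tt N66879 (iv3 F311474)) (tt N19104 F102701) (tt N45714 (iv5 F318579)) (tt N44766 F304936) (tt N38095 (iv7 F182269)))
theorem Q37230 : ∀ i, i < 37230 → P i := stepQ 37229 Q37229 (allL N37229 (tt N18888 (iv1 D61206)) (tt N38097 F97357) (tt N38095 F182268) (tt N68041 D130446) (tt N19105 F101354) (tt N22543 (iv5 F320266)) (tt N44082 (iv6 F320269)) (tt N38094 F182262))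
theorem Q37231 : ∀ i, i < 37231 → P i := stepQ 37230 Q37230 (allL N37230 (tt N38095 (iv1 F97350)) (tt N38094 F97356) (tt N38097 (iv2 F97353)) (tt N68040 (iv3 F208953)) (tt N18974 F95681) (tt N42870 (iv5 F320263)) (tt N38092 (iv6 F97336)) (tt N18888 (iv7 D61208)))
theorem Q37232 : ∀ i, i < 37232 → P i := stepQ 37231 Q37231 (allL N37231 (tt N57420 (iv1 F313485)) (tt N40594 (iv0 F314876)) (tt N38099 (iv2 F209005)) (tt N44811 (iv3 F315246)) (tt N20765 F312421) (tt N18889 (iv5 D61212)) (tt N46142 F308179) (tt N38102 F209014))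
theorem Q37233 : ∀ i, i < 37233 → P i := stepQ 37232 Q37232 (allL N37232 (tt N44082 F320871) (tt N68042 D130476) (tt N38100 (iv2 F209008)) (tt N44812 (iv3 F315248)) (tt N41053 F317138) (tt N68043 D130477) (tt N18889 (iv6 D61213)) (tt N68044 D130478))
theorem Q37234 : ∀ i, i < 37234 → P i := stepQ 37233 Q37233 (allL N37233 (tt N44807 (iv1 F316722)) (tt N44680 (iv0 F316720)) (tt N44808 (iv2 F314795)) (tt N18890 (iv3 D61215)) (tt N53873 F312371) (tt N23446 F314374) (tt N68045 D130484) (tt N38098 (iv7 F209004)))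
theorem Q37235 : ∀ i, i < 37235 → P i := stepQ 37234 Q37234 (allL N37234 (tt N40594 (iv1 F314877)) (tt N57420 (iv0 F313484)) (tt N38102 (iv2 F209015)) (tt N23446 (iv3 F312331)) (tt N20766 F312506) (tt N18890 (iv5 D61217)) (tt N23444 F310053) (tt N38099 (iv7 F209007)))
theorem Q37236 : ∀ i, i < 37236 → P i := stepQ 37235 Q37235 (allL N37235 (tt N53063 (iv1 F306584)) (tt N68036 (iv0 F209050)) (tt N38103 F209026) (tt N68045 (iv3 F209047)) (tt N41048 F313458) (tt N47530 (iv5 F310552)) (tt N18890 (iv6 D61218)) (tt N68046 D130488))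
theorem Q37237 : ∀ i, i < 37237 → P i := stepQ 37236 Q37236 (allL N37236 (tt N37998 F321679) (tt N38020 F317545) (tt N44796 (iv2 F308630)) (tt N18892 (iv3 D61220)) (tt N68047 D130492) (tt N46423 (iv5 F307526)) (tt N62398 (iv6 F181164)) (tt N38104 (iv7 F98843)))
theorem Q37238 : ∀ i, i < 37238 → P i := stepQ 37237 Q37237 (allL N37237 (tt N37921 (iv1 F102051)) (tt N37964 (iv0 F102048)) (tt N66141 (iv2 F203457)) (tt N68048 D130502) (tt N18894 (iv4 D61229)) (tt N68049 D130503) (tt N66405 (iv6 F204109)) (tt N38105 (iv7 F97373)))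
theorem Q37239 : ∀ i, i < 37239 → P i := stepQ 37238 Q37238 (allL N37238 (tt N60013 F175214) (tt N36911 (iv0 F101884)) (tt N66142 (iv2 F203460)) (tt N18896 F95688) (tt N68050 D130504) (tt N18894 (iv5 D61230)) (tt N36927 F95689) (tt N38106 (iv7 F97375)))
theorem Q37240 : ∀ i, i < 37240 → P i := stepQ 37239 Q37239 (allL N37239 (tt N37940 F337577) (tt N37983 (iv0 F337578)) (tt N67815 (iv2 F350874)) (tt N18895 (iv3 D61232)) (tt N68048 (iv4 F209064)) (tt N45600 (iv5 F307534)) (tt N66519 (iv6 F204340)) (tt N38108 (iv7 F97381)))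
theorem Q37241 : ∀ i, i < 37241 → P i := stepQ 37240 Q37240 (allL N37240 (tt N36970 F98508) (tt N36970 F98509) (tt N24122 (iv2 F305438)) (tt N68051 D130512) (tt N18896 (iv4 D61234)) (tt N24069 F304916) (tt N36928 F95691) (tt N24122 (iv7 F305439)))

end Cfsg.Agent.Helper17.ONTC
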