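import Cfsg.Agent.Helper17.ONTC.Fin16

set_option autoImplicit false
set_option linter.all false
set_option maxRecDepth 100000

noncomputable section

namespace Cfsg.Agent.Helper17.ONTC

theorem Q37242 : ∀ i, i < 37242 → P i := stepQ 37241 Q37241 (allL N37241 (tt N30433 F95694) (tt N30432 F95695) (tt N30451 F95692) (tt N68052 D130513) (tt N18897 (iv4 D61235)) (tt N57367 (iv5 F166308)) (tt N68053 D130514) (tt N30452 F95693))
theorem Q37243 : ∀ i, i < 37243 → P i := stepQ 37242 Q37242 (allL N37242 (tt N68054 D130515) (tt N68055 D130516) (tt N38163 (iv2 F97561)) (tt N30164 F95696) (tt N68053 (iv4 F209076)) (tt N32984 F95697) (tt N18897 (iv6 D61236)) (tt N60041 (iv7 F175358)))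
theorem Q37244 : ∀ i, i < 37244 → P i := stepQ 37243 Q37243 (allL N37243 (tt N30432 F95700) (tt N30433 F95701) (tt N30452 F95698) (tt N68056 D130517) (tt N18898 (iv4 D61237)) (tt N57366 (iv5 F166301)) (tt N36082 (iv6 F100397)) (tt N30451 F95699))
theorem Q37245 : ∀ i, i < 37245 → P i := stepQ 37244 Q37244 (allL N37244 (tt N68057 D130518) (tt N68058 D130519) (tt N68059 D130520) (tt N18899 (iv3 D61238)) (tt N18908 F95702) (tt N57399 (iv5 F166373)) (tt N68060 D130521) (tt N38165 (iv7 F97570)))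
theorem Q37246 : ∀ i, i < 37246 → P i := stepQ 37245 Q37245 (allL N37245 (tt N57345 (iv1 F166261)) (tt N44465 (iv0 F166081)) (tt N39255 (iv2 F99713)) (tt N68060 (iv3 F209089)) (tt N18900 F95703) (tt N68061 D130522) (tt N18899 (iv6 D61239)) (tt N68062 D130523))
theorem Q37247 : ∀ i, i < 37247 → P i := stepQ 37246 Q37246 (allL N37246 (tt N39258 (iv1 F99721)) (tt N18900 (iv0 D61240)) (tt N39256 (iv2 F111311)) (tt N30169 F111330) (tt N68063 D130524) (tt N37275 (iv5 F111328)) (tt N20002 F95704) (tt N39257 (iv7 F111312)))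
theorem Q37248 : ∀ i, i < 37248 → P i := stepQ 37247 Q37247 (allL N37247 (tt N18900 (iv1 D61241)) (tt N39258 F99720) (tt N39257 F111306) (tt N22664 F111315) (tt N68064 D130525) (tt N44186 (iv5 F111063)) (tt N68065 D130526) (tt N39256 F111310))
theorem Q37249 : ∀ i, i < 37249 → P i := stepQ 37248 Q37248 (allL N37248 (tt N39257 (iv1 F99716)) (tt N39256 F99719) (tt N39258 (iv2 F99717)) (tt N18913 F95705) (tt N68062 (iv4 F209091)) (tt N30295 F95706) (tt N38170 (iv6 F97583)) (tt N18900 (iv7 D61242)))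
theorem Q37250 : ∀ i, i < 37250 → P i := stepQ 37249 Q37249 (allL N37249 (tt N68066 D130527) (tt N68067 D130528) (tt N68068 D130529) (tt N18901 (iv3 D61243)) (tt N39858 (iv4 F100735)) (tt N68069 D130530) (tt N68070 D130531) (tt N38171 (iv7 F97585)))
theorem Q37251 : ∀ i, i < 37251 → P i := stepQ 37250 Q37250 (allL N37250 (tt N30648 F95708) (tt N31484 F95709) (tt N37459 (iv2 F96031)) (tt N68069 (iv3 F209106)) (tt N18920 F95707) (tt N18901 (iv5 D61244)) (tt N68071 D130532) (tt N37461 (iv7 F96039)))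
theorem Q37252 : ∀ i, i < 37252 → P i := stepQ 37251 Q37251 (allL N37251 (tt N68072 D130533) (tt N68073 D130534) (tt N38175 (iv2 F97593)) (tt N68070 (iv3 F209107)) (tt N18902 F95710) (tt N65695 (iv5 F344595)) (tt N18901 (iv6 D61245)) (tt N68074 D130536))
theorem Q37253 : ∀ i, i < 37253 → P i := stepQ 37252 Q37252 (allL N37252 (tt N38178 (iv1 F97601)) (tt N18902 (iv0 D61246)) (tt N38176 (iv2 F168405)) (tt N39262 (iv3 F168408)) (tt N68075 D130537) (tt N60880 (iv5 F326884)) (tt N60350 (iv6 F176251)) (tt N38177 F168404))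
theorem Q37254 : ∀ i, i < 37254 → P i := stepQ 37253 Q37253 (allL N37253 (tt N18902 (iv1 D61247)) (tt N38178 F97600) (tt N38177 F168402) (tt N68055 (iv3 F214317)) (tt N68076 D130540) (tt N56711 (iv5 F164635)) (tt N39516 F165238) (tt N38176 (iv7 F168403)))
theorem Q37255 : ∀ i, i < 37255 → P i := stepQ 37254 Q37254 (allL N37254 (tt N38177 (iv1 F97595)) (tt N38176 F97599) (tt N38178 (iv2 F97596)) (tt N33274 F95711) (tt N68074 (iv4 F209118)) (tt N29968 F95712) (tt N32327 F95713) (tt N18902 (iv7 D61248)))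
theorem Q37256 : ∀ i, i < 37256 → P i := stepQ 37255 Q37255 (allL N37255 (tt N30240 F95717) (tt N30249 F95718) (tt N30247 F95714) (tt N18905 F95715) (tt N57535 (iv4 F167066)) (tt N29494 F95716) (tt N18903 (iv6 D61249)) (tt N30246 (iv7 F162152)))
theorem Q37257 : ∀ i, i < 37257 → P i := stepQ 37256 Q37256 (allL N37256 (tt N68077 D130541) (tt N68078 D130542) (tt N68079 D130543) (tt N18904 (iv3 D61250)) (tt N57533 (iv4 F167060)) (tt N68080 D130544) (tt N68081 D130545) (tt N38174 (iv7 F97592)))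
theorem Q37258 : ∀ i, i < 37258 → P i := stepQ 37257 Q37257 (allL N37257 (tt N31484 F95720) (tt N30648 F95721) (tt N37461 (iv2 F96037)) (tt N68080 (iv3 F209130)) (tt N18918 F95719) (tt N18904 (iv5 D61251)) (tt N68082 D130546) (tt N37459 (iv7 F96032)))
theorem Q37259 : ∀ i, i < 37259 → P i := stepQ 37258 Q37258 (allL N37258 (tt N30382 F95724) (tt N33536 F95725) (tt N32326 F95722) (tt N68081 (iv3 F209131)) (tt N18905 F95723) (tt N68083 D130547) (tt N18904 (iv6 D61252)) (tt N33534 (iv7 F165828)))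
theorem Q37260 : ∀ i, i < 37260 → P i := stepQ 37259 Q37259 (allL N37259 (tt N68084 D130548) (tt N68085 D130549) (tt N68086 D130550) (tt N18906 (iv3 D61253)) (tt N39900 (iv4 F100842)) (tt N68087 D130551) (tt N68088 D130552) (tt N38179 (iv7 F97602)))
theorem Q37261 : ∀ i, i < 37261 → P i := stepQ 37260 Q37260 (allL N37260 (tt N19448 F95729) (tt N32109 F95730) (tt N37463 F96046) (tt N68087 (iv3 F209136)) (tt N18916 F95728) (tt N18906 (iv5 D61254)) (tt N68089 D130553) (tt N37464 (iv7 F96049)))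
theorem Q37262 : ∀ i, i < 37262 → P i := stepQ 37261 Q37261 (allL N37261 (tt N68075 F209121) (tt N68076 (iv0 F209129)) (tt N37707 (iv2 F96492)) (tt N68088 (iv3 F209137)) (tt N30015 F95731) (tt N68090 D130554) (tt N18906 (iv6 D61255)) (tt N62669 (iv7 F182966)))
theorem Q37263 : ∀ i, i < 37263 → P i := stepQ 37262 Q37262 (allL N37262 (tt N68091 D130555) (tt N68092 D130556) (tt N68093 D130557) (tt N18907 (iv3 D61256)) (tt N68094 D130558) (tt N68095 D130559) (tt N62670 (iv6 F182968)) (tt N37709 (iv7 F96497)))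
theorem Q37264 : ∀ i, i < 37264 → P i := stepQ 37263 Q37263 (allL N37263 (tt N32109 F95733) (tt N19448 F95734) (tt N37464 F96052) (tt N68095 (iv3 F209143)) (tt N18914 F95732) (tt N18907 (iv5 D61257)) (tt N68096 D130560) (tt N37463 F96047))
theorem Q37265 : ∀ i, i < 37265 → P i := stepQ 37264 Q37264 (allL N37264 (tt N38182 (iv1 F97605)) (tt N18908 (iv0 D61258)) (tt N38181 (iv2 F322126)) (tt N25129 F316057) (tt N25142 (iv4 F318269)) (tt N68097 D130563) (tt N68098 D130564) (tt N38180 F320426))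
theorem Q37266 : ∀ i, i < 37266 → P i := stepQ 37265 Q37265 (allL N37265 (tt N18908 (iv1 D61259)) (tt N38182 F97607) (tt N38180 F320425) (tt N68099 D130566) (tt N65324 (iv4 F323572)) (tt N68100 D130568) (tt N68101 D130569) (tt N38181 (iv7 F322127)))
theorem Q37267 : ∀ i, i < 37267 → P i := stepQ 37266 Q37266 (allL N37266 (tt N38181 (iv1 F97606)) (tt N38180 F97603) (tt N18908 (iv2 D61260)) (tt N28905 F329290) (tt N68059 (iv4 F209088)) (tt N68102 D130570) (tt N28904 (iv6 F329578)) (tt N38182 (iv7 F97604)))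
theorem Q37268 : ∀ i, i < 37268 → P i := stepQ 37267 Q37267 (allL N37267 (tt N68103 D130572) (tt N68104 D130573) (tt N68102 (iv2 F209148)) (tt N18909 F95735) (tt N68105 D130574) (tt N18908 (iv5 D61261)) (tt N68106 D130575) (tt N38183 (iv7 F97609)))
theorem Q37269 : ∀ i, i < 37269 → P i := stepQ 37268 Q37268 (allL N37268 (tt N51807 (iv1 F346789)) (tt N68107 D130577) (tt N28904 F329737) (tt N18910 F95736) (tt N68060 (iv4 F209090)) (tt N68108 D130578) (tt N18908 (iv6 D61262)) (tt N68109 D130579))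
theorem Q37270 : ∀ i, i < 37270 → P i := stepQ 37269 Q37269 (allL N37269 (tt N68110 D130580) (tt N68111 D130581) (tt N38212 (iv2 F97671)) (tt N68106 (iv3 F209151)) (tt N32169 F95737) (tt N68112 D130582) (tt N18909 (iv6 D61263)) (tt N68113 D130583))
theorem Q37271 : ∀ i, i < 37271 → P i := stepQ 37270 Q37270 (allL N37270 (tt N28914 F329592) (tt N18910 (iv0 D61264)) (tt N60127 (iv2 F175720)) (tt N56186 (iv3 F331284)) (tt N20829 F165091) (tt N45001 (iv5 F331290)) (tt N20828 F165092) (tt N60128 (iv7 F175726)))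
theorem Q37272 : ∀ i, i < 37272 → P i := stepQ 37271 Q37271 (allL N37271 (tt N18910 (iv1 D61265)) (tt N28914 F329591) (tt N60128 (iv2 F175725)) (tt N68114 D130586) (tt N30637 (iv4 F163691)) (tt N68115 D130587) (tt N68116 D130588) (tt N60127 (iv7 F175722)))
theorem Q37273 : ∀ i, i < 37273 → P i := stepQ 37272 Q37272 (allL N37272 (tt N66538 (iv1 F204375)) (tt N66541 (iv0 F204378)) (tt N60163 (iv2 F175824)) (tt N68108 (iv3 F209152)) (tt N68117 D130589) (tt N18910 (iv5 D61266)) (tt N68112 (iv6 F209154)) (tt N68118 D130590))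
theorem Q37274 : ∀ i, i < 37274 → P i := stepQ 37273 Q37273 (allL N37273 (tt N60128 (iv1 F175728)) (tt N60127 (iv0 F175723)) (tt N28914 F329593) (tt N68109 (iv3 F209153)) (tt N18913 F95738) (tt N68118 (iv5 F209161)) (tt N38188 (iv6 F97614)) (tt N18910 (iv7 D61267)))
theorem Q37275 : ∀ i, i < 37275 → P i := stepQ 37274 Q37274 (allL N37274 (tt N57642 (iv1 F167282)) (tt N32098 F111342) (tt N41170 F111340) (tt N68119 D130591) (tt N18911 (iv4 D61270)) (tt N51942 (iv5 F297682)) (tt N40139 (iv6 F111341)) (tt N57640 (iv7 F167276)))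
theorem Q37276 : ∀ i, i < 37276 → P i := stepQ 37275 Q37275 (allL N37275 (tt N22603 F111325) (tt N44191 F111326) (tt N39876 F111327) (tt N18912 (iv3 D61272)) (tt N57544 (iv4 F167086)) (tt N37246 F111328) (tt N68120 D130592) (tt N44190 F111329))
theorem Q37277 : ∀ i, i < 37277 → P i := stepQ 37276 Q37276 (allL N37276 (tt N32098 (iv1 F104360)) (tt N57642 F167281) (tt N57640 F167278) (tt N68121 D130593) (tt N18912 (iv4 D61273)) (tt N55207 (iv5 F350573)) (tt N68122 D130594) (tt N41170 F111332))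
theorem Q37278 : ∀ i, i < 37278 → P i := stepQ 37277 Q37277 (allL N37277 (tt N60349 F176246) (tt N60350 (iv0 F176250)) (tt N60164 (iv2 F175830)) (tt N68120 (iv3 F209162)) (tt N68122 (iv4 F209166)) (tt N56932 (iv5 F165075)) (tt N18912 (iv6 D61274)) (tt N56932 (iv7 F165076)))
theorem Q37279 : ∀ i, i < 37279 → P i := stepQ 37278 Q37278 (allL N37278 (tt N68123 D130595) (tt N68124 D130596) (tt N38201 (iv2 F97642)) (tt N63828 (iv3 F189766)) (tt N68096 (iv4 F209144)) (tt N45014 (iv5 F114335)) (tt N18914 (iv6 D61275)) (tt N68125 D130597))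
theorem Q37280 : ∀ i, i < 37280 → P i := stepQ 37279 Q37279 (allL N37279 (tt N38198 (iv1 F97631)) (tt N18915 (iv0 D61276)) (tt N32451 (iv2 F95743)) (tt N30522 F95741) (tt N30062 F95742) (tt N32176 (iv5 F139270)) (tt N29524 F95744) (tt N32615 F95745))
theorem Q37281 : ∀ i, i < 37281 → P i := stepQ 37280 Q37280 (allL N37280 (tt N43112 F108148) (tt N50009 (iv0 F138536)) (tt N53059 F152165) (tt N18916 F95746) (tt N51515 (iv4 F145403)) (tt N18915 (iv5 D61277)) (tt N68126 D130598) (tt N38199 (iv7 F97635)))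
theorem Q37282 : ∀ i, i < 37282 → P i := stepQ 37281 Q37281 (allL N37281 (tt N68127 D130599) (tt N68128 D130600) (tt N38197 (iv2 F97627)) (tt N68126 (iv3 F209170)) (tt N68089 (iv4 F209138)) (tt N42391 (iv5 F106102)) (tt N18916 (iv6 D61278)) (tt N68129 D130601))
theorem Q37283 : ∀ i, i < 37283 → P i := stepQ 37282 Q37282 (allL N37282 (tt N21969 F95751) (tt N21971 F95750) (tt N30414 F95747) (tt N18918 F95748) (tt N68130 D130602) (tt N18917 (iv5 D61279)) (tt N68131 D130603) (tt N30413 F95749))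
theorem Q37284 : ∀ i, i < 37284 → P i := stepQ 37283 Q37283 (allL N37283 (tt N68132 D130604) (tt N68133 D130605) (tt N37462 (iv2 F96042)) (tt N68131 (iv3 F209176)) (tt N68082 (iv4 F209133)) (tt N32967 F95752) (tt N18918 (iv6 D61280)) (tt N68134 D130606))
theorem Q37285 : ∀ i, i < 37285 → P i := stepQ 37284 Q37284 (allL N37284 (tt N26940 (iv1 F95754)) (tt N18919 (iv0 D61281)) (tt N38203 (iv2 F114366)) (tt N29971 (iv3 F95755)) (tt N30060 F95753) (tt N51308 (iv5 F144713)) (tt N29821 (iv6 F114369)) (tt N38202 F114365))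
theorem Q37286 : ∀ i, i < 37286 → P i := stepQ 37285 Q37285 (allL N37285 (tt N18919 (iv1 D61282)) (tt N26940 (iv0 F95757)) (tt N38202 F114362) (tt N58905 F171420) (tt N29888 (iv4 F114361)) (tt N51307 (iv5 F144710)) (tt N26935 F114363) (tt N38203 (iv7 F114364)))
theorem Q37287 : ∀ i, i < 37287 → P i := stepQ 37286 Q37286 (allL N37286 (tt N38203 (iv1 F97646)) (tt N38202 F97645) (tt N18919 (iv2 D61283)) (tt N30412 F95758) (tt N34407 F95759) (tt N27126 (iv5 F95765)) (tt N41341 (iv6 F103975)) (tt N26940 F95760))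
theorem Q37288 : ∀ i, i < 37288 → P i := stepQ 37287 Q37287 (allL N37287 (tt N27129 F143174) (tt N27084 (iv0 F95763)) (tt N27126 F95764) (tt N18920 F95761) (tt N68135 D130607) (tt N18919 (iv5 D61284)) (tt N68136 D130608) (tt N27127 F95762))
theorem Q37289 : ∀ i, i < 37289 → P i := stepQ 37288 Q37288 (allL N37288 (tt N68137 D130609) (tt N68138 D130610) (tt N37460 (iv2 F96036)) (tt N68136 (iv3 F209185)) (tt N68071 (iv4 F209108)) (tt N42375 (iv5 F106073)) (tt N18920 (iv6 D61285)) (tt N68139 D130611))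
theorem Q37290 : ∀ i, i < 37290 → P i := stepQ 37289 Q37289 (allL N37289 (tt N58905 (iv1 F171417)) (tt N56603 (iv0 F164404)) (tt N30075 F95766) (tt N18921 (iv3 D61286)) (tt N30073 F95767) (tt N68140 D130612) (tt N50091 (iv6 F139450)) (tt N30070 F95768))
theorem Q37291 : ∀ i, i < 37291 → P i := stepQ 37290 Q37290 (allL N37290 (tt N32810 F95769) (tt N19446 F95770) (tt N37456 F96024) (tt N68140 (iv3 F209188)) (tt N68141 D130613) (tt N18921 (iv5 D61287)) (tt N68142 D130614) (tt N37455 (iv7 F96029)))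
theorem Q37292 : ∀ i, i < 37292 → P i := stepQ 37291 Q37291 (allL N37291 (tt N56033 F162382) (tt N23250 (iv0 F95774)) (tt N38205 (iv2 F97653)) (tt N50091 F139448) (tt N30532 F95772) (tt N32882 F95773) (tt N18921 (iv6 D61288)) (tt N42356 (iv7 F106045)))
theorem Q37293 : ∀ i, i < 37293 → P i := stepQ 37292 Q37292 (allL N37292 (tt N19446 F95775) (tt N32810 (iv0 F95776)) (tt N37455 F96027) (tt N57701 (iv3 F167458)) (tt N68143 D130615) (tt N18922 (iv5 D61289)) (tt N68144 D130616) (tt N37456 F96026))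
theorem Q37294 : ∀ i, i < 37294 → P i := stepQ 37293 Q37293 (allL N37293 (tt N63425 F187378) (tt N56457 (iv0 F163781)) (tt N61357 (iv2 F178683)) (tt N68145 D130617) (tt N18924 (iv4 D61290)) (tt N68146 D130618) (tt N68147 D130619) (tt N38207 (iv7 F97659)))
theorem Q37295 : ∀ i, i < 37295 → P i := stepQ 37294 Q37294 (allL N37294 (tt N68148 D130620) (tt N68149 D130621) (tt N61358 (iv2 F178686)) (tt N18926 F95777) (tt N68147 (iv4 F209197)) (tt N41304 (iv5 F103895)) (tt N18924 (iv6 D61291)) (tt N68150 D130622))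
theorem Q37296 : ∀ i, i < 37296 → P i := stepQ 37295 Q37295 (allL N37295 (tt N68151 D130623) (tt N68152 D130624) (tt N68153 D130625) (tt N18925 (iv3 D61292)) (tt N68145 (iv4 F209195)) (tt N32164 F95778) (tt N68154 D130626) (tt N38211 (iv7 F97670)))
theorem Q37297 : ∀ i, i < 37297 → P i := stepQ 37296 Q37296 (allL N37296 (tt N68155 D130627) (tt N68156 D130628) (tt N38185 (iv2 F97611)) (tt N68154 (iv3 F209200)) (tt N18926 F95779) (tt N68157 D130629) (tt N18925 (iv6 D61293)) (tt N68158 D130630))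
theorem Q37298 : ∀ i, i < 37298 → P i := stepQ 37297 Q37297 (allL N37297 (tt N60168 (iv1 F175843)) (tt N18926 (iv0 D61294)) (tt N51352 (iv2 F157672)) (tt N68159 D130631) (tt N68160 D130632) (tt N68161 D130633) (tt N51345 F157671) (tt N60167 (iv7 F175837)))
theorem Q37299 : ∀ i, i < 37299 → P i := stepQ 37298 Q37298 (allL N37298 (tt N18926 (iv1 D61295)) (tt N60168 F175842) (tt N60167 F175838) (tt N51361 (iv3 F157674)) (tt N68162 D130634) (tt N68163 D130635) (tt N68164 D130636) (tt N51352 F157673))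
theorem Q37300 : ∀ i, i < 37300 → P i := stepQ 37299 Q37299 (allL N37299 (tt N60167 (iv1 F175836)) (tt N51352 F175839) (tt N60168 (iv2 F175840)) (tt N68150 (iv3 F209198)) (tt N68158 (iv4 F209202)) (tt N41308 (iv5 F103899)) (tt N38215 (iv6 F97673)) (tt N18926 (iv7 D61296)))
theorem Q37301 : ∀ i, i < 37301 → P i := stepQ 37300 Q37300 (allL N37300 (tt N68165 D130637) (tt N68166 D130638) (tt N38169 (iv2 F97578)) (tt N18929 F95780) (tt N36994 F95781) (tt N30730 F95782) (tt N18927 (iv6 D61297)) (tt N68167 D130639))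
theorem Q37302 : ∀ i, i < 37302 → P i := stepQ 37301 Q37301 (allL N37301 (tt N42353 F355263) (tt N68168 D130641) (tt N68169 D130642) (tt N18928 (iv3 D61298)) (tt N36992 F95783) (tt N65393 (iv5 F322396)) (tt N68170 D130644) (tt N38217 (iv7 F97676)))
theorem Q37303 : ∀ i, i < 37303 → P i := stepQ 37302 Q37302 (allL N37302 (tt N33000 F95784) (tt N33003 F95785) (tt N38220 (iv2 F97684)) (tt N65393 (iv3 F322395)) (tt N41300 (iv4 F103877)) (tt N18928 (iv5 D61299)) (tt N43184 F339227) (tt N38218 (iv7 F97678)))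
theorem Q37304 : ∀ i, i < 37304 → P i := stepQ 37303 Q37303 (allL N37303 (tt N68171 D130646) (tt N68172 D130647) (tt N38221 (iv2 F97688)) (tt N68170 (iv3 F209218)) (tt N18929 F95786) (tt N68173 D130648) (tt N18928 (iv6 D61300)) (tt N68174 D130649))
theorem Q37305 : ∀ i, i < 37305 → P i := stepQ 37304 Q37304 (allL N37304 (tt N38223 (iv1 F97697)) (tt N18929 (iv0 D61301)) (tt N38138 (iv2 F101979)) (tt N38113 (iv3 F102028)) (tt N68175 D130650) (tt N39163 (iv5 F99548)) (tt N39011 (iv6 F99150)) (tt N38222 (iv7 F100006)))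
theorem Q37306 : ∀ i, i < 37306 → P i := stepQ 37305 Q37305 (allL N37305 (tt N18929 (iv1 D61302)) (tt N38223 F97696) (tt N38222 (iv2 F100007)) (tt N18945 F101998) (tt N68176 D130651) (tt N39321 (iv5 F99923)) (tt N38114 (iv6 F99925)) (tt N38138 F101999))
theorem Q37307 : ∀ i, i < 37307 → P i := stepQ 37306 Q37306 (allL N37306 (tt N38222 (iv1 F97691)) (tt N38138 (iv0 F101977)) (tt N38223 (iv2 F97692)) (tt N68167 (iv3 F209212)) (tt N68174 (iv4 F209222)) (tt N38977 F99121) (tt N18985 F95787) (tt N18929 (iv7 D61303)))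
theorem Q37308 : ∀ i, i < 37308 → P i := stepQ 37307 Q37307 (allL N37307 (tt N68177 D130652) (tt N68178 D130653) (tt N68179 D130654) (tt N18930 (iv3 D61304)) (tt N56399 (iv4 F163708)) (tt N68180 D130655) (tt N68181 D130656) (tt N38219 (iv7 F97683)))
theorem Q37309 : ∀ i, i < 37309 → P i := stepQ 37308 Q37308 (allL N37308 (tt N33003 F95788) (tt N33000 F95789) (tt N38218 (iv2 F97677)) (tt N68180 (iv3 F209225)) (tt N57328 (iv4 F166224)) (tt N18930 (iv5 D61305)) (tt N68182 D130657) (tt N38220 (iv7 F97685)))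
theorem Q37310 : ∀ i, i < 37310 → P i := stepQ 37309 Q37309 (allL N37309 (tt N66145 F203474) (tt N68183 D130658) (tt N33142 F95790) (tt N68181 (iv3 F209226)) (tt N18931 F95791) (tt N68184 D130659) (tt N18930 (iv6 D61306)) (tt N39032 (iv7 F99202)))
theorem Q37311 : ∀ i, i < 37311 → P i := stepQ 37310 Q37310 (allL N37310 (tt N61033 (iv1 F347370)) (tt N68185 D130661) (tt N68186 D130662) (tt N18932 (iv3 D61307)) (tt N64670 (iv4 F329635)) (tt N68187 D130664) (tt N64674 (iv6 F365365)) (tt N38224 (iv7 F97698)))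
theorem Q37312 : ∀ i, i < 37312 → P i := stepQ 37311 Q37311 (allL N37311 (tt N32994 F95792) (tt N19747 F95793) (tt N38228 (iv2 F97710)) (tt N68187 (iv3 F209235)) (tt N57366 (iv4 F166302)) (tt N18932 (iv5 D61308)) (tt N61000 (iv6 F339743)) (tt N38225 (iv7 F97700)))
theorem Q37313 : ∀ i, i < 37313 → P i := stepQ 37312 Q37312 (allL N37312 (tt N68175 (iv1 F214096)) (tt N68176 (iv0 F209224)) (tt N38229 (iv2 F97714)) (tt N64674 (iv3 F365364)) (tt N64681 (iv4 F329391)) (tt N68188 D130668) (tt N18932 (iv6 D61309)) (tt N68189 D130669))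
theorem Q37314 : ∀ i, i < 37314 → P i := stepQ 37313 Q37313 (allL N37313 (tt N60988 (iv1 F333209)) (tt N23185 (iv0 F333210)) (tt N60986 F333203) (tt N18933 (iv3 D61310)) (tt N37872 (iv4 F96807)) (tt N61018 (iv5 F333212)) (tt N68190 D130674) (tt N38227 (iv7 F97709)))
theorem Q37315 : ∀ i, i < 37315 → P i := stepQ 37314 Q37314 (allL N37314 (tt N19747 F95794) (tt N32994 F95795) (tt N38225 (iv2 F97699)) (tt N61018 (iv3 F333211)) (tt N57367 (iv4 F166309)) (tt N18933 (iv5 D61311)) (tt N68191 D130675) (tt N38228 (iv7 F97711)))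
theorem Q37316 : ∀ i, i < 37316 → P i := stepQ 37315 Q37315 (allL N37315 (tt N18984 F95797) (tt N39031 F99194) (tt N38226 (iv2 F97703)) (tt N68190 (iv3 F209240)) (tt N36088 F95796) (tt N68192 D130676) (tt N18933 (iv6 D61312)) (tt N39029 (iv7 F99195)))
theorem Q37317 : ∀ i, i < 37317 → P i := stepQ 37316 Q37316 (allL N37316 (tt N38232 (iv1 F97721)) (tt N18934 (iv0 D61313)) (tt N38231 (iv2 F209657)) (tt N60722 (iv3 F355238)) (tt N25363 F316620) (tt N47566 F316621) (tt N68193 D130680) (tt N38230 (iv7 F209661)))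
theorem Q37318 : ∀ i, i < 37318 → P i := stepQ 37317 Q37317 (allL N37317 (tt N18934 (iv1 D61314)) (tt N38232 F97722) (tt N38230 (iv2 F209659)) (tt N68194 D130682) (tt N37010 (iv4 F95798)) (tt N46441 F316622) (tt N68195 D130684) (tt N38231 (iv7 F209658)))
theorem Q37319 : ∀ i, i < 37319 → P i := stepQ 37318 Q37318 (allL N37318 (tt N38231 F97718) (tt N38230 F97716) (tt N18934 (iv2 D61315)) (tt N61677 (iv3 F179231)) (tt N18952 F95799) (tt N47014 (iv5 F318968)) (tt N68196 D130686) (tt N38232 (iv7 F97720)))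
theorem Q37320 : ∀ i, i < 37320 → P i := stepQ 37319 Q37319 (allL N37319 (tt N68197 D130691) (tt N68198 D130692) (tt N68196 (iv2 F209256)) (tt N18936 F95801) (tt N18953 F95802) (tt N51592 (iv5 F365939)) (tt N18934 (iv6 D61317)) (tt N60775 (iv7 F325311)))
theorem Q37321 : ∀ i, i < 37321 → P i := stepQ 37320 Q37320 (allL N37320 (tt N23842 F325804) (tt N18935 (iv0 D61318)) (tt N38235 F97734) (tt N61032 (iv3 F336952)) (tt N30735 F95804) (tt N19609 F95803) (tt N68199 D130696) (tt N38234 F97730))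
theorem Q37322 : ∀ i, i < 37322 → P i := stepQ 37321 Q37321 (allL N37321 (tt N43251 (iv1 F327115)) (tt N43250 (iv0 F327116)) (tt N43253 (iv2 F327110)) (tt N47525 F321111) (tt N57400 (iv4 F166374)) (tt N68200 D130699) (tt N18935 (iv6 D61319)) (tt N23836 F326291))
theorem Q37323 : ∀ i, i < 37323 → P i := stepQ 37322 Q37322 (allL N37322 (tt N61683 (iv1 F179251)) (tt N18936 (iv0 D61320)) (tt N61680 (iv2 F179241)) (tt N68201 D130701) (tt N65699 (iv4 F202262)) (tt N68202 D130702) (tt N38127 F179242) (tt N61681 (iv7 F179244)))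
theorem Q37324 : ∀ i, i < 37324 → P i := stepQ 37323 Q37323 (allL N37323 (tt N18936 (iv1 D61321)) (tt N61683 F179250) (tt N61681 F179245) (tt N68203 D130703) (tt N58818 (iv4 F170823)) (tt N68204 D130704) (tt N68205 D130705) (tt N61680 F179239))
theorem Q37325 : ∀ i, i < 37325 → P i := stepQ 37324 Q37324 (allL N37324 (tt N68206 D130706) (tt N68207 D130707) (tt N61682 (iv2 F179247)) (tt N51592 (iv3 F365938)) (tt N68208 D130708) (tt N18936 (iv5 D61322)) (tt N68200 (iv6 F209264)) (tt N68209 D130709))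
theorem Q37326 : ∀ i, i < 37326 → P i := stepQ 37325 Q37325 (allL N37325 (tt N61681 (iv1 F179243)) (tt N61680 F179240) (tt N61683 (iv2 F179248)) (tt N60775 F326216) (tt N18939 F95806) (tt N68209 (iv5 F209269)) (tt N33671 F326217) (tt N18936 (iv7 D61323)))
theorem Q37327 : ∀ i, i < 37327 → P i := stepQ 37326 Q37326 (allL N37326 (tt N58197 (iv1 F169000)) (tt N19922 F165670) (tt N56406 (iv2 F165660)) (tt N18937 (iv3 D61325)) (tt N68210 D130710) (tt N59318 F172580) (tt N38131 (iv6 F97484)) (tt N58195 (iv7 F168987)))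
theorem Q37328 : ∀ i, i < 37328 → P i := stepQ 37327 Q37327 (allL N37327 (tt N41304 F328438) (tt N57324 (iv0 F171521)) (tt N59745 (iv2 F173743)) (tt N68211 D130712) (tt N18937 (iv4 D61326)) (tt N68212 D130713) (tt N38132 (iv6 F97485)) (tt N59739 (iv7 F173719)))
theorem Q37329 : ∀ i, i < 37329 → P i := stepQ 37328 Q37328 (allL N37328 (tt N57324 F169228) (tt N41304 F328437) (tt N59739 (iv2 F173718)) (tt N68213 D130714) (tt N18938 (iv4 D61329)) (tt N41649 (iv5 F328843)) (tt N41650 (iv6 F328844)) (tt N59745 (iv7 F173745)))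
theorem Q37330 : ∀ i, i < 37330 → P i := stepQ 37329 Q37329 (allL N37329 (tt N38647 (iv1 F102009)) (tt N39011 (iv0 F99149)) (tt N59740 (iv2 F173720)) (tt N56409 (iv3 F165667)) (tt N41650 F329188) (tt N38134 (iv5 F97487)) (tt N18938 (iv6 D61330)) (tt N38134 (iv7 F97488)))
theorem Q37331 : ∀ i, i < 37331 → P i := stepQ 37330 Q37330 (allL N37330 (tt N68214 D130717) (tt N68215 D130718) (tt N68216 D130719) (tt N18940 (iv3 D61331)) (tt N18942 F95809) (tt N68217 D130720) (tt N68218 D130721) (tt N36948 F95810))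
theorem Q37332 : ∀ i, i < 37332 → P i := stepQ 37331 Q37331 (allL N37331 (tt N19718 F95811) (tt N19721 F95812) (tt N38720 (iv2 F98689)) (tt N68217 (iv3 F209288)) (tt N39898 (iv4 F100834)) (tt N18940 (iv5 D61332)) (tt N68219 D130722) (tt N38139 (iv7 F97500)))
theorem Q37333 : ∀ i, i < 37333 → P i := stepQ 37332 Q37332 (allL N37332 (tt N68220 D130723) (tt N64606 (iv0 F328734)) (tt N38721 (iv2 F98692)) (tt N68218 (iv3 F209290)) (tt N18941 F95813) (tt N68221 D130725) (tt N18940 (iv6 D61333)) (tt N68222 D130726))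
theorem Q37334 : ∀ i, i < 37334 → P i := stepQ 37333 Q37333 (allL N37333 (tt N38724 F98702) (tt N18941 (iv0 D61334)) (tt N38722 F102132) (tt N38192 (iv3 F164598)) (tt N68223 D130727) (tt N40524 (iv5 F101816)) (tt N38568 F98427) (tt N38723 (iv7 F102135)))
theorem Q37335 : ∀ i, i < 37335 → P i := stepQ 37334 Q37334 (allL N37334 (tt N18941 (iv1 D61335)) (tt N38724 F98701) (tt N38723 (iv2 F102137)) (tt N68224 D130728) (tt N64678 (iv4 F329435)) (tt N40575 (iv5 F102202)) (tt N38136 F102142) (tt N38722 F102136))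
theorem Q37336 : ∀ i, i < 37336 → P i := stepQ 37335 Q37335 (allL N37335 (tt N38723 (iv1 F98696)) (tt N38722 (iv0 F98695)) (tt N38724 (iv2 F98697)) (tt N18946 F95814) (tt N68222 (iv4 F209293)) (tt N22682 F95815) (tt N18994 F95816) (tt N18941 (iv7 D61336)))
theorem Q37337 : ∀ i, i < 37337 → P i := stepQ 37336 Q37336 (allL N37336 (tt N36947 (iv1 F95822)) (tt N18942 (iv0 D61337)) (tt N36946 F214120) (tt N67035 (iv3 F311923)) (tt N68225 D130732) (tt N22034 F211937) (tt N40658 F359096) (tt N36945 F214121))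
theorem Q37338 : ∀ i, i < 37338 → P i := stepQ 37337 Q37337 (allL N37337 (tt N18942 (iv1 D61338)) (tt N36947 F95826) (tt N36945 (iv2 F214117)) (tt N68226 D130736) (tt N68227 D130737) (tt N22035 F211940) (tt N68228 D130739) (tt N36946 (iv7 F214118)))
theorem Q37339 : ∀ i, i < 37339 → P i := stepQ 37338 Q37338 (allL N37338 (tt N36946 (iv1 F95827)) (tt N36945 F95825) (tt N18942 (iv2 D61339)) (tt N36938 F95823) (tt N68216 (iv4 F209283)) (tt N66972 (iv5 F314809)) (tt N68229 D130740) (tt N36947 F95824))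
theorem Q37340 : ∀ i, i < 37340 → P i := stepQ 37339 Q37339 (allL N37339 (tt N68230 D130741) (tt N68231 D130742) (tt N68229 (iv2 F209299)) (tt N18943 F95828) (tt N68218 (iv4 F209291)) (tt N64040 (iv5 F314429)) (tt N18942 (iv6 D61340)) (tt N41209 F325883))
theorem Q37341 : ∀ i, i < 37341 → P i := stepQ 37340 Q37340 (allL N37340 (tt N36944 (iv1 F95839)) (tt N18943 (iv0 D61341)) (tt N36928 (iv2 F95834)) (tt N68232 D130744) (tt N19208 F95835) (tt N66755 (iv5 F319979)) (tt N24122 F307465) (tt N36929 F95836))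
theorem Q37342 : ∀ i, i < 37342 → P i := stepQ 37341 Q37341 (allL N37341 (tt N18943 (iv1 D61342)) (tt N36944 F95829) (tt N36929 (iv2 F95831)) (tt N68233 D130746) (tt N19209 F95830) (tt N62602 (iv5 F319977)) (tt N36929 (iv6 F95832)) (tt N36928 (iv7 F95833)))
theorem Q37343 : ∀ i, i < 37343 → P i := stepQ 37342 Q37342 (allL N37342 (tt N36929 (iv1 F95844)) (tt N36928 F95845) (tt N36944 F95841) (tt N41209 (iv3 F324797)) (tt N18946 F95842) (tt N37953 (iv5 F97010)) (tt N18995 F95843) (tt N18943 (iv7 D61343)))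
theorem Q37344 : ∀ i, i < 37344 → P i := stepQ 37343 Q37343 (allL N37343 (tt N38115 F102022) (tt N18979 F102023) (tt N38113 F102024) (tt N18944 (iv3 D61344)) (tt N50893 (iv4 F326623)) (tt N33141 F102025) (tt N38647 (iv6 F98515)) (tt N38114 F102026))
theorem Q37345 : ∀ i, i < 37345 → P i := stepQ 37344 Q37344 (allL N37344 (tt N19126 F95849) (tt N31388 F95850) (tt N18948 F95847) (tt N68234 D130749) (tt N18947 (iv4 D61347)) (tt N38529 (iv5 F98402)) (tt N38758 (iv6 F98755)) (tt N19551 F95848))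
theorem Q37346 : ∀ i, i < 37346 → P i := stepQ 37345 Q37345 (allL N37345 (tt N68235 D130750) (tt N20149 F328284) (tt N68236 D130752) (tt N18948 (iv3 D61348)) (tt N18949 F95851) (tt N64595 (iv5 F328725)) (tt N40576 (iv6 F102209)) (tt N36939 F95852))
theorem Q37347 : ∀ i, i < 37347 → P i := stepQ 37346 Q37346 (allL N37346 (tt N36938 (iv1 F95853)) (tt N18949 (iv0 D61350)) (tt N36937 (iv2 F216655)) (tt N68237 D130756) (tt N68238 D130757) (tt N19638 F211219) (tt N66463 (iv6 F327823)) (tt N36936 F216651))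
theorem Q37348 : ∀ i, i < 37348 → P i := stepQ 37347 Q37347 (allL N37347 (tt N36937 (iv1 F95858)) (tt N36936 F95856) (tt N18949 (iv2 D61352)) (tt N36947 F95854) (tt N68236 (iv4 F209318)) (tt N38611 (iv5 F216478)) (tt N40660 (iv6 F102368)) (tt N36938 F95855))
theorem Q37349 : ∀ i, i < 37349 → P i := stepQ 37348 Q37348 (allL N37348 (tt N44786 F315301) (tt N44789 F315302) (tt N67540 (iv2 F214750)) (tt N18950 (iv3 D61354)) (tt N37883 F96836) (tt N46138 F315303) (tt N68239 D130775) (tt N38244 F214743))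
theorem Q37350 : ∀ i, i < 37350 → P i := stepQ 37349 Q37349 (allL N37349 (tt N44819 (iv1 F317505)) (tt N44826 (iv0 F317506)) (tt N38248 F214744) (tt N42367 (iv3 F325730)) (tt N18950 (iv4 D61355)) (tt N61516 (iv5 F325735)) (tt N68240 D130781) (tt N38245 F214745))
theorem Q37351 : ∀ i, i < 37351 → P i := stepQ 37350 Q37350 (allL N37350 (tt N68241 D130788) (tt N67593 (iv0 F352105)) (tt N38249 F214748) (tt N68239 (iv3 F209344)) (tt N68240 (iv4 F209348)) (tt N46786 (iv5 F317526)) (tt N18950 (iv6 D61357)) (tt N68242 D130791))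
theorem Q37352 : ∀ i, i < 37352 → P i := stepQ 37351 Q37351 (allL N37351 (tt N68243 D130793) (tt N67583 (iv0 F214803)) (tt N66391 (iv2 F330927)) (tt N18951 (iv3 D61359)) (tt N39640 (iv4 F330930)) (tt N47237 F315308) (tt N36045 F330916) (tt N38247 (iv7 F214733)))
theorem Q37353 : ∀ i, i < 37353 → P i := stepQ 37352 Q37352 (allL N37352 (tt N44826 (iv1 F317507)) (tt N44819 (iv0 F317504)) (tt N38245 (iv2 F214738)) (tt N68244 D130799) (tt N18951 (iv4 D61360)) (tt N68245 D130800) (tt N68246 D130801) (tt N38248 (iv7 F214741)))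
theorem Q37354 : ∀ i, i < 37354 → P i := stepQ 37353 Q37353 (allL N37353 (tt N18992 F330912) (tt N68247 D130805) (tt N38246 (iv2 F214740)) (tt N36045 (iv3 F330914)) (tt N68246 (iv4 F209362)) (tt N36044 (iv5 F330915)) (tt N18951 (iv6 D61362)) (tt N66392 F330913))
theorem Q37355 : ∀ i, i < 37355 → P i := stepQ 37354 Q37354 (allL N37354 (tt N68248 D130808) (tt N68249 D130809) (tt N18953 F95861) (tt N38146 (iv3 F97506)) (tt N68196 (iv4 F209257)) (tt N68250 D130810) (tt N18952 (iv6 D61363)) (tt N68251 D130811))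
theorem Q37356 : ∀ i, i < 37356 → P i := stepQ 37355 Q37355 (allL N37355 (tt N68251 (iv1 F209368)) (tt N18953 (iv0 D61364)) (tt N68248 (iv2 F334620)) (tt N68252 D130813) (tt N68253 D130814) (tt N48320 (iv5 F330889)) (tt N38147 F330891) (tt N68249 (iv7 F334619)))
theorem Q37357 : ∀ i, i < 37357 → P i := stepQ 37356 Q37356 (allL N37356 (tt N18953 (iv1 D61365)) (tt N68251 F209367) (tt N68249 (iv2 F334617)) (tt N68254 D130818) (tt N68255 D130819) (tt N68256 D130820) (tt N68257 D130821) (tt N68248 (iv7 F334623)))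
theorem Q37358 : ∀ i, i < 37358 → P i := stepQ 37357 Q37357 (allL N37357 (tt N65884 (iv1 F345536)) (tt N67959 (iv0 F345531)) (tt N68250 (iv2 F209364)) (tt N18954 F95862) (tt N45329 (iv4 F320279)) (tt N18953 (iv5 D61366)) (tt N44805 F311787) (tt N46153 (iv7 F320280)))
theorem Q37359 : ∀ i, i < 37359 → P i := stepQ 37358 Q37358 (allL N37358 (tt N68249 (iv1 F209363)) (tt N68248 F209366) (tt N68251 (iv2 F209365)) (tt N18955 F95863) (tt N60775 (iv4 F325310)) (tt N46153 F321980) (tt N38253 (iv6 F97765)) (tt N18953 (iv7 D61367)))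
theorem Q37360 : ∀ i, i < 37360 → P i := stepQ 37359 Q37359 (allL N37359 (tt N40550 F329462) (tt N36727 (iv0 F164099)) (tt N38741 F164136) (tt N68258 D130831) (tt N18956 (iv4 D61373)) (tt N68259 D130832) (tt N28061 F325959) (tt N38151 (iv7 F97532)))
theorem Q37361 : ∀ i, i < 37361 → P i := stepQ 37360 Q37360 (allL N37360 (tt N68260 D130833) (tt N68228 (iv0 F346124)) (tt N68261 D130835) (tt N18957 (iv3 D61374)) (tt N68258 (iv4 F209387)) (tt N26766 (iv5 F323398)) (tt N36968 F95866) (tt N36969 F95867))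
theorem Q37362 : ∀ i, i < 37362 → P i := stepQ 37361 Q37361 (allL N37361 (tt N58941 F171508) (tt N53457 (iv0 F325973)) (tt N28064 (iv2 F325979)) (tt N68262 D130837) (tt N18958 (iv4 D61378)) (tt N28057 (iv5 F325981)) (tt N68263 D130839) (tt N28061 F324984))
theorem Q37363 : ∀ i, i < 37363 → P i := stepQ 37362 Q37362 (allL N37362 (tt N38568 F164123) (tt N38572 F164124) (tt N58226 (iv2 F169024)) (tt N18960 F95869) (tt N68263 (iv4 F209404)) (tt N38152 (iv5 F97534)) (tt N18958 (iv6 D61379)) (tt N38152 (iv7 F97535)))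
theorem Q37364 : ∀ i, i < 37364 → P i := stepQ 37363 Q37363 (allL N37363 (tt N66463 (iv1 F338457)) (tt N39604 (iv0 F338458)) (tt N66461 (iv2 F336493)) (tt N18959 (iv3 D61380)) (tt N68262 (iv4 F209401)) (tt N45632 F322723) (tt N68264 D130843) (tt N36968 F95870))
theorem Q37365 : ∀ i, i < 37365 → P i := stepQ 37364 Q37364 (allL N37364 (tt N24122 (iv1 F305437)) (tt N24122 (iv0 F305436)) (tt N36970 F95871) (tt N68264 (iv3 F209411)) (tt N18960 F95872) (tt N45563 (iv5 F307031)) (tt N18959 (iv6 D61381)) (tt N36970 F95873))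
theorem Q37366 : ∀ i, i < 37366 → P i := stepQ 37365 Q37365 (allL N37365 (tt N18961 (iv1 D61382)) (tt N37506 F96161) (tt N37505 F96157) (tt N68265 D130844) (tt N45590 (iv4 F306039)) (tt N40244 F318737) (tt N42841 (iv6 F107293)) (tt N24221 F303947))
theorem Q37367 : ∀ i, i < 37367 → P i := stepQ 37366 Q37366 (allL N37366 (tt N37505 (iv1 F96155)) (tt N24221 F302791) (tt N37506 (iv2 F96159)) (tt N21714 (iv3 F306040)) (tt N46384 (iv4 F305150)) (tt N36652 F95876) (tt N21713 (iv6 F306044)) (tt N18961 (iv7 D61383)))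
theorem Q37368 : ∀ i, i < 37368 → P i := stepQ 37367 Q37367 (allL N37367 (tt N21713 F307991) (tt N18963 (iv0 D61386)) (tt N37501 (iv2 F183274)) (tt N68266 D130850) (tt N67609 (iv4 F208090)) (tt N53066 F307992) (tt N36235 F315959) (tt N37502 F183273))
theorem Q37369 : ∀ i, i < 37369 → P i := stepQ 37368 Q37368 (allL N37368 (tt N18963 (iv1 D61387)) (tt N21713 F306126) (tt N37502 F183271) (tt N24933 (iv3 F308096)) (tt N45594 (iv4 F307876)) (tt N62710 (iv5 F183269)) (tt N45593 F305990) (tt N37501 (iv7 F183272)))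
theorem Q37370 : ∀ i, i < 37370 → P i := stepQ 37369 Q37369 (allL N37369 (tt N37502 (iv1 F96143)) (tt N37501 F96148) (tt N21713 (iv2 F306042)) (tt N32823 (iv3 F306092)) (tt N45409 (iv4 F306091)) (tt N32822 (iv5 F305333)) (tt N37506 (iv6 F96160)) (tt N18963 (iv7 D61388)))
theorem Q37371 : ∀ i, i < 37371 → P i := stepQ 37370 Q37370 (allL N37370 (tt N18964 (iv1 D61389)) (tt N37482 F96084) (tt N37481 F96079) (tt N68267 D130852) (tt N46386 (iv4 F305600)) (tt N63772 (iv5 F189478)) (tt N43150 (iv6 F108189)) (tt N23932 F303488))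
theorem Q37372 : ∀ i, i < 37372 → P i := stepQ 37371 Q37371 (allL N37371 (tt N37481 (iv1 F96077)) (tt N23932 F303485) (tt N37482 (iv2 F96081)) (tt N63833 (iv3 F189771)) (tt N46402 (iv4 F303985)) (tt N34373 F95882) (tt N37477 (iv6 F96065)) (tt N18964 (iv7 D61390)))
theorem Q37373 : ∀ i, i < 37373 → P i := stepQ 37372 Q37372 (allL N37372 (tt N35193 F313751) (tt N38341 (iv0 F98042)) (tt N43103 (iv2 F108130)) (tt N52847 (iv3 F317132)) (tt N18965 (iv4 D61391)) (tt N57470 (iv5 F166824)) (tt N35245 F314867) (tt N37479 (iv7 F96074)))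
theorem Q37374 : ∀ i, i < 37374 → P i := stepQ 37373 Q37373 (allL N37373 (tt N37477 (iv1 F96068)) (tt N18966 (iv0 D61393)) (tt N27281 (iv2 F308220)) (tt N35040 (iv3 F309601)) (tt N45410 (iv4 F308929)) (tt N68268 D130857) (tt N33463 F312431) (tt N37476 F183626))
theorem Q37375 : ∀ i, i < 37375 → P i := stepQ 37374 Q37374 (allL N37374 (tt N37476 (iv1 F96063)) (tt N27281 (iv0 F308218)) (tt N37477 (iv2 F96064)) (tt N47380 (iv3 F308224)) (tt N66973 (iv4 F307983)) (tt N42406 (iv5 F106137)) (tt N37482 (iv6 F96083)) (tt N18966 (iv7 D61395)))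
theorem Q37376 : ∀ i, i < 37376 → P i := stepQ 37375 Q37375 (allL N37375 (tt N34089 F95886) (tt N34090 F95885) (tt N22795 F95884) (tt N56443 (iv3 F163764)) (tt N68269 D130859) (tt N18967 (iv5 D61396)) (tt N68270 D130860) (tt N38263 (iv7 F97798)))
theorem Q37377 : ∀ i, i < 37377 → P i := stepQ 37376 Q37376 (allL N37376 (tt N32425 (iv1 F95892)) (tt N32424 (iv0 F95891)) (tt N22796 F95887) (tt N26558 F95888) (tt N18969 F95889) (tt N43276 (iv5 F108445)) (tt N18967 (iv6 D61397)) (tt N32419 F95890))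
theorem Q37378 : ∀ i, i < 37378 → P i := stepQ 37377 Q37377 (allL N37377 (tt N57426 (iv1 F166671)) (tt N57425 F166668) (tt N22797 F95893) (tt N48204 (iv3 F311081)) (tt N18968 (iv4 D61398)) (tt N68271 D130862) (tt N68272 D130863) (tt N37469 (iv7 F96056)))
theorem Q37379 : ∀ i, i < 37379 → P i := stepQ 37378 Q37378 (allL N37378 (tt N25425 (iv1 F305571)) (tt N68267 (iv0 F209432)) (tt N22798 F95894) (tt N45248 (iv3 F114907)) (tt N68272 (iv4 F209451)) (tt N34265 F95895) (tt N18968 (iv6 D61399)) (tt N68273 D130865))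
theorem Q37380 : ∀ i, i < 37380 → P i := stepQ 37379 Q37379 (allL N37379 (tt N34581 (iv1 F95897)) (tt N18970 (iv0 D61400)) (tt N38265 (iv2 F97807)) (tt N68274 D130866) (tt N30543 F95896) (tt N64819 (iv5 F314904)) (tt N68275 D130868) (tt N38264 F97803))
theorem Q37381 : ∀ i, i < 37381 → P i := stepQ 37380 Q37380 (allL N37380 (tt N68276 D130869) (tt N68277 D130870) (tt N35166 F314238) (tt N68037 (iv3 F208948)) (tt N68278 D130871) (tt N18970 (iv5 D61401)) (tt N68279 D130872) (tt N38266 (iv7 F97808)))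
theorem Q37382 : ∀ i, i < 37382 → P i := stepQ 37381 Q37381 (allL N37381 (tt N68280 D130873) (tt N68281 D130874) (tt N63449 (iv2 F187515)) (tt N68038 (iv3 F208949)) (tt N18971 F95898) (tt N68282 D130875) (tt N18970 (iv6 D61402)) (tt N68283 D130876))
theorem Q37383 : ∀ i, i < 37383 → P i := stepQ 37382 Q37382 (allL N37382 (tt N63452 (iv1 F187524)) (tt N18971 (iv0 D61403)) (tt N63450 (iv2 F237555)) (tt N68284 D130878) (tt N68285 D130879) (tt N68286 D130880) (tt N52755 (iv6 F354314)) (tt N63451 (iv7 F237560)))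
theorem Q37384 : ∀ i, i < 37384 → P i := stepQ 37383 Q37383 (allL N37383 (tt N18971 (iv1 D61404)) (tt N63452 F187523) (tt N63451 (iv2 F237559)) (tt N22847 (iv3 F237545)) (tt N68287 D130884) (tt N68288 D130885) (tt N68289 D130886) (tt N63450 (iv7 F237557)))
theorem Q37385 : ∀ i, i < 37385 → P i := stepQ 37384 Q37384 (allL N37384 (tt N63451 (iv1 F187517)) (tt N63450 F187522) (tt N63452 (iv2 F187519)) (tt N18974 F95899) (tt N68283 (iv4 F209469)) (tt N41316 (iv5 F103918)) (tt N38269 (iv6 F97812)) (tt N18971 (iv7 D61405)))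
theorem Q37386 : ∀ i, i < 37386 → P i := stepQ 37385 Q37385 (allL N37385 (tt N63234 (iv1 F237490)) (tt N62755 (iv0 F237487)) (tt N63233 (iv2 F237474)) (tt N18972 (iv3 D61407)) (tt N68290 D130890) (tt N68291 D130891) (tt N68292 D130892) (tt N38161 (iv7 F105951)))
theorem Q37387 : ∀ i, i < 37387 → P i := stepQ 37386 Q37386 (allL N37386 (tt N37030 F102307) (tt N19241 F102308) (tt N37027 (iv2 F105943)) (tt N66471 (iv3 F322445)) (tt N18972 (iv4 D61408)) (tt N42880 (iv5 F316267)) (tt N46678 (iv6 F313811)) (tt N37028 (iv7 F105945)))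
theorem Q37388 : ∀ i, i < 37388 → P i := stepQ 37387 Q37387 (allL N37387 (tt N42232 (iv1 F105917)) (tt N33766 (iv0 F183564)) (tt N38159 (iv2 F105940)) (tt N68291 (iv3 F209473)) (tt N42847 (iv4 F314088)) (tt N18972 (iv5 D61409)) (tt N41939 F314056) (tt N33807 (iv7 F105932)))
theorem Q37389 : ∀ i, i < 37389 → P i := stepQ 37388 Q37388 (allL N37388 (tt N22032 F105920) (tt N33785 F315393) (tt N38160 F105946) (tt N68292 (iv3 F209475)) (tt N46678 F315394) (tt N22508 F315395) (tt N18972 (iv6 D61410)) (tt N42278 (iv7 F315606)))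
theorem Q37390 : ∀ i, i < 37390 → P i := stepQ 37389 Q37389 (allL N37389 (tt N22013 (iv1 F247740)) (tt N68293 D130897) (tt N68294 D130898) (tt N18973 (iv3 D61412)) (tt N68295 D130899) (tt N42324 F105960) (tt N68296 D130900) (tt N38158 F105937))
theorem Q37391 : ∀ i, i < 37391 → P i := stepQ 37390 Q37390 (allL N37390 (tt N19241 F101403) (tt N37030 F101404) (tt N37028 F105944) (tt N68297 D130901) (tt N18973 (iv4 D61413)) (tt N34391 (iv5 F318542)) (tt N63790 (iv6 F320669)) (tt N37027 F105938))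
theorem Q37392 : ∀ i, i < 37392 → P i := stepQ 37391 Q37391 (allL N37391 (tt N44086 F110821) (tt N41053 F318424) (tt N38162 (iv2 F105952)) (tt N68296 (iv3 F209483)) (tt N63790 (iv4 F320668)) (tt N42330 (iv5 F106003)) (tt N18973 (iv6 D61414)) (tt N68298 D130904))
theorem Q37393 : ∀ i, i < 37393 → P i := stepQ 37392 Q37392 (allL N37392 (tt N19844 F95904) (tt N19841 F95906) (tt N38117 (iv2 F97433)) (tt N18976 (iv3 D61415)) (tt N36894 F95903) (tt N18976 (iv5 F95905)) (tt N39656 (iv6 F100543)) (tt N38111 (iv7 F97396)))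
theorem Q37394 : ∀ i, i < 37394 → P i := stepQ 37393 Q37393 (allL N37393 (tt N68299 D130905) (tt N68300 D130906) (tt N30178 F95911) (tt N18979 F95912) (tt N36745 F95913) (tt N22615 F95914) (tt N18977 (iv6 D61416)) (tt N56421 (iv7 F163730)))
theorem Q37395 : ∀ i, i < 37395 → P i := stepQ 37394 Q37394 (allL N37394 (tt N68301 D130907) (tt N68302 D130908) (tt N68303 D130909) (tt N18978 (iv3 D61417)) (tt N36743 F95915) (tt N68303 F209515) (tt N68304 D130910) (tt N38116 (iv7 F97432)))
theorem Q37396 : ∀ i, i < 37396 → P i := stepQ 37395 Q37395 (allL N37395 (tt N19841 F95917) (tt N19844 F95918) (tt N38111 (iv2 F97423)) (tt N68303 (iv3 F209511)) (tt N37043 F95916) (tt N18978 (iv5 D61418)) (tt N68305 D130911) (tt N38117 (iv7 F97435)))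
theorem Q37397 : ∀ i, i < 37397 → P i := stepQ 37396 Q37396 (allL N37396 (tt N60869 (iv1 F328056)) (tt N60854 (iv0 F363888)) (tt N38112 (iv2 F97424)) (tt N68304 (iv3 F209516)) (tt N18979 F95919) (tt N68306 D130914) (tt N18978 (iv6 D61419)) (tt N60864 (iv7 F327041)))
theorem Q37398 : ∀ i, i < 37398 → P i := stepQ 37397 Q37397 (allL N37397 (tt N18979 (iv1 D61421)) (tt N38115 F97430) (tt N38114 (iv2 F99960)) (tt N38222 (iv3 F102030)) (tt N50899 (iv4 F326626)) (tt N39496 (iv5 F100333)) (tt N38222 F100008) (tt N38113 F99961))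
theorem Q37399 : ∀ i, i < 37399 → P i := stepQ 37398 Q37398 (allL N37398 (tt N38114 (iv1 F97426)) (tt N38113 F97429) (tt N38115 (iv2 F97427)) (tt N56421 (iv3 F163728)) (tt N60864 (iv4 F327040)) (tt N22623 F95921) (tt N33014 F95922) (tt N18979 (iv7 D61422)))
theorem Q37400 : ∀ i, i < 37400 → P i := stepQ 37399 Q37399 (allL N37399 (tt N37163 F95923) (tt N68307 D130917) (tt N68308 D130918) (tt N18980 (iv3 D61423)) (tt N38728 (iv4 F98707)) (tt N38122 F97465) (tt N33670 (iv6 F325470)) (tt N38118 (iv7 F97440)))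
theorem Q37401 : ∀ i, i < 37401 → P i := stepQ 37400 Q37400 (allL N37400 (tt N19835 F95924) (tt N19737 F95925) (tt N32465 (iv2 F325460)) (tt N38122 F97461) (tt N37875 (iv4 F96816)) (tt N18980 (iv5 D61424)) (tt N32461 (iv6 F325469)) (tt N38119 (iv7 F97443)))
theorem Q37402 : ∀ i, i < 37402 → P i := stepQ 37401 Q37401 (allL N37401 (tt N68309 D130922) (tt N68310 D130923) (tt N68311 D130924) (tt N18981 (iv3 D61426)) (tt N37806 (iv4 F96637)) (tt N32474 F325757) (tt N68312 D130926) (tt N32473 (iv7 F326594)))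
theorem Q37403 : ∀ i, i < 37403 → P i := stepQ 37402 Q37402 (allL N37402 (tt N19737 F95927) (tt N19835 F95928) (tt N38119 (iv2 F97442)) (tt N32474 (iv3 F324646)) (tt N37873 (iv4 F96811)) (tt N18981 (iv5 D61427)) (tt N41896 (iv6 F325462)) (tt N32465 (iv7 F325461)))
theorem Q37404 : ∀ i, i < 37404 → P i := stepQ 37403 Q37403 (allL N37403 (tt N50893 (iv1 F326622)) (tt N50899 (iv0 F326625)) (tt N38120 (iv2 F97449)) (tt N68312 (iv3 F209538)) (tt N37688 (iv4 F96457)) (tt N50887 F325801) (tt N18981 (iv6 D61428)) (tt N33684 (iv7 F325919)))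
theorem Q37405 : ∀ i, i < 37405 → P i := stepQ 37404 Q37404 (allL N37404 (tt N38123 (iv1 F97472)) (tt N18982 (iv0 D61429)) (tt N38122 (iv2 F97467)) (tt N29531 (iv3 F324650)) (tt N68313 D130931) (tt N68308 (iv5 F209528)) (tt N29530 (iv6 F324653)) (tt N38121 F97468))
theorem Q37406 : ∀ i, i < 37406 → P i := stepQ 37405 Q37405 (allL N37405 (tt N18982 (iv1 D61430)) (tt N38123 F97473) (tt N38121 F97466) (tt N38119 F97447) (tt N36951 (iv4 F95929)) (tt N38118 (iv5 F97448)) (tt N25943 (iv6 F322859)) (tt N38122 (iv7 F97463)))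
theorem Q37407 : ∀ i, i < 37407 → P i := stepQ 37406 Q37406 (allL N37406 (tt N38122 F97464) (tt N38121 F97460) (tt N18982 (iv2 D61431)) (tt N39025 (iv3 F99179)) (tt N18991 F95930) (tt N68314 D130934) (tt N68315 D130935) (tt N38123 (iv7 F97471)))
theorem Q37408 : ∀ i, i < 37408 → P i := stepQ 37407 Q37407 (allL N37407 (tt N67943 (iv1 F208653)) (tt N35930 (iv0 F95932)) (tt N68314 (iv2 F209549)) (tt N18983 F95931) (tt N68316 D130936) (tt N18982 (iv5 D61432)) (tt N68317 D130937) (tt N38124 (iv7 F97477)))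
theorem Q37409 : ∀ i, i < 37409 → P i := stepQ 37408 Q37408 (allL N37408 (tt N68318 D130938) (tt N68195 (iv0 F350857)) (tt N68315 (iv2 F209553)) (tt N18984 F95933) (tt N18992 F95934) (tt N68319 D130940) (tt N18982 (iv6 D61433)) (tt N68320 D130941))
theorem Q37410 : ∀ i, i < 37410 → P i := stepQ 37409 Q37409 (allL N37409 (tt N68321 D130942) (tt N32423 (iv0 F366026)) (tt N39028 (iv2 F99187)) (tt N68317 (iv3 F209555)) (tt N66086 (iv4 F203346)) (tt N68322 D130944) (tt N18983 (iv6 D61434)) (tt N68323 D130945))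
theorem Q37411 : ∀ i, i < 37411 → P i := stepQ 37410 Q37410 (allL N37410 (tt N39031 (iv1 F99200)) (tt N18984 (iv0 D61435)) (tt N39029 (iv2 F99197)) (tt N68324 D130946) (tt N37690 F99198) (tt N68325 D130947) (tt N68189 (iv6 F209238)) (tt N38226 F99199))
theorem Q37412 : ∀ i, i < 37412 → P i := stepQ 37411 Q37411 (allL N37411 (tt N68326 D130948) (tt N68327 D130949) (tt N39030 (iv2 F99189)) (tt N68319 (iv3 F209556)) (tt N68328 D130950) (tt N18984 (iv5 D61436)) (tt N68322 (iv6 F209559)) (tt N68329 D130951))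
theorem Q37413 : ∀ i, i < 37413 → P i := stepQ 37412 Q37412 (allL N37412 (tt N38226 (iv1 F97706)) (tt N39029 F99193) (tt N39031 (iv2 F99190)) (tt N68320 (iv3 F209557)) (tt N18987 F95935) (tt N68329 (iv5 F209560)) (tt N38130 (iv6 F97481)) (tt N18984 (iv7 D61437)))
theorem Q37414 : ∀ i, i < 37414 → P i := stepQ 37413 Q37413 (allL N37413 (tt N38747 (iv1 F98745)) (tt N19780 F98739) (tt N38745 F98737) (tt N18985 (iv3 D61438)) (tt N66159 (iv4 F203533)) (tt N33121 F95936) (tt N68167 (iv6 F209215)) (tt N33120 F95937))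
theorem Q37415 : ∀ i, i < 37415 → P i := stepQ 37414 Q37414 (allL N37414 (tt N68183 (iv1 F209228)) (tt N66145 F203475) (tt N39032 (iv2 F99201)) (tt N68330 D130952) (tt N18985 (iv4 D61439)) (tt N68331 D130953) (tt N68174 (iv6 F209223)) (tt N33142 F95938))
theorem Q37416 : ∀ i, i < 37416 → P i := stepQ 37415 Q37415 (allL N37415 (tt N39036 F99215) (tt N18986 (iv0 D61440)) (tt N39033 (iv2 F99252)) (tt N68332 D130954) (tt N68333 D130955) (tt N61695 (iv5 F179282)) (tt N33208 F95939) (tt N39034 F99253))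
theorem Q37417 : ∀ i, i < 37417 → P i := stepQ 37416 Q37416 (allL N37416 (tt N18986 (iv1 D61441)) (tt N39036 F99214) (tt N39034 F99251) (tt N56799 (iv3 F165687)) (tt N68334 D130956) (tt N39051 (iv5 F99243)) (tt N20360 F99246) (tt N39033 (iv7 F99250)))
theorem Q37418 : ∀ i, i < 37418 → P i := stepQ 37417 Q37417 (allL N37417 (tt N68335 D130957) (tt N33193 F330579) (tt N39035 (iv2 F99209)) (tt N68336 D130959) (tt N18986 (iv4 D61442)) (tt N33157 F330524) (tt N18988 F95940) (tt N61946 (iv7 F179725)))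
theorem Q37419 : ∀ i, i < 37419 → P i := stepQ 37418 Q37418 (allL N37418 (tt N39039 (iv1 F99220)) (tt N18988 (iv0 D61443)) (tt N30597 (iv2 F95942)) (tt N44276 F111523) (tt N19563 F95941) (tt N44180 (iv5 F111042)) (tt N61845 (iv6 F179611)) (tt N30581 F95943))
theorem Q37420 : ∀ i, i < 37420 → P i := stepQ 37419 Q37419 (allL N37419 (tt N68337 D130961) (tt N44281 (iv0 F167082)) (tt N25106 (iv2 F313714)) (tt N18988 (iv3 D61444)) (tt N18999 F95944) (tt N44248 (iv5 F111497)) (tt N68336 (iv6 F209568)) (tt N25114 (iv7 F313602)))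
theorem Q37421 : ∀ i, i < 37421 → P i := stepQ 37420 Q37420 (allL N37420 (tt N22640 F95945) (tt N22643 F95946) (tt N39038 (iv2 F99216)) (tt N44248 F111498) (tt N57599 (iv4 F167206)) (tt N18988 (iv5 D61445)) (tt N68338 D130963) (tt N39503 (iv7 F100340)))
theorem Q37422 : ∀ i, i < 37422 → P i := stepQ 37421 Q37421 (allL N37421 (tt N67586 (iv1 F212289)) (tt N68339 D130971) (tt N67705 (iv2 F209635)) (tt N18989 (iv3 D61447)) (tt N37822 F96669) (tt N68340 D130973) (tt N66387 (iv6 F324340)) (tt N38140 (iv7 F209630)))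
theorem Q37423 : ∀ i, i < 37423 → P i := stepQ 37422 Q37422 (allL N37422 (tt N68341 D130975) (tt N68342 D130976) (tt N38144 (iv2 F209625)) (tt N42380 (iv3 F321196)) (tt N18989 (iv4 D61448)) (tt N55710 (iv5 F321200)) (tt N42378 (iv6 F321201)) (tt N38141 F209638))
theorem Q37424 : ∀ i, i < 37424 → P i := stepQ 37423 Q37423 (allL N37423 (tt N35158 F315056) (tt N19296 F209533) (tt N37166 (iv2 F209619)) (tt N68340 (iv3 F209581)) (tt N64897 F315057) (tt N18989 (iv5 D61449)) (tt N46952 F337529) (tt N37165 F209618))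
theorem Q37425 : ∀ i, i < 37425 → P i := stepQ 37424 Q37424 (allL N37424 (tt N38250 (iv1 F324786)) (tt N38253 F323484) (tt N38145 (iv2 F209627)) (tt N66387 (iv3 F324339)) (tt N42378 F322893) (tt N39458 (iv5 F324341)) (tt N18989 (iv6 D61450)) (tt N38251 F325516))
theorem Q37426 : ∀ i, i < 37426 → P i := stepQ 37425 Q37425 (allL N37425 (tt N66237 (iv1 F327903)) (tt N66426 (iv0 F327908)) (tt N66425 (iv2 F327897)) (tt N18990 (iv3 D61452)) (tt N39642 F327807) (tt N46015 F310830) (tt N46018 (iv6 F313067)) (tt N38143 (iv7 F209624)))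
theorem Q37427 : ∀ i, i < 37427 → P i := stepQ 37426 Q37426 (allL N37426 (tt N68342 (iv1 F209681)) (tt N68341 F209680) (tt N38141 (iv2 F209636)) (tt N68343 D130992) (tt N18990 (iv4 D61453)) (tt N50268 (iv5 F317740)) (tt N25931 (iv6 F317742)) (tt N38144 (iv7 F209626)))
theorem Q37428 : ∀ i, i < 37428 → P i := stepQ 37427 Q37427 (allL N37427 (tt N19296 F97474) (tt N35158 F315058) (tt N37165 F209621) (tt N46015 F310829) (tt N65176 (iv4 F312101)) (tt N18990 (iv5 D61454)) (tt N35062 (iv6 F313066)) (tt N37166 F209622))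
theorem Q37429 : ∀ i, i < 37429 → P i := stepQ 37428 Q37428 (allL N37428 (tt N50286 (iv1 F317582)) (tt N50285 (iv0 F317745)) (tt N38142 (iv2 F209637)) (tt N46018 F315505) (tt N25931 (iv4 F317741)) (tt N27229 (iv5 F317746)) (tt N18990 (iv6 D61455)) (tt N26926 (iv7 F317747)))
theorem Q37430 : ∀ i, i < 37430 → P i := stepQ 37429 Q37429 (allL N37429 (tt N66392 F336048) (tt N38246 (iv0 F336049)) (tt N18992 F95949) (tt N38250 (iv3 F97762)) (tt N68315 (iv4 F209554)) (tt N56353 (iv5 F323657)) (tt N18991 (iv6 D61456)) (tt N68247 (iv7 F330907)))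
theorem Q37431 : ∀ i, i < 37431 → P i := stepQ 37430 Q37430 (allL N37430 (tt N68247 (iv1 F330903)) (tt N18992 (iv0 D61457)) (tt N66392 (iv2 F325984)) (tt N68344 D131006) (tt N68345 D131007) (tt N68346 D131008) (tt N68242 F330902) (tt N38246 (iv7 F330911)))
theorem Q37432 : ∀ i, i < 37432 → P i := stepQ 37431 Q37431 (allL N37431 (tt N38246 (iv1 F336050)) (tt N66392 F336047) (tt N68247 (iv2 F330904)) (tt N18993 F95951) (tt N68320 (iv4 F209558)) (tt N56352 (iv5 F320299)) (tt N38150 (iv6 F97509)) (tt N18992 (iv7 D61460)))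
theorem Q37433 : ∀ i, i < 37433 → P i := stepQ 37432 Q37432 (allL N37432 (tt N19570 (iv1 F95955)) (tt N18994 (iv0 D61465)) (tt N19572 (iv2 F95954)) (tt N30286 (iv3 F95958)) (tt N68347 D131028) (tt N20471 F95953) (tt N19559 (iv6 F95957)) (tt N19533 F95956))
theorem Q37434 : ∀ i, i < 37434 → P i := stepQ 37433 Q37433 (allL N37433 (tt N19572 (iv1 F95962)) (tt N19533 F95961) (tt N18994 (iv2 D61466)) (tt N38256 (iv3 F97785)) (tt N68348 D131029) (tt N30145 F95959) (tt N38724 (iv6 F98700)) (tt N19570 F95960))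
theorem Q37435 : ∀ i, i < 37435 → P i := stepQ 37434 Q37434 (allL N37434 (tt N68349 D131030) (tt N44324 (iv0 F111646)) (tt N68348 (iv2 F209722)) (tt N20147 F325880) (tt N18994 (iv4 D61467)) (tt N39116 (iv5 F326702)) (tt N68222 (iv6 F209294)) (tt N33312 F95963))
theorem Q37436 : ∀ i, i < 37436 → P i := stepQ 37435 Q37435 (allL N37435 (tt N20471 F163954) (tt N19571 F163955) (tt N40153 F163956) (tt N18996 (iv3 D61470)) (tt N68350 D131038) (tt N38777 F163957) (tt N33466 F95967) (tt N38259 (iv7 F97794)))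
theorem Q37437 : ∀ i, i < 37437 → P i := stepQ 37436 Q37436 (allL N37436 (tt N20201 F168249) (tt N38761 F168250) (tt N38759 F168251) (tt N18997 (iv3 D61472)) (tt N68351 D131040) (tt N38792 (iv5 F168267)) (tt N20315 F168252) (tt N38258 (iv7 F97792)))
theorem Q37438 : ∀ i, i < 37438 → P i := stepQ 37437 Q37437 (allL N37437 (tt N65304 (iv1 F313718)) (tt N68352 D131043) (tt N25107 (iv2 F313715)) (tt N18998 (iv3 D61474)) (tt N68336 (iv4 F209567)) (tt N40835 (iv5 F102725)) (tt N18999 F95979) (tt N62332 (iv7 F180850)))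
theorem Q37439 : ∀ i, i < 37439 → P i := stepQ 37438 Q37438 (allL N37438 (tt N18999 (iv1 D61476)) (tt N25097 (iv0 F312275)) (tt N25105 F316165) (tt N65211 (iv3 F313652)) (tt N68353 D131052) (tt N34424 F220200) (tt N22130 (iv6 F313700)) (tt N25104 F316166))
theorem Q37440 : ∀ i, i < 37440 → P i := stepQ 37439 Q37439 (allL N37439 (tt N41043 F103217) (tt N42257 F308976) (tt N37490 (iv2 F96124)) (tt N25094 (iv3 F311124)) (tt N19456 F95981) (tt N20918 (iv5 F311125)) (tt N19000 (iv6 D61479)) (tt N41815 F308977))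
theorem Q37441 : ∀ i, i < 37441 → P i := stepQ 37440 Q37440 (allL N37440 (tt N20981 F95991) (tt N20978 (iv0 F95990)) (tt N22809 F95987) (tt N19003 F95988) (tt N22809 F95989) (tt N42195 (iv5 F105560)) (tt N19002 (iv6 D61483)) (tt N42675 (iv7 F106801)))
theorem Q37442 : ∀ i, i < 37442 → P i := stepQ 37441 Q37441 (allL N37441 (tt N21576 (iv1 F96001)) (tt N22011 F96002) (tt N22815 F95998) (tt N19005 (iv3 D61488)) (tt N37576 (iv4 F96297)) (tt N19029 F95999) (tt N68354 D131073) (tt N22166 F96000))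
theorem Q37443 : ∀ i, i < 37443 → P i := stepQ 37442 Q37442 (allL N37442 (tt N41051 F318419) (tt N46451 (iv0 F307744)) (tt N22230 F96007) (tt N68354 (iv3 F209793)) (tt N24964 (iv4 F308523)) (tt N22278 F96008) (tt N19005 (iv6 D61490)) (tt N25378 F306672))
theorem Q37444 : ∀ i, i < 37444 → P i := stepQ 37443 Q37443 (allL N37443 (tt N68355 D131088) (tt N22015 (iv0 F232707)) (tt N63843 (iv2 F189791)) (tt N19008 (iv3 D61497)) (tt N57475 (iv4 F166830)) (tt N68356 D131090) (tt N68357 D131091) (tt N38273 (iv7 F162904)))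
theorem Q37445 : ∀ i, i < 37445 → P i := stepQ 37444 Q37444 (allL N37444 (tt N36967 F162915) (tt N19217 F162916) (tt N36965 (iv2 F162922)) (tt N68358 D131092) (tt N19008 (iv4 D61498)) (tt N34745 (iv5 F313143)) (tt N68359 D131094) (tt N36966 (iv7 F162927)))
theorem Q37446 : ∀ i, i < 37446 → P i := stepQ 37445 Q37445 (allL N37445 (tt N42820 (iv1 F307150)) (tt N34327 (iv0 F96012)) (tt N38271 F162902) (tt N68356 (iv3 F209934)) (tt N34324 (iv4 F308772)) (tt N19008 (iv5 D61499)) (tt N68360 D131096) (tt N38274 F162901))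
theorem Q37447 : ∀ i, i < 37447 → P i := stepQ 37446 Q37446 (allL N37446 (tt N41048 (iv1 F313144)) (tt N46575 F312776) (tt N38272 (iv2 F162907)) (tt N68357 (iv3 F209938)) (tt N68359 (iv4 F209944)) (tt N38306 F97897) (tt N19008 (iv6 D61500)) (tt N68361 D131098))
theorem Q37448 : ∀ i, i < 37448 → P i := stepQ 37447 Q37447 (allL N37447 (tt N19217 F162887) (tt N36967 F162888) (tt N36966 (iv2 F162925)) (tt N68362 D131099) (tt N19009 (iv4 D61503)) (tt N35279 (iv5 F314137)) (tt N63435 (iv6 F304118)) (tt N36965 (iv7 F162924)))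
theorem Q37449 : ∀ i, i < 37449 → P i := stepQ 37448 Q37448 (allL N37448 (tt N34327 F96014) (tt N42820 F308897) (tt N38274 F162884) (tt N34166 F162885) (tt N34347 (iv4 F311043)) (tt N19009 (iv5 D61504)) (tt N34163 (iv6 F162883)) (tt N38271 (iv7 F162903)))
theorem Q37450 : ∀ i, i < 37450 → P i := stepQ 37449 Q37449 (allL N37449 (tt N27279 (iv1 F304055)) (tt N22031 (iv0 F96016)) (tt N38275 F162943) (tt N45304 (iv3 F304116)) (tt N63435 (iv4 F304117)) (tt N45303 (iv5 F304119)) (tt N19009 (iv6 D61505)) (tt N46567 (iv7 F304052)))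
theorem Q37451 : ∀ i, i < 37451 → P i := stepQ 37450 Q37450 (allL N37450 (tt N68363 D131106) (tt N68364 D131107) (tt N43424 (iv2 F108804)) (tt N19013 F96017) (tt N48478 F314370) (tt N34593 F96018) (tt N19011 (iv6 D61507)) (tt N66850 (iv7 F205866)))
theorem Q37452 : ∀ i, i < 37452 → P i := stepQ 37451 Q37451 (allL N37451 (tt N25062 (iv1 F308011)) (tt N25099 (iv0 F308016)) (tt N25095 (iv2 F308006)) (tt N19012 (iv3 D61508)) (tt N48137 F307942) (tt N20211 F96019) (tt N68365 D131108) (tt N25100 (iv7 F308003)))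
theorem Q37453 : ∀ i, i < 37453 → P i := stepQ 37452 Q37452 (allL N37452 (tt N63735 F311184) (tt N22486 F311185) (tt N25110 F311186) (tt N68365 (iv3 F209983)) (tt N19013 F96020) (tt N58623 (iv5 F169850)) (tt N19012 (iv6 D61509)) (tt N63734 F311187))
theorem Q37454 : ∀ i, i < 37454 → P i := stepQ 37453 Q37453 (allL N37453 (tt N19013 (iv1 D61510)) (tt N38277 F97829) (tt N38276 F97826) (tt N37473 F130972) (tt N33856 (iv4 F311137)) (tt N41027 F311571) (tt N22488 (iv6 F312481)) (tt N22878 F96021))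
theorem Q37455 : ∀ i, i < 37455 → P i := stepQ 37454 Q37454 (allL N37454 (tt N38276 (iv1 F97824)) (tt N22878 (iv0 F96128)) (tt N38277 (iv2 F97827)) (tt N66850 (iv3 F205863)) (tt N63734 (iv4 F311127)) (tt N34595 F96022) (tt N37491 (iv6 F96127)) (tt N19013 (iv7 D61511)))
theorem Q37456 : ∀ i, i < 37456 → P i := stepQ 37455 Q37455 (allL N37455 (tt N38283 (iv1 F97853)) (tt N19014 (iv0 D61512)) (tt N37292 (iv2 F96027)) (tt N56622 (iv3 F164467)) (tt N68366 D131113) (tt N19402 F96028) (tt N68367 D131114) (tt N37290 F96029))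
theorem Q37457 : ∀ i, i < 37457 → P i := stepQ 37456 Q37456 (allL N37456 (tt N19014 (iv1 D61513)) (tt N38283 F97854) (tt N37290 (iv2 F96024)) (tt N31366 (iv3 F96025)) (tt N68368 D131115) (tt N19403 F96023) (tt N68369 D131116) (tt N37292 (iv7 F96026)))
theorem Q37458 : ∀ i, i < 37458 → P i := stepQ 37457 Q37457 (allL N37457 (tt N68370 D131117) (tt N44500 (iv0 F112348)) (tt N61355 (iv2 F178678)) (tt N49338 F352834) (tt N19014 (iv4 D61514)) (tt N64820 (iv5 F314907)) (tt N68371 D131120) (tt N38284 (iv7 F97855)))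
theorem Q37459 : ∀ i, i < 37459 → P i := stepQ 37458 Q37458 (allL N37458 (tt N68372 D131121) (tt N68373 D131122) (tt N61356 (iv2 F178680)) (tt N19019 F96030) (tt N68371 (iv4 F210010)) (tt N45164 (iv5 F114667)) (tt N19014 (iv6 D61515)) (tt N68374 D131123))
theorem Q37460 : ∀ i, i < 37460 → P i := stepQ 37459 Q37459 (allL N37459 (tt N30379 F96034) (tt N30378 F96035) (tt N37250 F96031) (tt N68375 D131124) (tt N19016 (iv4 D61516)) (tt N19385 F96033) (tt N68376 D131125) (tt N37257 F96032))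
theorem Q37461 : ∀ i, i < 37461 → P i := stepQ 37460 Q37460 (allL N37460 (tt N68377 D131126) (tt N68378 D131127) (tt N37288 F96036) (tt N57265 (iv3 F165923)) (tt N68376 (iv4 F210015)) (tt N45060 (iv5 F114463)) (tt N19016 (iv6 D61517)) (tt N68379 D131128))
theorem Q37462 : ∀ i, i < 37462 → P i := stepQ 37461 Q37461 (allL N37461 (tt N30378 F96040) (tt N30379 F96041) (tt N37257 F96037) (tt N68380 D131129) (tt N19017 (iv4 D61518)) (tt N19383 F96038) (tt N68381 D131130) (tt N37250 F96039))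
theorem Q37463 : ∀ i, i < 37463 → P i := stepQ 37462 Q37462 (allL N37462 (tt N61249 F178435) (tt N68382 D131131) (tt N37283 F96042) (tt N51316 (iv3 F144716)) (tt N68381 (iv4 F210025)) (tt N44963 (iv5 F114203)) (tt N19017 (iv6 D61519)) (tt N68383 D131132))
theorem Q37464 : ∀ i, i < 37464 → P i := stepQ 37463 Q37463 (allL N37463 (tt N31243 (iv1 F96045)) (tt N19018 (iv0 D61520)) (tt N37260 (iv2 F96046)) (tt N68384 D131133) (tt N19396 F96044) (tt N19151 F96043) (tt N68385 D131134) (tt N37263 (iv7 F96047)))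
theorem Q37465 : ∀ i, i < 37465 → P i := stepQ 37464 Q37464 (allL N37464 (tt N19018 (iv1 D61521)) (tt N31243 F96048) (tt N37263 (iv2 F96052)) (tt N68386 D131135) (tt N19398 F96051) (tt N19387 F96050) (tt N68387 D131136) (tt N37260 F96049))
theorem Q37466 : ∀ i, i < 37466 → P i := stepQ 37465 Q37465 (allL N37465 (tt N51559 (iv1 F352939)) (tt N68388 D131138) (tt N68389 D131139) (tt N19018 (iv3 D61522)) (tt N49338 (iv4 F352833)) (tt N30238 F96053) (tt N68390 D131140) (tt N38287 (iv7 F97861)))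
theorem Q37467 : ∀ i, i < 37467 → P i := stepQ 37466 Q37466 (allL N37466 (tt N51789 (iv1 F340446)) (tt N49332 F292600) (tt N55063 (iv2 F331355)) (tt N68390 (iv3 F210044)) (tt N19019 F96054) (tt N55058 (iv5 F331301)) (tt N19018 (iv6 D61523)) (tt N68391 D131144))
theorem Q37468 : ∀ i, i < 37468 → P i := stepQ 37467 Q37467 (allL N37467 (tt N51343 (iv1 F157680)) (tt N19019 (iv0 D61524)) (tt N51263 (iv2 F157808)) (tt N51363 F157809) (tt N51938 (iv4 F331365)) (tt N54887 (iv5 F293645)) (tt N68392 D131147) (tt N51373 F157807))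
theorem Q37469 : ∀ i, i < 37469 → P i := stepQ 37468 Q37468 (allL N37468 (tt N51373 (iv1 F235280)) (tt N51263 (iv0 F235284)) (tt N51343 (iv2 F157678)) (tt N68374 (iv3 F210011)) (tt N68391 (iv4 F210047)) (tt N45166 (iv5 F114668)) (tt N38292 (iv6 F97864)) (tt N19019 (iv7 D61526)))
theorem Q37470 : ∀ i, i < 37470 → P i := stepQ 37469 Q37469 (allL N37469 (tt N37555 (iv1 F96261)) (tt N44503 F112355) (tt N30514 F96055) (tt N35003 (iv3 F313354)) (tt N19020 (iv4 D61527)) (tt N68393 D131149) (tt N35001 F311649) (tt N37377 F96056))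
theorem Q37471 : ∀ i, i < 37471 → P i := stepQ 37470 Q37470 (allL N37470 (tt N64819 (iv1 F314902)) (tt N64818 (iv0 F314898)) (tt N63446 (iv2 F187492)) (tt N64832 (iv3 F315061)) (tt N68394 D131160) (tt N19021 (iv5 D61531)) (tt N68395 D131161) (tt N38296 (iv7 F97876)))
theorem Q37472 : ∀ i, i < 37472 → P i := stepQ 37471 Q37471 (allL N37471 (tt N68396 D131162) (tt N64648 (iv0 F361926)) (tt N63447 (iv2 F187493)) (tt N54342 (iv3 F355373)) (tt N19022 F96059) (tt N68397 D131164) (tt N19021 (iv6 D61532)) (tt N68398 D131165))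
theorem Q37473 : ∀ i, i < 37473 → P i := stepQ 37472 Q37472 (allL N37472 (tt N48483 F309778) (tt N19022 (iv0 D61533)) (tt N44590 (iv2 F130970)) (tt N68399 D131166) (tt N68400 D131167) (tt N63039 (iv5 F315547)) (tt N43312 F108478) (tt N63448 (iv7 F187496)))
theorem Q37474 : ∀ i, i < 37474 → P i := stepQ 37473 Q37473 (allL N37473 (tt N19022 (iv1 D61534)) (tt N48483 F309777) (tt N63448 F187497) (tt N37453 (iv3 F130972)) (tt N68401 D131169) (tt N62482 (iv5 F315549)) (tt N43991 (iv6 F311984)) (tt N44590 F130971))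
theorem Q37475 : ∀ i, i < 37475 → P i := stepQ 37474 Q37474 (allL N37474 (tt N63448 (iv1 F187495)) (tt N44590 F187498) (tt N48483 F308184) (tt N19028 F96060) (tt N68398 (iv4 F210083)) (tt N56152 F317240) (tt N38301 (iv6 F97882)) (tt N19022 (iv7 D61535)))
theorem Q37476 : ∀ i, i < 37476 → P i := stepQ 37475 Q37475 (allL N37475 (tt N46986 F315827) (tt N37536 (iv0 F96223)) (tt N34410 F96061) (tt N47345 (iv3 F312380)) (tt N19023 (iv4 D61536)) (tt N68402 D131173) (tt N46109 F310774) (tt N34414 F96062))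
theorem Q37477 : ∀ i, i < 37477 → P i := stepQ 37476 Q37476 (allL N37476 (tt N19024 (iv1 D61538)) (tt N37374 F96063) (tt N24225 F308221) (tt N46104 F308222) (tt N48388 F308223) (tt N41836 (iv5 F104989)) (tt N44050 (iv6 F184355)) (tt N37373 (iv7 F183626)))
theorem Q37478 : ∀ i, i < 37478 → P i := stepQ 37477 Q37477 (allL N37477 (tt N24225 F308141) (tt N37373 F96068) (tt N37374 F96064) (tt N45306 F308142) (tt N47038 F308143) (tt N44598 (iv5 F112663)) (tt N37371 F96065) (tt N19024 (iv7 D61539)))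
theorem Q37479 : ∀ i, i < 37479 → P i := stepQ 37478 Q37478 (allL N37478 (tt N21944 (iv1 F96073)) (tt N21946 F96072) (tt N19025 (iv2 D61540)) (tt N34412 F96069) (tt N64903 (iv4 F313754)) (tt N19370 F96070) (tt N68403 D131177) (tt N22001 F96071))
theorem Q37480 : ∀ i, i < 37480 → P i := stepQ 37479 Q37479 (allL N37479 (tt N25230 (iv1 F313745)) (tt N37525 (iv0 F96202)) (tt N64903 (iv2 F313753)) (tt N67619 (iv3 F207489)) (tt N19025 (iv4 D61541)) (tt N68404 D131179) (tt N64439 (iv6 F307626)) (tt N37372 F96074))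
theorem Q37481 : ∀ i, i < 37481 → P i := stepQ 37480 Q37480 (allL N37480 (tt N43909 (iv1 F305868)) (tt N68405 D131182) (tt N68403 (iv2 F210111)) (tt N19026 F96075) (tt N64439 (iv4 F307625)) (tt N22548 F96076) (tt N19025 (iv6 D61542)) (tt N68406 D131183))
theorem Q37482 : ∀ i, i < 37482 → P i := stepQ 37481 Q37481 (allL N37481 (tt N19026 (iv1 D61543)) (tt N37371 F96077) (tt N37370 (iv2 F96079)) (tt N23958 F305597) (tt N24718 (iv4 F306361)) (tt N44071 (iv5 F110808)) (tt N44551 F313286) (tt N22028 F96078))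
theorem Q37483 : ∀ i, i < 37483 → P i := stepQ 37482 Q37482 (allL N37482 (tt N37370 (iv1 F96084)) (tt N22028 F96085) (tt N37371 F96081) (tt N68406 (iv3 F210128)) (tt N45588 (iv4 F306034)) (tt N22553 F96082) (tt N37374 F96083) (tt N19026 (iv7 D61544)))
theorem Q37484 : ∀ i, i < 37484 → P i := stepQ 37483 Q37483 (allL N37483 (tt N63228 (iv1 F208270)) (tt N58890 (iv0 F326955)) (tt N63227 F187416) (tt N19027 (iv3 D61546)) (tt N68407 D131185) (tt N21432 F315011) (tt N34445 (iv6 F162896)) (tt N21431 (iv7 F315023)))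
theorem Q37485 : ∀ i, i < 37485 → P i := stepQ 37484 Q37484 (allL N37484 (tt N44551 (iv1 F311040)) (tt N22024 (iv0 F96089)) (tt N38281 (iv2 F186141)) (tt N34445 F162892) (tt N23433 (iv4 F312559)) (tt N21746 F96088) (tt N19027 (iv6 D61549)) (tt N34426 F310277))
theorem Q37486 : ∀ i, i < 37486 → P i := stepQ 37485 Q37485 (allL N37485 (tt N48502 F312353) (tt N22010 (iv0 F232824)) (tt N64898 (iv2 F314463)) (tt N19032 (iv3 D61571)) (tt N64511 F312443) (tt N40029 (iv5 F209822)) (tt N43913 (iv6 F306175)) (tt N34308 F305970))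
theorem Q37487 : ∀ i, i < 37487 → P i := stepQ 37486 Q37486 (allL N37486 (tt N34719 F305926) (tt N19262 F186353) (tt N34721 F305927) (tt N68408 D131232) (tt N19032 (iv4 D61572)) (tt N68409 D131233) (tt N45533 F305928) (tt N34610 F305929))
theorem Q37488 : ∀ i, i < 37488 → P i := stepQ 37487 Q37487 (allL N37487 (tt N38300 F186348) (tt N37122 F186351) (tt N63229 F209616) (tt N19033 (iv3 D61575)) (tt N68410 D131236) (tt N63848 (iv5 F189822)) (tt N34603 F304078) (tt N38303 (iv7 F97885)))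
theorem Q37489 : ∀ i, i < 37489 → P i := stepQ 37488 Q37488 (allL N37488 (tt N38307 (iv1 F97903)) (tt N19034 (iv0 D61577)) (tt N38305 F162911) (tt N47989 (iv3 F308957)) (tt N25205 (iv4 F310450)) (tt N68361 (iv5 F209954)) (tt N45310 (iv6 F310197)) (tt N38306 F162909))
theorem Q37490 : ∀ i, i < 37490 → P i := stepQ 37489 Q37489 (allL N37489 (tt N19034 (iv1 D61578)) (tt N38307 F97902) (tt N38306 (iv2 F162908)) (tt N38299 F207747) (tt N25206 (iv4 F307008)) (tt N38272 (iv5 F97815)) (tt N48441 (iv6 F303704)) (tt N38305 (iv7 F162910)))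
theorem Q37491 : ∀ i, i < 37491 → P i := stepQ 37490 Q37490 (allL N37490 (tt N46110 (iv1 F308973)) (tt N63020 F307132) (tt N37439 F96124) (tt N37514 (iv3 F185312)) (tt N19034 (iv4 D61579)) (tt N21209 (iv5 F308996)) (tt N19036 F96125) (tt N41326 (iv7 F308981)))
theorem Q37492 : ∀ i, i < 37492 → P i := stepQ 37491 Q37491 (allL N37491 (tt N38306 (iv1 F97896)) (tt N38305 F97901) (tt N38307 (iv2 F97898)) (tt N36457 (iv3 F185269)) (tt N41326 (iv4 F308980)) (tt N19035 F96126) (tt N37454 F96127) (tt N19034 (iv7 D61580)))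
theorem Q37493 : ∀ i, i < 37493 → P i := stepQ 37492 Q37492 (allL N37492 (tt N19079 F96132) (tt N57441 F166752) (tt N57430 (iv2 F166707)) (tt N19037 (iv3 D61582)) (tt N38295 F97875) (tt N30676 F96131) (tt N64451 (iv6 F307646)) (tt N38332 (iv7 F97989)))
theorem Q37494 : ∀ i, i < 37494 → P i := stepQ 37493 Q37493 (allL N37493 (tt N19485 F185218) (tt N25462 F311418) (tt N38334 (iv2 F98001)) (tt N64518 (iv3 F307643)) (tt N19037 (iv4 D61583)) (tt N27742 F311419) (tt N42836 F191043) (tt N27741 F311420))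
theorem Q37495 : ∀ i, i < 37495 → P i := stepQ 37494 Q37494 (allL N37494 (tt N47700 (iv1 F306805)) (tt N68411 D131247) (tt N38335 (iv2 F98004)) (tt N64451 (iv3 F307645)) (tt N42836 (iv4 F191045)) (tt N68412 D131248) (tt N19037 (iv6 D61584)) (tt N64623 F305644))
theorem Q37496 : ∀ i, i < 37496 → P i := stepQ 37495 Q37495 (allL N37495 (tt N46519 F304900) (tt N68413 D131251) (tt N38333 (iv2 F97999)) (tt N48457 F313275) (tt N46600 F315629) (tt N66735 (iv5 F205288)) (tt N19038 (iv6 D61586)) (tt N68414 D131252))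
theorem Q37497 : ∀ i, i < 37497 → P i := stepQ 37496 Q37496 (allL N37496 (tt N25465 F311982) (tt N19039 (iv0 D61587)) (tt N22805 (iv2 F96136)) (tt N68415 D131253) (tt N22804 F96135) (tt N23082 F311983) (tt N42096 (iv6 F105455)) (tt N22810 (iv7 F96137)))
theorem Q37498 : ∀ i, i < 37498 → P i := stepQ 37497 Q37497 (allL N37497 (tt N68364 (iv1 F209979)) (tt N68363 F209977) (tt N66850 (iv2 F205862)) (tt N42272 F319523) (tt N19040 F96141) (tt N68416 D131256) (tt N19039 (iv6 D61590)) (tt N43424 F185238))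
theorem Q37499 : ∀ i, i < 37499 → P i := stepQ 37498 Q37498 (allL N37498 (tt N48478 F314587) (tt N19040 (iv0 D61591)) (tt N66851 (iv2 F234103)) (tt N68417 D131258) (tt N37499 F208295) (tt N42297 F317797) (tt N68418 D131260) (tt N66852 (iv7 F234106)))
theorem Q37500 : ∀ i, i < 37500 → P i := stepQ 37499 Q37499 (allL N37499 (tt N19040 (iv1 D61592)) (tt N48478 F314586) (tt N66852 (iv2 F234105)) (tt N68419 D131262) (tt N37498 (iv4 F208295)) (tt N40466 F321795) (tt N40735 (iv6 F323499)) (tt N66851 (iv7 F234104)))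
theorem Q37501 : ∀ i, i < 37501 → P i := stepQ 37500 Q37500 (allL N37500 (tt N66852 (iv1 F205868)) (tt N66851 F205872) (tt N48478 (iv2 F312240)) (tt N19045 F96142) (tt N43424 (iv4 F185212)) (tt N34354 F317612) (tt N25194 F311169) (tt N19040 (iv7 D61593)))
theorem Q37502 : ∀ i, i < 37502 → P i := stepQ 37501 Q37501 (allL N37501 (tt N37369 (iv1 F96148)) (tt N19041 (iv0 D61594)) (tt N37367 F183274) (tt N27630 (iv3 F308022)) (tt N67835 F207983) (tt N42648 (iv5 F307843)) (tt N40593 F315949) (tt N37368 F183272))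
theorem Q37503 : ∀ i, i < 37503 → P i := stepQ 37502 Q37502 (allL N37502 (tt N19041 (iv1 D61595)) (tt N37369 F96143) (tt N37368 (iv2 F183271)) (tt N68411 (iv3 F243087)) (tt N66910 (iv4 F307779)) (tt N41678 (iv5 F104720)) (tt N68420 D131268) (tt N37367 (iv7 F183273)))
theorem Q37504 : ∀ i, i < 37504 → P i := stepQ 37503 Q37503 (allL N37503 (tt N37541 (iv1 F96237)) (tt N37557 (iv0 F96263)) (tt N21002 F96151) (tt N67919 (iv3 F208503)) (tt N19042 (iv4 D61597)) (tt N68421 D131269) (tt N63598 F308844) (tt N24751 (iv7 F311016)))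
theorem Q37505 : ∀ i, i < 37505 → P i := stepQ 37504 Q37504 (allL N37504 (tt N68422 D131271) (tt N68423 D131272) (tt N21003 F96153) (tt N19043 F96154) (tt N63598 (iv4 F307018)) (tt N44137 (iv5 F110890)) (tt N19042 (iv6 D61598)) (tt N61380 (iv7 F307726)))
theorem Q37506 : ∀ i, i < 37506 → P i := stepQ 37505 Q37505 (allL N37505 (tt N19043 (iv1 D61599)) (tt N37366 F96155) (tt N37365 (iv2 F96157)) (tt N42605 (iv3 F303960)) (tt N46403 (iv4 F303987)) (tt N42875 (iv5 F107515)) (tt N46516 (iv6 F303012)) (tt N21823 F96156))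
theorem Q37507 : ∀ i, i < 37507 → P i := stepQ 37506 Q37506 (allL N37506 (tt N37365 (iv1 F96161)) (tt N21823 F96162) (tt N37366 F96159) (tt N61380 (iv3 F307724)) (tt N24715 F305718) (tt N44140 (iv5 F110895)) (tt N37369 F96160) (tt N19043 (iv7 D61600)))
theorem Q37508 : ∀ i, i < 37508 → P i := stepQ 37507 Q37507 (allL N37507 (tt N38344 F109893) (tt N21004 F109894) (tt N38343 F109895) (tt N19044 (iv3 D61602)) (tt N43990 (iv4 F309256)) (tt N42296 (iv5 F315559)) (tt N21554 F109897) (tt N38330 (iv7 F109907)))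
theorem Q37509 : ∀ i, i < 37509 → P i := stepQ 37508 Q37508 (allL N37508 (tt N46516 F303554) (tt N21817 (iv0 F96166)) (tt N38329 F109885) (tt N21554 F109886) (tt N24042 (iv4 F311678)) (tt N21553 F109887) (tt N19044 (iv6 D61605)) (tt N30685 F309495))
theorem Q37510 : ∀ i, i < 37510 → P i := stepQ 37509 Q37509 (allL N37509 (tt N42496 F106296) (tt N19086 F96301) (tt N42502 (iv2 F106307)) (tt N19048 F96170) (tt N63230 (iv4 F186451)) (tt N19046 (iv5 D61611)) (tt N68424 D131285) (tt N38310 (iv7 F97914)))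
theorem Q37511 : ∀ i, i < 37511 → P i := stepQ 37510 Q37510 (allL N37510 (tt N34703 F96172) (tt N45240 F114875) (tt N38308 (iv2 F97904)) (tt N30080 F96171) (tt N68425 D131286) (tt N19047 (iv5 D61612)) (tt N68426 D131287) (tt N38311 (iv7 F97920)))
theorem Q37512 : ∀ i, i < 37512 → P i := stepQ 37511 Q37511 (allL N37511 (tt N21808 F309058) (tt N21807 F309059) (tt N21810 F309060) (tt N42425 (iv3 F311213)) (tt N19048 (iv4 D61613)) (tt N68427 D131289) (tt N42456 F309061) (tt N21805 F309062))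
theorem Q37513 : ∀ i, i < 37513 → P i := stepQ 37512 Q37512 (allL N37512 (tt N38384 (iv1 F215165)) (tt N42467 (iv0 F307426)) (tt N38309 (iv2 F97910)) (tt N68424 (iv3 F210412)) (tt N42456 (iv4 F307963)) (tt N40290 F322749) (tt N19048 (iv6 D61614)) (tt N42453 F306012))
theorem Q37514 : ∀ i, i < 37514 → P i := stepQ 37513 Q37513 (allL N37513 (tt N38315 (iv1 F97938)) (tt N22789 F96175) (tt N19053 F96174) (tt N38283 (iv3 F97851)) (tt N68428 D131293) (tt N19049 (iv5 D61615)) (tt N68429 D131294) (tt N38312 (iv7 F97929)))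
theorem Q37515 : ∀ i, i < 37515 → P i := stepQ 37514 Q37514 (allL N37514 (tt N38321 (iv1 F97958)) (tt N22792 F96177) (tt N19056 F96176) (tt N37490 F185312) (tt N19050 (iv4 D61616)) (tt N41773 (iv5 F311145)) (tt N25100 F308995) (tt N38313 (iv7 F97933)))
theorem Q37516 : ∀ i, i < 37516 → P i := stepQ 37515 Q37515 (allL N37515 (tt N23224 F96182) (tt N44493 (iv0 F112312)) (tt N29969 F96179) (tt N27232 F96180) (tt N68430 D131298) (tt N19052 (iv5 D61618)) (tt N68431 D131299) (tt N34066 F96181))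
theorem Q37517 : ∀ i, i < 37517 → P i := stepQ 37516 Q37516 (allL N37516 (tt N19053 (iv1 D61619)) (tt N38312 (iv0 F97930)) (tt N22789 (iv2 F96184)) (tt N27236 (iv3 F96185)) (tt N68432 D131300) (tt N22786 F96183) (tt N68433 D131301) (tt N38315 (iv7 F97939)))
theorem Q37518 : ∀ i, i < 37518 → P i := stepQ 37517 Q37517 (allL N37517 (tt N68434 D131302) (tt N68435 D131303) (tt N68428 (iv2 F210417)) (tt N68436 D131304) (tt N19053 (iv4 D61620)) (tt N68437 D131305) (tt N68438 D131306) (tt N38316 (iv7 F97942)))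
theorem Q37519 : ∀ i, i < 37519 → P i := stepQ 37518 Q37518 (allL N37518 (tt N68439 D131307) (tt N68440 D131308) (tt N68429 (iv2 F210418)) (tt N31244 F96186) (tt N68438 (iv4 F210445)) (tt N43066 (iv5 F108015)) (tt N19053 (iv6 D61621)) (tt N68441 D131309))
theorem Q37520 : ∀ i, i < 37520 → P i := stepQ 37519 Q37519 (allL N37519 (tt N48130 (iv1 F311863)) (tt N19067 (iv0 F96190)) (tt N27588 (iv2 F309973)) (tt N19055 (iv3 D61624)) (tt N47069 F309683) (tt N21571 F96189) (tt N27586 F309684) (tt N38318 (iv7 F97952)))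
theorem Q37521 : ∀ i, i < 37521 → P i := stepQ 37520 Q37520 (allL N37520 (tt N42611 (iv1 F309834)) (tt N42610 (iv0 F309835)) (tt N23922 (iv2 F309836)) (tt N48159 (iv3 F309838)) (tt N19055 (iv4 D61625)) (tt N68442 D131317) (tt N23921 (iv6 F309842)) (tt N38319 (iv7 F97956)))
theorem Q37522 : ∀ i, i < 37522 → P i := stepQ 37521 Q37521 (allL N37521 (tt N19056 (iv1 D61627)) (tt N38313 (iv0 F97934)) (tt N22792 (iv2 F96192)) (tt N64588 (iv3 F312064)) (tt N22787 F96191) (tt N42293 (iv5 F312067)) (tt N42464 (iv6 F310926)) (tt N38321 (iv7 F97959)))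
theorem Q37523 : ∀ i, i < 37523 → P i := stepQ 37522 Q37522 (allL N37522 (tt N33646 F309948) (tt N41774 (iv0 F311694)) (tt N41773 (iv2 F311144)) (tt N25108 (iv3 F312191)) (tt N68443 D131326) (tt N19056 (iv5 D61628)) (tt N40942 (iv6 F209754)) (tt N38322 (iv7 F97962)))
theorem Q37524 : ∀ i, i < 37524 → P i := stepQ 37523 Q37523 (allL N37523 (tt N48476 (iv1 F309001)) (tt N48455 F311159) (tt N35186 (iv2 F308004)) (tt N19062 F96194) (tt N35191 (iv4 F309002)) (tt N19057 (iv5 D61632)) (tt N19059 F96195) (tt N48465 (iv7 F308007)))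
theorem Q37525 : ∀ i, i < 37525 → P i := stepQ 37524 Q37524 (allL N37524 (tt N21945 F96200) (tt N21943 (iv0 F96201)) (tt N21998 F96197) (tt N32171 F96198) (tt N19058 (iv4 D61634)) (tt N68444 D131335) (tt N44976 (iv6 F114252)) (tt N21914 F96199))
theorem Q37526 : ∀ i, i < 37526 → P i := stepQ 37525 Q37525 (allL N37525 (tt N37479 F96202) (tt N43103 (iv0 F108131)) (tt N35193 (iv2 F312274)) (tt N35467 (iv3 F313475)) (tt N19059 (iv4 D61635)) (tt N43138 (iv5 F108170)) (tt N35191 F311164) (tt N38341 (iv7 F98041)))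
theorem Q37527 : ∀ i, i < 37527 → P i := stepQ 37526 Q37526 (allL N37526 (tt N68445 D131337) (tt N19082 (iv0 F210511)) (tt N68446 D131339) (tt N19060 (iv3 D61636)) (tt N68447 D131340) (tt N42739 F311166) (tt N61409 (iv6 F313481)) (tt N38338 (iv7 F98021)))
theorem Q37528 : ∀ i, i < 37528 → P i := stepQ 37527 Q37527 (allL N37527 (tt N68420 (iv1 F210359)) (tt N41434 (iv0 F104180)) (tt N38337 (iv2 F98019)) (tt N61409 (iv3 F313480)) (tt N67924 (iv4 F208545)) (tt N20928 F96205) (tt N19060 (iv6 D61639)) (tt N35000 F303924))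
theorem Q37529 : ∀ i, i < 37529 → P i := stepQ 37528 Q37528 (allL N37528 (tt N19062 F109932) (tt N25193 (iv0 F305214)) (tt N38339 (iv2 F110524)) (tt N19061 (iv3 D61640)) (tt N63020 (iv4 F305213)) (tt N38367 F109934) (tt N46515 F302858) (tt N38336 (iv7 F98014)))
theorem Q37530 : ∀ i, i < 37530 → P i := stepQ 37529 Q37529 (allL N37529 (tt N25193 F307128) (tt N19062 (iv0 D61642)) (tt N38336 (iv2 F109935)) (tt N68446 (iv3 F210504)) (tt N46110 (iv4 F308975)) (tt N68448 D131344) (tt N33820 F307129) (tt N38339 F110525))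
theorem Q37531 : ∀ i, i < 37531 → P i := stepQ 37530 Q37530 (allL N37530 (tt N38339 (iv1 F98024)) (tt N38336 (iv0 F110526)) (tt N25193 F307127) (tt N48465 F308917) (tt N25225 (iv4 F308806)) (tt N19063 F96208) (tt N38344 (iv6 F98050)) (tt N19062 (iv7 D61645)))
theorem Q37532 : ∀ i, i < 37532 → P i := stepQ 37531 Q37531 (allL N37531 (tt N34139 F312916) (tt N45581 F312917) (tt N19074 F96210) (tt N68449 D131350) (tt N19064 (iv4 D61647)) (tt N46171 F330830) (tt N68450 D131352) (tt N19081 F96211))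
theorem Q37533 : ∀ i, i < 37533 → P i := stepQ 37532 Q37532 (allL N37532 (tt N38328 F155496) (tt N66745 (iv0 F318798)) (tt N19075 F96212) (tt N66824 (iv3 F205723)) (tt N68450 (iv4 F210551)) (tt N21623 F96213) (tt N19064 (iv6 D61648)) (tt N66752 (iv7 F318856)))
theorem Q37534 : ∀ i, i < 37534 → P i := stepQ 37533 Q37533 (allL N37533 (tt N27588 (iv1 F309972)) (tt N38318 F97953) (tt N19067 F96214) (tt N57441 (iv3 F166754)) (tt N63823 (iv4 F189745)) (tt N19065 (iv5 D61649)) (tt N68451 D131353) (tt N48130 (iv7 F311865)))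
theorem Q37535 : ∀ i, i < 37535 → P i := stepQ 37534 Q37534 (allL N37534 (tt N46111 F120339) (tt N38327 (iv0 F97970)) (tt N19068 F96216) (tt N41897 (iv3 F105046)) (tt N26480 F96217) (tt N68452 D131354) (tt N19065 (iv6 D61650)) (tt N41897 (iv7 F105048)))
theorem Q37536 : ∀ i, i < 37536 → P i := stepQ 37535 Q37535 (allL N37535 (tt N38153 (iv1 F97539)) (tt N63821 F189738) (tt N32130 F96218) (tt N57700 (iv3 F167451)) (tt N68453 D131355) (tt N19066 (iv5 D61651)) (tt N50068 (iv6 F138805)) (tt N32132 F96219))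
theorem Q37537 : ∀ i, i < 37537 → P i := stepQ 37536 Q37536 (allL N37536 (tt N37475 F96223) (tt N63825 F189752) (tt N63823 F189746) (tt N68454 D131357) (tt N19067 (iv4 D61653)) (tt N60479 (iv5 F344959)) (tt N60480 (iv6 F341896)) (tt N63822 F189742))
theorem Q37538 : ∀ i, i < 37538 → P i := stepQ 37537 Q37537 (allL N37537 (tt N68455 D131360) (tt N47723 F344134) (tt N68451 (iv2 F210552)) (tt N19075 F96224) (tt N60480 (iv4 F341895)) (tt N68456 D131362) (tt N19067 (iv6 D61654)) (tt N68457 D131363))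
theorem Q37539 : ∀ i, i < 37539 → P i := stepQ 37538 Q37538 (allL N37538 (tt N38318 (iv1 F97954)) (tt N27588 (iv0 F309971)) (tt N48130 (iv2 F311864)) (tt N19076 F96225) (tt N63822 (iv4 F189741)) (tt N19069 F96226) (tt N48423 F311199) (tt N19067 (iv7 D61655)))
theorem Q37540 : ∀ i, i < 37540 → P i := stepQ 37539 Q37539 (allL N37539 (tt N45186 (iv1 F114723)) (tt N44141 (iv0 F110919)) (tt N68452 (iv2 F210553)) (tt N19077 F96228) (tt N34590 F96230) (tt N19068 (iv5 D61656)) (tt N68456 (iv6 F210572)) (tt N21621 F96229))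
theorem Q37541 : ∀ i, i < 37541 → P i := stepQ 37540 Q37540 (allL N37540 (tt N19080 (iv1 F96235)) (tt N19071 (iv0 D61657)) (tt N27697 (iv2 F310650)) (tt N22804 F96233) (tt N34139 (iv4 F310771)) (tt N21575 F96231) (tt N27695 F308662) (tt N22808 F96234))
theorem Q37542 : ∀ i, i < 37542 → P i := stepQ 37541 Q37541 (allL N37541 (tt N22782 F96236) (tt N37503 F96237) (tt N41443 F104230) (tt N54300 (iv3 F342041)) (tt N19071 (iv4 D61658)) (tt N37601 (iv5 F96323)) (tt N68458 D131366) (tt N41444 (iv7 F104233)))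
theorem Q37543 : ∀ i, i < 37543 → P i := stepQ 37542 Q37542 (allL N37542 (tt N68459 D131367) (tt N47740 F316655) (tt N43099 (iv2 F108125)) (tt N45273 (iv3 F114993)) (tt N68458 (iv4 F210577)) (tt N45269 (iv5 F114989)) (tt N19071 (iv6 D61659)) (tt N68460 D131369))
theorem Q37544 : ∀ i, i < 37544 → P i := stepQ 37543 Q37543 (allL N37543 (tt N22808 (iv1 F96241)) (tt N27697 F312913) (tt N19080 F96238) (tt N22790 F96239) (tt N41444 (iv4 F104234)) (tt N19073 F96240) (tt N68461 D131370) (tt N19071 (iv7 D61660)))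
theorem Q37545 : ∀ i, i < 37545 → P i := stepQ 37544 Q37544 (allL N37544 (tt N19074 (iv1 D61662)) (tt N19081 F96245) (tt N45581 F312914) (tt N68462 D131374) (tt N22808 F96246) (tt N68463 D131375) (tt N68464 D131376) (tt N34139 F312915))
theorem Q37546 : ∀ i, i < 37546 → P i := stepQ 37545 Q37545 (allL N37545 (tt N44740 (iv1 F315826)) (tt N47578 (iv0 F315823)) (tt N68465 D131379) (tt N19074 (iv3 D61663)) (tt N68454 (iv4 F210564)) (tt N68466 D131380) (tt N68467 D131381) (tt N68468 D131382))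
theorem Q37547 : ∀ i, i < 37547 → P i := stepQ 37546 Q37546 (allL N37546 (tt N45861 F322686) (tt N46341 (iv0 F330823)) (tt N46171 (iv2 F330822)) (tt N68466 (iv3 F210589)) (tt N37602 F96326) (tt N19074 (iv5 D61664)) (tt N45923 (iv6 F330827)) (tt N45922 F330819))
theorem Q37548 : ∀ i, i < 37548 → P i := stepQ 37547 Q37547 (allL N37547 (tt N45600 F316719) (tt N68469 D131388) (tt N68450 (iv2 F210550)) (tt N68467 (iv3 F210590)) (tt N19075 F96247) (tt N68470 D131389) (tt N19074 (iv6 D61665)) (tt N68471 D131390))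
theorem Q37549 : ∀ i, i < 37549 → P i := stepQ 37548 Q37548 (allL N37548 (tt N45581 F312918) (tt N34139 F312919) (tt N19081 F96248) (tt N68468 (iv3 F210591)) (tt N19076 F96249) (tt N45922 F330818) (tt N68472 D131391) (tt N19074 (iv7 D61666)))
theorem Q37550 : ∀ i, i < 37550 → P i := stepQ 37549 Q37549 (allL N37549 (tt N66752 (iv1 F318852)) (tt N19075 (iv0 D61667)) (tt N38328 F155493) (tt N38343 (iv3 F155492)) (tt N68473 D131392) (tt N66746 (iv5 F317386)) (tt N42772 F107100) (tt N66745 (iv7 F318801)))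
theorem Q37551 : ∀ i, i < 37551 → P i := stepQ 37550 Q37550 (allL N37550 (tt N40633 F318755) (tt N44017 F317618) (tt N21623 F96250) (tt N68456 (iv3 F210571)) (tt N68474 D131396) (tt N19075 (iv5 D61669)) (tt N19077 F96251) (tt N68475 D131397))
theorem Q37552 : ∀ i, i < 37552 → P i := stepQ 37551 Q37551 (allL N37551 (tt N66745 (iv1 F318799)) (tt N38328 F210393) (tt N66752 (iv2 F318853)) (tt N68457 (iv3 F210574)) (tt N68471 (iv4 F210598)) (tt N68475 (iv5 F210607)) (tt N68445 (iv6 F210514)) (tt N19075 (iv7 D61670)))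
theorem Q37553 : ∀ i, i < 37553 → P i := stepQ 37552 Q37552 (allL N37552 (tt N68446 (iv1 F210505)) (tt N38338 (iv0 F184650)) (tt N19082 F96252) (tt N48423 (iv3 F309034)) (tt N68472 (iv4 F210600)) (tt N19082 F96253) (tt N19076 (iv6 D61671)) (tt N68445 (iv7 F210515)))
theorem Q37554 : ∀ i, i < 37554 → P i := stepQ 37553 Q37553 (allL N37553 (tt N46060 (iv1 F120159)) (tt N46060 (iv0 F120158)) (tt N21622 F96254) (tt N48749 (iv3 F134269)) (tt N19077 (iv4 D61672)) (tt N27365 F96256) (tt N68474 (iv6 F210605)) (tt N21622 F96255))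
theorem Q37555 : ∀ i, i < 37555 → P i := stepQ 37554 Q37554 (allL N37554 (tt N22795 F96259) (tt N38263 (iv0 F97799)) (tt N34090 F96257) (tt N43011 (iv3 F107931)) (tt N68476 D131398) (tt N19078 (iv5 D61673)) (tt N68477 D131399) (tt N34089 F96258))
theorem Q37556 : ∀ i, i < 37556 → P i := stepQ 37555 Q37555 (allL N37555 (tt N22797 F96260) (tt N37469 F96261) (tt N57425 F166669) (tt N28172 F319570) (tt N19079 (iv4 D61674)) (tt N68478 D131401) (tt N28169 (iv6 F321532)) (tt N57426 (iv7 F166672)))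
theorem Q37557 : ∀ i, i < 37557 → P i := stepQ 37556 Q37556 (allL N37556 (tt N68479 D131403) (tt N68480 D131404) (tt N66825 (iv2 F205730)) (tt N19082 F96262) (tt N28169 F323251) (tt N48423 F311198) (tt N19079 (iv6 D61675)) (tt N68481 D131405))
theorem Q37558 : ∀ i, i < 37558 → P i := stepQ 37557 Q37557 (allL N37557 (tt N37503 F96263) (tt N22782 F96264) (tt N41444 F104235) (tt N44767 (iv3 F313251)) (tt N19080 (iv4 D61676)) (tt N37602 (iv5 F96325)) (tt N68482 D131407) (tt N41443 F104231))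
theorem Q37559 : ∀ i, i < 37559 → P i := stepQ 37558 Q37558 (allL N37558 (tt N48133 F311654) (tt N68415 (iv0 F232876)) (tt N68461 (iv2 F210578)) (tt N43013 (iv3 F107936)) (tt N68482 (iv4 F210630)) (tt N68461 (iv5 F210580)) (tt N19080 (iv6 D61677)) (tt N68483 D131410))
theorem Q37560 : ∀ i, i < 37560 → P i := stepQ 37559 Q37559 (allL N37559 (tt N54433 (iv1 F342037)) (tt N68484 D131412) (tt N46839 (iv2 F317267)) (tt N19081 (iv3 D61678)) (tt N28172 (iv4 F317269)) (tt N46336 F330849) (tt N28170 F315078) (tt N68449 (iv7 F210547)))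
theorem Q37561 : ∀ i, i < 37561 → P i := stepQ 37560 Q37560 (allL N37560 (tt N68462 F210585) (tt N34717 F311202) (tt N68472 (iv2 F210599)) (tt N28170 (iv3 F313515)) (tt N19082 F96265) (tt N34753 (iv5 F330860)) (tt N19081 (iv6 D61680)) (tt N46840 (iv7 F313516)))
theorem Q37562 : ∀ i, i < 37562 → P i := stepQ 37561 Q37561 (allL N37561 (tt N19082 (iv1 D61682)) (tt N68445 F210519) (tt N38338 F210517) (tt N38339 (iv3 F210518)) (tt N68485 D131420) (tt N68486 D131421) (tt N48452 (iv6 F303975)) (tt N68446 F210512))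
theorem Q37563 : ∀ i, i < 37563 → P i := stepQ 37562 Q37562 (allL N37562 (tt N38338 (iv1 F184656)) (tt N68446 F210516) (tt N68445 F210513) (tt N68481 (iv3 F210629)) (tt N46840 F315980) (tt N68445 F210520) (tt N66752 (iv6 F318855)) (tt N19082 (iv7 D61683)))
theorem Q37564 : ∀ i, i < 37564 → P i := stepQ 37563 Q37563 (allL N37563 (tt N42516 (iv1 F106328)) (tt N24111 F312401) (tt N19087 F96266) (tt N28512 (iv3 F314230)) (tt N19083 (iv4 D61684)) (tt N68487 D131424) (tt N68488 D131425) (tt N19090 F96267))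
theorem Q37565 : ∀ i, i < 37565 → P i := stepQ 37564 Q37564 (allL N37564 (tt N38357 (iv1 F278615)) (tt N57707 F278612) (tt N19088 F96268) (tt N66826 (iv3 F205731)) (tt N68488 (iv4 F210649)) (tt N21108 F96269) (tt N19083 (iv6 D61685)) (tt N68489 D131428))
theorem Q37566 : ∀ i, i < 37566 → P i := stepQ 37565 Q37565 (allL N37565 (tt N19097 (iv1 F96271)) (tt N19084 (iv0 D61686)) (tt N19092 F96273) (tt N45517 (iv3 F314754)) (tt N22011 F96270) (tt N68490 D131430) (tt N68491 D131431) (tt N19093 (iv7 F96272)))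
theorem Q37567 : ∀ i, i < 37567 → P i := stepQ 37566 Q37566 (allL N37566 (tt N19084 (iv1 D61687)) (tt N19097 F96274) (tt N19093 (iv2 F96277)) (tt N46094 (iv3 F312172)) (tt N21576 F96276) (tt N68492 D131433) (tt N63575 (iv6 F312053)) (tt N19092 F96275))
theorem Q37568 : ∀ i, i < 37568 → P i := stepQ 37567 Q37567 (allL N37567 (tt N68493 D131435) (tt N68494 D131436) (tt N49640 (iv2 F307276)) (tt N19084 (iv3 D61688)) (tt N22743 F96278) (tt N68495 D131438) (tt N24534 F305320) (tt N40040 (iv7 F101059)))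
theorem Q37569 : ∀ i, i < 37569 → P i := stepQ 37568 Q37568 (allL N37568 (tt N68496 D131440) (tt N68497 D131441) (tt N19095 F96279) (tt N68495 (iv3 F210677)) (tt N37605 (iv4 F96332)) (tt N19084 (iv5 D61689)) (tt N68498 D131442) (tt N37603 (iv7 F96330)))
theorem Q37570 : ∀ i, i < 37570 → P i := stepQ 37569 Q37569 (allL N37569 (tt N34436 (iv1 F302947)) (tt N46082 (iv0 F305058)) (tt N19096 F96280) (tt N24534 (iv3 F302948)) (tt N19085 F96281) (tt N24532 (iv5 F305060)) (tt N19084 (iv6 D61690)) (tt N49639 (iv7 F302922)))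
theorem Q37571 : ∀ i, i < 37571 → P i := stepQ 37570 Q37570 (allL N37570 (tt N19100 (iv1 F96287)) (tt N19085 (iv0 D61691)) (tt N19098 F155210) (tt N28418 F305056) (tt N24106 (iv4 F306996)) (tt N46128 F305057) (tt N42737 (iv6 F305785)) (tt N19099 F155211))
theorem Q37572 : ∀ i, i < 37572 → P i := stepQ 37571 Q37571 (allL N37571 (tt N19085 (iv1 D61692)) (tt N19100 F96282) (tt N19099 F155208) (tt N46445 (iv3 F305429)) (tt N24107 (iv4 F306997)) (tt N21605 (iv5 F96283)) (tt N68499 D131452) (tt N19098 F155209))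
theorem Q37573 : ∀ i, i < 37573 → P i := stepQ 37572 Q37572 (allL N37572 (tt N19099 (iv1 F96288)) (tt N19098 F96289) (tt N19100 F96284) (tt N22765 F96285) (tt N49639 (iv4 F302921)) (tt N21768 F96286) (tt N43987 (iv6 F302923)) (tt N19085 (iv7 D61693)))
theorem Q37574 : ∀ i, i < 37574 → P i := stepQ 37573 Q37573 (allL N37573 (tt N42502 (iv1 F106303)) (tt N38310 F97917) (tt N19086 (iv2 D61696)) (tt N61345 F178652) (tt N33960 (iv4 F96295)) (tt N41358 F104017) (tt N68500 D131453) (tt N42496 (iv7 F106294)))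
theorem Q37575 : ∀ i, i < 37575 → P i := stepQ 37574 Q37574 (allL N37574 (tt N33964 F96292) (tt N33936 F96291) (tt N33960 F96294) (tt N68501 D131454) (tt N19086 (iv4 D61697)) (tt N68502 D131455) (tt N68503 D131456) (tt N33961 F96290))
theorem Q37576 : ∀ i, i < 37576 → P i := stepQ 37575 Q37575 (allL N37575 (tt N68504 D131457) (tt N68505 D131458) (tt N68500 (iv2 F210714)) (tt N19088 F96296) (tt N68503 (iv4 F210723)) (tt N41360 (iv5 F104025)) (tt N19086 (iv6 D61698)) (tt N68506 D131459))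
theorem Q37577 : ∀ i, i < 37577 → P i := stepQ 37576 Q37576 (allL N37576 (tt N19090 (iv1 F96298)) (tt N19087 (iv0 D61699)) (tt N42516 F106331) (tt N24114 (iv3 F314838)) (tt N37441 F96297) (tt N45861 F322688) (tt N64274 F312404) (tt N24111 F312405))
theorem Q37578 : ∀ i, i < 37578 → P i := stepQ 37577 Q37577 (allL N37577 (tt N19087 (iv1 D61700)) (tt N19090 F96299) (tt N24111 (iv2 F310147)) (tt N34191 (iv3 F310536)) (tt N22188 F96300) (tt N46341 F330834) (tt N24108 F308642) (tt N42516 (iv7 F106329)))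
theorem Q37579 : ∀ i, i < 37579 → P i := stepQ 37578 Q37578 (allL N37578 (tt N68507 D131464) (tt N68508 D131465) (tt N47097 (iv2 F315396)) (tt N19087 (iv3 D61701)) (tt N68501 (iv4 F210716)) (tt N68509 D131467) (tt N68510 D131468) (tt N42517 (iv7 F106332)))
theorem Q37580 : ∀ i, i < 37580 → P i := stepQ 37579 Q37579 (allL N37579 (tt N68511 D131469) (tt N63477 (iv0 F313003)) (tt N68487 (iv2 F210644)) (tt N68509 (iv3 F210732)) (tt N37595 (iv4 F96318)) (tt N19087 (iv5 D61702)) (tt N48356 F348467) (tt N42518 (iv7 F106334)))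
theorem Q37581 : ∀ i, i < 37581 → P i := stepQ 37580 Q37580 (allL N37580 (tt N68512 D131472) (tt N68513 D131473) (tt N68488 (iv2 F210648)) (tt N68510 (iv3 F210733)) (tt N19088 F96302) (tt N68514 D131474) (tt N19087 (iv6 D61703)) (tt N68515 D131475))
theorem Q37582 : ∀ i, i < 37582 → P i := stepQ 37581 Q37581 (allL N37581 (tt N68489 (iv1 F210656)) (tt N19088 (iv0 D61704)) (tt N38357 F325093) (tt N30560 (iv3 F326047)) (tt N68516 D131478) (tt N68517 D131479) (tt N68518 D131480) (tt N57707 F325094))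
theorem Q37583 : ∀ i, i < 37583 → P i := stepQ 37582 Q37582 (allL N37582 (tt N19088 (iv1 D61705)) (tt N68489 F210655) (tt N57707 (iv2 F323849)) (tt N19105 (iv3 F323850)) (tt N68519 D131483) (tt N68520 D131484) (tt N68521 D131485) (tt N38357 (iv7 F323855)))
theorem Q37584 : ∀ i, i < 37584 → P i := stepQ 37583 Q37583 (allL N37583 (tt N57707 F278613) (tt N38357 (iv0 F278614)) (tt N68489 (iv2 F210651)) (tt N68506 (iv3 F210724)) (tt N68515 (iv4 F210744)) (tt N41369 (iv5 F104037)) (tt N42515 (iv6 F106320)) (tt N19088 (iv7 D61706)))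
theorem Q37585 : ∀ i, i < 37585 → P i := stepQ 37584 Q37584 (allL N37584 (tt N29343 F307755) (tt N34119 F96306) (tt N34117 F96303) (tt N28221 (iv3 F309764)) (tt N19089 (iv4 D61707)) (tt N68522 D131487) (tt N68523 D131488) (tt N28511 (iv7 F309596)))
theorem Q37586 : ∀ i, i < 37586 → P i := stepQ 37585 Q37585 (allL N37585 (tt N68524 D131489) (tt N68525 D131490) (tt N66827 (iv2 F205734)) (tt N19091 F96307) (tt N68523 (iv4 F210756)) (tt N21770 F96308) (tt N19089 (iv6 D61708)) (tt N68526 D131491))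
theorem Q37587 : ∀ i, i < 37587 → P i := stepQ 37586 Q37586 (allL N37586 (tt N63477 (iv1 F313004)) (tt N68511 F210736) (tt N42518 (iv2 F106333)) (tt N47100 (iv3 F314375)) (tt N37592 (iv4 F96317)) (tt N19090 (iv5 D61710)) (tt N65865 (iv6 F352283)) (tt N68487 (iv7 F210645)))
theorem Q37588 : ∀ i, i < 37588 → P i := stepQ 37587 Q37587 (allL N37587 (tt N47965 (iv1 F314259)) (tt N24117 (iv0 F314258)) (tt N42514 (iv2 F106316)) (tt N47101 (iv3 F314376)) (tt N19091 F96309) (tt N68527 D131500) (tt N19090 (iv6 D61711)) (tt N47963 (iv7 F316776)))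
theorem Q37589 : ∀ i, i < 37589 → P i := stepQ 37588 Q37588 (allL N37588 (tt N42515 (iv1 F106323)) (tt N19091 (iv0 D61712)) (tt N30557 F184625) (tt N19110 F184626) (tt N63578 (iv4 F312054)) (tt N68528 D131503) (tt N68486 (iv6 F210636)) (tt N38368 F184627))
theorem Q37590 : ∀ i, i < 37590 → P i := stepQ 37589 Q37589 (allL N37589 (tt N38368 (iv1 F184652)) (tt N30557 (iv0 F184653)) (tt N42515 (iv2 F106318)) (tt N68526 (iv3 F210758)) (tt N47963 (iv4 F312051)) (tt N21775 F96310) (tt N68489 (iv6 F210653)) (tt N19091 (iv7 D61714)))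
theorem Q37591 : ∀ i, i < 37591 → P i := stepQ 37590 Q37590 (allL N37590 (tt N46096 (iv1 F314755)) (tt N22103 (iv0 F314756)) (tt N46093 (iv2 F314757)) (tt N19092 (iv3 D61715)) (tt N42485 F312361) (tt N68529 D131508) (tt N68530 D131509) (tt N46094 F312362))
theorem Q37592 : ∀ i, i < 37592 → P i := stepQ 37591 Q37591 (allL N37591 (tt N22815 (iv1 F96316)) (tt N22166 F96314) (tt N22011 F96311) (tt N22785 F96315) (tt N19092 (iv4 D61716)) (tt N20951 F96313) (tt N68531 D131510) (tt N21576 F96312))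
theorem Q37593 : ∀ i, i < 37593 → P i := stepQ 37592 Q37592 (allL N37592 (tt N41445 (iv1 F104237)) (tt N47376 F315648) (tt N68490 (iv2 F210659)) (tt N68529 (iv3 F210772)) (tt N37586 F96317) (tt N19092 (iv5 D61717)) (tt N68532 D131511) (tt N68492 (iv7 F210670)))
theorem Q37594 : ∀ i, i < 37594 → P i := stepQ 37593 Q37593 (allL N37593 (tt N68516 (iv1 F335004)) (tt N68519 (iv0 F233693)) (tt N68491 (iv2 F210664)) (tt N68530 (iv3 F210774)) (tt N68531 (iv4 F210777)) (tt N68533 D131514) (tt N19092 (iv6 D61718)) (tt N68534 D131515))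
theorem Q37595 : ∀ i, i < 37595 → P i := stepQ 37594 Q37594 (allL N37594 (tt N24700 (iv1 F317095)) (tt N45520 (iv0 F317096)) (tt N45518 (iv2 F317097)) (tt N19093 (iv3 D61719)) (tt N28618 (iv4 F317098)) (tt N47438 (iv5 F317101)) (tt N24719 (iv6 F316000)) (tt N45517 F314844))
theorem Q37596 : ∀ i, i < 37596 → P i := stepQ 37595 Q37595 (allL N37595 (tt N47376 F314845) (tt N41445 (iv0 F104236)) (tt N68492 (iv2 F210668)) (tt N47438 (iv3 F317100)) (tt N37579 F96318) (tt N19093 (iv5 D61720)) (tt N68535 D131522) (tt N68490 (iv7 F210660)))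
theorem Q37597 : ∀ i, i < 37597 → P i := stepQ 37596 Q37596 (allL N37596 (tt N63578 F313537) (tt N24740 F313538) (tt N63575 F313539) (tt N24719 (iv3 F315999)) (tt N63091 F185491) (tt N68536 D131525) (tt N19093 (iv6 D61721)) (tt N63576 F313540))
theorem Q37598 : ∀ i, i < 37598 → P i := stepQ 37597 Q37597 (allL N37597 (tt N38070 (iv1 F97301)) (tt N19094 (iv0 D61722)) (tt N38079 (iv2 F216639)) (tt N24081 (iv3 F314722)) (tt N44724 (iv4 F314724)) (tt N68537 D131530) (tt N68538 D131531) (tt N38078 F216638))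
theorem Q37599 : ∀ i, i < 37599 → P i := stepQ 37598 Q37598 (allL N37598 (tt N19094 (iv1 D61723)) (tt N38070 F97300) (tt N38078 F216637) (tt N68539 D131533) (tt N38630 (iv4 F98492)) (tt N68540 D131534) (tt N68541 D131535) (tt N38079 (iv7 F216640)))
theorem Q37600 : ∀ i, i < 37600 → P i := stepQ 37599 Q37599 (allL N37599 (tt N38079 (iv1 F97308)) (tt N38078 F97307) (tt N19094 (iv2 D61724)) (tt N49640 (iv3 F307277)) (tt N19115 F96319) (tt N64136 (iv5 F334252)) (tt N44734 F306791) (tt N38070 (iv7 F97299)))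
theorem Q37601 : ∀ i, i < 37601 → P i := stepQ 37600 Q37600 (allL N37600 (tt N64072 (iv1 F345780)) (tt N64135 (iv0 F334268)) (tt N64136 (iv2 F334250)) (tt N19095 F96320) (tt N68542 D131540) (tt N19094 (iv5 D61725)) (tt N68543 D131541) (tt N38080 (iv7 F97310)))
theorem Q37602 : ∀ i, i < 37602 → P i := stepQ 37601 Q37601 (allL N37601 (tt N37603 (iv1 F96329)) (tt N19095 (iv0 D61727)) (tt N68496 (iv2 F210683)) (tt N68544 D131546) (tt N24058 F330825) (tt N37541 F96323) (tt N24057 (iv6 F330855)) (tt N68497 (iv7 F210686)))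
theorem Q37603 : ∀ i, i < 37603 → P i := stepQ 37602 Q37602 (allL N37602 (tt N19095 (iv1 D61728)) (tt N37603 (iv0 F96328)) (tt N68497 (iv2 F210689)) (tt N48300 (iv3 F330856)) (tt N37546 (iv4 F96326)) (tt N37557 F96325) (tt N48298 (iv6 F330857)) (tt N68496 (iv7 F210684)))
theorem Q37604 : ∀ i, i < 37604 → P i := stepQ 37603 Q37603 (allL N37603 (tt N37602 F96328) (tt N37601 F96329) (tt N37605 (iv2 F96331)) (tt N68545 D131550) (tt N19095 (iv4 D61729)) (tt N30681 F96327) (tt N68546 D131551) (tt N37568 F96330))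
theorem Q37605 : ∀ i, i < 37605 → P i := stepQ 37604 Q37604 (allL N37604 (tt N68547 D131552) (tt N68548 D131553) (tt N68498 (iv2 F210690)) (tt N68543 (iv3 F210791)) (tt N68546 (iv4 F210802)) (tt N68549 D131554) (tt N19095 (iv6 D61730)) (tt N68550 D131555))
theorem Q37606 : ∀ i, i < 37606 → P i := stepQ 37605 Q37605 (allL N37605 (tt N68497 (iv1 F210685)) (tt N68496 F210681) (tt N37603 F96331) (tt N38080 (iv3 F97309)) (tt N37568 F96332) (tt N19097 F96333) (tt N68551 D131556) (tt N19095 (iv7 D61731)))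
theorem Q37607 : ∀ i, i < 37607 → P i := stepQ 37606 Q37606 (allL N37606 (tt N49639 F305274) (tt N19096 (iv0 D61732)) (tt N34436 F305275) (tt N22101 (iv3 F307222)) (tt N42463 (iv4 F306109)) (tt N52821 (iv5 F307223)) (tt N24732 (iv6 F307224)) (tt N46082 F305276))
theorem Q37608 : ∀ i, i < 37608 → P i := stepQ 37607 Q37607 (allL N37607 (tt N19096 (iv1 D61733)) (tt N49639 F305271) (tt N46082 F305272) (tt N24094 (iv3 F307220)) (tt N46394 (iv4 F305882)) (tt N44756 (iv5 F307221)) (tt N44785 (iv6 F305321)) (tt N34436 F305273))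
theorem Q37609 : ∀ i, i < 37609 → P i := stepQ 37608 Q37608 (allL N37608 (tt N63583 (iv1 F307270)) (tt N24693 (iv0 F307271)) (tt N24532 F305319) (tt N46875 (iv3 F306581)) (tt N27584 (iv4 F307272)) (tt N19096 (iv5 D61734)) (tt N68549 (iv6 F210803)) (tt N47686 (iv7 F306567)))
theorem Q37610 : ∀ i, i < 37610 → P i := stepQ 37609 Q37609 (allL N37609 (tt N46082 (iv1 F305059)) (tt N34436 F304565) (tt N49639 F304566) (tt N44735 (iv3 F305047)) (tt N19100 F96334) (tt N47686 (iv5 F306566)) (tt N68552 D131571) (tt N19096 (iv7 D61735)))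
theorem Q37611 : ∀ i, i < 37611 → P i := stepQ 37610 Q37610 (allL N37610 (tt N68553 D131572) (tt N68554 D131573) (tt N57702 (iv2 F167534)) (tt N38081 (iv3 F97311)) (tt N19101 F96335) (tt N63605 (iv5 F343414)) (tt N19097 (iv6 D61736)) (tt N68552 (iv7 F210821)))
theorem Q37612 : ∀ i, i < 37612 → P i := stepQ 37611 Q37611 (allL N37611 (tt N42452 (iv1 F307019)) (tt N23498 F305093) (tt N46446 (iv2 F305427)) (tt N19098 (iv3 D61738)) (tt N68555 D131578) (tt N25828 F305094) (tt N24287 (iv6 F307021)) (tt N46445 (iv7 F305430)))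
theorem Q37613 : ∀ i, i < 37613 → P i := stepQ 37612 Q37612 (allL N37612 (tt N21841 (iv1 F307189)) (tt N24733 F306031) (tt N42737 F306032) (tt N24287 (iv3 F307020)) (tt N24116 (iv4 F307904)) (tt N32806 (iv5 F307981)) (tt N19098 (iv6 D61741)) (tt N42738 (iv7 F307838)))
theorem Q37614 : ∀ i, i < 37614 → P i := stepQ 37613 Q37613 (allL N37613 (tt N68556 D131593) (tt N68518 (iv0 F210844)) (tt N68499 (iv2 F210712)) (tt N52877 (iv3 F307595)) (tt N47092 (iv4 F307905)) (tt N36364 F320015) (tt N19099 (iv6 D61746)) (tt N68557 D131596))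
theorem Q37615 : ∀ i, i < 37615 → P i := stepQ 37614 Q37614 (allL N37614 (tt N57704 (iv1 F167536)) (tt N57703 F167541) (tt N43987 F305279) (tt N19121 F96340) (tt N68552 (iv4 F210820)) (tt N63157 (iv5 F185781)) (tt N19100 (iv6 D61747)) (tt N19101 F96341))
theorem Q37616 : ∀ i, i < 37616 → P i := stepQ 37615 Q37615 (allL N37615 (tt N43987 F305278) (tt N19101 (iv0 D61748)) (tt N57703 (iv2 F359883)) (tt N68558 D131598) (tt N64273 (iv4 F333408)) (tt N57693 (iv5 F333705)) (tt N68559 D131601) (tt N57704 (iv7 F359876)))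
theorem Q37617 : ∀ i, i < 37617 → P i := stepQ 37616 Q37616 (allL N37616 (tt N19101 (iv1 D61749)) (tt N43987 F305277) (tt N57704 (iv2 F359875)) (tt N68560 D131603) (tt N47198 F317489) (tt N57694 (iv5 F333698)) (tt N68561 D131606) (tt N57703 (iv7 F359884)))
theorem Q37618 : ∀ i, i < 37618 → P i := stepQ 37617 Q37617 (allL N37617 (tt N62589 (iv1 F323831)) (tt N68562 D131608) (tt N66853 (iv2 F205879)) (tt N67758 (iv3 F207753)) (tt N19103 F96342) (tt N68563 D131609) (tt N19102 (iv6 D61751)) (tt N68564 D131610))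
theorem Q37619 : ∀ i, i < 37619 → P i := stepQ 37618 Q37618 (allL N37618 (tt N66856 (iv1 F205886)) (tt N19103 (iv0 D61752)) (tt N66854 (iv2 F340986)) (tt N68565 D131612) (tt N68566 D131613) (tt N52583 (iv5 F340995)) (tt N68567 D131615) (tt N66855 (iv7 F340991)))
theorem Q37620 : ∀ i, i < 37620 → P i := stepQ 37619 Q37619 (allL N37619 (tt N19103 (iv1 D61753)) (tt N66856 F205885) (tt N66855 (iv2 F340990)) (tt N68568 D131617) (tt N68569 D131618) (tt N68570 D131619) (tt N68571 D131620) (tt N66854 (iv7 F340987)))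
theorem Q37621 : ∀ i, i < 37621 → P i := stepQ 37620 Q37620 (allL N37620 (tt N66855 (iv1 F205881)) (tt N66854 F205884) (tt N66856 (iv2 F205883)) (tt N19106 F96343) (tt N68564 (iv4 F210852)) (tt N41333 (iv5 F103948)) (tt N38366 (iv6 F98092)) (tt N19103 (iv7 D61754)))
theorem Q37622 : ∀ i, i < 37622 → P i := stepQ 37621 Q37621 (allL N37621 (tt N41435 F162553) (tt N33506 (iv0 F182739)) (tt N38358 (iv2 F182264)) (tt N57706 (iv3 F237437)) (tt N41037 F182255) (tt N19104 (iv5 D61758)) (tt N40639 (iv6 F317831)) (tt N36379 (iv7 F182254)))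
theorem Q37623 : ∀ i, i < 37623 → P i := stepQ 37622 Q37622 (allL N37622 (tt N19120 F104518) (tt N21446 F315561) (tt N38359 F182270) (tt N21843 F303597) (tt N44766 (iv4 F302502)) (tt N21670 F96345) (tt N19104 (iv6 D61759)) (tt N38383 (iv7 F182273)))
theorem Q37624 : ∀ i, i < 37624 → P i := stepQ 37623 Q37623 (allL N37623 (tt N33506 (iv1 F182740)) (tt N41435 (iv0 F162554)) (tt N36379 (iv2 F182260)) (tt N68520 (iv3 F323853)) (tt N33455 (iv4 F114318)) (tt N19105 (iv5 D61763)) (tt N29749 F96347) (tt N38358 F182263))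
theorem Q37625 : ∀ i, i < 37625 → P i := stepQ 37624 Q37624 (allL N37624 (tt N68572 D131633) (tt N38385 (iv0 F162561)) (tt N38360 (iv2 F182279)) (tt N68521 (iv3 F320625)) (tt N44082 F321977) (tt N48147 (iv5 F131497)) (tt N19105 (iv6 D61764)) (tt N68573 D131634))
theorem Q37626 : ∀ i, i < 37626 → P i := stepQ 37625 Q37625 (allL N37625 (tt N34067 F309056) (tt N30510 F96350) (tt N19108 F96348) (tt N21451 (iv3 F309131)) (tt N19107 (iv4 D61765)) (tt N21443 (iv5 F311212)) (tt N63728 (iv6 F309130)) (tt N38350 (iv7 F98066)))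
theorem Q37627 : ∀ i, i < 37627 → P i := stepQ 37626 Q37626 (allL N37626 (tt N66956 (iv1 F309738)) (tt N24298 F309057) (tt N19109 F96351) (tt N38362 (iv3 F98083)) (tt N63728 (iv4 F309129)) (tt N42680 (iv5 F106827)) (tt N19107 (iv6 D61766)) (tt N68574 D131639))
theorem Q37628 : ∀ i, i < 37628 → P i := stepQ 37627 Q37627 (allL N37627 (tt N19108 (iv1 D61767)) (tt N38350 (iv0 F98067)) (tt N30510 (iv2 F96354)) (tt N42490 (iv3 F311691)) (tt N23322 F96353) (tt N41774 (iv5 F311696)) (tt N44548 (iv6 F210467)) (tt N34067 F309503))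
theorem Q37629 : ∀ i, i < 37629 → P i := stepQ 37628 Q37628 (allL N37628 (tt N44498 (iv1 F112324)) (tt N68575 D131641) (tt N21443 (iv2 F311211)) (tt N44858 (iv3 F312181)) (tt N68576 D131642) (tt N19108 (iv5 D61768)) (tt N21440 (iv6 F312187)) (tt N38352 (iv7 F98071)))
theorem Q37630 : ∀ i, i < 37630 → P i := stepQ 37629 Q37629 (allL N37629 (tt N44547 (iv1 F209817)) (tt N56124 F309936) (tt N63728 F309937) (tt N43148 F309938) (tt N19109 F96355) (tt N45244 (iv5 F312188)) (tt N19108 (iv6 D61769)) (tt N63727 F309939))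
theorem Q37631 : ∀ i, i < 37631 → P i := stepQ 37630 Q37630 (allL N37630 (tt N68574 (iv1 F210975)) (tt N19109 (iv0 D61770)) (tt N66956 (iv2 F309739)) (tt N24301 (iv3 F311334)) (tt N42703 (iv4 F311421)) (tt N56125 (iv5 F305903)) (tt N44525 F210309) (tt N24298 F309734))
theorem Q37632 : ∀ i, i < 37632 → P i := stepQ 37631 Q37631 (allL N37631 (tt N19109 (iv1 D61771)) (tt N68574 F210974) (tt N24298 F308069) (tt N52383 (iv3 F310082)) (tt N46513 (iv4 F310085)) (tt N63725 (iv5 F307440)) (tt N24296 F308070) (tt N66956 (iv7 F309741)))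
theorem Q37633 : ∀ i, i < 37633 → P i := stepQ 37632 Q37632 (allL N37632 (tt N24298 F309843) (tt N66956 (iv0 F309737)) (tt N68574 (iv2 F210973)) (tt N19112 F96356) (tt N63727 F309844) (tt N42683 (iv5 F106831)) (tt N38356 (iv6 F98074)) (tt N19109 (iv7 D61772)))
theorem Q37634 : ∀ i, i < 37634 → P i := stepQ 37633 Q37633 (allL N37633 (tt N22877 (iv1 F307130)) (tt N22873 (iv0 F307131)) (tt N36638 F110520) (tt N68528 (iv3 F210765)) (tt N23690 F305212) (tt N19110 (iv5 D61776)) (tt N48453 F302857) (tt N36633 (iv7 F110519)))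
theorem Q37635 : ∀ i, i < 37635 → P i := stepQ 37634 Q37634 (allL N37634 (tt N38387 F167571) (tt N68577 D131655) (tt N38367 (iv2 F110523)) (tt N68486 (iv3 F210635)) (tt N68036 (iv4 F208924)) (tt N38339 F98025) (tt N19110 (iv6 D61777)) (tt N68448 (iv7 F210522)))
theorem Q37636 : ∀ i, i < 37636 → P i := stepQ 37635 Q37635 (allL N37635 (tt N44720 F315459) (tt N44717 F315460) (tt N44719 F319887) (tt N19113 (iv3 D61784)) (tt N38907 F98983) (tt N67583 (iv5 F211042)) (tt N68578 D131666) (tt N38072 F217664))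
theorem Q37637 : ∀ i, i < 37637 → P i := stepQ 37636 Q37636 (allL N37636 (tt N68579 D131668) (tt N46905 F319328) (tt N38076 F217665) (tt N68580 D131670) (tt N19113 (iv4 D61785)) (tt N68581 D131671) (tt N68582 D131672) (tt N38073 F217666))
theorem Q37638 : ∀ i, i < 37638 → P i := stepQ 37637 Q37637 (allL N37637 (tt N68583 D131679) (tt N68041 (iv0 F354053)) (tt N38077 F217669) (tt N68578 (iv3 F211024)) (tt N68582 (iv4 F211028)) (tt N54978 (iv5 F358085)) (tt N19113 (iv6 D61787)) (tt N68584 D131682))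
theorem Q37639 : ∀ i, i < 37639 → P i := stepQ 37638 Q37638 (allL N37638 (tt N68585 D131684) (tt N67930 (iv0 F212273)) (tt N68586 D131686) (tt N19114 (iv3 D61789)) (tt N68587 D131687) (tt N67586 F211038) (tt N68588 D131688) (tt N38075 (iv7 F217654)))
theorem Q37640 : ∀ i, i < 37640 → P i := stepQ 37639 Q37639 (allL N37639 (tt N46905 F319327) (tt N68579 F211031) (tt N38073 (iv2 F217659)) (tt N47949 F317452) (tt N19114 (iv4 D61790)) (tt N65872 (iv5 F333683)) (tt N68589 D131691) (tt N38076 (iv7 F217662)))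
theorem Q37641 : ∀ i, i < 37641 → P i := stepQ 37640 Q37640 (allL N37640 (tt N68035 (iv1 F351480)) (tt N66837 (iv0 F341900)) (tt N38074 (iv2 F217661)) (tt N68588 (iv3 F211053)) (tt N68589 (iv4 F211054)) (tt N68590 D131694) (tt N19114 (iv6 D61792)) (tt N68591 D131695))
theorem Q37642 : ∀ i, i < 37642 → P i := stepQ 37641 Q37641 (allL N37641 (tt N46876 (iv1 F304848)) (tt N44713 (iv0 F304849)) (tt N19116 F96365) (tt N38376 (iv3 F98101)) (tt N44734 (iv4 F304850)) (tt N44736 (iv5 F303881)) (tt N19115 (iv6 D61793)) (tt N46873 (iv7 F304853)))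
theorem Q37643 : ∀ i, i < 37643 → P i := stepQ 37642 Q37642 (allL N37642 (tt N46873 (iv1 F304852)) (tt N19116 (iv0 D61794)) (tt N46876 (iv2 F306569)) (tt N44677 (iv3 F306571)) (tt N24485 (iv4 F306572)) (tt N46899 (iv5 F306573)) (tt N47090 (iv6 F306344)) (tt N44713 (iv7 F306575)))
theorem Q37644 : ∀ i, i < 37644 → P i := stepQ 37643 Q37643 (allL N37643 (tt N19116 (iv1 D61795)) (tt N46873 (iv0 F304851)) (tt N44713 (iv2 F306574)) (tt N52380 (iv3 F306576)) (tt N24487 (iv4 F306577)) (tt N46900 (iv5 F306578)) (tt N68592 D131709) (tt N46876 (iv7 F306570)))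
theorem Q37645 : ∀ i, i < 37645 → P i := stepQ 37644 Q37644 (allL N37644 (tt N68593 D131740) (tt N36454 (iv0 F190452)) (tt N52386 (iv2 F304556)) (tt N19118 F96378) (tt N43422 (iv4 F190451)) (tt N41615 (iv5 F104538)) (tt N19117 (iv6 D61810)) (tt N68594 D131741))
theorem Q37646 : ∀ i, i < 37646 → P i := stepQ 37645 Q37645 (allL N37645 (tt N19118 (iv1 D61814)) (tt N38379 F98153) (tt N21839 (iv2 F303823)) (tt N24733 (iv3 F305328)) (tt N46348 F302961) (tt N42649 (iv5 F305329)) (tt N68448 (iv6 F210524)) (tt N38369 F110542))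
theorem Q37647 : ∀ i, i < 37647 → P i := stepQ 37646 Q37646 (allL N37646 (tt N21839 (iv1 F303822)) (tt N38369 (iv0 F103954)) (tt N38379 (iv2 F98150)) (tt N68594 (iv3 F211093)) (tt N45576 (iv4 F303884)) (tt N41596 (iv5 F104515)) (tt N21446 F313459) (tt N19118 (iv7 D61815)))
theorem Q37648 : ∀ i, i < 37648 → P i := stepQ 37647 Q37647 (allL N37647 (tt N21868 (iv1 F303933)) (tt N46493 (iv0 F303043)) (tt N42465 (iv2 F303044)) (tt N19120 F96381) (tt N34069 (iv4 F303932)) (tt N21458 F317921) (tt N19119 (iv6 D61820)) (tt N46492 (iv7 F303046)))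
theorem Q37649 : ∀ i, i < 37649 → P i := stepQ 37648 Q37648 (allL N37648 (tt N21446 F315562) (tt N19120 (iv0 D61824)) (tt N38383 (iv2 F182275)) (tt N68556 (iv3 F321619)) (tt N44765 (iv4 F302501)) (tt N21669 F96384) (tt N68573 (iv6 F210869)) (tt N38359 F182274))
theorem Q37650 : ∀ i, i < 37650 → P i := stepQ 37649 Q37649 (allL N37649 (tt N44529 (iv1 F209895)) (tt N38331 F209858) (tt N44531 F209853) (tt N19122 (iv3 D61828)) (tt N43461 (iv4 F209851)) (tt N20778 F317426) (tt N68595 D131778) (tt N38386 F208075))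
theorem Q37651 : ∀ i, i < 37651 → P i := stepQ 37650 Q37650 (allL N37650 (tt N38360 F201247) (tt N68573 F210870) (tt N38385 F208064) (tt N68595 (iv3 F211143)) (tt N38643 (iv4 F207987)) (tt N36651 F96386) (tt N19122 (iv6 D61831)) (tt N68572 (iv7 F210866)))
theorem Q37652 : ∀ i, i < 37652 → P i := stepQ 37651 Q37651 (allL N37651 (tt N38309 F248032) (tt N42453 F306006) (tt N42467 (iv2 F307427)) (tt N19123 (iv3 D61833)) (tt N34441 (iv4 F307958)) (tt N20771 F316555) (tt N44526 F209878) (tt N38384 (iv7 F208036)))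
theorem Q37653 : ∀ i, i < 37653 → P i := stepQ 37652 Q37652 (allL N37652 (tt N68448 F210525) (tt N38367 (iv0 F166866)) (tt N38387 (iv2 F208039)) (tt N44526 (iv3 F209880)) (tt N38645 (iv4 F208021)) (tt N42854 (iv5 F309010)) (tt N19123 (iv6 D61836)) (tt N68577 (iv7 F211010)))
theorem Q37654 : ∀ i, i < 37654 → P i := stepQ 37653 Q37653 (allL N37653 (tt N64601 F329060) (tt N64605 F329061) (tt N35073 F329062) (tt N19226 F96388) (tt N34917 F329063) (tt N30596 F96389) (tt N19124 (iv6 D61837)) (tt N68596 D131787))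
theorem Q37655 : ∀ i, i < 37655 → P i := stepQ 37654 Q37654 (allL N37654 (tt N30694 F96393) (tt N40558 F328806) (tt N31426 F96390) (tt N36761 F96391) (tt N38447 (iv4 F98317)) (tt N31395 F96392) (tt N19125 (iv6 D61838)) (tt N57795 (iv7 F167758)))
theorem Q37656 : ∀ i, i < 37656 → P i := stepQ 37655 Q37655 (allL N37655 (tt N68597 D131788) (tt N68598 D131789) (tt N54797 (iv2 F327934)) (tt N19126 (iv3 D61839)) (tt N19133 F96394) (tt N29009 (iv5 F327938)) (tt N28097 F327402) (tt N44323 (iv7 F111643)))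
theorem Q37657 : ∀ i, i < 37657 → P i := stepQ 37656 Q37656 (allL N37656 (tt N19605 F96398) (tt N19538 F96399) (tt N19601 F96395) (tt N29009 (iv3 F327937)) (tt N31570 F96397) (tt N19126 (iv5 D61840)) (tt N29007 (iv6 F327942)) (tt N19602 F96396))
theorem Q37658 : ∀ i, i < 37658 → P i := stepQ 37657 Q37657 (allL N37657 (tt N28061 F325956) (tt N28064 (iv0 F325978)) (tt N58941 (iv2 F171506)) (tt N28097 (iv3 F326770)) (tt N19127 F96400) (tt N29008 (iv5 F326766)) (tt N19126 (iv6 D61841)) (tt N53457 (iv7 F325977)))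
theorem Q37659 : ∀ i, i < 37659 → P i := stepQ 37658 Q37658 (allL N37658 (tt N58943 (iv1 F171527)) (tt N19127 (iv0 D61842)) (tt N58942 F171513) (tt N31291 (iv3 F167999)) (tt N38453 (iv4 F168001)) (tt N31289 F168000) (tt N36728 F164678) (tt N36909 (iv7 F170714)))
theorem Q37660 : ∀ i, i < 37660 → P i := stepQ 37659 Q37659 (allL N37659 (tt N19127 (iv1 D61843)) (tt N58943 F171526) (tt N36909 (iv2 F171516)) (tt N57325 F171519) (tt N38454 (iv4 F171517)) (tt N58981 (iv5 F171657)) (tt N68599 D131795) (tt N58942 F171515))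
theorem Q37661 : ∀ i, i < 37661 → P i := stepQ 37660 Q37660 (allL N37660 (tt N36909 (iv1 F168458)) (tt N58942 F171518) (tt N58943 (iv2 F171525)) (tt N19138 F96401) (tt N53457 (iv4 F325975)) (tt N56217 (iv5 F163205)) (tt N44327 (iv6 F111652)) (tt N19127 (iv7 D61844)))
theorem Q37662 : ∀ i, i < 37662 → P i := stepQ 37661 Q37661 (allL N37661 (tt N68600 D131796) (tt N68601 D131797) (tt N68602 D131798) (tt N19128 (iv3 D61845)) (tt N36734 F96402) (tt N68603 D131799) (tt N68604 D131800) (tt N56487 (iv7 F163805)))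
theorem Q37663 : ∀ i, i < 37663 → P i := stepQ 37662 Q37662 (allL N37662 (tt N30030 F96405) (tt N30033 F96406) (tt N36913 F96403) (tt N68603 (iv3 F211173)) (tt N29961 F96404) (tt N19128 (iv5 D61846)) (tt N68605 D131801) (tt N37750 (iv7 F96555)))
theorem Q37664 : ∀ i, i < 37664 → P i := stepQ 37663 Q37663 (allL N37663 (tt N68606 D131802) (tt N68607 D131803) (tt N36914 F96407) (tt N68604 (iv3 F211175)) (tt N19129 F96408) (tt N67400 (iv5 F207166)) (tt N19128 (iv6 D61847)) (tt N68608 D131804))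
theorem Q37665 : ∀ i, i < 37665 → P i := stepQ 37664 Q37664 (allL N37664 (tt N36778 (iv1 F96414)) (tt N19129 (iv0 D61848)) (tt N36915 (iv2 F103560)) (tt N68609 D131805) (tt N68610 D131806) (tt N56010 (iv5 F162265)) (tt N37792 (iv6 F96591)) (tt N36916 (iv7 F103562)))
theorem Q37666 : ∀ i, i < 37666 → P i := stepQ 37665 Q37665 (allL N37665 (tt N19129 (iv1 D61849)) (tt N36778 F96409) (tt N36916 F103561) (tt N64605 (iv3 F328731)) (tt N68611 D131808) (tt N57207 (iv5 F165793)) (tt N36738 (iv6 F103528)) (tt N36915 F103559))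
theorem Q37667 : ∀ i, i < 37667 → P i := stepQ 37666 Q37666 (allL N37666 (tt N36916 (iv1 F96415)) (tt N36915 (iv0 F96416)) (tt N36778 F96410) (tt N36739 F96411) (tt N68608 (iv4 F211184)) (tt N20806 F96412) (tt N31505 F96413) (tt N19129 (iv7 D61850)))
theorem Q37668 : ∀ i, i < 37668 → P i := stepQ 37667 Q37667 (allL N37667 (tt N68612 D131809) (tt N68613 D131810) (tt N68614 D131811) (tt N19130 (iv3 D61851)) (tt N19211 F96417) (tt N68615 D131812) (tt N66514 (iv6 F204338)) (tt N36912 F96418))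
theorem Q37669 : ∀ i, i < 37669 → P i := stepQ 37668 Q37668 (allL N37668 (tt N30033 F96421) (tt N30030 F96422) (tt N37750 F96553) (tt N68615 (iv3 F211225)) (tt N29960 F96419) (tt N19130 (iv5 D61852)) (tt N68616 D131813) (tt N36913 F96420))
theorem Q37670 : ∀ i, i < 37670 → P i := stepQ 37669 Q37669 (allL N37669 (tt N68617 D131814) (tt N68618 D131815) (tt N68619 D131816) (tt N19131 (iv3 D61853)) (tt N38219 (iv4 F97682)) (tt N68620 D131817) (tt N68621 D131818) (tt N56399 (iv7 F163709)))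
theorem Q37671 : ∀ i, i < 37671 → P i := stepQ 37670 Q37670 (allL N37670 (tt N30019 F96424) (tt N30025 F96425) (tt N37722 F96519) (tt N68620 (iv3 F211229)) (tt N19450 F96423) (tt N19131 (iv5 D61854)) (tt N68622 D131819) (tt N37721 F96514))
theorem Q37672 : ∀ i, i < 37672 → P i := stepQ 37671 Q37671 (allL N37671 (tt N68610 (iv1 F211206)) (tt N68611 (iv0 F211204)) (tt N38194 (iv2 F97622)) (tt N68621 (iv3 F211230)) (tt N30044 F96426) (tt N67346 (iv5 F207113)) (tt N19131 (iv6 D61855)) (tt N68623 D131820))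
theorem Q37673 : ∀ i, i < 37673 → P i := stepQ 37672 Q37672 (allL N37672 (tt N68624 D131821) (tt N68625 D131822) (tt N68626 D131823) (tt N19132 (iv3 D61856)) (tt N36989 F96427) (tt N68627 D131824) (tt N68628 D131825) (tt N38196 (iv7 F97626)))
theorem Q37674 : ∀ i, i < 37674 → P i := stepQ 37673 Q37673 (allL N37673 (tt N30025 F96429) (tt N30019 F96430) (tt N37721 F96513) (tt N68627 (iv3 F211239)) (tt N29974 F96428) (tt N19132 (iv5 D61857)) (tt N68629 D131826) (tt N37722 (iv7 F96516)))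
theorem Q37675 : ∀ i, i < 37675 → P i := stepQ 37674 Q37674 (allL N37674 (tt N36700 F96433) (tt N36776 F96434) (tt N30287 F96431) (tt N68628 (iv3 F211240)) (tt N29942 F96432) (tt N55667 (iv5 F342866)) (tt N19132 (iv6 D61858)) (tt N36775 F163670))
theorem Q37676 : ∀ i, i < 37676 → P i := stepQ 37675 Q37675 (allL N37675 (tt N56497 (iv1 F163839)) (tt N19133 (iv0 D61859)) (tt N56496 (iv2 F352498)) (tt N68630 D131829) (tt N68631 D131830) (tt N68632 D131831) (tt N68633 D131832) (tt N56495 (iv7 F352497)))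
theorem Q37677 : ∀ i, i < 37677 → P i := stepQ 37676 Q37676 (allL N37676 (tt N19133 (iv1 D61860)) (tt N56497 F163841) (tt N56495 (iv2 F352496)) (tt N66061 (iv3 F352532)) (tt N68634 D131835) (tt N68635 D131836) (tt N60636 (iv6 F352531)) (tt N56496 (iv7 F352499)))
theorem Q37678 : ∀ i, i < 37678 → P i := stepQ 37677 Q37677 (allL N37677 (tt N56496 (iv1 F163840)) (tt N56495 F163836) (tt N19133 (iv2 D61861)) (tt N56489 (iv3 F163807)) (tt N54797 (iv4 F327935)) (tt N68636 D131838) (tt N52156 (iv6 F327928)) (tt N56497 (iv7 F163838)))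
theorem Q37679 : ∀ i, i < 37679 → P i := stepQ 37678 Q37678 (allL N37678 (tt N68637 D131840) (tt N68638 D131841) (tt N68636 (iv2 F211248)) (tt N19134 F96437) (tt N68639 D131842) (tt N19133 (iv5 D61862)) (tt N68636 (iv6 F364672)) (tt N56498 (iv7 F163843)))
theorem Q37680 : ∀ i, i < 37680 → P i := stepQ 37679 Q37679 (allL N37679 (tt N28123 (iv1 F327925)) (tt N27580 (iv0 F327926)) (tt N52156 (iv2 F327927)) (tt N19135 F96438) (tt N28097 F327401) (tt N52156 (iv5 F327930)) (tt N19133 (iv6 D61863)) (tt N52155 (iv7 F327932)))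
theorem Q37681 : ∀ i, i < 37681 → P i := stepQ 37680 Q37680 (allL N37680 (tt N68640 D131848) (tt N68641 D131849) (tt N56490 (iv2 F333533)) (tt N68636 (iv3 F364671)) (tt N29995 F96439) (tt N56489 (iv5 F332813)) (tt N19134 (iv6 D61864)) (tt N68642 D131851))
theorem Q37682 : ∀ i, i < 37682 → P i := stepQ 37681 Q37681 (allL N37681 (tt N56492 (iv1 F163824)) (tt N19135 (iv0 D61865)) (tt N56407 (iv2 F165622)) (tt N68643 D131852) (tt N30047 F165575) (tt N32382 (iv5 F332799)) (tt N32407 F332787) (tt N56408 (iv7 F165631)))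
theorem Q37683 : ∀ i, i < 37683 → P i := stepQ 37682 Q37682 (allL N37682 (tt N19135 (iv1 D61866)) (tt N56492 F163823) (tt N56408 (iv2 F165630)) (tt N68644 D131853) (tt N30048 F165573) (tt N66619 (iv5 F332807)) (tt N68645 D131854) (tt N56407 (iv7 F165623)))
theorem Q37684 : ∀ i, i < 37684 → P i := stepQ 37683 Q37683 (allL N37683 (tt N68646 D131855) (tt N68647 D131856) (tt N56491 (iv2 F333542)) (tt N52156 (iv3 F327929)) (tt N60839 (iv4 F332832)) (tt N19135 (iv5 D61867)) (tt N56489 (iv6 F332814)) (tt N54796 (iv7 F365694)))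
theorem Q37685 : ∀ i, i < 37685 → P i := stepQ 37684 Q37684 (allL N37684 (tt N56408 (iv1 F165629)) (tt N56407 (iv0 F165620)) (tt N56492 (iv2 F163819)) (tt N52155 (iv3 F327931)) (tt N19138 F96440) (tt N54796 (iv5 F365693)) (tt N56502 (iv6 F163850)) (tt N19135 (iv7 D61868)))
theorem Q37686 : ∀ i, i < 37686 → P i := stepQ 37685 Q37685 (allL N37685 (tt N56581 (iv1 F164306)) (tt N29956 F164038) (tt N36971 (iv2 F164048)) (tt N68648 D131859) (tt N19136 (iv4 D61871)) (tt N32283 (iv5 F328766)) (tt N32285 F328356) (tt N56493 (iv7 F163832)))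
theorem Q37687 : ∀ i, i < 37687 → P i := stepQ 37686 Q37686 (allL N37686 (tt N29956 F164036) (tt N56581 F164305) (tt N56493 (iv2 F163831)) (tt N68649 D131860) (tt N19137 (iv4 D61874)) (tt N66005 (iv5 F329264)) (tt N68650 D131861) (tt N36971 F164049))
theorem Q37688 : ∀ i, i < 37688 → P i := stepQ 37687 Q37687 (allL N37687 (tt N37789 F96588) (tt N37792 (iv0 F96590)) (tt N56494 (iv2 F163833)) (tt N19222 F164069) (tt N68650 (iv4 F211272)) (tt N36760 F96446) (tt N19137 (iv6 D61875)) (tt N36760 F96447))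
theorem Q37689 : ∀ i, i < 37689 → P i := stepQ 37688 Q37688 (allL N37688 (tt N68609 (iv1 F211694)) (tt N68651 D131863) (tt N56482 (iv2 F163792)) (tt N19192 F96456) (tt N37403 F96457) (tt N30598 F96458) (tt N19140 (iv6 D61877)) (tt N62871 (iv7 F326747)))
theorem Q37690 : ∀ i, i < 37690 → P i := stepQ 37689 Q37689 (allL N37689 (tt N39032 (iv1 F99203)) (tt N33142 (iv0 F96461)) (tt N66145 (iv2 F203472)) (tt N60840 (iv3 F324335)) (tt N19142 F96460) (tt N68652 D131869) (tt N19141 (iv6 D61879)) (tt N68183 (iv7 F209229)))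
theorem Q37691 : ∀ i, i < 37691 → P i := stepQ 37690 Q37690 (allL N37690 (tt N66146 (iv1 F203482)) (tt N19142 (iv0 D61880)) (tt N37004 (iv2 F96462)) (tt N57795 F167759) (tt N37410 (iv4 F99198)) (tt N62045 (iv5 F179874)) (tt N68653 D131870) (tt N36761 F96463))
theorem Q37692 : ∀ i, i < 37692 → P i := stepQ 37691 Q37691 (allL N37691 (tt N68654 D131871) (tt N62124 (iv0 F330586)) (tt N57520 (iv2 F167003)) (tt N19149 F96465) (tt N44193 (iv4 F111079)) (tt N19142 (iv5 D61881)) (tt N19143 F96466) (tt N68655 D131873))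
theorem Q37693 : ∀ i, i < 37693 → P i := stepQ 37692 Q37692 (allL N37692 (tt N36761 (iv1 F96468)) (tt N37004 F96469) (tt N66146 (iv2 F203477)) (tt N19150 F96467) (tt N68183 (iv4 F209230)) (tt N68655 (iv5 F211298)) (tt N56486 (iv6 F163804)) (tt N19142 (iv7 D61882)))
theorem Q37694 : ∀ i, i < 37694 → P i := stepQ 37693 Q37693 (allL N37693 (tt N19144 (iv1 D61884)) (tt N56489 F163811) (tt N56488 (iv2 F211308)) (tt N68656 D131879) (tt N55708 (iv4 F323238)) (tt N68657 D131881) (tt N60596 (iv6 F362293)) (tt N55659 (iv7 F325765)))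
theorem Q37695 : ∀ i, i < 37695 → P i := stepQ 37694 Q37694 (allL N37694 (tt N55659 (iv1 F325763)) (tt N56488 F163806) (tt N19144 (iv2 D61885)) (tt N56497 (iv3 F163837)) (tt N55712 (iv4 F333520)) (tt N68642 (iv5 F349637)) (tt N68658 D131884) (tt N56489 (iv7 F163808)))
theorem Q37696 : ∀ i, i < 37696 → P i := stepQ 37695 Q37695 (allL N37695 (tt N68641 (iv1 F342924)) (tt N68640 (iv0 F349622)) (tt N68642 (iv2 F349636)) (tt N19145 F96470) (tt N56657 (iv4 F333532)) (tt N19144 (iv5 D61886)) (tt N68659 D131888) (tt N56490 (iv7 F163813)))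
theorem Q37697 : ∀ i, i < 37697 → P i := stepQ 37696 Q37696 (allL N37696 (tt N68660 D131889) (tt N68661 D131890) (tt N68658 (iv2 F211317)) (tt N19146 F96471) (tt N60840 (iv4 F324336)) (tt N68662 D131891) (tt N19144 (iv6 D61887)) (tt N68663 D131892))
theorem Q37698 : ∀ i, i < 37698 → P i := stepQ 37697 Q37697 (allL N37697 (tt N68664 D131893) (tt N68665 D131894) (tt N56500 (iv2 F163845)) (tt N68659 (iv3 F211320)) (tt N29993 F96472) (tt N68666 D131895) (tt N19145 (iv6 D61888)) (tt N68659 (iv7 F333545)))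
theorem Q37699 : ∀ i, i < 37699 → P i := stepQ 37698 Q37698 (allL N37698 (tt N56502 (iv1 F163852)) (tt N19146 (iv0 D61889)) (tt N56420 (iv2 F163725)) (tt N68667 D131897) (tt N30054 F163726) (tt N68668 D131898) (tt N68669 D131899) (tt N36748 F163727))
theorem Q37700 : ∀ i, i < 37700 → P i := stepQ 37699 Q37699 (allL N37699 (tt N19146 (iv1 D61890)) (tt N56502 F163851) (tt N36748 F96474) (tt N60861 (iv3 F328040)) (tt N30055 F96475) (tt N68670 D131901) (tt N36695 (iv6 F96473)) (tt N56420 (iv7 F163722)))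
theorem Q37701 : ∀ i, i < 37701 → P i := stepQ 37700 Q37700 (allL N37700 (tt N65713 (iv1 F349559)) (tt N65522 (iv0 F342982)) (tt N56501 (iv2 F163847)) (tt N68662 (iv3 F211321)) (tt N65676 (iv4 F360468)) (tt N19146 (iv5 D61891)) (tt N68666 (iv6 F211323)) (tt N65711 (iv7 F342880)))
theorem Q37702 : ∀ i, i < 37702 → P i := stepQ 37701 Q37701 (allL N37701 (tt N36748 (iv1 F96477)) (tt N56420 (iv0 F163723)) (tt N56502 (iv2 F163848)) (tt N68663 (iv3 F211322)) (tt N19150 F96476) (tt N65711 (iv5 F342879)) (tt N56492 (iv6 F163821)) (tt N19146 (iv7 D61892)))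
theorem Q37703 : ∀ i, i < 37703 → P i := stepQ 37702 Q37702 (allL N37702 (tt N56591 (iv1 F164370)) (tt N29965 (iv0 F96479)) (tt N56503 (iv2 F163853)) (tt N68671 D131906) (tt N19147 (iv4 D61893)) (tt N68672 D131907) (tt N68673 D131908) (tt N36742 F96478))
theorem Q37704 : ∀ i, i < 37704 → P i := stepQ 37703 Q37703 (allL N37703 (tt N36738 (iv1 F96485)) (tt N36737 (iv0 F96484)) (tt N36739 F96480) (tt N19210 F96481) (tt N68673 (iv4 F211343)) (tt N20876 F96482) (tt N19147 (iv6 D61894)) (tt N19205 F96483))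
theorem Q37705 : ∀ i, i < 37705 → P i := stepQ 37704 Q37704 (allL N37704 (tt N29965 F96488) (tt N56591 F164369) (tt N36742 F96486) (tt N68674 D131909) (tt N19148 (iv4 D61895)) (tt N68675 D131910) (tt N36694 F96487) (tt N56503 (iv7 F163854)))
theorem Q37706 : ∀ i, i < 37706 → P i := stepQ 37705 Q37705 (allL N37705 (tt N33538 F96490) (tt N19149 (iv0 D61896)) (tt N56504 F163858) (tt N19244 F168069) (tt N68072 (iv4 F209109)) (tt N36807 F96489) (tt N41187 F103481) (tt N37035 F168070))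
theorem Q37707 : ∀ i, i < 37707 → P i := stepQ 37706 Q37706 (allL N37706 (tt N19149 (iv1 D61897)) (tt N33538 F96491) (tt N37035 (iv2 F168047)) (tt N36780 F168136) (tt N68073 (iv4 F209113)) (tt N56532 (iv5 F164202)) (tt N33519 F103393) (tt N56504 (iv7 F163860)))
theorem Q37708 : ∀ i, i < 37708 → P i := stepQ 37707 Q37707 (allL N37707 (tt N68676 D131911) (tt N68677 D131912) (tt N37261 F96492) (tt N68678 D131913) (tt N19149 (iv4 D61898)) (tt N68679 D131914) (tt N19151 F96493) (tt N68680 D131915))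
theorem Q37709 : ∀ i, i < 37709 → P i := stepQ 37708 Q37708 (allL N37708 (tt N37035 (iv1 F168046)) (tt N56504 F163859) (tt N33538 F96494) (tt N68655 (iv3 F211297)) (tt N68680 (iv4 F211366)) (tt N19150 F96495) (tt N30383 F96496) (tt N19149 (iv7 D61899)))
theorem Q37710 : ∀ i, i < 37710 → P i := stepQ 37709 Q37709 (allL N37709 (tt N68681 D131916) (tt N68682 D131917) (tt N68683 D131918) (tt N19151 (iv3 D61900)) (tt N44192 (iv4 F111078)) (tt N68384 (iv5 F210034)) (tt N68678 (iv6 F211362)) (tt N37262 F96497))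
theorem Q37711 : ∀ i, i < 37711 → P i := stepQ 37710 Q37710 (allL N37710 (tt N68684 D131919) (tt N68685 D131920) (tt N68686 D131921) (tt N19152 (iv3 D61901)) (tt N19154 F96498) (tt N68687 D131922) (tt N53017 (iv6 F377967)) (tt N19593 F96499))
theorem Q37712 : ∀ i, i < 37712 → P i := stepQ 37711 Q37711 (allL N37711 (tt N35012 F328716) (tt N34900 F328717) (tt N19591 F96500) (tt N68687 (iv3 F211385)) (tt N31573 F96502) (tt N19152 (iv5 D61902)) (tt N68688 D131924) (tt N19594 F96501))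
theorem Q37713 : ∀ i, i < 37713 → P i := stepQ 37712 Q37712 (allL N37712 (tt N38849 F100230) (tt N68689 D131925) (tt N19592 F96504) (tt N53017 (iv3 F377965)) (tt N19153 F96505) (tt N68690 D131926) (tt N19152 (iv6 D61903)) (tt N68691 D131927))
theorem Q37714 : ∀ i, i < 37714 → P i := stepQ 37713 Q37713 (allL N37713 (tt N58945 (iv1 F171535)) (tt N19153 (iv0 D61904)) (tt N58944 F171908) (tt N35940 (iv3 F168467)) (tt N38497 (iv4 F168468)) (tt N68692 D131928) (tt N37111 F168466) (tt N37053 (iv7 F171909)))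
theorem Q37715 : ∀ i, i < 37715 → P i := stepQ 37714 Q37714 (allL N37714 (tt N19153 (iv1 D61905)) (tt N58945 F171533) (tt N37053 (iv2 F171911)) (tt N68693 D131929) (tt N38498 (iv4 F180509)) (tt N68694 D131930) (tt N68695 D131931) (tt N58944 F171910))
theorem Q37716 : ∀ i, i < 37716 → P i := stepQ 37715 Q37715 (allL N37715 (tt N37053 F166286) (tt N58944 F171532) (tt N58945 (iv2 F171529)) (tt N19159 F96506) (tt N68691 (iv4 F211398)) (tt N38466 (iv5 F101619)) (tt N56522 (iv6 F164173)) (tt N19153 (iv7 D61906)))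
theorem Q37717 : ∀ i, i < 37717 → P i := stepQ 37716 Q37716 (allL N37716 (tt N56525 (iv1 F164178)) (tt N19154 (iv0 D61907)) (tt N56524 (iv2 F355056)) (tt N68696 D131933) (tt N68697 D131934) (tt N68637 (iv5 F367308)) (tt N68698 D131936) (tt N56523 (iv7 F355036)))
theorem Q37718 : ∀ i, i < 37718 → P i := stepQ 37717 Q37717 (allL N37717 (tt N19154 (iv1 D61908)) (tt N56525 F164180) (tt N56523 (iv2 F355035)) (tt N68699 D131938) (tt N68700 D131939) (tt N68638 (iv5 F354693)) (tt N36792 (iv6 F354700)) (tt N56524 (iv7 F355057)))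
theorem Q37719 : ∀ i, i < 37719 → P i := stepQ 37718 Q37718 (allL N37718 (tt N56524 (iv1 F164179)) (tt N56523 F164174) (tt N19154 (iv2 D61909)) (tt N56510 (iv3 F164140)) (tt N68686 (iv4 F211380)) (tt N68701 D131942) (tt N68702 D131943) (tt N56525 (iv7 F164177)))
theorem Q37720 : ∀ i, i < 37720 → P i := stepQ 37719 Q37719 (allL N37719 (tt N68703 D131944) (tt N68704 D131945) (tt N68701 (iv2 F211418)) (tt N19155 F96507) (tt N68705 D131946) (tt N19154 (iv5 D61910)) (tt N68706 D131947) (tt N56526 (iv7 F164182)))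
theorem Q37721 : ∀ i, i < 37721 → P i := stepQ 37720 Q37720 (allL N37720 (tt N53028 (iv1 F362886)) (tt N68707 D131949) (tt N68702 (iv2 F211419)) (tt N19156 F96508) (tt N53017 (iv4 F377966)) (tt N68708 D131950) (tt N19154 (iv6 D61911)) (tt N68709 D131951))
theorem Q37722 : ∀ i, i < 37722 → P i := stepQ 37721 Q37721 (allL N37721 (tt N19162 (iv1 F96512)) (tt N19155 (iv0 D61912)) (tt N37673 (iv2 F96513)) (tt N68710 D131952) (tt N19408 F96510) (tt N29954 F96509) (tt N68711 D131953) (tt N37670 (iv7 F96514)))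
theorem Q37723 : ∀ i, i < 37723 → P i := stepQ 37722 Q37722 (allL N37722 (tt N19155 (iv1 D61913)) (tt N19162 F96515) (tt N37670 (iv2 F96519)) (tt N68712 D131954) (tt N29962 F96518) (tt N19395 F96517) (tt N68713 D131955) (tt N37673 F96516))
theorem Q37724 : ∀ i, i < 37724 → P i := stepQ 37723 Q37723 (allL N37723 (tt N68714 D131956) (tt N68715 D131957) (tt N56513 (iv2 F164150)) (tt N68706 (iv3 F211421)) (tt N29988 F96520) (tt N68716 D131958) (tt N19155 (iv6 D61914)) (tt N68717 D131959))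
theorem Q37725 : ∀ i, i < 37725 → P i := stepQ 37724 Q37724 (allL N37724 (tt N56517 (iv1 F164161)) (tt N19156 (iv0 D61915)) (tt N56514 (iv2 F165532)) (tt N68718 D131960) (tt N30118 F165525) (tt N68719 D131961) (tt N36818 (iv6 F173730)) (tt N56515 (iv7 F165531)))
theorem Q37726 : ∀ i, i < 37726 → P i := stepQ 37725 Q37725 (allL N37725 (tt N19156 (iv1 D61916)) (tt N56517 F164160) (tt N56515 (iv2 F165529)) (tt N68720 D131962) (tt N30119 F104284) (tt N68721 D131963) (tt N32553 F329451) (tt N56514 (iv7 F165534)))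
theorem Q37727 : ∀ i, i < 37727 → P i := stepQ 37726 Q37726 (allL N37726 (tt N67262 (iv1 F206989)) (tt N68722 D131965) (tt N56516 (iv2 F164155)) (tt N68708 (iv3 F211422)) (tt N68723 D131966) (tt N19156 (iv5 D61917)) (tt N68716 (iv6 F211432)) (tt N68724 D131967))
theorem Q37728 : ∀ i, i < 37728 → P i := stepQ 37727 Q37727 (allL N37727 (tt N56515 (iv1 F164152)) (tt N56514 F164159) (tt N56517 (iv2 F164156)) (tt N68709 (iv3 F211423)) (tt N19159 F96521) (tt N68724 (iv5 F211441)) (tt N56531 (iv6 F164191)) (tt N19156 (iv7 D61918)))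
theorem Q37729 : ∀ i, i < 37729 → P i := stepQ 37728 Q37728 (allL N37728 (tt N56540 (iv1 F164228)) (tt N19169 F103752) (tt N37081 (iv2 F100235)) (tt N68725 D131968) (tt N19157 (iv4 D61921)) (tt N68726 D131969) (tt N36823 F96525) (tt N56518 (iv7 F164163)))
theorem Q37730 : ∀ i, i < 37730 → P i := stepQ 37729 Q37729 (allL N37729 (tt N65469 F201805) (tt N31502 (iv0 F96703)) (tt N37082 (iv2 F100236)) (tt N36804 F168129) (tt N68727 D131970) (tt N19157 (iv5 D61922)) (tt N35671 F96526) (tt N31533 (iv7 F100263)))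
theorem Q37731 : ∀ i, i < 37731 → P i := stepQ 37730 Q37730 (allL N37730 (tt N19169 F103751) (tt N56540 F164227) (tt N56518 (iv2 F164162)) (tt N68728 D131971) (tt N19158 (iv4 D61925)) (tt N68729 D131972) (tt N68730 D131973) (tt N37081 F100215))
theorem Q37732 : ∀ i, i < 37732 → P i := stepQ 37731 Q37731 (allL N37731 (tt N36177 F96531) (tt N32531 F328771) (tt N56519 (iv2 F164166)) (tt N19271 F100197) (tt N68730 (iv4 F211453)) (tt N36779 F96530) (tt N19158 (iv6 D61927)) (tt N36822 F96529))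
theorem Q37733 : ∀ i, i < 37733 → P i := stepQ 37732 Q37732 (allL N37732 (tt N66148 (iv1 F203503)) (tt N19160 (iv0 D61928)) (tt N37108 F171899) (tt N52924 (iv3 F327629)) (tt N38591 F168378) (tt N35678 (iv5 F174553)) (tt N68731 D131974) (tt N66147 (iv7 F203486)))
theorem Q37734 : ∀ i, i < 37734 → P i := stepQ 37733 Q37733 (allL N37733 (tt N19160 (iv1 D61929)) (tt N66148 F203502) (tt N66147 (iv2 F203489)) (tt N37052 (iv3 F171902)) (tt N38592 F171904) (tt N35679 F174540) (tt N37049 F171903) (tt N37108 F171901))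
theorem Q37735 : ∀ i, i < 37735 → P i := stepQ 37734 Q37734 (allL N37734 (tt N66147 (iv1 F203485)) (tt N37108 (iv0 F173089)) (tt N66148 (iv2 F203498)) (tt N19166 F96532) (tt N39067 (iv4 F99325)) (tt N55689 (iv5 F161400)) (tt N56507 (iv6 F163863)) (tt N19160 (iv7 D61930)))
theorem Q37736 : ∀ i, i < 37736 → P i := stepQ 37735 Q37735 (allL N37735 (tt N56510 (iv1 F164143)) (tt N19161 (iv0 D61931)) (tt N56509 F203512) (tt N66128 F203444) (tt N66134 (iv4 F203450)) (tt N68641 (iv5 F342925)) (tt N36811 (iv6 F342926)) (tt N56508 F203510))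
theorem Q37737 : ∀ i, i < 37737 → P i := stepQ 37736 Q37736 (allL N37736 (tt N19161 (iv1 D61932)) (tt N56510 F164145) (tt N56508 (iv2 F203511)) (tt N68732 D131976) (tt N56174 F332617) (tt N68640 (iv5 F349623)) (tt N32558 (iv6 F332621)) (tt N56509 (iv7 F203513)))
theorem Q37738 : ∀ i, i < 37738 → P i := stepQ 37737 Q37737 (allL N37737 (tt N56509 (iv1 F164144)) (tt N56508 F164139) (tt N19161 (iv2 D61933)) (tt N56525 (iv3 F164175)) (tt N39062 (iv4 F99312)) (tt N68733 D131980) (tt N68734 D131981) (tt N56510 (iv7 F164142)))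
theorem Q37739 : ∀ i, i < 37739 → P i := stepQ 37738 Q37738 (allL N37738 (tt N68735 D131982) (tt N68736 D131983) (tt N68733 (iv2 F211467)) (tt N19162 F96533) (tt N68737 D131984) (tt N19161 (iv5 D61934)) (tt N68738 D131985) (tt N56511 (iv7 F164147)))
theorem Q37740 : ∀ i, i < 37740 → P i := stepQ 37739 Q37739 (allL N37739 (tt N68739 D131986) (tt N68740 D131987) (tt N68734 (iv2 F211469)) (tt N19163 F96534) (tt N39064 (iv4 F99320)) (tt N60471 (iv5 F332802)) (tt N19161 (iv6 D61935)) (tt N68741 D131989))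
theorem Q37741 : ∀ i, i < 37741 → P i := stepQ 37740 Q37740 (allL N37740 (tt N32362 (iv1 F332808)) (tt N68742 D131991) (tt N56528 (iv2 F164185)) (tt N68738 (iv3 F211479)) (tt N29983 F96535) (tt N35622 F332805) (tt N19162 (iv6 D61936)) (tt N68743 D131993))
theorem Q37742 : ∀ i, i < 37742 → P i := stepQ 37741 Q37741 (allL N37741 (tt N19163 (iv1 D61938)) (tt N56531 F164193) (tt N56530 (iv2 F168398)) (tt N68744 D131997) (tt N30122 F165593) (tt N65524 (iv5 F332765)) (tt N36799 F168196) (tt N56529 (iv7 F168400)))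
theorem Q37743 : ∀ i, i < 37743 → P i := stepQ 37742 Q37742 (allL N37742 (tt N56530 (iv1 F164187)) (tt N56529 F164192) (tt N56531 (iv2 F164189)) (tt N68741 (iv3 F211481)) (tt N19166 F96536) (tt N55629 (iv5 F332803)) (tt N56517 (iv6 F164158)) (tt N19163 (iv7 D61940)))
theorem Q37744 : ∀ i, i < 37744 → P i := stepQ 37743 Q37743 (allL N37743 (tt N56547 F164344) (tt N19172 F164345) (tt N35711 F327444) (tt N68745 D132001) (tt N19164 (iv4 D61943)) (tt N32262 F327445) (tt N68746 D132003) (tt N37131 (iv7 F168044)))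
theorem Q37745 : ∀ i, i < 37745 → P i := stepQ 37744 Q37744 (allL N37744 (tt N36877 F96540) (tt N59126 (iv0 F172145)) (tt N56532 (iv2 F164200)) (tt N19289 F168031) (tt N68746 (iv4 F211501)) (tt N37035 (iv5 F168048)) (tt N19164 (iv6 D61944)) (tt N36807 F96544))
theorem Q37746 : ∀ i, i < 37746 → P i := stepQ 37745 Q37745 (allL N37745 (tt N19172 F164342) (tt N56547 F164343) (tt N37131 (iv2 F168043)) (tt N68747 D132004) (tt N19165 (iv4 D61947)) (tt N35712 F327447) (tt N36803 F96547) (tt N35711 F327448))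
theorem Q37747 : ∀ i, i < 37747 → P i := stepQ 37746 Q37746 (allL N37746 (tt N56543 (iv1 F164232)) (tt N19167 (iv0 D61948)) (tt N56542 (iv2 F399204)) (tt N68748 D132007) (tt N68749 D132008) (tt N68750 D132009) (tt N68751 D132010) (tt N56541 (iv7 F399211)))
theorem Q37748 : ∀ i, i < 37748 → P i := stepQ 37747 Q37747 (allL N37747 (tt N19167 (iv1 D61949)) (tt N56543 F164234) (tt N56541 (iv2 F399209)) (tt N68752 D132012) (tt N68753 D132013) (tt N68754 D132014) (tt N36825 F396537) (tt N56542 (iv7 F399205)))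
theorem Q37749 : ∀ i, i < 37749 → P i := stepQ 37748 Q37748 (allL N37748 (tt N56542 (iv1 F164233)) (tt N56541 F164229) (tt N19167 (iv2 D61950)) (tt N56535 (iv3 F164211)) (tt N66177 (iv4 F203593)) (tt N31375 F324326) (tt N56694 (iv6 F325491)) (tt N56543 (iv7 F164231)))
theorem Q37750 : ∀ i, i < 37750 → P i := stepQ 37749 Q37749 (allL N37749 (tt N68755 D132022) (tt N68756 D132023) (tt N56694 (iv2 F325490)) (tt N19169 F96549) (tt N66179 (iv4 F203601)) (tt N30130 (iv5 F325499)) (tt N19167 (iv6 D61952)) (tt N68757 D132025))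
theorem Q37751 : ∀ i, i < 37751 → P i := stepQ 37750 Q37750 (allL N37750 (tt N19171 (iv1 F96554)) (tt N19168 (iv0 D61953)) (tt N37668 (iv2 F96553)) (tt N52664 (iv3 F295473)) (tt N29982 F96551) (tt N30005 F96550) (tt N52663 (iv6 F341780)) (tt N37662 F96555))
theorem Q37752 : ∀ i, i < 37752 → P i := stepQ 37751 Q37751 (allL N37751 (tt N67247 (iv1 F206976)) (tt N68758 D132032) (tt N56539 (iv2 F164223)) (tt N30130 F326347) (tt N68759 D132033) (tt N19169 (iv5 D61957)) (tt N30128 F326348) (tt N68760 D132034))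
theorem Q37753 : ∀ i, i < 37753 → P i := stepQ 37752 Q37752 (allL N37752 (tt N56518 (iv1 F164165)) (tt N37081 (iv0 F164007)) (tt N56540 (iv2 F164224)) (tt N68757 (iv3 F211517)) (tt N30098 F96557) (tt N68760 (iv5 F211526)) (tt N56547 (iv6 F164243)) (tt N19169 (iv7 D61958)))
theorem Q37754 : ∀ i, i < 37754 → P i := stepQ 37753 Q37753 (allL N37753 (tt N56535 (iv1 F164214)) (tt N19170 (iv0 D61959)) (tt N56534 (iv2 F218395)) (tt N68761 D132036) (tt N68762 D132037) (tt N68763 D132038) (tt N36835 F339688) (tt N56533 (iv7 F218394)))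
theorem Q37755 : ∀ i, i < 37755 → P i := stepQ 37754 Q37754 (allL N37754 (tt N19170 (iv1 D61960)) (tt N56535 F164216) (tt N56533 (iv2 F218393)) (tt N68764 D132041) (tt N68765 D132042) (tt N68766 D132043) (tt N68767 D132044) (tt N56534 (iv7 F218396)))
theorem Q37756 : ∀ i, i < 37756 → P i := stepQ 37755 Q37755 (allL N37755 (tt N56534 (iv1 F164215)) (tt N56533 F164210) (tt N19170 (iv2 D61961)) (tt N56543 (iv3 F164230)) (tt N48668 F328937) (tt N68768 D132045) (tt N48288 F328938) (tt N56535 (iv7 F164213)))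
theorem Q37757 : ∀ i, i < 37757 → P i := stepQ 37756 Q37756 (allL N37756 (tt N68769 D132047) (tt N68770 D132048) (tt N68768 (iv2 F211531)) (tt N19171 F96558) (tt N68771 D132049) (tt N19170 (iv5 D61962)) (tt N52658 (iv6 F343663)) (tt N56536 (iv7 F164218)))
theorem Q37758 : ∀ i, i < 37758 → P i := stepQ 37757 Q37757 (allL N37757 (tt N48801 (iv1 F328521)) (tt N48798 (iv0 F328522)) (tt N48288 (iv2 F328523)) (tt N19172 F96559) (tt N25585 F328124) (tt N22898 F328125) (tt N19170 (iv6 D61963)) (tt N48285 F328126))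
theorem Q37759 : ∀ i, i < 37759 → P i := stepQ 37758 Q37758 (allL N37758 (tt N32340 (iv1 F328929)) (tt N65979 (iv0 F328930)) (tt N56546 (iv2 F164238)) (tt N52658 (iv3 F343662)) (tt N29975 F96560) (tt N31312 F328520) (tt N19171 (iv6 D61964)) (tt N60023 (iv7 F328936)))
theorem Q37760 : ∀ i, i < 37760 → P i := stepQ 37759 Q37759 (allL N37759 (tt N37131 (iv1 F168042)) (tt N35711 F327649) (tt N56547 (iv2 F164241)) (tt N48285 (iv3 F327654)) (tt N30101 F96561) (tt N31313 F327650) (tt N56540 (iv6 F164226)) (tt N19172 (iv7 D61968)))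
theorem Q37761 : ∀ i, i < 37761 → P i := stepQ 37760 Q37760 (allL N37760 (tt N19174 (iv1 F96565)) (tt N19173 (iv0 D61969)) (tt N19177 (iv2 F96562)) (tt N56548 (iv3 F164247)) (tt N19310 F96563) (tt N56660 (iv5 F164544)) (tt N68772 D132061) (tt N19175 F96564))
theorem Q37762 : ∀ i, i < 37762 → P i := stepQ 37761 Q37761 (allL N37761 (tt N19177 (iv1 F211583)) (tt N19175 (iv0 F211584)) (tt N19173 (iv2 D61970)) (tt N68773 D132064) (tt N19628 F211582) (tt N68774 D132066) (tt N68775 D132067) (tt N19174 (iv7 F96566)))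
theorem Q37763 : ∀ i, i < 37763 → P i := stepQ 37762 Q37762 (allL N37762 (tt N68764 (iv1 F363956)) (tt N52623 (iv0 F356955)) (tt N61745 (iv2 F211593)) (tt N19173 (iv3 D61971)) (tt N61744 (iv4 F211592)) (tt N68776 D132071) (tt N68777 D132072) (tt N61749 (iv7 F211588)))
theorem Q37764 : ∀ i, i < 37764 → P i := stepQ 37763 Q37763 (allL N37763 (tt N68778 D132074) (tt N37060 (iv0 F96567)) (tt N19628 F211581) (tt N24874 F319329) (tt N19173 (iv4 D61972)) (tt N24873 F319330) (tt N68779 D132077) (tt N68780 D132078))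
theorem Q37765 : ∀ i, i < 37765 → P i := stepQ 37764 Q37764 (allL N37764 (tt N68781 D132079) (tt N50000 (iv0 F340291)) (tt N68774 (iv2 F211552)) (tt N68776 (iv3 F211555)) (tt N68782 D132081) (tt N19173 (iv5 D61973)) (tt N68783 D132082) (tt N68784 D132083))
theorem Q37766 : ∀ i, i < 37766 → P i := stepQ 37765 Q37765 (allL N37765 (tt N68785 D132084) (tt N68728 (iv0 F354356)) (tt N68775 (iv2 F211554)) (tt N68777 (iv3 F211556)) (tt N68779 (iv4 F211610)) (tt N68786 D132086) (tt N19173 (iv6 D61974)) (tt N68787 D132087))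
theorem Q37767 : ∀ i, i < 37767 → P i := stepQ 37766 Q37766 (allL N37766 (tt N19175 F211585) (tt N19177 F211586) (tt N19174 F96568) (tt N61749 (iv3 F211587)) (tt N68780 (iv4 F211613)) (tt N68784 (iv5 F211618)) (tt N68788 D132088) (tt N19173 (iv7 D61975)))
theorem Q37768 : ∀ i, i < 37768 → P i := stepQ 37767 Q37767 (allL N37767 (tt N68789 D132089) (tt N68748 (iv0 F216344)) (tt N68790 D132091) (tt N19174 (iv3 D61976)) (tt N68791 D132092) (tt N68792 D132093) (tt N68793 D132094) (tt N68773 (iv7 F211547)))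
theorem Q37769 : ∀ i, i < 37769 → P i := stepQ 37768 Q37768 (allL N37768 (tt N37060 F211551) (tt N68778 F211564) (tt N68780 (iv2 F211611)) (tt N19632 F211579) (tt N19174 (iv4 D61977)) (tt N68794 D132095) (tt N68795 D132096) (tt N19628 F211580))
theorem Q37770 : ∀ i, i < 37770 → P i := stepQ 37769 Q37769 (allL N37769 (tt N50000 (iv1 F340292)) (tt N68781 F211619) (tt N68784 (iv2 F211617)) (tt N68792 (iv3 F211632)) (tt N68796 D132097) (tt N19174 (iv5 D61978)) (tt N68797 D132098) (tt N68774 (iv7 F211553)))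
theorem Q37771 : ∀ i, i < 37771 → P i := stepQ 37770 Q37770 (allL N37770 (tt N68745 (iv1 F340133)) (tt N68798 D132100) (tt N68788 (iv2 F211625)) (tt N68793 (iv3 F211633)) (tt N68795 (iv4 F211637)) (tt N68799 D132101) (tt N19174 (iv6 D61979)) (tt N68800 D132102))
theorem Q37772 : ∀ i, i < 37772 → P i := stepQ 37771 Q37771 (allL N37771 (tt N56659 (iv1 F164547)) (tt N56658 F164542) (tt N19176 F96573) (tt N56559 (iv3 F164256)) (tt N68801 D132103) (tt N19175 (iv5 D61982)) (tt N68802 D132104) (tt N56660 (iv7 F164545)))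
theorem Q37773 : ∀ i, i < 37773 → P i := stepQ 37772 Q37772 (allL N37772 (tt N56660 (iv1 F164546)) (tt N19176 (iv0 D61983)) (tt N56659 (iv2 F216664)) (tt N52620 (iv3 F361094)) (tt N68803 D132107) (tt N68612 F211212) (tt N52620 (iv6 F363607)) (tt N56658 (iv7 F216667)))
theorem Q37774 : ∀ i, i < 37774 → P i := stepQ 37773 Q37773 (allL N37773 (tt N19176 (iv1 D61984)) (tt N56660 F164548) (tt N56658 (iv2 F216666)) (tt N68804 D132110) (tt N68805 D132111) (tt N68613 (iv5 F212088)) (tt N68806 D132113) (tt N56659 (iv7 F216665)))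
theorem Q37775 : ∀ i, i < 37775 → P i := stepQ 37774 Q37774 (allL N37774 (tt N52615 (iv1 F363589)) (tt N68807 D132115) (tt N68801 (iv2 F211638)) (tt N56643 (iv3 F164514)) (tt N19176 (iv4 D61985)) (tt N68808 D132116) (tt N68809 D132117) (tt N56640 F164512))
theorem Q37776 : ∀ i, i < 37776 → P i := stepQ 37775 Q37775 (allL N37775 (tt N52668 (iv1 F365954)) (tt N68810 D132119) (tt N68802 (iv2 F211640)) (tt N19180 F96574) (tt N68809 (iv4 F211646)) (tt N36858 F96575) (tt N19176 (iv6 D61986)) (tt N68811 D132120))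
theorem Q37777 : ∀ i, i < 37777 → P i := stepQ 37776 Q37776 (allL N37776 (tt N68812 D132121) (tt N68813 D132122) (tt N68772 (iv2 F211540)) (tt N19181 F96576) (tt N19326 F96577) (tt N68814 D132123) (tt N19177 (iv6 D61987)) (tt N36860 F96578))
theorem Q37778 : ∀ i, i < 37778 → P i := stepQ 37777 Q37777 (allL N37777 (tt N68750 (iv1 F212478)) (tt N68754 (iv0 F211511)) (tt N68815 D132125) (tt N19178 (iv3 D61988)) (tt N68816 D132126) (tt N29955 F96579) (tt N68715 (iv6 F341615)) (tt N56567 (iv7 F164272)))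
theorem Q37779 : ∀ i, i < 37779 → P i := stepQ 37778 Q37778 (allL N37778 (tt N68817 D132128) (tt N52622 (iv0 F358377)) (tt N56566 (iv2 F164269)) (tt N68715 (iv3 F341614)) (tt N29970 F96580) (tt N60565 (iv5 F341619)) (tt N19178 (iv6 D61989)) (tt N68818 D132131))
theorem Q37780 : ∀ i, i < 37780 → P i := stepQ 37779 Q37779 (allL N37779 (tt N68763 (iv1 F359038)) (tt N68766 (iv0 F359036)) (tt N68819 D132134) (tt N19179 (iv3 D61990)) (tt N68820 D132135) (tt N29964 F96581) (tt N68821 D132136) (tt N56565 (iv7 F164268)))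
theorem Q37781 : ∀ i, i < 37781 → P i := stepQ 37780 Q37780 (allL N37780 (tt N65795 (iv1 F360462)) (tt N68822 D132138) (tt N56568 (iv2 F164273)) (tt N68821 (iv3 F211660)) (tt N29963 F96582) (tt N68823 D132139) (tt N19179 (iv6 D61991)) (tt N68824 D132140))
theorem Q37782 : ∀ i, i < 37782 → P i := stepQ 37781 Q37781 (allL N37781 (tt N56571 (iv1 F164281)) (tt N19180 (iv0 D61992)) (tt N56569 (iv2 F358280)) (tt N68825 D132142) (tt N58938 (iv4 F341789)) (tt N68826 D132144) (tt N68827 D132145) (tt N56570 (iv7 F358290)))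
theorem Q37783 : ∀ i, i < 37783 → P i := stepQ 37782 Q37782 (allL N37782 (tt N19180 (iv1 D61993)) (tt N56571 F164280) (tt N56570 (iv2 F358286)) (tt N68828 D132147) (tt N58939 (iv4 F341792)) (tt N68829 D132149) (tt N68830 D132150) (tt N56569 (iv7 F358285)))
theorem Q37784 : ∀ i, i < 37784 → P i := stepQ 37783 Q37783 (allL N37783 (tt N56570 (iv1 F164275)) (tt N56569 F164279) (tt N56571 (iv2 F164276)) (tt N68811 (iv3 F211647)) (tt N56672 (iv4 F164570)) (tt N36869 F96583) (tt N56665 (iv6 F164555)) (tt N19180 (iv7 D61994)))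
theorem Q37785 : ∀ i, i < 37785 → P i := stepQ 37784 Q37784 (allL N37784 (tt N36720 (iv1 F96584)) (tt N19181 (iv0 D61995)) (tt N36872 (iv2 F102159)) (tt N68831 D132151) (tt N30109 (iv4 F102050)) (tt N68832 D132152) (tt N68833 D132153) (tt N36871 F102158))
theorem Q37786 : ∀ i, i < 37786 → P i := stepQ 37785 Q37785 (allL N37785 (tt N19181 (iv1 D61996)) (tt N36720 F96585) (tt N36871 (iv2 F102155)) (tt N68834 D132154) (tt N30110 (iv4 F102072)) (tt N68835 D132155) (tt N68836 D132156) (tt N36872 (iv7 F102151)))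
theorem Q37787 : ∀ i, i < 37787 → P i := stepQ 37786 Q37786 (allL N37786 (tt N68837 D132157) (tt N68838 D132158) (tt N56572 (iv2 F164282)) (tt N68814 (iv3 F211651)) (tt N68839 D132159) (tt N19181 (iv5 D61997)) (tt N56664 (iv6 F164552)) (tt N36873 F96586))
theorem Q37788 : ∀ i, i < 37788 → P i := stepQ 37787 Q37787 (allL N37787 (tt N30700 F103577) (tt N31393 F103578) (tt N57803 F167788) (tt N19182 (iv3 D61999)) (tt N38829 (iv4 F98838)) (tt N68840 D132160) (tt N59003 (iv6 F171715)) (tt N36874 (iv7 F103556)))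
theorem Q37789 : ∀ i, i < 37789 → P i := stepQ 37788 Q37788 (allL N37788 (tt N36790 F102060) (tt N30130 F103575) (tt N32556 F329385) (tt N68841 D132161) (tt N19182 (iv4 D62000)) (tt N68842 D132162) (tt N32555 F329386) (tt N36875 (iv7 F103557)))
theorem Q37790 : ∀ i, i < 37790 → P i := stepQ 37789 Q37789 (allL N37789 (tt N60716 F176765) (tt N37687 (iv0 F96588)) (tt N36878 (iv2 F103565)) (tt N68840 (iv3 F211681)) (tt N68843 D132163) (tt N19182 (iv5 D62001)) (tt N37840 (iv6 F96702)) (tt N36876 (iv7 F103558)))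
theorem Q37791 : ∀ i, i < 37791 → P i := stepQ 37790 Q37790 (allL N37790 (tt N35932 F102068) (tt N35926 F102069) (tt N66152 (iv2 F203520)) (tt N19183 (iv3 D62003)) (tt N32536 F327845) (tt N68844 D132164) (tt N68845 D132165) (tt N32533 (iv7 F328250)))
theorem Q37792 : ∀ i, i < 37792 → P i := stepQ 37791 Q37791 (allL N37791 (tt N30130 F102066) (tt N36790 F102067) (tt N36875 (iv2 F103566)) (tt N32560 F328647) (tt N19183 (iv4 D62004)) (tt N68846 D132167) (tt N68847 D132168) (tt N32556 (iv7 F329053)))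
theorem Q37793 : ∀ i, i < 37793 → P i := stepQ 37792 Q37792 (allL N37792 (tt N37687 F96590) (tt N60716 (iv0 F176764)) (tt N36876 F103563) (tt N68844 (iv3 F211690)) (tt N68848 D132169) (tt N19183 (iv5 D62005)) (tt N37664 F96591) (tt N36878 (iv7 F103564)))
theorem Q37794 : ∀ i, i < 37794 → P i := stepQ 37793 Q37793 (allL N37793 (tt N36807 (iv1 F172146)) (tt N56532 (iv0 F164201)) (tt N36877 F103551) (tt N68845 (iv3 F211698)) (tt N68847 (iv4 F211706)) (tt N29683 F96592) (tt N19183 (iv6 D62006)) (tt N59126 (iv7 F172144)))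
theorem Q37795 : ∀ i, i < 37795 → P i := stepQ 37794 Q37794 (allL N37794 (tt N39839 (iv1 F111883)) (tt N39835 F100711) (tt N35548 F96593) (tt N38434 (iv3 F98290)) (tt N61909 (iv4 F179688)) (tt N37794 F96594) (tt N19184 (iv6 D62007)) (tt N36028 F96595))
theorem Q37796 : ∀ i, i < 37796 → P i := stepQ 37795 Q37795 (allL N37795 (tt N68849 D132170) (tt N68850 D132171) (tt N68851 D132172) (tt N19185 (iv3 D62008)) (tt N38588 (iv4 F98445)) (tt N68852 D132173) (tt N68853 D132174) (tt N29607 F96596))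
theorem Q37797 : ∀ i, i < 37797 → P i := stepQ 37796 Q37796 (allL N37796 (tt N38459 (iv1 F98335)) (tt N39241 (iv0 F99698)) (tt N36976 F96597) (tt N68852 (iv3 F211726)) (tt N35547 F96599) (tt N19185 (iv5 D62009)) (tt N68854 D132175) (tt N29608 F96598))
theorem Q37798 : ∀ i, i < 37798 → P i := stepQ 37797 Q37797 (allL N37797 (tt N66213 (iv1 F203671)) (tt N66212 F203668) (tt N36977 F96600) (tt N68853 (iv3 F211728)) (tt N19186 F96601) (tt N68855 D132176) (tt N19185 (iv6 D62010)) (tt N35959 F96602))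
theorem Q37799 : ∀ i, i < 37799 → P i := stepQ 37798 Q37798 (allL N37798 (tt N68856 D132177) (tt N68857 D132178) (tt N68858 D132179) (tt N19187 (iv3 D62011)) (tt N35933 F96603) (tt N68859 D132180) (tt N68860 D132181) (tt N36978 F96604))
theorem Q37800 : ∀ i, i < 37800 → P i := stepQ 37799 Q37799 (allL N37799 (tt N19975 F96608) (tt N19926 F96609) (tt N19199 F96605) (tt N68859 (iv3 F211741)) (tt N19942 F96606) (tt N19187 (iv5 D62012)) (tt N68861 D132182) (tt N36979 F96607))
theorem Q37801 : ∀ i, i < 37801 → P i := stepQ 37800 Q37800 (allL N37800 (tt N68210 (iv1 F209274)) (tt N68862 D132183) (tt N19200 F96610) (tt N68860 (iv3 F211743)) (tt N19188 F96611) (tt N68863 D132184) (tt N19187 (iv6 D62013)) (tt N68864 D132185))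
theorem Q37802 : ∀ i, i < 37802 → P i := stepQ 37801 Q37801 (allL N37801 (tt N19202 (iv1 F96617)) (tt N19201 (iv0 F96618)) (tt N19203 F96612) (tt N35936 F96613) (tt N68864 (iv4 F211753)) (tt N35772 F96614) (tt N36889 F96615) (tt N19188 (iv7 D62014)))
theorem Q37803 : ∀ i, i < 37803 → P i := stepQ 37802 Q37802 (allL N37802 (tt N30577 F96622) (tt N38241 F97752) (tt N19932 F96619) (tt N68865 D132186) (tt N19189 (iv4 D62015)) (tt N39328 (iv5 F100013)) (tt N20078 F96620) (tt N19930 F96621))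
theorem Q37804 : ∀ i, i < 37804 → P i := stepQ 37803 Q37803 (allL N37803 (tt N19855 (iv1 F96624)) (tt N19190 (iv0 D62016)) (tt N19933 (iv2 F96625)) (tt N68866 D132187) (tt N31293 F96623) (tt N39300 (iv5 F99877)) (tt N41312 F328575) (tt N19934 (iv7 F96626)))
theorem Q37805 : ∀ i, i < 37805 → P i := stepQ 37804 Q37804 (allL N37804 (tt N19190 (iv1 D62017)) (tt N19855 F96627) (tt N19934 (iv2 F96630)) (tt N68867 D132189) (tt N20840 F96629) (tt N39299 (iv5 F99870)) (tt N20073 F99496) (tt N19933 F96628))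
theorem Q37806 : ∀ i, i < 37806 → P i := stepQ 37805 Q37805 (allL N37805 (tt N55852 (iv1 F161947)) (tt N35547 F96636) (tt N19936 F96633) (tt N50477 (iv3 F329286)) (tt N36979 F96635) (tt N19190 (iv5 D62019)) (tt N50476 (iv6 F344185)) (tt N19942 F96634))
theorem Q37807 : ∀ i, i < 37807 → P i := stepQ 37806 Q37806 (allL N37806 (tt N68868 D132195) (tt N68869 D132196) (tt N68870 D132197) (tt N19191 (iv3 D62020)) (tt N37401 F96637) (tt N68871 D132198) (tt N68872 D132199) (tt N36981 F96638))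
theorem Q37808 : ∀ i, i < 37808 → P i := stepQ 37807 Q37807 (allL N37807 (tt N55836 (iv1 F161913)) (tt N55839 (iv0 F161922)) (tt N36985 F96639) (tt N68871 (iv3 F211790)) (tt N39299 (iv4 F99871)) (tt N19191 (iv5 D62021)) (tt N68873 D132200) (tt N36982 F96640))
theorem Q37809 : ∀ i, i < 37809 → P i := stepQ 37808 Q37808 (allL N37808 (tt N68874 D132201) (tt N68875 D132202) (tt N36986 F96641) (tt N68872 (iv3 F211792)) (tt N19192 F96642) (tt N68876 D132203) (tt N19191 (iv6 D62022)) (tt N68877 D132204))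
theorem Q37810 : ∀ i, i < 37810 → P i := stepQ 37809 Q37809 (allL N37809 (tt N36988 (iv1 F96646)) (tt N19192 (iv0 D62023)) (tt N36927 (iv2 F166340)) (tt N36882 F166342) (tt N68878 D132205) (tt N66236 (iv5 F203786)) (tt N66142 (iv6 F203462)) (tt N36987 (iv7 F166341)))
theorem Q37811 : ∀ i, i < 37811 → P i := stepQ 37810 Q37810 (allL N37810 (tt N19192 (iv1 D62024)) (tt N36988 F96643) (tt N36987 F166334) (tt N19209 F166335) (tt N68879 D132206) (tt N57386 F166336) (tt N36883 F166337) (tt N36927 F166338))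
theorem Q37812 : ∀ i, i < 37812 → P i := stepQ 37811 Q37811 (allL N37811 (tt N36987 (iv1 F96647)) (tt N36927 (iv0 F101873)) (tt N36988 F96644) (tt N62871 (iv3 F326745)) (tt N68877 (iv4 F211800)) (tt N44482 (iv5 F112237)) (tt N19232 F96645) (tt N19192 (iv7 D62025)))
theorem Q37813 : ∀ i, i < 37813 → P i := stepQ 37812 Q37812 (allL N37812 (tt N19655 F96651) (tt N19656 F96652) (tt N19686 F96649) (tt N68880 D132207) (tt N19193 (iv4 D62026)) (tt N38770 (iv5 F98773)) (tt N38477 F98775) (tt N19685 F96650))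
theorem Q37814 : ∀ i, i < 37814 → P i := stepQ 37813 Q37813 (allL N37813 (tt N31389 F96656) (tt N44327 F111653) (tt N36723 F96653) (tt N19195 F96654) (tt N38477 (iv4 F98778)) (tt N36669 F96655) (tt N19193 (iv6 D62027)) (tt N44325 (iv7 F171560)))
theorem Q37815 : ∀ i, i < 37815 → P i := stepQ 37814 Q37814 (allL N37814 (tt N68881 D132208) (tt N68882 D132209) (tt N68883 D132210) (tt N19194 (iv3 D62028)) (tt N68880 (iv4 F211814)) (tt N68884 D132211) (tt N68885 D132212) (tt N36984 F96657))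
theorem Q37816 : ∀ i, i < 37816 → P i := stepQ 37815 Q37815 (allL N37815 (tt N55839 (iv1 F161923)) (tt N55836 (iv0 F161912)) (tt N36982 F96658) (tt N68884 (iv3 F211822)) (tt N39300 F99879) (tt N19194 (iv5 D62029)) (tt N68886 D132213) (tt N36985 F96659))
theorem Q37817 : ∀ i, i < 37817 → P i := stepQ 37816 Q37816 (allL N37816 (tt N38931 F161914) (tt N68887 D132214) (tt N36983 F96660) (tt N68885 (iv3 F211824)) (tt N19195 F96661) (tt N68888 D132215) (tt N19194 (iv6 D62030)) (tt N66162 (iv7 F203544)))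
theorem Q37818 : ∀ i, i < 37818 → P i := stepQ 37817 Q37817 (allL N37817 (tt N68889 D132216) (tt N68890 D132217) (tt N68891 D132218) (tt N19196 (iv3 D62031)) (tt N38196 (iv4 F97625)) (tt N67873 (iv5 F208193)) (tt N68892 D132219) (tt N36989 F96662))
theorem Q37819 : ∀ i, i < 37819 → P i := stepQ 37818 Q37818 (allL N37818 (tt N68878 (iv1 F211813)) (tt N68879 (iv0 F211811)) (tt N36994 F96663) (tt N68892 (iv3 F211838)) (tt N38169 F97581) (tt N67796 (iv5 F207846)) (tt N19196 (iv6 D62032)) (tt N68893 D132220))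
theorem Q37820 : ∀ i, i < 37820 → P i := stepQ 37819 Q37819 (allL N37819 (tt N68894 D132221) (tt N68895 D132222) (tt N68896 D132223) (tt N19197 (iv3 D62033)) (tt N38217 (iv4 F97675)) (tt N67875 (iv5 F208196)) (tt N68897 D132224) (tt N36992 F96664))
theorem Q37821 : ∀ i, i < 37821 → P i := stepQ 37820 Q37820 (allL N37820 (tt N19231 F96667) (tt N66161 F203541) (tt N36991 F96665) (tt N68897 (iv3 F211849)) (tt N33120 F96666) (tt N68898 D132225) (tt N19197 (iv6 D62034)) (tt N66159 (iv7 F203535)))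
theorem Q37822 : ∀ i, i < 37822 → P i := stepQ 37821 Q37821 (allL N37821 (tt N36997 (iv1 F96668)) (tt N19198 (iv0 D62035)) (tt N36996 F209633) (tt N68899 D132226) (tt N68900 D132227) (tt N67866 (iv5 F209669)) (tt N68901 D132228) (tt N36995 F209634))
theorem Q37823 : ∀ i, i < 37823 → P i := stepQ 37822 Q37822 (allL N37822 (tt N19198 (iv1 D62036)) (tt N36997 F96673) (tt N36995 F209631) (tt N68902 D132229) (tt N37421 (iv4 F96669)) (tt N67867 F209664) (tt N68903 D132230) (tt N36996 F209632))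
theorem Q37824 : ∀ i, i < 37824 → P i := stepQ 37823 Q37823 (allL N37823 (tt N36996 (iv1 F96674)) (tt N36995 F96672) (tt N19198 (iv2 D62037)) (tt N68858 (iv3 F211735)) (tt N19214 F96670) (tt N68904 D132231) (tt N67887 (iv6 F345871)) (tt N36997 F96671))
theorem Q37825 : ∀ i, i < 37825 → P i := stepQ 37824 Q37824 (allL N37824 (tt N68905 D132233) (tt N68906 D132234) (tt N68904 (iv2 F211865)) (tt N19199 F96675) (tt N68907 D132235) (tt N19198 (iv5 D62038)) (tt N68908 D132236) (tt N36998 F96676))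
theorem Q37826 : ∀ i, i < 37826 → P i := stepQ 37825 Q37825 (allL N37825 (tt N67885 (iv1 F345875)) (tt N67884 (iv0 F345859)) (tt N67887 (iv2 F345869)) (tt N19200 F96677) (tt N19216 F96678) (tt N67854 (iv5 F345873)) (tt N19198 (iv6 D62039)) (tt N67853 (iv7 F334301)))
theorem Q37827 : ∀ i, i < 37827 → P i := stepQ 37826 Q37826 (allL N37826 (tt N36979 (iv1 F96681)) (tt N19199 (iv0 D62040)) (tt N19975 (iv2 F96680)) (tt N68909 D132241) (tt N19862 F96683) (tt N19250 F96679) (tt N68910 D132242) (tt N19926 F96682))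
theorem Q37828 : ∀ i, i < 37828 → P i := stepQ 37827 Q37827 (allL N37827 (tt N35547 F96687) (tt N55852 (iv0 F161946)) (tt N19942 F96684) (tt N68911 D132243) (tt N19199 (iv4 D62041)) (tt N19855 F96685) (tt N68912 D132244) (tt N19936 F96686))
theorem Q37829 : ∀ i, i < 37829 → P i := stepQ 37828 Q37828 (allL N37828 (tt N68913 D132245) (tt N68914 D132246) (tt N68861 (iv2 F211745)) (tt N68908 (iv3 F211876)) (tt N68912 (iv4 F211888)) (tt N68915 D132247) (tt N19199 (iv6 D62042)) (tt N68916 D132248))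
theorem Q37830 : ∀ i, i < 37830 → P i := stepQ 37829 Q37829 (allL N37829 (tt N68864 (iv1 F211756)) (tt N19200 (iv0 D62043)) (tt N68210 (iv2 F209270)) (tt N68917 D132249) (tt N56406 F164308) (tt N68918 D132250) (tt N36903 F169033) (tt N68862 (iv7 F211748)))
theorem Q37831 : ∀ i, i < 37831 → P i := stepQ 37830 Q37830 (allL N37830 (tt N19200 (iv1 D62044)) (tt N68864 F211755) (tt N68862 F211750) (tt N68919 D132251) (tt N58195 (iv4 F168991)) (tt N68920 D132252) (tt N68921 D132253) (tt N68210 (iv7 F209272)))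
theorem Q37832 : ∀ i, i < 37832 → P i := stepQ 37831 Q37831 (allL N37831 (tt N68922 D132254) (tt N68923 D132255) (tt N68863 (iv2 F211751)) (tt N67854 (iv3 F345872)) (tt N68924 D132256) (tt N19200 (iv5 D62045)) (tt N68915 (iv6 F211889)) (tt N67850 (iv7 F361165)))
theorem Q37833 : ∀ i, i < 37833 → P i := stepQ 37832 Q37832 (allL N37832 (tt N68862 (iv1 F211747)) (tt N68210 (iv0 F209273)) (tt N68864 (iv2 F211752)) (tt N67853 (iv3 F334298)) (tt N19203 F96688) (tt N67850 (iv5 F361164)) (tt N37003 F96689) (tt N19200 (iv7 D62046)))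
theorem Q37834 : ∀ i, i < 37834 → P i := stepQ 37833 Q37833 (allL N37833 (tt N56486 F175227) (tt N35928 F169868) (tt N56484 F170685) (tt N19201 (iv3 D62048)) (tt N38956 F99087) (tt N58458 (iv5 F169363)) (tt N36907 F96692) (tt N56485 (iv7 F170689)))
theorem Q37835 : ∀ i, i < 37835 → P i := stepQ 37834 Q37834 (allL N37834 (tt N68925 D132258) (tt N39242 F175226) (tt N60018 (iv2 F175222)) (tt N68926 D132259) (tt N19201 (iv4 D62049)) (tt N68927 D132260) (tt N36908 F96693) (tt N60012 (iv7 F175209)))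
theorem Q37836 : ∀ i, i < 37836 → P i := stepQ 37835 Q37835 (allL N37835 (tt N30692 F168450) (tt N36730 F168451) (tt N36729 F170680) (tt N19202 (iv3 D62051)) (tt N59562 F173148) (tt N32400 F168452) (tt N68928 D132261) (tt N36728 F170687))
theorem Q37837 : ∀ i, i < 37837 → P i := stepQ 37836 Q37836 (allL N37836 (tt N39242 F172749) (tt N68925 F211899) (tt N60012 (iv2 F175208)) (tt N68929 D132262) (tt N19202 (iv4 D62052)) (tt N68930 D132263) (tt N68931 D132264) (tt N60018 (iv7 F175224)))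
theorem Q37838 : ∀ i, i < 37838 → P i := stepQ 37837 Q37837 (allL N37837 (tt N38106 F101903) (tt N66142 (iv0 F203461)) (tt N60013 (iv2 F175211)) (tt N68928 (iv3 F211905)) (tt N68931 (iv4 F211910)) (tt N36911 F96695) (tt N19202 (iv6 D62053)) (tt N36911 F96696))
theorem Q37839 : ∀ i, i < 37839 → P i := stepQ 37838 Q37838 (allL N37838 (tt N68932 D132265) (tt N68933 D132266) (tt N68934 D132267) (tt N19204 (iv3 D62054)) (tt N19206 F96697) (tt N67394 (iv5 F207160)) (tt N68935 D132268) (tt N36740 F96698))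
theorem Q37840 : ∀ i, i < 37840 → P i := stepQ 37839 Q37839 (allL N37839 (tt N68936 D132269) (tt N68937 D132270) (tt N36736 F96699) (tt N68935 (iv3 F211942)) (tt N19205 F96700) (tt N68938 D132271) (tt N19204 (iv6 D62055)) (tt N68673 (iv7 F211344)))
theorem Q37841 : ∀ i, i < 37841 → P i := stepQ 37840 Q37840 (allL N37840 (tt N36739 (iv1 F96704)) (tt N19205 (iv0 D62056)) (tt N36737 (iv2 F103534)) (tt N68939 D132272) (tt N68940 D132273) (tt N31502 F96701) (tt N37789 F96702) (tt N36738 F103532))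
theorem Q37842 : ∀ i, i < 37842 → P i := stepQ 37841 Q37841 (allL N37841 (tt N19205 (iv1 D62057)) (tt N36739 F96705) (tt N36738 F103615) (tt N68941 D132274) (tt N68942 D132275) (tt N65469 (iv5 F201802)) (tt N36916 (iv6 F103616)) (tt N36737 F103614))
theorem Q37843 : ∀ i, i < 37843 → P i := stepQ 37842 Q37842 (allL N37842 (tt N36932 (iv1 F96706)) (tt N19206 (iv0 D62058)) (tt N36931 F211996) (tt N36119 (iv3 F327379)) (tt N68943 D132278) (tt N19511 F211920) (tt N36117 F326708) (tt N36930 F211997))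
theorem Q37844 : ∀ i, i < 37844 → P i := stepQ 37843 Q37843 (allL N37843 (tt N19206 (iv1 D62059)) (tt N36932 F96710) (tt N36930 (iv2 F211993)) (tt N68944 D132280) (tt N68945 D132281) (tt N19512 F211928) (tt N68946 D132282) (tt N36931 (iv7 F211994)))
theorem Q37845 : ∀ i, i < 37845 → P i := stepQ 37844 Q37844 (allL N37844 (tt N36931 (iv1 F96711)) (tt N36930 F96709) (tt N19206 (iv2 D62060)) (tt N36919 F96707) (tt N68934 (iv4 F211931)) (tt N36526 F312960) (tt N68947 D132283) (tt N36932 F96708))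
theorem Q37846 : ∀ i, i < 37846 → P i := stepQ 37845 Q37845 (allL N37845 (tt N68948 D132284) (tt N68949 D132285) (tt N68947 (iv2 F212067)) (tt N19207 F96712) (tt N68935 (iv4 F211943)) (tt N67926 (iv5 F208549)) (tt N19206 (iv6 D62061)) (tt N68950 D132286))
theorem Q37847 : ∀ i, i < 37847 → P i := stepQ 37846 Q37846 (allL N37846 (tt N36926 (iv1 F96725)) (tt N19207 (iv0 D62062)) (tt N36923 (iv2 F96721)) (tt N68951 D132287) (tt N19355 F96719) (tt N68952 D132288) (tt N38923 (iv6 F99012)) (tt N36924 F96720))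
theorem Q37848 : ∀ i, i < 37848 → P i := stepQ 37847 Q37847 (allL N37847 (tt N19207 (iv1 D62063)) (tt N36926 F96713) (tt N36924 (iv2 F96715)) (tt N50231 (iv3 F319947)) (tt N19356 F96714) (tt N41599 F323340) (tt N36924 (iv6 F96716)) (tt N36923 (iv7 F96723)))
theorem Q37849 : ∀ i, i < 37849 → P i := stepQ 37848 Q37848 (allL N37848 (tt N36924 (iv1 F96730)) (tt N36923 F96731) (tt N36926 F96727) (tt N68950 (iv3 F212069)) (tt N19210 F96728) (tt N38014 (iv5 F97206)) (tt N19243 F96729) (tt N19207 (iv7 D62064)))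
theorem Q37850 : ∀ i, i < 37850 → P i := stepQ 37849 Q37849 (allL N37849 (tt N36884 F101904) (tt N19226 F101905) (tt N36882 F103862) (tt N19208 (iv3 D62065)) (tt N68953 D132291) (tt N55941 (iv5 F162199)) (tt N38106 F97376) (tt N36883 (iv7 F103861)))
theorem Q37851 : ∀ i, i < 37851 → P i := stepQ 37850 Q37850 (allL N37850 (tt N36919 (iv1 F96735)) (tt N19211 (iv0 D62067)) (tt N36918 F217660) (tt N68954 D132293) (tt N68955 D132294) (tt N19322 F211211) (tt N68956 D132295) (tt N36917 (iv7 F217668)))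
theorem Q37852 : ∀ i, i < 37852 → P i := stepQ 37851 Q37851 (allL N37851 (tt N19211 (iv1 D62068)) (tt N36919 F96739) (tt N36917 (iv2 F217667)) (tt N68957 D132297) (tt N68958 D132298) (tt N19323 F212087) (tt N68959 D132299) (tt N36918 F217663))
theorem Q37853 : ∀ i, i < 37853 → P i := stepQ 37852 Q37852 (allL N37852 (tt N36918 (iv1 F96740)) (tt N36917 F96738) (tt N19211 (iv2 D62069)) (tt N36932 F96736) (tt N68614 (iv4 F211213)) (tt N38049 (iv5 F212097)) (tt N66356 (iv6 F325897)) (tt N36919 F96737))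
theorem Q37854 : ∀ i, i < 37854 → P i := stepQ 37853 Q37853 (allL N37853 (tt N23022 (iv1 F315270)) (tt N23032 (iv0 F315271)) (tt N25363 (iv2 F315268)) (tt N19212 (iv3 D62071)) (tt N38231 F97717) (tt N24573 F312898) (tt N68960 D132302) (tt N37010 F209653))
theorem Q37855 : ∀ i, i < 37855 → P i := stepQ 37854 Q37854 (allL N37854 (tt N68961 D132303) (tt N68962 D132304) (tt N37015 F209654) (tt N68963 D132305) (tt N19212 (iv4 D62072)) (tt N68964 D132306) (tt N68965 D132307) (tt N37011 F209655))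
theorem Q37856 : ∀ i, i < 37856 → P i := stepQ 37855 Q37855 (allL N37855 (tt N68966 D132308) (tt N68233 (iv0 F371341)) (tt N37017 F209656) (tt N68960 (iv3 F212115)) (tt N68965 (iv4 F212123)) (tt N67830 (iv5 F342214)) (tt N19212 (iv6 D62074)) (tt N68967 D132311))
theorem Q37857 : ∀ i, i < 37857 → P i := stepQ 37856 Q37856 (allL N37856 (tt N67036 (iv1 F311930)) (tt N67035 (iv0 F311921)) (tt N65369 (iv2 F316704)) (tt N19213 (iv3 D62076)) (tt N68968 D132315) (tt N65366 (iv5 F312121)) (tt N66455 (iv6 F347130)) (tt N37014 F209648))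
theorem Q37858 : ∀ i, i < 37858 → P i := stepQ 37857 Q37857 (allL N37857 (tt N68962 (iv1 F212118)) (tt N68961 F212117) (tt N37011 F209649) (tt N68969 D132317) (tt N19213 (iv4 D62077)) (tt N68970 D132318) (tt N68971 D132319) (tt N37015 F209650))
theorem Q37859 : ∀ i, i < 37859 → P i := stepQ 37858 Q37858 (allL N37858 (tt N19240 (iv1 F359741)) (tt N68972 D132321) (tt N37013 F209651) (tt N66455 (iv3 F347129)) (tt N68971 (iv4 F212227)) (tt N68973 D132322) (tt N19213 (iv6 D62079)) (tt N68974 D132323))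
theorem Q37860 : ∀ i, i < 37860 → P i := stepQ 37859 Q37859 (allL N37859 (tt N37021 (iv1 F96746)) (tt N37020 F96747) (tt N19215 F96743) (tt N23058 F313821) (tt N68975 D132324) (tt N19214 (iv5 D62080)) (tt N68976 D132325) (tt N37018 F96745))
theorem Q37861 : ∀ i, i < 37861 → P i := stepQ 37860 Q37860 (allL N37860 (tt N46174 (iv1 F324198)) (tt N46170 (iv0 F324199)) (tt N19216 F96748) (tt N36959 F96749) (tt N67887 (iv4 F345870)) (tt N34623 F322720) (tt N19214 (iv6 D62081)) (tt N67886 (iv7 F345868)))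
theorem Q37862 : ∀ i, i < 37862 → P i := stepQ 37861 Q37861 (allL N37861 (tt N19215 (iv1 D62083)) (tt N37018 F96751) (tt N37020 F212260) (tt N68977 D132334) (tt N68978 D132335) (tt N19258 F212261) (tt N63840 F212262) (tt N37021 F212263))
theorem Q37863 : ∀ i, i < 37863 → P i := stepQ 37862 Q37862 (allL N37862 (tt N68979 D132336) (tt N63845 (iv0 F212296)) (tt N68975 (iv2 F212235)) (tt N19506 F96752) (tt N19215 (iv4 D62084)) (tt N52378 (iv5 F309763)) (tt N63250 (iv6 F209899)) (tt N37022 F96753))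
theorem Q37864 : ∀ i, i < 37864 → P i := stepQ 37863 Q37863 (allL N37863 (tt N63834 (iv1 F215118)) (tt N66831 (iv0 F330739)) (tt N68976 (iv2 F212241)) (tt N19217 F96754) (tt N63250 (iv4 F209898)) (tt N34615 (iv5 F316541)) (tt N19215 (iv6 D62085)) (tt N68980 D132342))
theorem Q37865 : ∀ i, i < 37865 → P i := stepQ 37864 Q37864 (allL N37864 (tt N67886 (iv1 F345863)) (tt N19216 (iv0 D62086)) (tt N46174 (iv2 F324202)) (tt N68981 D132344) (tt N68982 D132345) (tt N45919 F330785) (tt N36963 (iv6 F348906)) (tt N46170 (iv7 F324206)))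
theorem Q37866 : ∀ i, i < 37866 → P i := stepQ 37865 Q37865 (allL N37865 (tt N19216 (iv1 D62087)) (tt N67886 (iv0 F345862)) (tt N46170 (iv2 F324205)) (tt N68983 D132349) (tt N68984 D132350) (tt N45923 (iv5 F324207)) (tt N68470 (iv6 F350901)) (tt N46174 (iv7 F324203)))
theorem Q37867 : ∀ i, i < 37867 → P i := stepQ 37866 Q37866 (allL N37866 (tt N46170 (iv1 F324200)) (tt N46174 (iv0 F324197)) (tt N67886 (iv2 F345864)) (tt N19218 F96756) (tt N67853 (iv4 F334299)) (tt N25344 F322721) (tt N37026 F96757) (tt N19216 (iv7 D62089)))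
theorem Q37868 : ∀ i, i < 37868 → P i := stepQ 37867 Q37867 (allL N37867 (tt N36966 (iv1 F96765)) (tt N36965 F96766) (tt N36967 F96761) (tt N68980 (iv3 F212314)) (tt N19510 F96762) (tt N23124 (iv5 F313452)) (tt N37030 F96763) (tt N19217 (iv7 D62093)))
theorem Q37869 : ∀ i, i < 37869 → P i := stepQ 37868 Q37868 (allL N37868 (tt N67238 (iv1 F206972)) (tt N38430 (iv0 F164133)) (tt N32285 F328121) (tt N68985 D132369) (tt N19219 (iv4 D62101)) (tt N29484 F328122) (tt N36971 F96788) (tt N36759 (iv7 F164088)))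
theorem Q37870 : ∀ i, i < 37870 → P i := stepQ 37869 Q37869 (allL N37869 (tt N68986 D132371) (tt N68946 (iv0 F337764)) (tt N68987 D132373) (tt N19220 (iv3 D62102)) (tt N68985 (iv4 F212369)) (tt N34616 (iv5 F324074)) (tt N36972 F96790) (tt N36973 F96791))
theorem Q37871 : ∀ i, i < 37871 → P i := stepQ 37870 Q37870 (allL N37870 (tt N68956 (iv1 F336580)) (tt N68988 D132375) (tt N68989 D132376) (tt N19221 (iv3 D62108)) (tt N68649 (iv4 F211270)) (tt N34617 F322727) (tt N68990 D132377) (tt N36972 F96803))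
theorem Q37872 : ∀ i, i < 37872 → P i := stepQ 37871 Q37871 (allL N37871 (tt N38923 (iv1 F99016)) (tt N38923 (iv0 F99015)) (tt N36974 F96804) (tt N68990 (iv3 F212389)) (tt N19222 F96805) (tt N46422 (iv5 F305443)) (tt N19221 (iv6 D62109)) (tt N36974 F96806))
theorem Q37873 : ∀ i, i < 37873 → P i := stepQ 37872 Q37872 (allL N37872 (tt N66178 F203599) (tt N42368 F333198) (tt N68991 D132379) (tt N19224 (iv3 D62110)) (tt N37313 F96807) (tt N68992 D132380) (tt N66407 (iv6 F204112)) (tt N36879 F96808))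
theorem Q37874 : ∀ i, i < 37874 → P i := stepQ 37873 Q37873 (allL N37873 (tt N35982 F96812) (tt N35979 F96813) (tt N36887 F96809) (tt N68992 (iv3 F212402)) (tt N37402 F96811) (tt N19224 (iv5 D62111)) (tt N68993 D132381) (tt N36880 F96810))
theorem Q37875 : ∀ i, i < 37875 → P i := stepQ 37874 Q37874 (allL N37874 (tt N68001 F208828) (tt N68994 D132382) (tt N67630 (iv2 F207511)) (tt N19225 (iv3 D62112)) (tt N38445 (iv4 F98310)) (tt N37898 F97401) (tt N68995 D132383) (tt N36886 F96814))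
theorem Q37876 : ∀ i, i < 37876 → P i := stepQ 37875 Q37875 (allL N37875 (tt N35979 F96818) (tt N35982 F96819) (tt N36880 F96815) (tt N37898 (iv3 F97400)) (tt N37400 F96816) (tt N19225 (iv5 D62113)) (tt N60795 (iv6 F326343)) (tt N36887 F96817))
theorem Q37877 : ∀ i, i < 37877 → P i := stepQ 37876 Q37876 (allL N37876 (tt N68996 D132385) (tt N68997 D132386) (tt N36881 F96820) (tt N68995 (iv3 F212412)) (tt N19226 F96821) (tt N68998 D132387) (tt N19225 (iv6 D62114)) (tt N68999 D132388))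
theorem Q37878 : ∀ i, i < 37878 → P i := stepQ 37877 Q37877 (allL N37877 (tt N19226 (iv1 D62116)) (tt N36884 F96822) (tt N36883 (iv2 F103858)) (tt N36987 F101907) (tt N69000 D132389) (tt N66334 (iv5 F203987)) (tt N36987 F101908) (tt N36882 F103863))
theorem Q37879 : ∀ i, i < 37879 → P i := stepQ 37878 Q37878 (allL N37878 (tt N36883 (iv1 F96827)) (tt N36882 F96828) (tt N36884 F96823) (tt N68596 (iv3 F211156)) (tt N68999 (iv4 F212419)) (tt N20867 F96824) (tt N36890 F96825) (tt N19226 (iv7 D62117)))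
theorem Q37880 : ∀ i, i < 37880 → P i := stepQ 37879 Q37879 (allL N37879 (tt N69001 D132390) (tt N69002 D132391) (tt N65820 (iv2 F343592)) (tt N19227 (iv3 D62118)) (tt N36746 F96829) (tt N66021 (iv5 F343600)) (tt N69003 D132392) (tt N36891 F96830))
theorem Q37881 : ∀ i, i < 37881 → P i := stepQ 37880 Q37880 (allL N37880 (tt N36980 F96832) (tt N37003 F96833) (tt N36896 F96831) (tt N69003 (iv3 F212433)) (tt N38742 (iv4 F98726)) (tt N69004 D132393) (tt N19227 (iv6 D62119)) (tt N37001 F162113))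
theorem Q37882 : ∀ i, i < 37882 → P i := stepQ 37881 Q37881 (allL N37881 (tt N68953 F212084) (tt N69000 (iv0 F212427)) (tt N36893 F96834) (tt N67536 (iv3 F207375)) (tt N38110 (iv4 F97393)) (tt N69005 D132394) (tt N19228 (iv6 D62120)) (tt N69006 D132395))
theorem Q37883 : ∀ i, i < 37883 → P i := stepQ 37882 Q37882 (allL N37882 (tt N36899 (iv1 F96835)) (tt N19229 (iv0 D62121)) (tt N36898 F214753) (tt N69007 D132397) (tt N69008 D132398) (tt N67779 (iv5 F212967)) (tt N69009 D132400) (tt N36897 (iv7 F214755)))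
theorem Q37884 : ∀ i, i < 37884 → P i := stepQ 37883 Q37883 (allL N37883 (tt N19229 (iv1 D62122)) (tt N36899 F96840) (tt N36897 (iv2 F214754)) (tt N69010 D132402) (tt N37348 (iv4 F96836)) (tt N67780 (iv5 F207833)) (tt N69011 D132403) (tt N36898 F214752))
theorem Q37885 : ∀ i, i < 37885 → P i := stepQ 37884 Q37884 (allL N37884 (tt N36898 (iv1 F96841)) (tt N36897 F96839) (tt N19229 (iv2 D62123)) (tt N66155 (iv3 F203523)) (tt N19238 F96837) (tt N69012 D132404) (tt N69013 D132405) (tt N36899 F96838))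
theorem Q37886 : ∀ i, i < 37886 → P i := stepQ 37885 Q37885 (allL N37885 (tt N69014 D132406) (tt N69015 D132407) (tt N69012 (iv2 F212461)) (tt N19230 F96842) (tt N58947 F171536) (tt N19229 (iv5 D62124)) (tt N69016 D132408) (tt N36900 F96843))
theorem Q37887 : ∀ i, i < 37887 → P i := stepQ 37886 Q37886 (allL N37886 (tt N69017 D132409) (tt N68903 (iv0 F347268)) (tt N69013 (iv2 F212467)) (tt N19231 F96844) (tt N19240 F96845) (tt N69018 D132411) (tt N19229 (iv6 D62125)) (tt N69019 D132412))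
theorem Q37888 : ∀ i, i < 37888 → P i := stepQ 37887 Q37887 (allL N37887 (tt N69020 D132413) (tt N69021 D132414) (tt N66158 (iv2 F203531)) (tt N69016 (iv3 F212480)) (tt N38955 (iv4 F99080)) (tt N69022 D132415) (tt N19230 (iv6 D62126)) (tt N69023 D132416))
theorem Q37889 : ∀ i, i < 37889 → P i := stepQ 37888 Q37888 (allL N37888 (tt N66161 (iv1 F203542)) (tt N19231 (iv0 D62127)) (tt N66159 F203534) (tt N69024 D132417) (tt N38745 (iv4 F163624)) (tt N69025 D132418) (tt N68893 (iv6 F211840)) (tt N36991 F163625))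
theorem Q37890 : ∀ i, i < 37890 → P i := stepQ 37889 Q37889 (allL N37889 (tt N69026 D132419) (tt N69027 D132420) (tt N66160 (iv2 F203537)) (tt N69018 (iv3 F212481)) (tt N69028 D132421) (tt N19231 (iv5 D62128)) (tt N69022 (iv6 F212485)) (tt N69029 D132422))
theorem Q37891 : ∀ i, i < 37891 → P i := stepQ 37890 Q37890 (allL N37890 (tt N36991 (iv1 F96848)) (tt N66159 F203536) (tt N66161 (iv2 F203538)) (tt N69019 (iv3 F212482)) (tt N19234 F96846) (tt N69029 (iv5 F212490)) (tt N36906 F96847) (tt N19231 (iv7 D62129)))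
theorem Q37892 : ∀ i, i < 37892 → P i := stepQ 37891 Q37891 (allL N37891 (tt N68887 (iv1 F211826)) (tt N38931 (iv0 F99034)) (tt N66162 (iv2 F203543)) (tt N42381 (iv3 F328247)) (tt N19232 (iv4 D62131)) (tt N69030 D132424) (tt N68877 (iv6 F211801)) (tt N36983 F96854))
theorem Q37893 : ∀ i, i < 37893 → P i := stepQ 37892 Q37892 (allL N37892 (tt N41569 (iv1 F104424)) (tt N19233 (iv0 D62132)) (tt N41575 (iv2 F202562)) (tt N69031 D132425) (tt N69032 D132426) (tt N69033 D132427) (tt N41295 F111410) (tt N41574 (iv7 F202560)))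
theorem Q37894 : ∀ i, i < 37894 → P i := stepQ 37893 Q37893 (allL N37893 (tt N19233 (iv1 D62133)) (tt N41569 F104423) (tt N41574 F202566) (tt N69034 D132428) (tt N69035 D132429) (tt N66174 (iv5 F203577)) (tt N32087 F175587) (tt N41575 (iv7 F202565)))
theorem Q37895 : ∀ i, i < 37895 → P i := stepQ 37894 Q37894 (allL N37894 (tt N69036 D132430) (tt N69037 D132431) (tt N57528 (iv2 F167042)) (tt N69038 D132432) (tt N19233 (iv4 D62134)) (tt N69039 D132433) (tt N19235 F96855) (tt N41573 (iv7 F104430)))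
theorem Q37896 : ∀ i, i < 37896 → P i := stepQ 37895 Q37895 (allL N37895 (tt N48221 (iv1 F316349)) (tt N48220 (iv0 F316157)) (tt N35480 (iv2 F315129)) (tt N19235 (iv3 D62135)) (tt N19247 F96856) (tt N69040 D132437) (tt N69038 (iv6 F212501)) (tt N44313 (iv7 F111596)))
theorem Q37897 : ∀ i, i < 37897 → P i := stepQ 37896 Q37896 (allL N37896 (tt N30617 F96857) (tt N30619 (iv0 F96859)) (tt N57527 (iv2 F167038)) (tt N69040 (iv3 F212504)) (tt N44252 (iv4 F111502)) (tt N19235 (iv5 D62136)) (tt N55965 (iv6 F360878)) (tt N57529 (iv7 F167045)))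
theorem Q37898 : ∀ i, i < 37898 → P i := stepQ 37897 Q37897 (allL N37897 (tt N68226 (iv1 F214127)) (tt N69041 D132440) (tt N68313 (iv2 F209542)) (tt N19236 (iv3 D62138)) (tt N38122 F97462) (tt N67821 (iv5 F207896)) (tt N66470 (iv6 F325472)) (tt N36951 (iv7 F97421)))
theorem Q37899 : ∀ i, i < 37899 → P i := stepQ 37898 Q37898 (allL N37898 (tt N66195 (iv1 F203635)) (tt N66200 F203640) (tt N36956 F97411) (tt N37875 F97400) (tt N19236 (iv4 D62139)) (tt N37874 (iv5 F97401)) (tt N69042 D132442) (tt N36952 (iv7 F97402)))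
theorem Q37900 : ∀ i, i < 37900 → P i := stepQ 37899 Q37899 (allL N37899 (tt N37019 F350883) (tt N37026 (iv0 F350884)) (tt N36958 F97413) (tt N66470 (iv3 F325471)) (tt N69042 (iv4 F212517)) (tt N69043 D132445) (tt N19236 (iv6 D62141)) (tt N37024 F348922))
theorem Q37901 : ∀ i, i < 37901 → P i := stepQ 37900 Q37900 (allL N37900 (tt N69044 D132447) (tt N68237 (iv0 F212532)) (tt N69045 D132449) (tt N19237 (iv3 D62143)) (tt N69046 D132450) (tt N47596 F318038) (tt N69047 D132451) (tt N36955 F97408))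
theorem Q37902 : ∀ i, i < 37902 → P i := stepQ 37901 Q37901 (allL N37901 (tt N66200 (iv1 F203639)) (tt N66195 F203636) (tt N36952 F97420) (tt N69048 D132452) (tt N19237 (iv4 D62144)) (tt N67523 (iv5 F207346)) (tt N69049 D132453) (tt N36956 F97409))
theorem Q37903 : ∀ i, i < 37903 → P i := stepQ 37902 Q37902 (allL N37902 (tt N68232 (iv1 F348914)) (tt N69050 D132455) (tt N36954 (iv2 F97422)) (tt N69047 (iv3 F212544)) (tt N69049 (iv4 F212552)) (tt N52502 (iv5 F325473)) (tt N19237 (iv6 D62146)) (tt N69051 D132457))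
theorem Q37904 : ∀ i, i < 37904 → P i := stepQ 37903 Q37903 (allL N37903 (tt N36961 (iv1 F96869)) (tt N36960 F96870) (tt N19239 F96866) (tt N37018 F96867) (tt N23052 F313828) (tt N19238 (iv5 D62147)) (tt N62978 (iv6 F316286)) (tt N23058 F313829))
theorem Q37905 : ∀ i, i < 37905 → P i := stepQ 37904 Q37904 (allL N37904 (tt N68974 (iv1 F350853)) (tt N37013 (iv0 F350854)) (tt N19240 F96871) (tt N37019 F96872) (tt N69013 (iv4 F212468)) (tt N66478 (iv5 F324736)) (tt N19238 (iv6 D62148)) (tt N68972 (iv7 F359746)))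
theorem Q37906 : ∀ i, i < 37906 → P i := stepQ 37905 Q37905 (allL N37905 (tt N23058 F313825) (tt N19239 (iv0 D62149)) (tt N36961 (iv2 F96877)) (tt N69052 D132464) (tt N42777 F313826) (tt N19279 F96873) (tt N63434 F318558) (tt N36960 (iv7 F96876)))
theorem Q37907 : ∀ i, i < 37907 → P i := stepQ 37906 Q37906 (allL N37906 (tt N63484 (iv1 F317291)) (tt N69053 D132475) (tt N62978 (iv2 F316284)) (tt N19241 F96885) (tt N23056 F315086) (tt N66029 (iv5 F326828)) (tt N19239 (iv6 D62152)) (tt N62976 (iv7 F317296)))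
theorem Q37908 : ∀ i, i < 37908 → P i := stepQ 37907 Q37907 (allL N37907 (tt N68972 F359747) (tt N19240 (iv0 D62153)) (tt N68974 F359748) (tt N69054 D132479) (tt N69055 D132480) (tt N69056 D132481) (tt N68967 (iv6 F359750)) (tt N37013 F359749))
theorem Q37909 : ∀ i, i < 37909 → P i := stepQ 37908 Q37908 (allL N37908 (tt N37013 F350855) (tt N68974 F350856) (tt N68972 (iv2 F359742)) (tt N19242 F96887) (tt N69019 (iv4 F212483)) (tt N35775 (iv5 F324974)) (tt N35778 F323636) (tt N19240 (iv7 D62156)))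
theorem Q37910 : ∀ i, i < 37910 → P i := stepQ 37909 Q37909 (allL N37909 (tt N37028 (iv1 F96896)) (tt N37027 F96897) (tt N37030 F96892) (tt N62976 (iv3 F317295)) (tt N19504 F96893) (tt N58676 (iv5 F348340)) (tt N36967 F96894) (tt N19241 (iv7 D62160)))
theorem Q37911 : ∀ i, i < 37911 → P i := stepQ 37910 Q37910 (allL N37910 (tt N69057 D132505) (tt N68959 (iv0 F212649)) (tt N69058 D132507) (tt N19243 (iv3 D62165)) (tt N68671 (iv4 F211339)) (tt N69059 D132508) (tt N68950 (iv6 F212070)) (tt N36934 F96907))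
theorem Q37912 : ∀ i, i < 37912 → P i := stepQ 37911 Q37911 (allL N37911 (tt N40239 (iv1 F320390)) (tt N40237 (iv0 F320391)) (tt N37034 F96908) (tt N69059 (iv3 F212651)) (tt N33544 F320137) (tt N19243 (iv5 D62166)) (tt N42334 F318246) (tt N36935 F96909))
theorem Q37913 : ∀ i, i < 37913 → P i := stepQ 37912 Q37912 (allL N37912 (tt N20839 F100278) (tt N30394 (iv0 F100279)) (tt N36780 F100232) (tt N19245 (iv3 D62169)) (tt N69060 D132511) (tt N36822 (iv5 F100190)) (tt N30356 (iv6 F100158)) (tt N36779 (iv7 F100206)))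
theorem Q37914 : ∀ i, i < 37914 → P i := stepQ 37913 Q37913 (allL N37913 (tt N69061 D132513) (tt N69062 D132514) (tt N35481 (iv2 F315130)) (tt N19246 (iv3 D62171)) (tt N69038 (iv4 F212500)) (tt N40643 (iv5 F102342)) (tt N19247 F96924) (tt N41578 (iv7 F104444)))
theorem Q37915 : ∀ i, i < 37915 → P i := stepQ 37914 Q37914 (allL N37914 (tt N69063 D132522) (tt N69064 D132523) (tt N69065 D132524) (tt N19248 (iv3 D62175)) (tt N35937 F96926) (tt N69066 D132525) (tt N69067 D132526) (tt N37089 F96927))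
theorem Q37916 : ∀ i, i < 37916 → P i := stepQ 37915 Q37915 (allL N37915 (tt N37102 F96931) (tt N37101 F96932) (tt N19252 F96928) (tt N69066 (iv3 F212706)) (tt N19957 F96929) (tt N19248 (iv5 D62176)) (tt N69068 D132527) (tt N37090 F96930))
theorem Q37917 : ∀ i, i < 37917 → P i := stepQ 37916 Q37916 (allL N37916 (tt N69069 D132528) (tt N69070 D132529) (tt N19253 F96933) (tt N69067 (iv3 F212708)) (tt N19249 F96934) (tt N69071 D132530) (tt N19248 (iv6 D62177)) (tt N69072 D132531))
theorem Q37918 : ∀ i, i < 37918 → P i := stepQ 37917 Q37917 (allL N37917 (tt N19256 F96936) (tt N19249 (iv0 D62178)) (tt N19254 F202541) (tt N36786 F168016) (tt N69073 D132532) (tt N69074 D132533) (tt N19277 F96935) (tt N19255 F202542))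
theorem Q37919 : ∀ i, i < 37919 → P i := stepQ 37918 Q37918 (allL N37918 (tt N19249 (iv1 D62179)) (tt N19256 F96937) (tt N19255 F202547) (tt N56506 F202588) (tt N69075 D132534) (tt N55998 (iv5 F162248)) (tt N69033 (iv6 F212494)) (tt N19254 F202548))
theorem Q37920 : ∀ i, i < 37920 → P i := stepQ 37919 Q37919 (allL N37919 (tt N19255 (iv1 F96941)) (tt N19254 (iv0 F96942)) (tt N19256 F96938) (tt N35942 F96939) (tt N69072 (iv4 F212724)) (tt N41234 (iv5 F103699)) (tt N37093 F96940) (tt N19249 (iv7 D62180)))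
theorem Q37921 : ∀ i, i < 37921 → P i := stepQ 37920 Q37920 (allL N37920 (tt N69076 D132535) (tt N69077 D132536) (tt N69078 D132537) (tt N19250 (iv3 D62181)) (tt N30128 F96943) (tt N68909 (iv5 F211881)) (tt N68759 (iv6 F327165)) (tt N19925 F96944))
theorem Q37922 : ∀ i, i < 37922 → P i := stepQ 37921 Q37921 (allL N37921 (tt N66215 F203679) (tt N37237 F102051) (tt N37095 F96945) (tt N68759 (iv3 F327164)) (tt N19927 F96946) (tt N69079 D132539) (tt N19250 (iv6 D62182)) (tt N37037 F96947))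
theorem Q37923 : ∀ i, i < 37923 → P i := stepQ 37922 Q37922 (allL N37922 (tt N37098 (iv1 F96948)) (tt N19251 (iv0 D62183)) (tt N37097 F208626) (tt N69080 D132540) (tt N69081 D132541) (tt N68905 (iv5 F212269)) (tt N69082 D132542) (tt N37096 F208627))
theorem Q37924 : ∀ i, i < 37924 → P i := stepQ 37923 Q37923 (allL N37923 (tt N19251 (iv1 D62184)) (tt N37098 F96953) (tt N37096 F208595) (tt N69083 D132543) (tt N37153 (iv4 F96949)) (tt N68906 F212264) (tt N37039 (iv6 F325489)) (tt N37097 F208596))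
theorem Q37925 : ∀ i, i < 37925 → P i := stepQ 37924 Q37924 (allL N37924 (tt N37097 (iv1 F96954)) (tt N37096 F96952) (tt N19251 (iv2 D62185)) (tt N69065 (iv3 F212700)) (tt N19259 F96950) (tt N69084 D132545) (tt N69085 D132546) (tt N37098 F96951))
theorem Q37926 : ∀ i, i < 37926 → P i := stepQ 37925 Q37925 (allL N37925 (tt N67706 (iv1 F208676)) (tt N67709 F208672) (tt N69084 (iv2 F212767)) (tt N19252 F96955) (tt N69086 D132547) (tt N19251 (iv5 D62186)) (tt N69087 D132548) (tt N37099 F96956))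
theorem Q37927 : ∀ i, i < 37927 → P i := stepQ 37926 Q37926 (allL N37926 (tt N69088 D132549) (tt N69089 D132550) (tt N69085 (iv2 F212771)) (tt N19253 F96957) (tt N19261 F96958) (tt N69090 D132551) (tt N19251 (iv6 D62187)) (tt N69091 D132552))
theorem Q37928 : ∀ i, i < 37928 → P i := stepQ 37927 Q37927 (allL N37927 (tt N69092 D132553) (tt N69093 D132554) (tt N69068 (iv2 F212710)) (tt N69087 (iv3 F212774)) (tt N61914 (iv4 F179702)) (tt N69094 D132555) (tt N19252 (iv6 D62188)) (tt N69095 D132556))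
theorem Q37929 : ∀ i, i < 37929 → P i := stepQ 37928 Q37928 (allL N37928 (tt N69072 (iv1 F212727)) (tt N19253 (iv0 D62189)) (tt N69069 F212714) (tt N69096 D132557) (tt N56676 F164579) (tt N69097 D132558) (tt N66170 F203565) (tt N69070 (iv7 F212718)))
theorem Q37930 : ∀ i, i < 37930 → P i := stepQ 37929 Q37929 (allL N37929 (tt N19253 (iv1 D62190)) (tt N69072 F212726) (tt N69070 (iv2 F212720)) (tt N69098 D132559) (tt N61671 (iv4 F179219)) (tt N69099 D132560) (tt N69100 D132561) (tt N69069 F212715))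
theorem Q37931 : ∀ i, i < 37931 → P i := stepQ 37930 Q37930 (allL N37930 (tt N67533 (iv1 F207370)) (tt N69101 D132562) (tt N69071 (iv2 F212721)) (tt N69090 (iv3 F212775)) (tt N69102 D132563) (tt N19253 (iv5 D62191)) (tt N69094 (iv6 F212779)) (tt N69103 D132564))
theorem Q37932 : ∀ i, i < 37932 → P i := stepQ 37931 Q37931 (allL N37931 (tt N69070 (iv1 F212717)) (tt N69069 F212716) (tt N69072 (iv2 F212723)) (tt N69091 (iv3 F212776)) (tt N19256 F96959) (tt N69103 (iv5 F212783)) (tt N37107 F96960) (tt N19253 (iv7 D62192)))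
theorem Q37933 : ∀ i, i < 37933 → P i := stepQ 37932 Q37932 (allL N37932 (tt N56507 F203327) (tt N35929 (iv0 F168315)) (tt N56505 F202585) (tt N19254 (iv3 D62194)) (tt N38969 F99107) (tt N69104 D132565) (tt N36809 F173180) (tt N56506 (iv7 F202587)))
theorem Q37934 : ∀ i, i < 37934 → P i := stepQ 37933 Q37933 (allL N37933 (tt N69105 D132566) (tt N39246 (iv0 F203328)) (tt N69073 (iv2 F212728)) (tt N69106 D132567) (tt N19254 (iv4 D62195)) (tt N69107 D132568) (tt N66175 (iv6 F203582)) (tt N69075 (iv7 F212739)))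
theorem Q37935 : ∀ i, i < 37935 → P i := stepQ 37934 Q37934 (allL N37934 (tt N66334 F203988) (tt N55941 (iv0 F162201)) (tt N69074 (iv2 F212732)) (tt N69104 (iv3 F212785)) (tt N69108 D132569) (tt N19254 (iv5 D62196)) (tt N35760 F96962) (tt N55998 F202549))
theorem Q37936 : ∀ i, i < 37936 → P i := stepQ 37935 Q37935 (allL N37935 (tt N30696 F202543) (tt N36788 F202544) (tt N36787 F202545) (tt N19255 (iv3 D62198)) (tt N64277 (iv4 F327851)) (tt N69109 D132571) (tt N69110 D132572) (tt N36786 F202546))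
theorem Q37937 : ∀ i, i < 37937 → P i := stepQ 37936 Q37936 (allL N37936 (tt N39246 F162070) (tt N69105 F212788) (tt N69075 (iv2 F212738)) (tt N69111 D132573) (tt N19255 (iv4 D62199)) (tt N69112 D132574) (tt N69113 D132575) (tt N69073 (iv7 F212730)))
theorem Q37938 : ∀ i, i < 37938 → P i := stepQ 37937 Q37937 (allL N37937 (tt N55941 F170837) (tt N66334 (iv0 F203986)) (tt N55998 F202550) (tt N69109 (iv3 F212797)) (tt N69114 D132576) (tt N19255 (iv5 D62200)) (tt N30633 (iv6 F96964)) (tt N69074 (iv7 F212735)))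
theorem Q37939 : ∀ i, i < 37939 → P i := stepQ 37938 Q37938 (allL N37938 (tt N36182 F162115) (tt N66217 (iv0 F203689)) (tt N69033 (iv2 F212493)) (tt N69110 (iv3 F212801)) (tt N69113 (iv4 F212802)) (tt N41575 F104434) (tt N19255 (iv6 D62201)) (tt N66174 (iv7 F203578)))
theorem Q37940 : ∀ i, i < 37940 → P i := stepQ 37939 Q37939 (allL N37939 (tt N38059 F97288) (tt N69115 D132578) (tt N37116 (iv2 F207721)) (tt N66210 (iv3 F326070)) (tt N19257 (iv4 D62204)) (tt N69116 D132580) (tt N69117 D132581) (tt N37114 (iv7 F207706)))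
theorem Q37941 : ∀ i, i < 37941 → P i := stepQ 37940 Q37940 (allL N37940 (tt N69118 D132582) (tt N37239 (iv0 F337577)) (tt N37117 (iv2 F207722)) (tt N47095 (iv3 F319782)) (tt N69117 (iv4 F212811)) (tt N47092 (iv5 F320713)) (tt N19257 (iv6 D62206)) (tt N37059 F325152))
theorem Q37942 : ∀ i, i < 37942 → P i := stepQ 37941 Q37941 (allL N37941 (tt N36846 F207726) (tt N36851 F207727) (tt N38869 F207714) (tt N19258 (iv3 D62208)) (tt N67962 F208708) (tt N68977 (iv5 F212279)) (tt N37060 F325147) (tt N37115 (iv7 F207719)))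
theorem Q37943 : ∀ i, i < 37943 → P i := stepQ 37942 Q37942 (allL N37942 (tt N69115 (iv1 F212805)) (tt N38059 F207725) (tt N37114 (iv2 F207724)) (tt N69119 D132587) (tt N19258 (iv4 D62209)) (tt N69120 D132588) (tt N37061 F325148) (tt N37116 F207723))
theorem Q37944 : ∀ i, i < 37944 → P i := stepQ 37943 Q37943 (allL N37943 (tt N37121 (iv1 F96970)) (tt N37120 F96971) (tt N19260 F96967) (tt N37062 F96968) (tt N38300 F185308) (tt N19259 (iv5 D62212)) (tt N38302 F185311) (tt N37118 F96969))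
theorem Q37945 : ∀ i, i < 37945 → P i := stepQ 37944 Q37944 (allL N37944 (tt N69121 D132594) (tt N69122 D132595) (tt N19261 F96972) (tt N37063 F96973) (tt N69085 (iv4 F212772)) (tt N69123 D132596) (tt N19259 (iv6 D62213)) (tt N69124 D132597))
theorem Q37946 : ∀ i, i < 37946 → P i := stepQ 37945 Q37945 (allL N37945 (tt N69124 (iv1 F212842)) (tt N19261 (iv0 D62218)) (tt N69121 (iv2 F348903)) (tt N49268 F354295) (tt N69125 D132600) (tt N69126 D132601) (tt N69127 D132602) (tt N69122 (iv7 F348902)))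
theorem Q37947 : ∀ i, i < 37947 → P i := stepQ 37946 Q37946 (allL N37946 (tt N19261 (iv1 D62219)) (tt N69124 F212841) (tt N69122 (iv2 F348901)) (tt N69128 D132604) (tt N69129 D132605) (tt N69130 D132606) (tt N69131 D132607) (tt N69121 (iv7 F348904)))
theorem Q37948 : ∀ i, i < 37948 → P i := stepQ 37947 Q37947 (allL N37947 (tt N50757 (iv1 F348930)) (tt N69132 D132609) (tt N69123 (iv2 F212835)) (tt N19265 F96979) (tt N52466 (iv4 F348931)) (tt N19261 (iv5 D62220)) (tt N58889 (iv6 F327270)) (tt N32014 F326515))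
theorem Q37949 : ∀ i, i < 37949 → P i := stepQ 37948 Q37948 (allL N37948 (tt N69122 (iv1 F212834)) (tt N69121 F212840) (tt N69124 (iv2 F212837)) (tt N19266 F96980) (tt N69091 (iv4 F212777)) (tt N32014 F326082) (tt N32017 F326083) (tt N19261 (iv7 D62221)))
theorem Q37950 : ∀ i, i < 37950 → P i := stepQ 37949 Q37949 (allL N37949 (tt N41607 F314985) (tt N41703 (iv0 F315686)) (tt N37074 F96983) (tt N58889 (iv3 F327268)) (tt N41854 F314986) (tt N19262 (iv5 D62224)) (tt N19265 F96984) (tt N41701 (iv7 F316740)))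
theorem Q37951 : ∀ i, i < 37951 → P i := stepQ 37950 Q37950 (allL N37950 (tt N34610 F305922) (tt N34721 F305923) (tt N34719 F306864) (tt N47070 (iv3 F308934)) (tt N19489 F96986) (tt N41701 F319100) (tt N25297 F319402) (tt N19262 (iv7 D62225)))
theorem Q37952 : ∀ i, i < 37952 → P i := stepQ 37951 Q37951 (allL N37951 (tt N62602 (iv1 F319976)) (tt N66755 (iv0 F319978)) (tt N37076 F96993) (tt N57404 (iv3 F321543)) (tt N44927 F318748) (tt N19263 (iv5 D62227)) (tt N24019 (iv6 F320877)) (tt N37077 F96994))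
theorem Q37953 : ∀ i, i < 37953 → P i := stepQ 37952 Q37952 (allL N37952 (tt N19631 F341747) (tt N49269 F341748) (tt N66259 (iv2 F324673)) (tt N19264 (iv3 D62228)) (tt N69133 D132626) (tt N63041 (iv5 F320874)) (tt N66256 (iv6 F323652)) (tt N37075 F96995))
theorem Q37954 : ∀ i, i < 37954 → P i := stepQ 37953 Q37953 (allL N37953 (tt N19265 (iv1 D62231)) (tt N37080 F97008) (tt N37078 (iv2 F97011)) (tt N69134 D132631) (tt N29818 F313132) (tt N37342 F97010) (tt N48129 (iv6 F315526)) (tt N36637 F313133))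
theorem Q37955 : ∀ i, i < 37955 → P i := stepQ 37954 Q37954 (allL N37954 (tt N46103 F312459) (tt N34253 F312460) (tt N37079 F97012) (tt N43815 (iv3 F314909)) (tt N19265 (iv4 D62232)) (tt N40042 (iv5 F313399)) (tt N41854 (iv6 F313400)) (tt N69135 D132636))
theorem Q37956 : ∀ i, i < 37956 → P i := stepQ 37955 Q37955 (allL N37955 (tt N37078 (iv1 F97015)) (tt N36637 F313659) (tt N37080 F97013) (tt N32014 (iv3 F325709)) (tt N69135 (iv4 F212907)) (tt N19266 F97014) (tt N32011 F324582) (tt N19265 (iv7 D62233)))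
theorem Q37957 : ∀ i, i < 37957 → P i := stepQ 37956 Q37956 (allL N37956 (tt N36834 F168412) (tt N36708 (iv0 F168314)) (tt N36803 (iv2 F168148)) (tt N69136 D132638) (tt N19267 (iv4 D62237)) (tt N69137 D132639) (tt N37131 F97024) (tt N36805 (iv7 F168084)))
theorem Q37958 : ∀ i, i < 37958 → P i := stepQ 37957 Q37957 (allL N37957 (tt N57207 (iv1 F168145)) (tt N56010 F168133) (tt N36804 (iv2 F168130)) (tt N19269 F97026) (tt N69138 D132640) (tt N19267 (iv5 D62238)) (tt N35766 F97027) (tt N36806 (iv7 F168086)))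
theorem Q37959 : ∀ i, i < 37959 → P i := stepQ 37958 Q37958 (allL N37958 (tt N37194 F341752) (tt N37176 F341753) (tt N37192 F337773) (tt N19268 (iv3 D62239)) (tt N69136 (iv4 F212913)) (tt N69139 D132644) (tt N37132 F97029) (tt N37086 F97030))
theorem Q37960 : ∀ i, i < 37960 → P i := stepQ 37959 Q37959 (allL N37959 (tt N41599 (iv1 F321652)) (tt N68952 (iv0 F212074)) (tt N37084 F97031) (tt N69139 (iv3 F212928)) (tt N44884 F320207) (tt N19268 (iv5 D62240)) (tt N23974 (iv6 F321879)) (tt N37087 F97032))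
theorem Q37961 : ∀ i, i < 37961 → P i := stepQ 37960 Q37960 (allL N37960 (tt N22802 F311299) (tt N20588 F97036) (tt N37085 F97033) (tt N69140 D132647) (tt N19269 (iv4 D62241)) (tt N40211 (iv5 F101359)) (tt N35767 F97034) (tt N20761 (iv7 F101306)))
theorem Q37962 : ∀ i, i < 37962 → P i := stepQ 37961 Q37961 (allL N37961 (tt N19315 (iv1 F338384)) (tt N69141 D132649) (tt N69142 D132650) (tt N19270 (iv3 D62247)) (tt N68728 (iv4 F211450)) (tt N69143 D132651) (tt N69144 D132652) (tt N37083 F97047))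
theorem Q37963 : ∀ i, i < 37963 → P i := stepQ 37962 Q37962 (allL N37962 (tt N68952 (iv1 F212075)) (tt N41599 (iv0 F321651)) (tt N37087 F97048) (tt N69143 (iv3 F212942)) (tt N34559 F320191) (tt N19270 (iv5 D62248)) (tt N34558 (iv6 F321869)) (tt N37084 F97049))
theorem Q37964 : ∀ i, i < 37964 → P i := stepQ 37963 Q37963 (allL N37963 (tt N33334 (iv1 F97055)) (tt N33337 (iv0 F97054)) (tt N37088 F97050) (tt N69144 (iv3 F212944)) (tt N19271 F97051) (tt N35446 F322391) (tt N19270 (iv6 D62249)) (tt N37130 F97052))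
theorem Q37965 : ∀ i, i < 37965 → P i := stepQ 37964 Q37964 (allL N37964 (tt N37237 F102048) (tt N66215 (iv0 F203678)) (tt N37037 F97056) (tt N39004 (iv3 F99140)) (tt N19785 F97057) (tt N69145 D132655) (tt N19272 (iv6 D62250)) (tt N37095 F97058))
theorem Q37966 : ∀ i, i < 37966 → P i := stepQ 37965 Q37965 (allL N37965 (tt N37040 (iv1 F97059)) (tt N19273 (iv0 D62251)) (tt N37039 F208435) (tt N69146 D132656) (tt N37196 (iv4 F97060)) (tt N69014 (iv5 F212470)) (tt N37096 F326346) (tt N37038 F208436))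
theorem Q37967 : ∀ i, i < 37967 → P i := stepQ 37966 Q37966 (allL N37966 (tt N19273 (iv1 D62252)) (tt N37040 F97065) (tt N37038 F208433) (tt N69147 D132658) (tt N23001 F317690) (tt N69015 (iv5 F212476)) (tt N69148 D132659) (tt N37039 F208434))
theorem Q37968 : ∀ i, i < 37968 → P i := stepQ 37967 Q37967 (allL N37967 (tt N37039 (iv1 F97066)) (tt N37038 F97064) (tt N19273 (iv2 D62253)) (tt N66165 (iv3 F203547)) (tt N19281 F97062) (tt N69149 D132660) (tt N67567 (iv6 F326007)) (tt N37040 F97063))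
theorem Q37969 : ∀ i, i < 37969 → P i := stepQ 37968 Q37968 (allL N37968 (tt N67541 (iv1 F207830)) (tt N67544 (iv0 F207383)) (tt N69149 (iv2 F212963)) (tt N19274 F97067) (tt N69150 D132662) (tt N19273 (iv5 D62254)) (tt N69151 D132663) (tt N37041 F97068))
theorem Q37970 : ∀ i, i < 37970 → P i := stepQ 37969 Q37969 (allL N37969 (tt N67565 (iv1 F334316)) (tt N67564 (iv0 F334314)) (tt N67567 (iv2 F326005)) (tt N19275 F97069) (tt N19283 F97070) (tt N66090 (iv5 F326011)) (tt N19273 (iv6 D62255)) (tt N66089 (iv7 F345887)))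
theorem Q37971 : ∀ i, i < 37971 → P i := stepQ 37970 Q37970 (allL N37970 (tt N69152 D132668) (tt N68897 (iv0 F347625)) (tt N66168 (iv2 F203555)) (tt N69151 (iv3 F212983)) (tt N38968 (iv4 F99100)) (tt N69153 D132670) (tt N19274 (iv6 D62256)) (tt N69154 D132671))
theorem Q37972 : ∀ i, i < 37972 → P i := stepQ 37971 Q37971 (allL N37971 (tt N66172 (iv1 F203571)) (tt N19275 (iv0 D62257)) (tt N66169 F203558) (tt N69155 D132672) (tt N38778 F168170) (tt N68922 (iv5 F211895)) (tt N69156 D132673) (tt N66170 (iv7 F203562)))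
theorem Q37973 : ∀ i, i < 37973 → P i := stepQ 37972 Q37972 (allL N37972 (tt N19275 (iv1 D62258)) (tt N66172 F203570) (tt N66170 F203564) (tt N69021 (iv3 F384119)) (tt N38779 (iv4 F168155)) (tt N68923 (iv5 F211896)) (tt N69069 (iv6 F212713)) (tt N66169 F203559))
theorem Q37974 : ∀ i, i < 37974 → P i := stepQ 37973 Q37973 (allL N37973 (tt N69157 D132675) (tt N69158 D132676) (tt N66171 (iv2 F203566)) (tt N66090 (iv3 F326010)) (tt N69159 D132677) (tt N19275 (iv5 D62259)) (tt N69153 (iv6 F212988)) (tt N66085 (iv7 F345891)))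
theorem Q37975 : ∀ i, i < 37975 → P i := stepQ 37974 Q37974 (allL N37974 (tt N66170 (iv1 F203561)) (tt N66169 F203560) (tt N66172 (iv2 F203567)) (tt N66089 (iv3 F345884)) (tt N19278 F97071) (tt N66085 (iv5 F345890)) (tt N37048 F97072) (tt N19275 (iv7 D62260)))
theorem Q37976 : ∀ i, i < 37976 → P i := stepQ 37975 Q37975 (allL N37975 (tt N36810 F175201) (tt N35923 (iv0 F179348)) (tt N36808 F202490) (tt N19276 (iv3 D62262)) (tt N61729 (iv4 F179346)) (tt N35779 F97075) (tt N32530 F328273) (tt N36809 F202487))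
theorem Q37977 : ∀ i, i < 37977 → P i := stepQ 37976 Q37976 (allL N37976 (tt N66190 (iv1 F203628)) (tt N35948 F179351) (tt N66173 (iv2 F203572)) (tt N69160 D132680) (tt N19276 (iv4 D62263)) (tt N69161 D132681) (tt N69162 D132682) (tt N66175 (iv7 F203583)))
theorem Q37978 : ∀ i, i < 37978 → P i := stepQ 37977 Q37977 (allL N37977 (tt N66217 F203691) (tt N36182 (iv0 F162047)) (tt N66174 (iv2 F203576)) (tt N32530 F328267) (tt N69162 (iv4 F213008)) (tt N41574 (iv5 F104431)) (tt N19276 (iv6 D62264)) (tt N69033 (iv7 F212495)))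
theorem Q37979 : ∀ i, i < 37979 → P i := stepQ 37978 Q37978 (allL N37978 (tt N31390 (iv1 F168011)) (tt N56522 (iv0 F168007)) (tt N56521 (iv2 F202510)) (tt N19277 (iv3 D62266)) (tt N38518 F168008) (tt N35782 F97078) (tt N36786 (iv6 F168015)) (tt N56520 (iv7 F202511)))
theorem Q37980 : ∀ i, i < 37980 → P i := stepQ 37979 Q37979 (allL N37979 (tt N35948 (iv1 F168006)) (tt N66190 F203627) (tt N66175 (iv2 F203581)) (tt N69163 D132683) (tt N19277 (iv4 D62267)) (tt N69164 D132684) (tt N69073 (iv6 F212729)) (tt N66173 (iv7 F203573)))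
theorem Q37981 : ∀ i, i < 37981 → P i := stepQ 37980 Q37980 (allL N37980 (tt N38865 (iv1 F207246)) (tt N38886 (iv0 F207245)) (tt N38885 F98966) (tt N19279 (iv3 D62268)) (tt N38005 F97178) (tt N69052 (iv5 F212575)) (tt N37113 (iv6 F323884)) (tt N37057 F97079))
theorem Q37982 : ∀ i, i < 37982 → P i := stepQ 37981 Q37981 (allL N37981 (tt N68780 (iv1 F211615)) (tt N19628 F211562) (tt N68778 F211559) (tt N19280 (iv3 D62270)) (tt N38043 (iv4 F97275)) (tt N24488 F318552) (tt N69165 D132690) (tt N37060 F97081))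
theorem Q37983 : ∀ i, i < 37983 → P i := stepQ 37982 Q37982 (allL N37982 (tt N66198 (iv1 F208391)) (tt N66202 F203645) (tt N37058 F97082) (tt N66176 (iv3 F203586)) (tt N19280 (iv4 D62271)) (tt N66191 (iv5 F203631)) (tt N69166 D132691) (tt N37061 F97083))
theorem Q37984 : ∀ i, i < 37984 → P i := stepQ 37983 Q37983 (allL N37983 (tt N37239 F337578) (tt N69118 (iv0 F326066)) (tt N37059 F97084) (tt N69165 (iv3 F213017)) (tt N69166 (iv4 F213019)) (tt N47947 (iv5 F320709)) (tt N19280 (iv6 D62272)) (tt N37117 (iv7 F326064)))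
theorem Q37985 : ∀ i, i < 37985 → P i := stepQ 37984 Q37984 (allL N37984 (tt N37065 (iv1 F97088)) (tt N37064 F97089) (tt N19282 F97085) (tt N37118 F97086) (tt N46139 F311149) (tt N19281 (iv5 D62273)) (tt N48016 (iv6 F313468)) (tt N37062 F97087))
theorem Q37986 : ∀ i, i < 37986 → P i := stepQ 37985 Q37985 (allL N37985 (tt N69167 D132698) (tt N69127 (iv0 F348895)) (tt N19283 F97090) (tt N37119 F97091) (tt N67567 (iv4 F326006)) (tt N23956 F325033) (tt N19281 (iv6 D62274)) (tt N67566 (iv7 F334324)))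
theorem Q37987 : ∀ i, i < 37987 → P i := stepQ 37986 Q37986 (allL N37986 (tt N47953 (iv1 F318019)) (tt N48014 (iv0 F318020)) (tt N48016 F315775) (tt N19284 F97095) (tt N47958 F315776) (tt N23941 (iv5 F321399)) (tt N19282 (iv6 D62277)) (tt N47987 F315777))
theorem Q37988 : ∀ i, i < 37988 → P i := stepQ 37987 Q37987 (allL N37987 (tt N67566 (iv1 F334319)) (tt N19283 (iv0 D62278)) (tt N69167 (iv2 F325950)) (tt N69168 D132711) (tt N67894 (iv4 F334311)) (tt N34621 (iv5 F326013)) (tt N69169 D132714) (tt N69127 (iv7 F348899)))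
theorem Q37989 : ∀ i, i < 37989 → P i := stepQ 37988 Q37988 (allL N37988 (tt N19283 (iv1 D62279)) (tt N67566 (iv0 F334318)) (tt N69127 (iv2 F348897)) (tt N69170 D132716) (tt N67891 (iv4 F334312)) (tt N34622 (iv5 F326015)) (tt N69121 (iv6 F348905)) (tt N69167 (iv7 F325951)))
theorem Q37990 : ∀ i, i < 37990 → P i := stepQ 37989 Q37989 (allL N37989 (tt N69127 (iv1 F348896)) (tt N69167 F213040) (tt N67566 (iv2 F334320)) (tt N19287 F97097) (tt N66089 (iv4 F345885)) (tt N23785 F323625) (tt N37069 F97098) (tt N19283 (iv7 D62281)))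
theorem Q37991 : ∀ i, i < 37991 → P i := stepQ 37990 Q37990 (allL N37990 (tt N38884 (iv1 F348616)) (tt N38897 (iv0 F348617)) (tt N38895 F339525) (tt N19286 (iv3 D62288)) (tt N52922 (iv4 F324214)) (tt N34620 F322722) (tt N37075 F97115) (tt N37126 F97116))
theorem Q37992 : ∀ i, i < 37992 → P i := stepQ 37991 Q37991 (allL N37991 (tt N69171 D132739) (tt N19320 (iv0 F338366)) (tt N69172 D132741) (tt N19288 (iv3 D62296)) (tt N68745 (iv4 F211498)) (tt N23946 F322724) (tt N69173 D132743) (tt N37132 F97133))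
theorem Q37993 : ∀ i, i < 37993 → P i := stepQ 37992 Q37992 (allL N37992 (tt N33337 (iv1 F97143)) (tt N33334 (iv0 F97142)) (tt N37130 F97138) (tt N69173 (iv3 F213117)) (tt N19289 F97139) (tt N36213 F321552) (tt N19288 (iv6 D62298)) (tt N37088 F97140))
theorem Q37994 : ∀ i, i < 37994 → P i := stepQ 37993 Q37993 (allL N37993 (tt N36711 (iv1 F164029)) (tt N36842 (iv0 F164024)) (tt N36823 (iv2 F100239)) (tt N69174 D132745) (tt N19290 (iv4 D62302)) (tt N61574 (iv5 F342964)) (tt N37081 F97152) (tt N36821 (iv7 F100188)))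
theorem Q37995 : ∀ i, i < 37995 → P i := stepQ 37994 Q37994 (allL N37994 (tt N37195 (iv1 F334293)) (tt N37207 F334286) (tt N37205 F333900) (tt N19291 (iv3 D62303)) (tt N69174 (iv4 F213122)) (tt N23949 F322726) (tt N37083 F97154) (tt N37129 F97155))
theorem Q37996 : ∀ i, i < 37996 → P i := stepQ 37995 Q37995 (allL N37995 (tt N19317 F208599) (tt N69175 D132752) (tt N69081 (iv2 F212756)) (tt N19292 (iv3 D62306)) (tt N37097 F97161) (tt N69176 D132753) (tt N69177 D132754) (tt N37153 F208600))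
theorem Q37997 : ∀ i, i < 37997 → P i := stepQ 37996 Q37996 (allL N37996 (tt N38887 F98970) (tt N69178 D132755) (tt N37157 F208602) (tt N69179 D132756) (tt N19292 (iv4 D62307)) (tt N69180 D132757) (tt N69181 D132758) (tt N37154 F208603))
theorem Q37998 : ∀ i, i < 37998 → P i := stepQ 37997 Q37997 (allL N37997 (tt N23008 F314206) (tt N19327 F208618) (tt N28000 F319781) (tt N69176 (iv3 F213187)) (tt N69182 D132759) (tt N19292 (iv5 D62308)) (tt N22980 (iv6 F321678)) (tt N37155 F208605))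
theorem Q37999 : ∀ i, i < 37999 → P i := stepQ 37998 Q37998 (allL N37998 (tt N69183 D132761) (tt N37236 (iv0 F321679)) (tt N37158 F208606) (tt N69177 (iv3 F213190)) (tt N69181 (iv4 F213209)) (tt N23006 (iv5 F321683)) (tt N19292 (iv6 D62309)) (tt N23005 (iv7 F321684)))
theorem Q38000 : ∀ i, i < 38000 → P i := stepQ 37999 Q37999 (allL N37999 (tt N37178 F208624) (tt N37182 F208625) (tt N37177 F208610) (tt N19293 (iv3 D62311)) (tt N69184 D132765) (tt N69185 D132766) (tt N37133 (iv6 F324701)) (tt N37156 F208611))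
theorem Q38001 : ∀ i, i < 38001 → P i := stepQ 38000 Q38000 (allL N38000 (tt N69178 (iv1 F213192)) (tt N38887 F208623) (tt N37154 F208612) (tt N38988 (iv3 F99132)) (tt N19293 (iv4 D62312)) (tt N69186 D132768) (tt N24832 (iv6 F324703)) (tt N37157 F208613))
theorem Q38002 : ∀ i, i < 38002 → P i := stepQ 38001 Q38001 (allL N38001 (tt N19327 F98859) (tt N23008 F314207) (tt N37155 F208614) (tt N69185 (iv3 F213225)) (tt N69187 D132770) (tt N19293 (iv5 D62313)) (tt N69188 D132771) (tt N28000 (iv7 F319363)))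
theorem Q38003 : ∀ i, i < 38003 → P i := stepQ 38002 Q38002 (allL N38002 (tt N37162 F97165) (tt N37161 F97167) (tt N19295 F97163) (tt N38965 (iv3 F99096)) (tt N19294 (iv4 D62315)) (tt N68307 F209525) (tt N69189 D132776) (tt N37159 F97164))
theorem Q38004 : ∀ i, i < 38004 → P i := stepQ 38003 Q38003 (allL N38003 (tt N69190 D132779) (tt N69191 D132780) (tt N19297 F97173) (tt N37135 F97174) (tt N69189 (iv4 F213248)) (tt N47499 F319565) (tt N19294 (iv6 D62317)) (tt N54752 (iv7 F321697)))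
theorem Q38005 : ∀ i, i < 38005 → P i := stepQ 38004 Q38004 (allL N38004 (tt N37159 (iv1 F97175)) (tt N19295 (iv0 D62318)) (tt N37162 (iv2 F97180)) (tt N56174 (iv3 F332608)) (tt N67811 (iv4 F207869)) (tt N66079 (iv5 F203340)) (tt N56172 (iv6 F339455)) (tt N37161 (iv7 F97182)))
theorem Q38006 : ∀ i, i < 38006 → P i := stepQ 38005 Q38005 (allL N38005 (tt N19295 (iv1 D62319)) (tt N37159 F97176) (tt N37161 F97181) (tt N35991 (iv3 F97177)) (tt N37980 (iv4 F97178)) (tt N38837 (iv5 F98856)) (tt N37137 (iv6 F325150)) (tt N37162 F97179))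
theorem Q38007 : ∀ i, i < 38007 → P i := stepQ 38006 Q38006 (allL N38006 (tt N68308 (iv1 F209530)) (tt N38118 (iv0 F97441)) (tt N68307 F209524) (tt N19737 F97183) (tt N69192 D132785) (tt N19295 (iv5 D62320)) (tt N69193 D132786) (tt N37163 F97184))
theorem Q38008 : ∀ i, i < 38008 → P i := stepQ 38007 Q38007 (allL N38007 (tt N69194 D132787) (tt N69195 D132788) (tt N69189 (iv2 F213247)) (tt N19738 F97185) (tt N19297 F97186) (tt N69196 D132789) (tt N19295 (iv6 D62321)) (tt N69197 D132790))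
theorem Q38009 : ∀ i, i < 38009 → P i := stepQ 38008 Q38008 (allL N38008 (tt N35156 (iv1 F312599)) (tt N35058 (iv0 F314250)) (tt N34937 (iv2 F312600)) (tt N19452 F97189) (tt N19296 (iv4 D62324)) (tt N69198 D132793) (tt N47492 F310381) (tt N35157 (iv7 F312603)))
theorem Q38010 : ∀ i, i < 38010 → P i := stepQ 38009 Q38009 (allL N38009 (tt N54752 (iv1 F321694)) (tt N19297 (iv0 D62326)) (tt N69190 (iv2 F342152)) (tt N69199 D132800) (tt N69200 D132801) (tt N69201 D132802) (tt N69202 D132803) (tt N69191 (iv7 F363184)))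
theorem Q38011 : ∀ i, i < 38011 → P i := stepQ 38010 Q38010 (allL N38010 (tt N19297 (iv1 D62327)) (tt N54752 (iv0 F321693)) (tt N69191 (iv2 F363183)) (tt N69203 D132805) (tt N69204 D132806) (tt N69205 D132807) (tt N69206 D132808) (tt N69190 (iv7 F342153)))
theorem Q38012 : ∀ i, i < 38012 → P i := stepQ 38011 Q38011 (allL N38011 (tt N46786 (iv1 F336061)) (tt N69207 D132810) (tt N47499 (iv2 F317261)) (tt N19299 F97192) (tt N69208 D132811) (tt N19297 (iv5 D62328)) (tt N47493 F315055) (tt N69209 D132812))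
theorem Q38013 : ∀ i, i < 38013 → P i := stepQ 38012 Q38012 (allL N38012 (tt N69191 (iv1 F213255)) (tt N69190 F213261) (tt N54752 (iv2 F321695)) (tt N19300 F97193) (tt N69197 (iv4 F213272)) (tt N69209 (iv5 F213296)) (tt N37171 F97194) (tt N19297 (iv7 D62329)))
theorem Q38014 : ∀ i, i < 38014 → P i := stepQ 38013 Q38013 (allL N38013 (tt N41852 F314967) (tt N46255 (iv0 F317176)) (tt N37148 F97196) (tt N47493 (iv3 F312597)) (tt N21146 (iv4 F317175)) (tt N19298 (iv5 D62332)) (tt N19299 F97197) (tt N47511 F311079))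
theorem Q38015 : ∀ i, i < 38015 → P i := stepQ 38014 Q38014 (allL N38014 (tt N19299 (iv1 D62334)) (tt N37152 F97204) (tt N37150 (iv2 F97207)) (tt N69210 D132822) (tt N34253 F312464) (tt N37848 F97206) (tt N69211 D132823) (tt N37149 F97205))
theorem Q38016 : ∀ i, i < 38016 → P i := stepQ 38015 Q38015 (allL N38015 (tt N37150 (iv1 F97211)) (tt N37149 F97212) (tt N37152 F97209) (tt N69209 (iv3 F213295)) (tt N42871 F315525) (tt N19300 F97210) (tt N69212 D132827) (tt N19299 (iv7 D62336)))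
theorem Q38017 : ∀ i, i < 38017 → P i := stepQ 38016 Q38016 (allL N38016 (tt N37173 (iv1 F208440)) (tt N37197 F208439) (tt N37196 F208426) (tt N19301 (iv3 D62338)) (tt N37039 F97214) (tt N23002 F313036) (tt N37153 F324324) (tt N23001 (iv7 F315441)))
theorem Q38018 : ∀ i, i < 38018 → P i := stepQ 38017 Q38017 (allL N38017 (tt N25935 (iv1 F326529)) (tt N61748 (iv0 F208713)) (tt N24832 (iv2 F316617)) (tt N45079 (iv3 F326549)) (tt N19301 (iv4 D62339)) (tt N24559 (iv5 F317540)) (tt N37154 F324325) (tt N23013 (iv7 F316611)))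
theorem Q38019 : ∀ i, i < 38019 → P i := stepQ 38018 Q38018 (allL N38018 (tt N69213 D132840) (tt N19312 F207235) (tt N69214 D132841) (tt N19302 (iv3 D62343)) (tt N38871 (iv4 F98954)) (tt N22952 (iv5 F315463)) (tt N69215 D132843) (tt N37133 F208416))
theorem Q38020 : ∀ i, i < 38020 → P i := stepQ 38019 Q38019 (allL N38019 (tt N61748 (iv1 F208714)) (tt N25935 (iv0 F326528)) (tt N23013 (iv2 F316610)) (tt N61733 (iv3 F179369)) (tt N19302 (iv4 D62344)) (tt N24833 (iv5 F317544)) (tt N69216 D132845) (tt N24832 (iv7 F316619)))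
theorem Q38021 : ∀ i, i < 38021 → P i := stepQ 38020 Q38020 (allL N38020 (tt N37236 (iv1 F317545)) (tt N69183 F322816) (tt N23005 (iv2 F316612)) (tt N69215 (iv3 F213382)) (tt N69216 (iv4 F213386)) (tt N22953 (iv5 F317551)) (tt N19302 (iv6 D62346)) (tt N37158 F322817))
theorem Q38022 : ∀ i, i < 38022 → P i := stepQ 38021 Q38021 (allL N38021 (tt N37137 F97218) (tt N37136 F97219) (tt N19304 F97216) (tt N61725 (iv3 F179334)) (tt N19303 (iv4 D62347)) (tt N24818 (iv5 F315836)) (tt N54755 (iv6 F324733)) (tt N37134 F97217))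
theorem Q38023 : ∀ i, i < 38023 → P i := stepQ 38022 Q38022 (allL N38022 (tt N69217 D132856) (tt N69202 (iv0 F336067)) (tt N19306 F97225) (tt N37160 F97226) (tt N54755 (iv4 F324732)) (tt N69218 D132858) (tt N19303 (iv6 D62349)) (tt N54753 (iv7 F321701)))
theorem Q38024 : ∀ i, i < 38024 → P i := stepQ 38023 Q38023 (allL N38023 (tt N37134 (iv1 F97227)) (tt N19304 (iv0 D62350)) (tt N37137 (iv2 F207710)) (tt N69219 D132860) (tt N38617 (iv4 F98482)) (tt N47072 (iv5 F317554)) (tt N37161 F326067) (tt N37136 (iv7 F207712)))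
theorem Q38025 : ∀ i, i < 38025 → P i := stepQ 38024 Q38024 (allL N38024 (tt N19304 (iv1 D62351)) (tt N37134 F97228) (tt N37136 F207711) (tt N69220 D132863) (tt N27986 (iv4 F317557)) (tt N47557 (iv5 F317559)) (tt N69221 D132865) (tt N37137 F207709))
theorem Q38026 : ∀ i, i < 38026 → P i := stepQ 38025 Q38025 (allL N38025 (tt N47566 (iv1 F315832)) (tt N46441 (iv0 F315831)) (tt N24818 (iv2 F315835)) (tt N19747 F97230) (tt N24555 (iv4 F315830)) (tt N19304 (iv5 D62352)) (tt N69222 D132867) (tt N24810 (iv7 F315829)))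
theorem Q38027 : ∀ i, i < 38027 → P i := stepQ 38026 Q38026 (allL N38026 (tt N32456 (iv1 F324729)) (tt N54754 (iv0 F324730)) (tt N54755 (iv2 F324731)) (tt N19748 F97232) (tt N19306 F97233) (tt N69223 D132870) (tt N19304 (iv6 D62353)) (tt N50889 F323389))
theorem Q38028 : ∀ i, i < 38028 → P i := stepQ 38027 Q38027 (allL N38027 (tt N54753 F323386) (tt N19306 (iv0 D62358)) (tt N69217 (iv2 F333820)) (tt N69224 D132880) (tt N49272 (iv4 F324721)) (tt N69225 D132882) (tt N69226 D132883) (tt N69202 (iv7 F336073)))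
theorem Q38029 : ∀ i, i < 38029 → P i := stepQ 38028 Q38028 (allL N38028 (tt N19306 (iv1 D62359)) (tt N54753 (iv0 F321698)) (tt N69202 (iv2 F336069)) (tt N69227 D132885) (tt N49271 F333826) (tt N69228 D132887) (tt N69190 (iv6 F342150)) (tt N69217 (iv7 F333822)))
theorem Q38030 : ∀ i, i < 38030 → P i := stepQ 38029 Q38029 (allL N38029 (tt N69229 D132889) (tt N48303 (iv0 F334631)) (tt N69218 (iv2 F213410)) (tt N19308 F97239) (tt N49195 (iv4 F323709)) (tt N19306 (iv5 D62360)) (tt N35506 F322051) (tt N45959 (iv7 F323674)))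
theorem Q38031 : ∀ i, i < 38031 → P i := stepQ 38030 Q38030 (allL N38030 (tt N69202 (iv1 F336068)) (tt N69217 F213415) (tt N54753 (iv2 F321699)) (tt N19309 F97240) (tt N50889 (iv4 F321704)) (tt N45959 (iv5 F323673)) (tt N37141 F97241) (tt N19306 (iv7 D62361)))
theorem Q38032 : ∀ i, i < 38032 → P i := stepQ 38031 Q38031 (allL N38031 (tt N19307 (iv1 D62363)) (tt N35503 (iv0 F317241)) (tt N36367 (iv2 F317137)) (tt N66964 (iv3 F318005)) (tt N19476 F187500) (tt N23643 (iv5 F316577)) (tt N36236 F315311) (tt N23642 F315312))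
theorem Q38033 : ∀ i, i < 38033 → P i := stepQ 38032 Q38032 (allL N38032 (tt N37221 (iv1 F97259)) (tt N37220 F97260) (tt N19326 F97256) (tt N37172 F97257) (tt N68772 (iv4 F211541)) (tt N69230 D132905) (tt N19310 (iv6 D62368)) (tt N37172 F97258))
theorem Q38034 : ∀ i, i < 38034 → P i := stepQ 38033 Q38033 (allL N38033 (tt N69081 F213158) (tt N37153 F213159) (tt N69175 F213144) (tt N19311 (iv3 D62371)) (tt N67895 F213160) (tt N69231 D132906) (tt N69232 D132907) (tt N19317 F97263))
theorem Q38035 : ∀ i, i < 38035 → P i := stepQ 38034 Q38034 (allL N38034 (tt N68732 F213161) (tt N67816 F213162) (tt N19313 F97264) (tt N30124 F213163) (tt N19311 (iv4 D62372)) (tt N69233 D132908) (tt N69234 D132909) (tt N19318 F97265))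
theorem Q38036 : ∀ i, i < 38036 → P i := stepQ 38035 Q38035 (allL N38035 (tt N37142 F213164) (tt N66933 (iv0 F312939)) (tt N19314 F97266) (tt N69231 (iv3 F213494)) (tt N69235 D132910) (tt N19311 (iv5 D62373)) (tt N69236 D132911) (tt N19319 F97267))
theorem Q38037 : ∀ i, i < 38037 → P i := stepQ 38036 Q38036 (allL N38036 (tt N37083 F336585) (tt N69142 (iv0 F336586)) (tt N19315 F97268) (tt N69232 (iv3 F213502)) (tt N69234 (iv4 F213508)) (tt N69237 D132914) (tt N19311 (iv6 D62374)) (tt N69141 (iv7 F338387)))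
theorem Q38038 : ∀ i, i < 38038 → P i := stepQ 38037 Q38037 (allL N38037 (tt N19312 (iv1 D62376)) (tt N69213 F213372) (tt N37133 (iv2 F208399)) (tt N37196 (iv3 F97271)) (tt N38872 F207720) (tt N69238 D132916) (tt N37177 F325797) (tt N69214 (iv7 F213375)))
theorem Q38039 : ∀ i, i < 38039 → P i := stepQ 38038 Q38038 (allL N38038 (tt N69214 (iv1 F213376)) (tt N37133 F213145) (tt N19312 (iv2 D62377)) (tt N69175 F213146) (tt N19723 F213147) (tt N46989 (iv5 F318044)) (tt N69239 D132919) (tt N69213 (iv7 F213373)))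
theorem Q38040 : ∀ i, i < 38040 → P i := stepQ 38039 Q38039 (allL N38039 (tt N19727 F97269) (tt N19725 (iv0 F97270)) (tt N19723 F213148) (tt N69240 D132920) (tt N19312 (iv4 D62378)) (tt N69241 D132921) (tt N39831 F338404) (tt N19724 F213149))
theorem Q38041 : ∀ i, i < 38041 → P i := stepQ 38040 Q38040 (allL N38040 (tt N47237 F315282) (tt N49026 (iv0 F317513)) (tt N46989 (iv2 F318043)) (tt N19314 F97272) (tt N49462 (iv4 F317516)) (tt N19312 (iv5 D62379)) (tt N46977 F315822) (tt N53122 (iv7 F317520)))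
theorem Q38042 : ∀ i, i < 38042 → P i := stepQ 38041 Q38041 (allL N38041 (tt N69242 D132928) (tt N69243 D132929) (tt N69239 (iv2 F213536)) (tt N19315 F97273) (tt N39831 F338402) (tt N46017 F338548) (tt N19312 (iv6 D62380)) (tt N69244 D132931))
theorem Q38043 : ∀ i, i < 38043 → P i := stepQ 38042 Q38042 (allL N38042 (tt N37133 F213150) (tt N69214 F213377) (tt N69213 F213371) (tt N19316 F97274) (tt N19724 F213151) (tt N53122 (iv5 F317519)) (tt N69245 D132932) (tt N19312 (iv7 D62381)))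
theorem Q38044 : ∀ i, i < 38044 → P i := stepQ 38043 Q38043 (allL N38043 (tt N19318 (iv1 F97280)) (tt N19313 (iv0 D62382)) (tt N68732 F211461) (tt N69246 D132933) (tt N37981 F97275) (tt N69247 D132934) (tt N69248 D132935) (tt N67816 (iv7 F207878)))
theorem Q38045 : ∀ i, i < 38045 → P i := stepQ 38044 Q38044 (allL N38044 (tt N19313 (iv1 D62383)) (tt N19318 F97276) (tt N67816 (iv2 F207877)) (tt N56509 F208647) (tt N38602 F207234) (tt N69249 D132936) (tt N37184 (iv6 F326943)) (tt N68732 (iv7 F211460)))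
theorem Q38046 : ∀ i, i < 38046 → P i := stepQ 38045 Q38045 (allL N38045 (tt N68696 F211415) (tt N69250 D132938) (tt N69251 D132939) (tt N19313 (iv3 D62384)) (tt N69240 (iv4 F213538)) (tt N69252 D132940) (tt N69253 D132941) (tt N69254 D132942))
theorem Q38047 : ∀ i, i < 38047 → P i := stepQ 38046 Q38046 (allL N38046 (tt N69255 D132943) (tt N69256 D132944) (tt N69233 (iv2 F213503)) (tt N69252 (iv3 F213561)) (tt N50001 (iv4 F363616)) (tt N19313 (iv5 D62385)) (tt N68766 (iv6 F347517)) (tt N69257 D132947))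
theorem Q38048 : ∀ i, i < 38048 → P i := stepQ 38047 Q38047 (allL N38047 (tt N69258 D132948) (tt N66594 (iv0 F362097)) (tt N69234 (iv2 F213506)) (tt N69253 (iv3 F213562)) (tt N19315 F97277) (tt N68767 (iv5 F347515)) (tt N19313 (iv6 D62386)) (tt N69259 D132951))
theorem Q38049 : ∀ i, i < 38049 → P i := stepQ 38048 Q38048 (allL N38048 (tt N67816 F213154) (tt N68732 F213155) (tt N19318 F97278) (tt N69254 (iv3 F213564)) (tt N19316 F97279) (tt N69257 (iv5 F213571)) (tt N69260 D132952) (tt N19313 (iv7 D62387)))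
theorem Q38050 : ∀ i, i < 38050 → P i := stepQ 38049 Q38049 (allL N38049 (tt N19319 (iv1 F97284)) (tt N19314 (iv0 D62388)) (tt N37142 F212095) (tt N37189 F212096) (tt N65305 (iv4 F313258)) (tt N37852 F212097) (tt N67043 (iv6 F310059)) (tt N66933 (iv7 F312943)))
theorem Q38051 : ∀ i, i < 38051 → P i := stepQ 38050 Q38050 (allL N38050 (tt N69261 D132955) (tt N69262 D132956) (tt N69235 (iv2 F213509)) (tt N24460 (iv3 F315979)) (tt N19314 (iv4 D62390)) (tt N69263 D132958) (tt N69264 D132959) (tt N53125 (iv7 F315984)))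
theorem Q38052 : ∀ i, i < 38052 → P i := stepQ 38051 Q38051 (allL N38051 (tt N69265 D132961) (tt N47164 F308028) (tt N69236 (iv2 F213513)) (tt N46977 (iv3 F313372)) (tt N69264 (iv4 F213589)) (tt N69266 D132962) (tt N19314 (iv6 D62391)) (tt N46990 (iv7 F313351)))
theorem Q38053 : ∀ i, i < 38053 → P i := stepQ 38052 Q38052 (allL N38052 (tt N66933 (iv1 F312940)) (tt N37142 F213169) (tt N19319 F97282) (tt N53122 (iv3 F317518)) (tt N53125 (iv4 F315983)) (tt N19316 F97283) (tt N69267 D132964) (tt N19314 (iv7 D62392)))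
theorem Q38054 : ∀ i, i < 38054 → P i := stepQ 38053 Q38053 (allL N38053 (tt N69141 F338388) (tt N19315 (iv0 D62393)) (tt N37083 F338389) (tt N37192 (iv3 F338391)) (tt N68785 (iv4 F354354)) (tt N69268 D132968) (tt N37205 (iv6 F338392)) (tt N69142 F338390))
theorem Q38055 : ∀ i, i < 38055 → P i := stepQ 38054 Q38054 (allL N38054 (tt N66843 (iv1 F342770)) (tt N69210 (iv0 F213319)) (tt N69237 (iv2 F213520)) (tt N46017 F338547) (tt N22370 (iv4 F339661)) (tt N19315 (iv5 D62395)) (tt N69266 (iv6 F213596)) (tt N69269 D132977))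
theorem Q38056 : ∀ i, i < 38056 → P i := stepQ 38055 Q38055 (allL N38055 (tt N69142 (iv1 F336587)) (tt N37083 F336584) (tt N69141 (iv2 F338385)) (tt N69244 (iv3 F213552)) (tt N69259 (iv4 F213575)) (tt N69269 (iv5 F213607)) (tt N69171 (iv6 F338363)) (tt N19315 (iv7 D62396)))
theorem Q38057 : ∀ i, i < 38057 → P i := stepQ 38056 Q38056 (allL N38056 (tt N69172 (iv1 F338307)) (tt N37132 (iv0 F338308)) (tt N19320 F97285) (tt N69245 (iv3 F213553)) (tt N69260 (iv4 F213577)) (tt N64067 (iv5 F338317)) (tt N19316 (iv6 D62397)) (tt N69171 (iv7 F338364)))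
theorem Q38058 : ∀ i, i < 38058 → P i := stepQ 38057 Q38057 (allL N38057 (tt N69175 (iv1 F213139)) (tt N19317 (iv0 D62398)) (tt N37153 F208594) (tt N37177 F97287) (tt N37096 F97286) (tt N69270 D132982) (tt N37196 (iv6 F325488)) (tt N69081 (iv7 F212757)))
theorem Q38059 : ∀ i, i < 38059 → P i := stepQ 38058 Q38058 (allL N38058 (tt N37153 F213179) (tt N69081 F213180) (tt N19317 (iv2 D62400)) (tt N69213 (iv3 F213369)) (tt N67896 (iv4 F213178)) (tt N69271 D132984) (tt N69272 D132985) (tt N69175 (iv7 F213140)))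
theorem Q38060 : ∀ i, i < 38060 → P i := stepQ 38059 Q38059 (allL N38059 (tt N37942 (iv1 F207725)) (tt N37939 (iv0 F97288)) (tt N67896 F213176) (tt N69273 D132986) (tt N19317 (iv4 D62401)) (tt N69274 D132987) (tt N69275 D132988) (tt N67895 (iv7 F213175)))
theorem Q38061 : ∀ i, i < 38061 → P i := stepQ 38060 Q38060 (allL N38060 (tt N68410 (iv1 F210247)) (tt N68340 F210251) (tt N69271 (iv2 F213624)) (tt N19319 F97289) (tt N69276 D132989) (tt N19317 (iv5 D62402)) (tt N69277 D132990) (tt N69231 (iv7 F213495)))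
theorem Q38062 : ∀ i, i < 38062 → P i := stepQ 38061 Q38061 (allL N38061 (tt N69278 D132991) (tt N69279 D132992) (tt N69272 (iv2 F213626)) (tt N19320 F97290) (tt N69275 (iv4 F213634)) (tt N69280 D132993) (tt N19317 (iv6 D62403)) (tt N69281 D132994))
theorem Q38063 : ∀ i, i < 38063 → P i := stepQ 38062 Q38062 (allL N38062 (tt N30126 (iv1 F97292)) (tt N30128 (iv0 F97291)) (tt N30125 F213170) (tt N19318 (iv3 D62404)) (tt N69273 (iv4 F213628)) (tt N69282 D132995) (tt N69283 D132996) (tt N30124 F213171))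
theorem Q38064 : ∀ i, i < 38064 → P i := stepQ 38063 Q38063 (allL N38063 (tt N69256 (iv1 F213567)) (tt N69255 F213572) (tt N69257 (iv2 F213570)) (tt N69282 (iv3 F213648)) (tt N50002 (iv4 F361706)) (tt N19318 (iv5 D62405)) (tt N69284 D132998) (tt N69233 (iv7 F213505)))
theorem Q38065 : ∀ i, i < 38065 → P i := stepQ 38064 Q38064 (allL N38064 (tt N69285 D132999) (tt N69286 D133000) (tt N69260 (iv2 F213576)) (tt N69283 (iv3 F213651)) (tt N19320 F97293) (tt N69287 D133001) (tt N19318 (iv6 D62406)) (tt N69288 D133002))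
theorem Q38066 : ∀ i, i < 38066 → P i := stepQ 38065 Q38065 (allL N38065 (tt N69262 (iv1 F213584)) (tt N69261 F213582) (tt N53125 (iv2 F315982)) (tt N64220 (iv3 F311203)) (tt N19319 (iv4 D62407)) (tt N69289 D133004) (tt N69290 D133005) (tt N69235 (iv7 F213511)))
theorem Q38067 : ∀ i, i < 38067 → P i := stepQ 38066 Q38066 (allL N38066 (tt N45887 F341881) (tt N69291 D133007) (tt N69267 (iv2 F213601)) (tt N69277 (iv3 F213642)) (tt N69290 (iv4 F213661)) (tt N69292 D133008) (tt N19319 (iv6 D62408)) (tt N69293 D133009))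
theorem Q38068 : ∀ i, i < 38068 → P i := stepQ 38067 Q38067 (allL N38067 (tt N19320 (iv1 D62410)) (tt N69171 F338365) (tt N37132 (iv2 F338367)) (tt N37205 (iv3 F338368)) (tt N68798 (iv4 F359047)) (tt N64266 (iv5 F338369)) (tt N37192 (iv6 F338370)) (tt N69172 (iv7 F338371)))
theorem Q38069 : ∀ i, i < 38069 → P i := stepQ 38068 Q38068 (allL N38068 (tt N23952 (iv1 F338347)) (tt N64069 (iv0 F338348)) (tt N64067 (iv2 F338316)) (tt N69280 (iv3 F213645)) (tt N69294 D133022) (tt N19320 (iv5 D62411)) (tt N69292 (iv6 F213663)) (tt N64068 (iv7 F338312)))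
theorem Q38070 : ∀ i, i < 38070 → P i := stepQ 38069 Q38069 (allL N38069 (tt N37132 F338309) (tt N69172 F338310) (tt N69171 (iv2 F338359)) (tt N69281 (iv3 F213646)) (tt N69288 (iv4 F213652)) (tt N64068 (iv5 F338311)) (tt N69141 (iv6 F338386)) (tt N19320 (iv7 D62412)))
theorem Q38071 : ∀ i, i < 38071 → P i := stepQ 38070 Q38070 (allL N38070 (tt N37598 (iv1 F97300)) (tt N37597 F97301) (tt N19324 F97298) (tt N69295 D133024) (tt N19321 (iv4 D62423)) (tt N69296 D133025) (tt N69297 D133026) (tt N37599 F97299))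
theorem Q38072 : ∀ i, i < 38072 → P i := stepQ 38071 Q38071 (allL N38071 (tt N66969 (iv1 F333399)) (tt N66909 (iv0 F333400)) (tt N19325 F97302) (tt N37209 F97303) (tt N69297 (iv4 F213680)) (tt N37209 F97304) (tt N19321 (iv6 D62424)) (tt N66967 (iv7 F307694)))
theorem Q38073 : ∀ i, i < 38073 → P i := stepQ 38072 Q38072 (allL N38072 (tt N22952 F317688) (tt N69238 (iv0 F213530)) (tt N69298 D133035) (tt N19322 (iv3 D62426)) (tt N43134 F108162) (tt N68954 (iv5 F212106)) (tt N53557 (iv6 F323430)) (tt N37635 (iv7 F217664)))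
theorem Q38074 : ∀ i, i < 38074 → P i := stepQ 38073 Q38073 (allL N38073 (tt N43317 F319081) (tt N69299 D133039) (tt N37639 F217659) (tt N53561 (iv3 F323426)) (tt N19322 (iv4 D62427)) (tt N69300 D133041) (tt N53559 (iv6 F358077)) (tt N37636 (iv7 F217666)))
theorem Q38075 : ∀ i, i < 38075 → P i := stepQ 38074 Q38074 (allL N38074 (tt N69301 D133044) (tt N69302 D133045) (tt N37640 F217661) (tt N53557 (iv3 F323429)) (tt N53559 (iv4 F358076)) (tt N45479 (iv5 F336539)) (tt N19322 (iv6 D62429)) (tt N69303 D133047))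
theorem Q38076 : ∀ i, i < 38076 → P i := stepQ 38075 Q38075 (allL N38075 (tt N69270 (iv1 F213619)) (tt N69176 F213620) (tt N69304 D133049) (tt N19323 (iv3 D62431)) (tt N46597 F316291) (tt N68957 (iv5 F212110)) (tt N69305 D133051) (tt N37638 F217654))
theorem Q38077 : ∀ i, i < 38077 → P i := stepQ 38076 Q38076 (allL N38076 (tt N69299 (iv1 F213702)) (tt N43317 (iv0 F317450)) (tt N37636 (iv2 F217665)) (tt N63555 F315217) (tt N19323 (iv4 D62432)) (tt N41982 (iv5 F333676)) (tt N41985 (iv6 F333677)) (tt N37639 F217662))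
theorem Q38078 : ∀ i, i < 38078 → P i := stepQ 38077 Q38077 (allL N38077 (tt N69306 D133055) (tt N69307 D133056) (tt N37637 (iv2 F217669)) (tt N69305 (iv3 F213711)) (tt N41985 F333686) (tt N69308 D133057) (tt N19323 (iv6 D62434)) (tt N69309 D133058))
theorem Q38079 : ∀ i, i < 38079 → P i := stepQ 38078 Q38078 (allL N38078 (tt N37599 (iv1 F97307)) (tt N19324 (iv0 D62435)) (tt N37598 (iv2 F216637)) (tt N23029 (iv3 F312343)) (tt N23031 (iv4 F312344)) (tt N69310 D133062) (tt N46387 (iv6 F312346)) (tt N37597 (iv7 F216638)))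
theorem Q38080 : ∀ i, i < 38080 → P i := stepQ 38079 Q38079 (allL N38079 (tt N19324 (iv1 D62436)) (tt N37599 F97308) (tt N37597 F216639) (tt N69311 D133065) (tt N63254 (iv4 F186601)) (tt N42130 F325580) (tt N69312 D133067) (tt N37598 F216640))
theorem Q38081 : ∀ i, i < 38081 → P i := stepQ 38080 Q38080 (allL N38080 (tt N34661 F334254) (tt N69313 D133069) (tt N69296 (iv2 F213675)) (tt N37605 F97309) (tt N69314 D133070) (tt N19324 (iv5 D62437)) (tt N45710 F336597) (tt N37600 F97310))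
theorem Q38082 : ∀ i, i < 38082 → P i := stepQ 38081 Q38081 (allL N38081 (tt N46388 (iv1 F334204)) (tt N69315 D133073) (tt N69297 (iv2 F213679)) (tt N37610 F97311) (tt N19325 F97312) (tt N69316 D133074) (tt N19324 (iv6 D62438)) (tt N69317 D133075))
theorem Q38083 : ∀ i, i < 38083 → P i := stepQ 38082 Q38082 (allL N38082 (tt N66967 F309701) (tt N19325 (iv0 D62439)) (tt N66969 (iv2 F311888)) (tt N69318 D133077) (tt N69319 D133078) (tt N45697 (iv5 F311890)) (tt N69320 D133080) (tt N66909 (iv7 F311881)))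
theorem Q38084 : ∀ i, i < 38084 → P i := stepQ 38083 Q38083 (allL N38083 (tt N66909 (iv1 F333401)) (tt N66969 (iv0 F333398)) (tt N66967 (iv2 F307693)) (tt N19333 F97313) (tt N69317 (iv4 F213724)) (tt N37219 F97314) (tt N24481 F305048) (tt N19325 (iv7 D62441)))
theorem Q38085 : ∀ i, i < 38085 → P i := stepQ 38084 Q38084 (allL N38084 (tt N37172 (iv1 F97316)) (tt N19326 (iv0 D62442)) (tt N37221 F346993) (tt N36080 (iv3 F347002)) (tt N69321 D133086) (tt N69322 D133087) (tt N36078 (iv6 F347003)) (tt N37220 F346994))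
theorem Q38086 : ∀ i, i < 38086 → P i := stepQ 38085 Q38085 (allL N38085 (tt N19326 (iv1 D62443)) (tt N37172 F97317) (tt N37220 (iv2 F346985)) (tt N69323 D133090) (tt N69324 D133091) (tt N69325 D133092) (tt N69326 D133093) (tt N37221 (iv7 F346992)))
theorem Q38087 : ∀ i, i < 38087 → P i := stepQ 38086 Q38086 (allL N38086 (tt N43342 (iv1 F304854)) (tt N69327 D133095) (tt N69230 (iv2 F213488)) (tt N19335 F97318) (tt N22973 (iv4 F305917)) (tt N19326 (iv5 D62444)) (tt N22967 F303882) (tt N37222 F97320))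
theorem Q38088 : ∀ i, i < 38088 → P i := stepQ 38087 Q38087 (allL N38087 (tt N28000 F319779) (tt N37155 (iv0 F208572)) (tt N19327 (iv2 D62447)) (tt N22954 F314208) (tt N64301 (iv4 F314248)) (tt N19362 F97323) (tt N45447 F314209) (tt N23008 F314210))
theorem Q38089 : ∀ i, i < 38089 → P i := stepQ 38088 Q38088 (allL N38088 (tt N28251 (iv1 F314244)) (tt N69328 D133100) (tt N64301 (iv2 F314247)) (tt N19434 F97328) (tt N19327 (iv4 D62448)) (tt N64852 (iv5 F358061)) (tt N69329 D133102) (tt N37226 F97329))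
theorem Q38090 : ∀ i, i < 38090 → P i := stepQ 38089 Q38089 (allL N38089 (tt N69330 D133103) (tt N69331 D133104) (tt N45447 F314211) (tt N19328 F97330) (tt N69329 (iv4 F213752)) (tt N44938 (iv5 F316544)) (tt N19327 (iv6 D62449)) (tt N69332 D133106))
theorem Q38091 : ∀ i, i < 38091 → P i := stepQ 38090 Q38090 (allL N38090 (tt N37225 (iv1 F97337)) (tt N19328 (iv0 D62450)) (tt N37223 (iv2 F130948)) (tt N69333 D133107) (tt N19508 F130943) (tt N25050 (iv5 F311624)) (tt N69334 D133109) (tt N37224 F130944))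
theorem Q38092 : ∀ i, i < 38092 → P i := stepQ 38091 Q38091 (allL N38091 (tt N19328 (iv1 D62451)) (tt N37225 F97331) (tt N37224 F130945) (tt N69302 (iv3 F351966)) (tt N19509 F130946) (tt N34614 (iv5 F313457)) (tt N28140 F306583) (tt N37223 (iv7 F130950)))
theorem Q38093 : ∀ i, i < 38093 → P i := stepQ 38092 Q38092 (allL N38092 (tt N37224 (iv1 F97338)) (tt N37223 F97339) (tt N37225 F97334) (tt N69332 (iv3 F213755)) (tt N19438 F97335) (tt N23429 (iv5 F313455)) (tt N37230 F97336) (tt N19328 (iv7 D62453)))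
theorem Q38094 : ∀ i, i < 38094 → P i := stepQ 38093 Q38093 (allL N38093 (tt N24341 (iv1 F316624)) (tt N69335 D133124) (tt N23010 (iv2 F316609)) (tt N19330 F97349) (tt N24180 (iv4 F314473)) (tt N24841 (iv5 F316632)) (tt N19329 (iv6 D62458)) (tt N45451 F314221))
theorem Q38095 : ∀ i, i < 38095 → P i := stepQ 38094 Q38094 (allL N38094 (tt N37230 (iv1 F97356)) (tt N19330 (iv0 D62459)) (tt N37228 F182267) (tt N69306 (iv3 F341648)) (tt N19502 F102693) (tt N44070 (iv5 F318097)) (tt N45557 F306594) (tt N37229 (iv7 F182262)))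
theorem Q38096 : ∀ i, i < 38096 → P i := stepQ 38095 Q38095 (allL N38095 (tt N19330 (iv1 D62460)) (tt N37230 F97350) (tt N37229 (iv2 F182268)) (tt N69336 D133130) (tt N19503 F102691) (tt N34363 (iv5 F320715)) (tt N63778 (iv6 F321968)) (tt N37228 F182269))
theorem Q38097 : ∀ i, i < 38097 → P i := stepQ 38096 Q38096 (allL N38096 (tt N69337 D133133) (tt N69338 D133134) (tt N36227 (iv2 F322006)) (tt N24841 (iv3 F316631)) (tt N21849 F320265) (tt N19330 (iv5 D62461)) (tt N19426 F97352) (tt N69339 D133136))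
theorem Q38098 : ∀ i, i < 38098 → P i := stepQ 38097 Q38097 (allL N38097 (tt N37229 (iv1 F97357)) (tt N37228 F97358) (tt N37230 F97353) (tt N45451 (iv3 F311790)) (tt N19377 F97354) (tt N69339 (iv5 F213847)) (tt N37225 F97355) (tt N19330 (iv7 D62462)))
theorem Q38099 : ∀ i, i < 38099 → P i := stepQ 38098 Q38098 (allL N38098 (tt N23017 (iv1 F314803)) (tt N69188 F213855) (tt N45676 (iv2 F314373)) (tt N19331 (iv3 D62464)) (tt N28595 F311968) (tt N34630 (iv5 F313343)) (tt N69340 D133141) (tt N37233 F209004))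
theorem Q38100 : ∀ i, i < 38100 → P i := stepQ 38099 Q38099 (allL N38099 (tt N57699 F314871) (tt N36236 F314872) (tt N37231 F209005) (tt N34630 (iv3 F313342)) (tt N33462 F314873) (tt N19331 (iv5 D62466)) (tt N46209 F311070) (tt N37234 F209007))
theorem Q38101 : ∀ i, i < 38101 → P i := stepQ 38100 Q38100 (allL N38100 (tt N63778 (iv1 F321966)) (tt N69341 D133145) (tt N37232 F209008) (tt N69340 (iv3 F213863)) (tt N43166 F209011) (tt N69342 D133146) (tt N19331 (iv6 D62467)) (tt N69343 D133147))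
theorem Q38102 : ∀ i, i < 38102 → P i := stepQ 38101 Q38101 (allL N38101 (tt N23014 (iv1 F312787)) (tt N22927 (iv0 F312788)) (tt N23015 (iv2 F312789)) (tt N19332 (iv3 D62469)) (tt N24151 (iv4 F310622)) (tt N69344 D133152) (tt N24150 F310553) (tt N23016 (iv7 F312795)))
theorem Q38103 : ∀ i, i < 38103 → P i := stepQ 38102 Q38102 (allL N38102 (tt N36236 (iv1 F313341)) (tt N57699 (iv0 F314132)) (tt N37234 F209015) (tt N69344 (iv3 F213896)) (tt N33463 F312429) (tt N19332 (iv5 D62471)) (tt N45410 F311080) (tt N37231 (iv7 F209014)))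
theorem Q38104 : ∀ i, i < 38104 → P i := stepQ 38103 Q38103 (allL N38103 (tt N69345 D133154) (tt N69334 (iv0 F213769)) (tt N37235 (iv2 F209026)) (tt N24150 (iv3 F308409)) (tt N43167 F209027) (tt N24826 (iv5 F308410)) (tt N19332 (iv6 D62472)) (tt N69346 D133156))
theorem Q38105 : ∀ i, i < 38105 → P i := stepQ 38104 Q38104 (allL N38104 (tt N23005 (iv1 F310732)) (tt N37158 F322818) (tt N69183 (iv2 F321102)) (tt N19334 (iv3 D62474)) (tt N69347 D133160) (tt N28800 F308631) (tt N40656 (iv6 F102365)) (tt N37236 F98843))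
theorem Q38106 : ∀ i, i < 38106 → P i := stepQ 38105 Q38105 (allL N38105 (tt N37037 (iv1 F102070)) (tt N37095 (iv0 F102061)) (tt N66215 (iv2 F203676)) (tt N69348 D133169) (tt N19336 (iv4 D62483)) (tt N69349 D133170) (tt N69350 D133171) (tt N37237 F97373))
theorem Q38107 : ∀ i, i < 38107 → P i := stepQ 38106 Q38106 (allL N38106 (tt N58823 (iv1 F170836)) (tt N37837 (iv0 F101903)) (tt N66216 (iv2 F203680)) (tt N19338 F97374) (tt N69351 D133172) (tt N19336 (iv5 D62484)) (tt N37849 (iv6 F97376)) (tt N37238 F97375))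
theorem Q38108 : ∀ i, i < 38108 → P i := stepQ 38107 Q38107 (allL N38107 (tt N69033 F212497) (tt N66174 (iv0 F203579)) (tt N66217 (iv2 F203686)) (tt N19339 F97377) (tt N69350 (iv4 F213944)) (tt N29652 (iv5 F101894)) (tt N19336 (iv6 D62485)) (tt N36182 (iv7 F97379)))
theorem Q38109 : ∀ i, i < 38109 → P i := stepQ 38108 Q38108 (allL N38108 (tt N37059 (iv1 F350872)) (tt N37117 (iv0 F350873)) (tt N69118 (iv2 F337574)) (tt N19337 (iv3 D62487)) (tt N69348 (iv4 F213941)) (tt N69352 D133176) (tt N66481 (iv6 F324375)) (tt N37239 F97381))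
theorem Q38110 : ∀ i, i < 38110 → P i := stepQ 38109 Q38109 (allL N38109 (tt N46421 F305446) (tt N46421 F305447) (tt N23590 (iv2 F305933)) (tt N69352 (iv3 F213954)) (tt N24863 F305448) (tt N19337 (iv5 D62488)) (tt N23537 (iv6 F305932)) (tt N23590 (iv7 F305935)))
theorem Q38111 : ∀ i, i < 38111 → P i := stepQ 38110 Q38110 (allL N38110 (tt N69353 D133181) (tt N69354 D133182) (tt N38924 (iv2 F99019)) (tt N19342 F97392) (tt N37881 F97393) (tt N22617 F97394) (tt N19340 (iv6 D62491)) (tt N69355 D133183))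
theorem Q38112 : ∀ i, i < 38112 → P i := stepQ 38111 Q38111 (allL N38111 (tt N19807 F97397) (tt N19810 F97399) (tt N37395 F97423) (tt N19341 (iv3 D62492)) (tt N36895 F97395) (tt N19341 (iv5 F97398)) (tt N69356 D133184) (tt N37392 F97396))
theorem Q38113 : ∀ i, i < 38113 → P i := stepQ 38112 Q38112 (allL N38112 (tt N69357 D133185) (tt N69358 D133186) (tt N37396 F97424) (tt N69356 (iv3 F213984)) (tt N19342 F97425) (tt N49057 F335803) (tt N19341 (iv6 D62493)) (tt N32517 F328059))
theorem Q38114 : ∀ i, i < 38114 → P i := stepQ 38113 Q38113 (allL N38113 (tt N37398 (iv1 F97429)) (tt N19342 (iv0 D62494)) (tt N37343 (iv2 F102024)) (tt N37304 F102028) (tt N62872 (iv4 F326336)) (tt N56998 (iv5 F165208)) (tt N39088 (iv6 F99363)) (tt N37397 (iv7 F99961)))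
theorem Q38115 : ∀ i, i < 38115 → P i := stepQ 38114 Q38114 (allL N38114 (tt N19342 (iv1 D62495)) (tt N37398 F97426) (tt N37397 F99960) (tt N19356 F102014) (tt N50230 (iv4 F326339)) (tt N44246 (iv5 F111491)) (tt N37305 F99925) (tt N37343 (iv7 F102026)))
theorem Q38116 : ∀ i, i < 38116 → P i := stepQ 38115 Q38115 (allL N38115 (tt N37397 (iv1 F97430)) (tt N37343 (iv0 F102022)) (tt N37398 F97427) (tt N69355 (iv3 F213977)) (tt N32517 (iv4 F327590)) (tt N44163 (iv5 F110991)) (tt N19418 F97428) (tt N19342 (iv7 D62496)))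
theorem Q38117 : ∀ i, i < 38117 → P i := stepQ 38116 Q38116 (allL N38116 (tt N39076 F167315) (tt N39071 F209510) (tt N69359 D133191) (tt N19343 (iv3 D62497)) (tt N67165 (iv4 F206818)) (tt N69359 F214014) (tt N32506 F328042) (tt N37394 F97432))
theorem Q38118 : ∀ i, i < 38118 → P i := stepQ 38117 Q38117 (allL N38117 (tt N19810 F97436) (tt N19807 F97437) (tt N37392 F97433) (tt N69359 (iv3 F214010)) (tt N36892 F97434) (tt N19343 (iv5 D62498)) (tt N32511 F328043) (tt N37395 F97435))
theorem Q38119 : ∀ i, i < 38119 → P i := stepQ 38118 Q38118 (allL N38118 (tt N38006 F97441) (tt N67937 F209526) (tt N50203 (iv2 F323241)) (tt N19345 (iv3 D62500)) (tt N69360 D133195) (tt N37405 F97448) (tt N26905 (iv6 F324313)) (tt N37399 F97440))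
theorem Q38120 : ∀ i, i < 38120 → P i := stepQ 38119 Q38119 (allL N38119 (tt N19800 F97445) (tt N19619 F97446) (tt N37402 F97442) (tt N37405 (iv3 F97447)) (tt N36887 F97444) (tt N19345 (iv5 D62501)) (tt N49252 (iv6 F324312)) (tt N37400 F97443))
theorem Q38121 : ∀ i, i < 38121 → P i := stepQ 38120 Q38120 (allL N38120 (tt N62872 (iv1 F326335)) (tt N50230 (iv0 F326338)) (tt N37403 F97449) (tt N26905 F325463) (tt N56482 (iv4 F163794)) (tt N26894 F325464) (tt N19345 (iv6 D62502)) (tt N26893 (iv7 F326341)))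
theorem Q38122 : ∀ i, i < 38122 → P i := stepQ 38121 Q38121 (allL N38121 (tt N37406 (iv1 F97460)) (tt N19347 (iv0 D62506)) (tt N37405 (iv2 F97466)) (tt N55708 (iv3 F323237)) (tt N67621 (iv4 F207495)) (tt N50203 (iv5 F323242)) (tt N25925 (iv6 F323243)) (tt N37404 (iv7 F97468)))
theorem Q38123 : ∀ i, i < 38123 → P i := stepQ 38122 Q38122 (allL N38122 (tt N19347 (iv1 D62507)) (tt N37406 (iv0 F97464)) (tt N37404 F97467) (tt N37400 (iv3 F97461)) (tt N37897 (iv4 F97462)) (tt N37399 (iv5 F97465)) (tt N50229 (iv6 F324314)) (tt N37405 F97463))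
theorem Q38124 : ∀ i, i < 38124 → P i := stepQ 38123 Q38123 (allL N38123 (tt N37405 (iv1 F97473)) (tt N37404 F97472) (tt N19347 (iv2 D62508)) (tt N38952 (iv3 F99076)) (tt N19362 F97470) (tt N66078 F208651) (tt N69361 D133208) (tt N37406 F97471))
theorem Q38125 : ∀ i, i < 38125 → P i := stepQ 38124 Q38124 (allL N38124 (tt N66079 (iv1 F203341)) (tt N38837 (iv0 F98858)) (tt N66078 (iv2 F208652)) (tt N19348 F97476) (tt N69362 D133209) (tt N19347 (iv5 D62509)) (tt N69363 D133210) (tt N37407 F97477))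
theorem Q38126 : ∀ i, i < 38126 → P i := stepQ 38125 Q38125 (allL N38125 (tt N69364 D133211) (tt N69365 D133212) (tt N69361 (iv2 F214050)) (tt N19349 F97478) (tt N19363 F97479) (tt N69366 D133213) (tt N19347 (iv6 D62510)) (tt N69367 D133214))
theorem Q38127 : ∀ i, i < 38127 → P i := stepQ 38126 Q38126 (allL N38126 (tt N69368 D133215) (tt N69369 D133216) (tt N38955 (iv2 F99079)) (tt N69363 (iv3 F214053)) (tt N66158 (iv4 F203532)) (tt N69370 D133217) (tt N19348 (iv6 D62511)) (tt N69371 D133218))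
theorem Q38128 : ∀ i, i < 38128 → P i := stepQ 38127 Q38127 (allL N38127 (tt N38959 (iv1 F99088)) (tt N19349 (iv0 D62512)) (tt N38956 F170688) (tt N69372 D133219) (tt N56484 (iv4 F164105)) (tt N69373 D133220) (tt N37322 (iv6 F179242)) (tt N38957 (iv7 F170694)))
theorem Q38129 : ∀ i, i < 38129 → P i := stepQ 38128 Q38128 (allL N38128 (tt N19349 (iv1 D62513)) (tt N38959 F99086) (tt N38957 F170693) (tt N69374 D133221) (tt N56485 (iv4 F170691)) (tt N69375 D133222) (tt N69376 D133223) (tt N38956 F170692))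
theorem Q38130 : ∀ i, i < 38130 → P i := stepQ 38129 Q38129 (allL N38129 (tt N63820 (iv1 F327995)) (tt N69377 D133225) (tt N38958 (iv2 F99082)) (tt N69366 (iv3 F214054)) (tt N69378 D133226) (tt N19349 (iv5 D62514)) (tt N69370 (iv6 F214058)) (tt N69379 D133227))
theorem Q38131 : ∀ i, i < 38131 → P i := stepQ 38130 Q38130 (allL N38130 (tt N38957 (iv1 F99081)) (tt N38956 F99085) (tt N38959 (iv2 F99083)) (tt N69367 (iv3 F214055)) (tt N19352 F97480) (tt N69379 (iv5 F214066)) (tt N37412 F97481) (tt N19349 (iv7 D62515)))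
theorem Q38132 : ∀ i, i < 38132 → P i := stepQ 38131 Q38131 (allL N38131 (tt N38929 F167942) (tt N19787 F167943) (tt N38927 F164138) (tt N19350 (iv3 D62517)) (tt N66087 (iv4 F203347)) (tt N57863 F167944) (tt N37326 F97484) (tt N38928 (iv7 F163880)))
theorem Q38133 : ∀ i, i < 38133 → P i := stepQ 38132 Q38132 (allL N38132 (tt N69380 D133228) (tt N66074 F203315) (tt N38960 (iv2 F99986)) (tt N69381 D133229) (tt N19350 (iv4 D62518)) (tt N69382 D133230) (tt N37327 F97485) (tt N38961 (iv7 F99985)))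
theorem Q38134 : ∀ i, i < 38134 → P i := stepQ 38133 Q38133 (allL N38133 (tt N66074 F203314) (tt N69380 F214068) (tt N38961 (iv2 F99989)) (tt N69383 D133231) (tt N19351 (iv4 D62521)) (tt N69384 D133232) (tt N32871 F329477) (tt N38960 F99988))
theorem Q38135 : ∀ i, i < 38135 → P i := stepQ 38134 Q38134 (allL N38134 (tt N38922 (iv1 F101996)) (tt N39088 (iv0 F99362)) (tt N38962 F99966) (tt N60473 (iv3 F176483)) (tt N32871 F329476) (tt N37329 F97487) (tt N19351 (iv6 D62522)) (tt N37329 F97488))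
theorem Q38136 : ∀ i, i < 38136 → P i := stepQ 38135 Q38135 (allL N38135 (tt N38444 (iv1 F98309)) (tt N19354 (iv0 D62525)) (tt N38442 F102138) (tt N56825 F164882) (tt N35071 (iv4 F329108)) (tt N56754 (iv5 F164744)) (tt N38832 (iv6 F98849)) (tt N38443 (iv7 F102139)))
theorem Q38137 : ∀ i, i < 38137 → P i := stepQ 38136 Q38136 (allL N38136 (tt N19354 (iv1 D62526)) (tt N38444 F98308) (tt N38443 (iv2 F102141)) (tt N69385 D133240) (tt N35072 (iv4 F329109)) (tt N57820 (iv5 F167853)) (tt N37334 (iv6 F102142)) (tt N38442 F102140))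
theorem Q38138 : ∀ i, i < 38138 → P i := stepQ 38137 Q38137 (allL N38137 (tt N38443 (iv1 F98304)) (tt N38442 (iv0 F98303)) (tt N38444 (iv2 F98305)) (tt N19357 F97493) (tt N35018 F328257) (tt N20225 F97494) (tt N19428 F97495) (tt N19354 (iv7 D62527)))
theorem Q38139 : ∀ i, i < 38139 → P i := stepQ 38138 Q38138 (allL N38138 (tt N37306 F101977) (tt N19412 F101978) (tt N37304 F101979) (tt N19355 (iv3 D62528)) (tt N69386 D133242) (tt N20115 F101980) (tt N38922 (iv6 F99009)) (tt N37305 (iv7 F101999)))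
theorem Q38140 : ∀ i, i < 38140 → P i := stepQ 38139 Q38139 (allL N38139 (tt N38676 (iv1 F98615)) (tt N36785 F97501) (tt N38799 F98814) (tt N67618 (iv3 F207488)) (tt N39964 (iv4 F100932)) (tt N19359 (iv5 D62530)) (tt N69387 D133243) (tt N37331 F97500))
theorem Q38141 : ∀ i, i < 38141 → P i := stepQ 38140 Q38140 (allL N38140 (tt N68957 F213499) (tt N69388 D133244) (tt N68900 (iv2 F211854)) (tt N19360 (iv3 D62532)) (tt N36996 F97503) (tt N67950 (iv5 F208665)) (tt N69389 D133245) (tt N37421 F209630))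
theorem Q38142 : ∀ i, i < 38142 → P i := stepQ 38141 Q38141 (allL N38141 (tt N69390 D133246) (tt N69391 D133247) (tt N37426 F209636) (tt N69392 D133248) (tt N19360 (iv4 D62533)) (tt N50965 (iv5 F319151)) (tt N25948 (iv6 F319153)) (tt N37422 (iv7 F209638)))
theorem Q38143 : ∀ i, i < 38143 → P i := stepQ 38142 Q38142 (allL N38142 (tt N50234 (iv1 F319154)) (tt N50231 (iv0 F319155)) (tt N37428 F209637) (tt N69389 (iv3 F214101)) (tt N25948 (iv4 F319152)) (tt N27109 (iv5 F319158)) (tt N19360 (iv6 D62535)) (tt N26549 (iv7 F319159)))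
theorem Q38144 : ∀ i, i < 38144 → P i := stepQ 38143 Q38143 (allL N38143 (tt N69393 D133255) (tt N36119 F327895) (tt N69394 D133256) (tt N19361 (iv3 D62537)) (tt N69395 D133257) (tt N67951 (iv5 F208679)) (tt N69396 D133258) (tt N37425 F209624))
theorem Q38145 : ∀ i, i < 38145 → P i := stepQ 38144 Q38144 (allL N38144 (tt N69391 (iv1 F214105)) (tt N69390 F214104) (tt N37422 F209625) (tt N62849 (iv3 F319938)) (tt N19361 (iv4 D62538)) (tt N69397 D133260) (tt N50947 (iv6 F319944)) (tt N37426 F209626))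
theorem Q38146 : ∀ i, i < 38146 → P i := stepQ 38145 Q38145 (allL N38145 (tt N19425 F324342) (tt N60825 (iv0 F322895)) (tt N37424 F209627) (tt N69396 (iv3 F214216)) (tt N50947 (iv4 F319943)) (tt N69398 D133264) (tt N19361 (iv6 D62539)) (tt N50946 (iv7 F319949)))
theorem Q38147 : ∀ i, i < 38147 → P i := stepQ 38146 Q38146 (allL N38146 (tt N69399 D133266) (tt N69400 D133267) (tt N19363 F97505) (tt N37354 F97506) (tt N69361 (iv4 F214051)) (tt N69401 D133268) (tt N19362 (iv6 D62540)) (tt N69402 D133269))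
theorem Q38148 : ∀ i, i < 38148 → P i := stepQ 38147 Q38147 (allL N38147 (tt N69402 (iv1 F214238)) (tt N19363 (iv0 D62541)) (tt N69399 (iv2 F334649)) (tt N46346 (iv3 F324227)) (tt N69403 D133272) (tt N46345 (iv5 F324228)) (tt N37355 (iv6 F330891)) (tt N69400 (iv7 F345855)))
theorem Q38149 : ∀ i, i < 38149 → P i := stepQ 38148 Q38148 (allL N38148 (tt N19363 (iv1 D62542)) (tt N69402 F214237) (tt N69400 (iv2 F345853)) (tt N69404 D133276) (tt N69405 D133277) (tt N69406 D133278) (tt N69407 D133279) (tt N69399 (iv7 F334652)))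
theorem Q38150 : ∀ i, i < 38150 → P i := stepQ 38149 Q38149 (allL N38149 (tt N69225 (iv1 F337540)) (tt N69228 (iv0 F337545)) (tt N69401 (iv2 F214231)) (tt N19364 F97507) (tt N45866 (iv4 F320967)) (tt N19363 (iv5 D62543)) (tt N44938 F318822) (tt N46122 (iv7 F320968)))
theorem Q38151 : ∀ i, i < 38151 → P i := stepQ 38150 Q38150 (allL N38150 (tt N69400 (iv1 F214230)) (tt N69399 F214236) (tt N69402 (iv2 F214233)) (tt N19365 F97508) (tt N69367 (iv4 F214056)) (tt N46122 F322444) (tt N37431 F97509) (tt N19363 (iv7 D62544)))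
theorem Q38152 : ∀ i, i < 38152 → P i := stepQ 38151 Q38151 (allL N38151 (tt N57710 (iv1 F171522)) (tt N67232 F206966) (tt N58036 (iv2 F168721)) (tt N67649 (iv3 F207546)) (tt N19367 (iv4 D62554)) (tt N69408 D133288) (tt N69409 D133289) (tt N37359 F97532))
theorem Q38153 : ∀ i, i < 38153 → P i := stepQ 38152 Q38152 (allL N38152 (tt N38832 F164113) (tt N38836 F164114) (tt N58037 (iv2 F168724)) (tt N19368 F97533) (tt N69409 (iv4 F214253)) (tt N37362 F97534) (tt N19367 (iv6 D62555)) (tt N37362 F97535))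
theorem Q38154 : ∀ i, i < 38154 → P i := stepQ 38153 Q38153 (allL N38153 (tt N60172 F175860) (tt N37535 F97539) (tt N34408 F97536) (tt N19396 F97537) (tt N69410 D133290) (tt N19371 (iv5 D62556)) (tt N69411 D133291) (tt N34413 F97538))
theorem Q38155 : ∀ i, i < 38155 → P i := stepQ 38154 Q38154 (allL N38154 (tt N21690 (iv1 F97543)) (tt N19372 (iv0 D62557)) (tt N21001 (iv2 F97542)) (tt N29704 (iv3 F97545)) (tt N44135 (iv4 F110877)) (tt N22253 F97540) (tt N21000 F97541) (tt N21687 F97544))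
theorem Q38156 : ∀ i, i < 38156 → P i := stepQ 38155 Q38155 (allL N38155 (tt N43494 (iv1 F109067)) (tt N19374 (iv0 D62562)) (tt N24322 F310833) (tt N44535 (iv3 F241218)) (tt N24259 (iv4 F312866)) (tt N69412 D133305) (tt N24257 F310834) (tt N43493 (iv7 F241175)))
theorem Q38157 : ∀ i, i < 38157 → P i := stepQ 38156 Q38156 (allL N38156 (tt N19374 (iv1 D62563)) (tt N43494 F109066) (tt N43493 (iv2 F241174)) (tt N69413 D133308) (tt N24327 (iv4 F312867)) (tt N69414 D133310) (tt N69415 D133311) (tt N24322 F310849))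
theorem Q38158 : ∀ i, i < 38158 → P i := stepQ 38157 Q38157 (allL N38157 (tt N43493 (iv1 F109062)) (tt N24322 F310639) (tt N43494 (iv2 F109064)) (tt N19377 F97556) (tt N24196 (iv4 F312897)) (tt N41823 (iv5 F104940)) (tt N24280 F310640) (tt N19374 (iv7 D62564)))
theorem Q38159 : ∀ i, i < 38159 → P i := stepQ 38158 Q38158 (allL N38158 (tt N43126 F329019) (tt N41781 F329020) (tt N43125 (iv2 F247747)) (tt N19375 (iv3 D62566)) (tt N64397 (iv4 F332475)) (tt N69416 D133316) (tt N64395 (iv6 F305594)) (tt N37389 (iv7 F105937)))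
theorem Q38160 : ∀ i, i < 38160 → P i := stepQ 38159 Q38159 (allL N38159 (tt N63012 (iv1 F184354)) (tt N21411 (iv0 F105629)) (tt N37387 F105940) (tt N69416 (iv3 F214289)) (tt N21845 (iv4 F314933)) (tt N19375 (iv5 D62568)) (tt N40834 F313922) (tt N21465 (iv7 F105939)))
theorem Q38161 : ∀ i, i < 38161 → P i := stepQ 38160 Q38160 (allL N38160 (tt N21437 F315602) (tt N21434 F315603) (tt N37388 (iv2 F105946)) (tt N64395 (iv3 F305592)) (tt N45583 (iv4 F303935)) (tt N34346 F315604) (tt N19375 (iv6 D62569)) (tt N43155 F108212))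
theorem Q38162 : ∀ i, i < 38162 → P i := stepQ 38161 Q38161 (allL N38161 (tt N33957 (iv1 F237472)) (tt N69417 D133320) (tt N69418 D133321) (tt N19376 (iv3 D62571)) (tt N69419 D133322) (tt N63068 F184895) (tt N69420 D133323) (tt N37385 F105951))
theorem Q38163 : ∀ i, i < 38163 → P i := stepQ 38162 Q38162 (allL N38162 (tt N63780 F189524) (tt N43166 (iv0 F184906)) (tt N37391 F105952) (tt N69420 (iv3 F214306)) (tt N44106 F320675) (tt N63070 (iv5 F184904)) (tt N19376 (iv6 D62573)) (tt N69421 D133324))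
theorem Q38164 : ∀ i, i < 38164 → P i := stepQ 38163 Q38163 (allL N38163 (tt N69422 D133325) (tt N69423 D133326) (tt N37242 F97561) (tt N19571 F97562) (tt N57335 (iv4 F166245)) (tt N19562 F97563) (tt N19379 (iv6 D62574)) (tt N39537 (iv7 F100405)))
theorem Q38165 : ∀ i, i < 38165 → P i := stepQ 38164 Q38164 (allL N38164 (tt N19928 (iv1 F97566)) (tt N19380 (iv0 D62575)) (tt N20898 (iv2 F97565)) (tt N48235 (iv3 F320510)) (tt N20897 F97564) (tt N57390 (iv5 F166348)) (tt N36085 F97568) (tt N30449 F97567))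
theorem Q38166 : ∀ i, i < 38166 → P i := stepQ 38165 Q38165 (allL N38165 (tt N69424 D133328) (tt N42016 F335865) (tt N67027 (iv2 F354118)) (tt N19380 (iv3 D62576)) (tt N19388 F97569) (tt N69425 D133331) (tt N66919 (iv6 F354115)) (tt N37244 F97570))
theorem Q38167 : ∀ i, i < 38167 → P i := stepQ 38166 Q38166 (allL N38166 (tt N30439 F97574) (tt N30491 F97575) (tt N30488 F97571) (tt N69425 (iv3 F214337)) (tt N32990 F97573) (tt N19380 (iv5 D62577)) (tt N69426 D133333) (tt N30487 F97572))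
theorem Q38168 : ∀ i, i < 38168 → P i := stepQ 38167 Q38167 (allL N38167 (tt N69427 D133334) (tt N33475 (iv0 F97577)) (tt N57785 (iv2 F167728)) (tt N66919 (iv3 F354113)) (tt N19381 F97576) (tt N69428 D133335) (tt N19380 (iv6 D62578)) (tt N67021 (iv7 F332338)))
theorem Q38169 : ∀ i, i < 38169 → P i := stepQ 38168 Q38168 (allL N38168 (tt N39399 (iv1 F100107)) (tt N19381 (iv0 D62579)) (tt N39400 (iv2 F100112)) (tt N32035 F100095) (tt N57353 (iv4 F166281)) (tt N38944 F100096) (tt N39396 F100097) (tt N19981 F100098))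
theorem Q38170 : ∀ i, i < 38170 → P i := stepQ 38169 Q38169 (allL N38169 (tt N69429 D133337) (tt N69385 F214089) (tt N37300 F97578) (tt N19393 F97579) (tt N37818 (iv4 F97581)) (tt N19381 (iv5 D62580)) (tt N19382 F97580) (tt N69430 D133338))
theorem Q38171 : ∀ i, i < 38171 → P i := stepQ 38170 Q38170 (allL N38170 (tt N19981 (iv1 F97584)) (tt N39400 F100116) (tt N39399 F100109) (tt N19394 F97582) (tt N67021 (iv4 F332335)) (tt N69430 (iv5 F214368)) (tt N37248 F97583) (tt N19381 (iv7 D62581)))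
theorem Q38172 : ∀ i, i < 38172 → P i := stepQ 38171 Q38171 (allL N38171 (tt N69431 D133339) (tt N69432 D133340) (tt N69433 D133341) (tt N19383 (iv3 D62582)) (tt N44328 (iv4 F111654)) (tt N68380 (iv5 F210022)) (tt N60549 (iv6 F176567)) (tt N37249 F97585))
theorem Q38173 : ∀ i, i < 38173 → P i := stepQ 38172 Q38172 (allL N38172 (tt N30569 F97588) (tt N30568 F97589) (tt N30586 F97586) (tt N55934 (iv3 F344604)) (tt N19384 (iv4 D62583)) (tt N57572 (iv5 F167166)) (tt N55931 (iv6 F342915)) (tt N30587 F97587))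
theorem Q38174 : ∀ i, i < 38174 → P i := stepQ 38173 Q38173 (allL N38173 (tt N68332 F209564) (tt N69434 D133344) (tt N38746 (iv2 F98740)) (tt N19386 F97590) (tt N55931 (iv4 F342914)) (tt N19780 F97591) (tt N19384 (iv6 D62584)) (tt N56955 (iv7 F165117)))
theorem Q38175 : ∀ i, i < 38175 → P i := stepQ 38174 Q38174 (allL N38174 (tt N69435 D133345) (tt N69436 D133346) (tt N69437 D133347) (tt N19385 (iv3 D62585)) (tt N55934 (iv4 F344605)) (tt N68375 (iv5 F210012)) (tt N35676 F344602) (tt N37256 F97592))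
theorem Q38176 : ∀ i, i < 38176 → P i := stepQ 38175 Q38175 (allL N38175 (tt N69438 D133349) (tt N67769 (iv0 F207791)) (tt N37251 F97593) (tt N35676 (iv3 F344599)) (tt N19386 F97594) (tt N35675 F344598) (tt N19385 (iv6 D62586)) (tt N62664 (iv7 F182963)))
theorem Q38177 : ∀ i, i < 38177 → P i := stepQ 38176 Q38176 (allL N38176 (tt N37254 (iv1 F97599)) (tt N19386 (iv0 D62587)) (tt N37252 F168405) (tt N69422 F214313) (tt N68676 (iv4 F211359)) (tt N69439 D133351) (tt N60314 (iv6 F176171)) (tt N37253 F168403))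
theorem Q38178 : ∀ i, i < 38178 → P i := stepQ 38177 Q38177 (allL N38177 (tt N19386 (iv1 D62588)) (tt N37254 F97595) (tt N37253 (iv2 F168402)) (tt N38239 F168407) (tt N68677 (iv4 F211354)) (tt N56679 (iv5 F164582)) (tt N58527 (iv6 F169543)) (tt N37252 (iv7 F168404)))
theorem Q38179 : ∀ i, i < 38179 → P i := stepQ 38178 Q38178 (allL N38178 (tt N37253 (iv1 F97600)) (tt N37252 F97601) (tt N37254 F97596) (tt N56955 (iv3 F165115)) (tt N62664 (iv4 F182962)) (tt N30056 F97597) (tt N20056 F97598) (tt N19386 (iv7 D62589)))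
theorem Q38180 : ∀ i, i < 38180 → P i := stepQ 38179 Q38179 (allL N38179 (tt N69440 D133352) (tt N69441 D133353) (tt N69442 D133354) (tt N19387 (iv3 D62590)) (tt N44301 (iv4 F111562)) (tt N68386 (iv5 F210039)) (tt N65934 (iv6 F202911)) (tt N37259 F97602))
theorem Q38181 : ∀ i, i < 38181 → P i := stepQ 38180 Q38180 (allL N38180 (tt N37266 (iv1 F97603)) (tt N19388 (iv0 D62591)) (tt N37265 (iv2 F320425)) (tt N35437 F316691) (tt N35441 (iv4 F319064)) (tt N69443 D133357) (tt N69444 D133358) (tt N37264 (iv7 F320426)))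
theorem Q38182 : ∀ i, i < 38182 → P i := stepQ 38181 Q38181 (allL N38181 (tt N19388 (iv1 D62592)) (tt N37266 F97606) (tt N37264 F322126) (tt N69445 D133360) (tt N48063 (iv4 F323801)) (tt N69446 D133362) (tt N69447 D133363) (tt N37265 F322127))
theorem Q38183 : ∀ i, i < 38183 → P i := stepQ 38182 Q38182 (allL N38182 (tt N37265 (iv1 F97607)) (tt N37264 F97605) (tt N19388 (iv2 D62593)) (tt N54516 (iv3 F329299)) (tt N67027 (iv4 F354119)) (tt N69448 D133364) (tt N67025 (iv6 F358454)) (tt N37266 F97604))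
theorem Q38184 : ∀ i, i < 38184 → P i := stepQ 38183 Q38183 (allL N38183 (tt N69449 D133366) (tt N69450 D133367) (tt N69448 (iv2 F214414)) (tt N19389 F97608) (tt N69451 D133368) (tt N19388 (iv5 D62594)) (tt N69452 D133369) (tt N37267 F97609))
theorem Q38185 : ∀ i, i < 38185 → P i := stepQ 38184 Q38184 (allL N38184 (tt N69453 D133370) (tt N69454 D133371) (tt N67025 (iv2 F358453)) (tt N19390 F97610) (tt N66919 (iv4 F354114)) (tt N69455 D133372) (tt N19388 (iv6 D62595)) (tt N67022 (iv7 F354130)))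
theorem Q38186 : ∀ i, i < 38186 → P i := stepQ 38185 Q38185 (allL N38185 (tt N69456 D133374) (tt N69457 D133375) (tt N37296 F97611) (tt N69452 (iv3 F214424)) (tt N32124 F97612) (tt N69458 D133376) (tt N19389 (iv6 D62596)) (tt N69459 D133377))
theorem Q38187 : ∀ i, i < 38187 → P i := stepQ 38186 Q38186 (allL N38186 (tt N41127 (iv1 F103405)) (tt N19390 (iv0 D62597)) (tt N41129 (iv2 F103409)) (tt N69460 D133378) (tt N22769 (iv4 F103407)) (tt N69461 D133379) (tt N41112 F103408) (tt N33514 F103406))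
theorem Q38188 : ∀ i, i < 38188 → P i := stepQ 38187 Q38187 (allL N38187 (tt N69462 D133380) (tt N69463 D133381) (tt N60248 (iv2 F175989)) (tt N69455 (iv3 F214425)) (tt N69464 D133382) (tt N19390 (iv5 D62598)) (tt N69458 (iv6 F214430)) (tt N69465 D133383))
theorem Q38189 : ∀ i, i < 38189 → P i := stepQ 38188 Q38188 (allL N38188 (tt N33514 (iv1 F97615)) (tt N41129 F103411) (tt N41127 F103403) (tt N67022 (iv3 F354128)) (tt N19394 F97613) (tt N69465 (iv5 F214439)) (tt N37273 F97614) (tt N19390 (iv7 D62599)))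
theorem Q38190 : ∀ i, i < 38190 → P i := stepQ 38189 Q38189 (allL N38189 (tt N44475 (iv1 F112219)) (tt N32154 (iv0 F101156)) (tt N44473 F112211) (tt N69466 D133384) (tt N19391 (iv4 D62600)) (tt N69467 D133385) (tt N62650 (iv6 F182929)) (tt N20813 F97616))
theorem Q38191 : ∀ i, i < 38191 → P i := stepQ 38190 Q38190 (allL N38190 (tt N38847 (iv1 F168150)) (tt N39013 F99161) (tt N39014 (iv2 F99158)) (tt N19581 F97617) (tt N67194 (iv4 F206892)) (tt N19391 (iv5 D62601)) (tt N39017 (iv6 F99171)) (tt N19574 F97618))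
theorem Q38192 : ∀ i, i < 38192 → P i := stepQ 38191 Q38191 (allL N38191 (tt N58527 (iv1 F169547)) (tt N60413 F176373) (tt N60249 (iv2 F175990)) (tt N20316 F97619) (tt N62650 (iv4 F182928)) (tt N35642 F97621) (tt N19391 (iv6 D62602)) (tt N20052 F97620))
theorem Q38193 : ∀ i, i < 38193 → P i := stepQ 38192 Q38192 (allL N38192 (tt N56575 (iv1 F164291)) (tt N19393 (iv0 D62603)) (tt N56573 (iv2 F164663)) (tt N37333 F164598) (tt N68606 (iv4 F211189)) (tt N69468 D133386) (tt N56696 (iv6 F164597)) (tt N56574 (iv7 F164665)))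
theorem Q38194 : ∀ i, i < 38194 → P i := stepQ 38193 Q38193 (allL N38193 (tt N19393 (iv1 D62604)) (tt N56575 F164290) (tt N56574 F164666) (tt N69354 F213972) (tt N68607 (iv4 F211180)) (tt N56936 (iv5 F165081)) (tt N56826 F176559) (tt N56573 F164664))
theorem Q38195 : ∀ i, i < 38195 → P i := stepQ 38194 Q38194 (allL N38194 (tt N67580 (iv1 F211198)) (tt N67582 (iv0 F207419)) (tt N37671 F97622) (tt N69469 D133387) (tt N19393 (iv4 D62605)) (tt N69470 D133388) (tt N19395 F97623) (tt N67304 (iv7 F207042)))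
theorem Q38196 : ∀ i, i < 38196 → P i := stepQ 38195 Q38195 (allL N38195 (tt N56574 (iv1 F164284)) (tt N56573 F164289) (tt N56575 (iv2 F164285)) (tt N69430 (iv3 F214366)) (tt N67304 (iv4 F207041)) (tt N19394 F97624) (tt N56378 (iv6 F163666)) (tt N19393 (iv7 D62606)))
theorem Q38197 : ∀ i, i < 38197 → P i := stepQ 38196 Q38196 (allL N38196 (tt N69471 D133389) (tt N69472 D133390) (tt N69473 D133391) (tt N19395 (iv3 D62607)) (tt N37817 F97625) (tt N68712 (iv5 F211428)) (tt N69469 (iv6 F214448)) (tt N37672 F97626))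
theorem Q38198 : ∀ i, i < 38198 → P i := stepQ 38197 Q38197 (allL N38197 (tt N69474 D133392) (tt N69475 D133393) (tt N37281 F97627) (tt N69411 (iv3 F214258)) (tt N68385 (iv4 F210038)) (tt N45184 (iv5 F114714)) (tt N19396 (iv6 D62608)) (tt N69476 D133394))
theorem Q38199 : ∀ i, i < 38199 → P i := stepQ 38198 Q38198 (allL N38198 (tt N23833 (iv1 F97632)) (tt N37279 F97631) (tt N19397 (iv2 D62609)) (tt N34409 F97628) (tt N26940 F97629) (tt N69477 D133395) (tt N26938 (iv6 F97633)) (tt N34407 F97630))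
theorem Q38200 : ∀ i, i < 38200 → P i := stepQ 38199 Q38199 (allL N38199 (tt N28137 F97636) (tt N32174 F138537) (tt N69477 (iv2 F214467)) (tt N19398 F97634) (tt N69478 D133396) (tt N19397 (iv5 D62610)) (tt N69479 D133397) (tt N37280 F97635))
theorem Q38201 : ∀ i, i < 38201 → P i := stepQ 38200 Q38200 (allL N38200 (tt N50743 (iv1 F142208)) (tt N26392 (iv0 F97641)) (tt N26938 F97637) (tt N19399 F97638) (tt N26553 F97639) (tt N56345 (iv5 F163516)) (tt N19397 (iv6 D62611)) (tt N26941 F97640))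
theorem Q38202 : ∀ i, i < 38202 → P i := stepQ 38201 Q38201 (allL N38201 (tt N61120 F178031) (tt N69480 D133398) (tt N37278 F97642) (tt N69479 (iv3 F214477)) (tt N68387 (iv4 F210042)) (tt N56346 (iv5 F163521)) (tt N19398 (iv6 D62612)) (tt N69481 D133399))
theorem Q38203 : ∀ i, i < 38203 → P i := stepQ 38202 Q38202 (allL N38202 (tt N37286 (iv1 F97645)) (tt N19400 (iv0 D62613)) (tt N37285 (iv2 F114362)) (tt N29888 (iv3 F114360)) (tt N23173 (iv4 F114356)) (tt N69482 D133400) (tt N23172 F114357) (tt N37284 (iv7 F114365)))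
theorem Q38204 : ∀ i, i < 38204 → P i := stepQ 38203 Q38203 (allL N38203 (tt N19400 (iv1 D62614)) (tt N37286 F97646) (tt N37284 F114366) (tt N56621 (iv3 F164463)) (tt N29971 (iv4 F97647)) (tt N69483 D133401) (tt N29864 F114370) (tt N37285 F114364))
theorem Q38205 : ∀ i, i < 38205 → P i := stepQ 38204 Q38204 (allL N38204 (tt N21477 F97650) (tt N21483 F97651) (tt N21481 F97648) (tt N56623 (iv3 F164470)) (tt N20932 F97649) (tt N60882 (iv5 F177135)) (tt N19402 (iv6 D62615)) (tt N21480 (iv7 F97652)))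
theorem Q38206 : ∀ i, i < 38206 → P i := stepQ 38205 Q38205 (allL N38205 (tt N43369 (iv1 F114657)) (tt N43372 (iv0 F108572)) (tt N37291 F97653) (tt N31367 F97654) (tt N45326 (iv4 F115244)) (tt N60906 (iv5 F177191)) (tt N19403 (iv6 D62616)) (tt N45157 (iv7 F114651)))
theorem Q38207 : ∀ i, i < 38207 → P i := stepQ 38206 Q38206 (allL N38206 (tt N19404 (iv1 D62617)) (tt N32811 F97655) (tt N32813 (iv2 F97658)) (tt N31370 (iv3 F97849)) (tt N61363 (iv4 F356880)) (tt N19444 F97657) (tt N61362 (iv6 F356876)) (tt N32792 F97656))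
theorem Q38208 : ∀ i, i < 38208 → P i := stepQ 38207 Q38207 (allL N38207 (tt N34092 F97660) (tt N56654 (iv0 F164534)) (tt N64035 (iv2 F192340)) (tt N69484 D133404) (tt N19404 (iv4 D62618)) (tt N64845 (iv5 F314242)) (tt N69485 D133406) (tt N37293 F97659))
theorem Q38209 : ∀ i, i < 38209 → P i := stepQ 38208 Q38208 (allL N38208 (tt N69486 D133407) (tt N69487 D133408) (tt N64034 (iv2 F192331)) (tt N19407 F97661) (tt N69485 (iv4 F214508)) (tt N23876 F97662) (tt N19404 (iv6 D62619)) (tt N69488 D133409))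
theorem Q38210 : ∀ i, i < 38210 → P i := stepQ 38209 Q38209 (allL N38209 (tt N69482 (iv1 F214490)) (tt N69483 (iv0 F214493)) (tt N27123 F97663) (tt N19405 (iv3 D62620)) (tt N69489 D133410) (tt N19443 F97664) (tt N69490 D133411) (tt N27125 F97665))
theorem Q38211 : ∀ i, i < 38211 → P i := stepQ 38210 Q38210 (allL N38210 (tt N69491 D133412) (tt N69492 D133413) (tt N32735 F97666) (tt N69490 (iv3 F214517)) (tt N32201 F97667) (tt N32785 F97668) (tt N19405 (iv6 D62621)) (tt N69493 D133414))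
theorem Q38212 : ∀ i, i < 38212 → P i := stepQ 38211 Q38211 (allL N38211 (tt N69494 D133415) (tt N69495 D133416) (tt N54515 (iv2 F329293)) (tt N19406 (iv3 D62622)) (tt N69484 (iv4 F214503)) (tt N32118 F97669) (tt N69496 D133418) (tt N37295 F97670))
theorem Q38213 : ∀ i, i < 38213 → P i := stepQ 38212 Q38212 (allL N38212 (tt N69497 D133419) (tt N69498 D133420) (tt N37269 F97671) (tt N69496 (iv3 F214534)) (tt N19407 F97672) (tt N69499 D133421) (tt N19406 (iv6 D62623)) (tt N69500 D133422))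
theorem Q38214 : ∀ i, i < 38214 → P i := stepQ 38213 Q38213 (allL N38213 (tt N60252 (iv1 F176005)) (tt N19407 (iv0 D62624)) (tt N60250 (iv2 F396351)) (tt N57276 (iv3 F350609)) (tt N69501 D133425) (tt N69502 D133426) (tt N69503 D133427) (tt N60251 (iv7 F396348)))
theorem Q38215 : ∀ i, i < 38215 → P i := stepQ 38214 Q38214 (allL N38214 (tt N19407 (iv1 D62625)) (tt N60252 F176004) (tt N60251 (iv2 F396346)) (tt N69504 D133429) (tt N69505 D133430) (tt N69506 D133431) (tt N69507 D133432) (tt N60250 (iv7 F396352)))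
theorem Q38216 : ∀ i, i < 38216 → P i := stepQ 38215 Q38215 (allL N38215 (tt N60251 (iv1 F175999)) (tt N60250 F176003) (tt N60252 (iv2 F176000)) (tt N69488 (iv3 F214509)) (tt N69500 (iv4 F214539)) (tt N61088 (iv5 F177959)) (tt N37299 F97673) (tt N19407 (iv7 D62626)))
theorem Q38217 : ∀ i, i < 38217 → P i := stepQ 38216 Q38216 (allL N38216 (tt N54878 (iv1 F293784)) (tt N27254 F177448) (tt N45163 (iv2 F114663)) (tt N63226 (iv3 F186437)) (tt N68711 (iv4 F211427)) (tt N27223 F97674) (tt N19408 (iv6 D62627)) (tt N54880 (iv7 F293781)))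
theorem Q38218 : ∀ i, i < 38218 → P i := stepQ 38217 Q38217 (allL N38217 (tt N69508 D133435) (tt N69509 D133436) (tt N69510 D133437) (tt N19410 (iv3 D62628)) (tt N37819 F97675) (tt N48242 F322394) (tt N62001 (iv6 F179794)) (tt N37301 F97676))
theorem Q38219 : ∀ i, i < 38219 → P i := stepQ 38218 Q38218 (allL N38218 (tt N33026 F97680) (tt N33023 F97681) (tt N37308 F97677) (tt N48242 (iv3 F320619)) (tt N37009 F97679) (tt N19410 (iv5 D62629)) (tt N69511 D133439) (tt N37302 F97678))
theorem Q38220 : ∀ i, i < 38220 → P i := stepQ 38219 Q38219 (allL N38219 (tt N69512 D133440) (tt N69513 D133441) (tt N69514 D133442) (tt N19411 (iv3 D62630)) (tt N37669 F97682) (tt N69515 D133443) (tt N69516 D133444) (tt N37307 F97683))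
theorem Q38221 : ∀ i, i < 38221 → P i := stepQ 38220 Q38220 (allL N38220 (tt N33023 F97686) (tt N33026 F97687) (tt N37302 F97684) (tt N69515 (iv3 F214576)) (tt N57390 (iv4 F166349)) (tt N19411 (iv5 D62631)) (tt N63201 (iv6 F339330)) (tt N37308 F97685))
theorem Q38222 : ∀ i, i < 38222 → P i := stepQ 38221 Q38221 (allL N38221 (tt N69517 D133446) (tt N69518 D133447) (tt N37303 F97688) (tt N69516 (iv3 F214578)) (tt N19412 F97689) (tt N69519 D133448) (tt N19411 (iv6 D62632)) (tt N69520 D133449))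
theorem Q38223 : ∀ i, i < 38223 → P i := stepQ 38222 Q38222 (allL N38222 (tt N19412 (iv1 D62634)) (tt N37306 F97691) (tt N37305 F100007) (tt N37397 F102030) (tt N69521 D133450) (tt N61903 (iv5 F179664)) (tt N37397 (iv6 F100008)) (tt N37304 F100006))
theorem Q38224 : ∀ i, i < 38224 → P i := stepQ 38223 Q38223 (allL N38223 (tt N37305 (iv1 F97696)) (tt N37304 F97697) (tt N37306 F97692) (tt N56575 (iv3 F164286)) (tt N69520 (iv4 F214594)) (tt N19945 F97693) (tt N19829 F97694) (tt N19412 (iv7 D62635)))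
theorem Q38225 : ∀ i, i < 38225 → P i := stepQ 38224 Q38224 (allL N38224 (tt N69522 D133451) (tt N61137 (iv0 F355669)) (tt N69523 D133453) (tt N19413 (iv3 D62636)) (tt N38446 (iv4 F98314)) (tt N69524 D133454) (tt N69525 D133455) (tt N37310 F97698))
theorem Q38226 : ∀ i, i < 38226 → P i := stepQ 38225 Q38225 (allL N38225 (tt N33017 F97701) (tt N19610 F97702) (tt N37314 F97699) (tt N69524 (iv3 F214610)) (tt N57334 (iv4 F166242)) (tt N19413 (iv5 D62637)) (tt N69526 D133456) (tt N37311 F97700))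
theorem Q38227 : ∀ i, i < 38227 → P i := stepQ 38226 Q38226 (allL N38226 (tt N19828 F97705) (tt N37412 F97706) (tt N37315 F97703) (tt N69525 (iv3 F214612)) (tt N36761 F97704) (tt N69527 D133457) (tt N19413 (iv6 D62638)) (tt N37410 (iv7 F99199)))
theorem Q38228 : ∀ i, i < 38228 → P i := stepQ 38227 Q38227 (allL N38227 (tt N32581 (iv1 F333205)) (tt N45047 (iv0 F333204)) (tt N45045 (iv2 F333206)) (tt N19414 (iv3 D62639)) (tt N36879 F97708) (tt N45006 (iv5 F333208)) (tt N69528 D133462) (tt N37313 F97709))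
theorem Q38229 : ∀ i, i < 38229 → P i := stepQ 38228 Q38228 (allL N38228 (tt N19610 F97712) (tt N33017 F97713) (tt N37311 F97710) (tt N45006 F333216) (tt N57337 (iv4 F166246)) (tt N19414 (iv5 D62640)) (tt N43236 (iv6 F327676)) (tt N37314 F97711))
theorem Q38230 : ∀ i, i < 38230 → P i := stepQ 38229 Q38229 (allL N38229 (tt N69386 F214095) (tt N69521 (iv0 F214601)) (tt N37312 F97714) (tt N69528 (iv3 F214626)) (tt N36762 F97715) (tt N69529 D133464) (tt N19414 (iv6 D62641)) (tt N69530 D133465))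
theorem Q38231 : ∀ i, i < 38231 → P i := stepQ 38230 Q38230 (allL N38230 (tt N37318 (iv1 F97716)) (tt N19415 (iv0 D62642)) (tt N37317 F209659) (tt N60804 (iv3 F332631)) (tt N44818 F318966) (tt N47506 F318967) (tt N69531 D133467) (tt N37316 F209661))
theorem Q38232 : ∀ i, i < 38232 → P i := stepQ 38231 Q38231 (allL N38231 (tt N19415 (iv1 D62643)) (tt N37318 (iv0 F97718)) (tt N37316 F209657) (tt N69532 D133468) (tt N37853 (iv4 F97717)) (tt N47507 (iv5 F317508)) (tt N69533 D133469) (tt N37317 F209658))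
theorem Q38233 : ∀ i, i < 38233 → P i := stepQ 38232 Q38232 (allL N38232 (tt N37317 (iv1 F97722)) (tt N37316 F97721) (tt N19415 (iv2 D62644)) (tt N61722 (iv3 F179307)) (tt N19424 F97719) (tt N24827 (iv5 F319758)) (tt N32448 (iv6 F324717)) (tt N37318 F97720))
theorem Q38234 : ∀ i, i < 38234 → P i := stepQ 38233 Q38233 (allL N38233 (tt N47072 F318985) (tt N47557 F318986) (tt N24827 (iv2 F319757)) (tt N19416 F97723) (tt N24558 F322823) (tt N19415 (iv5 D62645)) (tt N22079 F322824) (tt N24824 F318987))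
theorem Q38235 : ∀ i, i < 38235 → P i := stepQ 38234 Q38234 (allL N38234 (tt N32990 (iv1 F97728)) (tt N19416 (iv0 D62647)) (tt N35925 (iv2 F97729)) (tt N61136 (iv3 F332255)) (tt N57341 (iv4 F166252)) (tt N19745 F97727) (tt N69534 D133479) (tt N37320 (iv7 F97730)))
theorem Q38236 : ∀ i, i < 38236 → P i := stepQ 38235 Q38235 (allL N38235 (tt N19416 (iv1 D62648)) (tt N32990 F97731) (tt N37320 (iv2 F97734)) (tt N32580 F332576) (tt N32224 (iv4 F97735)) (tt N19746 F97733) (tt N69535 D133481) (tt N35925 F97732))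
theorem Q38237 : ∀ i, i < 38237 → P i := stepQ 38236 Q38236 (allL N38236 (tt N30491 F97739) (tt N30439 F97740) (tt N30487 F97736) (tt N46431 F325428) (tt N19416 (iv4 D62649)) (tt N19928 F97737) (tt N22080 F325429) (tt N30488 F97738))
theorem Q38238 : ∀ i, i < 38238 → P i := stepQ 38237 Q38237 (allL N38237 (tt N38462 (iv1 F98730)) (tt N32984 F98733) (tt N38461 F98338) (tt N19418 (iv3 D62654)) (tt N67538 (iv4 F207377)) (tt N20094 F97745) (tt N69355 (iv6 F213980)) (tt N20093 F97746))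
theorem Q38239 : ∀ i, i < 38239 → P i := stepQ 38238 Q38238 (allL N38238 (tt N39147 F99512) (tt N19419 (iv0 D62656)) (tt N39262 F99738) (tt N68054 F209083) (tt N62899 (iv4 F327694)) (tt N38976 (iv5 F99115)) (tt N20194 F97748) (tt N39263 (iv7 F99736)))
theorem Q38240 : ∀ i, i < 38240 → P i := stepQ 38239 Q38239 (allL N38239 (tt N19419 (iv1 D62657)) (tt N39147 F99514) (tt N39263 (iv2 F99739)) (tt N38177 (iv3 F168407)) (tt N62896 (iv4 F327696)) (tt N39652 (iv5 F100533)) (tt N31099 (iv6 F99757)) (tt N39262 F99740))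
theorem Q38241 : ∀ i, i < 38241 → P i := stepQ 38240 Q38240 (allL N38240 (tt N33715 (iv1 F328429)) (tt N33709 (iv0 F328430)) (tt N39261 (iv2 F99727)) (tt N69536 D133500) (tt N19419 (iv4 D62658)) (tt N41635 (iv5 F328431)) (tt N19421 F97749) (tt N39576 (iv7 F100436)))
theorem Q38242 : ∀ i, i < 38242 → P i := stepQ 38241 Q38241 (allL N38241 (tt N37802 (iv1 F97752)) (tt N19421 (iv0 D62659)) (tt N35542 (iv2 F97751)) (tt N69537 D133502) (tt N19671 F97750) (tt N39109 (iv5 F99411)) (tt N39434 (iv6 F100289)) (tt N35540 F97753))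
theorem Q38243 : ∀ i, i < 38243 → P i := stepQ 38242 Q38242 (allL N38242 (tt N69538 D133503) (tt N65387 (iv0 F314590)) (tt N47990 F312272) (tt N19421 (iv3 D62660)) (tt N19432 F97754) (tt N69539 D133506) (tt N69536 (iv6 F214685)) (tt N39264 (iv7 F99794)))
theorem Q38244 : ∀ i, i < 38244 → P i := stepQ 38243 Q38243 (allL N38243 (tt N19963 F97756) (tt N19966 F97757) (tt N39260 (iv2 F99723)) (tt N69539 (iv3 F214693)) (tt N37102 F97755) (tt N19421 (iv5 D62661)) (tt N69540 D133507) (tt N39265 (iv7 F99796)))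
theorem Q38245 : ∀ i, i < 38245 → P i := stepQ 38244 Q38244 (allL N38244 (tt N68944 (iv1 F214708)) (tt N69541 D133514) (tt N69008 (iv2 F214749)) (tt N19422 (iv3 D62663)) (tt N36898 F97759) (tt N47572 (iv5 F315305)) (tt N69542 D133516) (tt N37348 (iv7 F214743)))
theorem Q38246 : ∀ i, i < 38246 → P i := stepQ 38245 Q38245 (allL N38245 (tt N69543 D133518) (tt N69544 D133519) (tt N37352 F214738) (tt N45083 (iv3 F326567)) (tt N19422 (iv4 D62664)) (tt N47501 (iv5 F319761)) (tt N69545 D133522) (tt N37349 (iv7 F214745)))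
theorem Q38247 : ∀ i, i < 38247 → P i := stepQ 38246 Q38246 (allL N38246 (tt N37429 F336049) (tt N37431 F336050) (tt N37353 F214740) (tt N69542 (iv3 F214713)) (tt N69545 (iv4 F214723)) (tt N65143 (iv5 F319763)) (tt N19422 (iv6 D62666)) (tt N37430 F330911))
theorem Q38248 : ∀ i, i < 38248 → P i := stepQ 38247 Q38247 (allL N38247 (tt N69546 D133529) (tt N68954 (iv0 F214794)) (tt N69547 D133531) (tt N19423 (iv3 D62668)) (tt N69548 D133532) (tt N47571 F317522) (tt N69549 D133533) (tt N37351 F214733))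
theorem Q38249 : ∀ i, i < 38249 → P i := stepQ 38248 Q38248 (allL N38248 (tt N69544 (iv1 F214719)) (tt N69543 F214726) (tt N37349 (iv2 F214744)) (tt N69550 D133534) (tt N19423 (iv4 D62669)) (tt N47503 (iv5 F319751)) (tt N69551 D133536) (tt N37352 F214741))
theorem Q38250 : ∀ i, i < 38250 → P i := stepQ 38249 Q38249 (allL N38249 (tt N68951 (iv1 F319754)) (tt N69552 D133538) (tt N37350 (iv2 F214748)) (tt N69549 (iv3 F214809)) (tt N69551 (iv4 F214815)) (tt N64290 (iv5 F319755)) (tt N19423 (iv6 D62671)) (tt N69553 D133540))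
theorem Q38251 : ∀ i, i < 38251 → P i := stepQ 38250 Q38250 (allL N38250 (tt N50946 F324785) (tt N37424 F324786) (tt N19425 F97761) (tt N37429 F97762) (tt N32448 F324787) (tt N69554 D133543) (tt N19424 (iv6 D62672)) (tt N60825 F324788))
theorem Q38252 : ∀ i, i < 38252 → P i := stepQ 38251 Q38251 (allL N38251 (tt N60825 F324789) (tt N19425 (iv0 D62673)) (tt N50946 (iv2 F325517)) (tt N66302 (iv3 F325867)) (tt N26545 (iv4 F325868)) (tt N66300 (iv5 F325869)) (tt N26549 (iv6 F325870)) (tt N37424 (iv7 F325516)))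
theorem Q38253 : ∀ i, i < 38253 → P i := stepQ 38252 Q38252 (allL N38252 (tt N39626 (iv1 F323471)) (tt N39623 (iv0 F323472)) (tt N69554 (iv2 F214824)) (tt N19426 F97763) (tt N20168 (iv4 F323477)) (tt N19425 (iv5 D62675)) (tt N24841 F318988) (tt N36214 F321768))
theorem Q38254 : ∀ i, i < 38254 → P i := stepQ 38253 Q38253 (allL N38253 (tt N37424 (iv1 F323484)) (tt N50946 (iv0 F324034)) (tt N60825 (iv2 F324035)) (tt N19427 F97764) (tt N32450 (iv4 F324038)) (tt N36214 F322560) (tt N37358 F97765) (tt N19425 (iv7 D62676)))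
theorem Q38255 : ∀ i, i < 38255 → P i := stepQ 38254 Q38254 (allL N38254 (tt N19426 (iv1 D62678)) (tt N36207 F318528) (tt N36213 (iv2 F320604)) (tt N36115 (iv3 F320657)) (tt N35448 F320297) (tt N37130 F97772) (tt N24985 (iv6 F321982)) (tt N35446 (iv7 F320605)))
theorem Q38256 : ∀ i, i < 38256 → P i := stepQ 38255 Q38255 (allL N38255 (tt N19699 (iv1 F97781)) (tt N19428 (iv0 D62681)) (tt N19701 (iv2 F97780)) (tt N29968 F97784) (tt N59001 (iv4 F329657)) (tt N33274 F97779) (tt N19691 (iv6 F97783)) (tt N19657 F97782))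
theorem Q38257 : ∀ i, i < 38257 → P i := stepQ 38256 Q38256 (allL N38256 (tt N19701 (iv1 F97789)) (tt N19657 F97788) (tt N19428 (iv2 D62682)) (tt N37433 F97785) (tt N69555 D133567) (tt N20525 F97786) (tt N38444 (iv6 F98307)) (tt N19699 F97787))
theorem Q38258 : ∀ i, i < 38258 → P i := stepQ 38257 Q38257 (allL N38257 (tt N20538 F329055) (tt N57714 F167609) (tt N69555 (iv2 F214856)) (tt N67768 (iv3 F207772)) (tt N19428 (iv4 D62683)) (tt N69556 D133569) (tt N35018 F328258) (tt N20548 F97790))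
theorem Q38259 : ∀ i, i < 38259 → P i := stepQ 38258 Q38258 (allL N38258 (tt N33274 F168233) (tt N19700 F168234) (tt N39861 F168235) (tt N19429 (iv3 D62684)) (tt N69557 D133570) (tt N38504 (iv5 F168248)) (tt N20769 F97791) (tt N37436 F97792))
theorem Q38260 : ∀ i, i < 38260 → P i := stepQ 38259 Q38259 (allL N38259 (tt N20349 F163937) (tt N38483 F163938) (tt N38481 F163939) (tt N19430 (iv3 D62685)) (tt N69558 D133571) (tt N38522 F163940) (tt N31108 F97793) (tt N37435 F97794))
theorem Q38261 : ∀ i, i < 38261 → P i := stepQ 38260 Q38260 (allL N38260 (tt N69559 D133572) (tt N69560 D133573) (tt N47991 F312273) (tt N19431 (iv3 D62686)) (tt N69536 (iv4 F214684)) (tt N62470 (iv5 F181644)) (tt N19432 F97795) (tt N40494 (iv7 F101775)))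
theorem Q38262 : ∀ i, i < 38262 → P i := stepQ 38261 Q38261 (allL N38261 (tt N39881 (iv1 F100781)) (tt N19432 (iv0 D62687)) (tt N39880 (iv2 F210489)) (tt N69561 D133575) (tt N69562 D133576) (tt N22835 F210313) (tt N40206 (iv6 F220974)) (tt N39879 (iv7 F210488)))
theorem Q38263 : ∀ i, i < 38263 → P i := stepQ 38262 Q38262 (allL N38262 (tt N19432 (iv1 D62688)) (tt N39881 F100783) (tt N39879 (iv2 F210486)) (tt N35419 (iv3 F312355)) (tt N69563 D133579) (tt N22836 F210307) (tt N34026 (iv6 F312356)) (tt N39880 (iv7 F210491)))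
theorem Q38264 : ∀ i, i < 38264 → P i := stepQ 38263 Q38263 (allL N38263 (tt N37554 F97799) (tt N44499 F112346) (tt N29980 F97797) (tt N56608 (iv3 F164419)) (tt N68370 (iv4 F210006)) (tt N19433 (iv5 D62690)) (tt N69564 D133581) (tt N37375 F97798))
theorem Q38265 : ∀ i, i < 38265 → P i := stepQ 38264 Q38264 (allL N38264 (tt N34115 (iv1 F97801)) (tt N19434 (iv0 D62691)) (tt N36429 (iv2 F97802)) (tt N69565 D133582) (tt N32801 F97800) (tt N69566 D133583) (tt N48412 F307596) (tt N37379 (iv7 F97803)))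
theorem Q38266 : ∀ i, i < 38266 → P i := stepQ 38265 Q38265 (allL N38265 (tt N19434 (iv1 D62692)) (tt N34115 F97804) (tt N37379 F97807) (tt N48467 F309081) (tt N36430 (iv4 F97806)) (tt N69567 D133586) (tt N69568 D133587) (tt N36429 F97805))
theorem Q38267 : ∀ i, i < 38267 → P i := stepQ 38266 Q38266 (allL N38266 (tt N64631 (iv1 F314235)) (tt N64817 (iv0 F314231)) (tt N64036 (iv2 F192345)) (tt N64852 (iv3 F358060)) (tt N69569 D133588) (tt N19434 (iv5 D62693)) (tt N69570 D133589) (tt N37380 F97808))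
theorem Q38268 : ∀ i, i < 38268 → P i := stepQ 38267 Q38267 (allL N38267 (tt N69571 D133590) (tt N63918 (iv0 F351918)) (tt N43315 (iv2 F108481)) (tt N69329 (iv3 F213751)) (tt N19435 F97809) (tt N69572 D133592) (tt N19434 (iv6 D62694)) (tt N69573 D133593))
theorem Q38269 : ∀ i, i < 38269 → P i := stepQ 38268 Q38268 (allL N38268 (tt N43316 (iv1 F108487)) (tt N19435 (iv0 D62695)) (tt N34427 (iv2 F130940)) (tt N43079 (iv3 F232498)) (tt N69574 D133594) (tt N63718 (iv5 F304075)) (tt N69575 D133595) (tt N43314 F130939))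
theorem Q38270 : ∀ i, i < 38270 → P i := stepQ 38269 Q38269 (allL N38269 (tt N43314 (iv1 F108479)) (tt N34427 (iv0 F130753)) (tt N43316 (iv2 F108483)) (tt N19438 F97810) (tt N69573 (iv4 F214909)) (tt N23881 F97811) (tt N37384 F97812) (tt N19435 (iv7 D62697)))
theorem Q38271 : ∀ i, i < 38271 → P i := stepQ 38270 Q38270 (allL N38270 (tt N34423 (iv1 F162921)) (tt N33959 F162942) (tt N34421 F162919) (tt N19436 (iv3 D62699)) (tt N69576 D133596) (tt N63522 (iv5 F187809)) (tt N67756 F207744) (tt N34422 (iv7 F162912)))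
theorem Q38272 : ∀ i, i < 38272 → P i := stepQ 38271 Q38271 (allL N38271 (tt N42479 (iv1 F308893)) (tt N22487 (iv0 F97814)) (tt N37445 (iv2 F162902)) (tt N63522 (iv3 F187808)) (tt N22484 (iv4 F308896)) (tt N19436 (iv5 D62701)) (tt N63655 (iv6 F188626)) (tt N37448 F162903))
theorem Q38273 : ∀ i, i < 38273 → P i := stepQ 38272 Q38272 (allL N38272 (tt N43167 F112511) (tt N69577 D133598) (tt N37446 F162907) (tt N67756 (iv3 F207746)) (tt N67644 (iv4 F207537)) (tt N37489 F97815) (tt N19436 (iv6 D62702)) (tt N69578 D133599))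
theorem Q38274 : ∀ i, i < 38274 → P i := stepQ 38273 Q38273 (allL N38273 (tt N43016 (iv1 F232779)) (tt N43130 (iv0 F232776)) (tt N43129 (iv2 F232709)) (tt N19437 (iv3 D62704)) (tt N64295 (iv4 F314401)) (tt N63628 F188525) (tt N53927 (iv6 F306153)) (tt N37443 F162904))
theorem Q38275 : ∀ i, i < 38275 → P i := stepQ 38274 Q38274 (allL N38274 (tt N22487 F97817) (tt N42479 (iv0 F308892)) (tt N37448 (iv2 F162884)) (tt N63628 (iv3 F188523)) (tt N22513 (iv4 F310928)) (tt N19437 (iv5 D62706)) (tt N23892 (iv6 F97818)) (tt N37445 (iv7 F162901)))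
theorem Q38276 : ∀ i, i < 38276 → P i := stepQ 38275 Q38275 (allL N38275 (tt N43154 (iv1 F186574)) (tt N24261 F304048) (tt N37449 (iv2 F162943)) (tt N53927 (iv3 F306152)) (tt N45573 F304049) (tt N69579 D133605) (tt N19437 (iv6 D62707)) (tt N43152 (iv7 F162944)))
theorem Q38277 : ∀ i, i < 38277 → P i := stepQ 38276 Q38276 (allL N38276 (tt N19439 (iv1 D62710)) (tt N37454 F97824) (tt N37453 (iv2 F97826)) (tt N69580 D133610) (tt N21723 F312637) (tt N42678 (iv5 F106814)) (tt N21721 F312638) (tt N34454 F97825))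
theorem Q38278 : ∀ i, i < 38278 → P i := stepQ 38277 Q38277 (allL N38277 (tt N37453 (iv1 F97829)) (tt N34454 F97830) (tt N37454 F97827) (tt N63228 (iv3 F186447)) (tt N43989 (iv4 F308998)) (tt N23359 F97828) (tt N38307 (iv6 F97900)) (tt N19439 (iv7 D62711)))
theorem Q38279 : ∀ i, i < 38279 → P i := stepQ 38278 Q38278 (allL N38278 (tt N25471 (iv1 F309775)) (tt N19440 (iv0 D62714)) (tt N24324 (iv2 F309752)) (tt N68363 (iv3 F214985)) (tt N24258 (iv4 F310268)) (tt N42274 F317899) (tt N25408 F308248) (tt N24331 (iv7 F310271)))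
theorem Q38280 : ∀ i, i < 38280 → P i := stepQ 38279 Q38279 (allL N38279 (tt N24331 (iv1 F310270)) (tt N24324 (iv0 F309751)) (tt N25471 (iv2 F309776)) (tt N19442 F97833) (tt N24193 (iv4 F310629)) (tt N36646 F317145) (tt N25401 F308532) (tt N19440 (iv7 D62716)))
theorem Q38281 : ∀ i, i < 38281 → P i := stepQ 38280 Q38280 (allL N38280 (tt N43109 (iv1 F232796)) (tt N43010 (iv0 F232793)) (tt N43107 (iv2 F235420)) (tt N19441 (iv3 D62718)) (tt N69581 D133627) (tt N33783 (iv5 F313304)) (tt N69582 D133629) (tt N33782 (iv7 F314485)))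
theorem Q38282 : ∀ i, i < 38282 → P i := stepQ 38281 Q38281 (allL N38281 (tt N43150 (iv1 F186148)) (tt N23933 F304236) (tt N37484 F186141) (tt N69582 (iv3 F214997)) (tt N23126 (iv4 F311680)) (tt N22841 F311180) (tt N19441 (iv6 D62721)) (tt N22840 F311181))
theorem Q38283 : ∀ i, i < 38283 → P i := stepQ 38282 Q38282 (allL N38282 (tt N19447 F97845) (tt N21968 (iv0 F97846)) (tt N32881 (iv2 F97848)) (tt N19444 (iv3 D62727)) (tt N36432 F97842) (tt N31370 F97847) (tt N32538 F97843) (tt N32789 F97844))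
theorem Q38284 : ∀ i, i < 38284 → P i := stepQ 38283 Q38283 (allL N38283 (tt N37456 (iv1 F97854)) (tt N37455 F97853) (tt N19446 F97850) (tt N37513 F97851) (tt N69583 D133639) (tt N19445 (iv5 D62728)) (tt N69584 D133640) (tt N32810 F97852))
theorem Q38285 : ∀ i, i < 38285 → P i := stepQ 38284 Q38284 (allL N38284 (tt N68269 (iv1 F209447)) (tt N56437 (iv0 F163750)) (tt N69583 (iv2 F215035)) (tt N69585 D133641) (tt N19446 (iv4 D62729)) (tt N69586 D133642) (tt N69587 D133643) (tt N37457 F97855))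
theorem Q38286 : ∀ i, i < 38286 → P i := stepQ 38285 Q38285 (allL N38285 (tt N69588 D133644) (tt N69589 D133645) (tt N69584 (iv2 F215040)) (tt N19449 F97856) (tt N69587 (iv4 F215050)) (tt N69590 D133646) (tt N19446 (iv6 D62730)) (tt N69591 D133647))
theorem Q38287 : ∀ i, i < 38287 → P i := stepQ 38286 Q38286 (allL N38286 (tt N58909 (iv1 F171431)) (tt N57701 (iv0 F167460)) (tt N33953 F97857) (tt N19450 F97858) (tt N69592 D133648) (tt N19447 (iv5 D62731)) (tt N69590 (iv6 F215053)) (tt N33951 F97859))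
theorem Q38288 : ∀ i, i < 38288 → P i := stepQ 38287 Q38287 (allL N38287 (tt N69593 D133649) (tt N47635 F352911) (tt N69594 D133651) (tt N19448 (iv3 D62732)) (tt N69585 (iv4 F215043)) (tt N32107 F97860) (tt N69595 D133652) (tt N37465 F97861))
theorem Q38289 : ∀ i, i < 38289 → P i := stepQ 38288 Q38288 (allL N38288 (tt N69596 D133653) (tt N69597 D133654) (tt N58744 (iv2 F170571)) (tt N69595 (iv3 F215065)) (tt N19449 F97862) (tt N69598 D133655) (tt N19448 (iv6 D62733)) (tt N69599 D133656))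
theorem Q38290 : ∀ i, i < 38290 → P i := stepQ 38289 Q38289 (allL N38289 (tt N58747 (iv1 F170578)) (tt N19449 (iv0 D62734)) (tt N58745 F171485) (tt N69600 D133657) (tt N69601 D133658) (tt N69602 D133659) (tt N69603 D133660) (tt N58746 F171483))
theorem Q38291 : ∀ i, i < 38291 → P i := stepQ 38290 Q38290 (allL N38290 (tt N19449 (iv1 D62735)) (tt N58747 F170577) (tt N58746 (iv2 F171482)) (tt N69604 D133661) (tt N69605 D133662) (tt N57282 (iv5 F165960)) (tt N61596 F179082) (tt N58745 (iv7 F171484)))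
theorem Q38292 : ∀ i, i < 38292 → P i := stepQ 38291 Q38291 (allL N38291 (tt N69606 D133663) (tt N69607 D133664) (tt N56411 (iv2 F163716)) (tt N69590 (iv3 F215052)) (tt N68622 (iv4 F211231)) (tt N19449 (iv5 D62736)) (tt N19450 F97863) (tt N69608 D133665))
theorem Q38293 : ∀ i, i < 38293 → P i := stepQ 38292 Q38292 (allL N38292 (tt N58746 (iv1 F170573)) (tt N58745 F170576) (tt N58747 (iv2 F170574)) (tt N69591 (iv3 F215054)) (tt N69599 (iv4 F215067)) (tt N69608 (iv5 F215071)) (tt N37468 F97864) (tt N19449 (iv7 D62737)))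
theorem Q38294 : ∀ i, i < 38294 → P i := stepQ 38293 Q38293 (allL N38293 (tt N69609 D133669) (tt N69610 D133670) (tt N19453 F97869) (tt N25400 (iv3 F306679)) (tt N35150 (iv4 F308182)) (tt N33955 F97871) (tt N19451 (iv6 D62739)) (tt N25470 F306185))
theorem Q38295 : ∀ i, i < 38295 → P i := stepQ 38294 Q38294 (allL N38294 (tt N34113 (iv1 F97873)) (tt N19452 (iv0 D62740)) (tt N35148 F314885) (tt N69611 D133671) (tt N30531 F97872) (tt N68276 (iv5 F209464)) (tt N69612 D133672) (tt N35039 F314897))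
theorem Q38296 : ∀ i, i < 38296 → P i := stepQ 38295 Q38295 (allL N38295 (tt N19452 (iv1 D62741)) (tt N34113 F97874) (tt N35039 (iv2 F312441)) (tt N43747 F311850) (tt N37492 (iv4 F97875)) (tt N68277 (iv5 F209467)) (tt N34911 F311851) (tt N35148 F314893))
theorem Q38297 : ∀ i, i < 38297 → P i := stepQ 38296 Q38296 (allL N38296 (tt N69566 (iv1 F214884)) (tt N69567 (iv0 F214901)) (tt N35149 (iv2 F312442)) (tt N69198 (iv3 F213281)) (tt N69613 D133675) (tt N19452 (iv5 D62742)) (tt N69614 D133676) (tt N37470 F97876))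
theorem Q38298 : ∀ i, i < 38298 → P i := stepQ 38297 Q38297 (allL N38297 (tt N69615 D133677) (tt N57438 (iv0 F208188)) (tt N35150 (iv2 F308181)) (tt N47492 (iv3 F308286)) (tt N19453 F97877) (tt N67868 (iv5 F208187)) (tt N19452 (iv6 D62743)) (tt N69616 D133678))
theorem Q38299 : ∀ i, i < 38299 → P i := stepQ 38298 Q38298 (allL N38298 (tt N25470 F306188) (tt N19453 (iv0 D62744)) (tt N69609 F215085) (tt N40015 (iv3 F208248)) (tt N65355 (iv4 F308186)) (tt N67757 F207752) (tt N69617 D133680) (tt N69610 (iv7 F215088)))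
theorem Q38300 : ∀ i, i < 38300 → P i := stepQ 38299 Q38299 (allL N38299 (tt N19453 (iv1 D62745)) (tt N25470 (iv0 F305764)) (tt N69610 (iv2 F215091)) (tt N37489 (iv3 F207747)) (tt N48551 (iv4 F305763)) (tt N67756 (iv5 F207743)) (tt N25422 F303705) (tt N69609 F215086))
theorem Q38301 : ∀ i, i < 38301 → P i := stepQ 38300 Q38300 (allL N38300 (tt N67904 (iv1 F208240)) (tt N37487 (iv0 F186348)) (tt N33955 F97878) (tt N19456 F97879) (tt N37943 (iv4 F185308)) (tt N19453 (iv5 D62746)) (tt N19454 F97880) (tt N67901 (iv7 F208223)))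
theorem Q38302 : ∀ i, i < 38302 → P i := stepQ 38301 Q38301 (allL N38301 (tt N69610 (iv1 F215087)) (tt N69609 F215084) (tt N25470 F306186) (tt N19457 F97881) (tt N69616 (iv4 F215106)) (tt N67901 F208225) (tt N37474 F97882) (tt N19453 (iv7 D62747)))
theorem Q38303 : ∀ i, i < 38303 → P i := stepQ 38302 Q38302 (allL N38302 (tt N69618 D133682) (tt N24594 F309974) (tt N33954 F97883) (tt N25093 (iv3 F311088)) (tt N19454 (iv4 D62748)) (tt N69619 D133683) (tt N37943 (iv6 F185311)) (tt N25111 F309975))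
theorem Q38304 : ∀ i, i < 38304 → P i := stepQ 38303 Q38303 (allL N38303 (tt N67901 F209592) (tt N33955 F209593) (tt N67904 F208241) (tt N19455 (iv3 D62749)) (tt N69620 D133684) (tt N42694 F308204) (tt N69621 D133686) (tt N37487 F97885))
theorem Q38305 : ∀ i, i < 38305 → P i := stepQ 38304 Q38304 (allL N38304 (tt N23935 (iv1 F304083)) (tt N23934 (iv0 F304082)) (tt N23936 (iv2 F304088)) (tt N69621 (iv3 F215127)) (tt N23587 (iv4 F305931)) (tt N21214 F97892) (tt N19455 (iv6 D62752)) (tt N22529 F97891))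
theorem Q38306 : ∀ i, i < 38306 → P i := stepQ 38305 Q38305 (allL N38305 (tt N37491 (iv1 F97901)) (tt N19456 (iv0 D62755)) (tt N37488 (iv2 F162911)) (tt N69609 (iv3 F215083)) (tt N25224 (iv4 F308380)) (tt N69578 (iv5 F214933)) (tt N33825 (iv6 F308194)) (tt N37489 F162910))
theorem Q38307 : ∀ i, i < 38307 → P i := stepQ 38306 Q38306 (allL N38306 (tt N19456 (iv1 D62756)) (tt N37491 F97896) (tt N37489 F162908) (tt N40024 (iv3 F208252)) (tt N25223 (iv4 F308804)) (tt N37446 (iv5 F97897)) (tt N56116 F307007) (tt N37488 (iv7 F162909)))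
theorem Q38308 : ∀ i, i < 38308 → P i := stepQ 38307 Q38307 (allL N38307 (tt N37489 (iv1 F97902)) (tt N37488 F97903) (tt N37491 F97898) (tt N67901 F208224) (tt N41815 (iv4 F307133)) (tt N19457 F97899) (tt N38277 F97900) (tt N19456 (iv7 D62757)))
theorem Q38309 : ∀ i, i < 38309 → P i := stepQ 38308 Q38308 (allL N38308 (tt N23313 F97906) (tt N44490 (iv0 F112301)) (tt N37510 F97904) (tt N43100 (iv3 F108127)) (tt N69622 D133693) (tt N19459 (iv5 D62758)) (tt N69623 D133694) (tt N29759 F97905))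
theorem Q38310 : ∀ i, i < 38310 → P i := stepQ 38309 Q38309 (allL N38309 (tt N69624 D133698) (tt N37651 (iv0 F248032)) (tt N37512 F97910) (tt N24161 F307430) (tt N21550 (iv4 F309459)) (tt N42907 (iv5 F107615)) (tt N19460 (iv6 D62760)) (tt N21547 F307431))
theorem Q38311 : ∀ i, i < 38311 → P i := stepQ 38310 Q38310 (allL N38310 (tt N37573 (iv1 F97917)) (tt N21573 F97915) (tt N30679 F97912) (tt N19463 F97913) (tt N34416 F97916) (tt N19461 (iv5 D62761)) (tt N42821 F307174) (tt N37509 F97914))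
theorem Q38312 : ∀ i, i < 38312 → P i := stepQ 38311 Q38311 (allL N38311 (tt N44490 (iv1 F112302)) (tt N23313 F97921) (tt N29759 F97918) (tt N29900 F97919) (tt N69625 D133702) (tt N19462 (iv5 D62762)) (tt N69626 D133703) (tt N37510 F97920))
theorem Q38313 : ∀ i, i < 38313 → P i := stepQ 38312 Q38312 (allL N38312 (tt N37516 F97930) (tt N29976 F97931) (tt N19467 F97927) (tt N32810 F97928) (tt N69627 D133707) (tt N19464 (iv5 D62765)) (tt N51482 (iv6 F145277)) (tt N37513 F97929))
theorem Q38314 : ∀ i, i < 38314 → P i := stepQ 38313 Q38313 (allL N38313 (tt N37521 F97934) (tt N30516 F97935) (tt N19471 F97932) (tt N41326 (iv3 F308979)) (tt N19465 (iv4 D62766)) (tt N41325 (iv5 F309868)) (tt N69628 D133709) (tt N37514 F97933))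
theorem Q38315 : ∀ i, i < 38315 → P i := stepQ 38314 Q38314 (allL N38314 (tt N69629 D133710) (tt N64267 (iv0 F309480)) (tt N19472 F97936) (tt N36458 F97937) (tt N69628 (iv4 F215200)) (tt N42642 (iv5 F106696)) (tt N19465 (iv6 D62767)) (tt N69630 D133712))
theorem Q38316 : ∀ i, i < 38316 → P i := stepQ 38315 Q38315 (allL N38315 (tt N19467 (iv1 D62768)) (tt N37513 F97938) (tt N29976 (iv2 F97941)) (tt N50303 (iv3 F139484)) (tt N57269 (iv4 F316751)) (tt N23223 F97940) (tt N57268 (iv6 F322880)) (tt N37516 F97939))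
theorem Q38317 : ∀ i, i < 38317 → P i := stepQ 38316 Q38316 (allL N38316 (tt N69631 D133715) (tt N69632 D133716) (tt N69627 (iv2 F215188)) (tt N56644 (iv3 F348076)) (tt N19467 (iv4 D62769)) (tt N69633 D133718) (tt N69634 D133719) (tt N37517 F97942))
theorem Q38318 : ∀ i, i < 38318 → P i := stepQ 38317 Q38317 (allL N38317 (tt N51546 F157710) (tt N29081 F293774) (tt N51482 (iv2 F145276)) (tt N32125 F97943) (tt N69634 (iv4 F215226)) (tt N27101 F97944) (tt N19467 (iv6 D62770)) (tt N51521 (iv7 F157681)))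
theorem Q38319 : ∀ i, i < 38319 → P i := stepQ 38318 Q38318 (allL N38318 (tt N37533 (iv1 F97953)) (tt N37538 F97954) (tt N25189 (iv2 F309866)) (tt N19470 (iv3 D62773)) (tt N69618 (iv4 F215109)) (tt N35916 F97951) (tt N69635 D133726) (tt N37519 F97952))
theorem Q38320 : ∀ i, i < 38320 → P i := stepQ 38319 Q38319 (allL N38319 (tt N46130 (iv1 F309827)) (tt N25491 (iv0 F309828)) (tt N21633 (iv2 F309829)) (tt N46226 (iv3 F309831)) (tt N19470 (iv4 D62774)) (tt N69636 D133728) (tt N21630 F307821) (tt N37520 F97956))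
theorem Q38321 : ∀ i, i < 38321 → P i := stepQ 38320 Q38320 (allL N38320 (tt N25445 F303958) (tt N46178 (iv0 F306057)) (tt N21631 (iv2 F306054)) (tt N69635 (iv3 F215243)) (tt N21630 (iv4 F306074)) (tt N69637 D133731) (tt N19470 (iv6 D62775)) (tt N46179 (iv7 F306053)))
theorem Q38322 : ∀ i, i < 38322 → P i := stepQ 38321 Q38321 (allL N38321 (tt N19471 (iv1 D62776)) (tt N37514 F97958) (tt N30516 (iv2 F97961)) (tt N69638 D133733) (tt N23320 F97960) (tt N68575 (iv5 F210979)) (tt N34173 F308021) (tt N37521 F97959))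
theorem Q38323 : ∀ i, i < 38323 → P i := stepQ 38322 Q38322 (allL N38322 (tt N57422 (iv1 F166652)) (tt N21190 F311692) (tt N41325 F311693) (tt N23061 (iv3 F313465)) (tt N69639 D133735) (tt N19471 (iv5 D62777)) (tt N55809 (iv6 F315499)) (tt N37522 F97962))
theorem Q38324 : ∀ i, i < 38324 → P i := stepQ 38323 Q38323 (allL N38323 (tt N47941 F311662) (tt N69640 D133738) (tt N69628 (iv2 F215198)) (tt N47958 (iv3 F313466)) (tt N19472 F97963) (tt N40955 (iv5 F348314)) (tt N19471 (iv6 D62778)) (tt N47985 F311663))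
theorem Q38325 : ∀ i, i < 38325 → P i := stepQ 38324 Q38324 (allL N38324 (tt N69630 (iv1 F215209)) (tt N19472 (iv0 D62779)) (tt N69629 (iv2 F235573)) (tt N24195 (iv3 F309472)) (tt N21731 (iv4 F309479)) (tt N63053 (iv5 F315614)) (tt N21729 F307432) (tt N64267 (iv7 F309483)))
theorem Q38326 : ∀ i, i < 38326 → P i := stepQ 38325 Q38325 (allL N38325 (tt N19472 (iv1 D62780)) (tt N69630 F215208) (tt N64267 (iv2 F309482)) (tt N69641 D133747) (tt N64270 (iv4 F314126)) (tt N62317 (iv5 F317920)) (tt N62433 (iv6 F323437)) (tt N69629 (iv7 F235574)))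
theorem Q38327 : ∀ i, i < 38327 → P i := stepQ 38326 Q38326 (allL N38326 (tt N64267 (iv1 F309481)) (tt N69629 F215207) (tt N69630 (iv2 F215203)) (tt N19477 F97964) (tt N47985 (iv4 F310020)) (tt N22527 (iv5 F317592)) (tt N25452 F308008) (tt N19472 (iv7 D62781)))
theorem Q38328 : ∀ i, i < 38328 → P i := stepQ 38327 Q38327 (allL N38327 (tt N37534 F97970) (tt N33593 (iv0 F97971)) (tt N32516 F97966) (tt N19474 (iv3 D62782)) (tt N32512 F97967) (tt N45315 (iv5 F115144)) (tt N32509 F97968) (tt N29721 F97969))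
theorem Q38329 : ∀ i, i < 38329 → P i := stepQ 38328 Q38328 (allL N38328 (tt N37551 (iv1 F210393)) (tt N37532 (iv0 F155496)) (tt N37549 (iv2 F155493)) (tt N19475 (iv3 D62784)) (tt N69642 D133751) (tt N36366 F315911) (tt N42512 F155494) (tt N36365 (iv7 F316560)))
theorem Q38330 : ∀ i, i < 38330 → P i := stepQ 38329 Q38329 (allL N38329 (tt N42841 (iv1 F109910)) (tt N24215 F303009) (tt N37508 (iv2 F109885)) (tt N42512 F155491) (tt N23490 (iv4 F313446)) (tt N21837 F97974) (tt N19475 (iv6 D62787)) (tt N30556 F311131))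
theorem Q38331 : ∀ i, i < 38331 → P i := stepQ 38330 Q38330 (allL N38330 (tt N19494 F109904) (tt N41451 F109905) (tt N41450 F109906) (tt N19476 (iv3 D62789)) (tt N22486 (iv4 F311150)) (tt N29744 F315756) (tt N21716 F309008) (tt N37507 F109907))
theorem Q38332 : ∀ i, i < 38332 → P i := stepQ 38331 Q38331 (allL N38331 (tt N37649 (iv1 F209858)) (tt N22821 F185327) (tt N36462 F97979) (tt N57454 (iv3 F166789)) (tt N28721 F309068) (tt N36504 F97980) (tt N19479 (iv6 D62793)) (tt N69643 D133757))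
theorem Q38333 : ∀ i, i < 38333 → P i := stepQ 38332 Q38332 (allL N38332 (tt N36424 (iv1 F112265)) (tt N36426 (iv0 F97993)) (tt N30531 F97987) (tt N19482 (iv3 D62796)) (tt N35148 F314886) (tt N30530 F97988) (tt N69644 D133758) (tt N37492 F97989))
theorem Q38334 : ∀ i, i < 38334 → P i := stepQ 38333 Q38333 (allL N38333 (tt N56126 (iv1 F304873)) (tt N68265 F215337) (tt N37495 F97999) (tt N69644 (iv3 F215320)) (tt N47709 F315267) (tt N36625 F98000) (tt N19482 (iv6 D62798)) (tt N69645 D133762))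
theorem Q38335 : ∀ i, i < 38335 → P i := stepQ 38334 Q38334 (allL N38334 (tt N35187 (iv1 F312234)) (tt N25194 F311167) (tt N37493 F98001) (tt N68480 F210624) (tt N19483 (iv4 D62799)) (tt N23084 (iv5 F311344)) (tt N46518 F304890) (tt N24293 (iv7 F311417)))
theorem Q38336 : ∀ i, i < 38336 → P i := stepQ 38335 Q38335 (allL N38335 (tt N68266 (iv1 F243084)) (tt N52245 (iv0 F305689)) (tt N37494 F98004) (tt N24914 (iv3 F306829)) (tt N46518 F304889) (tt N42111 (iv5 F105485)) (tt N19483 (iv6 D62800)) (tt N53323 (iv7 F305642)))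
theorem Q38337 : ∀ i, i < 38337 → P i := stepQ 38336 Q38336 (allL N38336 (tt N37530 F110526) (tt N19488 F110527) (tt N37529 F109935) (tt N19486 (iv3 D62808)) (tt N41043 F110528) (tt N42861 F307849) (tt N41042 F110529) (tt N37528 F98014))
theorem Q38338 : ∀ i, i < 38338 → P i := stepQ 38337 Q38337 (allL N38337 (tt N45593 F307908) (tt N45592 F307909) (tt N37527 F98019) (tt N41042 (iv3 F110530)) (tt N47304 (iv4 F305146)) (tt N21124 F98020) (tt N19486 (iv6 D62811)) (tt N41335 (iv7 F103952)))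
theorem Q38339 : ∀ i, i < 38339 → P i := stepQ 38338 Q38338 (allL N38338 (tt N37552 F184650) (tt N37562 F184656) (tt N37561 (iv2 F210517)) (tt N19487 (iv3 D62812)) (tt N69646 D133769) (tt N57485 (iv5 F166863)) (tt N42801 (iv6 F184645)) (tt N37526 F98021))
theorem Q38340 : ∀ i, i < 38340 → P i := stepQ 38339 Q38339 (allL N38339 (tt N19488 (iv1 D62815)) (tt N37530 F98024) (tt N37528 F110524) (tt N37561 F210518) (tt N42257 (iv4 F307122)) (tt N37634 (iv5 F98025)) (tt N25435 F305211) (tt N37529 (iv7 F110525)))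
theorem Q38341 : ∀ i, i < 38341 → P i := stepQ 38340 Q38340 (allL N38340 (tt N30413 F98039) (tt N30414 F98040) (tt N21969 F98036) (tt N29974 F98037) (tt N69647 D133772) (tt N19492 (iv5 D62818)) (tt N51480 (iv6 F145265)) (tt N21971 F98038))
theorem Q38342 : ∀ i, i < 38342 → P i := stepQ 38341 Q38341 (allL N38341 (tt N37372 F98042) (tt N64903 (iv0 F313752)) (tt N25230 (iv2 F313746)) (tt N25237 (iv3 F312458)) (tt N19493 (iv4 D62819)) (tt N69648 D133774) (tt N69649 D133775) (tt N37525 F98041))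
theorem Q38343 : ∀ i, i < 38343 → P i := stepQ 38342 Q38342 (allL N38342 (tt N69650 D133776) (tt N69651 D133777) (tt N65395 (iv2 F313749)) (tt N19494 F98043) (tt N69649 (iv4 F215399)) (tt N33832 F98044) (tt N19493 (iv6 D62820)) (tt N69652 D133778))
theorem Q38344 : ∀ i, i < 38344 → P i := stepQ 38343 Q38343 (allL N38343 (tt N41451 (iv1 F104257)) (tt N19494 (iv0 D62823)) (tt N37507 (iv2 F109895)) (tt N37549 F155492) (tt N63735 (iv4 F309022)) (tt N46198 (iv5 F122459)) (tt N21802 F98048) (tt N41450 (iv7 F104251)))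
theorem Q38345 : ∀ i, i < 38345 → P i := stepQ 38344 Q38344 (allL N38344 (tt N41450 (iv1 F104250)) (tt N37507 (iv0 F109893)) (tt N41451 (iv2 F104253)) (tt N69652 (iv3 F215402)) (tt N48165 (iv4 F310992)) (tt N22528 F316516) (tt N37530 F98050) (tt N19494 (iv7 D62825)))
theorem Q38346 : ∀ i, i < 38346 → P i := stepQ 38345 Q38345 (allL N38345 (tt N37208 (iv1 F98051)) (tt N19495 (iv0 D62826)) (tt N37216 F214139) (tt N35403 (iv3 F309114)) (tt N69653 D133782) (tt N20272 F211924) (tt N69654 D133783) (tt N37215 F214140))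
theorem Q38347 : ∀ i, i < 38347 → P i := stepQ 38346 Q38346 (allL N38346 (tt N19495 (iv1 D62827)) (tt N37208 F98056) (tt N37215 F214133) (tt N69655 D133784) (tt N38900 (iv4 F98981)) (tt N20273 F211927) (tt N43301 F311282) (tt N37216 F214134))
theorem Q38348 : ∀ i, i < 38348 → P i := stepQ 38347 Q38347 (allL N38347 (tt N37216 (iv1 F98057)) (tt N37215 F98055) (tt N19495 (iv2 D62828)) (tt N33946 (iv3 F307703)) (tt N19513 F98052) (tt N30646 F98053) (tt N22194 F305685) (tt N37208 F98054))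
theorem Q38349 : ∀ i, i < 38349 → P i := stepQ 38348 Q38348 (allL N38348 (tt N19496 (iv1 D62831)) (tt N22483 F302915) (tt N44436 (iv2 F112465)) (tt N33966 (iv3 F305260)) (tt N30507 (iv4 F112460)) (tt N30508 (iv5 F305261)) (tt N34126 (iv6 F305262)) (tt N21744 (iv7 F304561)))
theorem Q38350 : ∀ i, i < 38350 → P i := stepQ 38349 Q38349 (allL N38349 (tt N56116 (iv1 F305265)) (tt N48468 (iv0 F305266)) (tt N44437 (iv2 F112113)) (tt N43421 (iv3 F305263)) (tt N63653 (iv4 F305267)) (tt N19496 (iv5 D62832)) (tt N22800 (iv6 F305268)) (tt N63733 (iv7 F305269)))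
theorem Q38351 : ∀ i, i < 38351 → P i := stepQ 38350 Q38350 (allL N38350 (tt N37627 F98067) (tt N21981 F307956) (tt N19500 F98065) (tt N33862 (iv3 F309928)) (tt N19499 (iv4 D62843)) (tt N42295 (iv5 F309929)) (tt N69656 D133817) (tt N37625 F98066))
theorem Q38352 : ∀ i, i < 38352 → P i := stepQ 38351 Q38351 (allL N38351 (tt N69657 D133818) (tt N69658 D133819) (tt N19501 F98069) (tt N36460 F98070) (tt N69656 (iv4 F215474)) (tt N41664 (iv5 F104671)) (tt N19499 (iv6 D62844)) (tt N69659 D133820))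
theorem Q38353 : ∀ i, i < 38353 → P i := stepQ 38352 Q38352 (allL N38352 (tt N42294 (iv1 F312046)) (tt N42293 (iv0 F312066)) (tt N42295 F311210) (tt N23055 (iv3 F313517)) (tt N69660 D133821) (tt N19500 (iv5 D62845)) (tt N69661 D133822) (tt N37628 F98071))
theorem Q38354 : ∀ i, i < 38354 → P i := stepQ 38353 Q38353 (allL N38353 (tt N63334 (iv1 F313520)) (tt N69662 D133824) (tt N69656 (iv2 F215473)) (tt N23056 (iv3 F313518)) (tt N19501 F98072) (tt N62911 (iv5 F312301)) (tt N19500 (iv6 D62846)) (tt N62970 (iv7 F311401)))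
theorem Q38355 : ∀ i, i < 38355 → P i := stepQ 38354 Q38354 (allL N38354 (tt N69659 (iv1 F215481)) (tt N19501 (iv0 D62847)) (tt N69657 (iv2 F309933)) (tt N24192 (iv3 F309507)) (tt N24203 (iv4 F309513)) (tt N56069 (iv5 F320804)) (tt N24190 F307457) (tt N69658 (iv7 F309029)))
theorem Q38356 : ∀ i, i < 38356 → P i := stepQ 38355 Q38355 (allL N38355 (tt N19501 (iv1 D62848)) (tt N69659 F215480) (tt N69658 (iv2 F309028)) (tt N69663 D133833) (tt N69664 D133834) (tt N56070 (iv5 F340859)) (tt N69665 D133836) (tt N69657 (iv7 F309934)))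
theorem Q38357 : ∀ i, i < 38357 → P i := stepQ 38356 Q38356 (allL N38356 (tt N69658 (iv1 F215475)) (tt N69657 F215479) (tt N69659 (iv2 F215476)) (tt N19504 F98073) (tt N62970 (iv4 F311400)) (tt N41667 (iv5 F104679)) (tt N37632 F98074) (tt N19501 (iv7 D62849)))
theorem Q38358 : ∀ i, i < 38358 → P i := stepQ 38357 Q38357 (allL N38357 (tt N37583 F278614) (tt N37564 F278615) (tt N37581 (iv2 F325093)) (tt N19502 (iv3 D62851)) (tt N69666 D133840) (tt N69667 D133841) (tt N69668 D133842) (tt N37582 F323855))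
theorem Q38359 : ∀ i, i < 38359 → P i := stepQ 38358 Q38358 (allL N38358 (tt N62608 (iv1 F182794)) (tt N20989 (iv0 F104175)) (tt N37621 F182264) (tt N69667 (iv3 F215495)) (tt N62558 (iv4 F182311)) (tt N19502 (iv5 D62853)) (tt N41713 F315577) (tt N37623 (iv7 F182263)))
theorem Q38360 : ∀ i, i < 38360 → P i := stepQ 38359 Q38359 (allL N38359 (tt N19518 F104182) (tt N33793 F315378) (tt N37622 (iv2 F182270)) (tt N69668 (iv3 F215497)) (tt N45557 (iv4 F304581)) (tt N22511 F315379) (tt N19502 (iv6 D62854)) (tt N37648 (iv7 F182274)))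
theorem Q38361 : ∀ i, i < 38361 → P i := stepQ 38360 Q38360 (allL N38360 (tt N67102 F206643) (tt N37650 (iv0 F201247)) (tt N37624 F182279) (tt N39920 F316339) (tt N63778 (iv4 F321967)) (tt N39919 F316340) (tt N19503 (iv6 D62858)) (tt N40245 (iv7 F316500)))
theorem Q38362 : ∀ i, i < 38362 → P i := stepQ 38361 Q38361 (allL N38361 (tt N22181 F98080) (tt N22816 F98081) (tt N19506 F98078) (tt N42304 F309613) (tt N19505 (iv4 D62859)) (tt N24270 F310262) (tt N57424 (iv6 F209820)) (tt N36459 F98079))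
theorem Q38363 : ∀ i, i < 38363 → P i := stepQ 38362 Q38362 (allL N38362 (tt N25459 F307169) (tt N54141 (iv0 F309037)) (tt N19507 F98082) (tt N37626 F98083) (tt N57424 F209846) (tt N36433 F98084) (tt N19505 (iv6 D62860)) (tt N54140 (iv7 F309049)))
theorem Q38364 : ∀ i, i < 38364 → P i := stepQ 38363 Q38363 (allL N38363 (tt N19506 (iv1 D62861)) (tt N36459 F98085) (tt N22816 (iv2 F98088)) (tt N27730 (iv3 F311832)) (tt N22182 F98087) (tt N24249 F306680) (tt N22823 F185281) (tt N22181 F98086))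
theorem Q38365 : ∀ i, i < 38365 → P i := stepQ 38364 Q38364 (allL N38364 (tt N22817 F185294) (tt N43840 (iv0 F109845)) (tt N57424 F209845) (tt N63250 F209896) (tt N19507 F98090) (tt N65272 F200545) (tt N19506 (iv6 D62863)) (tt N69669 D133852))
theorem Q38366 : ∀ i, i < 38366 → P i := stepQ 38365 Q38365 (allL N38365 (tt N19507 (iv1 D62865)) (tt N54140 (iv0 F309043)) (tt N54141 (iv2 F309039)) (tt N46557 (iv3 F309604)) (tt N44529 F162876) (tt N25460 F307179) (tt N46556 (iv6 F309605)) (tt N25459 F307181))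
theorem Q38367 : ∀ i, i < 38367 → P i := stepQ 38366 Q38366 (allL N38366 (tt N54141 (iv1 F309038)) (tt N25459 F307177) (tt N54140 (iv2 F309044)) (tt N19510 F98091) (tt N69669 (iv4 F215537)) (tt N42859 (iv5 F107376)) (tt N37620 F98092) (tt N19507 (iv7 D62866)))
theorem Q38368 : ∀ i, i < 38368 → P i := stepQ 38367 Q38367 (allL N38367 (tt N37652 F166866) (tt N64028 (iv0 F307138)) (tt N37634 F110523) (tt N30686 F109844) (tt N69334 (iv4 F213762)) (tt N37528 (iv5 F109934)) (tt N19508 (iv6 D62871)) (tt N42861 F307850))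
theorem Q38369 : ∀ i, i < 38369 → P i := stepQ 38368 Q38368 (allL N38368 (tt N21579 (iv1 F184655)) (tt N37589 F184652) (tt N30687 F109936) (tt N19509 (iv3 D62873)) (tt N34206 (iv4 F309856)) (tt N56144 F163032) (tt N32853 F307839) (tt N37588 (iv7 F184627)))
theorem Q38370 : ∀ i, i < 38370 → P i := stepQ 38369 Q38369 (allL N38369 (tt N37646 F103954) (tt N19516 F103955) (tt N21745 F303820) (tt N32853 (iv3 F305855)) (tt N28140 (iv4 F304570)) (tt N32852 (iv5 F305856)) (tt N19509 (iv6 D62876)) (tt N37645 (iv7 F110542)))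
theorem Q38371 : ∀ i, i < 38371 → P i := stepQ 38370 Q38370 (allL N38370 (tt N69185 (iv1 F213228)) (tt N69670 D133857) (tt N69671 D133858) (tt N19511 (iv3 D62878)) (tt N38635 F98494) (tt N36119 F327907) (tt N36122 (iv6 F328286)) (tt N37210 F212005))
theorem Q38372 : ∀ i, i < 38372 → P i := stepQ 38371 Q38371 (allL N38371 (tt N69672 D133860) (tt N24220 (iv0 F310792)) (tt N37213 F212006) (tt N69673 D133862) (tt N19511 (iv4 D62879)) (tt N36618 (iv5 F310795)) (tt N69674 D133863) (tt N37211 F212007))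
theorem Q38373 : ∀ i, i < 38373 → P i := stepQ 38372 Q38372 (allL N38372 (tt N69675 D133864) (tt N69336 (iv0 F333391)) (tt N37214 F212008) (tt N36122 F328680) (tt N69674 (iv4 F215588)) (tt N36118 (iv5 F329083)) (tt N19511 (iv6 D62881)) (tt N69676 D133867))
theorem Q38374 : ∀ i, i < 38374 → P i := stepQ 38373 Q38373 (allL N38373 (tt N22996 (iv1 F310800)) (tt N23002 (iv0 F310801)) (tt N23000 (iv2 F310802)) (tt N19512 (iv3 D62883)) (tt N66819 (iv4 F310803)) (tt N68944 (iv5 F211990)) (tt N69677 D133871) (tt N22999 (iv7 F310785)))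
theorem Q38375 : ∀ i, i < 38375 → P i := stepQ 38374 Q38374 (allL N38374 (tt N24220 (iv1 F310793)) (tt N69672 F215578) (tt N37211 F211999) (tt N39891 (iv3 F100799)) (tt N19512 (iv4 D62884)) (tt N36619 (iv5 F310807)) (tt N23678 F310810) (tt N37213 F212000))
theorem Q38376 : ∀ i, i < 38376 → P i := stepQ 38375 Q38375 (allL N38375 (tt N69333 (iv1 F308672)) (tt N36441 (iv0 F308673)) (tt N37212 F212001) (tt N69677 (iv3 F215610)) (tt N23678 F310809) (tt N69678 D133875) (tt N19512 (iv6 D62886)) (tt N42818 (iv7 F308679)))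
theorem Q38377 : ∀ i, i < 38377 → P i := stepQ 38376 Q38376 (allL N38376 (tt N22991 (iv1 F303585)) (tt N36450 F303591) (tt N19514 F98100) (tt N37641 F98101) (tt N22194 (iv4 F303593)) (tt N43304 (iv5 F303594)) (tt N19513 (iv6 D62887)) (tt N36449 F303592))
theorem Q38378 : ∀ i, i < 38378 → P i := stepQ 38377 Q38377 (allL N38377 (tt N36450 (iv1 F303583)) (tt N22991 (iv0 F303584)) (tt N36449 (iv2 F303586)) (tt N19515 F98104) (tt N22193 (iv4 F303587)) (tt N23516 (iv5 F301046)) (tt N37219 F98105) (tt N19514 (iv7 D62891)))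
theorem Q38379 : ∀ i, i < 38379 → P i := stepQ 38378 Q38378 (allL N38378 (tt N21080 F98148) (tt N21093 (iv0 F98149)) (tt N21092 F98146) (tt N45225 (iv3 F305842)) (tt N69679 D133945) (tt N19516 (iv5 D62911)) (tt N23923 F303824) (tt N21091 F104185))
theorem Q38380 : ∀ i, i < 38380 → P i := stepQ 38379 Q38379 (allL N38379 (tt N37645 (iv1 F98153)) (tt N21745 (iv0 F302959)) (tt N37646 F98150) (tt N27738 (iv3 F303999)) (tt N48277 (iv4 F317766)) (tt N21091 (iv5 F104184)) (tt N33793 F315623) (tt N19516 (iv7 D62912)))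
theorem Q38381 : ∀ i, i < 38381 → P i := stepQ 38380 Q38380 (allL N38380 (tt N19517 (iv1 D62914)) (tt N36453 (iv0 F188413)) (tt N36455 (iv2 F188419)) (tt N34834 (iv3 F302944)) (tt N68593 (iv4 F211087)) (tt N24217 F302471) (tt N69643 (iv6 F215316)) (tt N36416 F188418))
theorem Q38382 : ∀ i, i < 38382 → P i := stepQ 38381 Q38381 (allL N38381 (tt N36416 (iv1 F188465)) (tt N36455 (iv0 F188466)) (tt N19517 (iv2 D62915)) (tt N21545 F303877) (tt N27723 (iv4 F304564)) (tt N23926 F303878) (tt N69680 D133946) (tt N36453 (iv7 F188416)))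
theorem Q38383 : ∀ i, i < 38383 → P i := stepQ 38382 Q38382 (allL N38382 (tt N69681 D133949) (tt N69682 D133950) (tt N69680 (iv2 F215804)) (tt N19518 F98162) (tt N46580 (iv4 F305909)) (tt N33802 F317819) (tt N19517 (iv6 D62917)) (tt N42299 F317820))
theorem Q38384 : ∀ i, i < 38384 → P i := stepQ 38383 Q38383 (allL N38383 (tt N33793 F315376) (tt N19518 (iv0 D62921)) (tt N37648 F182275) (tt N40246 F315894) (tt N45556 (iv4 F304580)) (tt N22510 F315377) (tt N40245 (iv6 F316499)) (tt N37622 F182273))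
theorem Q38385 : ∀ i, i < 38385 → P i := stepQ 38384 Q38384 (allL N38384 (tt N21547 F307429) (tt N37512 F215165) (tt N69624 (iv2 F248027)) (tt N19520 (iv3 D62925)) (tt N45230 (iv4 F309381)) (tt N33473 F316243) (tt N69683 D133965) (tt N37651 F208036))
theorem Q38386 : ∀ i, i < 38386 → P i := stepQ 38385 Q38385 (allL N38385 (tt N37624 F162561) (tt N40245 F318742) (tt N37650 (iv2 F208064)) (tt N69683 (iv3 F215882)) (tt N38917 F207995) (tt N44139 F110892) (tt N19520 (iv6 D62928)) (tt N67102 (iv7 F208061)))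
theorem Q38387 : ∀ i, i < 38387 → P i := stepQ 38386 Q38386 (allL N38386 (tt N36462 F209901) (tt N69643 F215317) (tt N22821 F209855) (tt N19521 (iv3 D62930)) (tt N22205 F209856) (tt N33468 F316246) (tt N22814 F209857) (tt N37649 (iv7 F208075)))
theorem Q38388 : ∀ i, i < 38388 → P i := stepQ 38387 Q38387 (allL N38387 (tt N42861 F307848) (tt N37634 (iv0 F167571)) (tt N37652 F208039) (tt N22814 F209859) (tt N38920 F208024) (tt N23085 F308986) (tt N19521 (iv6 D62933)) (tt N64028 F308987))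
theorem Q38389 : ∀ i, i < 38389 → P i := stepQ 38388 Q38388 (allL N38388 (tt N69684 D133969) (tt N69685 D133970) (tt N69686 D133971) (tt N19522 (iv3 D62934)) (tt N30430 F98178) (tt N69687 D133972) (tt N38688 (iv6 F98647)) (tt N31691 F98179))
theorem Q38390 : ∀ i, i < 38390 → P i := stepQ 38389 Q38389 (allL N38389 (tt N31595 F98183) (tt N31600 F98184) (tt N31652 F98180) (tt N69687 (iv3 F215899)) (tt N33256 F98182) (tt N19522 (iv5 D62935)) (tt N69688 D133973) (tt N31651 F98181))
theorem Q38391 : ∀ i, i < 38391 → P i := stepQ 38390 Q38390 (allL N38390 (tt N40047 (iv1 F101072)) (tt N19523 (iv0 D62936)) (tt N40046 F181258) (tt N59164 (iv3 F181244)) (tt N69689 D133974) (tt N69690 D133975) (tt N69691 D133976) (tt N40045 F181256))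
theorem Q38392 : ∀ i, i < 38392 → P i := stepQ 38391 Q38391 (allL N38391 (tt N19523 (iv1 D62937)) (tt N40047 F101074) (tt N40045 (iv2 F181257)) (tt N69692 D133977) (tt N69693 D133978) (tt N69694 D133979) (tt N69695 D133980) (tt N40046 (iv7 F181259)))
theorem Q38393 : ∀ i, i < 38393 → P i := stepQ 38392 Q38392 (allL N38392 (tt N40046 (iv1 F101073)) (tt N40045 F101070) (tt N19523 (iv2 D62938)) (tt N38402 (iv3 F98207)) (tt N60291 (iv4 F176145)) (tt N69696 D133981) (tt N31556 F98185) (tt N40047 (iv7 F101071)))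
theorem Q38394 : ∀ i, i < 38394 → P i := stepQ 38393 Q38393 (allL N38393 (tt N69697 D133982) (tt N69698 D133983) (tt N69696 (iv2 F215908)) (tt N19524 F98186) (tt N69699 D133984) (tt N19523 (iv5 D62939)) (tt N64792 (iv6 F329925)) (tt N40048 (iv7 F101076)))
theorem Q38395 : ∀ i, i < 38395 → P i := stepQ 38394 Q38394 (allL N38394 (tt N31600 F98190) (tt N31595 F98191) (tt N31651 F98187) (tt N69700 D133986) (tt N19524 (iv4 D62940)) (tt N31605 F98188) (tt N64794 (iv6 F329927)) (tt N31652 F98189))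
theorem Q38396 : ∀ i, i < 38396 → P i := stepQ 38395 Q38395 (allL N38395 (tt N69701 D133991) (tt N69702 D133992) (tt N69703 D133993) (tt N19525 (iv3 D62942)) (tt N19528 F98193) (tt N69704 D133994) (tt N31566 F98194) (tt N55926 (iv7 F162169)))
theorem Q38397 : ∀ i, i < 38397 → P i := stepQ 38396 Q38396 (allL N38396 (tt N55855 (iv1 F161955)) (tt N55858 (iv0 F161964)) (tt N39239 (iv2 F99692)) (tt N69704 (iv3 F215918)) (tt N31051 F98195) (tt N19525 (iv5 D62943)) (tt N69705 D133995) (tt N55900 (iv7 F162077)))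
theorem Q38398 : ∀ i, i < 38398 → P i := stepQ 38397 Q38397 (allL N38397 (tt N59550 F173119) (tt N35782 (iv0 F168010)) (tt N31751 F98196) (tt N35674 F98197) (tt N31621 F98198) (tt N30692 F98199) (tt N19526 (iv6 D62944)) (tt N69706 D133996))
theorem Q38399 : ∀ i, i < 38399 → P i := stepQ 38398 Q38398 (allL N38398 (tt N33259 F98203) (tt N30907 F98204) (tt N31422 F98200) (tt N62039 (iv3 F179859)) (tt N31620 F98201) (tt N19527 (iv5 D62945)) (tt N69707 D133997) (tt N31430 F98202))
theorem Q38400 : ∀ i, i < 38400 → P i := stepQ 38399 Q38399 (allL N38399 (tt N20541 (iv1 F101851)) (tt N20545 (iv0 F98753)) (tt N31423 F98205) (tt N62040 (iv3 F179861)) (tt N31395 F98206) (tt N38757 F329660) (tt N19527 (iv6 D62946)) (tt N38756 (iv7 F329780)))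
theorem Q38401 : ∀ i, i < 38401 → P i := stepQ 38400 Q38400 (allL N38400 (tt N62250 (iv1 F180483)) (tt N19528 (iv0 D62947)) (tt N62249 (iv2 F180478)) (tt N69708 D134000) (tt N69709 D134001) (tt N69710 D134002) (tt N69711 D134003) (tt N62248 F180479))
theorem Q38402 : ∀ i, i < 38402 → P i := stepQ 38401 Q38401 (allL N38401 (tt N19528 (iv1 D62948)) (tt N62250 F180484) (tt N62248 F180477) (tt N40946 (iv3 F103066)) (tt N69712 D134004) (tt N69713 D134005) (tt N69714 D134006) (tt N62249 (iv7 F180476)))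
theorem Q38403 : ∀ i, i < 38403 → P i := stepQ 38402 Q38402 (allL N38402 (tt N62249 (iv1 F180480)) (tt N62248 F180473) (tt N19528 (iv2 D62949)) (tt N38392 F98207) (tt N69703 (iv4 F215916)) (tt N69715 D134007) (tt N31585 F98208) (tt N62250 (iv7 F180482)))
theorem Q38404 : ∀ i, i < 38404 → P i := stepQ 38403 Q38403 (allL N38403 (tt N61386 (iv1 F353534)) (tt N69716 D134009) (tt N69715 (iv2 F215939)) (tt N19529 F98209) (tt N69717 D134010) (tt N19528 (iv5 D62950)) (tt N69718 D134011) (tt N62251 (iv7 F180486)))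
theorem Q38405 : ∀ i, i < 38405 → P i := stepQ 38404 Q38404 (allL N38404 (tt N20301 (iv1 F98213)) (tt N19529 (iv0 D62951)) (tt N31408 (iv2 F98212)) (tt N69719 D134012) (tt N31628 F98211) (tt N20310 F98210) (tt N69720 D134013) (tt N31417 F98214))
theorem Q38406 : ∀ i, i < 38406 → P i := stepQ 38405 Q38405 (allL N38405 (tt N69721 D134014) (tt N69722 D134015) (tt N35139 F329923) (tt N69718 (iv3 F215941)) (tt N59445 (iv4 F172894)) (tt N31590 F98216) (tt N19529 (iv6 D62952)) (tt N35135 (iv7 F329959)))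
theorem Q38407 : ∀ i, i < 38407 → P i := stepQ 38406 Q38406 (allL N38406 (tt N20200 F98220) (tt N20202 F98221) (tt N19548 F98217) (tt N69723 D134017) (tt N19530 (iv4 D62953)) (tt N31588 F98219) (tt N69724 D134018) (tt N19564 F98218))
theorem Q38408 : ∀ i, i < 38408 → P i := stepQ 38407 Q38407 (allL N38407 (tt N44453 F112151) (tt N69725 D134019) (tt N19549 F98222) (tt N30582 F98223) (tt N69724 (iv4 F215957)) (tt N36670 F98224) (tt N19530 (iv6 D62954)) (tt N69726 D134020))
theorem Q38409 : ∀ i, i < 38409 → P i := stepQ 38408 Q38408 (allL N38408 (tt N69727 D134022) (tt N69728 D134023) (tt N69729 D134024) (tt N19531 (iv3 D62956)) (tt N61668 (iv4 F179204)) (tt N69730 D134025) (tt N58229 (iv6 F169034)) (tt N19567 F98229))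
theorem Q38410 : ∀ i, i < 38410 → P i := stepQ 38409 Q38409 (allL N38409 (tt N58048 (iv1 F168758)) (tt N31385 F98233) (tt N19556 F98230) (tt N69730 (iv3 F215989)) (tt N31589 F98232) (tt N19531 (iv5 D62957)) (tt N63923 (iv6 F356363)) (tt N19568 F98231))
theorem Q38411 : ∀ i, i < 38411 → P i := stepQ 38410 Q38410 (allL N38410 (tt N69731 D134027) (tt N64694 (iv0 F329131)) (tt N69732 D134029) (tt N19532 (iv3 D62958)) (tt N36767 F98234) (tt N69733 D134030) (tt N69734 D134031) (tt N19555 F98235))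
theorem Q38412 : ∀ i, i < 38412 → P i := stepQ 38411 Q38411 (allL N38411 (tt N31385 F98239) (tt N58048 (iv0 F168757)) (tt N19568 F98236) (tt N69733 (iv3 F216002)) (tt N31588 F98237) (tt N19532 (iv5 D62959)) (tt N64789 (iv6 F342806)) (tt N19556 F98238))
theorem Q38413 : ∀ i, i < 38413 → P i := stepQ 38412 Q38412 (allL N38412 (tt N69735 D134033) (tt N38730 (iv0 F98711)) (tt N19569 F98240) (tt N69734 (iv3 F216004)) (tt N19533 F98241) (tt N61799 (iv5 F331018)) (tt N19532 (iv6 D62960)) (tt N68347 (iv7 F209719)))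
theorem Q38414 : ∀ i, i < 38414 → P i := stepQ 38413 Q38413 (allL N38413 (tt N69736 D134035) (tt N69737 D134036) (tt N69738 D134037) (tt N19534 (iv3 D62961)) (tt N55835 (iv4 F161907)) (tt N69739 D134038) (tt N69740 D134039) (tt N19584 F98242))
theorem Q38415 : ∀ i, i < 38415 → P i := stepQ 38414 Q38414 (allL N38414 (tt N35070 F329639) (tt N34916 F329640) (tt N19577 F98243) (tt N69739 (iv3 F216025)) (tt N31581 F98244) (tt N19534 (iv5 D62962)) (tt N69741 D134040) (tt N19585 F98245))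
theorem Q38416 : ∀ i, i < 38416 → P i := stepQ 38415 Q38415 (allL N38415 (tt N69742 D134041) (tt N67805 (iv0 F207863)) (tt N19578 F98246) (tt N69740 (iv3 F216027)) (tt N19535 F98247) (tt N69743 D134042) (tt N19534 (iv6 D62963)) (tt N69744 D134043))
theorem Q38417 : ∀ i, i < 38417 → P i := stepQ 38416 Q38416 (allL N38416 (tt N19535 (iv1 D62965)) (tt N19581 F98250) (tt N19580 F101127) (tt N38673 F168229) (tt N68689 (iv4 F211393)) (tt N40056 (iv5 F101083)) (tt N69745 D134044) (tt N19579 F101128))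
theorem Q38418 : ∀ i, i < 38418 → P i := stepQ 38417 Q38417 (allL N38417 (tt N19580 (iv1 F98254)) (tt N19579 (iv0 F98255)) (tt N19581 F98251) (tt N61672 (iv3 F179221)) (tt N69744 (iv4 F216037)) (tt N20323 F98252) (tt N19589 F98253) (tt N19535 (iv7 D62966)))
theorem Q38419 : ∀ i, i < 38419 → P i := stepQ 38418 Q38418 (allL N38418 (tt N69746 D134045) (tt N69747 D134046) (tt N69748 D134047) (tt N19536 (iv3 D62967)) (tt N19809 F98256) (tt N69749 D134048) (tt N69750 D134049) (tt N19590 F98257))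
theorem Q38420 : ∀ i, i < 38420 → P i := stepQ 38419 Q38419 (allL N38419 (tt N34900 F328718) (tt N35012 F328719) (tt N19594 F98258) (tt N69749 (iv3 F216053)) (tt N20237 F98259) (tt N19536 (iv5 D62968)) (tt N69751 D134050) (tt N19591 F98260))
theorem Q38421 : ∀ i, i < 38421 → P i := stepQ 38420 Q38420 (allL N38420 (tt N58040 (iv1 F168733)) (tt N38863 F168435) (tt N19595 F98262) (tt N69750 (iv3 F216055)) (tt N31390 F98263) (tt N69752 D134051) (tt N19536 (iv6 D62969)) (tt N69753 D134052))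
theorem Q38422 : ∀ i, i < 38422 → P i := stepQ 38421 Q38421 (allL N38421 (tt N69754 D134053) (tt N19537 (iv0 D62970)) (tt N69755 D134054) (tt N69756 D134055) (tt N69757 D134056) (tt N63813 (iv5 F355304)) (tt N69758 D134058) (tt N69759 D134059))
theorem Q38423 : ∀ i, i < 38423 → P i := stepQ 38422 Q38422 (allL N38422 (tt N19537 (iv1 D62971)) (tt N69754 F216069) (tt N69759 (iv2 F216071)) (tt N69760 D134060) (tt N69761 D134061) (tt N69762 D134062) (tt N69763 D134063) (tt N69755 F216070))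
theorem Q38424 : ∀ i, i < 38424 → P i := stepQ 38423 Q38423 (allL N38423 (tt N69755 (iv1 F355339)) (tt N69759 (iv0 F355347)) (tt N19537 (iv2 D62972)) (tt N19598 F98264) (tt N38680 (iv4 F98619)) (tt N69764 D134066) (tt N38680 (iv6 F98620)) (tt N69754 (iv7 F216068)))
theorem Q38425 : ∀ i, i < 38425 → P i := stepQ 38424 Q38424 (allL N38424 (tt N61548 (iv1 F377405)) (tt N69765 D134068) (tt N69764 (iv2 F216074)) (tt N19538 F98265) (tt N69766 D134069) (tt N19537 (iv5 D62973)) (tt N69767 D134070) (tt N59271 (iv7 F172437)))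
theorem Q38426 : ∀ i, i < 38426 → P i := stepQ 38425 Q38425 (allL N38425 (tt N69759 (iv1 F355348)) (tt N69755 (iv0 F355338)) (tt N69754 F216066) (tt N19539 F98266) (tt N38682 (iv4 F98623)) (tt N59271 (iv5 F172436)) (tt N69768 D134071) (tt N19537 (iv7 D62974)))
theorem Q38427 : ∀ i, i < 38427 → P i := stepQ 38426 Q38426 (allL N38426 (tt N19538 (iv1 D62975)) (tt N19605 F98267) (tt N19602 (iv2 F98271)) (tt N69769 D134072) (tt N20206 F98270) (tt N31388 F98269) (tt N69770 D134073) (tt N19601 F98268))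
theorem Q38428 : ∀ i, i < 38428 → P i := stepQ 38427 Q38427 (allL N38427 (tt N59217 (iv1 F341416)) (tt N64412 (iv0 F356495)) (tt N19604 F98272) (tt N69767 (iv3 F216076)) (tt N59272 (iv4 F172441)) (tt N38685 (iv5 F98635)) (tt N19538 (iv6 D62976)) (tt N69771 D134076))
theorem Q38429 : ∀ i, i < 38429 → P i := stepQ 38428 Q38428 (allL N38428 (tt N38829 (iv1 F98837)) (tt N38828 F98836) (tt N19606 F98273) (tt N69768 (iv3 F216077)) (tt N19540 F98274) (tt N69772 D134077) (tt N19539 (iv6 D62977)) (tt N38687 (iv7 F98643)))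
theorem Q38430 : ∀ i, i < 38430 → P i := stepQ 38429 Q38429 (allL N38429 (tt N69773 D134078) (tt N69774 D134079) (tt N69775 D134080) (tt N19542 (iv3 D62978)) (tt N19555 F98275) (tt N67216 (iv5 F206934)) (tt N44619 F328765) (tt N36767 F98276))
theorem Q38431 : ∀ i, i < 38431 → P i := stepQ 38430 Q38430 (allL N38430 (tt N37868 F164133) (tt N60470 (iv0 F328348)) (tt N36732 F98277) (tt N44619 (iv3 F328352)) (tt N19543 F98278) (tt N35902 F327960) (tt N19542 (iv6 D62979)) (tt N46546 F327961))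
theorem Q38432 : ∀ i, i < 38432 → P i := stepQ 38431 Q38431 (allL N38431 (tt N36733 (iv1 F98286)) (tt N19543 (iv0 D62980)) (tt N32290 F165658) (tt N19796 F165580) (tt N32407 F332786) (tt N29486 F98280) (tt N30047 F98279) (tt N32288 (iv7 F165643)))
theorem Q38433 : ∀ i, i < 38433 → P i := stepQ 38432 Q38432 (allL N38432 (tt N19543 (iv1 D62981)) (tt N36733 F98281) (tt N32288 (iv2 F165641)) (tt N38941 (iv3 F167951)) (tt N36756 F173156) (tt N29485 (iv5 F98282)) (tt N69776 D134083) (tt N32290 (iv7 F165664)))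
theorem Q38434 : ∀ i, i < 38434 → P i := stepQ 38433 Q38433 (allL N38433 (tt N32288 (iv1 F98287)) (tt N32290 F98288) (tt N36733 F98283) (tt N19559 F98284) (tt N46546 (iv4 F327599)) (tt N55611 (iv5 F161085)) (tt N30286 F98285) (tt N19543 (iv7 D62982)))
theorem Q38435 : ∀ i, i < 38435 → P i := stepQ 38434 Q38434 (allL N38434 (tt N31450 (iv1 F98293)) (tt N31449 F98294) (tt N31403 F98289) (tt N37794 F98290) (tt N39924 (iv4 F100870)) (tt N38434 F98291) (tt N19545 (iv6 D62983)) (tt N31398 F98292))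
theorem Q38436 : ∀ i, i < 38436 → P i := stepQ 38435 Q38435 (allL N38435 (tt N69777 D134084) (tt N67734 F209080) (tt N41198 (iv2 F103621)) (tt N58828 (iv3 F170850)) (tt N39864 (iv4 F100760)) (tt N30738 F98295) (tt N19546 (iv6 D62984)) (tt N66348 (iv7 F204035)))
theorem Q38437 : ∀ i, i < 38437 → P i := stepQ 38436 Q38436 (allL N38436 (tt N69778 D134085) (tt N43757 (iv0 F354226)) (tt N69779 D134087) (tt N19548 (iv3 D62985)) (tt N48084 F320617) (tt N59268 (iv5 F172432)) (tt N66944 (iv6 F356744)) (tt N57346 (iv7 F166263)))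
theorem Q38438 : ∀ i, i < 38438 → P i := stepQ 38437 Q38437 (allL N38437 (tt N59222 (iv1 F172366)) (tt N59223 (iv0 F172365)) (tt N69724 (iv2 F215956)) (tt N66944 (iv3 F356743)) (tt N19549 F98296) (tt N69780 D134089) (tt N19548 (iv6 D62986)) (tt N69781 D134090))
theorem Q38439 : ∀ i, i < 38439 → P i := stepQ 38438 Q38438 (allL N38438 (tt N69726 (iv1 F215973)) (tt N19549 (iv0 D62987)) (tt N44453 (iv2 F112148)) (tt N65450 (iv3 F201740)) (tt N39871 (iv4 F171766)) (tt N59018 F171760) (tt N31410 F112149) (tt N69725 (iv7 F215961)))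
theorem Q38440 : ∀ i, i < 38440 → P i := stepQ 38439 Q38439 (allL N38439 (tt N19549 (iv1 D62988)) (tt N69726 F215972) (tt N69725 (iv2 F215964)) (tt N31455 F111423) (tt N39872 F111424) (tt N41179 (iv5 F111422)) (tt N69782 D134091) (tt N44453 (iv7 F112147)))
theorem Q38441 : ∀ i, i < 38441 → P i := stepQ 38440 Q38440 (allL N38440 (tt N69725 (iv1 F215960)) (tt N44453 F215967) (tt N69726 (iv2 F215968)) (tt N44463 F112181) (tt N69781 (iv4 F216112)) (tt N55942 (iv5 F162203)) (tt N57349 (iv6 F166276)) (tt N19549 (iv7 D62989)))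
theorem Q38442 : ∀ i, i < 38442 → P i := stepQ 38441 Q38441 (allL N38441 (tt N69783 D134092) (tt N69784 D134093) (tt N69785 D134094) (tt N19551 (iv3 D62990)) (tt N38719 (iv4 F98688)) (tt N45232 (iv5 F328715)) (tt N64440 F328333) (tt N68234 (iv7 F209316)))
theorem Q38443 : ∀ i, i < 38443 → P i := stepQ 38442 Q38442 (allL N38442 (tt N38137 F98303) (tt N19552 (iv0 D62993)) (tt N38135 (iv2 F102138)) (tt N68165 F209211) (tt N64457 (iv4 F329056)) (tt N33311 F98302) (tt N38572 (iv6 F98430)) (tt N38136 (iv7 F102140)))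
theorem Q38444 : ∀ i, i < 38444 → P i := stepQ 38443 Q38443 (allL N38443 (tt N19552 (iv1 D62994)) (tt N38137 F98304) (tt N38136 F102141) (tt N68300 (iv3 F209501)) (tt N46663 (iv4 F329054)) (tt N39972 (iv5 F100943)) (tt N38723 F102143) (tt N38135 F102139))
theorem Q38445 : ∀ i, i < 38445 → P i := stepQ 38444 Q38444 (allL N38444 (tt N38136 (iv1 F98308)) (tt N38135 F98309) (tt N38137 F98305) (tt N38724 (iv3 F98698)) (tt N64280 (iv4 F328255)) (tt N30750 F98306) (tt N38256 F98307) (tt N19552 (iv7 D62995)))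
theorem Q38446 : ∀ i, i < 38446 → P i := stepQ 38445 Q38445 (allL N38445 (tt N69786 D134104) (tt N67781 (iv0 F207834)) (tt N69787 D134105) (tt N19553 (iv3 D62996)) (tt N37874 F98310) (tt N64454 (iv5 F329643)) (tt N64456 (iv6 F329059)) (tt N67520 (iv7 F207343)))
theorem Q38447 : ∀ i, i < 38447 → P i := stepQ 38446 Q38446 (allL N38446 (tt N69788 D134111) (tt N69789 D134112) (tt N69790 D134113) (tt N19554 (iv3 D62999)) (tt N38224 F98314) (tt N64671 (iv5 F329683)) (tt N69791 D134115) (tt N64670 (iv7 F329636)))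
theorem Q38448 : ∀ i, i < 38448 → P i := stepQ 38447 Q38447 (allL N38447 (tt N38670 F98594) (tt N38757 F98752) (tt N38755 (iv2 F98749)) (tt N69791 (iv3 F216164)) (tt N37654 F98317) (tt N39860 (iv5 F329465)) (tt N19554 (iv6 D63001)) (tt N38754 F203484))
theorem Q38449 : ∀ i, i < 38449 → P i := stepQ 38448 Q38448 (allL N38448 (tt N69732 (iv1 F215999)) (tt N19555 (iv0 D63002)) (tt N64694 (iv2 F336388)) (tt N54262 (iv3 F336390)) (tt N69792 D134120) (tt N22354 (iv5 F336393)) (tt N22355 (iv6 F336394)) (tt N69731 (iv7 F347332)))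
theorem Q38450 : ∀ i, i < 38450 → P i := stepQ 38449 Q38449 (allL N38449 (tt N19555 (iv1 D63003)) (tt N69732 F216001) (tt N69731 (iv2 F347330)) (tt N69793 D134124) (tt N69794 D134125) (tt N64695 (iv5 F336386)) (tt N69795 D134127) (tt N64694 (iv7 F336389)))
theorem Q38451 : ∀ i, i < 38451 → P i := stepQ 38450 Q38450 (allL N38450 (tt N64694 (iv1 F329132)) (tt N69731 F215994) (tt N19555 (iv2 D63004)) (tt N69729 (iv3 F215985)) (tt N69775 (iv4 F216090)) (tt N49630 (iv5 F329135)) (tt N27275 F328768) (tt N69732 (iv7 F215998)))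
theorem Q38452 : ∀ i, i < 38452 → P i := stepQ 38451 Q38451 (allL N38451 (tt N69796 D134130) (tt N69797 D134131) (tt N49630 (iv2 F329134)) (tt N19556 F98318) (tt N69798 D134132) (tt N19555 (iv5 D63005)) (tt N48645 (iv6 F329137)) (tt N69733 (iv7 F216003)))
theorem Q38453 : ∀ i, i < 38453 → P i := stepQ 38452 Q38452 (allL N38452 (tt N19568 (iv1 F98322)) (tt N19556 (iv0 D63007)) (tt N58048 (iv2 F168754)) (tt N69799 D134138) (tt N31402 F98321) (tt N19575 F98320) (tt N35130 F341484) (tt N31385 F98323))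
theorem Q38454 : ∀ i, i < 38454 → P i := stepQ 38453 Q38453 (allL N38453 (tt N58230 F169041) (tt N19557 (iv0 D63009)) (tt N58227 F170717) (tt N69800 D134144) (tt N37658 F168001) (tt N48669 (iv5 F327407)) (tt N38737 (iv6 F168002)) (tt N58228 F170715))
theorem Q38455 : ∀ i, i < 38455 → P i := stepQ 38454 Q38454 (allL N38454 (tt N19557 (iv1 D63010)) (tt N58230 F169040) (tt N58228 (iv2 F170716)) (tt N69801 D134146) (tt N37659 F171517) (tt N48670 F328517) (tt N69802 D134148) (tt N58227 (iv7 F170718)))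
theorem Q38456 : ∀ i, i < 38456 → P i := stepQ 38455 Q38455 (allL N38455 (tt N58228 (iv1 F169030)) (tt N58227 F169039) (tt N58230 (iv2 F169036)) (tt N26381 (iv3 F327602)) (tt N19559 F98324) (tt N26380 (iv5 F327603)) (tt N68347 (iv6 F209718)) (tt N19557 (iv7 D63012)))
theorem Q38457 : ∀ i, i < 38457 → P i := stepQ 38456 Q38456 (allL N38456 (tt N53457 (iv1 F325974)) (tt N58941 F171509) (tt N28061 F325957) (tt N69803 D134153) (tt N19558 (iv4 D63015)) (tt N28056 (iv5 F326771)) (tt N38741 (iv6 F98719)) (tt N28064 (iv7 F325980)))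
theorem Q38458 : ∀ i, i < 38458 → P i := stepQ 38457 Q38457 (allL N38457 (tt N19780 F98331) (tt N38747 F98744) (tt N33120 F98327) (tt N29942 F98328) (tt N36991 F98329) (tt N29937 F98330) (tt N19560 (iv6 D63020)) (tt N38745 (iv7 F98738)))
theorem Q38459 : ∀ i, i < 38459 → P i := stepQ 38458 Q38458 (allL N38458 (tt N69804 D134155) (tt N69805 D134156) (tt N69806 D134157) (tt N19561 (iv3 D63021)) (tt N19567 F98332) (tt N69807 D134158) (tt N69808 D134159) (tt N61668 (iv7 F179205)))
theorem Q38460 : ∀ i, i < 38460 → P i := stepQ 38459 Q38459 (allL N38459 (tt N29610 F98334) (tt N37796 F98335) (tt N55846 F161938) (tt N69807 (iv3 F216188)) (tt N19973 F98333) (tt N19561 (iv5 D63022)) (tt N69809 D134160) (tt N55845 F161933))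
theorem Q38461 : ∀ i, i < 38461 → P i := stepQ 38460 Q38460 (allL N38460 (tt N67528 (iv1 F207356)) (tt N36107 (iv0 F98337)) (tt N61670 (iv2 F179208)) (tt N69808 (iv3 F216189)) (tt N19562 F98336) (tt N69810 D134161) (tt N19561 (iv6 D63023)) (tt N67526 (iv7 F207349)))
theorem Q38462 : ∀ i, i < 38462 → P i := stepQ 38461 Q38461 (allL N38461 (tt N39613 (iv1 F100496)) (tt N19562 (iv0 D63024)) (tt N38237 (iv2 F98338)) (tt N30054 F98339) (tt N37001 (iv4 F162110)) (tt N39598 (iv5 F100466)) (tt N69811 D134162) (tt N38742 F98732))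
theorem Q38463 : ∀ i, i < 38463 → P i := stepQ 38462 Q38462 (allL N38462 (tt N38742 (iv1 F98729)) (tt N38237 F98730) (tt N39613 F100498) (tt N19572 F98340) (tt N67526 (iv4 F207350)) (tt N39537 (iv5 F100406)) (tt N58197 (iv6 F168998)) (tt N19562 (iv7 D63025)))
theorem Q38464 : ∀ i, i < 38464 → P i := stepQ 38463 Q38463 (allL N38463 (tt N66263 (iv1 F203865)) (tt N20802 (iv0 F98343)) (tt N30598 F98341) (tt N19565 F98342) (tt N61845 (iv4 F179610)) (tt N56482 (iv5 F163795)) (tt N19563 (iv6 D63026)) (tt N66262 (iv7 F203857)))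
theorem Q38465 : ∀ i, i < 38465 → P i := stepQ 38464 Q38464 (allL N38464 (tt N69812 D134163) (tt N69813 D134164) (tt N69814 D134165) (tt N19564 (iv3 D63027)) (tt N44276 (iv4 F111524)) (tt N59270 (iv5 F172434)) (tt N69815 D134166) (tt N69723 (iv7 F215955)))
theorem Q38466 : ∀ i, i < 38466 → P i := stepQ 38465 Q38465 (allL N38465 (tt N44341 F111706) (tt N20321 (iv0 F98345)) (tt N57347 (iv2 F166264)) (tt N69815 (iv3 F216201)) (tt N19565 F98344) (tt N69816 D134167) (tt N19564 (iv6 D63028)) (tt N62261 (iv7 F180506)))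
theorem Q38467 : ∀ i, i < 38467 → P i := stepQ 38466 Q38466 (allL N38466 (tt N57349 (iv1 F166278)) (tt N19565 (iv0 D63029)) (tt N57348 F166270) (tt N21012 (iv3 F101616)) (tt N40113 F101618) (tt N37715 F101619) (tt N40342 F101615) (tt N21009 (iv7 F101617)))
theorem Q38468 : ∀ i, i < 38468 → P i := stepQ 38467 Q38467 (allL N38467 (tt N68939 F211964) (tt N69817 D134168) (tt N36722 F98346) (tt N56482 (iv3 F163793)) (tt N69818 D134169) (tt N19565 (iv5 D63030)) (tt N19566 F98347) (tt N69819 D134170))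
theorem Q38469 : ∀ i, i < 38469 → P i := stepQ 38468 Q38468 (allL N38468 (tt N21009 (iv1 F98348)) (tt N57348 F166272) (tt N57349 (iv2 F166273)) (tt N66262 F203858) (tt N62261 F180508) (tt N69819 (iv5 F216212)) (tt N69726 (iv6 F215971)) (tt N19565 (iv7 D63031)))
theorem Q38470 : ∀ i, i < 38470 → P i := stepQ 38469 Q38469 (allL N38469 (tt N19656 F98351) (tt N19655 F98352) (tt N19685 F98349) (tt N69360 (iv3 F214020)) (tt N19566 (iv4 D63032)) (tt N38771 (iv5 F98783)) (tt N69818 (iv6 F216207)) (tt N19686 F98350))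
theorem Q38471 : ∀ i, i < 38471 → P i := stepQ 38470 Q38470 (allL N38470 (tt N69729 (iv1 F215987)) (tt N19567 (iv0 D63033)) (tt N69728 (iv2 F215982)) (tt N69820 D134171) (tt N69821 D134172) (tt N69822 D134173) (tt N69823 D134174) (tt N69727 F215983))
theorem Q38472 : ∀ i, i < 38472 → P i := stepQ 38471 Q38471 (allL N38471 (tt N19567 (iv1 D63034)) (tt N69729 F215988) (tt N69727 F215981) (tt N69824 D134175) (tt N68899 (iv4 F211853)) (tt N64466 (iv5 F338487)) (tt N64467 (iv6 F338474)) (tt N69728 (iv7 F215980)))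
theorem Q38473 : ∀ i, i < 38473 → P i := stepQ 38472 Q38472 (allL N38472 (tt N69728 (iv1 F215984)) (tt N69727 F215978) (tt N19567 (iv2 D63035)) (tt N69732 (iv3 F215996)) (tt N69806 (iv4 F216187)) (tt N69825 D134178) (tt N69826 D134179) (tt N69729 (iv7 F215986)))
theorem Q38474 : ∀ i, i < 38474 → P i := stepQ 38473 Q38473 (allL N38473 (tt N69827 D134180) (tt N69828 D134181) (tt N69825 (iv2 F216221)) (tt N19568 F98353) (tt N44899 F331622) (tt N19567 (iv5 D63036)) (tt N69829 D134183) (tt N69730 (iv7 F215990)))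
theorem Q38475 : ∀ i, i < 38475 → P i := stepQ 38474 Q38474 (allL N38474 (tt N69830 D134184) (tt N39440 (iv0 F330976)) (tt N69826 (iv2 F216222)) (tt N19569 F98354) (tt N69808 (iv4 F216190)) (tt N58897 (iv5 F330978)) (tt N19567 (iv6 D63037)) (tt N69831 D134187))
theorem Q38476 : ∀ i, i < 38476 → P i := stepQ 38475 Q38475 (allL N38475 (tt N64492 (iv1 F341471)) (tt N38559 F342818) (tt N64789 (iv2 F342804)) (tt N69829 (iv3 F216223)) (tt N59269 (iv4 F172433)) (tt N69832 D134190) (tt N19568 (iv6 D63038)) (tt N64762 (iv7 F356450)))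
theorem Q38477 : ∀ i, i < 38477 → P i := stepQ 38476 Q38476 (allL N38476 (tt N68347 F209721) (tt N19569 (iv0 D63039)) (tt N69735 F216009) (tt N39459 F327702) (tt N58953 F203283) (tt N39457 (iv5 F328194)) (tt N50919 (iv6 F328201)) (tt N38730 (iv7 F203284)))
theorem Q38478 : ∀ i, i < 38478 → P i := stepQ 38477 Q38477 (allL N38477 (tt N19569 (iv1 D63040)) (tt N68347 (iv0 F209720)) (tt N38730 F98777) (tt N69833 D134195) (tt N37813 F98778) (tt N69834 D134196) (tt N37812 (iv6 F98775)) (tt N69735 (iv7 F216011)))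
theorem Q38479 : ∀ i, i < 38479 → P i := stepQ 38478 Q38478 (allL N38478 (tt N69835 D134197) (tt N69836 D134198) (tt N61799 (iv2 F331017)) (tt N58897 (iv3 F330977)) (tt N61797 (iv4 F362205)) (tt N19569 (iv5 D63041)) (tt N69832 (iv6 F216226)) (tt N61804 (iv7 F331021)))
theorem Q38480 : ∀ i, i < 38480 → P i := stepQ 38479 Q38479 (allL N38479 (tt N38730 (iv1 F98712)) (tt N69735 F216010) (tt N68347 (iv2 F209717)) (tt N69831 (iv3 F216225)) (tt N19572 F98355) (tt N61804 (iv5 F331020)) (tt N58230 (iv6 F169038)) (tt N19569 (iv7 D63042)))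
theorem Q38481 : ∀ i, i < 38481 → P i := stepQ 38480 Q38480 (allL N38480 (tt N44324 F111645) (tt N68349 F209728) (tt N33312 F98356) (tt N69837 D134201) (tt N19570 (iv4 D63043)) (tt N39419 (iv5 F327510)) (tt N36724 F98357) (tt N68348 (iv7 F209723)))
theorem Q38482 : ∀ i, i < 38482 → P i := stepQ 38481 Q38481 (allL N38481 (tt N19571 (iv1 D63045)) (tt N20471 F98358) (tt N38259 (iv2 F163939)) (tt N38759 F168310) (tt N69838 D134203) (tt N58041 (iv5 F168736)) (tt N20449 F101257) (tt N40153 F101258))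
theorem Q38483 : ∀ i, i < 38483 → P i := stepQ 38482 Q38482 (allL N38482 (tt N69839 D134204) (tt N69840 D134205) (tt N40152 (iv2 F101248)) (tt N69841 D134206) (tt N19571 (iv4 D63046)) (tt N69842 D134207) (tt N19573 F98359) (tt N69843 D134208))
theorem Q38484 : ∀ i, i < 38484 → P i := stepQ 38483 Q38483 (allL N38483 (tt N38259 (iv1 F163938)) (tt N40153 F101250) (tt N20471 F98360) (tt N39537 (iv3 F100404)) (tt N69843 (iv4 F216246)) (tt N19572 F98361) (tt N20426 F98362) (tt N19571 (iv7 D63047)))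
theorem Q38485 : ∀ i, i < 38485 → P i := stepQ 38484 Q38484 (allL N38484 (tt N69844 D134209) (tt N69845 D134210) (tt N69846 D134211) (tt N19573 (iv3 D63048)) (tt N57333 (iv4 F166241)) (tt N69847 D134212) (tt N69841 (iv6 F216243)) (tt N40154 (iv7 F101259)))
theorem Q38486 : ∀ i, i < 38486 → P i := stepQ 38485 Q38485 (allL N38485 (tt N30758 F98364) (tt N30761 F98365) (tt N40151 (iv2 F101243)) (tt N69847 (iv3 F216249)) (tt N38770 (iv4 F98774)) (tt N19573 (iv5 D63049)) (tt N69848 D134213) (tt N40155 (iv7 F101262)))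
theorem Q38487 : ∀ i, i < 38487 → P i := stepQ 38486 Q38486 (allL N38486 (tt N39014 (iv1 F99164)) (tt N19574 (iv0 D63050)) (tt N39013 F168189) (tt N19802 F168190) (tt N36799 (iv4 F168195)) (tt N60543 (iv5 F176556)) (tt N30122 F98366) (tt N38847 F168191))
theorem Q38488 : ∀ i, i < 38488 → P i := stepQ 38487 Q38487 (allL N38487 (tt N19574 (iv1 D63051)) (tt N39014 F99162) (tt N38847 (iv2 F168192)) (tt N38943 F168194) (tt N36800 (iv4 F99163)) (tt N60315 (iv5 F176174)) (tt N69439 (iv6 F214400)) (tt N39013 (iv7 F168193)))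
theorem Q38489 : ∀ i, i < 38489 → P i := stepQ 38488 Q38488 (allL N38488 (tt N69849 D134214) (tt N67550 (iv0 F207391)) (tt N69850 D134215) (tt N19575 (iv3 D63052)) (tt N35988 F98367) (tt N69799 (iv5 F216175)) (tt N69851 D134216) (tt N31384 F98368))
theorem Q38490 : ∀ i, i < 38490 → P i := stepQ 38489 Q38489 (allL N38489 (tt N38835 (iv1 F102150)) (tt N38831 (iv0 F101882)) (tt N58049 (iv2 F168759)) (tt N69851 (iv3 F216258)) (tt N31386 F98369) (tt N69852 D134217) (tt N19575 (iv6 D63053)) (tt N38764 (iv7 F98770)))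
theorem Q38491 : ∀ i, i < 38491 → P i := stepQ 38490 Q38490 (allL N38490 (tt N58052 (iv1 F168768)) (tt N19576 (iv0 D63054)) (tt N58051 (iv2 F354988)) (tt N69853 D134219) (tt N69854 D134220) (tt N69796 (iv5 F349806)) (tt N69855 D134222) (tt N58050 (iv7 F355027)))
theorem Q38492 : ∀ i, i < 38492 → P i := stepQ 38491 Q38491 (allL N38491 (tt N19576 (iv1 D63055)) (tt N58052 F168770) (tt N58050 (iv2 F355026)) (tt N69856 D134224) (tt N69857 D134225) (tt N69797 (iv5 F354992)) (tt N38766 (iv6 F354998)) (tt N58051 (iv7 F354989)))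
theorem Q38493 : ∀ i, i < 38493 → P i := stepQ 38492 Q38492 (allL N38492 (tt N58051 (iv1 F168769)) (tt N58050 F168764) (tt N19576 (iv2 D63056)) (tt N69738 (iv3 F216021)) (tt N67189 (iv4 F206879)) (tt N43738 F329918) (tt N69858 D134229) (tt N58052 (iv7 F168767)))
theorem Q38494 : ∀ i, i < 38494 → P i := stepQ 38493 Q38493 (allL N38493 (tt N43740 (iv1 F329650)) (tt N35088 (iv0 F329651)) (tt N43738 (iv2 F329883)) (tt N19577 F98370) (tt N69859 D134232) (tt N19576 (iv5 D63057)) (tt N69860 D134233) (tt N43739 F329777))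
theorem Q38495 : ∀ i, i < 38495 → P i := stepQ 38494 Q38494 (allL N38494 (tt N29471 (iv1 F361738)) (tt N69861 D134235) (tt N69858 (iv2 F216269)) (tt N19578 F98371) (tt N67191 (iv4 F206887)) (tt N69862 D134236) (tt N19576 (iv6 D63058)) (tt N69863 D134237))
theorem Q38496 : ∀ i, i < 38496 → P i := stepQ 38495 Q38495 (allL N38495 (tt N19585 (iv1 F98373)) (tt N19577 (iv0 D63059)) (tt N35070 F329645) (tt N69864 D134238) (tt N39929 (iv4 F100884)) (tt N36885 F98372) (tt N35053 (iv6 F329774)) (tt N34916 F329646))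
theorem Q38497 : ∀ i, i < 38497 → P i := stepQ 38496 Q38496 (allL N38496 (tt N69865 D134242) (tt N69866 D134243) (tt N69741 (iv2 F216028)) (tt N69860 (iv3 F216270)) (tt N59250 (iv4 F172414)) (tt N64757 (iv5 F329806)) (tt N19577 (iv6 D63061)) (tt N69867 D134245))
theorem Q38498 : ∀ i, i < 38498 → P i := stepQ 38497 Q38497 (allL N38497 (tt N69744 (iv1 F216040)) (tt N19578 (iv0 D63062)) (tt N69742 F216030) (tt N69868 D134246) (tt N37713 F168468) (tt N69869 D134247) (tt N38788 (iv6 F170842)) (tt N67805 (iv7 F207862)))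
theorem Q38499 : ∀ i, i < 38499 → P i := stepQ 38498 Q38498 (allL N38498 (tt N19578 (iv1 D63063)) (tt N69744 F216039) (tt N67805 (iv2 F207861)) (tt N55403 (iv3 F349135)) (tt N37714 F180509) (tt N69870 D134249) (tt N69871 D134250) (tt N69742 (iv7 F216033)))
theorem Q38500 : ∀ i, i < 38500 → P i := stepQ 38499 Q38499 (allL N38499 (tt N69872 D134251) (tt N69873 D134252) (tt N69743 (iv2 F216035)) (tt N69862 (iv3 F216271)) (tt N69874 D134253) (tt N19578 (iv5 D63064)) (tt N64757 (iv6 F329807)) (tt N69875 D134254))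
theorem Q38501 : ∀ i, i < 38501 → P i := stepQ 38500 Q38500 (allL N38500 (tt N67805 F207864) (tt N69742 F216034) (tt N69744 (iv2 F216036)) (tt N69863 (iv3 F216272)) (tt N19581 F98380) (tt N69875 (iv5 F216283)) (tt N58046 (iv6 F168745)) (tt N19578 (iv7 D63065)))
theorem Q38502 : ∀ i, i < 38502 → P i := stepQ 38501 Q38501 (allL N38501 (tt N68691 (iv1 F211401)) (tt N19592 F168309) (tt N38849 (iv2 F168308)) (tt N69876 D134255) (tt N19579 (iv4 D63068)) (tt N69877 D134256) (tt N38793 (iv6 F98810)) (tt N68689 (iv7 F211392)))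
theorem Q38503 : ∀ i, i < 38503 → P i := stepQ 38502 Q38502 (allL N38502 (tt N40575 (iv1 F102205)) (tt N40524 (iv0 F101817)) (tt N38850 (iv2 F168241)) (tt N38775 (iv3 F168306)) (tt N64565 (iv4 F332938)) (tt N19579 (iv5 D63069)) (tt N31707 F98382) (tt N40056 F101129))
theorem Q38504 : ∀ i, i < 38504 → P i := stepQ 38503 Q38503 (allL N38503 (tt N19592 F111702) (tt N68691 F211400) (tt N68689 F211394) (tt N69133 (iv3 F212882)) (tt N19580 (iv4 D63072)) (tt N69878 D134258) (tt N40556 F329876) (tt N38849 F168254))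
theorem Q38505 : ∀ i, i < 38505 → P i := stepQ 38504 Q38504 (allL N38504 (tt N20542 F98757) (tt N20546 F101854) (tt N69745 (iv2 F216041)) (tt N19617 F168247) (tt N40556 F329875) (tt N38258 F168248) (tt N19580 (iv6 D63074)) (tt N38792 (iv7 F98807)))
theorem Q38506 : ∀ i, i < 38506 → P i := stepQ 38505 Q38505 (allL N38505 (tt N69879 D134260) (tt N69880 D134261) (tt N69881 D134262) (tt N19582 (iv3 D63075)) (tt N19584 F98385) (tt N69882 D134263) (tt N69883 D134264) (tt N55835 (iv7 F161908)))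
theorem Q38507 : ∀ i, i < 38507 → P i := stepQ 38506 Q38506 (allL N38506 (tt N36985 F98387) (tt N36982 F98388) (tt N55839 (iv2 F161919)) (tt N69882 (iv3 F216287)) (tt N19963 F98386) (tt N19582 (iv5 D63076)) (tt N69884 D134265) (tt N55836 (iv7 F161910)))
theorem Q38508 : ∀ i, i < 38508 → P i := stepQ 38507 Q38507 (allL N38507 (tt N67855 (iv1 F208172)) (tt N67803 F207858) (tt N55840 (iv2 F161924)) (tt N69883 (iv3 F216288)) (tt N19583 F98389) (tt N69885 D134266) (tt N19582 (iv6 D63077)) (tt N67889 (iv7 F208212)))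
theorem Q38509 : ∀ i, i < 38509 → P i := stepQ 38508 Q38508 (allL N38508 (tt N60369 (iv1 F176306)) (tt N19583 (iv0 D63078)) (tt N38861 (iv2 F163872)) (tt N30121 F168009) (tt N37104 F168299) (tt N31715 F99061) (tt N69886 D134267) (tt N45898 (iv7 F327534)))
theorem Q38510 : ∀ i, i < 38510 → P i := stepQ 38509 Q38509 (allL N38509 (tt N19583 (iv1 D63079)) (tt N60369 F176305) (tt N45898 (iv2 F327532)) (tt N33020 F163867) (tt N37105 F163870) (tt N31716 (iv5 F162153)) (tt N38844 (iv6 F163866)) (tt N38861 (iv7 F163869)))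
theorem Q38511 : ∀ i, i < 38511 → P i := stepQ 38510 Q38510 (allL N38510 (tt N45898 (iv1 F327531)) (tt N38861 (iv0 F168390)) (tt N60369 (iv2 F176301)) (tt N19589 F98390) (tt N67889 (iv4 F208210)) (tt N57864 (iv5 F167957)) (tt N61672 (iv6 F179223)) (tt N19583 (iv7 D63080)))
theorem Q38512 : ∀ i, i < 38512 → P i := stepQ 38511 Q38511 (allL N38511 (tt N69738 (iv1 F216023)) (tt N19584 (iv0 D63081)) (tt N69737 (iv2 F216018)) (tt N69887 D134268) (tt N69888 D134269) (tt N69827 (iv5 F361288)) (tt N38781 F347104) (tt N69736 F216019))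
theorem Q38513 : ∀ i, i < 38513 → P i := stepQ 38512 Q38512 (allL N38512 (tt N19584 (iv1 D63082)) (tt N69738 F216024) (tt N69736 F216017) (tt N69889 D134272) (tt N69080 (iv4 F212755)) (tt N69828 (iv5 F352309)) (tt N69890 D134274) (tt N69737 (iv7 F216016)))
theorem Q38514 : ∀ i, i < 38514 → P i := stepQ 38513 Q38513 (allL N38513 (tt N69737 (iv1 F216020)) (tt N69736 F216013) (tt N19584 (iv2 D63083)) (tt N58052 (iv3 F168765)) (tt N69881 (iv4 F216286)) (tt N69891 D134275) (tt N69892 D134276) (tt N69738 (iv7 F216022)))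
theorem Q38515 : ∀ i, i < 38515 → P i := stepQ 38514 Q38514 (allL N38514 (tt N69893 D134277) (tt N69894 D134278) (tt N69891 (iv2 F216306)) (tt N19585 F98391) (tt N69895 D134279) (tt N19584 (iv5 D63084)) (tt N69896 D134280) (tt N69739 (iv7 F216026)))
theorem Q38516 : ∀ i, i < 38516 → P i := stepQ 38515 Q38515 (allL N38515 (tt N69897 D134281) (tt N69898 D134282) (tt N69892 (iv2 F216307)) (tt N19586 F98392) (tt N69883 (iv4 F216289)) (tt N69899 D134283) (tt N19584 (iv6 D63085)) (tt N69900 D134284))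
theorem Q38517 : ∀ i, i < 38517 → P i := stepQ 38516 Q38516 (allL N38516 (tt N69901 D134285) (tt N63955 (iv0 F357152)) (tt N58053 (iv2 F168773)) (tt N69896 (iv3 F216308)) (tt N59242 (iv4 F172404)) (tt N64785 (iv5 F329808)) (tt N19585 (iv6 D63086)) (tt N69902 D134288))
theorem Q38518 : ∀ i, i < 38518 → P i := stepQ 38517 Q38517 (allL N38517 (tt N58046 (iv1 F168750)) (tt N19586 (iv0 D63087)) (tt N58042 (iv2 F202513)) (tt N69903 D134289) (tt N58955 (iv4 F171562)) (tt N69904 D134290) (tt N69905 D134291) (tt N58043 (iv7 F202509)))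
theorem Q38519 : ∀ i, i < 38519 → P i := stepQ 38518 Q38518 (allL N38518 (tt N19586 (iv1 D63088)) (tt N58046 F168747) (tt N58043 F202514) (tt N69906 D134292) (tt N37978 (iv4 F168008)) (tt N35168 (iv5 F328519)) (tt N38772 F168018) (tt N58042 F202512))
theorem Q38520 : ∀ i, i < 38520 → P i := stepQ 38519 Q38519 (allL N38519 (tt N69907 D134294) (tt N69908 D134295) (tt N58045 (iv2 F168742)) (tt N69899 (iv3 F216309)) (tt N69909 D134296) (tt N19586 (iv5 D63089)) (tt N64785 (iv6 F329809)) (tt N69910 D134297))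
theorem Q38521 : ∀ i, i < 38521 → P i := stepQ 38520 Q38520 (allL N38520 (tt N58043 (iv1 F168739)) (tt N58042 F168746) (tt N58046 (iv2 F168743)) (tt N69900 (iv3 F216310)) (tt N19589 F98393) (tt N69910 (iv5 F216317)) (tt N69744 (iv6 F216038)) (tt N19586 (iv7 D63090)))
theorem Q38522 : ∀ i, i < 38522 → P i := stepQ 38521 Q38521 (allL N38521 (tt N69753 (iv1 F216065)) (tt N19595 F168417) (tt N58040 (iv2 F168730)) (tt N19909 F325098) (tt N19587 (iv4 D63093)) (tt N40549 F357718) (tt N19905 F325099) (tt N38863 F163914))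
theorem Q38523 : ∀ i, i < 38523 → P i := stepQ 38522 Q38522 (allL N38522 (tt N38833 F98852) (tt N56752 (iv0 F164737)) (tt N58041 (iv2 F168734)) (tt N19624 F163915) (tt N19905 (iv4 F323861)) (tt N38259 (iv5 F163940)) (tt N19587 (iv6 D63094)) (tt N38777 (iv7 F98793)))
theorem Q38524 : ∀ i, i < 38524 → P i := stepQ 38523 Q38523 (allL N38523 (tt N19595 F168279) (tt N69753 F216064) (tt N38863 F164013) (tt N69911 D134300) (tt N19588 (iv4 D63097)) (tt N40548 (iv5 F357707)) (tt N38774 (iv6 F98789)) (tt N58040 (iv7 F168731)))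
theorem Q38525 : ∀ i, i < 38525 → P i := stepQ 38524 Q38524 (allL N38524 (tt N69748 (iv1 F216050)) (tt N19590 (iv0 D63098)) (tt N69747 (iv2 F336857)) (tt N67408 F207172) (tt N69912 D134303) (tt N69913 D134304) (tt N69914 D134305) (tt N69746 (iv7 F336852)))
theorem Q38526 : ∀ i, i < 38526 → P i := stepQ 38525 Q38525 (allL N38525 (tt N19590 (iv1 D63099)) (tt N69748 F216052) (tt N69746 (iv2 F336851)) (tt N69915 D134307) (tt N69916 D134308) (tt N69917 D134309) (tt N38795 (iv6 F335887)) (tt N69747 (iv7 F336858)))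
theorem Q38527 : ∀ i, i < 38527 → P i := stepQ 38526 Q38526 (allL N38526 (tt N69747 (iv1 F216051)) (tt N69746 F216046) (tt N19590 (iv2 D63100)) (tt N68686 (iv3 F211379)) (tt N39055 (iv4 F99293)) (tt N69918 D134311) (tt N69919 D134312) (tt N69748 (iv7 F216049)))
theorem Q38528 : ∀ i, i < 38528 → P i := stepQ 38527 Q38527 (allL N38527 (tt N69920 D134313) (tt N69921 D134314) (tt N69918 (iv2 F216325)) (tt N19591 F98400) (tt N41004 F329570) (tt N19590 (iv5 D63101)) (tt N41003 (iv6 F329734)) (tt N69749 (iv7 F216054)))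
theorem Q38529 : ∀ i, i < 38529 → P i := stepQ 38528 Q38528 (allL N38528 (tt N69922 D134317) (tt N69923 D134318) (tt N69919 (iv2 F216326)) (tt N19592 F98401) (tt N39057 (iv4 F99301)) (tt N69924 D134319) (tt N19590 (iv6 D63102)) (tt N69925 D134320))
theorem Q38530 : ∀ i, i < 38530 → P i := stepQ 38529 Q38529 (allL N38529 (tt N19594 (iv1 F98404)) (tt N19591 (iv0 D63103)) (tt N35012 F328720) (tt N69926 D134321) (tt N39859 (iv4 F100737)) (tt N37344 F98402) (tt N34975 (iv6 F329107)) (tt N34900 F328721))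
theorem Q38531 : ∀ i, i < 38531 → P i := stepQ 38530 Q38530 (allL N38530 (tt N69927 D134323) (tt N69928 D134324) (tt N68688 (iv2 F211389)) (tt N41003 F329851) (tt N44389 (iv4 F111908)) (tt N64414 (iv5 F329110)) (tt N19591 (iv6 D63104)) (tt N69929 D134326))
theorem Q38532 : ∀ i, i < 38532 → P i := stepQ 38531 Q38531 (allL N38531 (tt N69930 D134327) (tt N69931 D134328) (tt N68690 (iv2 F211395)) (tt N69924 (iv3 F216328)) (tt N69932 D134329) (tt N19592 (iv5 D63107)) (tt N64414 (iv6 F329111)) (tt N69933 D134330))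
theorem Q38533 : ∀ i, i < 38533 → P i := stepQ 38532 Q38532 (allL N38532 (tt N68689 (iv1 F211391)) (tt N38849 (iv0 F171534)) (tt N68691 (iv2 F211397)) (tt N69925 (iv3 F216329)) (tt N58945 (iv4 F171530)) (tt N69933 (iv5 F216338)) (tt N69753 (iv6 F216063)) (tt N19592 (iv7 D63108)))
theorem Q38534 : ∀ i, i < 38534 → P i := stepQ 38533 Q38533 (allL N38533 (tt N68686 (iv1 F211382)) (tt N19593 (iv0 D63109)) (tt N68685 (iv2 F354725)) (tt N69934 D134332) (tt N68789 (iv4 F211626)) (tt N69935 D134333) (tt N38800 (iv6 F354728)) (tt N68684 (iv7 F354730)))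
theorem Q38535 : ∀ i, i < 38535 → P i := stepQ 38534 Q38534 (allL N38534 (tt N19593 (iv1 D63110)) (tt N68686 F211384) (tt N68684 (iv2 F354729)) (tt N69936 D134336) (tt N68748 (iv4 F211508)) (tt N69937 D134337) (tt N69938 D134338) (tt N68685 (iv7 F354727)))
theorem Q38536 : ∀ i, i < 38536 → P i := stepQ 38535 Q38535 (allL N38535 (tt N68685 (iv1 F211383)) (tt N68684 F211378) (tt N19593 (iv2 D63111)) (tt N69748 (iv3 F216047)) (tt N56525 (iv4 F164176)) (tt N69939 D134339) (tt N69940 D134340) (tt N68686 (iv7 F211381)))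
theorem Q38537 : ∀ i, i < 38537 → P i := stepQ 38536 Q38536 (allL N38536 (tt N69941 D134341) (tt N69942 D134342) (tt N69939 (iv2 F216345)) (tt N19594 F98406) (tt N69943 D134343) (tt N19593 (iv5 D63112)) (tt N69944 D134344) (tt N68687 (iv7 F211386)))
theorem Q38538 : ∀ i, i < 38538 → P i := stepQ 38537 Q38537 (allL N38537 (tt N69945 D134345) (tt N52977 (iv0 F377961)) (tt N69940 (iv2 F216346)) (tt N19595 F98407) (tt N56527 (iv4 F164184)) (tt N69946 D134347) (tt N19593 (iv6 D63113)) (tt N69947 D134348))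
theorem Q38539 : ∀ i, i < 38539 → P i := stepQ 38538 Q38538 (allL N38538 (tt N69948 D134349) (tt N69949 D134350) (tt N69751 (iv2 F216057)) (tt N69944 (iv3 F216347)) (tt N59229 (iv4 F172373)) (tt N59048 (iv5 F357705)) (tt N19594 (iv6 D63114)) (tt N69950 D134352))
theorem Q38540 : ∀ i, i < 38540 → P i := stepQ 38539 Q38539 (allL N38539 (tt N69408 (iv1 F214252)) (tt N69951 D134353) (tt N69752 (iv2 F216059)) (tt N69946 (iv3 F216348)) (tt N69952 D134354) (tt N19595 (iv5 D63117)) (tt N59048 (iv6 F357706)) (tt N69953 D134355))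
theorem Q38541 : ∀ i, i < 38541 → P i := stepQ 38540 Q38540 (allL N38540 (tt N38863 F168434) (tt N58040 (iv0 F168732)) (tt N69753 (iv2 F216061)) (tt N69947 (iv3 F216349)) (tt N56522 (iv4 F164171)) (tt N69953 (iv5 F216353)) (tt N68691 (iv6 F211399)) (tt N19595 (iv7 D63118)))
theorem Q38542 : ∀ i, i < 38542 → P i := stepQ 38541 Q38541 (allL N38541 (tt N19597 (iv1 F98411)) (tt N19596 (iv0 D63119)) (tt N19600 (iv2 F98408)) (tt N69754 (iv3 F216067)) (tt N19626 F98409) (tt N62877 (iv5 F329414)) (tt N69954 D134357) (tt N19598 F98410))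
theorem Q38543 : ∀ i, i < 38543 → P i := stepQ 38542 Q38542 (allL N38542 (tt N69936 F216343) (tt N44871 F336984) (tt N66194 F208380) (tt N19596 (iv3 D63121)) (tt N66192 (iv4 F208371)) (tt N69955 D134359) (tt N69956 D134360) (tt N66199 (iv7 F208367)))
theorem Q38544 : ∀ i, i < 38544 → P i := stepQ 38543 Q38543 (allL N38543 (tt N69957 D134361) (tt N35009 F328722) (tt N67969 (iv2 F208737)) (tt N69955 (iv3 F216364)) (tt N69958 D134363) (tt N19596 (iv5 D63123)) (tt N69959 D134364) (tt N69960 D134365))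
theorem Q38545 : ∀ i, i < 38545 → P i := stepQ 38544 Q38544 (allL N38544 (tt N69961 D134366) (tt N69133 (iv0 F363247)) (tt N67970 (iv2 F208739)) (tt N69956 (iv3 F216365)) (tt N67967 (iv4 F208734)) (tt N69962 D134368) (tt N19596 (iv6 D63124)) (tt N69963 D134369))
theorem Q38546 : ∀ i, i < 38546 → P i := stepQ 38545 Q38545 (allL N38545 (tt N19598 F208364) (tt N19600 F208365) (tt N19597 F98413) (tt N66199 F208366) (tt N67933 (iv4 F208589)) (tt N69960 (iv5 F216368)) (tt N20186 (iv6 F333877)) (tt N19596 (iv7 D63125)))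
theorem Q38547 : ∀ i, i < 38547 → P i := stepQ 38546 Q38546 (allL N38546 (tt N67405 F216302) (tt N67408 (iv0 F355010)) (tt N69964 D134372) (tt N19597 (iv3 D63126)) (tt N67985 (iv4 F208754)) (tt N43662 (iv5 F347345)) (tt N69965 D134374) (tt N67968 (iv7 F208736)))
theorem Q38548 : ∀ i, i < 38548 → P i := stepQ 38547 Q38547 (allL N38547 (tt N35009 F328723) (tt N69957 F216369) (tt N69960 (iv2 F216367)) (tt N43662 F347348) (tt N69966 D134375) (tt N19597 (iv5 D63127)) (tt N69967 D134376) (tt N67969 (iv7 F208738)))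
theorem Q38549 : ∀ i, i < 38549 → P i := stepQ 38548 Q38548 (allL N38548 (tt N19909 F359623) (tt N20187 F359624) (tt N20186 F333878) (tt N69965 (iv3 F216372)) (tt N67976 (iv4 F208747)) (tt N69968 D134379) (tt N19597 (iv6 D63128)) (tt N20185 (iv7 F333886)))
theorem Q38550 : ∀ i, i < 38550 → P i := stepQ 38549 Q38549 (allL N38549 (tt N62878 (iv1 F329418)) (tt N62868 (iv0 F329076)) (tt N19599 F98415) (tt N69764 (iv3 F216075)) (tt N69969 D134383) (tt N19598 (iv5 D63130)) (tt N69970 D134384) (tt N62877 (iv7 F329415)))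
theorem Q38551 : ∀ i, i < 38551 → P i := stepQ 38550 Q38550 (allL N38550 (tt N62877 (iv1 F329412)) (tt N19599 (iv0 D63131)) (tt N62878 (iv2 F329419)) (tt N44868 F331614) (tt N62835 (iv4 F331613)) (tt N68235 F214209) (tt N62867 (iv6 F331615)) (tt N62868 (iv7 F329079)))
theorem Q38552 : ∀ i, i < 38552 → P i := stepQ 38551 Q38551 (allL N38551 (tt N69971 D134391) (tt N69972 D134392) (tt N69969 (iv2 F216381)) (tt N69973 D134393) (tt N19599 (iv4 D63133)) (tt N69974 D134394) (tt N69975 D134395) (tt N69976 D134396))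
theorem Q38553 : ∀ i, i < 38553 → P i := stepQ 38552 Q38552 (allL N38552 (tt N69977 D134397) (tt N69978 D134398) (tt N69970 (iv2 F216382)) (tt N19604 F98416) (tt N69975 (iv4 F216385)) (tt N38815 (iv5 F98828)) (tt N19599 (iv6 D63134)) (tt N69979 D134399))
theorem Q38554 : ∀ i, i < 38554 → P i := stepQ 38553 Q38553 (allL N38553 (tt N62868 (iv1 F329077)) (tt N62878 (iv0 F329417)) (tt N62877 (iv2 F329413)) (tt N19605 F98417) (tt N69976 (iv4 F216387)) (tt N19600 F98418) (tt N63647 (iv6 F331660)) (tt N19599 (iv7 D63135)))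
theorem Q38555 : ∀ i, i < 38555 → P i := stepQ 38554 Q38554 (allL N38554 (tt N69980 D134401) (tt N20180 F347005) (tt N69954 (iv2 F216359)) (tt N19606 F98419) (tt N19642 F98420) (tt N69981 D134403) (tt N19600 (iv6 D63136)) (tt N38817 (iv7 F98833)))
theorem Q38556 : ∀ i, i < 38556 → P i := stepQ 38555 Q38555 (allL N38555 (tt N69913 (iv1 F340097)) (tt N69917 (iv0 F218113)) (tt N69982 D134406) (tt N19601 (iv3 D63137)) (tt N62829 (iv4 F340096)) (tt N58940 (iv5 F171505)) (tt N64427 (iv6 F328739)) (tt N69769 (iv7 F216079)))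
theorem Q38557 : ∀ i, i < 38557 → P i := stepQ 38556 Q38556 (allL N38556 (tt N69935 (iv1 F354722)) (tt N69937 (iv0 F354731)) (tt N69983 D134415) (tt N19602 (iv3 D63139)) (tt N69984 D134416) (tt N44323 (iv5 F111642)) (tt N54717 (iv6 F328713)) (tt N29009 F328332))
theorem Q38558 : ∀ i, i < 38558 → P i := stepQ 38557 Q38557 (allL N38557 (tt N62858 (iv1 F343206)) (tt N69985 D134419) (tt N69770 (iv2 F216080)) (tt N54717 (iv3 F328712)) (tt N59217 (iv4 F172345)) (tt N54680 (iv5 F343204)) (tt N19602 (iv6 D63140)) (tt N54679 (iv7 F343201)))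
theorem Q38559 : ∀ i, i < 38559 → P i := stepQ 38558 Q38558 (allL N38558 (tt N69986 D134422) (tt N21260 (iv0 F331628)) (tt N69987 D134424) (tt N19603 (iv3 D63141)) (tt N69973 (iv4 F216383)) (tt N31587 F98421) (tt N69988 D134425) (tt N31586 F98422))
theorem Q38560 : ∀ i, i < 38560 → P i := stepQ 38559 Q38559 (allL N38559 (tt N38475 (iv1 F342818)) (tt N69989 D134427) (tt N59272 (iv2 F172440)) (tt N69988 (iv3 F216400)) (tt N19604 F98423) (tt N69990 D134428) (tt N19603 (iv6 D63142)) (tt N35136 F329970))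
theorem Q38561 : ∀ i, i < 38561 → P i := stepQ 38560 Q38560 (allL N38560 (tt N69771 (iv1 F216086)) (tt N19604 (iv0 D63143)) (tt N59217 (iv2 F343183)) (tt N69991 D134431) (tt N69770 (iv4 F343191)) (tt N69992 D134433) (tt N20206 (iv6 F343192)) (tt N64412 (iv7 F356500)))
theorem Q38562 : ∀ i, i < 38562 → P i := stepQ 38561 Q38561 (allL N38561 (tt N19604 (iv1 D63144)) (tt N69771 F216085) (tt N64412 (iv2 F356497)) (tt N69993 D134436) (tt N54679 (iv4 F343200)) (tt N69994 D134438) (tt N54684 (iv6 F343198)) (tt N59217 (iv7 F343184)))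
theorem Q38563 : ∀ i, i < 38563 → P i := stepQ 38562 Q38562 (allL N38562 (tt N64412 (iv1 F356496)) (tt N59217 (iv0 F341415)) (tt N69771 (iv2 F216083)) (tt N69979 (iv3 F216388)) (tt N35136 F329968) (tt N38826 (iv5 F98835)) (tt N35134 F329969) (tt N19604 (iv7 D63145)))
theorem Q38564 : ∀ i, i < 38564 → P i := stepQ 38563 Q38563 (allL N38563 (tt N63907 (iv1 F350262)) (tt N64403 (iv0 F350263)) (tt N35138 F329922) (tt N63647 (iv3 F331659)) (tt N31590 F98424) (tt N69995 D134443) (tt N19605 (iv6 D63146)) (tt N35134 (iv7 F329958)))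
theorem Q38565 : ∀ i, i < 38565 → P i := stepQ 38564 Q38564 (allL N38564 (tt N38687 (iv1 F98645)) (tt N19606 (iv0 D63147)) (tt N38829 (iv2 F103569)) (tt N69996 D134444) (tt N57803 F167789) (tt N69997 D134445) (tt N69998 D134446) (tt N38828 F103570))
theorem Q38566 : ∀ i, i < 38566 → P i := stepQ 38565 Q38565 (allL N38565 (tt N19606 (iv1 D63148)) (tt N38687 F98644) (tt N38828 F103568) (tt N69999 D134447) (tt N36874 (iv4 F98525)) (tt N70000 D134448) (tt N66487 (iv6 F326055)) (tt N38829 (iv7 F103567)))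
theorem Q38567 : ∀ i, i < 38567 → P i := stepQ 38566 Q38566 (allL N38566 (tt N70001 D134450) (tt N70002 D134451) (tt N69772 (iv2 F216087)) (tt N69981 (iv3 F216391)) (tt N70003 D134452) (tt N19606 (iv5 D63149)) (tt N69995 (iv6 F216408)) (tt N38830 (iv7 F98846)))
theorem Q38568 : ∀ i, i < 38568 → P i := stepQ 38567 Q38567 (allL N38567 (tt N38764 F101901) (tt N58049 F168762) (tt N38835 (iv2 F102148)) (tt N70004 D134453) (tt N19607 (iv4 D63152)) (tt N70005 D134454) (tt N70006 D134455) (tt N38831 F102147))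
theorem Q38569 : ∀ i, i < 38569 → P i := stepQ 38568 Q38568 (allL N38568 (tt N58037 F168726) (tt N37362 (iv0 F164123)) (tt N38836 (iv2 F102131)) (tt N56696 (iv3 F164596)) (tt N70007 D134456) (tt N19607 (iv5 D63153)) (tt N37333 (iv6 F98427)) (tt N38832 F102133))
theorem Q38570 : ∀ i, i < 38570 → P i := stepQ 38569 Q38569 (allL N38569 (tt N69745 F216045) (tt N38792 (iv0 F98803)) (tt N20546 F102121) (tt N56697 (iv3 F164599)) (tt N70006 (iv4 F216413)) (tt N20524 F98428) (tt N19607 (iv6 D63154)) (tt N20542 F102122))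
theorem Q38571 : ∀ i, i < 38571 → P i := stepQ 38570 Q38570 (allL N38570 (tt N19927 F102163) (tt N19785 F102164) (tt N38949 F102160) (tt N19608 (iv3 D63156)) (tt N66138 (iv4 F203453)) (tt N70008 D134457) (tt N62364 (iv6 F180913)) (tt N38834 (iv7 F102127)))
theorem Q38572 : ∀ i, i < 38572 → P i := stepQ 38571 Q38571 (allL N38571 (tt N58049 (iv1 F168763)) (tt N38764 F102149) (tt N38831 (iv2 F102144)) (tt N70009 D134458) (tt N19608 (iv4 D63157)) (tt N70010 D134459) (tt N62368 (iv6 F180917)) (tt N38835 (iv7 F102128)))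
theorem Q38573 : ∀ i, i < 38573 → P i := stepQ 38572 Q38572 (allL N38572 (tt N37362 (iv1 F164124)) (tt N58037 (iv0 F168725)) (tt N38832 F102130) (tt N70008 (iv3 F216416)) (tt N70011 D134460) (tt N19608 (iv5 D63158)) (tt N38442 F98430) (tt N38836 (iv7 F102129)))
theorem Q38574 : ∀ i, i < 38574 → P i := stepQ 38573 Q38573 (allL N38573 (tt N70012 D134461) (tt N50189 (iv0 F336943)) (tt N70013 D134463) (tt N19609 (iv3 D63159)) (tt N58047 (iv4 F168751)) (tt N61032 (iv5 F336953)) (tt N70014 D134464) (tt N38852 (iv7 F98899)))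
theorem Q38575 : ∀ i, i < 38575 → P i := stepQ 38574 Q38574 (allL N38574 (tt N39087 (iv1 F102044)) (tt N38921 F101885) (tt N38854 (iv2 F98902)) (tt N70014 (iv3 F216420)) (tt N58951 (iv4 F171543)) (tt N70015 D134465) (tt N19609 (iv6 D63160)) (tt N38838 (iv7 F98863)))
theorem Q38576 : ∀ i, i < 38576 → P i := stepQ 38575 Q38575 (allL N38575 (tt N26817 (iv1 F321882)) (tt N32602 (iv0 F321883)) (tt N32601 (iv2 F321884)) (tt N26802 F320209) (tt N57397 (iv4 F166356)) (tt N49061 (iv5 F321885)) (tt N19610 (iv6 D63161)) (tt N32600 (iv7 F321886)))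
theorem Q38577 : ∀ i, i < 38577 → P i := stepQ 38576 Q38576 (allL N38576 (tt N61691 (iv1 F179266)) (tt N19611 (iv0 D63162)) (tt N61689 (iv2 F203391)) (tt N27184 (iv3 F325802)) (tt N66065 F203494) (tt N27180 (iv5 F325803)) (tt N39047 F203394) (tt N61690 (iv7 F203393)))
theorem Q38578 : ∀ i, i < 38578 → P i := stepQ 38577 Q38577 (allL N38577 (tt N19611 (iv1 D63163)) (tt N61691 F179263) (tt N61690 F203392) (tt N70016 D134472) (tt N66066 (iv4 F203496)) (tt N70017 D134473) (tt N70018 D134474) (tt N61689 F203390))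
theorem Q38579 : ∀ i, i < 38579 → P i := stepQ 38578 Q38578 (allL N38578 (tt N61690 (iv1 F179258)) (tt N61689 F179262) (tt N61691 (iv2 F179260)) (tt N26884 F321702) (tt N19614 F98431) (tt N26883 (iv5 F323387)) (tt N38860 (iv6 F98909)) (tt N19611 (iv7 D63165)))
theorem Q38580 : ∀ i, i < 38580 → P i := stepQ 38579 Q38579 (allL N38579 (tt N61672 (iv1 F179225)) (tt N19924 F168153) (tt N56676 (iv2 F165673)) (tt N19612 (iv3 D63167)) (tt N69069 (iv4 F212712)) (tt N70019 D134478) (tt N38779 (iv6 F168156)) (tt N61671 (iv7 F179216)))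
theorem Q38581 : ∀ i, i < 38581 → P i := stepQ 38580 Q38580 (allL N38580 (tt N61700 (iv1 F179289)) (tt N33024 F179271) (tt N61692 (iv2 F179267)) (tt N70020 D134479) (tt N19612 (iv4 D63168)) (tt N70021 D134480) (tt N39052 (iv6 F99288)) (tt N61694 (iv7 F179279)))
theorem Q38582 : ∀ i, i < 38582 → P i := stepQ 38581 Q38581 (allL N38581 (tt N39496 F100335) (tt N33141 (iv0 F98434)) (tt N61693 (iv2 F179272)) (tt N70019 (iv3 F216426)) (tt N70022 D134481) (tt N19612 (iv5 D63169)) (tt N31902 F98433) (tt N33209 F99271))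
theorem Q38583 : ∀ i, i < 38583 → P i := stepQ 38582 Q38582 (allL N38582 (tt N33024 F167620) (tt N61700 F179288) (tt N61694 (iv2 F179278)) (tt N70023 D134482) (tt N19613 (iv4 D63172)) (tt N70024 D134483) (tt N70025 D134484) (tt N61692 (iv7 F179269)))
theorem Q38584 : ∀ i, i < 38584 → P i := stepQ 38583 Q38583 (allL N38583 (tt N33141 F99967) (tt N39496 (iv0 F100334)) (tt N33209 F99272) (tt N30348 F165536) (tt N70026 D134485) (tt N19613 (iv5 D63173)) (tt N22657 (iv6 F98436)) (tt N61693 (iv7 F179275)))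
theorem Q38585 : ∀ i, i < 38585 → P i := stepQ 38584 Q38584 (allL N38584 (tt N20584 (iv1 F102042)) (tt N39089 F102043) (tt N61695 (iv2 F179281)) (tt N56678 F165537) (tt N70025 (iv4 F216431)) (tt N39033 (iv5 F99204)) (tt N19613 (iv6 D63174)) (tt N39051 (iv7 F99249)))
theorem Q38586 : ∀ i, i < 38586 → P i := stepQ 38585 Q38585 (allL N38585 (tt N35014 (iv1 F326603)) (tt N35015 (iv0 F326577)) (tt N38774 (iv2 F164012)) (tt N66490 (iv3 F324676)) (tt N19615 (iv4 D63178)) (tt N34569 (iv5 F326606)) (tt N38863 (iv6 F98935)) (tt N38776 (iv7 F163950)))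
theorem Q38587 : ∀ i, i < 38587 → P i := stepQ 38586 Q38586 (allL N38586 (tt N39972 F164020) (tt N33311 (iv0 F164039)) (tt N38775 F164021) (tt N19616 F98437) (tt N70027 D134487) (tt N19615 (iv5 D63179)) (tt N31915 F98438) (tt N33467 F98439))
theorem Q38588 : ∀ i, i < 38588 → P i := stepQ 38587 Q38587 (allL N38587 (tt N22783 F312219) (tt N33327 F98442) (tt N38851 (iv2 F98883)) (tt N46181 (iv3 F314571)) (tt N19616 (iv4 D63180)) (tt N41261 (iv5 F103740)) (tt N31916 F98440) (tt N33469 F98441))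
theorem Q38589 : ∀ i, i < 38589 → P i := stepQ 38588 Q38588 (allL N38588 (tt N60811 (iv1 F349619)) (tt N60815 (iv0 F333537)) (tt N70028 D134491) (tt N19618 (iv3 D63186)) (tt N37795 F98445) (tt N66134 (iv5 F203451)) (tt N70029 D134492) (tt N35964 F98446))
theorem Q38590 : ∀ i, i < 38590 → P i := stepQ 38589 Q38589 (allL N38589 (tt N38921 F101883) (tt N39087 F102047) (tt N38838 (iv2 F98861)) (tt N70029 (iv3 F216446)) (tt N35966 F98447) (tt N70030 D134493) (tt N19618 (iv6 D63187)) (tt N38854 (iv7 F98904)))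
theorem Q38591 : ∀ i, i < 38591 → P i := stepQ 38590 Q38590 (allL N38590 (tt N70031 D134494) (tt N70032 D134495) (tt N39045 (iv2 F99231)) (tt N67946 (iv3 F208658)) (tt N66096 (iv4 F203364)) (tt N70033 D134496) (tt N19619 (iv6 D63188)) (tt N70034 D134497))
theorem Q38592 : ∀ i, i < 38592 → P i := stepQ 38591 Q38591 (allL N38591 (tt N39049 (iv1 F99241)) (tt N19620 (iv0 D63189)) (tt N39046 (iv2 F171900)) (tt N70035 D134498) (tt N37732 (iv4 F168378)) (tt N68206 (iv5 F209267)) (tt N70036 D134499) (tt N39047 (iv7 F171907)))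
theorem Q38593 : ∀ i, i < 38593 → P i := stepQ 38592 Q38592 (allL N38592 (tt N19620 (iv1 D63190)) (tt N39049 F99239) (tt N39047 F171906) (tt N70037 D134500) (tt N37733 (iv4 F171904)) (tt N68207 (iv5 F209268)) (tt N61689 F179265) (tt N39046 F171905))
theorem Q38594 : ∀ i, i < 38594 → P i := stepQ 38593 Q38593 (allL N38593 (tt N70038 D134501) (tt N70039 D134502) (tt N39048 (iv2 F99234)) (tt N67948 (iv3 F208659)) (tt N69591 (iv4 F333564)) (tt N19620 (iv5 D63191)) (tt N70033 (iv6 F216448)) (tt N69587 (iv7 F333562)))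
theorem Q38595 : ∀ i, i < 38595 → P i := stepQ 38594 Q38594 (allL N38594 (tt N39047 (iv1 F99233)) (tt N39046 F99238) (tt N39049 (iv2 F99235)) (tt N67949 (iv3 F208660)) (tt N19623 F98448) (tt N69587 (iv5 F333561)) (tt N38843 (iv6 F98865)) (tt N19620 (iv7 D63192)))
theorem Q38596 : ∀ i, i < 38596 → P i := stepQ 38595 Q38595 (allL N38595 (tt N38780 F168420) (tt N19783 F168421) (tt N38778 F168159) (tt N19621 (iv3 D63194)) (tt N66169 (iv4 F203557)) (tt N31937 F98451) (tt N70040 D134505) (tt N38779 (iv7 F168157)))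
theorem Q38597 : ∀ i, i < 38597 → P i := stepQ 38596 Q38596 (allL N38596 (tt N39067 F168418) (tt N19811 F168419) (tt N39050 F99283) (tt N70041 D134506) (tt N19621 (iv4 D63195)) (tt N68149 (iv5 F363783)) (tt N70042 D134508) (tt N39052 (iv7 F99289)))
theorem Q38598 : ∀ i, i < 38598 → P i := stepQ 38597 Q38597 (allL N38597 (tt N39089 F99365) (tt N20584 F102041) (tt N39051 F99254) (tt N70040 (iv3 F216459)) (tt N70042 (iv4 F216461)) (tt N39034 F99207) (tt N19621 (iv6 D63196)) (tt N61695 (iv7 F179283)))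
theorem Q38599 : ∀ i, i < 38599 → P i := stepQ 38598 Q38598 (allL N38598 (tt N19811 F168432) (tt N39067 F168433) (tt N39052 (iv2 F99287)) (tt N70043 D134509) (tt N19622 (iv4 D63199)) (tt N68148 (iv5 F363786)) (tt N61692 (iv6 F179268)) (tt N39050 (iv7 F99282)))
theorem Q38600 : ∀ i, i < 38600 → P i := stepQ 38599 Q38599 (allL N38599 (tt N38914 (iv1 F98988)) (tt N38913 F98987) (tt N19642 F98459) (tt N38864 (iv3 F98938)) (tt N69954 (iv4 F216360)) (tt N22063 F307852) (tt N19626 (iv6 D63209)) (tt N38864 (iv7 F98939)))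
theorem Q38601 : ∀ i, i < 38601 → P i := stepQ 38600 Q38600 (allL N38600 (tt N69889 (iv1 F216305)) (tt N69184 (iv0 F213222)) (tt N19629 F98463) (tt N55405 (iv3 F364201)) (tt N19627 (iv4 D63213)) (tt N70044 D134515) (tt N55404 (iv6 F328609)) (tt N19634 F98464))
theorem Q38602 : ∀ i, i < 38602 → P i := stepQ 38601 Q38601 (allL N38601 (tt N37075 F337692) (tt N66259 (iv0 F337693)) (tt N19631 F98467) (tt N25934 F328223) (tt N55404 (iv4 F328608)) (tt N47564 (iv5 F321849)) (tt N19627 (iv6 D63215)) (tt N49269 (iv7 F328611)))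
theorem Q38603 : ∀ i, i < 38603 → P i := stepQ 38602 Q38602 (allL N38602 (tt N19628 (iv1 D63217)) (tt N68780 F211614) (tt N37060 F98968) (tt N38885 (iv3 F98967)) (tt N38044 (iv4 F207234)) (tt N70045 D134525) (tt N38869 (iv6 F326061)) (tt N68778 (iv7 F211561)))
theorem Q38604 : ∀ i, i < 38604 → P i := stepQ 38603 Q38603 (allL N38603 (tt N47193 (iv1 F317943)) (tt N70046 D134527) (tt N24873 (iv2 F317950)) (tt N19630 F98468) (tt N70047 D134528) (tt N19628 (iv5 D63219)) (tt N47023 (iv6 F317954)) (tt N68794 (iv7 F211635)))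
theorem Q38605 : ∀ i, i < 38605 → P i := stepQ 38604 Q38604 (allL N38604 (tt N70048 D134530) (tt N70049 D134531) (tt N68779 (iv2 F211609)) (tt N19631 F98469) (tt N68775 F211606) (tt N43771 F342209) (tt N19628 (iv6 D63220)) (tt N70050 D134533))
theorem Q38606 : ∀ i, i < 38606 → P i := stepQ 38605 Q38605 (allL N38605 (tt N19634 (iv1 F98476)) (tt N19629 (iv0 D63222)) (tt N69889 F216303) (tt N70051 D134534) (tt N37156 F98471) (tt N41937 (iv5 F330251)) (tt N70052 D134536) (tt N69184 (iv7 F213221)))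
theorem Q38607 : ∀ i, i < 38607 → P i := stepQ 38606 Q38606 (allL N38606 (tt N19629 (iv1 D63223)) (tt N19634 F98472) (tt N69184 (iv2 F213220)) (tt N69737 F216014) (tt N37177 F211563) (tt N70053 D134537) (tt N38872 (iv6 F326616)) (tt N69889 (iv7 F216301)))
theorem Q38608 : ∀ i, i < 38608 → P i := stepQ 38607 Q38607 (allL N38607 (tt N69853 F216262) (tt N70054 D134539) (tt N70055 D134540) (tt N19629 (iv3 D63224)) (tt N68773 F211605) (tt N70056 D134541) (tt N70057 D134542) (tt N68791 (iv7 F211628)))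
theorem Q38609 : ∀ i, i < 38609 → P i := stepQ 38608 Q38608 (allL N38608 (tt N70058 D134543) (tt N70059 D134544) (tt N70044 (iv2 F216467)) (tt N70056 (iv3 F216521)) (tt N46611 F352576) (tt N19629 (iv5 D63225)) (tt N62966 (iv6 F352619)) (tt N70060 D134547))
theorem Q38610 : ∀ i, i < 38610 → P i := stepQ 38609 Q38609 (allL N38609 (tt N70061 D134548) (tt N70062 D134549) (tt N55404 (iv2 F328607)) (tt N70057 (iv3 F216522)) (tt N19631 F98473) (tt N70063 D134550) (tt N19629 (iv6 D63226)) (tt N70064 D134551))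
theorem Q38611 : ∀ i, i < 38611 → P i := stepQ 38610 Q38610 (allL N38610 (tt N69184 F213223) (tt N69889 F216304) (tt N19634 F98474) (tt N68791 (iv3 F211627)) (tt N19632 F98475) (tt N70060 (iv5 F216527)) (tt N70065 D134552) (tt N19629 (iv7 D63227)))
theorem Q38612 : ∀ i, i < 38612 → P i := stepQ 38611 Q38611 (allL N38611 (tt N19635 (iv1 F98480)) (tt N19630 (iv0 D63228)) (tt N37070 F216476) (tt N38877 F216477) (tt N47403 (iv4 F318042)) (tt N37347 F216478) (tt N46927 F312330) (tt N47039 F314812))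
theorem Q38613 : ∀ i, i < 38613 → P i := stepQ 38612 Q38612 (allL N38612 (tt N47039 F319728) (tt N37070 F319729) (tt N19635 F98478) (tt N68794 (iv3 F211634)) (tt N47029 F319730) (tt N19632 F98479) (tt N70066 D134564) (tt N19630 (iv7 D63232)))
theorem Q38614 : ∀ i, i < 38614 → P i := stepQ 38613 Q38613 (allL N38613 (tt N49269 F329046) (tt N19631 (iv0 D63233)) (tt N37075 (iv2 F341743)) (tt N38881 (iv3 F341744)) (tt N69961 (iv4 F363251)) (tt N70067 D134568) (tt N38895 (iv6 F341745)) (tt N66259 (iv7 F341746)))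
theorem Q38615 : ∀ i, i < 38615 → P i := stepQ 38614 Q38614 (allL N38614 (tt N70068 D134575) (tt N69134 (iv0 F212895)) (tt N47564 (iv2 F321848)) (tt N43771 (iv3 F342208)) (tt N70069 D134576) (tt N19631 (iv5 D63235)) (tt N47561 F320108) (tt N70070 D134577))
theorem Q38616 : ∀ i, i < 38616 → P i := stepQ 38615 Q38615 (allL N38615 (tt N66259 (iv1 F337694)) (tt N37075 F337691) (tt N49269 F329045) (tt N70050 (iv3 F216515)) (tt N70064 (iv4 F216531)) (tt N70070 (iv5 F216548)) (tt N66492 (iv6 F333828)) (tt N19631 (iv7 D63236)))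
theorem Q38617 : ∀ i, i < 38617 → P i := stepQ 38616 Q38616 (allL N38616 (tt N20184 F340131) (tt N37128 F340132) (tt N19636 F98481) (tt N68795 (iv3 F211636)) (tt N70065 (iv4 F216533)) (tt N50708 (iv5 F340139)) (tt N19632 (iv6 D63237)) (tt N66492 (iv7 F333829)))
theorem Q38618 : ∀ i, i < 38618 → P i := stepQ 38617 Q38617 (allL N38617 (tt N24874 (iv1 F317501)) (tt N19633 (iv0 D63238)) (tt N37113 F207713) (tt N38869 F98950) (tt N38023 F98482) (tt N23021 F316137) (tt N38885 F325149) (tt N24445 (iv7 F316695)))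
theorem Q38619 : ∀ i, i < 38619 → P i := stepQ 38618 Q38618 (allL N38618 (tt N37113 F211597) (tt N24445 (iv0 F316694)) (tt N19633 (iv2 D63240)) (tt N68780 (iv3 F211612)) (tt N61748 F211599) (tt N24564 F315269) (tt N70071 D134585) (tt N24874 (iv7 F317502)))
theorem Q38620 : ∀ i, i < 38620 → P i := stepQ 38619 Q38619 (allL N38619 (tt N24832 F318970) (tt N23013 F318971) (tt N61748 (iv2 F211596)) (tt N55408 (iv3 F326535)) (tt N19633 (iv4 D63241)) (tt N24868 (iv5 F321097)) (tt N49274 (iv6 F326538)) (tt N25935 (iv7 F326531)))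
theorem Q38621 : ∀ i, i < 38621 → P i := stepQ 38620 Q38620 (allL N38620 (tt N60784 (iv1 F327765)) (tt N70072 D134593) (tt N70071 (iv2 F216564)) (tt N19636 F98485) (tt N49274 F327295) (tt N70073 D134594) (tt N19633 (iv6 D63243)) (tt N49270 (iv7 F327766)))
theorem Q38622 : ∀ i, i < 38622 → P i := stepQ 38621 Q38621 (allL N38621 (tt N58958 (iv1 F171573)) (tt N58047 (iv0 F168753)) (tt N58957 (iv2 F368898)) (tt N19634 (iv3 D63244)) (tt N55408 (iv4 F326536)) (tt N70074 D134597) (tt N70075 D134598) (tt N55405 (iv7 F364203)))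
theorem Q38623 : ∀ i, i < 38623 → P i := stepQ 38622 Q38622 (allL N38622 (tt N70059 (iv1 F216523)) (tt N70058 F216528) (tt N70060 (iv2 F216526)) (tt N70074 (iv3 F216578)) (tt N70076 D134599) (tt N19634 (iv5 D63245)) (tt N70077 D134600) (tt N70044 (iv7 F216468)))
theorem Q38624 : ∀ i, i < 38624 → P i := stepQ 38623 Q38623 (allL N38623 (tt N58901 (iv1 F342186)) (tt N70078 D134602) (tt N70065 (iv2 F216532)) (tt N70075 (iv3 F216579)) (tt N19636 F98486) (tt N70079 D134603) (tt N19634 (iv6 D63246)) (tt N70080 D134604))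
theorem Q38625 : ∀ i, i < 38625 → P i := stepQ 38624 Q38624 (allL N38624 (tt N25296 F330235) (tt N70081 D134609) (tt N70066 (iv2 F216543)) (tt N24857 F319731) (tt N47031 F319732) (tt N70082 D134610) (tt N19635 (iv6 D63248)) (tt N47031 (iv7 F321671)))
theorem Q38626 : ∀ i, i < 38626 → P i := stepQ 38625 Q38625 (allL N38625 (tt N19636 (iv1 D63250)) (tt N66492 F333831) (tt N37128 F333832) (tt N38895 F339526) (tt N20187 (iv4 F333835)) (tt N70083 D134620) (tt N38881 F337841) (tt N20184 F333833))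
theorem Q38627 : ∀ i, i < 38627 → P i := stepQ 38626 Q38626 (allL N38626 (tt N23953 F338707) (tt N50707 (iv0 F338708)) (tt N50708 (iv2 F340138)) (tt N70073 (iv3 F216576)) (tt N70084 D134624) (tt N19636 (iv5 D63251)) (tt N70082 (iv6 F216582)) (tt N50709 (iv7 F340144)))
theorem Q38628 : ∀ i, i < 38628 → P i := stepQ 38627 Q38627 (allL N38627 (tt N37128 (iv1 F340129)) (tt N20184 (iv0 F340130)) (tt N66492 (iv2 F333827)) (tt N49270 F328235) (tt N70080 (iv4 F216580)) (tt N50709 (iv5 F340143)) (tt N49269 (iv6 F328610)) (tt N19636 (iv7 D63252)))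
theorem Q38629 : ∀ i, i < 38629 → P i := stepQ 38628 Q38628 (allL N38628 (tt N63244 F186476) (tt N63243 F186474) (tt N19640 F98489) (tt N70085 D134626) (tt N19637 (iv4 D63262)) (tt N70086 D134627) (tt N70087 D134628) (tt N61097 (iv7 F308849)))
theorem Q38630 : ∀ i, i < 38630 → P i := stepQ 38629 Q38629 (allL N38629 (tt N52816 (iv1 F346376)) (tt N63218 F308708) (tt N19641 F98490) (tt N38899 (iv3 F98978)) (tt N70087 (iv4 F216588)) (tt N38899 (iv5 F98979)) (tt N19637 (iv6 D63263)) (tt N24452 F308709))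
theorem Q38631 : ∀ i, i < 38631 → P i := stepQ 38630 Q38630 (allL N38630 (tt N24488 (iv1 F316282)) (tt N70045 (iv0 F216502)) (tt N23031 F314734) (tt N19638 (iv3 D63265)) (tt N37598 F98492) (tt N68237 F211218) (tt N70088 D134638) (tt N63254 (iv7 F216642)))
theorem Q38632 : ∀ i, i < 38632 → P i := stepQ 38631 Q38631 (allL N38631 (tt N70089 D134640) (tt N70090 D134641) (tt N46439 (iv2 F321348)) (tt N70091 D134642) (tt N19638 (iv4 D63266)) (tt N70092 D134643) (tt N63218 (iv6 F341214)) (tt N63255 (iv7 F216645)))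
theorem Q38633 : ∀ i, i < 38633 → P i := stepQ 38632 Q38632 (allL N38632 (tt N70093 D134646) (tt N68362 (iv0 F353089)) (tt N63257 (iv2 F216657)) (tt N70088 (iv3 F216602)) (tt N63218 (iv4 F341212)) (tt N45391 (iv5 F331722)) (tt N19638 (iv6 D63268)) (tt N70094 D134649))
theorem Q38634 : ∀ i, i < 38634 → P i := stepQ 38633 Q38633 (allL N38633 (tt N70090 (iv1 F216609)) (tt N70089 F216608) (tt N63255 (iv2 F216644)) (tt N23019 (iv3 F321354)) (tt N19639 (iv4 D63271)) (tt N70095 D134655) (tt N66473 (iv6 F327819)) (tt N46439 (iv7 F321350)))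
theorem Q38635 : ∀ i, i < 38635 → P i := stepQ 38634 Q38634 (allL N38634 (tt N61097 (iv1 F308846)) (tt N19640 (iv0 D63274)) (tt N63244 (iv2 F212054)) (tt N70096 D134661) (tt N44788 F315477) (tt N62883 (iv5 F331616)) (tt N70097 D134663) (tt N63243 F212056))
theorem Q38636 : ∀ i, i < 38636 → P i := stepQ 38635 Q38635 (allL N38635 (tt N19640 (iv1 D63275)) (tt N61097 (iv0 F308845)) (tt N63243 F212053) (tt N70098 D134664) (tt N38370 (iv4 F98494)) (tt N70099 D134665) (tt N66432 (iv6 F328681)) (tt N63244 (iv7 F212045)))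
theorem Q38637 : ∀ i, i < 38637 → P i := stepQ 38636 Q38636 (allL N38636 (tt N70100 D134667) (tt N47406 (iv0 F331676)) (tt N70086 (iv2 F216586)) (tt N63248 (iv3 F186483)) (tt N70101 D134669) (tt N19640 (iv5 D63276)) (tt N63547 (iv6 F331679)) (tt N63245 (iv7 F186482)))
theorem Q38638 : ∀ i, i < 38638 → P i := stepQ 38637 Q38637 (allL N38637 (tt N70102 D134671) (tt N70103 D134672) (tt N70087 (iv2 F216587)) (tt N63249 (iv3 F186485)) (tt N19641 F98495) (tt N70104 D134673) (tt N19640 (iv6 D63277)) (tt N63217 (iv7 F306852)))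
theorem Q38639 : ∀ i, i < 38639 → P i := stepQ 38638 Q38638 (allL N38638 (tt N24452 F308711) (tt N19641 (iv0 D63278)) (tt N52816 (iv2 F330190)) (tt N70105 D134676) (tt N70094 (iv4 F330200)) (tt N70106 D134678) (tt N70107 D134679) (tt N63218 (iv7 F341215)))
theorem Q38640 : ∀ i, i < 38640 → P i := stepQ 38639 Q38639 (allL N38639 (tt N19641 (iv1 D63279)) (tt N24452 F308710) (tt N63218 (iv2 F341210)) (tt N23039 (iv3 F330182)) (tt N63257 (iv4 F330183)) (tt N70108 D134683) (tt N46439 (iv6 F330189)) (tt N52816 (iv7 F330191)))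
theorem Q38641 : ∀ i, i < 38641 → P i := stepQ 38640 Q38640 (allL N38640 (tt N38864 (iv1 F98941)) (tt N19642 (iv0 D63281)) (tt N38914 (iv2 F310710)) (tt N70109 D134686) (tt N70110 D134687) (tt N65314 (iv5 F309873)) (tt N66257 (iv6 F338718)) (tt N38913 (iv7 F310709)))
theorem Q38642 : ∀ i, i < 38642 → P i := stepQ 38641 Q38641 (allL N38641 (tt N24447 (iv1 F314770)) (tt N63840 F209872) (tt N63842 (iv2 F209868)) (tt N19643 (iv3 D63285)) (tt N63236 F209854) (tt N34244 (iv5 F314638)) (tt N70111 D134699) (tt N38918 F208093))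
theorem Q38643 : ∀ i, i < 38643 → P i := stepQ 38642 Q38642 (allL N38642 (tt N41057 F312567) (tt N20767 F312568) (tt N38916 F208026) (tt N34244 (iv3 F314637)) (tt N36234 (iv4 F313488)) (tt N19643 (iv5 D63287)) (tt N34242 F312278) (tt N38919 F208027))
theorem Q38644 : ∀ i, i < 38644 → P i := stepQ 38643 Q38643 (allL N38643 (tt N63790 (iv1 F320667)) (tt N70112 D134703) (tt N38917 (iv2 F208065)) (tt N70111 (iv3 F216698)) (tt N37650 F207987) (tt N70113 D134704) (tt N19643 (iv6 D63288)) (tt N70114 D134705))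
theorem Q38645 : ∀ i, i < 38645 → P i := stepQ 38644 Q38644 (allL N38644 (tt N20767 F312565) (tt N41057 F312566) (tt N38919 F208088) (tt N63861 (iv3 F314481)) (tt N36235 (iv4 F313489)) (tt N19644 (iv5 D63292)) (tt N67609 (iv6 F207478)) (tt N38916 (iv7 F208087)))
theorem Q38646 : ∀ i, i < 38646 → P i := stepQ 38645 Q38645 (allL N38645 (tt N41702 F314393) (tt N68359 (iv0 F215329)) (tt N38920 F208040) (tt N63836 (iv3 F209863)) (tt N37652 F208021) (tt N64224 (iv5 F306877)) (tt N19644 (iv6 D63293)) (tt N70115 D134711))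
theorem Q38647 : ∀ i, i < 38647 → P i := stepQ 38646 Q38646 (allL N38646 (tt N38838 (iv1 F101909)) (tt N38854 (iv0 F101902)) (tt N39087 F102007) (tt N68047 (iv3 F209051)) (tt N19645 (iv4 D63304)) (tt N63398 (iv5 F328385)) (tt N61999 (iv6 F179791)) (tt N38921 (iv7 F99007)))
theorem Q38648 : ∀ i, i < 38648 → P i := stepQ 38647 Q38647 (allL N38647 (tt N38962 F102008) (tt N37329 F102009) (tt N39088 F102010) (tt N19646 F98514) (tt N70116 D134716) (tt N19645 (iv5 D63305)) (tt N37343 F98515) (tt N38922 (iv7 F99010)))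
theorem Q38649 : ∀ i, i < 38649 → P i := stepQ 38648 Q38648 (allL N38648 (tt N70117 D134718) (tt N70118 D134719) (tt N70119 D134720) (tt N19647 (iv3 D63310)) (tt N19650 F98526) (tt N70120 D134721) (tt N30734 F98527) (tt N36090 F98528))
theorem Q38650 : ∀ i, i < 38650 → P i := stepQ 38649 Q38649 (allL N38649 (tt N35997 F98532) (tt N36000 F98533) (tt N29929 F98529) (tt N70120 (iv3 F216737)) (tt N20030 F98531) (tt N19647 (iv5 D63311)) (tt N69243 (iv6 F338566)) (tt N36052 F98530))
theorem Q38651 : ∀ i, i < 38651 → P i := stepQ 38650 Q38650 (allL N38650 (tt N20444 F98537) (tt N20447 F98538) (tt N30147 F98534) (tt N39711 (iv3 F100596)) (tt N30796 F98536) (tt N19648 (iv5 D63312)) (tt N70121 D134723) (tt N30150 F98535))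
theorem Q38652 : ∀ i, i < 38652 → P i := stepQ 38651 Q38651 (allL N38651 (tt N33306 F102040) (tt N33309 (iv0 F100606)) (tt N30148 F98539) (tt N39712 (iv3 F100597)) (tt N39719 (iv4 F100604)) (tt N70122 D134724) (tt N19648 (iv6 D63313)) (tt N70123 D134725))
theorem Q38653 : ∀ i, i < 38653 → P i := stepQ 38652 Q38652 (allL N38652 (tt N70124 D134726) (tt N70125 D134727) (tt N70126 D134728) (tt N19649 (iv3 D63314)) (tt N29655 F98540) (tt N70127 D134729) (tt N70128 D134730) (tt N30146 F98541))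
theorem Q38654 : ∀ i, i < 38654 → P i := stepQ 38653 Q38653 (allL N38653 (tt N20447 F98545) (tt N20444 F98546) (tt N30150 F98542) (tt N70127 (iv3 F216756)) (tt N30791 F98543) (tt N19649 (iv5 D63315)) (tt N70129 D134731) (tt N30147 F98544))
theorem Q38655 : ∀ i, i < 38655 → P i := stepQ 38654 Q38654 (allL N38654 (tt N40675 (iv1 F166198)) (tt N40676 (iv0 F166196)) (tt N30151 F98547) (tt N70128 (iv3 F216758)) (tt N29654 F98548) (tt N70130 D134732) (tt N19649 (iv6 D63316)) (tt N40717 F166083))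
theorem Q38656 : ∀ i, i < 38656 → P i := stepQ 38655 Q38655 (allL N38655 (tt N40295 (iv1 F101518)) (tt N19650 (iv0 D63317)) (tt N40294 (iv2 F181479)) (tt N70131 D134733) (tt N66476 (iv4 F204235)) (tt N70132 D134734) (tt N70133 D134735) (tt N40293 (iv7 F181481)))
theorem Q38657 : ∀ i, i < 38657 → P i := stepQ 38656 Q38656 (allL N38656 (tt N19650 (iv1 D63318)) (tt N40295 F101520) (tt N40293 F181480) (tt N40728 (iv3 F181477)) (tt N37025 F324049) (tt N70134 D134736) (tt N70135 D134737) (tt N40294 F181478))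
theorem Q38658 : ∀ i, i < 38658 → P i := stepQ 38657 Q38657 (allL N38657 (tt N40294 (iv1 F101519)) (tt N40293 F101515) (tt N19650 (iv2 D63319)) (tt N30154 F98549) (tt N70119 (iv4 F216731)) (tt N70136 D134738) (tt N30765 F98550) (tt N40295 (iv7 F101517)))
theorem Q38659 : ∀ i, i < 38659 → P i := stepQ 38658 Q38658 (allL N38658 (tt N70137 D134739) (tt N70138 D134740) (tt N70136 (iv2 F216763)) (tt N19651 F98551) (tt N70139 D134741) (tt N19650 (iv5 D63320)) (tt N70140 D134742) (tt N30996 F98552))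
theorem Q38660 : ∀ i, i < 38660 → P i := stepQ 38659 Q38659 (allL N38659 (tt N30161 (iv1 F98555)) (tt N19651 (iv0 D63321)) (tt N30157 (iv2 F98556)) (tt N70141 D134743) (tt N30785 F98554) (tt N30776 F98553) (tt N70142 D134744) (tt N30158 (iv7 F98557)))
theorem Q38661 : ∀ i, i < 38661 → P i := stepQ 38660 Q38660 (allL N38660 (tt N19651 (iv1 D63322)) (tt N30161 F98558) (tt N30158 (iv2 F98561)) (tt N70143 D134745) (tt N30780 (iv4 F98562)) (tt N29639 F98560) (tt N70144 D134746) (tt N30157 F98559))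
theorem Q38662 : ∀ i, i < 38662 → P i := stepQ 38661 Q38661 (allL N38661 (tt N70145 D134747) (tt N70146 D134748) (tt N30160 F98563) (tt N70140 (iv3 F216772)) (tt N31001 F98564) (tt N30771 F98565) (tt N19651 (iv6 D63323)) (tt N70147 D134749))
theorem Q38663 : ∀ i, i < 38663 → P i := stepQ 38662 Q38662 (allL N38662 (tt N57662 F167338) (tt N70148 D134750) (tt N19676 F98566) (tt N35544 F98567) (tt N30759 F98568) (tt N32397 F98569) (tt N19652 (iv6 D63324)) (tt N70149 D134751))
theorem Q38664 : ∀ i, i < 38664 → P i := stepQ 38663 Q38663 (allL N38663 (tt N47899 F345265) (tt N70150 D134753) (tt N70151 D134754) (tt N19653 (iv3 D63325)) (tt N44223 (iv4 F111148)) (tt N58333 (iv5 F351200)) (tt N20598 F98570) (tt N44350 (iv7 F111749)))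
theorem Q38665 : ∀ i, i < 38665 → P i := stepQ 38664 Q38664 (allL N38664 (tt N30702 F98574) (tt N20222 F98575) (tt N19680 F98571) (tt N58333 (iv3 F351199)) (tt N19732 F98573) (tt N19653 (iv5 D63326)) (tt N70152 D134756) (tt N19730 F98572))
theorem Q38666 : ∀ i, i < 38666 → P i := stepQ 38665 Q38665 (allL N38665 (tt N41076 (iv1 F103302)) (tt N41075 F103301) (tt N19682 F98576) (tt N57519 (iv3 F166999)) (tt N44351 (iv4 F111751)) (tt N38665 F98577) (tt N19654 (iv6 D63327)) (tt N30822 F98578))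
theorem Q38667 : ∀ i, i < 38667 → P i := stepQ 38666 Q38666 (allL N38666 (tt N70153 D134757) (tt N70154 D134758) (tt N70155 D134759) (tt N19655 (iv3 D63328)) (tt N38925 (iv4 F99023)) (tt N70156 D134760) (tt N59563 (iv6 F173149)) (tt N19696 F98579))
theorem Q38668 : ∀ i, i < 38668 → P i := stepQ 38667 Q38667 (allL N38667 (tt N30725 F98583) (tt N30699 F98584) (tt N19688 F98580) (tt N70156 (iv3 F216820)) (tt N20222 F98582) (tt N19655 (iv5 D63329)) (tt N58315 (iv6 F341397)) (tt N19697 F98581))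
theorem Q38669 : ∀ i, i < 38669 → P i := stepQ 38668 Q38668 (allL N38668 (tt N70157 D134762) (tt N70158 D134763) (tt N70159 D134764) (tt N19656 (iv3 D63330)) (tt N29964 F98585) (tt N70160 D134765) (tt N70161 D134766) (tt N19687 F98586))
theorem Q38670 : ∀ i, i < 38670 → P i := stepQ 38669 Q38669 (allL N38669 (tt N30699 F98590) (tt N30725 F98591) (tt N19697 F98587) (tt N70160 (iv3 F216833)) (tt N30702 F98588) (tt N19656 (iv5 D63331)) (tt N70162 D134767) (tt N19688 F98589))
theorem Q38671 : ∀ i, i < 38671 → P i := stepQ 38670 Q38670 (allL N38670 (tt N70163 D134768) (tt N38447 (iv0 F98594)) (tt N19698 F98592) (tt N70161 (iv3 F216835)) (tt N19657 F98593) (tt N40562 (iv5 F329653)) (tt N19656 (iv6 D63332)) (tt N59001 (iv7 F329659)))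
theorem Q38672 : ∀ i, i < 38672 → P i := stepQ 38671 Q38671 (allL N38671 (tt N70164 D134770) (tt N70165 D134771) (tt N70166 D134772) (tt N19658 (iv3 D63333)) (tt N35943 F98595) (tt N70167 D134773) (tt N64607 (iv6 F328119)) (tt N19711 F98596))
theorem Q38673 : ∀ i, i < 38673 → P i := stepQ 38672 Q38672 (allL N38672 (tt N38729 (iv1 F98709)) (tt N38726 (iv0 F98704)) (tt N19705 F98597) (tt N70167 (iv3 F216858)) (tt N20256 F98598) (tt N19658 (iv5 D63334)) (tt N25229 (iv6 F328927)) (tt N19712 F98599))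
theorem Q38674 : ∀ i, i < 38674 → P i := stepQ 38673 Q38673 (allL N38673 (tt N19659 (iv1 D63337)) (tt N19709 F98604) (tt N19708 F101649) (tt N38416 (iv3 F168229)) (tt N64599 (iv4 F325790)) (tt N56797 (iv5 F164815)) (tt N70168 D134779) (tt N19707 F101650))
theorem Q38675 : ∀ i, i < 38675 → P i := stepQ 38674 Q38674 (allL N38674 (tt N19708 (iv1 F98608)) (tt N19707 (iv0 F98609)) (tt N19709 F98605) (tt N38935 (iv3 F99039)) (tt N24362 (iv4 F327075)) (tt N30749 F98606) (tt N19716 F98607) (tt N19659 (iv7 D63338)))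
theorem Q38676 : ∀ i, i < 38676 → P i := stepQ 38675 Q38675 (allL N38675 (tt N70169 D134780) (tt N70170 D134781) (tt N70171 D134782) (tt N19660 (iv3 D63339)) (tt N33002 F98610) (tt N70172 D134783) (tt N70173 D134784) (tt N19717 F98611))
theorem Q38677 : ∀ i, i < 38677 → P i := stepQ 38676 Q38676 (allL N38676 (tt N38720 (iv1 F98691)) (tt N38139 F98615) (tt N19721 F98612) (tt N70172 (iv3 F216888)) (tt N30758 F98613) (tt N19660 (iv5 D63340)) (tt N51127 (iv6 F325749)) (tt N19718 F98614))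
theorem Q38678 : ∀ i, i < 38678 → P i := stepQ 38677 Q38677 (allL N38677 (tt N28067 F326257) (tt N28066 F326258) (tt N19722 F98616) (tt N70173 (iv3 F216890)) (tt N30741 F98617) (tt N28059 (iv5 F326772)) (tt N19660 (iv6 D63341)) (tt N28058 F326259))
theorem Q38679 : ∀ i, i < 38679 → P i := stepQ 38678 Q38678 (allL N38678 (tt N70174 D134788) (tt N19661 (iv0 D63342)) (tt N70175 D134789) (tt N70176 D134790) (tt N70177 D134791) (tt N70178 D134792) (tt N70179 D134793) (tt N70180 D134794))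
theorem Q38680 : ∀ i, i < 38680 → P i := stepQ 38679 Q38679 (allL N38679 (tt N19661 (iv1 D63343)) (tt N70174 F216905) (tt N70180 (iv2 F216910)) (tt N70181 D134795) (tt N70182 D134796) (tt N70183 D134797) (tt N70184 D134798) (tt N70175 F216906))
theorem Q38681 : ∀ i, i < 38681 → P i := stepQ 38680 Q38680 (allL N38680 (tt N70175 (iv1 F410157)) (tt N70180 (iv0 F410160)) (tt N19661 (iv2 D63344)) (tt N19725 F98618) (tt N38423 F98619) (tt N70185 D134801) (tt N38423 F98620) (tt N70174 (iv7 F216904)))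
theorem Q38682 : ∀ i, i < 38682 → P i := stepQ 38681 Q38681 (allL N38681 (tt N70186 D134802) (tt N70187 D134803) (tt N70185 (iv2 F216914)) (tt N19662 F98621) (tt N70188 D134804) (tt N19661 (iv5 D63345)) (tt N70189 D134805) (tt N70190 D134806))
theorem Q38683 : ∀ i, i < 38683 → P i := stepQ 38682 Q38682 (allL N38682 (tt N70180 (iv1 F410161)) (tt N70175 (iv0 F410156)) (tt N70174 F216901) (tt N19663 F98622) (tt N38425 F98623) (tt N70190 (iv5 F216919)) (tt N70191 D134807) (tt N19661 (iv7 D63346)))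
theorem Q38684 : ∀ i, i < 38684 → P i := stepQ 38683 Q38683 (allL N38683 (tt N19662 (iv1 D63347)) (tt N19732 F98624) (tt N19729 (iv2 F98628)) (tt N70192 D134808) (tt N30768 F98627) (tt N30737 F98626) (tt N62420 (iv6 F343168)) (tt N19728 F98625))
theorem Q38685 : ∀ i, i < 38685 → P i := stepQ 38684 Q38684 (allL N38684 (tt N20222 F98631) (tt N30702 F98632) (tt N19730 F98629) (tt N70193 D134810) (tt N19662 (iv4 D63348)) (tt N19681 F98630) (tt N70194 D134811) (tt N19680 F98633))
theorem Q38686 : ∀ i, i < 38686 → P i := stepQ 38685 Q38685 (allL N38685 (tt N70195 D134812) (tt N64561 (iv0 F341413)) (tt N19731 F98634) (tt N70189 (iv3 F216916)) (tt N70194 (iv4 F216930)) (tt N38427 F98635) (tt N19662 (iv6 D63349)) (tt N70196 D134814))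
theorem Q38687 : ∀ i, i < 38687 → P i := stepQ 38686 Q38686 (allL N38686 (tt N19729 (iv1 F98639)) (tt N19728 F98640) (tt N19732 F98636) (tt N70190 (iv3 F216918)) (tt N19680 F98637) (tt N19663 F98638) (tt N70197 D134815) (tt N19662 (iv7 D63350)))
theorem Q38688 : ∀ i, i < 38688 → P i := stepQ 38687 Q38687 (allL N38687 (tt N38565 (iv1 F98644)) (tt N38564 F98645) (tt N19733 F98641) (tt N70191 (iv3 F216920)) (tt N19664 F98642) (tt N70198 D134816) (tt N19663 (iv6 D63351)) (tt N38428 F98643))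
theorem Q38689 : ∀ i, i < 38689 → P i := stepQ 38688 Q38688 (allL N38688 (tt N70199 D134817) (tt N70200 D134818) (tt N70201 D134819) (tt N19665 (iv3 D63352)) (tt N30565 F98646) (tt N70202 D134820) (tt N38388 F98647) (tt N30913 F98648))
theorem Q38690 : ∀ i, i < 38690 → P i := stepQ 38689 Q38689 (allL N38689 (tt N30780 F98652) (tt N30785 F98653) (tt N30852 F98649) (tt N70202 (iv3 F216951)) (tt N20464 F98651) (tt N19665 (iv5 D63353)) (tt N70203 D134821) (tt N30851 F98650))
theorem Q38691 : ∀ i, i < 38691 → P i := stepQ 38690 Q38690 (allL N38690 (tt N58215 F169931) (tt N35900 F168465) (tt N29853 F98656) (tt N35826 F98657) (tt N30805 F98658) (tt N31382 F98659) (tt N19666 (iv6 D63354)) (tt N70204 D134822))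
theorem Q38692 : ∀ i, i < 38692 → P i := stepQ 38691 Q38691 (allL N38691 (tt N70205 D134823) (tt N69034 F214385) (tt N44326 (iv2 F111647)) (tt N57520 (iv3 F167004)) (tt N44300 (iv4 F111560)) (tt N31389 F98660) (tt N19667 (iv6 D63355)) (tt N70206 D134824))
theorem Q38693 : ∀ i, i < 38693 → P i := stepQ 38692 Q38692 (allL N38692 (tt N70207 D134825) (tt N70208 D134826) (tt N70209 D134827) (tt N19669 (iv3 D63356)) (tt N57500 (iv4 F166940)) (tt N57773 (iv5 F167718)) (tt N70210 D134828) (tt N57549 (iv7 F167094)))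
theorem Q38694 : ∀ i, i < 38694 → P i := stepQ 38693 Q38693 (allL N38693 (tt N57738 (iv1 F167668)) (tt N57739 (iv0 F167667)) (tt N54220 (iv2 F352679)) (tt N70210 (iv3 F216976)) (tt N19670 F98661) (tt N70211 D134829) (tt N19669 (iv6 D63357)) (tt N70212 D134830))
theorem Q38695 : ∀ i, i < 38695 → P i := stepQ 38694 Q38694 (allL N38694 (tt N59019 (iv1 F171776)) (tt N19670 (iv0 D63358)) (tt N41179 (iv2 F112155)) (tt N57523 F167028) (tt N44307 (iv4 F167652)) (tt N69725 F215963) (tt N30828 F112156) (tt N59018 (iv7 F171759)))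
theorem Q38696 : ∀ i, i < 38696 → P i := stepQ 38695 Q38695 (allL N38695 (tt N19670 (iv1 D63359)) (tt N59019 F171775) (tt N59018 (iv2 F171761)) (tt N32100 F112153) (tt N44308 F112157) (tt N44453 (iv5 F112152)) (tt N70213 D134831) (tt N41179 F112154))
theorem Q38697 : ∀ i, i < 38697 → P i := stepQ 38696 Q38696 (allL N38696 (tt N59018 (iv1 F171758)) (tt N41179 F171764) (tt N59019 (iv2 F171772)) (tt N36129 F98662) (tt N70212 (iv4 F216978)) (tt N36113 F98663) (tt N41248 (iv6 F103720)) (tt N19670 (iv7 D63360)))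
theorem Q38698 : ∀ i, i < 38698 → P i := stepQ 38697 Q38697 (allL N38697 (tt N70214 D134832) (tt N30358 (iv0 F98666)) (tt N35543 F98664) (tt N19674 F98665) (tt N39434 F100290) (tt N64681 (iv5 F329392)) (tt N19671 (iv6 D63361)) (tt N70215 D134833))
theorem Q38699 : ∀ i, i < 38699 → P i := stepQ 38698 Q38698 (allL N38698 (tt N70216 D134834) (tt N70217 D134835) (tt N70218 D134836) (tt N19673 (iv3 D63362)) (tt N69537 (iv4 F214690)) (tt N57775 (iv5 F167720)) (tt N70219 D134837) (tt N54222 (iv7 F352693)))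
theorem Q38700 : ∀ i, i < 38700 → P i := stepQ 38699 Q38699 (allL N38699 (tt N39909 F111129) (tt N33219 (iv0 F98668)) (tt N40348 F101624) (tt N70219 (iv3 F217001)) (tt N19674 F98667) (tt N59955 (iv5 F341282)) (tt N19673 (iv6 D63363)) (tt N40349 (iv7 F101625)))
theorem Q38701 : ∀ i, i < 38701 → P i := stepQ 38700 Q38700 (allL N38700 (tt N41248 (iv1 F103724)) (tt N19674 (iv0 D63364)) (tt N57550 F167095) (tt N22769 (iv3 F103350)) (tt N57810 (iv4 F167801)) (tt N36788 F103352) (tt N41102 F103349) (tt N30825 (iv7 F103351)))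
theorem Q38702 : ∀ i, i < 38702 → P i := stepQ 38701 Q38701 (allL N38701 (tt N19674 (iv1 D63365)) (tt N41248 F103723) (tt N30825 F98670) (tt N36022 F98671) (tt N20454 F98672) (tt N30696 F98673) (tt N20452 (iv6 F98669)) (tt N57550 (iv7 F167097)))
theorem Q38703 : ∀ i, i < 38703 → P i := stepQ 38702 Q38702 (allL N38702 (tt N30825 (iv1 F98676)) (tt N57550 F167096) (tt N41248 F103722) (tt N70215 (iv3 F216995)) (tt N40349 F101626) (tt N64682 (iv5 F329069)) (tt N59019 (iv6 F171774)) (tt N19674 (iv7 D63367)))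
theorem Q38704 : ∀ i, i < 38704 → P i := stepQ 38703 Q38703 (allL N38703 (tt N70149 (iv1 F216801)) (tt N19676 (iv0 D63368)) (tt N57662 (iv2 F171747)) (tt N60207 (iv3 F175895)) (tt N44356 (iv4 F171755)) (tt N70220 D134841) (tt N59017 F171746) (tt N70148 (iv7 F216791)))
theorem Q38705 : ∀ i, i < 38705 → P i := stepQ 38704 Q38704 (allL N38704 (tt N19676 (iv1 D63369)) (tt N70149 F216800) (tt N70148 F216793) (tt N32105 (iv3 F171749)) (tt N44357 F171750) (tt N66023 (iv5 F203099)) (tt N70221 D134842) (tt N57662 F171748))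
theorem Q38706 : ∀ i, i < 38706 → P i := stepQ 38705 Q38705 (allL N38705 (tt N70148 (iv1 F216790)) (tt N57662 (iv0 F171777)) (tt N70149 (iv2 F216795)) (tt N57508 (iv3 F166963)) (tt N31686 F336729) (tt N40323 (iv5 F101584)) (tt N57583 (iv6 F167185)) (tt N19676 (iv7 D63370)))
theorem Q38707 : ∀ i, i < 38707 → P i := stepQ 38706 Q38706 (allL N38706 (tt N70222 D134843) (tt N41192 (iv0 F165799)) (tt N35545 F98677) (tt N19678 F98678) (tt N39102 (iv4 F99400)) (tt N32230 F98679) (tt N19677 (iv6 D63371)) (tt N70223 D134844))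
theorem Q38708 : ∀ i, i < 38708 → P i := stepQ 38707 Q38707 (allL N38707 (tt N57583 (iv1 F167188)) (tt N19678 (iv0 D63372)) (tt N57581 F171587) (tt N30374 F167834) (tt N57816 F167835) (tt N41189 F167836) (tt N70224 D134845) (tt N57582 (iv7 F171585)))
theorem Q38709 : ∀ i, i < 38709 → P i := stepQ 38708 Q38708 (allL N38708 (tt N19678 (iv1 D63373)) (tt N57583 F167187) (tt N57582 (iv2 F171588)) (tt N60209 F175907) (tt N57817 F168677) (tt N58972 (iv5 F171635)) (tt N62352 (iv6 F180898)) (tt N57581 F171590))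
theorem Q38710 : ∀ i, i < 38710 → P i := stepQ 38709 Q38709 (allL N38709 (tt N57582 (iv1 F167181)) (tt N57581 F167186) (tt N57583 (iv2 F167182)) (tt N70223 (iv3 F217027)) (tt N57761 (iv4 F167701)) (tt N58961 (iv5 F171578)) (tt N70149 (iv6 F216799)) (tt N19678 (iv7 D63374)))
theorem Q38711 : ∀ i, i < 38711 → P i := stepQ 38710 Q38710 (allL N38710 (tt N70225 D134846) (tt N19679 (iv0 D63375)) (tt N70226 D134847) (tt N70227 D134848) (tt N70228 D134849) (tt N70229 D134850) (tt N70230 D134851) (tt N70231 D134852))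
theorem Q38712 : ∀ i, i < 38712 → P i := stepQ 38711 Q38711 (allL N38711 (tt N19679 (iv1 D63376)) (tt N70225 F217038) (tt N70231 (iv2 F217040)) (tt N70232 D134853) (tt N70233 D134854) (tt N70234 D134855) (tt N70235 D134856) (tt N70226 F217039))
theorem Q38713 : ∀ i, i < 38713 → P i := stepQ 38712 Q38712 (allL N38712 (tt N70226 (iv1 F360558)) (tt N70231 (iv0 F360561)) (tt N19679 (iv2 D63377)) (tt N70151 (iv3 F216802)) (tt N32112 F98680) (tt N61326 (iv5 F331542)) (tt N62339 (iv6 F180863)) (tt N70225 (iv7 F217037)))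
theorem Q38714 : ∀ i, i < 38714 → P i := stepQ 38713 Q38713 (allL N38713 (tt N70236 D134860) (tt N70237 D134861) (tt N61326 (iv2 F331541)) (tt N19680 F98681) (tt N44618 (iv4 F331543)) (tt N19679 (iv5 D63378)) (tt N32783 F331540) (tt N70193 (iv7 F216928)))
theorem Q38715 : ∀ i, i < 38715 → P i := stepQ 38714 Q38714 (allL N38714 (tt N70231 (iv1 F360562)) (tt N70226 (iv0 F360557)) (tt N70225 F217035) (tt N19681 F98682) (tt N32114 F98683) (tt N70193 (iv5 F216927)) (tt N70238 D134864) (tt N19679 (iv7 D63379)))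
theorem Q38716 : ∀ i, i < 38716 → P i := stepQ 38715 Q38715 (allL N38715 (tt N70239 D134865) (tt N70240 D134866) (tt N70152 (iv2 F216806)) (tt N32783 (iv3 F331538)) (tt N70197 (iv4 F216938)) (tt N32782 F331536) (tt N19680 (iv6 D63380)) (tt N44617 (iv7 F331539)))
theorem Q38717 : ∀ i, i < 38717 → P i := stepQ 38716 Q38716 (allL N38716 (tt N20775 F168120) (tt N56795 F168121) (tt N44351 (iv2 F111750)) (tt N70238 (iv3 F217047)) (tt N19682 F98684) (tt N70241 D134868) (tt N19681 (iv6 D63381)) (tt N20600 F98685))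
theorem Q38718 : ∀ i, i < 38718 → P i := stepQ 38717 Q38717 (allL N38717 (tt N30822 (iv1 F98686)) (tt N19682 (iv0 D63382)) (tt N41076 (iv2 F202580)) (tt N29679 F169259) (tt N40298 F169260) (tt N70242 D134869) (tt N65857 (iv6 F202665)) (tt N41075 F202582))
theorem Q38719 : ∀ i, i < 38719 → P i := stepQ 38718 Q38718 (allL N38718 (tt N19682 (iv1 D63383)) (tt N30822 F98687) (tt N41075 F202574) (tt N39835 F168117) (tt N40297 F168118) (tt N70243 D134870) (tt N67321 (iv6 F207086)) (tt N41076 (iv7 F202576)))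
theorem Q38720 : ∀ i, i < 38720 → P i := stepQ 38719 Q38719 (allL N38719 (tt N70244 D134871) (tt N70245 D134872) (tt N70246 D134873) (tt N19683 (iv3 D63384)) (tt N38441 F98688) (tt N70247 D134874) (tt N70248 D134875) (tt N67226 (iv7 F206956)))
theorem Q38721 : ∀ i, i < 38721 → P i := stepQ 38720 Q38720 (allL N38720 (tt N36785 F98690) (tt N38676 F98691) (tt N37331 F98689) (tt N70247 (iv3 F217058)) (tt N39965 (iv4 F100939)) (tt N19683 (iv5 D63385)) (tt N70249 D134876) (tt N38799 (iv7 F98816)))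
theorem Q38722 : ∀ i, i < 38722 → P i := stepQ 38721 Q38721 (allL N38721 (tt N70250 D134877) (tt N70251 D134878) (tt N37332 F98692) (tt N70248 (iv3 F217059)) (tt N19684 F98693) (tt N69930 (iv5 F216334)) (tt N19683 (iv6 D63386)) (tt N70252 D134879))
theorem Q38723 : ∀ i, i < 38723 → P i := stepQ 38722 Q38722 (allL N38722 (tt N37335 F98695) (tt N19684 (iv0 D63387)) (tt N37333 (iv2 F102132)) (tt N69353 F213965) (tt N70253 D134880) (tt N20547 F98694) (tt N38836 (iv6 F98854)) (tt N37334 (iv7 F102136)))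
theorem Q38724 : ∀ i, i < 38724 → P i := stepQ 38723 Q38723 (allL N38723 (tt N19684 (iv1 D63388)) (tt N37335 F98696) (tt N37334 F102137) (tt N56574 F164667) (tt N70254 D134881) (tt N44393 (iv5 F111913)) (tt N38443 (iv6 F102143)) (tt N37333 F102135))
theorem Q38725 : ∀ i, i < 38725 → P i := stepQ 38724 Q38724 (allL N38724 (tt N37334 (iv1 F98701)) (tt N37333 (iv0 F98702)) (tt N37335 F98697) (tt N38444 F98698) (tt N70252 (iv4 F217073)) (tt N20322 F98699) (tt N37433 F98700) (tt N19684 (iv7 D63389)))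
theorem Q38726 : ∀ i, i < 38726 → P i := stepQ 38725 Q38725 (allL N38725 (tt N70255 D134882) (tt N70256 D134883) (tt N70257 D134884) (tt N19685 (iv3 D63390)) (tt N36984 F98703) (tt N70258 D134885) (tt N70259 D134886) (tt N68880 (iv7 F211815)))
theorem Q38727 : ∀ i, i < 38727 → P i := stepQ 38726 Q38726 (allL N38726 (tt N38672 F98704) (tt N31665 F98705) (tt N38771 F98784) (tt N70258 (iv3 F217087)) (tt N40155 (iv4 F101261)) (tt N19685 (iv5 D63391)) (tt N70260 D134887) (tt N38770 F98780))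
theorem Q38728 : ∀ i, i < 38728 → P i := stepQ 38727 Q38727 (allL N38727 (tt N70253 F217080) (tt N70254 (iv0 F217084)) (tt N69818 (iv2 F216206)) (tt N70259 (iv3 F217088)) (tt N36722 F98706) (tt N69872 (iv5 F216281)) (tt N19685 (iv6 D63392)) (tt N70261 D134888))
theorem Q38729 : ∀ i, i < 38729 → P i := stepQ 38728 Q38728 (allL N38728 (tt N70262 D134889) (tt N70263 D134890) (tt N70264 D134891) (tt N19686 (iv3 D63393)) (tt N37399 F98707) (tt N70265 D134892) (tt N39630 (iv6 F326344)) (tt N69360 (iv7 F214021)))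
theorem Q38730 : ∀ i, i < 38730 → P i := stepQ 38729 Q38729 (allL N38729 (tt N31665 F98708) (tt N38672 F98709) (tt N38770 F98779) (tt N70265 (iv3 F217097)) (tt N40151 (iv4 F101245)) (tt N19686 (iv5 D63394)) (tt N70266 D134894) (tt N38771 (iv7 F98782)))
theorem Q38731 : ∀ i, i < 38731 → P i := stepQ 38730 Q38730 (allL N38730 (tt N38412 F98711) (tt N38479 F98712) (tt N38477 (iv2 F98777)) (tt N39630 F327159) (tt N36723 F98710) (tt N70267 D134895) (tt N19686 (iv6 D63395)) (tt N38476 F203284))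
theorem Q38732 : ∀ i, i < 38732 → P i := stepQ 38731 Q38731 (allL N38731 (tt N70159 (iv1 F216830)) (tt N19687 (iv0 D63396)) (tt N70158 (iv2 F352492)) (tt N70268 D134897) (tt N70269 D134898) (tt N70270 D134899) (tt N70271 D134900) (tt N70157 (iv7 F352486)))
theorem Q38733 : ∀ i, i < 38733 → P i := stepQ 38732 Q38732 (allL N38732 (tt N19687 (iv1 D63397)) (tt N70159 F216832) (tt N70157 (iv2 F352485)) (tt N70272 D134902) (tt N70273 D134903) (tt N70274 D134904) (tt N70275 D134905) (tt N70158 (iv7 F352494)))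
theorem Q38734 : ∀ i, i < 38734 → P i := stepQ 38733 Q38733 (allL N38733 (tt N70158 (iv1 F216831)) (tt N70157 F216825) (tt N19687 (iv2 D63398)) (tt N70155 (iv3 F216816)) (tt N56578 (iv4 F164294)) (tt N70276 D134906) (tt N70277 D134907) (tt N70159 (iv7 F216829)))
theorem Q38735 : ∀ i, i < 38735 → P i := stepQ 38734 Q38734 (allL N38734 (tt N70278 D134908) (tt N70279 D134909) (tt N70276 (iv2 F217107)) (tt N19688 F98713) (tt N70280 D134910) (tt N19687 (iv5 D63399)) (tt N70281 D134911) (tt N70160 (iv7 F216834)))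
theorem Q38736 : ∀ i, i < 38736 → P i := stepQ 38735 Q38735 (allL N38735 (tt N25602 F332721) (tt N70282 D134913) (tt N70277 (iv2 F217108)) (tt N19689 F98714) (tt N56579 (iv4 F164300)) (tt N70283 D134914) (tt N19687 (iv6 D63400)) (tt N70284 D134915))
theorem Q38737 : ∀ i, i < 38737 → P i := stepQ 38736 Q38736 (allL N38736 (tt N64827 (iv1 F360077)) (tt N70285 D134917) (tt N58315 (iv2 F341396)) (tt N70281 (iv3 F217109)) (tt N57809 (iv4 F167800)) (tt N59629 (iv5 F332716)) (tt N19688 (iv6 D63401)) (tt N58312 (iv7 F343825)))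
theorem Q38738 : ∀ i, i < 38738 → P i := stepQ 38737 Q38737 (allL N38737 (tt N59565 (iv1 F173155)) (tt N19689 (iv0 D63402)) (tt N59561 F173140) (tt N70286 D134920) (tt N36728 F167993) (tt N69908 (iv5 F216316)) (tt N38453 F168002) (tt N59562 (iv7 F173146)))
theorem Q38739 : ∀ i, i < 38739 → P i := stepQ 38738 Q38738 (allL N38738 (tt N19689 (iv1 D63403)) (tt N59565 F173154) (tt N59562 F173147) (tt N70287 D134921) (tt N36729 (iv4 F173144)) (tt N69907 (iv5 F216315)) (tt N70288 D134922) (tt N59561 F173143))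
theorem Q38740 : ∀ i, i < 38740 → P i := stepQ 38739 Q38739 (allL N38739 (tt N64851 (iv1 F328923)) (tt N64505 (iv0 F328920)) (tt N59564 (iv2 F173150)) (tt N70283 (iv3 F217110)) (tt N59620 (iv4 F343841)) (tt N19689 (iv5 D63404)) (tt N59629 (iv6 F332717)) (tt N59000 (iv7 F343839)))
theorem Q38741 : ∀ i, i < 38741 → P i := stepQ 38740 Q38740 (allL N38740 (tt N59562 (iv1 F173145)) (tt N59561 F173142) (tt N59565 (iv2 F173151)) (tt N70284 (iv3 F217111)) (tt N19691 F98715) (tt N59000 (iv5 F343838)) (tt N59001 (iv6 F329658)) (tt N19689 (iv7 D63405)))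
theorem Q38742 : ∀ i, i < 38742 → P i := stepQ 38741 Q38741 (allL N38741 (tt N67232 (iv1 F206967)) (tt N57710 (iv0 F171520)) (tt N37359 (iv2 F164136)) (tt N70289 D134927) (tt N19690 (iv4 D63408)) (tt N69951 (iv5 F216351)) (tt N38456 F98719) (tt N58036 (iv7 F168722)))
theorem Q38743 : ∀ i, i < 38743 → P i := stepQ 38742 Q38742 (allL N38742 (tt N32984 F98728) (tt N38462 F98729) (tt N20093 F98724) (tt N29967 F98725) (tt N37880 F98726) (tt N20087 F98727) (tt N19692 (iv6 D63413)) (tt N38461 (iv7 F98732)))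
theorem Q38744 : ∀ i, i < 38744 → P i := stepQ 38743 Q38743 (allL N38743 (tt N70290 D134928) (tt N70291 D134929) (tt N70292 D134930) (tt N19693 (iv3 D63414)) (tt N19696 F98734) (tt N66205 (iv5 F203654)) (tt N70293 D134931) (tt N38925 (iv7 F99024)))
theorem Q38745 : ∀ i, i < 38745 → P i := stepQ 38744 Q38744 (allL N38744 (tt N66162 F203545) (tt N36983 (iv0 F98736)) (tt N38931 (iv2 F99032)) (tt N70293 (iv3 F217130)) (tt N19694 F98735) (tt N39740 (iv5 F329051)) (tt N19693 (iv6 D63415)) (tt N68887 (iv7 F211827)))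
theorem Q38746 : ∀ i, i < 38746 → P i := stepQ 38745 Q38745 (allL N38745 (tt N38932 (iv1 F99038)) (tt N19694 (iv0 D63416)) (tt N37413 (iv2 F98737)) (tt N56378 (iv3 F163664)) (tt N37888 F163624) (tt N56368 (iv5 F163619)) (tt N69430 (iv6 F214369)) (tt N38457 F98738))
theorem Q38747 : ∀ i, i < 38747 → P i := stepQ 38746 Q38746 (allL N38746 (tt N70294 D134933) (tt N70295 D134934) (tt N38173 F98740) (tt N19700 F98741) (tt N57532 (iv4 F167059)) (tt N19694 (iv5 D63417)) (tt N19695 F98742) (tt N70296 D134935))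
theorem Q38748 : ∀ i, i < 38748 → P i := stepQ 38747 Q38747 (allL N38747 (tt N38457 (iv1 F98744)) (tt N37413 F98745) (tt N38932 (iv2 F99035)) (tt N19701 F98743) (tt N68887 (iv4 F211828)) (tt N70296 (iv5 F217149)) (tt N38929 (iv6 F99030)) (tt N19694 (iv7 D63418)))
theorem Q38749 : ∀ i, i < 38749 → P i := stepQ 38748 Q38748 (allL N38748 (tt N70155 (iv1 F216818)) (tt N19696 (iv0 D63419)) (tt N70154 (iv2 F216813)) (tt N70297 D134936) (tt N70298 D134937) (tt N70299 D134938) (tt N70300 D134939) (tt N70153 F216814))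
theorem Q38750 : ∀ i, i < 38750 → P i := stepQ 38749 Q38749 (allL N38749 (tt N19696 (iv1 D63420)) (tt N70155 F216819) (tt N70153 F216812) (tt N70301 D134940) (tt N67539 (iv4 F207381)) (tt N70302 D134941) (tt N70303 D134942) (tt N70154 (iv7 F216811)))
theorem Q38751 : ∀ i, i < 38751 → P i := stepQ 38750 Q38750 (allL N38750 (tt N70154 (iv1 F216815)) (tt N70153 F216809) (tt N19696 (iv2 D63421)) (tt N70159 (iv3 F216827)) (tt N70292 (iv4 F217128)) (tt N70304 D134943) (tt N70305 D134944) (tt N70155 (iv7 F216817)))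
theorem Q38752 : ∀ i, i < 38752 → P i := stepQ 38751 Q38751 (allL N38751 (tt N70306 D134945) (tt N70307 D134946) (tt N70304 (iv2 F217159)) (tt N19697 F98746) (tt N70308 D134947) (tt N19696 (iv5 D63422)) (tt N70309 D134948) (tt N70156 (iv7 F216821)))
theorem Q38753 : ∀ i, i < 38753 → P i := stepQ 38752 Q38752 (allL N38752 (tt N70310 D134949) (tt N70311 D134950) (tt N70305 (iv2 F217160)) (tt N19698 F98747) (tt N70293 (iv4 F217131)) (tt N70312 D134951) (tt N19696 (iv6 D63423)) (tt N70313 D134952))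
theorem Q38754 : ∀ i, i < 38754 → P i := stepQ 38753 Q38753 (allL N38753 (tt N70314 D134953) (tt N70315 D134954) (tt N70162 (iv2 F216837)) (tt N70309 (iv3 F217161)) (tt N44306 (iv4 F111575)) (tt N59013 (iv5 F329890)) (tt N19697 (iv6 D63424)) (tt N59012 (iv7 F343812)))
theorem Q38755 : ∀ i, i < 38755 → P i := stepQ 38754 Q38754 (allL N38754 (tt N59001 (iv1 F329655)) (tt N19698 (iv0 D63425)) (tt N70163 F216840) (tt N70316 D134957) (tt N57795 F203483) (tt N62291 (iv5 F329509)) (tt N35074 F329071) (tt N38447 (iv7 F203484)))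
theorem Q38756 : ∀ i, i < 38756 → P i := stepQ 38755 Q38755 (allL N38755 (tt N19698 (iv1 D63426)) (tt N59001 (iv0 F329654)) (tt N38447 F98749) (tt N70317 D134960) (tt N31426 F98750) (tt N38760 (iv5 F329661)) (tt N36885 (iv6 F98748)) (tt N70163 (iv7 F216842)))
theorem Q38757 : ∀ i, i < 38757 → P i := stepQ 38756 Q38756 (allL N38756 (tt N40523 (iv1 F329887)) (tt N40521 (iv0 F329888)) (tt N40562 F329779) (tt N70312 (iv3 F217162)) (tt N58963 (iv4 F329889)) (tt N19698 (iv5 D63427)) (tt N59013 (iv6 F329891)) (tt N38399 F329780))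
theorem Q38758 : ∀ i, i < 38758 → P i := stepQ 38757 Q38757 (allL N38757 (tt N38447 (iv1 F98752)) (tt N70163 F216841) (tt N59001 (iv2 F329656)) (tt N70313 (iv3 F217163)) (tt N19701 F98751) (tt N38399 (iv5 F329660)) (tt N59565 (iv6 F173153)) (tt N19698 (iv7 D63428)))
theorem Q38759 : ∀ i, i < 38759 → P i := stepQ 38758 Q38758 (allL N38758 (tt N57714 F167608) (tt N20538 F329152) (tt N20548 F98754) (tt N70318 D134966) (tt N19699 (iv4 D63429)) (tt N39864 (iv5 F329403)) (tt N37344 F98755) (tt N69555 (iv7 F214857)))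
theorem Q38760 : ∀ i, i < 38760 → P i := stepQ 38759 Q38759 (allL N38759 (tt N19700 (iv1 D63431)) (tt N33274 F98759) (tt N37436 (iv2 F168251)) (tt N38481 (iv3 F168310)) (tt N70319 D134968) (tt N40566 (iv5 F102088)) (tt N30903 F100749) (tt N39861 F100750))
theorem Q38761 : ∀ i, i < 38761 → P i := stepQ 38760 Q38760 (allL N38760 (tt N70320 D134969) (tt N70321 D134970) (tt N39860 (iv2 F100740)) (tt N70322 D134971) (tt N19700 (iv4 D63432)) (tt N38755 F329661) (tt N19702 F98760) (tt N64657 (iv7 F329234)))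
theorem Q38762 : ∀ i, i < 38762 → P i := stepQ 38761 Q38761 (allL N38761 (tt N37436 (iv1 F168250)) (tt N39861 F100742) (tt N33274 F98761) (tt N70296 (iv3 F217148)) (tt N64657 (iv4 F329233)) (tt N19701 F98762) (tt N31676 F98763) (tt N19700 (iv7 D63433)))
theorem Q38763 : ∀ i, i < 38763 → P i := stepQ 38762 Q38762 (allL N38762 (tt N70323 D134974) (tt N41920 F356546) (tt N70324 D134976) (tt N19702 (iv3 D63434)) (tt N57530 (iv4 F167048)) (tt N64644 (iv5 F329114)) (tt N70322 (iv6 F217188)) (tt N39862 (iv7 F100751)))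
theorem Q38764 : ∀ i, i < 38764 → P i := stepQ 38763 Q38763 (allL N38763 (tt N70325 D134979) (tt N70326 D134980) (tt N70327 D134981) (tt N19703 (iv3 D63436)) (tt N36975 F98767) (tt N57854 (iv5 F167922)) (tt N70328 D134982) (tt N30698 F98768))
theorem Q38765 : ∀ i, i < 38765 → P i := stepQ 38764 Q38764 (allL N38764 (tt N38571 (iv1 F102149)) (tt N38567 (iv0 F101901)) (tt N57802 (iv2 F167782)) (tt N70328 (iv3 F217207)) (tt N30700 F98769) (tt N70329 D134983) (tt N19703 (iv6 D63437)) (tt N38489 F98770))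
theorem Q38766 : ∀ i, i < 38766 → P i := stepQ 38765 Q38765 (allL N38765 (tt N48668 (iv1 F328744)) (tt N19704 (iv0 D63438)) (tt N59458 (iv2 F355032)) (tt N70330 D134985) (tt N70331 D134986) (tt N70278 (iv5 F332713)) (tt N70332 D134988) (tt N59457 (iv7 F355029)))
theorem Q38767 : ∀ i, i < 38767 → P i := stepQ 38766 Q38766 (allL N38766 (tt N19704 (iv1 D63439)) (tt N48668 (iv0 F328743)) (tt N59457 (iv2 F355028)) (tt N70333 D134990) (tt N70334 D134991) (tt N70279 (iv5 F332732)) (tt N38491 F354998) (tt N59458 (iv7 F355033)))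
theorem Q38768 : ∀ i, i < 38768 → P i := stepQ 38767 Q38767 (allL N38767 (tt N59458 (iv1 F172946)) (tt N59457 F172941) (tt N19704 (iv2 D63440)) (tt N70166 (iv3 F216853)) (tt N56535 (iv4 F164212)) (tt N70335 D134994) (tt N54129 F328659) (tt N48668 (iv7 F328747)))
theorem Q38769 : ∀ i, i < 38769 → P i := stepQ 38768 Q38768 (allL N38768 (tt N70336 D134996) (tt N70337 D134997) (tt N70335 (iv2 F217221)) (tt N19705 F98771) (tt N70338 D134998) (tt N19704 (iv5 D63441)) (tt N52774 (iv6 F329072)) (tt N50579 (iv7 F328750)))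
theorem Q38770 : ∀ i, i < 38770 → P i := stepQ 38769 Q38769 (allL N38769 (tt N54127 (iv1 F328259)) (tt N54126 (iv0 F328260)) (tt N54129 (iv2 F328261)) (tt N19706 F98772) (tt N56537 (iv4 F164220)) (tt N22316 (iv5 F328265)) (tt N19704 (iv6 D63442)) (tt N25827 (iv7 F328103)))
theorem Q38771 : ∀ i, i < 38771 → P i := stepQ 38770 Q38770 (allL N38770 (tt N19712 (iv1 F98776)) (tt N19705 (iv0 D63443)) (tt N38729 (iv2 F98779)) (tt N70339 D135004) (tt N38485 F98774) (tt N37812 F98773) (tt N70340 D135005) (tt N38726 (iv7 F98780)))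
theorem Q38772 : ∀ i, i < 38772 → P i := stepQ 38771 Q38771 (allL N38771 (tt N19705 (iv1 D63444)) (tt N19712 F98781) (tt N38726 (iv2 F98784)) (tt N70341 D135006) (tt N39896 (iv4 F100831)) (tt N38469 F98783) (tt N70342 D135007) (tt N38729 F98782))
theorem Q38773 : ∀ i, i < 38773 → P i := stepQ 38772 Q38772 (allL N38772 (tt N24362 F327644) (tt N19706 (iv0 D63446)) (tt N64278 (iv2 F327853)) (tt N70343 D135012) (tt N36786 F168017) (tt N64300 (iv5 F328117)) (tt N38518 (iv6 F168018)) (tt N64277 (iv7 F327852)))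
theorem Q38774 : ∀ i, i < 38774 → P i := stepQ 38773 Q38773 (allL N38773 (tt N19706 (iv1 D63447)) (tt N24362 F327643) (tt N64277 (iv2 F327850)) (tt N54250 (iv3 F328114)) (tt N36787 F167628) (tt N45348 (iv5 F328116)) (tt N70344 D135016) (tt N64278 (iv7 F327856)))
theorem Q38775 : ∀ i, i < 38775 → P i := stepQ 38774 Q38774 (allL N38774 (tt N25009 F326600) (tt N19719 F164011) (tt N38585 F164012) (tt N70345 D135020) (tt N19707 (iv4 D63452)) (tt N63989 (iv5 F327342)) (tt N38523 F98789) (tt N64599 F326601))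
theorem Q38776 : ∀ i, i < 38776 → P i := stepQ 38775 Q38775 (allL N38775 (tt N57820 F167856) (tt N56754 (iv0 F164746)) (tt N38586 (iv2 F164021)) (tt N38502 F168306) (tt N65408 (iv4 F341362)) (tt N19707 (iv5 D63453)) (tt N30930 F98790) (tt N56797 (iv7 F164814)))
theorem Q38777 : ∀ i, i < 38777 → P i := stepQ 38776 Q38776 (allL N38776 (tt N19719 F100852) (tt N25009 (iv0 F325788)) (tt N64599 (iv2 F325789)) (tt N36162 F324675) (tt N19708 (iv4 D63456)) (tt N45358 (iv5 F325791)) (tt N36161 (iv6 F325101)) (tt N38585 F163950))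
theorem Q38778 : ∀ i, i < 38778 → P i := stepQ 38777 Q38777 (allL N38777 (tt N33307 F98795) (tt N33310 F164738) (tt N70168 (iv2 F216875)) (tt N19744 F163941) (tt N36161 (iv4 F325100)) (tt N37435 (iv5 F163957)) (tt N19708 (iv6 D63458)) (tt N38522 F98793))
theorem Q38779 : ∀ i, i < 38779 → P i := stepQ 38778 Q38778 (allL N38778 (tt N38937 (iv1 F99046)) (tt N19710 (iv0 D63459)) (tt N38595 (iv2 F168159)) (tt N32343 F168160) (tt N37971 (iv4 F168170)) (tt N30938 (iv5 F161107)) (tt N70346 D135025) (tt N38936 (iv7 F168422)))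
theorem Q38780 : ∀ i, i < 38780 → P i := stepQ 38779 Q38779 (allL N38779 (tt N19710 (iv1 D63460)) (tt N38937 F99045) (tt N38936 F168423) (tt N19838 F168154) (tt N37972 F168155) (tt N30939 F100099) (tt N38579 F168156) (tt N38595 F168157))
theorem Q38781 : ∀ i, i < 38781 → P i := stepQ 38780 Q38780 (allL N38780 (tt N38936 (iv1 F99041)) (tt N38595 (iv0 F168420)) (tt N38937 (iv2 F99042)) (tt N19716 F98796) (tt N66190 (iv4 F203625)) (tt N59319 (iv5 F172586)) (tt N38935 (iv6 F99040)) (tt N19710 (iv7 D63461)))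
theorem Q38782 : ∀ i, i < 38782 → P i := stepQ 38781 Q38781 (allL N38781 (tt N70166 (iv1 F216856)) (tt N19711 (iv0 D63462)) (tt N70165 (iv2 F216851)) (tt N70347 D135026) (tt N70348 D135027) (tt N70306 (iv5 F336996)) (tt N38511 (iv6 F347104)) (tt N70164 F216852))
theorem Q38783 : ∀ i, i < 38783 → P i := stepQ 38782 Q38782 (allL N38782 (tt N19711 (iv1 D63463)) (tt N70166 F216857) (tt N70164 F216850) (tt N70349 D135030) (tt N67774 (iv4 F207826)) (tt N70307 (iv5 F389036)) (tt N70350 D135032) (tt N70165 (iv7 F216848)))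
theorem Q38784 : ∀ i, i < 38784 → P i := stepQ 38783 Q38783 (allL N38783 (tt N70165 F216849) (tt N70164 F216845) (tt N19711 (iv2 D63464)) (tt N48668 (iv3 F328746)) (tt N66185 (iv4 F203612)) (tt N70351 D135033) (tt N48667 F328516) (tt N70166 (iv7 F216855)))
theorem Q38785 : ∀ i, i < 38785 → P i := stepQ 38784 Q38784 (allL N38784 (tt N70352 D135035) (tt N70353 D135036) (tt N70351 (iv2 F217267)) (tt N19712 F98797) (tt N70354 D135037) (tt N19711 (iv5 D63465)) (tt N70355 D135038) (tt N70167 (iv7 F216859)))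
theorem Q38786 : ∀ i, i < 38786 → P i := stepQ 38785 Q38785 (allL N38785 (tt N70356 D135039) (tt N70357 D135040) (tt N48667 (iv2 F328107)) (tt N19713 F98798) (tt N66187 (iv4 F203620)) (tt N48666 (iv5 F328109)) (tt N19711 (iv6 D63466)) (tt N70358 D135042))
theorem Q38787 : ∀ i, i < 38787 → P i := stepQ 38786 Q38786 (allL N38786 (tt N52766 (iv1 F336675)) (tt N52765 (iv0 F343093)) (tt N50577 (iv2 F336665)) (tt N70355 (iv3 F217269)) (tt N44355 (iv4 F111766)) (tt N51451 (iv5 F328112)) (tt N19712 (iv6 D63467)) (tt N52759 (iv7 F336674)))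
theorem Q38788 : ∀ i, i < 38788 → P i := stepQ 38787 Q38787 (allL N38787 (tt N48671 F327638) (tt N19713 (iv0 D63468)) (tt N59455 F172926) (tt N53910 (iv3 F361231)) (tt N52924 (iv4 F327630)) (tt N50005 (iv5 F328084)) (tt N40564 F329971) (tt N59456 (iv7 F172930)))
theorem Q38789 : ∀ i, i < 38789 → P i := stepQ 38788 Q38788 (allL N38788 (tt N19713 (iv1 D63469)) (tt N48671 F327637) (tt N59456 F172932) (tt N70359 D135050) (tt N37111 (iv4 F170841)) (tt N50004 (iv5 F328083)) (tt N38497 F170842) (tt N59455 F172927))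
theorem Q38790 : ∀ i, i < 38790 → P i := stepQ 38789 Q38789 (allL N38789 (tt N48670 (iv1 F328110)) (tt N48669 F327641) (tt N27022 (iv2 F327944)) (tt N48666 (iv3 F328108)) (tt N27025 (iv4 F328111)) (tt N19713 (iv5 D63470)) (tt N51451 (iv6 F328113)) (tt N24361 F327642))
theorem Q38791 : ∀ i, i < 38791 → P i := stepQ 38790 Q38790 (allL N38790 (tt N59456 (iv1 F172929)) (tt N59455 F172928) (tt N48671 (iv2 F327067)) (tt N70358 (iv3 F217271)) (tt N19716 F98799) (tt N24361 (iv5 F327074)) (tt N24362 (iv6 F327076)) (tt N19713 (iv7 D63471)))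
theorem Q38792 : ∀ i, i < 38792 → P i := stepQ 38791 Q38791 (allL N38791 (tt N28058 (iv1 F325944)) (tt N19722 F168288) (tt N28067 (iv2 F325945)) (tt N51688 F324964) (tt N19714 (iv4 D63474)) (tt N28406 (iv5 F325947)) (tt N70360 D135055) (tt N28066 (iv7 F325394)))
theorem Q38793 : ∀ i, i < 38793 → P i := stepQ 38792 Q38792 (allL N38792 (tt N38569 F98803) (tt N40522 (iv0 F101814)) (tt N40566 F102090) (tt N19752 F168266) (tt N70360 (iv4 F217288)) (tt N37436 F168267) (tt N19714 (iv6 D63475)) (tt N38504 F98807))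
theorem Q38794 : ∀ i, i < 38794 → P i := stepQ 38793 Q38793 (allL N38793 (tt N19722 F168416) (tt N28058 F326261) (tt N28066 F326262) (tt N70361 D135056) (tt N19715 (iv4 D63478)) (tt N50059 (iv5 F327066)) (tt N38501 F98810) (tt N28067 F326263))
theorem Q38795 : ∀ i, i < 38795 → P i := stepQ 38794 Q38794 (allL N38794 (tt N70171 (iv1 F216885)) (tt N19717 (iv0 D63479)) (tt N70170 (iv2 F363966)) (tt N68765 F211530) (tt N70362 D135059) (tt N70363 D135060) (tt N70364 D135061) (tt N70169 (iv7 F363965)))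
theorem Q38796 : ∀ i, i < 38796 → P i := stepQ 38795 Q38795 (allL N38795 (tt N19717 (iv1 D63480)) (tt N70171 F216887) (tt N70169 (iv2 F363964)) (tt N70365 D135063) (tt N70366 D135064) (tt N70367 D135065) (tt N38525 F335887) (tt N70170 (iv7 F363967)))
theorem Q38797 : ∀ i, i < 38797 → P i := stepQ 38796 Q38796 (allL N38796 (tt N70170 (iv1 F216886)) (tt N70169 F216881) (tt N19717 (iv2 D63481)) (tt N67319 (iv3 F207063)) (tt N61735 (iv4 F179372)) (tt N70368 D135067) (tt N70369 D135068) (tt N70171 (iv7 F216884)))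
theorem Q38798 : ∀ i, i < 38798 → P i := stepQ 38797 Q38797 (allL N38797 (tt N70370 D135069) (tt N70371 D135070) (tt N70368 (iv2 F217297)) (tt N19718 F98811) (tt N70372 D135071) (tt N19717 (iv5 D63482)) (tt N65354 (iv6 F327317)) (tt N70172 (iv7 F216889)))
theorem Q38799 : ∀ i, i < 38799 → P i := stepQ 38798 Q38798 (allL N38798 (tt N70373 D135073) (tt N70374 D135074) (tt N70369 (iv2 F217298)) (tt N19719 F98812) (tt N61737 (iv4 F179380)) (tt N64441 (iv5 F327343)) (tt N19717 (iv6 D63483)) (tt N64598 (iv7 F327344)))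
theorem Q38800 : ∀ i, i < 38800 → P i := stepQ 38799 Q38799 (allL N38799 (tt N19721 (iv1 F98815)) (tt N19718 (iv0 D63484)) (tt N38139 (iv2 F98814)) (tt N70375 D135077) (tt N39901 (iv4 F100843)) (tt N36724 F98813) (tt N70376 D135078) (tt N38720 F98816))
theorem Q38801 : ∀ i, i < 38801 → P i := stepQ 38800 Q38800 (allL N38800 (tt N67319 (iv1 F207066)) (tt N19720 (iv0 D63490)) (tt N67318 (iv2 F354666)) (tt N70377 D135087) (tt N67438 (iv4 F207255)) (tt N70378 D135088) (tt N38533 F354728) (tt N67317 (iv7 F354761)))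
theorem Q38802 : ∀ i, i < 38802 → P i := stepQ 38801 Q38801 (allL N38801 (tt N19720 (iv1 D63491)) (tt N67319 F207068) (tt N67317 (iv2 F354760)) (tt N70379 D135091) (tt N67374 (iv4 F207143)) (tt N70380 D135092) (tt N70381 D135093) (tt N67318 (iv7 F354668)))
theorem Q38803 : ∀ i, i < 38803 → P i := stepQ 38802 Q38802 (allL N38802 (tt N67318 (iv1 F207067)) (tt N67317 F207062) (tt N19720 (iv2 D63492)) (tt N70171 (iv3 F216882)) (tt N53031 (iv4 F325744)) (tt N26664 F324641) (tt N26111 (iv6 F325746)) (tt N67319 (iv7 F207065)))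
theorem Q38804 : ∀ i, i < 38804 → P i := stepQ 38803 Q38803 (allL N38803 (tt N19724 (iv1 F98822)) (tt N19723 (iv0 D63500)) (tt N19727 (iv2 F98819)) (tt N70174 (iv3 F216902)) (tt N19754 F98820) (tt N70382 D135110) (tt N39810 F347013) (tt N19725 F98821))
theorem Q38805 : ∀ i, i < 38805 → P i := stepQ 38804 Q38804 (allL N38804 (tt N70379 (iv1 F218461)) (tt N70383 D135113) (tt N70384 D135114) (tt N19723 (iv3 D63502)) (tt N67657 F207586) (tt N70385 D135115) (tt N70386 D135116) (tt N70387 D135117))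
theorem Q38806 : ∀ i, i < 38806 → P i := stepQ 38805 Q38805 (allL N38805 (tt N70388 D135118) (tt N68217 F213543) (tt N69241 (iv2 F213540)) (tt N70385 (iv3 F217332)) (tt N70389 D135119) (tt N19723 (iv5 D63504)) (tt N65356 (iv6 F337791)) (tt N70390 D135121))
theorem Q38807 : ∀ i, i < 38807 → P i := stepQ 38806 Q38806 (allL N38806 (tt N39830 F337829) (tt N36162 (iv0 F337830)) (tt N39831 F338400) (tt N70386 (iv3 F217333)) (tt N69239 (iv4 F213537)) (tt N56145 (iv5 F337819)) (tt N19723 (iv6 D63505)) (tt N39832 (iv7 F338407)))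
theorem Q38808 : ∀ i, i < 38808 → P i := stepQ 38807 Q38807 (allL N38807 (tt N19725 F213166) (tt N19727 F213167) (tt N19724 F98824) (tt N70387 (iv3 F217334)) (tt N69213 (iv4 F213370)) (tt N70390 (iv5 F217339)) (tt N70391 D135126) (tt N19723 (iv7 D63506)))
theorem Q38809 : ∀ i, i < 38809 → P i := stepQ 38808 Q38808 (allL N38808 (tt N68762 F217263) (tt N68765 (iv0 F363954)) (tt N48634 (iv2 F337799)) (tt N19724 (iv3 D63507)) (tt N69254 (iv4 F213565)) (tt N48741 F337796) (tt N25596 (iv6 F337801)) (tt N69240 (iv7 F213539)))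
theorem Q38810 : ∀ i, i < 38810 → P i := stepQ 38809 Q38809 (allL N38809 (tt N68217 (iv1 F212148)) (tt N70388 F217340) (tt N70390 (iv2 F217338)) (tt N48741 (iv3 F337794)) (tt N70392 D135131) (tt N19724 (iv5 D63508)) (tt N48712 (iv6 F337795)) (tt N69241 (iv7 F213541)))
theorem Q38811 : ∀ i, i < 38811 → P i := stepQ 38810 Q38810 (allL N38810 (tt N51688 (iv1 F338302)) (tt N51690 (iv0 F338303)) (tt N70391 (iv2 F217342)) (tt N25596 F337808) (tt N69245 (iv4 F213554)) (tt N25595 (iv5 F337817)) (tt N19724 (iv6 D63509)) (tt N48548 (iv7 F337818)))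
theorem Q38812 : ∀ i, i < 38812 → P i := stepQ 38811 Q38811 (allL N38811 (tt N70393 D135137) (tt N70394 D135138) (tt N19726 F98826) (tt N70185 (iv3 F216915)) (tt N70395 D135139) (tt N19725 (iv5 D63511)) (tt N70396 D135140) (tt N70382 (iv7 F217322)))
theorem Q38813 : ∀ i, i < 38813 → P i := stepQ 38812 Q38812 (allL N38812 (tt N70382 (iv1 F217324)) (tt N19726 (iv0 D63512)) (tt N70393 (iv2 F217695)) (tt N70397 D135142) (tt N70398 D135143) (tt N67616 F217325) (tt N70399 D135144) (tt N70394 (iv7 F217700)))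
theorem Q38814 : ∀ i, i < 38814 → P i := stepQ 38813 Q38813 (allL N38813 (tt N19726 (iv1 D63513)) (tt N70382 (iv0 F217323)) (tt N70394 (iv2 F217699)) (tt N70400 D135146) (tt N70401 D135147) (tt N67617 (iv5 F211052)) (tt N70402 D135148) (tt N70393 (iv7 F217696)))
theorem Q38815 : ∀ i, i < 38815 → P i := stepQ 38814 Q38814 (allL N38814 (tt N70403 D135149) (tt N70404 D135150) (tt N70395 (iv2 F217350)) (tt N58019 (iv3 F345284)) (tt N19726 (iv4 D63514)) (tt N70405 D135152) (tt N58018 (iv6 F356119)) (tt N70406 D135154))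
theorem Q38816 : ∀ i, i < 38816 → P i := stepQ 38815 Q38815 (allL N38815 (tt N62926 (iv1 F363099)) (tt N70407 D135156) (tt N70396 (iv2 F217351)) (tt N19731 F98827) (tt N58018 (iv4 F356118)) (tt N38552 F98828) (tt N19726 (iv6 D63515)) (tt N70408 D135157))
theorem Q38817 : ∀ i, i < 38817 → P i := stepQ 38816 Q38816 (allL N38816 (tt N70394 (iv1 F217348)) (tt N70393 F217347) (tt N70382 (iv2 F217321)) (tt N19732 F98829) (tt N70406 (iv4 F217357)) (tt N19727 F98830) (tt N70409 D135158) (tt N19726 (iv7 D63516)))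
theorem Q38818 : ∀ i, i < 38818 → P i := stepQ 38817 Q38817 (allL N38817 (tt N39202 (iv1 F347017)) (tt N39812 F347014) (tt N39810 F347011) (tt N19733 F98831) (tt N19770 F98832) (tt N70410 D135161) (tt N19727 (iv6 D63517)) (tt N38554 F98833))
theorem Q38819 : ∀ i, i < 38819 → P i := stepQ 38818 Q38818 (allL N38818 (tt N70363 (iv1 F384463)) (tt N70367 (iv0 F364857)) (tt N70411 D135164) (tt N19728 (iv3 D63518)) (tt N70412 D135165) (tt N57709 (iv5 F167591)) (tt N70413 D135166) (tt N70192 (iv7 F216924)))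
theorem Q38820 : ∀ i, i < 38820 → P i := stepQ 38819 Q38819 (allL N38819 (tt N58309 (iv1 F350360)) (tt N58319 (iv0 F343162)) (tt N58317 (iv2 F362604)) (tt N70413 (iv3 F217366)) (tt N57776 (iv4 F167721)) (tt N59959 (iv5 F343161)) (tt N19728 (iv6 D63519)) (tt N58316 (iv7 F360069)))
theorem Q38821 : ∀ i, i < 38821 → P i := stepQ 38820 Q38820 (allL N38820 (tt N70378 (iv1 F332682)) (tt N70380 (iv0 F352563)) (tt N70414 D135173) (tt N19729 (iv3 D63520)) (tt N54285 (iv4 F317327)) (tt N57713 (iv5 F167604)) (tt N70415 D135175) (tt N67230 (iv7 F206959)))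
theorem Q38822 : ∀ i, i < 38822 → P i := stepQ 38821 Q38821 (allL N38821 (tt N62418 (iv1 F343174)) (tt N62417 (iv0 F343175)) (tt N62420 (iv2 F343166)) (tt N70415 (iv3 F217367)) (tt N57774 (iv4 F167719)) (tt N59027 (iv5 F343177)) (tt N19729 (iv6 D63521)) (tt N59026 (iv7 F343176)))
theorem Q38823 : ∀ i, i < 38823 → P i := stepQ 38822 Q38822 (allL N38822 (tt N57948 (iv1 F351242)) (tt N58335 (iv0 F351243)) (tt N40393 F345277) (tt N19730 (iv3 D63522)) (tt N58019 (iv4 F345285)) (tt N44350 (iv5 F111748)) (tt N33228 (iv6 F345286)) (tt N58333 (iv7 F351202)))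
theorem Q38824 : ∀ i, i < 38824 → P i := stepQ 38823 Q38823 (allL N38823 (tt N70416 D135184) (tt N70417 D135185) (tt N70194 (iv2 F216929)) (tt N33228 F345287) (tt N19731 F98834) (tt N33293 (iv5 F345288)) (tt N19730 (iv6 D63523)) (tt N40390 (iv7 F345289)))
theorem Q38825 : ∀ i, i < 38825 → P i := stepQ 38824 Q38824 (allL N38824 (tt N70196 (iv1 F216936)) (tt N19731 (iv0 D63524)) (tt N70195 (iv2 F350740)) (tt N70418 D135189) (tt N70419 D135190) (tt N64562 (iv5 F360238)) (tt N70420 D135192) (tt N64561 (iv7 F350735)))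
theorem Q38826 : ∀ i, i < 38826 → P i := stepQ 38825 Q38825 (allL N38825 (tt N19731 (iv1 D63525)) (tt N70196 F216935) (tt N64561 (iv2 F350734)) (tt N70421 D135194) (tt N70422 D135195) (tt N34849 F350733) (tt N25241 (iv6 F350739)) (tt N70195 (iv7 F350741)))
theorem Q38827 : ∀ i, i < 38827 → P i := stepQ 38826 Q38826 (allL N38826 (tt N64561 (iv1 F341414)) (tt N70195 F216934) (tt N70196 (iv2 F216932)) (tt N70408 (iv3 F217358)) (tt N40390 F345294) (tt N38562 F98835) (tt N70423 D135198) (tt N19731 (iv7 D63526)))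
theorem Q38828 : ∀ i, i < 38828 → P i := stepQ 38827 Q38827 (allL N38827 (tt N70424 D135199) (tt N50064 (iv0 F351280)) (tt N70197 (iv2 F216937)) (tt N70409 (iv3 F217360)) (tt N70152 (iv4 F216807)) (tt N70425 D135201) (tt N19732 (iv6 D63527)) (tt N70423 (iv7 F217372)))
theorem Q38829 : ∀ i, i < 38829 → P i := stepQ 38828 Q38828 (allL N38828 (tt N38428 (iv1 F98836)) (tt N19733 (iv0 D63528)) (tt N38565 (iv2 F103568)) (tt N70426 D135202) (tt N57727 (iv4 F167641)) (tt N70427 D135203) (tt N39198 F350317) (tt N38564 (iv7 F103570)))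
theorem Q38830 : ∀ i, i < 38830 → P i := stepQ 38829 Q38829 (allL N38829 (tt N19733 (iv1 D63529)) (tt N38428 F98837) (tt N38564 F103569) (tt N70428 D135205) (tt N37787 F98838) (tt N70429 D135206) (tt N70430 D135207) (tt N38565 F103567))
theorem Q38831 : ∀ i, i < 38831 → P i := stepQ 38830 Q38830 (allL N38830 (tt N47860 F341428) (tt N70431 D135209) (tt N70198 (iv2 F216939)) (tt N70410 (iv3 F217364)) (tt N70432 D135210) (tt N19733 (iv5 D63530)) (tt N70425 (iv6 F217373)) (tt N38566 F98846))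
theorem Q38832 : ∀ i, i < 38832 → P i := stepQ 38831 Q38831 (allL N38831 (tt N38489 F101882) (tt N57802 (iv0 F167784)) (tt N38571 F102144) (tt N70433 D135211) (tt N19734 (iv4 D63533)) (tt N70434 D135212) (tt N70435 D135213) (tt N38567 (iv7 F102147)))
theorem Q38833 : ∀ i, i < 38833 → P i := stepQ 38832 Q38832 (allL N38832 (tt N58226 F169029) (tt N38152 (iv0 F164113)) (tt N38572 (iv2 F102130)) (tt N56728 (iv3 F164656)) (tt N64676 (iv4 F329430)) (tt N19734 (iv5 D63534)) (tt N38135 F98849) (tt N38568 (iv7 F102133)))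
theorem Q38834 : ∀ i, i < 38834 → P i := stepQ 38833 Q38833 (allL N38833 (tt N70168 F216880) (tt N38522 (iv0 F98852)) (tt N33310 F102145) (tt N30284 F102054) (tt N70435 (iv4 F217393)) (tt N30144 F98851) (tt N19734 (iv6 D63535)) (tt N33307 (iv7 F102095)))
theorem Q38835 : ∀ i, i < 38835 → P i := stepQ 38834 Q38834 (allL N38834 (tt N19792 F102161) (tt N32988 F102162) (tt N38938 (iv2 F102154)) (tt N19735 (iv3 D63537)) (tt N66213 F203673) (tt N70436 D135215) (tt N40569 F102193) (tt N38570 F102127))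
theorem Q38836 : ∀ i, i < 38836 → P i := stepQ 38835 Q38835 (allL N38835 (tt N57802 (iv1 F167785)) (tt N38489 F102150) (tt N38567 F102148) (tt N70437 D135216) (tt N19735 (iv4 D63538)) (tt N70438 D135217) (tt N40574 (iv6 F102198)) (tt N38571 F102128))
theorem Q38837 : ∀ i, i < 38837 → P i := stepQ 38836 Q38836 (allL N38836 (tt N38152 (iv1 F164114)) (tt N58226 (iv0 F169028)) (tt N38568 F102131) (tt N70436 (iv3 F217398)) (tt N70439 D135218) (tt N19735 (iv5 D63539)) (tt N38722 F98854) (tt N38572 F102129))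
theorem Q38838 : ∀ i, i < 38838 → P i := stepQ 38837 Q38837 (allL N38837 (tt N38124 F98858) (tt N68314 F209552) (tt N67943 (iv2 F208648)) (tt N19736 (iv3 D63540)) (tt N57800 (iv4 F167776)) (tt N38005 F98856) (tt N70440 D135219) (tt N35930 F98857))
theorem Q38839 : ∀ i, i < 38839 → P i := stepQ 38838 Q38838 (allL N38838 (tt N39010 (iv1 F102046)) (tt N38646 F101909) (tt N38589 F98861) (tt N70440 (iv3 F217407)) (tt N35932 F98862) (tt N70441 D135220) (tt N19736 (iv6 D63541)) (tt N38574 F98863))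
theorem Q38840 : ∀ i, i < 38840 → P i := stepQ 38839 Q38839 (allL N38839 (tt N70442 D135221) (tt N70443 D135222) (tt N38968 (iv2 F99099)) (tt N69193 (iv3 F213269)) (tt N66168 (iv4 F203556)) (tt N70444 D135223) (tt N19737 (iv6 D63542)) (tt N70445 D135224))
theorem Q38841 : ∀ i, i < 38841 → P i := stepQ 38840 Q38840 (allL N38840 (tt N38972 (iv1 F99108)) (tt N19738 (iv0 D63543)) (tt N38969 F202586) (tt N70446 D135225) (tt N56505 (iv4 F164154)) (tt N70447 D135226) (tt N61730 (iv6 F202593)) (tt N38970 (iv7 F202592)))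
theorem Q38842 : ∀ i, i < 38842 → P i := stepQ 38841 Q38841 (allL N38841 (tt N19738 (iv1 D63544)) (tt N38972 F99106) (tt N38970 F202591) (tt N42388 (iv3 F327998)) (tt N56506 (iv4 F202589)) (tt N70448 D135228) (tt N41310 F327483) (tt N38969 F202590))
theorem Q38843 : ∀ i, i < 38843 → P i := stepQ 38842 Q38842 (allL N38842 (tt N68188 (iv1 F209237)) (tt N70449 D135230) (tt N38971 (iv2 F99102)) (tt N69196 (iv3 F213270)) (tt N70450 D135231) (tt N19738 (iv5 D63545)) (tt N70444 (iv6 F217411)) (tt N70451 D135232))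
theorem Q38844 : ∀ i, i < 38844 → P i := stepQ 38843 Q38843 (allL N38843 (tt N38970 (iv1 F99101)) (tt N38969 F99105) (tt N38972 (iv2 F99103)) (tt N69197 (iv3 F213271)) (tt N19741 F98864) (tt N70451 (iv5 F217415)) (tt N38594 F98865) (tt N19738 (iv7 D63546)))
theorem Q38845 : ∀ i, i < 38845 → P i := stepQ 38844 Q38844 (allL N38844 (tt N38935 F163864) (tt N19789 F163865) (tt N38933 F164004) (tt N19739 (iv3 D63548)) (tt N66097 (iv4 F203365)) (tt N70452 D135233) (tt N38509 F163866) (tt N38934 (iv7 F164000)))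
theorem Q38846 : ∀ i, i < 38846 → P i := stepQ 38845 Q38845 (allL N38845 (tt N38987 F100303) (tt N19842 F100304) (tt N38973 F99785) (tt N70453 D135234) (tt N19739 (iv4 D63549)) (tt N70454 D135235) (tt N60888 (iv6 F327984)) (tt N38975 (iv7 F99787)))
theorem Q38847 : ∀ i, i < 38847 → P i := stepQ 38846 Q38846 (allL N38846 (tt N61903 F179667) (tt N20115 (iv0 F98868)) (tt N38974 F99773) (tt N70452 (iv3 F217417)) (tt N70455 D135236) (tt N19739 (iv5 D63550)) (tt N31140 F98867) (tt N20195 (iv7 F99764)))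
theorem Q38848 : ∀ i, i < 38848 → P i := stepQ 38847 Q38847 (allL N38847 (tt N19821 F168149) (tt N38190 F168150) (tt N38487 F168192) (tt N19740 (iv3 D63552)) (tt N67182 (iv4 F206859)) (tt N60351 (iv5 F176254)) (tt N60880 (iv6 F326885)) (tt N38486 (iv7 F168191)))
theorem Q38849 : ∀ i, i < 38849 → P i := stepQ 38848 Q38848 (allL N38848 (tt N20115 (iv1 F99784)) (tt N61903 (iv0 F179666)) (tt N20195 (iv2 F99783)) (tt N60351 (iv3 F176253)) (tt N70456 D135240) (tt N19740 (iv5 D63554)) (tt N19911 (iv6 F98870)) (tt N38974 F99782))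
theorem Q38850 : ∀ i, i < 38850 → P i := stepQ 38849 Q38849 (allL N38849 (tt N38532 F171534) (tt N37712 (iv0 F100230)) (tt N38501 F168308) (tt N67836 (iv3 F208119)) (tt N19742 (iv4 D63559)) (tt N70457 D135241) (tt N28066 F326264) (tt N38503 (iv7 F168254)))
theorem Q38851 : ∀ i, i < 38851 → P i := stepQ 38850 Q38850 (allL N38850 (tt N44393 F168239) (tt N20547 F168240) (tt N38502 F168241) (tt N19743 F98880) (tt N70458 D135242) (tt N19742 (iv5 D63560)) (tt N31151 F98881) (tt N20770 F98882))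
theorem Q38852 : ∀ i, i < 38852 → P i := stepQ 38851 Q38851 (allL N38851 (tt N20996 (iv1 F311453)) (tt N20579 F98886) (tt N38587 F98883) (tt N70459 D135243) (tt N19743 (iv4 D63561)) (tt N40247 (iv5 F101407)) (tt N31152 F98884) (tt N20772 F98885))
theorem Q38853 : ∀ i, i < 38853 → P i := stepQ 38852 Q38852 (allL N38852 (tt N50908 (iv1 F332261)) (tt N70460 D135245) (tt N70461 D135246) (tt N19745 (iv3 D63567)) (tt N31391 F98897) (tt N61136 (iv5 F332256)) (tt N35930 F98898) (tt N38573 F98899))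
theorem Q38854 : ∀ i, i < 38854 → P i := stepQ 38853 Q38853 (allL N38853 (tt N70462 D135247) (tt N61019 (iv0 F332597)) (tt N45043 (iv2 F332596)) (tt N19746 (iv3 D63568)) (tt N35953 F98900) (tt N32580 F332588) (tt N56159 (iv6 F332605)) (tt N35924 F98901))
theorem Q38855 : ∀ i, i < 38855 → P i := stepQ 38854 Q38854 (allL N38854 (tt N38646 F101902) (tt N39010 F102045) (tt N38574 F98902) (tt N56159 (iv3 F332603)) (tt N35926 F98903) (tt N70463 D135251) (tt N19746 (iv6 D63569)) (tt N38589 F98904))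
theorem Q38856 : ∀ i, i < 38856 → P i := stepQ 38855 Q38855 (allL N38855 (tt N41300 (iv1 F103878)) (tt N57328 (iv0 F166225)) (tt N30482 F98905) (tt N70464 D135252) (tt N19747 (iv4 D63570)) (tt N19946 F98907) (tt N70465 D135253) (tt N30485 F98906))
theorem Q38857 : ∀ i, i < 38857 → P i := stepQ 38856 Q38856 (allL N38856 (tt N70466 D135254) (tt N56339 (iv0 F362022)) (tt N61728 (iv2 F179344)) (tt N69222 (iv3 F213437)) (tt N70465 (iv4 F217458)) (tt N60183 (iv5 F359849)) (tt N19747 (iv6 D63571)) (tt N61011 (iv7 F323568)))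
theorem Q38858 : ∀ i, i < 38858 → P i := stepQ 38857 Q38857 (allL N38857 (tt N61732 F179358) (tt N19748 (iv0 D63572)) (tt N61729 F202492) (tt N70467 D135258) (tt N36808 F173733) (tt N63820 (iv5 F327996)) (tt N41309 F327482) (tt N61730 (iv7 F202539)))
theorem Q38859 : ∀ i, i < 38859 → P i := stepQ 38858 Q38858 (allL N38858 (tt N19748 (iv1 D63573)) (tt N61732 F179357) (tt N61730 (iv2 F202540)) (tt N70468 D135260) (tt N36809 (iv4 F173181)) (tt N69377 (iv5 F214065)) (tt N38969 F173182) (tt N61729 F202488))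
theorem Q38860 : ∀ i, i < 38860 → P i := stepQ 38859 Q38859 (allL N38859 (tt N70469 D135261) (tt N70470 D135262) (tt N61731 (iv2 F179353)) (tt N69223 (iv3 F213438)) (tt N70471 D135263) (tt N19748 (iv5 D63574)) (tt N60183 (iv6 F359850)) (tt N70472 D135264))
theorem Q38861 : ∀ i, i < 38861 → P i := stepQ 38860 Q38860 (allL N38860 (tt N61730 (iv1 F179352)) (tt N61729 (iv0 F179347)) (tt N61732 (iv2 F179354)) (tt N50889 (iv3 F321703)) (tt N19751 F98908) (tt N70472 (iv5 F217469)) (tt N38578 F98909) (tt N19748 (iv7 D63575)))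
theorem Q38862 : ∀ i, i < 38862 → P i := stepQ 38861 Q38861 (allL N38861 (tt N38510 F168390) (tt N32235 F168393) (tt N38508 F163872) (tt N19749 (iv3 D63577)) (tt N67852 (iv4 F208159)) (tt N23779 F326768) (tt N60885 (iv6 F326875)) (tt N38509 F163869))
theorem Q38863 : ∀ i, i < 38863 → P i := stepQ 38862 Q38862 (allL N38862 (tt N33004 F168380) (tt N60886 (iv0 F327974)) (tt N60888 (iv2 F327982)) (tt N70473 D135269) (tt N19750 (iv4 D63582)) (tt N70474 D135270) (tt N38973 (iv6 F99112)) (tt N60872 (iv7 F327973)))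
theorem Q38864 : ∀ i, i < 38864 → P i := stepQ 38863 Q38863 (allL N38863 (tt N38420 (iv1 F168435)) (tt N38540 (iv0 F168434)) (tt N38523 (iv2 F164013)) (tt N39206 F326052) (tt N19753 (iv4 D63591)) (tt N64024 (iv5 F350356)) (tt N38585 F98935) (tt N38521 (iv7 F163914)))
theorem Q38865 : ∀ i, i < 38865 → P i := stepQ 38864 Q38864 (allL N38864 (tt N36160 F326672) (tt N38640 F98941) (tt N19770 F98937) (tt N38599 F98938) (tt N39810 F347012) (tt N43207 F306775) (tt N19754 (iv6 D63592)) (tt N38599 F98939))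
theorem Q38866 : ∀ i, i < 38866 → P i := stepQ 38865 Q38865 (allL N38865 (tt N67811 (iv1 F207871)) (tt N37980 F207246) (tt N67430 F207208) (tt N19755 (iv3 D63595)) (tt N67931 (iv4 F208578)) (tt N70475 D135273) (tt N70476 D135274) (tt N19761 F98944))
theorem Q38867 : ∀ i, i < 38867 → P i := stepQ 38866 Q38866 (allL N38866 (tt N70349 (iv1 F217266)) (tt N67915 (iv0 F208413)) (tt N19757 F98945) (tt N57796 F207211) (tt N19755 (iv4 D63596)) (tt N70477 D135275) (tt N67092 (iv6 F332703)) (tt N19762 F98946))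
theorem Q38868 : ∀ i, i < 38868 → P i := stepQ 38867 Q38867 (allL N38867 (tt N36949 F208796) (tt N66972 (iv0 F314806)) (tt N19758 F98947) (tt N70475 (iv3 F217486)) (tt N64291 (iv4 F319770)) (tt N19755 (iv5 D63597)) (tt N64480 (iv6 F357822)) (tt N19763 F98948))
theorem Q38869 : ∀ i, i < 38869 → P i := stepQ 38868 Q38868 (allL N38868 (tt N36164 F338468) (tt N36020 (iv0 F338469)) (tt N19759 F98949) (tt N70476 (iv3 F217488)) (tt N67092 (iv4 F332702)) (tt N70478 D135281) (tt N19755 (iv6 D63598)) (tt N36163 F337835))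
theorem Q38870 : ∀ i, i < 38870 → P i := stepQ 38869 Q38869 (allL N38869 (tt N19756 (iv1 D63600)) (tt N67033 (iv0 F315351)) (tt N37941 (iv2 F207714)) (tt N38617 (iv3 F98950)) (tt N37184 F207733) (tt N44817 F313634) (tt N38602 F326061) (tt N46813 (iv7 F314317)))
theorem Q38871 : ∀ i, i < 38871 → P i := stepQ 38870 Q38870 (allL N38870 (tt N70479 D135287) (tt N70480 D135288) (tt N67431 (iv2 F207237)) (tt N19759 F98952) (tt N67427 F207231) (tt N70481 D135289) (tt N19756 (iv6 D63603)) (tt N70482 D135290))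
theorem Q38872 : ∀ i, i < 38872 → P i := stepQ 38871 Q38871 (allL N38871 (tt N19762 (iv1 F98959)) (tt N19757 (iv0 D63605)) (tt N70349 F217264) (tt N70483 D135291) (tt N38018 F98954) (tt N70484 D135292) (tt N39475 F339481) (tt N67915 F208415))
theorem Q38873 : ∀ i, i < 38873 → P i := stepQ 38872 Q38872 (allL N38872 (tt N19757 (iv1 D63606)) (tt N19762 F98955) (tt N67915 (iv2 F208412)) (tt N70165 F216846) (tt N38037 (iv4 F207720)) (tt N70485 D135294) (tt N38606 F326616) (tt N70349 (iv7 F217262)))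
theorem Q38874 : ∀ i, i < 38874 → P i := stepQ 38873 Q38873 (allL N38873 (tt N70330 F217213) (tt N70486 D135296) (tt N54271 (iv2 F332691)) (tt N19757 (iv3 D63607)) (tt N67425 F207230) (tt N50592 (iv5 F332695)) (tt N49596 (iv6 F332696)) (tt N49603 (iv7 F332688)))
theorem Q38875 : ∀ i, i < 38875 → P i := stepQ 38874 Q38874 (allL N38874 (tt N70487 D135300) (tt N70488 D135301) (tt N70477 (iv2 F217489)) (tt N50592 (iv3 F332694)) (tt N70489 D135302) (tt N19757 (iv5 D63608)) (tt N54283 (iv6 F347397)) (tt N50589 (iv7 F347395)))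
theorem Q38876 : ∀ i, i < 38876 → P i := stepQ 38875 Q38875 (allL N38875 (tt N70490 D135305) (tt N39471 F338557) (tt N67092 (iv2 F332701)) (tt N49596 F332697) (tt N19759 F98956) (tt N43844 (iv5 F332704)) (tt N19757 (iv6 D63609)) (tt N49579 (iv7 F332706)))
theorem Q38877 : ∀ i, i < 38877 → P i := stepQ 38876 Q38876 (allL N38876 (tt N67915 F208414) (tt N70349 F217265) (tt N19762 F98957) (tt N49603 (iv3 F332686)) (tt N19760 F98958) (tt N50589 (iv5 F347394)) (tt N49588 (iv6 F339504)) (tt N19757 (iv7 D63610)))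
theorem Q38878 : ∀ i, i < 38878 → P i := stepQ 38877 Q38877 (allL N38877 (tt N19763 (iv1 F98963)) (tt N19758 (iv0 D63611)) (tt N36949 F212142) (tt N38611 (iv3 F216477)) (tt N53120 (iv4 F318138)) (tt N36947 F212144) (tt N67009 (iv6 F332359)) (tt N66972 (iv7 F314810)))
theorem Q38879 : ∀ i, i < 38879 → P i := stepQ 38878 Q38878 (allL N38878 (tt N25228 F317528) (tt N25822 (iv0 F319745)) (tt N64291 (iv2 F319769)) (tt N54272 F317529) (tt N19758 (iv4 D63613)) (tt N70491 D135315) (tt N64469 (iv6 F319774)) (tt N54277 (iv7 F319766)))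
theorem Q38880 : ∀ i, i < 38880 → P i := stepQ 38879 Q38879 (allL N38879 (tt N70492 D135318) (tt N64062 (iv0 F357818)) (tt N64480 (iv2 F357821)) (tt N52795 (iv3 F315359)) (tt N64469 (iv4 F319773)) (tt N70493 D135320) (tt N19758 (iv6 D63614)) (tt N64483 (iv7 F357830)))
theorem Q38881 : ∀ i, i < 38881 → P i := stepQ 38880 Q38880 (allL N38880 (tt N66972 (iv1 F314807)) (tt N36949 F208795) (tt N19763 F98961) (tt N65368 (iv3 F312116)) (tt N54277 (iv4 F319765)) (tt N19760 F98962) (tt N70494 D135322) (tt N19758 (iv7 D63615)))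
theorem Q38882 : ∀ i, i < 38882 → P i := stepQ 38881 Q38881 (allL N38881 (tt N36163 F337832) (tt N19759 (iv0 D63616)) (tt N36164 (iv2 F337838)) (tt N38613 F341744) (tt N39830 (iv4 F337840)) (tt N70495 D135326) (tt N38625 (iv6 F337841)) (tt N36020 (iv7 F337837)))
theorem Q38883 : ∀ i, i < 38883 → P i := stepQ 38882 Q38882 (allL N38882 (tt N70496 D135333) (tt N67837 (iv0 F216491)) (tt N70478 (iv2 F217497)) (tt N70481 (iv3 F217526)) (tt N23850 (iv4 F337848)) (tt N19759 (iv5 D63618)) (tt N70493 (iv6 F217556)) (tt N70497 D135335))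
theorem Q38884 : ∀ i, i < 38884 → P i := stepQ 38883 Q38883 (allL N38883 (tt N36020 (iv1 F338470)) (tt N36164 F338467) (tt N36163 F337833) (tt N70482 (iv3 F217527)) (tt N49579 (iv4 F332705)) (tt N70497 (iv5 F217563)) (tt N49587 (iv6 F339523)) (tt N19759 (iv7 D63619)))
theorem Q38885 : ∀ i, i < 38885 → P i := stepQ 38884 Q38884 (allL N38884 (tt N39821 (iv1 F348619)) (tt N37990 F348616) (tt N19764 F98964) (tt N67440 (iv3 F207265)) (tt N49588 F339505) (tt N45957 (iv5 F339506)) (tt N19760 (iv6 D63620)) (tt N49587 (iv7 F339524)))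
theorem Q38886 : ∀ i, i < 38886 → P i := stepQ 38885 Q38885 (allL N38885 (tt N67430 (iv1 F207233)) (tt N19761 (iv0 D63621)) (tt N37980 (iv2 F98966)) (tt N38602 F98967) (tt N37161 F98965) (tt N70498 D135340) (tt N38617 (iv6 F325149)) (tt N67811 (iv7 F207870)))
theorem Q38887 : ∀ i, i < 38887 → P i := stepQ 38886 Q38886 (allL N38886 (tt N37980 F207245) (tt N67811 F207872) (tt N19761 (iv2 D63622)) (tt N67033 (iv3 F315354)) (tt N39074 (iv4 F207244)) (tt N67032 (iv5 F315350)) (tt N70499 D135343) (tt N67430 (iv7 F207207)))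
theorem Q38888 : ∀ i, i < 38888 → P i := stepQ 38887 Q38887 (allL N38887 (tt N38000 (iv1 F208623)) (tt N37996 (iv0 F98970)) (tt N39074 F207247) (tt N70500 D135344) (tt N19761 (iv4 D63623)) (tt N70501 D135345) (tt N70502 D135346) (tt N67931 F208579))
theorem Q38889 : ∀ i, i < 38889 → P i := stepQ 38888 Q38888 (allL N38888 (tt N66989 (iv1 F317263)) (tt N67821 (iv0 F217593)) (tt N67032 (iv2 F315349)) (tt N19763 F98971) (tt N70503 D135348) (tt N19761 (iv5 D63624)) (tt N70504 D135349) (tt N70475 (iv7 F217487)))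
theorem Q38890 : ∀ i, i < 38890 → P i := stepQ 38889 Q38889 (allL N38889 (tt N70505 D135350) (tt N70506 D135351) (tt N70499 (iv2 F217581)) (tt N19764 F98972) (tt N70502 (iv4 F217594)) (tt N70507 D135352) (tt N19761 (iv6 D63625)) (tt N70508 D135353))
theorem Q38891 : ∀ i, i < 38891 → P i := stepQ 38890 Q38890 (allL N38890 (tt N57798 (iv1 F167779)) (tt N57800 (iv0 F167778)) (tt N57797 (iv2 F218441)) (tt N19762 (iv3 D63626)) (tt N70500 (iv4 F217582)) (tt N70509 D135355) (tt N70510 D135356) (tt N57796 (iv7 F207232)))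
theorem Q38892 : ∀ i, i < 38892 → P i := stepQ 38891 Q38891 (allL N38891 (tt N70488 (iv1 F217535)) (tt N70487 F217540) (tt N50589 (iv2 F347393)) (tt N70509 (iv3 F217604)) (tt N70511 D135357) (tt N19762 (iv5 D63627)) (tt N50587 (iv6 F339514)) (tt N70477 (iv7 F217490)))
theorem Q38893 : ∀ i, i < 38893 → P i := stepQ 38892 Q38892 (allL N38892 (tt N49586 (iv1 F339516)) (tt N49585 (iv0 F339519)) (tt N49588 (iv2 F339503)) (tt N70510 (iv3 F217605)) (tt N19764 F98973) (tt N49578 (iv5 F339502)) (tt N19762 (iv6 D63628)) (tt N49577 (iv7 F337843)))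
theorem Q38894 : ∀ i, i < 38894 → P i := stepQ 38893 Q38893 (allL N38893 (tt N25822 (iv1 F319746)) (tt N25228 F317527) (tt N54277 (iv2 F319764)) (tt N70512 D135363) (tt N19763 (iv4 D63629)) (tt N70513 D135364) (tt N70514 D135365) (tt N64291 (iv7 F319771)))
theorem Q38895 : ∀ i, i < 38895 → P i := stepQ 38894 Q38894 (allL N38894 (tt N35521 F330178) (tt N70515 D135367) (tt N70494 (iv2 F217557)) (tt N70504 (iv3 F217601)) (tt N70514 (iv4 F217608)) (tt N70516 D135368) (tt N19763 (iv6 D63630)) (tt N70517 D135369))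
theorem Q38896 : ∀ i, i < 38896 → P i := stepQ 38895 Q38895 (allL N38895 (tt N19764 (iv1 D63632)) (tt N49587 (iv0 F339521)) (tt N37990 (iv2 F339525)) (tt N38625 (iv3 F339526)) (tt N51690 F339520) (tt N64078 (iv5 F339527)) (tt N38613 F341745) (tt N39821 (iv7 F339529)))
theorem Q38897 : ∀ i, i < 38897 → P i := stepQ 38896 Q38896 (allL N38896 (tt N45632 (iv1 F339518)) (tt N45956 F339517) (tt N45957 F339507) (tt N70507 (iv3 F217602)) (tt N70518 D135382) (tt N19764 (iv5 D63633)) (tt N70516 (iv6 F217609)) (tt N45958 (iv7 F339511)))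
theorem Q38898 : ∀ i, i < 38898 → P i := stepQ 38897 Q38897 (allL N38897 (tt N37990 F348617) (tt N39821 (iv0 F348618)) (tt N49587 (iv2 F339522)) (tt N70508 (iv3 F217603)) (tt N49577 (iv4 F337842)) (tt N45958 F339512) (tt N36163 F337834) (tt N19764 (iv7 D63634)))
theorem Q38899 : ∀ i, i < 38899 → P i := stepQ 38898 Q38898 (allL N38898 (tt N43134 (iv1 F108166)) (tt N43133 F108161) (tt N19768 F98976) (tt N70519 D135384) (tt N19765 (iv4 D63644)) (tt N70520 D135385) (tt N70521 D135386) (tt N43135 (iv7 F108164)))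
theorem Q38900 : ∀ i, i < 38900 → P i := stepQ 38899 Q38899 (allL N38899 (tt N70522 D135387) (tt N70523 D135388) (tt N19769 F98977) (tt N38629 F98978) (tt N70521 (iv4 F217617)) (tt N38629 F98979) (tt N19765 (iv6 D63645)) (tt N46822 F307463))
theorem Q38901 : ∀ i, i < 38901 → P i := stepQ 38900 Q38900 (allL N38900 (tt N46808 (iv1 F311278)) (tt N44817 (iv0 F311275)) (tt N46812 (iv2 F309713)) (tt N19766 (iv3 D63647)) (tt N38346 F98981) (tt N67610 (iv5 F211048)) (tt N42813 (iv6 F311281)) (tt N43159 F214131))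
theorem Q38902 : ∀ i, i < 38902 → P i := stepQ 38901 Q38901 (allL N38901 (tt N34473 F319895) (tt N70524 D135392) (tt N43163 F214179) (tt N70525 D135393) (tt N19766 (iv4 D63648)) (tt N70526 D135394) (tt N54079 (iv6 F316142)) (tt N43160 F214132))
theorem Q38903 : ∀ i, i < 38903 → P i := stepQ 38902 Q38902 (allL N38902 (tt N70527 D135396) (tt N67645 (iv0 F351950)) (tt N43164 (iv2 F214185)) (tt N42813 F313646) (tt N54079 (iv4 F316141)) (tt N44942 (iv5 F330171)) (tt N19766 (iv6 D63650)) (tt N70528 D135399))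
theorem Q38904 : ∀ i, i < 38904 → P i := stepQ 38903 Q38903 (allL N38903 (tt N70498 (iv1 F217573)) (tt N67635 F217575) (tt N70529 D135400) (tt N19767 (iv3 D63652)) (tt N53706 (iv4 F338854)) (tt N67613 (iv5 F211051)) (tt N70530 D135402) (tt N43162 F214125))
theorem Q38905 : ∀ i, i < 38905 → P i := stepQ 38904 Q38904 (allL N38904 (tt N70524 (iv1 F217629)) (tt N34473 F319894) (tt N43160 F214176) (tt N53707 (iv3 F338838)) (tt N19767 (iv4 D63653)) (tt N70531 D135404) (tt N70532 D135405) (tt N43163 (iv7 F214178)))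
theorem Q38906 : ∀ i, i < 38906 → P i := stepQ 38905 Q38905 (allL N38905 (tt N67765 (iv1 F339289)) (tt N70533 D135407) (tt N43161 F214177) (tt N70530 (iv3 F217640)) (tt N70532 (iv4 F217641)) (tt N70534 D135408) (tt N19767 (iv6 D63655)) (tt N70535 D135409))
theorem Q38907 : ∀ i, i < 38907 → P i := stepQ 38906 Q38906 (allL N38906 (tt N43135 (iv1 F108165)) (tt N19768 (iv0 D63656)) (tt N43134 (iv2 F217676)) (tt N70536 D135411) (tt N69298 (iv4 F217673)) (tt N70537 D135413) (tt N53556 (iv6 F323428)) (tt N43133 F217684))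
theorem Q38908 : ∀ i, i < 38908 → P i := stepQ 38907 Q38907 (allL N38907 (tt N19768 (iv1 D63657)) (tt N43135 F108167) (tt N43133 F217683) (tt N53567 (iv3 F323427)) (tt N37635 (iv4 F98983)) (tt N70538 D135416) (tt N70539 D135417) (tt N43134 (iv7 F217677)))
theorem Q38909 : ∀ i, i < 38909 → P i := stepQ 38908 Q38908 (allL N38908 (tt N70540 D135418) (tt N53123 (iv0 F354655)) (tt N70520 (iv2 F217615)) (tt N43141 (iv3 F108171)) (tt N70541 D135420) (tt N19768 (iv5 D63658)) (tt N70542 D135421) (tt N43136 (iv7 F108169)))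
theorem Q38910 : ∀ i, i < 38910 → P i := stepQ 38909 Q38909 (allL N38909 (tt N70543 D135422) (tt N53749 (iv0 F363859)) (tt N70521 (iv2 F217616)) (tt N43142 (iv3 F108173)) (tt N19769 F98984) (tt N70544 D135424) (tt N19768 (iv6 D63659)) (tt N64386 (iv7 F305434)))
theorem Q38911 : ∀ i, i < 38911 → P i := stepQ 38910 Q38910 (allL N38910 (tt N46822 F307462) (tt N19769 (iv0 D63660)) (tt N70522 (iv2 F340187)) (tt N70545 D135427) (tt N70546 D135428) (tt N70547 D135429) (tt N70548 D135430) (tt N70523 (iv7 F330230)))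
theorem Q38912 : ∀ i, i < 38912 → P i := stepQ 38911 Q38911 (allL N38911 (tt N19769 (iv1 D63661)) (tt N46822 F307461) (tt N70523 (iv2 F330227)) (tt N24580 (iv3 F330210)) (tt N70549 D135433) (tt N24577 (iv5 F330211)) (tt N70550 D135435) (tt N70522 (iv7 F340190)))
theorem Q38913 : ∀ i, i < 38913 → P i := stepQ 38912 Q38912 (allL N38912 (tt N70523 (iv1 F217618)) (tt N70522 F217622) (tt N46822 (iv2 F305432)) (tt N19773 F98985) (tt N64386 (iv4 F305433)) (tt N33940 (iv5 F304918)) (tt N33943 F303110) (tt N19769 (iv7 D63662)))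
theorem Q38914 : ∀ i, i < 38914 → P i := stepQ 38913 Q38913 (allL N38913 (tt N38599 (iv1 F98987)) (tt N19770 (iv0 D63663)) (tt N36160 F326673) (tt N70551 D135437) (tt N39126 (iv4 F327364)) (tt N43966 (iv5 F308619)) (tt N36019 (iv6 F327365)) (tt N38640 F310709))
theorem Q38915 : ∀ i, i < 38915 → P i := stepQ 38914 Q38914 (allL N38914 (tt N19770 (iv1 D63664)) (tt N38599 F98988) (tt N38640 F310710) (tt N70552 D135442) (tt N39477 (iv4 F327366)) (tt N70553 D135444) (tt N39819 F336107) (tt N36160 F326674))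
theorem Q38916 : ∀ i, i < 38916 → P i := stepQ 38915 Q38915 (allL N38915 (tt N34100 F314061) (tt N67636 (iv0 F318553)) (tt N34444 F314062) (tt N19771 (iv3 D63667)) (tt N34098 F314063) (tt N70554 D135453) (tt N70555 D135454) (tt N34442 F314064))
theorem Q38917 : ∀ i, i < 38917 → P i := stepQ 38916 Q38916 (allL N38916 (tt N40043 F315018) (tt N33464 F315019) (tt N38642 (iv2 F208026)) (tt N70554 (iv3 F217771)) (tt N40592 F315020) (tt N19771 (iv5 D63669)) (tt N23584 (iv6 F305930)) (tt N38644 F208087))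
theorem Q38918 : ∀ i, i < 38918 → P i := stepQ 38917 Q38917 (allL N38917 (tt N44106 F320676) (tt N70556 D135458) (tt N38643 F208065) (tt N70555 (iv3 F217773)) (tt N38385 (iv4 F207995)) (tt N70557 D135459) (tt N19771 (iv6 D63670)) (tt N70558 D135460))
theorem Q38919 : ∀ i, i < 38919 → P i := stepQ 38918 Q38918 (allL N38918 (tt N46818 (iv1 F313734)) (tt N46817 F312728) (tt N34420 F209864) (tt N19772 (iv3 D63672)) (tt N33959 F209865) (tt N63642 (iv5 F316914)) (tt N33958 F209866) (tt N38641 (iv7 F208093)))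
theorem Q38920 : ∀ i, i < 38920 → P i := stepQ 38919 Q38919 (allL N38919 (tt N33464 F315015) (tt N40043 F315016) (tt N38644 (iv2 F208088)) (tt N63642 (iv3 F316913)) (tt N40593 F315017) (tt N19772 (iv5 D63674)) (tt N67835 (iv6 F207971)) (tt N38642 (iv7 F208027)))
theorem Q38921 : ∀ i, i < 38921 → P i := stepQ 38920 Q38920 (allL N38920 (tt N70559 D135463) (tt N67644 F209861) (tt N38645 (iv2 F208040)) (tt N33958 F209862) (tt N38387 (iv4 F208024)) (tt N70560 D135464) (tt N19772 (iv6 D63675)) (tt N70561 D135465))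
theorem Q38922 : ∀ i, i < 38922 → P i := stepQ 38921 Q38921 (allL N38921 (tt N38574 (iv1 F101885)) (tt N38589 (iv0 F101883)) (tt N39010 F101994) (tt N69347 (iv3 F213920)) (tt N19774 (iv4 D63681)) (tt N34074 (iv5 F327999)) (tt N33669 F327486) (tt N38646 F99007))
theorem Q38923 : ∀ i, i < 38923 → P i := stepQ 38922 Q38922 (allL N38922 (tt N59740 F173724) (tt N38134 F101996) (tt N39011 F101997) (tt N19775 F99008) (tt N70562 D135470) (tt N19774 (iv5 D63682)) (tt N38138 F99009) (tt N38647 F99010))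
theorem Q38924 : ∀ i, i < 38924 → P i := stepQ 38923 Q38923 (allL N38923 (tt N37871 F99015) (tt N37871 F99016) (tt N24129 (iv2 F304691)) (tt N44794 F306713) (tt N19775 (iv4 D63683)) (tt N24071 F304686) (tt N37846 F99012) (tt N24129 (iv7 F304692)))
theorem Q38925 : ∀ i, i < 38925 → P i := stepQ 38924 Q38924 (allL N38924 (tt N70563 D135472) (tt N68224 F213982) (tt N38110 F99019) (tt N30178 F99020) (tt N36893 F99021) (tt N30173 F99022) (tt N19776 (iv6 D63684)) (tt N69811 (iv7 F216196)))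
theorem Q38926 : ∀ i, i < 38926 → P i := stepQ 38925 Q38925 (allL N38925 (tt N70564 D135473) (tt N70565 D135474) (tt N70566 D135475) (tt N19777 (iv3 D63685)) (tt N38666 F99023) (tt N66131 (iv5 F203447)) (tt N70567 D135476) (tt N38743 F99024))
theorem Q38927 : ∀ i, i < 38927 → P i := stepQ 38926 Q38926 (allL N38926 (tt N58827 (iv1 F170847)) (tt N58822 (iv0 F170834)) (tt N38940 (iv2 F99052)) (tt N70567 (iv3 F217844)) (tt N19778 F99025) (tt N70568 D135477) (tt N19777 (iv6 D63686)) (tt N67568 (iv7 F207403)))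
theorem Q38928 : ∀ i, i < 38928 → P i := stepQ 38927 Q38927 (allL N38927 (tt N38942 (iv1 F99062)) (tt N19778 (iv0 D63687)) (tt N38131 (iv2 F164138)) (tt N32290 (iv3 F165657)) (tt N36903 (iv4 F169032)) (tt N32234 F99026) (tt N56406 F165659) (tt N38941 (iv7 F167952)))
theorem Q38929 : ∀ i, i < 38929 → P i := stepQ 38928 Q38928 (allL N38928 (tt N19778 (iv1 D63688)) (tt N38942 F99060) (tt N38941 (iv2 F167950)) (tt N19797 F163878) (tt N36904 F163879) (tt N31058 (iv5 F163882)) (tt N70569 D135478) (tt N38131 F163880))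
theorem Q38930 : ∀ i, i < 38930 → P i := stepQ 38929 Q38929 (allL N38929 (tt N38941 (iv1 F99054)) (tt N38131 (iv0 F167942)) (tt N38942 (iv2 F99055)) (tt N31732 F99028) (tt N67568 (iv4 F207401)) (tt N31717 F99029) (tt N38747 F99030) (tt N19778 (iv7 D63689)))
theorem Q38931 : ∀ i, i < 38931 → P i := stepQ 38930 Q38930 (allL N38930 (tt N67629 F207509) (tt N68992 F212404) (tt N66126 (iv2 F203442)) (tt N19779 (iv3 D63690)) (tt N30052 F99031) (tt N66123 (iv5 F203428)) (tt N70570 D135479) (tt N38939 (iv7 F99051)))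
theorem Q38932 : ∀ i, i < 38932 → P i := stepQ 38931 Q38931 (allL N38931 (tt N37891 F99034) (tt N37816 (iv0 F161914)) (tt N38744 F99032) (tt N70570 (iv3 F217850)) (tt N19780 F99033) (tt N70571 D135480) (tt N19779 (iv6 D63691)) (tt N67675 (iv7 F207607)))
theorem Q38933 : ∀ i, i < 38933 → P i := stepQ 38932 Q38932 (allL N38932 (tt N33120 (iv1 F99037)) (tt N38745 F99038) (tt N38747 F99035) (tt N30056 F99036) (tt N67675 (iv4 F207608)) (tt N56955 (iv5 F165116)) (tt N38942 (iv6 F99058)) (tt N19780 (iv7 D63692)))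
theorem Q38934 : ∀ i, i < 38934 → P i := stepQ 38933 Q38933 (allL N38933 (tt N38944 (iv1 F99069)) (tt N19782 (iv0 D63693)) (tt N38844 (iv2 F164004)) (tt N39013 (iv3 F168176)) (tt N37045 (iv4 F203370)) (tt N70572 D135481) (tt N45898 F328002) (tt N38943 (iv7 F164006)))
theorem Q38935 : ∀ i, i < 38935 → P i := stepQ 38934 Q38934 (allL N38934 (tt N19782 (iv1 D63694)) (tt N38944 F99068) (tt N38943 F164005) (tt N19803 F163997) (tt N37046 F163998) (tt N39847 F163999) (tt N70573 D135482) (tt N38844 F164000))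
theorem Q38936 : ∀ i, i < 38936 → P i := stepQ 38935 Q38935 (allL N38935 (tt N38943 (iv1 F99063)) (tt N38844 (iv0 F163864)) (tt N38944 (iv2 F99064)) (tt N38674 F99039) (tt N66112 (iv4 F203406)) (tt N39400 (iv5 F100114)) (tt N38780 F99040) (tt N19782 (iv7 D63695)))
theorem Q38937 : ∀ i, i < 38937 → P i := stepQ 38936 Q38936 (allL N38936 (tt N19783 (iv1 D63697)) (tt N38780 F99041) (tt N38779 (iv2 F168423)) (tt N39016 (iv3 F168424)) (tt N66170 (iv4 F203563)) (tt N55646 (iv5 F168425)) (tt N56676 F168430) (tt N38778 F168422))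
theorem Q38938 : ∀ i, i < 38938 → P i := stepQ 38937 Q38937 (allL N38937 (tt N38779 (iv1 F99045)) (tt N38778 F99046) (tt N38780 F99042) (tt N30123 F99043) (tt N66118 (iv4 F203421)) (tt N55621 (iv5 F161105)) (tt N38944 (iv6 F99066)) (tt N19783 (iv7 D63698)))
theorem Q38939 : ∀ i, i < 38939 → P i := stepQ 38938 Q38938 (allL N38938 (tt N19785 (iv1 D63700)) (tt N19927 F99048) (tt N38834 F102154) (tt N30132 (iv3 F102065)) (tt N66139 F203456) (tt N70574 D135483) (tt N61956 (iv6 F179752)) (tt N38949 (iv7 F102157)))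
theorem Q38940 : ∀ i, i < 38940 → P i := stepQ 38939 Q38939 (allL N38939 (tt N69048 F212548) (tt N67511 (iv0 F207332)) (tt N70575 D135484) (tt N19786 (iv3 D63701)) (tt N29955 F99049) (tt N35949 F99050) (tt N70576 D135485) (tt N38930 F99051))
theorem Q38941 : ∀ i, i < 38941 → P i := stepQ 38940 Q38940 (allL N38940 (tt N36908 (iv1 F170848)) (tt N36910 (iv0 F168459)) (tt N38926 F99052) (tt N70576 (iv3 F217873)) (tt N19787 F99053) (tt N70577 D135486) (tt N19786 (iv6 D63702)) (tt N70578 D135487))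
theorem Q38942 : ∀ i, i < 38942 → P i := stepQ 38941 Q38941 (allL N38941 (tt N19787 (iv1 D63704)) (tt N38929 F99054) (tt N38928 F167950) (tt N38432 F167951) (tt N66088 (iv4 F203353)) (tt N55627 (iv5 F167949)) (tt N70579 D135488) (tt N38927 F167952))
theorem Q38943 : ∀ i, i < 38943 → P i := stepQ 38942 Q38942 (allL N38942 (tt N38928 (iv1 F99060)) (tt N38927 F99062) (tt N38929 F99055) (tt N29959 F99056) (tt N70578 (iv4 F217879)) (tt N32331 F99057) (tt N38932 F99058) (tt N19787 (iv7 D63705)))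
theorem Q38944 : ∀ i, i < 38944 → P i := stepQ 38943 Q38943 (allL N38943 (tt N19789 (iv1 D63707)) (tt N38935 F99063) (tt N38934 (iv2 F164005)) (tt N38487 (iv3 F168194)) (tt N66098 F203374) (tt N70580 D135489) (tt N70581 D135490) (tt N38933 F164006))
theorem Q38945 : ∀ i, i < 38945 → P i := stepQ 38944 Q38944 (allL N38944 (tt N38934 (iv1 F99068)) (tt N38933 F99069) (tt N38935 F99064) (tt N30098 F99065) (tt N66182 (iv4 F203606)) (tt N38168 (iv5 F100096)) (tt N38937 F99066) (tt N19789 (iv7 D63708)))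
theorem Q38946 : ∀ i, i < 38946 → P i := stepQ 38945 Q38945 (allL N38945 (tt N39081 (iv1 F99347)) (tt N19790 (iv0 D63709)) (tt N67771 (iv2 F358338)) (tt N70582 D135492) (tt N65830 (iv4 F358337)) (tt N67531 (iv5 F358348)) (tt N70583 D135495) (tt N67770 (iv7 F358335)))
theorem Q38947 : ∀ i, i < 38947 → P i := stepQ 38946 Q38946 (allL N38946 (tt N19790 (iv1 D63710)) (tt N39081 F99346) (tt N67770 (iv2 F358334)) (tt N70584 D135497) (tt N65824 (iv4 F358333)) (tt N67530 (iv5 F217904)) (tt N70585 D135499) (tt N67771 (iv7 F358339)))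
theorem Q38948 : ∀ i, i < 38948 → P i := stepQ 38947 Q38947 (allL N38947 (tt N67771 (iv1 F207822)) (tt N67770 F207821) (tt N19790 (iv2 D63711)) (tt N19791 F99070) (tt N56703 (iv4 F164613)) (tt N19790 (iv5 F99071)) (tt N39251 (iv6 F99709)) (tt N39081 (iv7 F99345)))
theorem Q38949 : ∀ i, i < 38949 → P i := stepQ 38948 Q38948 (allL N38948 (tt N67857 (iv1 F208177)) (tt N67856 F208173) (tt N32986 F99072) (tt N39251 (iv3 F99707)) (tt N33007 F99073) (tt N39253 (iv5 F99711)) (tt N19791 (iv6 D63712)) (tt N67858 (iv7 F208175)))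
theorem Q38950 : ∀ i, i < 38950 → P i := stepQ 38949 Q38949 (allL N38949 (tt N32988 (iv1 F99074)) (tt N19792 (iv0 D63713)) (tt N38570 (iv2 F102160)) (tt N30109 (iv3 F102063)) (tt N66212 (iv4 F203667)) (tt N70586 D135500) (tt N39611 (iv6 F100495)) (tt N38938 F102157))
theorem Q38951 : ∀ i, i < 38951 → P i := stepQ 38950 Q38950 (allL N38950 (tt N39025 (iv1 F99181)) (tt N19793 (iv0 D63715)) (tt N39024 (iv2 F349100)) (tt N70587 D135502) (tt N70588 D135503) (tt N70587 (iv5 F359574)) (tt N54739 (iv6 F349110)) (tt N39023 F349099))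
theorem Q38952 : ∀ i, i < 38952 → P i := stepQ 38951 Q38951 (allL N38951 (tt N19793 (iv1 D63716)) (tt N39025 F99183) (tt N39023 F349096) (tt N70589 D135507) (tt N70590 D135508) (tt N70591 D135509) (tt N41718 (iv6 F335893)) (tt N39024 (iv7 F349101)))
theorem Q38953 : ∀ i, i < 38953 → P i := stepQ 38952 Q38952 (allL N38952 (tt N39024 (iv1 F99182)) (tt N39023 F99178) (tt N19793 (iv2 D63717)) (tt N38123 F99076) (tt N61677 (iv4 F179232)) (tt N70592 D135511) (tt N70593 D135512) (tt N39025 (iv7 F99180)))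
theorem Q38954 : ∀ i, i < 38954 → P i := stepQ 38953 Q38953 (allL N38953 (tt N69916 F216324) (tt N69912 (iv0 F217918)) (tt N70592 (iv2 F217913)) (tt N19794 F99077) (tt N70594 D135514) (tt N19793 (iv5 D63718)) (tt N70595 D135515) (tt N39026 (iv7 F99185)))
theorem Q38955 : ∀ i, i < 38955 → P i := stepQ 38954 Q38954 (allL N38954 (tt N70596 D135516) (tt N70597 D135517) (tt N70593 (iv2 F217915)) (tt N19795 F99078) (tt N61679 (iv4 F179235)) (tt N70598 D135518) (tt N19793 (iv6 D63719)) (tt N70599 D135519))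
theorem Q38956 : ∀ i, i < 38956 → P i := stepQ 38955 Q38955 (allL N38955 (tt N70600 D135520) (tt N70601 D135521) (tt N38126 F99079) (tt N70595 (iv3 F217919)) (tt N37887 F99080) (tt N70602 D135522) (tt N19794 (iv6 D63720)) (tt N70603 D135523))
theorem Q38957 : ∀ i, i < 38957 → P i := stepQ 38956 Q38956 (allL N38956 (tt N38130 (iv1 F99085)) (tt N19795 (iv0 D63721)) (tt N38127 (iv2 F170688)) (tt N70604 D135524) (tt N37833 (iv4 F99087)) (tt N70470 (iv5 F217467)) (tt N61680 F179238) (tt N38128 (iv7 F170692)))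
theorem Q38958 : ∀ i, i < 38958 → P i := stepQ 38957 Q38957 (allL N38957 (tt N19795 (iv1 D63722)) (tt N38130 F99081) (tt N38128 (iv2 F170693)) (tt N70605 D135525) (tt N66075 (iv4 F203321)) (tt N70469 (iv5 F217463)) (tt N70606 D135526) (tt N38127 F170694))
theorem Q38959 : ∀ i, i < 38959 → P i := stepQ 38958 Q38958 (allL N38958 (tt N69411 (iv1 F328275)) (tt N70607 D135528) (tt N38129 F99082) (tt N70598 (iv3 F217920)) (tt N70608 D135529) (tt N19795 (iv5 D63723)) (tt N70602 (iv6 F217924)) (tt N70609 D135530))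
theorem Q38960 : ∀ i, i < 38960 → P i := stepQ 38959 Q38959 (allL N38959 (tt N38128 (iv1 F99086)) (tt N38127 F99088) (tt N38130 F99083) (tt N70599 (iv3 F217921)) (tt N19798 F99084) (tt N70609 (iv5 F217945)) (tt N39031 (iv6 F99192)) (tt N19795 (iv7 D63724)))
theorem Q38961 : ∀ i, i < 38961 → P i := stepQ 38960 Q38960 (allL N38960 (tt N70610 D135531) (tt N56483 F164137) (tt N38132 F99986) (tt N70611 D135532) (tt N19796 (iv4 D63727)) (tt N70612 D135533) (tt N59745 (iv6 F173744)) (tt N38133 (iv7 F99988)))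
theorem Q38962 : ∀ i, i < 38962 → P i := stepQ 38961 Q38961 (allL N38961 (tt N56483 F164045) (tt N70610 F217950) (tt N38133 F99989) (tt N70613 D135534) (tt N19797 (iv4 D63730)) (tt N70614 D135535) (tt N61404 (iv6 F329475)) (tt N38132 F99985))
theorem Q38963 : ∀ i, i < 38963 → P i := stepQ 38962 Q38962 (allL N38962 (tt N39011 F99151) (tt N38647 (iv0 F102008)) (tt N38134 (iv2 F99966)) (tt N70569 (iv3 F217846)) (tt N61404 (iv4 F329474)) (tt N59740 (iv5 F173721)) (tt N19797 (iv6 D63731)) (tt N59740 (iv7 F173722)))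
theorem Q38964 : ∀ i, i < 38964 → P i := stepQ 38963 Q38963 (allL N38963 (tt N39042 (iv1 F99225)) (tt N19799 (iv0 D63732)) (tt N39041 F333490) (tt N70615 D135538) (tt N70616 D135539) (tt N69916 (iv5 F218274)) (tt N70617 D135541) (tt N39040 F333491))
theorem Q38965 : ∀ i, i < 38965 → P i := stepQ 38964 Q38964 (allL N38964 (tt N19799 (iv1 D63733)) (tt N39042 F99227) (tt N39040 (iv2 F333488)) (tt N70618 D135543) (tt N70619 D135544) (tt N69912 (iv5 F218080)) (tt N61685 (iv6 F333240)) (tt N39041 (iv7 F333489)))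
theorem Q38966 : ∀ i, i < 38966 → P i := stepQ 38965 Q38965 (allL N38965 (tt N39041 (iv1 F99226)) (tt N39040 F99222) (tt N19799 (iv2 D63734)) (tt N38002 F99096) (tt N61686 (iv4 F179253)) (tt N70620 D135547) (tt N70621 D135548) (tt N39042 (iv7 F99224)))
theorem Q38967 : ∀ i, i < 38967 → P i := stepQ 38966 Q38966 (allL N38966 (tt N56041 (iv1 F349091)) (tt N70622 D135550) (tt N70620 (iv2 F217972)) (tt N19800 F99097) (tt N70623 D135551) (tt N19799 (iv5 D63735)) (tt N70624 D135552) (tt N39043 (iv7 F99229)))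
theorem Q38968 : ∀ i, i < 38968 → P i := stepQ 38967 Q38967 (allL N38967 (tt N70625 D135553) (tt N70626 D135554) (tt N70621 (iv2 F217974)) (tt N19801 F99098) (tt N61688 (iv4 F179256)) (tt N70627 D135555) (tt N19799 (iv6 D63736)) (tt N70628 D135556))
theorem Q38969 : ∀ i, i < 38969 → P i := stepQ 38968 Q38968 (allL N38968 (tt N70629 D135557) (tt N70630 D135558) (tt N38839 F99099) (tt N70624 (iv3 F217977)) (tt N37970 F99100) (tt N70631 D135559) (tt N19800 (iv6 D63737)) (tt N70632 D135560))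
theorem Q38970 : ∀ i, i < 38970 → P i := stepQ 38969 Q38969 (allL N38969 (tt N38843 (iv1 F99105)) (tt N19801 (iv0 D63738)) (tt N38840 (iv2 F202586)) (tt N70633 D135561) (tt N37932 (iv4 F99107)) (tt N70634 D135562) (tt N38858 (iv6 F173182)) (tt N38841 (iv7 F202590)))
theorem Q38971 : ∀ i, i < 38971 → P i := stepQ 38970 Q38970 (allL N38970 (tt N19801 (iv1 D63739)) (tt N38843 F99101) (tt N38841 (iv2 F202591)) (tt N70635 D135563) (tt N60892 (iv4 F336160)) (tt N70636 D135564) (tt N60890 (iv6 F327348)) (tt N38840 F202592))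
theorem Q38972 : ∀ i, i < 38972 → P i := stepQ 38971 Q38971 (allL N38971 (tt N69529 (iv1 F214630)) (tt N70637 D135566) (tt N38842 F99102) (tt N70627 (iv3 F217978)) (tt N70638 D135567) (tt N19801 (iv5 D63740)) (tt N70631 (iv6 F217982)) (tt N70639 D135568))
theorem Q38973 : ∀ i, i < 38973 → P i := stepQ 38972 Q38972 (allL N38972 (tt N38841 (iv1 F99106)) (tt N38840 F99108) (tt N38843 F99103) (tt N70628 (iv3 F217979)) (tt N19805 F99104) (tt N70639 (iv5 F218006)) (tt N39049 (iv6 F99237)) (tt N19801 (iv7 D63741)))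
theorem Q38974 : ∀ i, i < 38974 → P i := stepQ 38973 Q38973 (allL N38973 (tt N39060 F100273) (tt N19808 F100274) (tt N38845 (iv2 F99785)) (tt N70640 D135569) (tt N19802 (iv4 D63744)) (tt N70641 D135570) (tt N38862 F99112) (tt N32525 F327993))
theorem Q38975 : ∀ i, i < 38975 → P i := stepQ 38974 Q38974 (allL N38974 (tt N39321 (iv1 F99926)) (tt N39163 (iv0 F99550)) (tt N38846 (iv2 F99773)) (tt N60543 (iv3 F176555)) (tt N70642 D135571) (tt N19802 (iv5 D63745)) (tt N39689 F100574) (tt N38848 (iv7 F99782)))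
theorem Q38976 : ∀ i, i < 38976 → P i := stepQ 38975 Q38975 (allL N38975 (tt N19808 F100271) (tt N39060 F100272) (tt N32525 F327985) (tt N70643 D135572) (tt N19803 (iv4 D63748)) (tt N70644 D135573) (tt N32519 F327986) (tt N38845 F99787))
theorem Q38977 : ∀ i, i < 38977 → P i := stepQ 38976 Q38976 (allL N38976 (tt N20112 F99117) (tt N20114 (iv0 F99513)) (tt N32524 F326879) (tt N70573 (iv3 F217856)) (tt N32519 (iv4 F327475)) (tt N38238 F99115) (tt N19803 (iv6 D63749)) (tt N32527 F326880))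
theorem Q38978 : ∀ i, i < 38978 → P i := stepQ 38977 Q38977 (allL N38977 (tt N19804 (iv1 D63750)) (tt N19944 F99118) (tt N19945 F99122) (tt N39399 F100110) (tt N54527 (iv4 F328967)) (tt N37306 (iv5 F99121)) (tt N19940 (iv6 F99120)) (tt N19856 F99119))
theorem Q38979 : ∀ i, i < 38979 → P i := stepQ 38978 Q38978 (allL N38978 (tt N65453 F201755) (tt N70645 D135576) (tt N20017 F99123) (tt N70646 D135577) (tt N19804 (iv4 D63751)) (tt N70647 D135578) (tt N19867 F99124) (tt N70648 D135579))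
theorem Q38980 : ∀ i, i < 38980 → P i := stepQ 38979 Q38979 (allL N38979 (tt N19945 (iv1 F99128)) (tt N19856 F99129) (tt N19944 F99125) (tt N44162 (iv3 F110986)) (tt N70648 (iv4 F218035)) (tt N19805 F99126) (tt N20014 F99127) (tt N19804 (iv7 D63752)))
theorem Q38981 : ∀ i, i < 38981 → P i := stepQ 38980 Q38980 (allL N38980 (tt N39062 (iv1 F99314)) (tt N19806 (iv0 D63753)) (tt N32568 F326349) (tt N70649 D135580) (tt N70650 D135581) (tt N70651 D135582) (tt N29549 (iv6 F327167)) (tt N39061 F213204))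
theorem Q38982 : ∀ i, i < 38982 → P i := stepQ 38981 Q38981 (allL N38981 (tt N19806 (iv1 D63754)) (tt N39062 F99316) (tt N39061 F213202) (tt N69180 (iv3 F213206)) (tt N68761 (iv4 F211528)) (tt N69179 F213200) (tt N61696 (iv6 F333512)) (tt N32568 F326357))
theorem Q38983 : ∀ i, i < 38983 → P i := stepQ 38982 Q38982 (allL N38982 (tt N32568 (iv1 F325501)) (tt N39061 F99310) (tt N19806 (iv2 D63755)) (tt N39055 (iv3 F99292)) (tt N56510 (iv4 F164141)) (tt N70652 D135585) (tt N32543 (iv6 F325502)) (tt N39062 (iv7 F99313)))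
theorem Q38984 : ∀ i, i < 38984 → P i := stepQ 38983 Q38983 (allL N38983 (tt N32490 (iv1 F322884)) (tt N69392 (iv0 F214189)) (tt N70652 (iv2 F218044)) (tt N19807 F99130) (tt N67671 F207603) (tt N19806 (iv5 D63756)) (tt N70653 D135588) (tt N39063 (iv7 F99318)))
theorem Q38985 : ∀ i, i < 38985 → P i := stepQ 38984 Q38984 (allL N38984 (tt N32546 (iv1 F362883)) (tt N29543 (iv0 F362884)) (tt N32543 F326358) (tt N19808 F99131) (tt N56512 (iv4 F164149)) (tt N70654 D135591) (tt N19806 (iv6 D63757)) (tt N32544 (iv7 F327172)))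
theorem Q38986 : ∀ i, i < 38986 → P i := stepQ 38985 Q38985 (allL N38985 (tt N70655 D135593) (tt N62001 (iv0 F364474)) (tt N39058 (iv2 F99302)) (tt N70653 (iv3 F218049)) (tt N66188 (iv4 F203622)) (tt N70656 D135595) (tt N19807 (iv6 D63758)) (tt N70657 D135596))
theorem Q38987 : ∀ i, i < 38987 → P i := stepQ 38986 Q38986 (allL N38986 (tt N69519 (iv1 F214592)) (tt N70658 D135597) (tt N39059 (iv2 F99304)) (tt N70654 (iv3 F218050)) (tt N70659 D135598) (tt N19808 (iv5 D63761)) (tt N70656 (iv6 F218052)) (tt N70660 D135599))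
theorem Q38988 : ∀ i, i < 38988 → P i := stepQ 38987 Q38987 (allL N38987 (tt N32525 F327989) (tt N38845 (iv0 F100303)) (tt N39060 (iv2 F99305)) (tt N32544 F327706) (tt N56507 (iv4 F163862)) (tt N70660 (iv5 F218055)) (tt N39067 (iv6 F99326)) (tt N19808 (iv7 D63762)))
theorem Q38989 : ∀ i, i < 38989 → P i := stepQ 38988 Q38988 (allL N38988 (tt N39055 (iv1 F99295)) (tt N19809 (iv0 D63763)) (tt N39054 F208620) (tt N38000 F99132) (tt N70661 D135600) (tt N70662 D135601) (tt N47536 (iv6 F325798)) (tt N39053 (iv7 F208619)))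
theorem Q38990 : ∀ i, i < 38990 → P i := stepQ 38989 Q38989 (allL N38989 (tt N19809 (iv1 D63764)) (tt N39055 F99297) (tt N39053 (iv2 F208621)) (tt N70663 D135603) (tt N70664 D135604) (tt N70665 D135605) (tt N70666 D135606) (tt N39054 F208622))
theorem Q38991 : ∀ i, i < 38991 → P i := stepQ 38990 Q38990 (allL N38990 (tt N39054 (iv1 F99296)) (tt N39053 F99291) (tt N19809 (iv2 D63765)) (tt N39062 (iv3 F99311)) (tt N69748 (iv4 F216048)) (tt N70667 D135607) (tt N70668 D135608) (tt N39055 (iv7 F99294)))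
theorem Q38992 : ∀ i, i < 38992 → P i := stepQ 38991 Q38991 (allL N38991 (tt N70669 D135609) (tt N21185 (iv0 F323478)) (tt N70667 (iv2 F218083)) (tt N19810 F99133) (tt N70670 D135611) (tt N19809 (iv5 D63766)) (tt N70671 D135612) (tt N39056 (iv7 F99299)))
theorem Q38993 : ∀ i, i < 38993 → P i := stepQ 38992 Q38992 (allL N38992 (tt N70672 D135613) (tt N70673 D135614) (tt N70668 (iv2 F218084)) (tt N19811 F99134) (tt N69750 (iv4 F216056)) (tt N70674 D135615) (tt N19809 (iv6 D63767)) (tt N70675 D135616))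
theorem Q38994 : ∀ i, i < 38994 → P i := stepQ 38993 Q38993 (allL N38993 (tt N69381 (iv1 F370290)) (tt N70676 D135618) (tt N39065 (iv2 F99321)) (tt N70671 (iv3 F218088)) (tt N66180 (iv4 F203603)) (tt N70677 D135619) (tt N19810 (iv6 D63768)) (tt N70678 D135620))
theorem Q38995 : ∀ i, i < 38995 → P i := stepQ 38994 Q38994 (allL N38994 (tt N70679 D135621) (tt N70680 D135622) (tt N39066 (iv2 F99323)) (tt N70674 (iv3 F218089)) (tt N70681 D135623) (tt N19811 (iv5 D63771)) (tt N70677 (iv6 F218091)) (tt N70682 D135624))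
theorem Q38996 : ∀ i, i < 38996 → P i := stepQ 38995 Q38995 (allL N38995 (tt N39052 (iv1 F168172)) (tt N39050 (iv0 F168173)) (tt N39067 (iv2 F99324)) (tt N70675 (iv3 F218090)) (tt N66148 (iv4 F203500)) (tt N70682 (iv5 F218098)) (tt N39060 (iv6 F99306)) (tt N19811 (iv7 D63772)))
theorem Q38997 : ∀ i, i < 38997 → P i := stepQ 38996 Q38996 (allL N38996 (tt N70663 (iv1 F218067)) (tt N60968 (iv0 F325503)) (tt N70683 D135625) (tt N19812 (iv3 D63773)) (tt N68850 F211713) (tt N32489 F324334) (tt N70684 D135626) (tt N39000 (iv7 F99136)))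
theorem Q38998 : ∀ i, i < 38998 → P i := stepQ 38997 Q38997 (allL N38997 (tt N70685 D135627) (tt N70643 (iv0 F339344)) (tt N39003 (iv2 F99139)) (tt N70684 (iv3 F218105)) (tt N66132 (iv4 F203448)) (tt N70686 D135629) (tt N19812 (iv6 D63774)) (tt N70687 D135630))
theorem Q38999 : ∀ i, i < 38999 → P i := stepQ 38998 Q38998 (allL N38998 (tt N70688 D135631) (tt N70649 F218112) (tt N70689 D135632) (tt N19813 (iv3 D63775)) (tt N70690 D135633) (tt N66073 (iv5 F203311)) (tt N70691 D135634) (tt N39002 (iv7 F99138)))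
theorem Q39000 : ∀ i, i < 39000 → P i := stepQ 38999 Q38999 (allL N38999 (tt N70041 (iv1 F378532)) (tt N70692 D135636) (tt N39001 (iv2 F99137)) (tt N70691 (iv3 F218120)) (tt N66133 (iv4 F203449)) (tt N70693 D135637) (tt N19813 (iv6 D63776)) (tt N70694 D135638))
theorem Q39001 : ∀ i, i < 39001 → P i := stepQ 39000 Q39000 (allL N39000 (tt N70651 (iv1 F218042)) (tt N69179 (iv0 F213199)) (tt N60838 (iv2 F326363)) (tt N19815 (iv3 D63777)) (tt N55842 F161926) (tt N55711 (iv5 F333527)) (tt N70695 D135640) (tt N38996 F99136))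
theorem Q39002 : ∀ i, i < 39002 → P i := stepQ 39001 Q39001 (allL N39001 (tt N70696 D135641) (tt N70697 D135642) (tt N38999 F99137) (tt N70695 (iv3 F218126)) (tt N66206 (iv4 F203657)) (tt N70698 D135643) (tt N19815 (iv6 D63778)) (tt N70699 D135644))
theorem Q39003 : ∀ i, i < 39003 → P i := stepQ 39002 Q39002 (allL N39002 (tt N70662 F218081) (tt N70665 F218082) (tt N70700 D135645) (tt N19816 (iv3 D63779)) (tt N70701 D135646) (tt N66144 (iv5 F203470)) (tt N60911 (iv6 F363813)) (tt N38998 F99138))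
theorem Q39004 : ∀ i, i < 39004 → P i := stepQ 39003 Q39003 (allL N39003 (tt N70453 (iv1 F363816)) (tt N70702 D135649) (tt N38997 F99139) (tt N60911 (iv3 F363812)) (tt N66204 (iv4 F203652)) (tt N70703 D135650) (tt N19816 (iv6 D63780)) (tt N70704 D135651))
theorem Q39005 : ∀ i, i < 39005 → P i := stepQ 39004 Q39004 (allL N39004 (tt N70705 D135652) (tt N70706 D135653) (tt N39082 (iv2 F99348)) (tt N37964 F99140) (tt N19818 F99141) (tt N70707 D135654) (tt N19817 (iv6 D63781)) (tt N67859 (iv7 F208181)))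
theorem Q39006 : ∀ i, i < 39006 → P i := stepQ 39005 Q39005 (allL N39005 (tt N39085 (iv1 F99354)) (tt N19818 (iv0 D63782)) (tt N39083 F336458) (tt N60823 (iv3 F329783)) (tt N70708 D135657) (tt N22043 (iv5 F329785)) (tt N21231 (iv6 F329786)) (tt N39084 (iv7 F336463)))
theorem Q39007 : ∀ i, i < 39007 → P i := stepQ 39006 Q39006 (allL N39006 (tt N19818 (iv1 D63783)) (tt N39085 F99353) (tt N39084 (iv2 F336462)) (tt N60950 (iv3 F336813)) (tt N70709 D135662) (tt N61440 (iv5 F335975)) (tt N70710 D135664) (tt N39083 F336461))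
theorem Q39008 : ∀ i, i < 39008 → P i := stepQ 39007 Q39007 (allL N39007 (tt N39084 (iv1 F99350)) (tt N39083 F99352) (tt N39085 (iv2 F99351)) (tt N33012 F99142) (tt N67859 (iv4 F208180)) (tt N61718 (iv5 F179303)) (tt N33009 F99143) (tt N19818 (iv7 D63784)))
theorem Q39009 : ∀ i, i < 39009 → P i := stepQ 39008 Q39008 (allL N39008 (tt N19819 (iv1 D63786)) (tt N32535 (iv0 F328248)) (tt N32536 F327843) (tt N70711 D135668) (tt N66152 (iv4 F203521)) (tt N32840 (iv5 F328251)) (tt N70712 D135670) (tt N32522 F327844))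
theorem Q39010 : ∀ i, i < 39010 → P i := stepQ 39009 Q39009 (allL N39009 (tt N70713 D135671) (tt N61428 (iv0 F338643)) (tt N39086 (iv2 F99357)) (tt N33011 F99146) (tt N64027 (iv4 F325787)) (tt N19819 (iv5 D63787)) (tt N33008 F99147) (tt N61719 (iv7 F179305)))
theorem Q39011 : ∀ i, i < 39011 → P i := stepQ 39010 Q39010 (allL N39010 (tt N38854 (iv1 F102045)) (tt N38838 F102046) (tt N38921 (iv2 F101994)) (tt N62783 (iv3 F328365)) (tt N19820 (iv4 D63790)) (tt N42754 (iv5 F328368)) (tt N41620 F327969) (tt N39087 (iv7 F99996)))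
theorem Q39012 : ∀ i, i < 39012 → P i := stepQ 39011 Q39011 (allL N39011 (tt N37329 F99149) (tt N38962 (iv0 F99151)) (tt N38922 (iv2 F101997)) (tt N39088 F102029) (tt N70714 D135677) (tt N19820 (iv5 D63791)) (tt N37304 F99150) (tt N39088 F99963))
theorem Q39013 : ∀ i, i < 39013 → P i := stepQ 39012 Q39012 (allL N39012 (tt N32524 F326867) (tt N32527 F326868) (tt N20114 F99991) (tt N39089 (iv3 F102031)) (tt N41620 (iv4 F327472)) (tt N19887 F99152) (tt N19820 (iv6 D63792)) (tt N20112 (iv7 F99994)))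
theorem Q39014 : ∀ i, i < 39014 → P i := stepQ 39013 Q39013 (allL N39013 (tt N38190 (iv1 F99161)) (tt N19821 (iv0 D63797)) (tt N38486 (iv2 F168189)) (tt N38933 F168176) (tt N67181 (iv4 F206852)) (tt N70715 D135678) (tt N30100 F161080) (tt N38487 F168193))
theorem Q39015 : ∀ i, i < 39015 → P i := stepQ 39014 Q39014 (allL N39014 (tt N38487 (iv1 F99162)) (tt N38486 F99164) (tt N38190 F99158) (tt N39248 (iv3 F99706)) (tt N36834 F99159) (tt N32166 F99160) (tt N56700 (iv6 F164608)) (tt N19821 (iv7 D63799)))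
theorem Q39016 : ∀ i, i < 39016 → P i := stepQ 39015 Q39015 (allL N39015 (tt N56700 F164610) (tt N19822 (iv0 D63800)) (tt N32343 (iv2 F165499)) (tt N19837 F165564) (tt N60939 (iv4 F342919)) (tt N29498 F99165) (tt N60938 (iv6 F342862)) (tt N32346 F165498))
theorem Q39017 : ∀ i, i < 39017 → P i := stepQ 39016 Q39016 (allL N39016 (tt N19822 (iv1 D63801)) (tt N56700 F164609) (tt N32346 F165492) (tt N38936 F168424) (tt N65613 (iv4 F202114)) (tt N29499 (iv5 F99166)) (tt N30096 F99167) (tt N32343 (iv7 F165497)))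
theorem Q39018 : ∀ i, i < 39018 → P i := stepQ 39017 Q39017 (allL N39017 (tt N32346 (iv1 F99172)) (tt N32343 (iv0 F99173)) (tt N56700 (iv2 F164606)) (tt N30864 F99168) (tt N36842 F99169) (tt N30821 F99170) (tt N38190 F99171) (tt N19822 (iv7 D63802)))
theorem Q39019 : ∀ i, i < 39019 → P i := stepQ 39018 Q39018 (allL N39018 (tt N39078 (iv1 F99339)) (tt N19823 (iv0 D63803)) (tt N67323 (iv2 F330434)) (tt N70716 D135681) (tt N70717 D135682) (tt N65788 (iv5 F330398)) (tt N70718 D135684) (tt N67322 (iv7 F330439)))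
theorem Q39020 : ∀ i, i < 39020 → P i := stepQ 39019 Q39019 (allL N39019 (tt N19823 (iv1 D63804)) (tt N39078 F99338) (tt N67322 (iv2 F330437)) (tt N70719 D135686) (tt N70720 D135687) (tt N65787 (iv5 F330422)) (tt N70721 D135689) (tt N67323 (iv7 F330436)))
theorem Q39021 : ∀ i, i < 39021 → P i := stepQ 39020 Q39020 (allL N39020 (tt N67323 (iv1 F207089)) (tt N67322 F207088) (tt N19823 (iv2 D63805)) (tt N56703 (iv3 F164612)) (tt N19848 F99174) (tt N70722 D135690) (tt N30104 F99175) (tt N39078 (iv7 F99337)))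
theorem Q39022 : ∀ i, i < 39022 → P i := stepQ 39021 Q39021 (allL N39021 (tt N70723 D135691) (tt N70724 D135692) (tt N70722 (iv2 F218188)) (tt N19824 F99176) (tt N44623 (iv4 F330387)) (tt N19823 (iv5 D63806)) (tt N44622 F330370) (tt N44626 (iv7 F330388)))
theorem Q39023 : ∀ i, i < 39023 → P i := stepQ 39022 Q39022 (allL N39022 (tt N70725 D135695) (tt N70726 D135696) (tt N56707 (iv2 F164625)) (tt N44622 F330369) (tt N44624 (iv4 F330371)) (tt N30107 F99177) (tt N19824 (iv6 D63807)) (tt N70727 D135697))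
theorem Q39024 : ∀ i, i < 39024 → P i := stepQ 39023 Q39023 (allL N39023 (tt N38952 (iv1 F99178)) (tt N19826 (iv0 D63808)) (tt N38951 (iv2 F349096)) (tt N56041 (iv3 F349092)) (tt N70728 D135700) (tt N56041 (iv5 F349097)) (tt N56039 (iv6 F349098)) (tt N38950 (iv7 F349099)))
theorem Q39025 : ∀ i, i < 39025 → P i := stepQ 39024 Q39024 (allL N39024 (tt N19826 (iv1 D63809)) (tt N38952 F99182) (tt N38950 F349100) (tt N70729 D135704) (tt N70730 D135705) (tt N70622 (iv5 F349125)) (tt N70731 D135707) (tt N38951 F349101))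
theorem Q39026 : ∀ i, i < 39026 → P i := stepQ 39025 Q39025 (allL N39025 (tt N38951 (iv1 F99183)) (tt N38950 F99181) (tt N19826 (iv2 D63810)) (tt N37406 F99179) (tt N61722 (iv4 F179308)) (tt N70732 D135708) (tt N62806 (iv6 F327875)) (tt N38952 F99180))
theorem Q39027 : ∀ i, i < 39027 → P i := stepQ 39026 Q39026 (allL N39026 (tt N70615 F217967) (tt N70733 D135710) (tt N70732 (iv2 F218197)) (tt N19827 F99184) (tt N70734 D135711) (tt N19826 (iv5 D63811)) (tt N70735 D135712) (tt N38953 F99185))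
theorem Q39028 : ∀ i, i < 39028 → P i := stepQ 39027 Q39027 (allL N39027 (tt N62794 (iv1 F327871)) (tt N21184 (iv0 F327872)) (tt N62806 (iv2 F327873)) (tt N19828 F99186) (tt N46008 F327351) (tt N70736 D135715) (tt N19826 (iv6 D63812)) (tt N62805 (iv7 F327883)))
theorem Q39029 : ∀ i, i < 39029 → P i := stepQ 39028 Q39028 (allL N39028 (tt N60737 (iv1 F363939)) (tt N60725 (iv0 F363940)) (tt N37409 F99187) (tt N70735 (iv3 F218211)) (tt N36902 F99188) (tt N70737 D135719) (tt N19827 (iv6 D63813)) (tt N60735 (iv7 F366031)))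
theorem Q39030 : ∀ i, i < 39030 → P i := stepQ 39029 Q39029 (allL N39029 (tt N37412 (iv1 F99193)) (tt N19828 (iv0 D63814)) (tt N37410 F99197) (tt N70738 D135721) (tt N37004 (iv4 F99196)) (tt N70739 D135722) (tt N69530 (iv6 F214633)) (tt N37315 F99195))
theorem Q39031 : ∀ i, i < 39031 → P i := stepQ 39030 Q39030 (allL N39030 (tt N70740 D135723) (tt N70741 D135724) (tt N37411 F99189) (tt N70736 (iv3 F218212)) (tt N70742 D135725) (tt N19828 (iv5 D63815)) (tt N70737 (iv6 F218217)) (tt N70743 D135726))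
theorem Q39032 : ∀ i, i < 39032 → P i := stepQ 39031 Q39031 (allL N39031 (tt N37315 (iv1 F99194)) (tt N37410 F99200) (tt N37412 F99190) (tt N62805 (iv3 F327881)) (tt N19831 F99191) (tt N70743 (iv5 F218234)) (tt N38959 F99192) (tt N19828 (iv7 D63816)))
theorem Q39033 : ∀ i, i < 39033 → P i := stepQ 39032 Q39032 (allL N39032 (tt N62000 (iv1 F179793)) (tt N37689 F99203) (tt N37414 F99201) (tt N70744 D135727) (tt N19829 (iv4 D63817)) (tt N70745 D135728) (tt N69520 (iv6 F214595)) (tt N37309 F99202))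
theorem Q39034 : ∀ i, i < 39034 → P i := stepQ 39033 Q39033 (allL N39033 (tt N33114 F99205) (tt N19830 (iv0 D63818)) (tt N37415 F99252) (tt N57166 (iv3 F165682)) (tt N70746 D135729) (tt N38584 F99204) (tt N44298 (iv6 F111554)) (tt N37416 F99250))
theorem Q39035 : ∀ i, i < 39035 → P i := stepQ 39034 Q39034 (allL N39034 (tt N19830 (iv1 D63819)) (tt N33114 F99206) (tt N37416 (iv2 F99251)) (tt N70295 (iv3 F217134)) (tt N70747 D135730) (tt N38597 (iv5 F99207)) (tt N33071 F99208) (tt N37415 (iv7 F99253)))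
theorem Q39036 : ∀ i, i < 39036 → P i := stepQ 39035 Q39035 (allL N39035 (tt N61815 (iv1 F330576)) (tt N62123 (iv0 F330581)) (tt N37417 F99209) (tt N70748 D135733) (tt N19830 (iv4 D63820)) (tt N61790 (iv5 F330518)) (tt N19832 F99210) (tt N62035 (iv7 F330538)))
theorem Q39037 : ∀ i, i < 39037 → P i := stepQ 39036 Q39036 (allL N39036 (tt N37416 (iv1 F99214)) (tt N37415 (iv0 F99215)) (tt N33114 F99211) (tt N39147 (iv3 F99509)) (tt N62035 (iv4 F330536)) (tt N19831 F99212) (tt N33040 F99213) (tt N19830 (iv7 D63821)))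
theorem Q39038 : ∀ i, i < 39038 → P i := stepQ 39037 Q39037 (allL N39037 (tt N70749 D135735) (tt N70750 D135736) (tt N48002 F318477) (tt N19832 (iv3 D63822)) (tt N39259 (iv4 F99722)) (tt N70751 D135738) (tt N70748 (iv6 F218251)) (tt N70752 D135739))
theorem Q39039 : ∀ i, i < 39039 → P i := stepQ 39038 Q39038 (allL N39038 (tt N44169 (iv1 F111019)) (tt N44172 (iv0 F111026)) (tt N37420 F99216) (tt N70751 (iv3 F218265)) (tt N57529 (iv4 F167044)) (tt N19832 (iv5 D63823)) (tt N70753 D135740) (tt N44252 (iv7 F111505)))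
theorem Q39040 : ∀ i, i < 39040 → P i := stepQ 39039 Q39039 (allL N39039 (tt N30443 (iv1 F99219)) (tt N37418 F99220) (tt N20045 F99217) (tt N70752 (iv3 F218266)) (tt N19833 F99218) (tt N44252 (iv5 F111501)) (tt N33115 (iv6 F99221)) (tt N19832 (iv7 D63824)))
theorem Q39041 : ∀ i, i < 39041 → P i := stepQ 39040 Q39040 (allL N39040 (tt N38965 (iv1 F99222)) (tt N19834 (iv0 D63825)) (tt N38964 F333488) (tt N69916 (iv3 F216323)) (tt N70754 D135742) (tt N70615 F218273) (tt N61723 (iv6 F335885)) (tt N38963 (iv7 F333491)))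
theorem Q39042 : ∀ i, i < 39042 → P i := stepQ 39041 Q39041 (allL N39041 (tt N19834 (iv1 D63826)) (tt N38965 F99226) (tt N38963 (iv2 F333490)) (tt N70755 D135745) (tt N60954 (iv4 F333507)) (tt N70733 (iv5 F218209)) (tt N60952 (iv6 F349021)) (tt N38964 F333489))
theorem Q39043 : ∀ i, i < 39043 → P i := stepQ 39042 Q39042 (allL N39042 (tt N38964 (iv1 F99227)) (tt N38963 F99225) (tt N19834 (iv2 D63827)) (tt N37159 F99223) (tt N61725 (iv4 F179335)) (tt N70756 D135748) (tt N70757 D135749) (tt N38965 F99224))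
theorem Q39044 : ∀ i, i < 39044 → P i := stepQ 39043 Q39043 (allL N39043 (tt N70587 (iv1 F218363)) (tt N70591 (iv0 F359571)) (tt N70756 (iv2 F218279)) (tt N19835 F99228) (tt N70758 D135752) (tt N19834 (iv5 D63828)) (tt N70759 D135753) (tt N38966 F99229))
theorem Q39045 : ∀ i, i < 39045 → P i := stepQ 39044 Q39044 (allL N39044 (tt N70760 D135754) (tt N70761 D135755) (tt N70757 (iv2 F218284)) (tt N19836 F99230) (tt N61727 (iv4 F179343)) (tt N70762 D135756) (tt N19834 (iv6 D63829)) (tt N70763 D135757))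
theorem Q39046 : ∀ i, i < 39046 → P i := stepQ 39045 Q39045 (allL N39045 (tt N70764 D135758) (tt N70765 D135759) (tt N38590 F99231) (tt N70759 (iv3 F218290)) (tt N37044 F99232) (tt N70766 D135760) (tt N19835 (iv6 D63830)) (tt N70767 D135761))
theorem Q39047 : ∀ i, i < 39047 → P i := stepQ 39046 Q39046 (allL N39046 (tt N38594 (iv1 F99238)) (tt N19836 (iv0 D63831)) (tt N38591 F171900) (tt N70768 D135762) (tt N37108 (iv4 F99240)) (tt N70769 D135763) (tt N70770 D135764) (tt N38592 (iv7 F171905)))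
theorem Q39048 : ∀ i, i < 39048 → P i := stepQ 39047 Q39047 (allL N39047 (tt N19836 (iv1 D63832)) (tt N38594 F99233) (tt N38592 (iv2 F171906)) (tt N51437 (iv3 F326628)) (tt N66147 (iv4 F203490)) (tt N51430 (iv5 F327569)) (tt N38576 (iv6 F203394)) (tt N38591 F171907))
theorem Q39049 : ∀ i, i < 39049 → P i := stepQ 39048 Q39048 (allL N39048 (tt N68204 (iv1 F209266)) (tt N68202 (iv0 F209265)) (tt N38593 F99234) (tt N70762 (iv3 F218291)) (tt N70771 D135767) (tt N19836 (iv5 D63833)) (tt N70766 (iv6 F218296)) (tt N70772 D135768))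
theorem Q39050 : ∀ i, i < 39050 → P i := stepQ 39049 Q39049 (allL N39049 (tt N38592 (iv1 F99239)) (tt N38591 F99241) (tt N38594 F99235) (tt N70763 (iv3 F218292)) (tt N19839 F99236) (tt N70772 (iv5 F218328)) (tt N38972 F99237) (tt N19836 (iv7 D63834)))
theorem Q39051 : ∀ i, i < 39051 → P i := stepQ 39050 Q39050 (allL N39050 (tt N38995 F168173) (tt N19845 F168174) (tt N38596 (iv2 F99283)) (tt N70773 D135769) (tt N19837 (iv4 D63837)) (tt N70774 D135770) (tt N60901 (iv6 F363760)) (tt N38598 F99282))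
theorem Q39052 : ∀ i, i < 39052 → P i := stepQ 39051 Q39051 (allL N39051 (tt N33140 F99244) (tt N33138 (iv0 F99245)) (tt N38597 (iv2 F99254)) (tt N60938 (iv3 F342860)) (tt N60901 (iv4 F363759)) (tt N37416 F99243) (tt N19837 (iv6 D63838)) (tt N38584 F99249))
theorem Q39053 : ∀ i, i < 39053 → P i := stepQ 39052 Q39052 (allL N39052 (tt N19845 F168171) (tt N38995 F168172) (tt N38598 F99287) (tt N70697 (iv3 F365385)) (tt N19838 (iv4 D63841)) (tt N70775 D135773) (tt N38580 F99288) (tt N38596 F99289))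
theorem Q39054 : ∀ i, i < 39054 → P i := stepQ 39053 Q39053 (allL N39053 (tt N38990 (iv1 F99291)) (tt N19840 (iv0 D63842)) (tt N38989 F208621) (tt N37157 F99290) (tt N70051 (iv4 F216516)) (tt N70688 (iv5 F218111)) (tt N55732 (iv6 F339447)) (tt N38988 F208619))
theorem Q39055 : ∀ i, i < 39055 → P i := stepQ 39054 Q39054 (allL N39054 (tt N19840 (iv1 D63843)) (tt N38990 F99296) (tt N38988 (iv2 F208620)) (tt N70651 F218041) (tt N69887 (iv4 F216298)) (tt N70649 (iv5 F218043)) (tt N61734 (iv6 F326617)) (tt N38989 (iv7 F208622)))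
theorem Q39056 : ∀ i, i < 39056 → P i := stepQ 39055 Q39055 (allL N39055 (tt N38989 (iv1 F99297)) (tt N38988 F99295) (tt N19840 (iv2 D63844)) (tt N38982 F99292) (tt N38526 F99293) (tt N41764 F323481) (tt N60915 (iv6 F326361)) (tt N38990 F99294))
theorem Q39057 : ∀ i, i < 39057 → P i := stepQ 39056 Q39056 (allL N39056 (tt N41740 F339424) (tt N41766 (iv0 F339425)) (tt N41764 F323479) (tt N19841 F99298) (tt N45076 F333172) (tt N19840 (iv5 D63845)) (tt N45078 (iv6 F333179)) (tt N38991 F99299))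
theorem Q39058 : ∀ i, i < 39058 → P i := stepQ 39057 Q39057 (allL N39057 (tt N70776 D135782) (tt N55721 (iv0 F363820)) (tt N60915 (iv2 F326359)) (tt N19842 F99300) (tt N38528 F99301) (tt N70777 D135784) (tt N19840 (iv6 D63846)) (tt N70778 D135785))
theorem Q39059 : ∀ i, i < 39059 → P i := stepQ 39058 Q39058 (allL N39058 (tt N68330 (iv1 F355296)) (tt N70779 D135787) (tt N38985 F99302) (tt N45078 F333183) (tt N45088 (iv4 F333184)) (tt N70780 D135788) (tt N19841 (iv6 D63847)) (tt N70781 D135789))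
theorem Q39060 : ∀ i, i < 39060 → P i := stepQ 39059 Q39059 (allL N39059 (tt N68173 (iv1 F209221)) (tt N70782 D135790) (tt N38986 F99304) (tt N70777 (iv3 F218365)) (tt N70783 D135791) (tt N19842 (iv5 D63850)) (tt N70780 (iv6 F218371)) (tt N70784 D135792))
theorem Q39061 : ∀ i, i < 39061 → P i := stepQ 39060 Q39060 (allL N39060 (tt N38975 (iv1 F100272)) (tt N38973 (iv0 F100273)) (tt N38987 F99305) (tt N70778 (iv3 F218366)) (tt N66077 (iv4 F203336)) (tt N70784 (iv5 F218383)) (tt N38995 F99306) (tt N19842 (iv7 D63851)))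
theorem Q39062 : ∀ i, i < 39062 → P i := stepQ 39061 Q39061 (allL N39061 (tt N38982 (iv1 F99310)) (tt N19843 (iv0 D63852)) (tt N38981 (iv2 F213202)) (tt N70665 (iv3 F218072)) (tt N70785 D135793) (tt N70663 F218066) (tt N60961 (iv6 F327705)) (tt N38980 (iv7 F213204)))
theorem Q39063 : ∀ i, i < 39063 → P i := stepQ 39062 Q39062 (allL N39062 (tt N38981 (iv1 F99316)) (tt N38980 F99314) (tt N19843 (iv2 D63854)) (tt N38990 F99311) (tt N37737 F99312) (tt N60841 (iv5 F321192)) (tt N70786 D135798) (tt N38982 F99313))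
theorem Q39064 : ∀ i, i < 39064 → P i := stepQ 39063 Q39063 (allL N39063 (tt N60843 F322887) (tt N42380 F322888) (tt N60841 (iv2 F321189)) (tt N19844 F99317) (tt N68869 F211779) (tt N19843 (iv5 D63855)) (tt N70787 D135800) (tt N38983 F99318))
theorem Q39065 : ∀ i, i < 39065 → P i := stepQ 39064 Q39064 (allL N39064 (tt N60972 (iv1 F364717)) (tt N70788 D135802) (tt N70786 (iv2 F218405)) (tt N19845 F99319) (tt N37739 F99320) (tt N70789 D135803) (tt N19843 (iv6 D63856)) (tt N60918 (iv7 F327709)))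
theorem Q39066 : ∀ i, i < 39066 → P i := stepQ 39065 Q39065 (allL N39065 (tt N70790 D135805) (tt N70613 (iv0 F344975)) (tt N38993 F99321) (tt N70787 (iv3 F218411)) (tt N66110 (iv4 F203405)) (tt N70791 D135807) (tt N19844 (iv6 D63857)) (tt N70792 D135808))
theorem Q39067 : ∀ i, i < 39067 → P i := stepQ 39066 Q39066 (allL N39066 (tt N41649 F329183) (tt N68212 (iv0 F209279)) (tt N38994 F99323) (tt N70789 (iv3 F218412)) (tt N70793 D135809) (tt N19845 (iv5 D63860)) (tt N70791 (iv6 F218418)) (tt N70794 D135810))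
theorem Q39068 : ∀ i, i < 39068 → P i := stepQ 39067 Q39067 (allL N39067 (tt N38598 (iv1 F168433)) (tt N38596 (iv0 F168418)) (tt N38995 F99324) (tt N60918 (iv3 F327707)) (tt N37734 F99325) (tt N70794 (iv5 F218426)) (tt N38987 F99326) (tt N19845 (iv7 D63861)))
theorem Q39069 : ∀ i, i < 39069 → P i := stepQ 39068 Q39068 (allL N39068 (tt N19850 F207224) (tt N19848 F207225) (tt N19846 (iv2 D63862)) (tt N69178 (iv3 F213196)) (tt N36845 F207226) (tt N68301 (iv5 F209504)) (tt N70795 D135811) (tt N19847 (iv7 F99330)))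
theorem Q39070 : ∀ i, i < 39070 → P i := stepQ 39069 Q39069 (allL N39069 (tt N60964 (iv1 F326351)) (tt N67935 F213233) (tt N70796 D135812) (tt N19846 (iv3 D63863)) (tt N70797 D135813) (tt N68342 F212512) (tt N70798 D135814) (tt N70799 D135815))
theorem Q39071 : ∀ i, i < 39071 → P i := stepQ 39070 Q39070 (allL N39070 (tt N70800 D135816) (tt N45840 (iv0 F330405)) (tt N36845 F207227) (tt N70801 D135818) (tt N19846 (iv4 D63864)) (tt N48260 (iv5 F330406)) (tt N70802 D135820) (tt N70803 D135821))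
theorem Q39072 : ∀ i, i < 39072 → P i := stepQ 39071 Q39071 (allL N39071 (tt N38116 (iv1 F209510)) (tt N68303 F209514) (tt N68301 F209505) (tt N68342 (iv3 F212511)) (tt N70804 D135822) (tt N19846 (iv5 D63865)) (tt N70805 D135823) (tt N68302 (iv7 F209507)))
theorem Q39073 : ∀ i, i < 39073 → P i := stepQ 39072 Q39072 (allL N39072 (tt N70806 D135824) (tt N60879 (iv0 F371509)) (tt N70795 (iv2 F218429)) (tt N70798 (iv3 F218445)) (tt N70802 (iv4 F218464)) (tt N70807 D135826) (tt N19846 (iv6 D63866)) (tt N70808 D135827))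
theorem Q39074 : ∀ i, i < 39074 → P i := stepQ 39073 Q39073 (allL N39073 (tt N19848 F207228) (tt N19850 F207229) (tt N19847 F99331) (tt N70799 (iv3 F218447)) (tt N70803 (iv4 F218467)) (tt N68302 F209509) (tt N70809 D135828) (tt N19846 (iv7 D63867)))
theorem Q39075 : ∀ i, i < 39075 → P i := stepQ 39074 Q39074 (allL N39074 (tt N37154 (iv1 F208568)) (tt N37157 (iv0 F207248)) (tt N38887 (iv2 F207247)) (tt N19847 (iv3 D63868)) (tt N38886 F207244) (tt N70810 D135829) (tt N70811 D135830) (tt N69178 (iv7 F213193)))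
theorem Q39076 : ∀ i, i < 39076 → P i := stepQ 39075 Q39075 (allL N39075 (tt N45840 F330407) (tt N70800 (iv0 F218453)) (tt N70803 (iv2 F218465)) (tt N36849 F207222) (tt N19847 (iv4 D63869)) (tt N65911 (iv5 F333452)) (tt N70812 D135832) (tt N36845 F207223))
theorem Q39077 : ∀ i, i < 39077 → P i := stepQ 39076 Q39076 (allL N39076 (tt N68303 (iv1 F209513)) (tt N38116 (iv0 F167315)) (tt N68302 F209508) (tt N70810 (iv3 F218473)) (tt N70813 D135833) (tt N19847 (iv5 D63870)) (tt N70814 D135834) (tt N68301 F209506))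
theorem Q39078 : ∀ i, i < 39078 → P i := stepQ 39077 Q39077 (allL N39077 (tt N70773 (iv1 F366374)) (tt N70815 D135836) (tt N70809 (iv2 F218471)) (tt N70811 (iv3 F218477)) (tt N70812 (iv4 F218482)) (tt N70816 D135837) (tt N19847 (iv6 D63871)) (tt N70817 D135838))
theorem Q39079 : ∀ i, i < 39079 → P i := stepQ 39078 Q39078 (allL N39078 (tt N39019 (iv1 F99338)) (tt N39018 F99339) (tt N36789 F99336) (tt N70818 D135839) (tt N19849 (iv4 D63874)) (tt N48286 F330395) (tt N70819 D135841) (tt N39020 F99337))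
theorem Q39080 : ∀ i, i < 39080 → P i := stepQ 39079 Q39079 (allL N39079 (tt N70820 D135842) (tt N70821 D135843) (tt N39080 (iv2 F99341)) (tt N19852 F99340) (tt N70819 (iv4 F218495)) (tt N61756 (iv5 F179421)) (tt N19849 (iv6 D63875)) (tt N70822 D135844))
theorem Q39081 : ∀ i, i < 39081 → P i := stepQ 39080 Q39080 (allL N39080 (tt N70823 D135845) (tt N70824 D135846) (tt N39079 F99341) (tt N19853 F99342) (tt N67324 (iv4 F207091)) (tt N43674 F327339) (tt N19850 (iv6 D63876)) (tt N60898 (iv7 F328632)))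
theorem Q39082 : ∀ i, i < 39082 → P i := stepQ 39081 Q39081 (allL N39081 (tt N38946 (iv1 F99346)) (tt N38945 F99347) (tt N37036 F99343) (tt N19851 (iv3 D63877)) (tt N70818 (iv4 F218484)) (tt N37036 F99344) (tt N70825 D135848) (tt N38947 F99345))
theorem Q39083 : ∀ i, i < 39083 → P i := stepQ 39082 Q39082 (allL N39082 (tt N70826 D135849) (tt N70827 D135850) (tt N39004 F99348) (tt N70825 (iv3 F218507)) (tt N19852 F99349) (tt N70828 D135851) (tt N19851 (iv6 D63878)) (tt N70829 D135852))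
theorem Q39084 : ∀ i, i < 39084 → P i := stepQ 39083 Q39083 (allL N39083 (tt N39007 (iv1 F99352)) (tt N19852 (iv0 D63879)) (tt N39005 (iv2 F336458)) (tt N62802 (iv3 F336459)) (tt N70830 D135855) (tt N33925 F336457) (tt N33602 (iv6 F336460)) (tt N39006 (iv7 F336461)))
theorem Q39085 : ∀ i, i < 39085 → P i := stepQ 39084 Q39084 (allL N39084 (tt N19852 (iv1 D63880)) (tt N39007 F99350) (tt N39006 F336462) (tt N70831 D135859) (tt N70832 D135860) (tt N43176 (iv5 F336464)) (tt N70833 D135862) (tt N39005 F336463))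
theorem Q39086 : ∀ i, i < 39086 → P i := stepQ 39085 Q39085 (allL N39085 (tt N39006 (iv1 F99353)) (tt N39005 F99354) (tt N39007 F99351) (tt N70822 (iv3 F218498)) (tt N70829 (iv4 F218512)) (tt N61763 (iv5 F179441)) (tt N61708 (iv6 F179294)) (tt N19852 (iv7 D63881)))
theorem Q39087 : ∀ i, i < 39087 → P i := stepQ 39086 Q39086 (allL N39086 (tt N61384 (iv1 F338672)) (tt N70834 D135870) (tt N39009 F99357) (tt N43674 (iv3 F326597)) (tt N43939 (iv4 F326599)) (tt N19853 (iv5 D63884)) (tt N42351 F325786) (tt N60899 (iv7 F328637)))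
theorem Q39088 : ∀ i, i < 39088 → P i := stepQ 39087 Q39087 (allL N39087 (tt N38589 (iv1 F102047)) (tt N38574 F102044) (tt N38646 (iv2 F102007)) (tt N70835 D135872) (tt N19854 (iv4 D63891)) (tt N41654 F329138) (tt N70836 D135874) (tt N39010 F99996))
theorem Q39089 : ∀ i, i < 39089 → P i := stepQ 39088 Q39088 (allL N39088 (tt N38134 F99362) (tt N59740 (iv0 F173723)) (tt N38647 (iv2 F102010)) (tt N39011 (iv3 F102029)) (tt N70837 D135875) (tt N19854 (iv5 D63892)) (tt N38113 F99363) (tt N39011 (iv7 F99963)))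
theorem Q39090 : ∀ i, i < 39090 → P i := stepQ 39089 Q39089 (allL N39089 (tt N38584 (iv1 F102043)) (tt N38597 (iv0 F99365)) (tt N33140 F99950) (tt N39012 F102031) (tt N70836 (iv4 F218540)) (tt N30270 F99364) (tt N19854 (iv6 D63893)) (tt N33138 (iv7 F99949)))
theorem Q39091 : ∀ i, i < 39091 → P i := stepQ 39090 Q39090 (allL N39090 (tt N54507 (iv1 F328531)) (tt N54506 (iv0 F328530)) (tt N54509 (iv2 F328535)) (tt N19855 (iv3 D63894)) (tt N57784 (iv4 F167725)) (tt N68911 (iv5 F211885)) (tt N70838 D135879) (tt N19935 F99366))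
theorem Q39092 : ∀ i, i < 39092 → P i := stepQ 39091 Q39091 (allL N39091 (tt N54530 (iv1 F329001)) (tt N20024 (iv0 F99369)) (tt N19943 F99367) (tt N70838 (iv3 F218553)) (tt N19856 F99368) (tt N70839 D135881) (tt N19855 (iv6 D63895)) (tt N54527 (iv7 F328968)))
theorem Q39093 : ∀ i, i < 39093 → P i := stepQ 39092 Q39092 (allL N39092 (tt N70840 D135882) (tt N70841 D135883) (tt N70842 D135884) (tt N19857 (iv3 D63896)) (tt N32107 F99370) (tt N70843 D135885) (tt N70844 D135886) (tt N19956 F99371))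
theorem Q39094 : ∀ i, i < 39094 → P i := stepQ 39093 Q39093 (allL N39093 (tt N39270 (iv1 F99806)) (tt N39267 (iv0 F99801)) (tt N19951 F99372) (tt N70843 (iv3 F218567)) (tt N37090 F99373) (tt N19857 (iv5 D63897)) (tt N70845 D135887) (tt N19957 F99374))
theorem Q39095 : ∀ i, i < 39095 → P i := stepQ 39094 Q39094 (allL N39094 (tt N70846 D135888) (tt N70847 D135889) (tt N19952 F99375) (tt N70844 (iv3 F218569)) (tt N19858 F99376) (tt N70848 D135890) (tt N19857 (iv6 D63898)) (tt N70849 D135891))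
theorem Q39096 : ∀ i, i < 39096 → P i := stepQ 39095 Q39095 (allL N39095 (tt N19858 (iv1 D63900)) (tt N19955 F99379) (tt N19954 F99905) (tt N44166 F161299) (tt N70850 D135892) (tt N58376 (iv5 F169215)) (tt N59699 (iv6 F173572)) (tt N19953 F99906))
theorem Q39097 : ∀ i, i < 39097 → P i := stepQ 39096 Q39096 (allL N39096 (tt N19954 (iv1 F99384)) (tt N19953 (iv0 F99385)) (tt N19955 F99380) (tt N32192 F99381) (tt N70849 (iv4 F218584)) (tt N31039 F99382) (tt N19961 F99383) (tt N19858 (iv7 D63901)))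
theorem Q39098 : ∀ i, i < 39098 → P i := stepQ 39097 Q39097 (allL N39097 (tt N70851 D135893) (tt N70852 D135894) (tt N70853 D135895) (tt N19859 (iv3 D63902)) (tt N30604 F99389) (tt N70854 D135896) (tt N70855 D135897) (tt N19965 F99390))
theorem Q39099 : ∀ i, i < 39099 → P i := stepQ 39098 Q39098 (allL N39098 (tt N39265 (iv1 F99798)) (tt N39260 (iv0 F99725)) (tt N19963 F99391) (tt N70854 (iv3 F218599)) (tt N55839 (iv4 F161920)) (tt N19859 (iv5 D63903)) (tt N70856 D135898) (tt N19966 F99392))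
theorem Q39100 : ∀ i, i < 39100 → P i := stepQ 39099 Q39099 (allL N39099 (tt N44380 F166184) (tt N70850 (iv0 F218590)) (tt N19964 F99393) (tt N70855 (iv3 F218601)) (tt N30602 F99394) (tt N70857 D135899) (tt N19859 (iv6 D63904)) (tt N70858 D135900))
theorem Q39101 : ∀ i, i < 39101 → P i := stepQ 39100 Q39100 (allL N39100 (tt N70859 D135901) (tt N70860 D135902) (tt N70861 D135903) (tt N19860 (iv3 D63905)) (tt N30715 F99395) (tt N70862 D135904) (tt N70863 D135905) (tt N19962 F99396))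
theorem Q39102 : ∀ i, i < 39102 → P i := stepQ 39101 Q39101 (allL N39101 (tt N39260 (iv1 F99726)) (tt N39265 (iv0 F99797)) (tt N19966 F99397) (tt N70862 (iv3 F218618)) (tt N55836 (iv4 F161911)) (tt N19860 (iv5 D63906)) (tt N70864 D135906) (tt N19963 F99398))
theorem Q39103 : ∀ i, i < 39103 → P i := stepQ 39102 Q39102 (allL N39102 (tt N61902 (iv1 F179660)) (tt N44400 (iv0 F167837)) (tt N19967 F99399) (tt N70863 (iv3 F218620)) (tt N38706 F99400) (tt N70865 D135907) (tt N19860 (iv6 D63907)) (tt N70866 D135908))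
theorem Q39104 : ∀ i, i < 39104 → P i := stepQ 39103 Q39103 (allL N39103 (tt N70867 D135909) (tt N19861 (iv0 D63908)) (tt N70868 D135910) (tt N70869 D135911) (tt N70870 D135912) (tt N59649 (iv5 F332958)) (tt N70871 D135914) (tt N70872 D135915))
theorem Q39105 : ∀ i, i < 39105 → P i := stepQ 39104 Q39104 (allL N39104 (tt N19861 (iv1 D63909)) (tt N70867 F218633) (tt N70872 (iv2 F218635)) (tt N70873 D135916) (tt N70874 D135917) (tt N59648 (iv5 F357722)) (tt N70875 D135919) (tt N70868 F218634))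
theorem Q39106 : ∀ i, i < 39106 → P i := stepQ 39105 Q39105 (allL N39105 (tt N70868 (iv1 F410579)) (tt N70872 (iv0 F410584)) (tt N19861 (iv2 D63910)) (tt N19970 F99401) (tt N44176 (iv4 F111031)) (tt N70876 D135922) (tt N19904 F99402) (tt N70867 (iv7 F218632)))
theorem Q39107 : ∀ i, i < 39107 → P i := stepQ 39106 Q39106 (allL N39106 (tt N70877 D135923) (tt N70878 D135924) (tt N70876 (iv2 F218638)) (tt N19862 F99403) (tt N70879 D135925) (tt N19861 (iv5 D63911)) (tt N40549 F357719) (tt N44922 F324297))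
theorem Q39108 : ∀ i, i < 39108 → P i := stepQ 39107 Q39107 (allL N39107 (tt N70872 (iv1 F410585)) (tt N70868 (iv0 F410578)) (tt N70867 F218630) (tt N19863 F99404) (tt N44178 (iv4 F111035)) (tt N44922 F324295) (tt N44923 F324296) (tt N19861 (iv7 D63912)))
theorem Q39109 : ∀ i, i < 39109 → P i := stepQ 39108 Q39108 (allL N39108 (tt N19977 (iv1 F99408)) (tt N19862 (iv0 D63913)) (tt N19973 (iv2 F99406)) (tt N70880 D135929) (tt N55846 (iv4 F161937)) (tt N30577 F99405) (tt N70881 D135930) (tt N19974 (iv7 F99407)))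
theorem Q39110 : ∀ i, i < 39110 → P i := stepQ 39109 Q39109 (allL N39109 (tt N19862 (iv1 D63914)) (tt N19977 F99409) (tt N19974 (iv2 F99412)) (tt N70882 D135931) (tt N55845 (iv4 F161930)) (tt N38241 F99411) (tt N70883 D135932) (tt N19973 F99410))
theorem Q39111 : ∀ i, i < 39111 → P i := stepQ 39110 Q39110 (allL N39110 (tt N70884 D135933) (tt N70885 D135934) (tt N19976 F99413) (tt N40549 F357717) (tt N68910 (iv4 F211884)) (tt N19909 F99414) (tt N19862 (iv6 D63915)) (tt N70886 D135935))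
theorem Q39112 : ∀ i, i < 39112 → P i := stepQ 39111 Q39111 (allL N39111 (tt N19974 (iv1 F99418)) (tt N19973 F99419) (tt N19977 F99415) (tt N44922 (iv3 F322825)) (tt N19926 F99416) (tt N19863 F99417) (tt N44920 F321114) (tt N19862 (iv7 D63916)))
theorem Q39113 : ∀ i, i < 39113 → P i := stepQ 39112 Q39112 (allL N39112 (tt N20190 (iv1 F99423)) (tt N20189 F99424) (tt N19978 F99420) (tt N44923 (iv3 F322851)) (tt N19864 F99421) (tt N44921 F321120) (tt N19863 (iv6 D63917)) (tt N19910 F99422))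
theorem Q39114 : ∀ i, i < 39114 → P i := stepQ 39113 Q39113 (allL N39113 (tt N70887 D135938) (tt N70888 D135939) (tt N70889 D135940) (tt N19865 (iv3 D63918)) (tt N19870 F99425) (tt N67142 (iv5 F206772)) (tt N54582 (iv6 F346624)) (tt N20053 F99426))
theorem Q39115 : ∀ i, i < 39115 → P i := stepQ 39114 Q39114 (allL N39114 (tt N41097 F111360) (tt N41098 F111361) (tt N39390 (iv2 F100074)) (tt N54582 (iv3 F346622)) (tt N19866 F99427) (tt N52683 (iv5 F331261)) (tt N19865 (iv6 D63919)) (tt N41180 (iv7 F111244)))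
theorem Q39116 : ∀ i, i < 39116 → P i := stepQ 39115 Q39115 (allL N39115 (tt N30231 (iv1 F99430)) (tt N20340 F111254) (tt N39391 (iv2 F100076)) (tt N19874 F99428) (tt N41180 F111212) (tt N44234 (iv5 F111466)) (tt N20058 F99429) (tt N19866 (iv7 D63920)))
theorem Q39117 : ∀ i, i < 39117 → P i := stepQ 39116 Q39116 (allL N39116 (tt N70890 D135943) (tt N70891 D135944) (tt N70892 D135945) (tt N19867 (iv3 D63921)) (tt N56886 (iv4 F164983)) (tt N37434 F326702) (tt N70646 (iv6 F218032)) (tt N20009 F99431))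
theorem Q39118 : ∀ i, i < 39118 → P i := stepQ 39117 Q39117 (allL N39117 (tt N70893 D135946) (tt N70894 D135947) (tt N70895 D135948) (tt N19868 (iv3 D63922)) (tt N20324 F99432) (tt N39639 (iv5 F100522)) (tt N70896 D135949) (tt N20021 F99433))
theorem Q39119 : ∀ i, i < 39119 → P i := stepQ 39118 Q39118 (allL N39118 (tt N58525 (iv1 F169553)) (tt N58528 (iv0 F169551)) (tt N20020 F99434) (tt N70896 (iv3 F218695)) (tt N36029 F99435) (tt N70897 D135950) (tt N19868 (iv6 D63923)) (tt N70898 D135951))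
theorem Q39120 : ∀ i, i < 39120 → P i := stepQ 39119 Q39119 (allL N39119 (tt N70899 D135952) (tt N70900 D135953) (tt N70901 D135954) (tt N19869 (iv3 D63924)) (tt N30359 F99436) (tt N39637 (iv5 F100519)) (tt N70902 D135955) (tt N20018 F99437))
theorem Q39121 : ∀ i, i < 39121 → P i := stepQ 39120 Q39120 (allL N39120 (tt N19943 F99817) (tt N54527 (iv0 F328965)) (tt N20024 F99438) (tt N70902 (iv3 F218711)) (tt N30358 F99439) (tt N70903 D135956) (tt N19869 (iv6 D63925)) (tt N54530 (iv7 F329005)))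
theorem Q39122 : ∀ i, i < 39122 → P i := stepQ 39121 Q39121 (allL N39121 (tt N20068 (iv1 F99440)) (tt N19870 (iv0 D63926)) (tt N20067 F182937) (tt N70904 D135957) (tt N70905 D135958) (tt N39674 (iv5 F220886)) (tt N54398 (iv6 F365271)) (tt N20066 F182938))
theorem Q39123 : ∀ i, i < 39123 → P i := stepQ 39122 Q39122 (allL N39122 (tt N19870 (iv1 D63927)) (tt N20068 F99444) (tt N20066 F182934) (tt N70906 D135961) (tt N62651 (iv4 F182933)) (tt N39675 F220891) (tt N53416 (iv6 F362585)) (tt N20067 F182935))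
theorem Q39124 : ∀ i, i < 39124 → P i := stepQ 39123 Q39123 (allL N39123 (tt N20067 (iv1 F99445)) (tt N20066 F99443) (tt N19870 (iv2 D63928)) (tt N20027 F99441) (tt N70889 (iv4 F218667)) (tt N70907 D135964) (tt N53427 (iv6 F346663)) (tt N20068 F99442))
theorem Q39125 : ∀ i, i < 39125 → P i := stepQ 39124 Q39124 (allL N39124 (tt N70908 D135966) (tt N70909 D135967) (tt N70907 (iv2 F218729)) (tt N19871 F99446) (tt N70910 D135968) (tt N19870 (iv5 D63929)) (tt N70911 D135969) (tt N20069 F99447))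
theorem Q39126 : ∀ i, i < 39126 → P i := stepQ 39125 Q39125 (allL N39125 (tt N19878 (iv1 F99452)) (tt N19871 (iv0 D63931)) (tt N20030 (iv2 F99451)) (tt N70912 D135974) (tt N29929 F99450) (tt N19883 F99449) (tt N70913 D135975) (tt N20031 F99453))
theorem Q39127 : ∀ i, i < 39127 → P i := stepQ 39126 Q39126 (allL N39126 (tt N70052 (iv1 F347090)) (tt N70914 D135977) (tt N20032 F99454) (tt N70911 (iv3 F218739)) (tt N38913 F327364) (tt N70915 D135978) (tt N19871 (iv6 D63932)) (tt N70110 (iv7 F338728)))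
theorem Q39128 : ∀ i, i < 39128 → P i := stepQ 39127 Q39127 (allL N39127 (tt N20036 (iv1 F99460)) (tt N19872 (iv0 D63933)) (tt N20033 F111373) (tt N70916 D135980) (tt N36032 (iv4 F111438)) (tt N70917 D135981) (tt N53396 (iv6 F328171)) (tt N20034 F111374))
theorem Q39129 : ∀ i, i < 39129 → P i := stepQ 39128 Q39128 (allL N39128 (tt N19872 (iv1 D63934)) (tt N20036 F99455) (tt N20034 F111283) (tt N70918 D135982) (tt N30371 (iv4 F111190)) (tt N70919 D135983) (tt N54369 (iv6 F327135)) (tt N20033 F111284))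
theorem Q39130 : ∀ i, i < 39130 → P i := stepQ 39129 Q39129 (allL N39129 (tt N70920 D135985) (tt N70921 D135986) (tt N20035 F99456) (tt N54583 (iv3 F346626)) (tt N70922 D135987) (tt N19872 (iv5 D63935)) (tt N70915 (iv6 F218749)) (tt N70923 D135988))
theorem Q39131 : ∀ i, i < 39131 → P i := stepQ 39130 Q39130 (allL N39130 (tt N20034 (iv1 F99461)) (tt N20033 F99462) (tt N20036 F99457) (tt N53426 (iv3 F346657)) (tt N19874 F99458) (tt N70923 (iv5 F218777)) (tt N20075 F99459) (tt N19872 (iv7 D63936)))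
theorem Q39132 : ∀ i, i < 39132 → P i := stepQ 39131 Q39131 (allL N39131 (tt N55877 F162012) (tt N62246 F180437) (tt N20039 F99851) (tt N65031 (iv3 F357240)) (tt N19873 (iv4 D63942)) (tt N70924 D135990) (tt N63100 (iv6 F325445)) (tt N20037 F99847))
theorem Q39133 : ∀ i, i < 39133 → P i := stepQ 39132 Q39132 (allL N39132 (tt N39211 F99643) (tt N39214 F99751) (tt N20040 (iv2 F99829)) (tt N39492 F111445) (tt N63100 (iv4 F325444)) (tt N39851 (iv5 F100724)) (tt N19873 (iv6 D63943)) (tt N39851 (iv7 F100728)))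
theorem Q39134 : ∀ i, i < 39134 → P i := stepQ 39133 Q39133 (allL N39133 (tt N70925 D135992) (tt N70926 D135993) (tt N70927 D135994) (tt N19875 (iv3 D63944)) (tt N39514 (iv4 F100356)) (tt N66261 (iv5 F203843)) (tt N70928 D135995) (tt N20000 F99469))
theorem Q39135 : ∀ i, i < 39135 → P i := stepQ 39134 Q39134 (allL N39134 (tt N62695 (iv1 F183125)) (tt N21064 F100391) (tt N20060 F99470) (tt N70928 (iv3 F218792)) (tt N19876 F99471) (tt N22467 (iv5 F321764)) (tt N19875 (iv6 D63945)) (tt N62696 (iv7 F183129)))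
theorem Q39136 : ∀ i, i < 39136 → P i := stepQ 39135 Q39135 (allL N39135 (tt N20062 (iv1 F99475)) (tt N20061 F99476) (tt N20064 F99472) (tt N32325 F99473) (tt N62696 (iv4 F183126)) (tt N58072 (iv5 F168831)) (tt N20005 F99474) (tt N19876 (iv7 D63946)))
theorem Q39137 : ∀ i, i < 39137 → P i := stepQ 39136 Q39136 (allL N39136 (tt N20027 (iv1 F99477)) (tt N19877 (iv0 D63947)) (tt N20026 F106591) (tt N70929 D135997) (tt N69398 (iv4 F325514)) (tt N39629 F100515) (tt N70930 D135999) (tt N20025 F106592))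
theorem Q39138 : ∀ i, i < 39138 → P i := stepQ 39137 Q39137 (allL N39137 (tt N19877 (iv1 D63948)) (tt N20027 F99481) (tt N20025 F106601) (tt N70267 (iv3 F327701)) (tt N66300 (iv4 F203946)) (tt N39630 F106602) (tt N70931 D136001) (tt N20026 F106603))
theorem Q39139 : ∀ i, i < 39139 → P i := stepQ 39138 Q39138 (allL N39138 (tt N20026 (iv1 F99482)) (tt N20025 F99480) (tt N19877 (iv2 D63949)) (tt N20068 F99478) (tt N39531 (iv4 F100381)) (tt N60847 (iv5 F177023)) (tt N54351 (iv6 F325769)) (tt N20027 F99479))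
theorem Q39140 : ∀ i, i < 39140 → P i := stepQ 39139 Q39139 (allL N39139 (tt N70932 D136003) (tt N70933 D136004) (tt N60847 (iv2 F177022)) (tt N19878 F99483) (tt N50258 (iv4 F139349)) (tt N19877 (iv5 D63950)) (tt N70934 D136005) (tt N20028 F99484))
theorem Q39141 : ∀ i, i < 39141 → P i := stepQ 39140 Q39140 (allL N39140 (tt N70935 D136006) (tt N70936 D136007) (tt N54351 (iv2 F325767)) (tt N19879 F99485) (tt N39532 (iv4 F100387)) (tt N70937 D136008) (tt N19877 (iv6 D63951)) (tt N54376 (iv7 F323246)))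
theorem Q39142 : ∀ i, i < 39142 → P i := stepQ 39141 Q39141 (allL N39141 (tt N70938 D136010) (tt N70939 D136011) (tt N20071 F99486) (tt N70934 (iv3 F218834)) (tt N39378 (iv4 F100058)) (tt N70940 D136012) (tt N19878 (iv6 D63952)) (tt N70941 D136013))
theorem Q39143 : ∀ i, i < 39143 → P i := stepQ 39142 Q39142 (allL N39142 (tt N20075 F99488) (tt N19879 (iv0 D63953)) (tt N20072 F99499) (tt N70942 D136014) (tt N30391 F99487) (tt N70943 D136015) (tt N46102 F328573) (tt N20073 F99497))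
theorem Q39144 : ∀ i, i < 39144 → P i := stepQ 39143 Q39143 (allL N39143 (tt N19879 (iv1 D63954)) (tt N20075 F99489) (tt N20073 (iv2 F99498)) (tt N64555 (iv3 F328878)) (tt N36073 F99502) (tt N70944 D136018) (tt N19934 F99503) (tt N20072 (iv7 F99500)))
theorem Q39145 : ∀ i, i < 39145 → P i := stepQ 39144 Q39144 (allL N39144 (tt N70945 D136019) (tt N70946 D136020) (tt N20074 F99490) (tt N70937 (iv3 F218835)) (tt N70947 D136021) (tt N19879 (iv5 D63955)) (tt N70940 (iv6 F218840)) (tt N70948 D136022))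
theorem Q39146 : ∀ i, i < 39146 → P i := stepQ 39145 Q39145 (allL N39145 (tt N20073 (iv1 F99494)) (tt N20072 F99501) (tt N20075 F99491) (tt N54376 (iv3 F323244)) (tt N19881 F99492) (tt N70948 (iv5 F218864)) (tt N20036 F99493) (tt N19879 (iv7 D63956)))
theorem Q39147 : ∀ i, i < 39147 → P i := stepQ 39146 Q39146 (allL N39146 (tt N58611 (iv1 F169749)) (tt N58074 F168841) (tt N20076 F99505) (tt N70949 D136023) (tt N19880 (iv4 D63957)) (tt N70950 D136024) (tt N62923 (iv6 F328035)) (tt N20078 F99506))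
theorem Q39148 : ∀ i, i < 39148 → P i := stepQ 39147 Q39147 (allL N39147 (tt N38239 (iv1 F99514)) (tt N38238 (iv0 F99512)) (tt N20077 F99508) (tt N39036 F99509) (tt N62923 (iv4 F328034)) (tt N33015 F99510) (tt N19880 (iv6 D63958)) (tt N19931 F99511))
theorem Q39149 : ∀ i, i < 39149 → P i := stepQ 39148 Q39148 (allL N39148 (tt N56592 F164376) (tt N19882 (iv0 D63959)) (tt N20540 F111461) (tt N56367 (iv3 F163611)) (tt N56001 (iv4 F162255)) (tt N57023 (iv5 F165235)) (tt N32194 F99515) (tt N60323 (iv7 F176204)))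
theorem Q39150 : ∀ i, i < 39150 → P i := stepQ 39149 Q39149 (allL N39149 (tt N19882 (iv1 D63960)) (tt N56592 (iv0 F164374)) (tt N60323 (iv2 F176206)) (tt N20524 F111462) (tt N56002 F162252) (tt N56697 (iv5 F164601)) (tt N69468 (iv6 F214443)) (tt N20540 F111463))
theorem Q39151 : ∀ i, i < 39151 → P i := stepQ 39150 Q39150 (allL N39150 (tt N60323 (iv1 F176203)) (tt N20540 F111172) (tt N56592 (iv2 F164371)) (tt N19888 F99516) (tt N67128 (iv4 F206729)) (tt N29966 F99517) (tt N20123 F99518) (tt N19882 (iv7 D63961)))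
theorem Q39152 : ∀ i, i < 39152 → P i := stepQ 39151 Q39151 (allL N39151 (tt N20721 F99525) (tt N70951 D136026) (tt N70952 D136027) (tt N19883 (iv3 D63962)) (tt N20526 F99523) (tt N70912 (iv5 F218743)) (tt N70953 D136028) (tt N20097 F99524))
theorem Q39153 : ∀ i, i < 39153 → P i := stepQ 39152 Q39152 (allL N39152 (tt N20193 F101320) (tt N20197 F101321) (tt N20096 F99526) (tt N70953 (iv3 F218888)) (tt N36028 F99527) (tt N70954 D136029) (tt N19883 (iv6 D63963)) (tt N61909 (iv7 F179689)))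
theorem Q39154 : ∀ i, i < 39154 → P i := stepQ 39153 Q39153 (allL N39153 (tt N20126 (iv1 F99528)) (tt N19884 (iv0 D63964)) (tt N20125 F102546) (tt N70955 D136030) (tt N70956 D136031) (tt N70908 (iv5 F225343)) (tt N28817 (iv6 F329627)) (tt N20124 F102547))
theorem Q39155 : ∀ i, i < 39155 → P i := stepQ 39154 Q39154 (allL N39154 (tt N19884 (iv1 D63965)) (tt N20126 F99532) (tt N20124 F102543) (tt N20703 F102544) (tt N62486 (iv4 F181789)) (tt N70909 (iv5 F225340)) (tt N70841 (iv6 F324696)) (tt N20125 F102545))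
theorem Q39156 : ∀ i, i < 39156 → P i := stepQ 39155 Q39155 (allL N39155 (tt N20125 (iv1 F99533)) (tt N20124 F99531) (tt N19884 (iv2 D63966)) (tt N20100 F99529) (tt N67125 (iv4 F206720)) (tt N70957 D136036) (tt N28888 (iv6 F329631)) (tt N20126 F99530))
theorem Q39157 : ∀ i, i < 39157 → P i := stepQ 39156 Q39156 (allL N39156 (tt N39544 F220918) (tt N39547 (iv0 F220919)) (tt N70957 (iv2 F218904)) (tt N19885 F99534) (tt N70958 D136040) (tt N19884 (iv5 D63967)) (tt N70959 D136041) (tt N20127 F99535))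
theorem Q39158 : ∀ i, i < 39158 → P i := stepQ 39157 Q39157 (allL N39157 (tt N28886 (iv1 F329745)) (tt N28885 (iv0 F329746)) (tt N28888 (iv2 F329629)) (tt N19886 F99536) (tt N58444 (iv4 F328447)) (tt N49727 (iv5 F329749)) (tt N19884 (iv6 D63968)) (tt N28324 F329602))
theorem Q39159 : ∀ i, i < 39159 → P i := stepQ 39158 Q39158 (allL N39158 (tt N69395 (iv1 F327491)) (tt N69824 (iv0 F327492)) (tt N20105 F99537) (tt N70959 (iv3 F218914)) (tt N36936 F326900) (tt N70960 D136048) (tt N19885 (iv6 D63969)) (tt N68238 (iv7 F327498)))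
theorem Q39160 : ∀ i, i < 39160 → P i := stepQ 39159 Q39159 (allL N39159 (tt N19886 (iv1 D63971)) (tt N20109 F99538) (tt N20107 F103586) (tt N70961 D136052) (tt N32532 F328046) (tt N33662 (iv5 F328444)) (tt N70962 D136054) (tt N20106 F103587))
theorem Q39161 : ∀ i, i < 39161 → P i := stepQ 39160 Q39160 (allL N39160 (tt N20908 (iv1 F328452)) (tt N23891 (iv0 F328454)) (tt N20108 F99539) (tt N49727 (iv3 F329747)) (tt N32515 (iv4 F328457)) (tt N19886 (iv5 D63972)) (tt N70960 (iv6 F218920)) (tt N36286 (iv7 F328464)))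
theorem Q39162 : ∀ i, i < 39162 → P i := stepQ 39161 Q39161 (allL N39161 (tt N20107 (iv1 F99544)) (tt N20106 F99545) (tt N20109 F99540) (tt N28324 (iv3 F329362)) (tt N19888 F99541) (tt N36286 (iv5 F328463)) (tt N20131 F99542) (tt N19886 (iv7 D63973)))
theorem Q39163 : ∀ i, i < 39163 → P i := stepQ 39162 Q39162 (allL N39162 (tt N19897 F101958) (tt N20150 F101959) (tt N20113 F100003) (tt N54677 (iv3 F353565)) (tt N19887 (iv4 D63980)) (tt N62888 (iv5 F329156)) (tt N70963 D136061) (tt N20111 F99999))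
theorem Q39164 : ∀ i, i < 39164 → P i := stepQ 39163 Q39163 (allL N39163 (tt N38974 F99550) (tt N20195 (iv0 F99549)) (tt N20115 (iv2 F99931)) (tt N56998 (iv3 F165207)) (tt N70963 (iv4 F218955)) (tt N37304 F99548) (tt N19887 (iv6 D63981)) (tt N61903 (iv7 F179665)))
theorem Q39165 : ∀ i, i < 39165 → P i := stepQ 39164 Q39164 (allL N39164 (tt N56351 F163539) (tt N19889 (iv0 D63982)) (tt N56350 (iv2 F163544)) (tt N20595 F163540) (tt N66238 (iv4 F203791)) (tt N57032 (iv5 F165253)) (tt N70964 D136062) (tt N20615 F163541))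
theorem Q39166 : ∀ i, i < 39166 → P i := stepQ 39165 Q39165 (allL N39165 (tt N20615 (iv1 F163548)) (tt N56350 F163536) (tt N56351 (iv2 F163532)) (tt N19894 F99551) (tt N36147 F99552) (tt N44187 (iv5 F111066)) (tt N20094 F99553) (tt N19889 (iv7 D63984)))
theorem Q39167 : ∀ i, i < 39167 → P i := stepQ 39166 Q39166 (allL N39166 (tt N20100 (iv1 F99554)) (tt N19890 (iv0 D63985)) (tt N20099 F218808) (tt N70965 D136063) (tt N66553 F204413) (tt N70932 (iv5 F218803)) (tt N61910 (iv6 F344845)) (tt N20098 F218809))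
theorem Q39168 : ∀ i, i < 39168 → P i := stepQ 39167 Q39167 (allL N39167 (tt N19890 (iv1 D63986)) (tt N20100 F99559) (tt N20098 F218811) (tt N69835 (iv3 F331002)) (tt N66381 (iv4 F204074)) (tt N70933 (iv5 F218832)) (tt N70966 D136066) (tt N20099 F218812))
theorem Q39169 : ∀ i, i < 39169 → P i := stepQ 39168 Q39168 (allL N39168 (tt N20099 (iv1 F99560)) (tt N20098 F99558) (tt N19890 (iv2 D63987)) (tt N20126 F99555) (tt N36142 F99556) (tt N70967 D136067) (tt N28327 F328618) (tt N20100 F99557))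
theorem Q39170 : ∀ i, i < 39170 → P i := stepQ 39169 Q39169 (allL N39169 (tt N39455 (iv1 F106599)) (tt N39459 F106600) (tt N70967 (iv2 F218972)) (tt N19891 F99561) (tt N32497 F106582) (tt N19890 (iv5 D63988)) (tt N70968 D136069) (tt N20101 F99562))
theorem Q39171 : ∀ i, i < 39171 → P i := stepQ 39170 Q39170 (allL N39170 (tt N28867 (iv1 F327923)) (tt N28866 (iv0 F327924)) (tt N28327 (iv2 F328240)) (tt N19892 F99563) (tt N36144 F99564) (tt N28326 (iv5 F328242)) (tt N19890 (iv6 D63989)) (tt N28862 (iv7 F328243)))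
theorem Q39172 : ∀ i, i < 39172 → P i := stepQ 39171 Q39171 (allL N39171 (tt N49583 (iv1 F338456)) (tt N49581 (iv0 F329363)) (tt N20128 F99565) (tt N70968 (iv3 F218981)) (tt N39604 (iv4 F100483)) (tt N28892 F329014) (tt N19891 (iv6 D63990)) (tt N70969 D136077))
theorem Q39173 : ∀ i, i < 39173 → P i := stepQ 39172 Q39172 (allL N39172 (tt N20131 (iv1 F99571)) (tt N19892 (iv0 D63991)) (tt N20129 F166467) (tt N70970 D136078) (tt N39744 (iv4 F166215)) (tt N54529 (iv5 F357593)) (tt N70971 D136080) (tt N20130 F166468))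
theorem Q39174 : ∀ i, i < 39174 → P i := stepQ 39173 Q39173 (allL N39173 (tt N19892 (iv1 D63992)) (tt N20131 F99566) (tt N20130 F166479) (tt N70972 D136081) (tt N39745 F166480) (tt N54528 (iv5 F357599)) (tt N70846 (iv6 F218579)) (tt N20129 F166481))
theorem Q39175 : ∀ i, i < 39175 → P i := stepQ 39174 Q39174 (allL N39174 (tt N20130 (iv1 F99572)) (tt N20129 F99573) (tt N20131 F99568) (tt N28862 F328620) (tt N19894 F99569) (tt N28320 F328621) (tt N20109 F99570) (tt N19892 (iv7 D63994)))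
theorem Q39176 : ∀ i, i < 39176 → P i := stepQ 39175 Q39175 (allL N39175 (tt N20160 F166090) (tt N19901 F166091) (tt N20132 F99912) (tt N53454 (iv3 F329307)) (tt N19893 (iv4 D63997)) (tt N70973 D136088) (tt N70974 D136089) (tt N20134 F99908))
theorem Q39177 : ∀ i, i < 39177 → P i := stepQ 39176 Q39176 (allL N39176 (tt N20199 F99576) (tt N31140 (iv0 F99577)) (tt N20133 (iv2 F99893)) (tt N59797 (iv3 F174055)) (tt N70974 (iv4 F219027)) (tt N20080 F99575) (tt N19893 (iv6 D63998)) (tt N59699 (iv7 F173573)))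
theorem Q39178 : ∀ i, i < 39178 → P i := stepQ 39177 Q39177 (allL N39177 (tt N20153 (iv1 F99580)) (tt N19895 (iv0 D64002)) (tt N20152 (iv2 F219032)) (tt N53461 (iv3 F333103)) (tt N70975 D136092) (tt N70976 D136093) (tt N70977 D136094) (tt N20151 F219031))
theorem Q39179 : ∀ i, i < 39179 → P i := stepQ 39178 Q39178 (allL N39178 (tt N19895 (iv1 D64003)) (tt N20153 F99584) (tt N20151 F219033) (tt N70978 D136095) (tt N55963 (iv4 F347207)) (tt N70979 D136097) (tt N70852 (iv6 F391939)) (tt N20152 F219034))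
theorem Q39180 : ∀ i, i < 39180 → P i := stepQ 39179 Q39179 (allL N39179 (tt N20152 (iv1 F99585)) (tt N20151 F99583) (tt N19895 (iv2 D64004)) (tt N20141 F99581) (tt N55930 (iv4 F162172)) (tt N70980 D136099) (tt N70981 D136100) (tt N20153 F99582))
theorem Q39181 : ∀ i, i < 39181 → P i := stepQ 39180 Q39180 (allL N39180 (tt N70982 D136101) (tt N70983 D136102) (tt N70980 (iv2 F219051)) (tt N19896 F99586) (tt N70984 D136103) (tt N19895 (iv5 D64005)) (tt N70985 D136104) (tt N20155 F99587))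
theorem Q39182 : ∀ i, i < 39182 → P i := stepQ 39181 Q39181 (allL N39181 (tt N54711 (iv1 F349488)) (tt N70986 D136106) (tt N70981 (iv2 F219056)) (tt N19897 F99588) (tt N55932 (iv4 F162180)) (tt N62865 (iv5 F329158)) (tt N19895 (iv6 D64006)) (tt N62863 (iv7 F328424)))
theorem Q39183 : ∀ i, i < 39183 → P i := stepQ 39182 Q39182 (allL N39182 (tt N68236 (iv1 F328665)) (tt N36939 (iv0 F328666)) (tt N20149 F99589) (tt N70985 (iv3 F219061)) (tt N66237 (iv4 F203790)) (tt N62868 (iv5 F329078)) (tt N19896 (iv6 D64007)) (tt N68235 (iv7 F328672)))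
theorem Q39184 : ∀ i, i < 39184 → P i := stepQ 39183 Q39183 (allL N39183 (tt N20141 (iv1 F99597)) (tt N19898 (iv0 D64012)) (tt N20140 F176457) (tt N60927 (iv3 F177266)) (tt N70987 D136116) (tt N60460 F176456) (tt N70859 (iv6 F338932)) (tt N20139 F176458))
theorem Q39185 : ∀ i, i < 39185 → P i := stepQ 39184 Q39184 (allL N39184 (tt N19898 (iv1 D64013)) (tt N20141 F99601) (tt N20139 F176461) (tt N54774 (iv3 F333119)) (tt N70988 D136119) (tt N70989 D136120) (tt N44580 F338926) (tt N20140 F176462))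
theorem Q39186 : ∀ i, i < 39186 → P i := stepQ 39185 Q39185 (allL N39185 (tt N65972 F203002) (tt N70990 D136124) (tt N48656 (iv2 F329349)) (tt N19900 F99603) (tt N52256 (iv4 F329354)) (tt N19898 (iv5 D64015)) (tt N25572 F328986) (tt N20143 F99604))
theorem Q39187 : ∀ i, i < 39187 → P i := stepQ 39186 Q39186 (allL N39186 (tt N39681 F166207) (tt N31511 (iv0 F166089)) (tt N20157 F99606) (tt N36670 F99607) (tt N19901 F99608) (tt N30582 F99609) (tt N19899 (iv6 D64017)) (tt N55368 (iv7 F328546)))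
theorem Q39188 : ∀ i, i < 39188 → P i := stepQ 39187 Q39187 (allL N39187 (tt N68262 (iv1 F328558)) (tt N70991 D136133) (tt N20158 F99610) (tt N25572 (iv3 F328563)) (tt N66234 (iv4 F203778)) (tt N25571 F328161) (tt N19900 (iv6 D64018)) (tt N27336 (iv7 F328567)))
theorem Q39189 : ∀ i, i < 39189 → P i := stepQ 39188 Q39188 (allL N39188 (tt N19903 (iv1 F99621)) (tt N19902 (iv0 D64023)) (tt N19906 (iv2 F99618)) (tt N20161 F99619) (tt N61796 (iv4 F179533)) (tt N66488 (iv5 F204275)) (tt N70992 D136140) (tt N19904 F99620))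
theorem Q39190 : ∀ i, i < 39190 → P i := stepQ 39189 Q39189 (allL N39189 (tt N19906 (iv1 F224168)) (tt N19904 (iv0 F224169)) (tt N19902 (iv2 D64024)) (tt N53463 (iv3 F333091)) (tt N70993 D136144) (tt N44324 F330999) (tt N54680 (iv6 F343205)) (tt N19903 (iv7 F99622)))
theorem Q39191 : ∀ i, i < 39191 → P i := stepQ 39190 Q39190 (allL N39190 (tt N54774 (iv1 F333118)) (tt N54773 (iv0 F333115)) (tt N54776 (iv2 F333127)) (tt N19902 (iv3 D64025)) (tt N40526 F101819) (tt N70994 D136150) (tt N70995 D136151) (tt N54762 (iv7 F333124)))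
theorem Q39192 : ∀ i, i < 39192 → P i := stepQ 39191 Q39191 (allL N39191 (tt N70996 D136153) (tt N61969 (iv0 F180001)) (tt N70993 (iv2 F219186)) (tt N56995 (iv3 F330549)) (tt N19902 (iv4 D64026)) (tt N56991 (iv5 F330554)) (tt N70997 D136156) (tt N70998 D136157))
theorem Q39193 : ∀ i, i < 39193 → P i := stepQ 39192 Q39192 (allL N39192 (tt N68348 (iv1 F330992)) (tt N33312 (iv0 F330989)) (tt N44324 (iv2 F330995)) (tt N70994 (iv3 F219194)) (tt N31389 (iv4 F330997)) (tt N19902 (iv5 D64027)) (tt N31388 (iv6 F330998)) (tt N68349 F330988))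
theorem Q39194 : ∀ i, i < 39194 → P i := stepQ 39193 Q39193 (allL N39193 (tt N54678 (iv1 F343224)) (tt N54677 (iv0 F343219)) (tt N54680 (iv2 F343203)) (tt N70995 (iv3 F219195)) (tt N70997 (iv4 F219200)) (tt N69770 (iv5 F343212)) (tt N19902 (iv6 D64028)) (tt N54664 (iv7 F343223)))
theorem Q39195 : ∀ i, i < 39195 → P i := stepQ 39194 Q39194 (allL N39194 (tt N19904 F224172) (tt N19906 F224173) (tt N19903 F99623) (tt N54762 (iv3 F333122)) (tt N70998 (iv4 F219202)) (tt N68349 (iv5 F330986)) (tt N53452 (iv6 F333134)) (tt N19902 (iv7 D64029)))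
theorem Q39196 : ∀ i, i < 39196 → P i := stepQ 39195 Q39195 (allL N39195 (tt N61969 (iv1 F219188)) (tt N70996 (iv0 F219199)) (tt N70998 (iv2 F219201)) (tt N61958 (iv3 F179754)) (tt N19903 (iv4 D64031)) (tt N70999 D136173) (tt N53456 (iv6 F333135)) (tt N70993 (iv7 F219187)))
theorem Q39197 : ∀ i, i < 39197 → P i := stepQ 39196 Q39196 (allL N39196 (tt N33312 (iv1 F330990)) (tt N68348 (iv0 F330991)) (tt N68349 F330987) (tt N53462 (iv3 F333113)) (tt N44327 (iv4 F330993)) (tt N19903 (iv5 D64032)) (tt N53457 (iv6 F330994)) (tt N44324 (iv7 F330996)))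
theorem Q39198 : ∀ i, i < 39198 → P i := stepQ 39197 Q39197 (allL N39197 (tt N66487 (iv1 F204278)) (tt N66486 F204273) (tt N19905 F99626) (tt N20172 F99627) (tt N58041 (iv4 F323860)) (tt N19904 (iv5 D64036)) (tt N58040 (iv6 F326049)) (tt N66488 (iv7 F204276)))
theorem Q39199 : ∀ i, i < 39199 → P i := stepQ 39198 Q39198 (allL N39198 (tt N66488 (iv1 F204277)) (tt N19905 (iv0 D64037)) (tt N66487 F350316) (tt N71000 D136194) (tt N71001 D136195) (tt N70890 (iv5 F350326)) (tt N38828 (iv6 F350317)) (tt N66486 (iv7 F350334)))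
theorem Q39200 : ∀ i, i < 39200 → P i := stepQ 39199 Q39199 (allL N39199 (tt N19905 (iv1 D64038)) (tt N66488 F204279) (tt N66486 (iv2 F350331)) (tt N71002 D136199) (tt N71003 D136200) (tt N70891 (iv5 F331026)) (tt N71004 D136202) (tt N66487 (iv7 F350315)))
theorem Q39201 : ∀ i, i < 39201 → P i := stepQ 39200 Q39200 (allL N39200 (tt N35253 (iv1 F325433)) (tt N35255 (iv0 F325434)) (tt N70992 (iv2 F219181)) (tt N19910 F99629) (tt N61812 (iv4 F179546)) (tt N23407 F324298) (tt N19906 (iv6 D64041)) (tt N44923 F324299))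
theorem Q39202 : ∀ i, i < 39202 → P i := stepQ 39201 Q39201 (allL N39201 (tt N70976 (iv1 F360511)) (tt N70979 (iv0 F360512)) (tt N71005 D136215) (tt N19907 (iv3 D64042)) (tt N71006 D136216) (tt N55876 (iv5 F162008)) (tt N71007 D136217) (tt N20181 F99630))
theorem Q39203 : ∀ i, i < 39203 → P i := stepQ 39202 Q39202 (allL N39202 (tt N69954 F347016) (tt N38817 F347017) (tt N20180 F99631) (tt N71007 (iv3 F219241)) (tt N66229 (iv4 F203723)) (tt N71008 D136220) (tt N19907 (iv6 D64043)) (tt N69980 (iv7 F347009)))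
theorem Q39204 : ∀ i, i < 39204 → P i := stepQ 39203 Q39203 (allL N39203 (tt N60460 F176463) (tt N70989 F219111) (tt N71009 D136222) (tt N19908 (iv3 D64044)) (tt N71010 D136223) (tt N58073 (iv5 F168836)) (tt N71011 D136224) (tt N20179 F99632))
theorem Q39205 : ∀ i, i < 39205 → P i := stepQ 39204 Q39204 (allL N39204 (tt N71012 D136225) (tt N66258 (iv0 F360530)) (tt N20182 F99633) (tt N71011 (iv3 F219257)) (tt N66222 (iv4 F203709)) (tt N71013 D136227) (tt N19908 (iv6 D64045)) (tt N71014 D136228))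
theorem Q39206 : ∀ i, i < 39206 → P i := stepQ 39205 Q39205 (allL N39205 (tt N20187 (iv1 F99636)) (tt N19909 (iv0 D64046)) (tt N20185 (iv2 F359617)) (tt N71015 D136230) (tt N71016 D136231) (tt N71017 D136232) (tt N69963 (iv6 F359621)) (tt N20186 (iv7 F359622)))
theorem Q39207 : ∀ i, i < 39207 → P i := stepQ 39206 Q39206 (allL N39206 (tt N20186 (iv1 F99637)) (tt N20185 F99638) (tt N20187 F99635) (tt N38863 (iv3 F326052)) (tt N37128 F325106) (tt N70886 (iv5 F218654)) (tt N66490 (iv6 F204286)) (tt N19909 (iv7 D64048)))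
theorem Q39208 : ∀ i, i < 39208 → P i := stepQ 39207 Q39207 (allL N39207 (tt N19978 (iv1 F99639)) (tt N19910 (iv0 D64049)) (tt N20189 F202570) (tt N71018 D136239) (tt N55996 (iv4 F162245)) (tt N33846 F327127) (tt N71019 D136241) (tt N20190 F202571))
theorem Q39209 : ∀ i, i < 39209 → P i := stepQ 39208 Q39208 (allL N39208 (tt N19910 (iv1 D64050)) (tt N19978 F99640) (tt N20190 F202577) (tt N71020 D136242) (tt N65462 (iv4 F201784)) (tt N33847 F327128) (tt N71021 D136244) (tt N20189 F202578))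
theorem Q39210 : ∀ i, i < 39210 → P i := stepQ 39209 Q39209 (allL N39209 (tt N34877 F321116) (tt N71022 D136246) (tt N20191 F99641) (tt N23407 (iv3 F322831)) (tt N42803 (iv4 F321121)) (tt N19910 (iv5 D64051)) (tt N66489 (iv6 F204283)) (tt N44921 F321117))
theorem Q39211 : ∀ i, i < 39211 → P i := stepQ 39210 Q39210 (allL N39210 (tt N61909 (iv1 F179691)) (tt N20096 F100227) (tt N20193 (iv2 F99791)) (tt N28309 (iv3 F327698)) (tt N19911 (iv4 D64054)) (tt N28307 F327149) (tt N70456 (iv6 F217425)) (tt N20197 F99790))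
theorem Q39212 : ∀ i, i < 39212 → P i := stepQ 39211 Q39211 (allL N39211 (tt N39280 F99828) (tt N39132 (iv0 F99643)) (tt N20194 F99742) (tt N60350 (iv3 F176248)) (tt N28838 F327147) (tt N19911 (iv5 D64055)) (tt N39262 (iv6 F99730)) (tt N20198 F99756))
theorem Q39213 : ∀ i, i < 39213 → P i := stepQ 39212 Q39212 (allL N39212 (tt N19979 F163982) (tt N32226 F163983) (tt N39388 F164002) (tt N19912 (iv3 D64057)) (tt N36167 F99645) (tt N71023 D136251) (tt N71024 D136252) (tt N20192 (iv7 F99747)))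
theorem Q39214 : ∀ i, i < 39214 → P i := stepQ 39213 Q39213 (allL N39213 (tt N20096 F100219) (tt N61909 F179690) (tt N20197 (iv2 F99759)) (tt N71025 D136253) (tt N19912 (iv4 D64058)) (tt N28824 F327151) (tt N71026 D136255) (tt N20193 (iv7 F99748)))
theorem Q39215 : ∀ i, i < 39215 → P i := stepQ 39214 Q39214 (allL N39214 (tt N39132 (iv1 F99751)) (tt N39280 (iv0 F99827)) (tt N20198 (iv2 F99754)) (tt N71023 (iv3 F219283)) (tt N71027 D136256) (tt N19912 (iv5 D64059)) (tt N31098 F99646) (tt N20194 (iv7 F99749)))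
theorem Q39216 : ∀ i, i < 39216 → P i := stepQ 39215 Q39215 (allL N39215 (tt N59699 F173575) (tt N20133 (iv0 F99648)) (tt N20199 (iv2 F99760)) (tt N71024 (iv3 F219288)) (tt N71026 (iv4 F219297)) (tt N31121 F99647) (tt N19912 (iv6 D64060)) (tt N31140 (iv7 F99763)))
theorem Q39217 : ∀ i, i < 39217 → P i := stepQ 39216 Q39216 (allL N39216 (tt N59123 (iv1 F344593)) (tt N71028 D136258) (tt N71029 D136259) (tt N19913 (iv3 D64061)) (tt N35578 F99649) (tt N62664 (iv5 F344601)) (tt N71030 D136261) (tt N35675 F99650))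
theorem Q39218 : ∀ i, i < 39218 → P i := stepQ 39217 Q39217 (allL N39217 (tt N31036 F99652) (tt N31031 F99653) (tt N39229 (iv2 F99670)) (tt N62664 (iv3 F344600)) (tt N55865 (iv4 F161984)) (tt N19913 (iv5 D64062)) (tt N62662 (iv6 F361844)) (tt N35676 F99651))
theorem Q39219 : ∀ i, i < 39219 → P i := stepQ 39218 Q39218 (allL N39218 (tt N58564 F169695) (tt N58565 (iv0 F169698)) (tt N39230 (iv2 F99675)) (tt N71030 (iv3 F219315)) (tt N35577 F99654) (tt N71031 D136263) (tt N19913 (iv6 D64063)) (tt N58603 F169741))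
theorem Q39220 : ∀ i, i < 39220 → P i := stepQ 39219 Q39219 (allL N39219 (tt N58617 F169779) (tt N71032 D136264) (tt N71033 D136265) (tt N19914 (iv3 D64064)) (tt N31619 F99655) (tt N71034 D136266) (tt N46782 F365621) (tt N31736 F99656))
theorem Q39221 : ∀ i, i < 39221 → P i := stepQ 39220 Q39220 (allL N39220 (tt N31031 F99658) (tt N31036 F99659) (tt N35676 F99657) (tt N71034 (iv3 F219327)) (tt N55861 (iv4 F161972)) (tt N19914 (iv5 D64065)) (tt N69437 (iv6 F344603)) (tt N39229 (iv7 F99672)))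
theorem Q39222 : ∀ i, i < 39222 → P i := stepQ 39221 Q39221 (allL N39221 (tt N31938 F172747) (tt N31940 F169229) (tt N35677 F99660) (tt N46782 F365619) (tt N35674 F99661) (tt N71035 D136269) (tt N19914 (iv6 D64066)) (tt N71036 D136270))
theorem Q39223 : ∀ i, i < 39223 → P i := stepQ 39222 Q39222 (allL N39222 (tt N58370 (iv1 F169201)) (tt N19915 (iv0 D64067)) (tt N58369 (iv2 F351987)) (tt N62113 (iv3 F180029)) (tt N71037 D136272) (tt N62112 F180027) (tt N71038 D136273) (tt N58368 (iv7 F351986)))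
theorem Q39224 : ∀ i, i < 39224 → P i := stepQ 39223 Q39223 (allL N39223 (tt N19915 (iv1 D64068)) (tt N58370 F169203) (tt N58368 (iv2 F351982)) (tt N71039 D136275) (tt N71040 D136276) (tt N71041 D136277) (tt N71042 D136278) (tt N58369 (iv7 F351988)))
theorem Q39225 : ∀ i, i < 39225 → P i := stepQ 39224 Q39224 (allL N39224 (tt N58369 (iv1 F169202)) (tt N58368 F169199) (tt N19915 (iv2 D64069)) (tt N39233 (iv3 F99676)) (tt N42013 (iv4 F105266)) (tt N54983 (iv5 F322990)) (tt N36334 F99662) (tt N58370 (iv7 F169200)))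
theorem Q39226 : ∀ i, i < 39226 → P i := stepQ 39225 Q39225 (allL N39225 (tt N71043 D136280) (tt N51227 (iv0 F366473)) (tt N54983 (iv2 F322988)) (tt N19916 F99663) (tt N71044 D136282) (tt N19915 (iv5 D64070)) (tt N54920 (iv6 F319387)) (tt N55987 (iv7 F162240)))
theorem Q39227 : ∀ i, i < 39227 → P i := stepQ 39226 Q39226 (allL N39226 (tt N31842 (iv1 F99665)) (tt N19916 (iv0 D64071)) (tt N39235 F99680) (tt N59122 (iv3 F336177)) (tt N55858 (iv4 F161962)) (tt N31847 F99664) (tt N71045 D136285) (tt N35635 (iv7 F99666)))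
theorem Q39228 : ∀ i, i < 39228 → P i := stepQ 39227 Q39227 (allL N39227 (tt N19916 (iv1 D64072)) (tt N31842 F99667) (tt N35635 (iv2 F99669)) (tt N71046 D136286) (tt N55855 (iv4 F161954)) (tt N31848 F99668) (tt N54998 (iv6 F355198)) (tt N39235 (iv7 F99682)))
theorem Q39229 : ∀ i, i < 39229 → P i := stepQ 39228 Q39228 (allL N39228 (tt N71047 D136288) (tt N71048 D136289) (tt N39237 (iv2 F99689)) (tt N54920 (iv3 F319386)) (tt N55992 (iv4 F162242)) (tt N44148 (iv5 F110939)) (tt N19916 (iv6 D64073)) (tt N54974 (iv7 F319855)))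
theorem Q39230 : ∀ i, i < 39230 → P i := stepQ 39229 Q39229 (allL N39229 (tt N31850 F99673) (tt N31853 F99674) (tt N39217 F99670) (tt N59578 (iv3 F173167)) (tt N29656 F99671) (tt N19917 (iv5 D64074)) (tt N71049 D136291) (tt N39220 F99672))
theorem Q39231 : ∀ i, i < 39231 → P i := stepQ 39230 Q39230 (allL N39230 (tt N31139 (iv1 F169743)) (tt N31142 F169742) (tt N39218 F99675) (tt N59579 (iv3 F173168)) (tt N59588 (iv4 F173175)) (tt N71050 D136292) (tt N19917 (iv6 D64075)) (tt N71051 D136293))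
theorem Q39232 : ∀ i, i < 39232 → P i := stepQ 39231 Q39231 (allL N39231 (tt N59767 (iv1 F173972)) (tt N19918 (iv0 D64076)) (tt N59766 (iv2 F173967)) (tt N71052 D136294) (tt N65981 (iv4 F203022)) (tt N59147 (iv5 F342889)) (tt N71053 D136296) (tt N59765 F173968))
theorem Q39233 : ∀ i, i < 39233 → P i := stepQ 39232 Q39232 (allL N39232 (tt N19918 (iv1 D64077)) (tt N59767 F173973) (tt N59765 F173966) (tt N24904 F325267) (tt N59151 (iv4 F341783)) (tt N71054 D136297) (tt N24902 (iv6 F326186)) (tt N59766 (iv7 F173965)))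
theorem Q39234 : ∀ i, i < 39234 → P i := stepQ 39233 Q39233 (allL N39233 (tt N59766 F173964) (tt N59765 F173961) (tt N19918 (iv2 D64078)) (tt N39224 F99676) (tt N29508 F99677) (tt N71055 D136299) (tt N44152 (iv6 F110942)) (tt N59767 (iv7 F173971)))
theorem Q39235 : ∀ i, i < 39235 → P i := stepQ 39234 Q39234 (allL N39234 (tt N71056 D136300) (tt N71057 D136301) (tt N71055 (iv2 F219357)) (tt N19919 F99678) (tt N57011 (iv4 F347203)) (tt N19918 (iv5 D64079)) (tt N71058 D136303) (tt N59768 (iv7 F173975)))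
theorem Q39236 : ∀ i, i < 39236 → P i := stepQ 39235 Q39235 (allL N39235 (tt N29674 (iv1 F99681)) (tt N19919 (iv0 D64080)) (tt N39226 (iv2 F99680)) (tt N71059 D136304) (tt N29642 F99683) (tt N29625 F99679) (tt N71060 D136305) (tt N39227 F99682))
theorem Q39237 : ∀ i, i < 39237 → P i := stepQ 39236 Q39236 (allL N39236 (tt N29673 F99687) (tt N29672 F99688) (tt N29676 F99684) (tt N71061 D136306) (tt N19919 (iv4 D64081)) (tt N29621 F99685) (tt N71062 D136307) (tt N29620 F99686))
theorem Q39238 : ∀ i, i < 39238 → P i := stepQ 39237 Q39237 (allL N39237 (tt N71063 D136308) (tt N66531 (iv0 F381999)) (tt N39228 F99689) (tt N71058 (iv3 F219359)) (tt N71062 (iv4 F219367)) (tt N44155 (iv5 F110952)) (tt N19919 (iv6 D64082)) (tt N71064 D136310))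
theorem Q39239 : ∀ i, i < 39239 → P i := stepQ 39238 Q39238 (allL N39238 (tt N69705 (iv1 F336189)) (tt N71065 D136312) (tt N71066 D136313) (tt N19920 (iv3 D64083)) (tt N32209 F99690) (tt N71067 D136314) (tt N32204 F99691) (tt N58389 (iv7 F169247)))
theorem Q39240 : ∀ i, i < 39240 → P i := stepQ 39239 Q39239 (allL N39239 (tt N29633 F99694) (tt N29642 F99695) (tt N38396 F99692) (tt N71067 (iv3 F219379)) (tt N31867 F99693) (tt N19920 (iv5 D64084)) (tt N71068 D136315) (tt N58390 (iv7 F169251)))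
theorem Q39241 : ∀ i, i < 39241 → P i := stepQ 39240 Q39240 (allL N39240 (tt N67748 F207677) (tt N71069 D136316) (tt N71070 D136317) (tt N19921 (iv3 D64085)) (tt N36731 F99696) (tt N71071 D136318) (tt N71072 D136319) (tt N61669 (iv7 F179207)))
theorem Q39242 : ∀ i, i < 39242 → P i := stepQ 39241 Q39241 (allL N39241 (tt N37796 F99698) (tt N29610 F99699) (tt N55845 F161932) (tt N71071 (iv3 F219387)) (tt N19974 F99697) (tt N19921 (iv5 D64086)) (tt N71073 D136320) (tt N55846 (iv7 F161935)))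
theorem Q39243 : ∀ i, i < 39243 → P i := stepQ 39242 Q39242 (allL N39242 (tt N37834 (iv1 F175226)) (tt N37836 (iv0 F172749)) (tt N58196 (iv2 F168993)) (tt N71072 (iv3 F219388)) (tt N19922 F99700) (tt N71074 D136321) (tt N19921 (iv6 D64087)) (tt N71075 D136322))
theorem Q39244 : ∀ i, i < 39244 → P i := stepQ 39243 Q39243 (allL N39243 (tt N19922 (iv1 D64089)) (tt N58197 F168999) (tt N58195 F168990) (tt N30048 F165574) (tt N68862 (iv4 F211749)) (tt N59317 (iv5 F172571)) (tt N71076 D136323) (tt N56406 (iv7 F165669)))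
theorem Q39245 : ∀ i, i < 39245 → P i := stepQ 39244 Q39244 (allL N39244 (tt N58195 (iv1 F168986)) (tt N56406 F168992) (tt N58197 (iv2 F168995)) (tt N36733 F99701) (tt N71075 (iv4 F219394)) (tt N58185 (iv5 F168971)) (tt N39613 F100499) (tt N19922 (iv7 D64090)))
theorem Q39246 : ∀ i, i < 39246 → P i := stepQ 39245 Q39245 (allL N39245 (tt N36982 F99703) (tt N36985 F99704) (tt N55836 (iv2 F161909)) (tt N67385 (iv3 F207150)) (tt N19966 F99702) (tt N19923 (iv5 D64091)) (tt N71077 D136324) (tt N55839 (iv7 F161921)))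
theorem Q39247 : ∀ i, i < 39247 → P i := stepQ 39246 Q39246 (allL N39246 (tt N37933 F203328) (tt N37936 (iv0 F162070)) (tt N55837 (iv2 F161915)) (tt N67386 (iv3 F207151)) (tt N19924 F99705) (tt N71078 D136325) (tt N19923 (iv6 D64092)) (tt N71079 D136326))
theorem Q39248 : ∀ i, i < 39248 → P i := stepQ 39247 Q39247 (allL N39247 (tt N19924 (iv1 D64094)) (tt N61672 F179224) (tt N61671 F179217) (tt N30119 F168151) (tt N69070 F212719) (tt N71080 D136327) (tt N71081 D136328) (tt N56676 F168152))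
theorem Q39249 : ∀ i, i < 39249 → P i := stepQ 39248 Q39248 (allL N39248 (tt N61671 (iv1 F179215)) (tt N56676 (iv0 F176307)) (tt N61672 (iv2 F179220)) (tt N39014 F99706) (tt N71079 (iv4 F219406)) (tt N56815 F164863) (tt N60369 (iv6 F176304)) (tt N19924 (iv7 D64095)))
theorem Q39250 : ∀ i, i < 39250 → P i := stepQ 39249 Q39249 (allL N39249 (tt N69078 (iv1 F212747)) (tt N19925 (iv0 D64096)) (tt N69077 (iv2 F330450)) (tt N71082 D136330) (tt N71083 D136331) (tt N71084 D136332) (tt N71085 D136333) (tt N69076 (iv7 F330453)))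
theorem Q39251 : ∀ i, i < 39251 → P i := stepQ 39250 Q39250 (allL N39250 (tt N19925 (iv1 D64097)) (tt N69078 F212748) (tt N69076 (iv2 F330452)) (tt N71086 D136335) (tt N71087 D136336) (tt N71088 D136337) (tt N71089 D136338) (tt N69077 (iv7 F330451)))
theorem Q39252 : ∀ i, i < 39252 → P i := stepQ 39251 Q39251 (allL N39251 (tt N69077 F212743) (tt N69076 F212741) (tt N19925 (iv2 D64098)) (tt N38948 F99707) (tt N30126 F99708) (tt N71090 D136339) (tt N38947 F99709) (tt N69078 (iv7 F212746)))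
theorem Q39253 : ∀ i, i < 39253 → P i := stepQ 39252 Q39252 (allL N39252 (tt N71091 D136340) (tt N71092 D136341) (tt N71090 (iv2 F219421)) (tt N19926 F99710) (tt N71093 D136342) (tt N19925 (iv5 D64099)) (tt N71090 (iv6 F219423)) (tt N68909 (iv7 F211882)))
theorem Q39254 : ∀ i, i < 39254 → P i := stepQ 39253 Q39253 (allL N39253 (tt N71094 D136343) (tt N71095 D136344) (tt N61675 (iv2 F179226)) (tt N71090 (iv3 F219422)) (tt N44920 F321113) (tt N38948 F99711) (tt N19926 (iv6 D64100)) (tt N71096 D136345))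
theorem Q39255 : ∀ i, i < 39255 → P i := stepQ 39254 Q39254 (allL N39254 (tt N71097 D136346) (tt N71098 D136347) (tt N47608 (iv2 F326292)) (tt N19928 (iv3 D64101)) (tt N19935 F99712) (tt N46431 F325430) (tt N46775 (iv6 F326293)) (tt N57784 (iv7 F167727)))
theorem Q39256 : ∀ i, i < 39256 → P i := stepQ 39255 Q39255 (allL N39255 (tt N41288 F111448) (tt N71099 D136350) (tt N37245 F99713) (tt N46775 F327121) (tt N19929 F99714) (tt N43962 F326280) (tt N19928 (iv6 D64102)) (tt N47600 (iv7 F327674)))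
theorem Q39257 : ∀ i, i < 39257 → P i := stepQ 39256 Q39256 (allL N39256 (tt N37248 (iv1 F99719)) (tt N19929 (iv0 D64103)) (tt N37246 F111311) (tt N30704 F111321) (tt N57342 (iv4 F166255)) (tt N39876 (iv5 F111319)) (tt N19986 F99715) (tt N37247 (iv7 F111310)))
theorem Q39258 : ∀ i, i < 39258 → P i := stepQ 39257 Q39257 (allL N39257 (tt N19929 (iv1 D64104)) (tt N37248 F99716) (tt N37247 (iv2 F111306)) (tt N56359 (iv3 F163571)) (tt N57343 F166257) (tt N44190 (iv5 F111071)) (tt N71100 D136353) (tt N37246 F111312))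
theorem Q39259 : ∀ i, i < 39259 → P i := stepQ 39258 Q39258 (allL N39258 (tt N37247 (iv1 F99720)) (tt N37246 F99721) (tt N37248 F99717) (tt N19940 F99718) (tt N47600 F328145) (tt N57034 (iv5 F165270)) (tt N39399 F100111) (tt N19929 (iv7 D64105)))
theorem Q39260 : ∀ i, i < 39260 → P i := stepQ 39259 Q39259 (allL N39259 (tt N71101 D136354) (tt N71102 D136355) (tt N71103 D136356) (tt N19930 (iv3 D64106)) (tt N39037 F99722) (tt N71104 D136357) (tt N71105 D136358) (tt N68865 (iv7 F211758)))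
theorem Q39261 : ∀ i, i < 39261 → P i := stepQ 39260 Q39260 (allL N39260 (tt N39098 F99725) (tt N39101 F99726) (tt N38243 F99723) (tt N71104 (iv3 F219451)) (tt N36990 F99724) (tt N19930 (iv5 D64107)) (tt N71106 D136359) (tt N39328 (iv7 F100017)))
theorem Q39262 : ∀ i, i < 39262 → P i := stepQ 39261 Q39261 (allL N39261 (tt N62894 (iv1 F328029)) (tt N62890 (iv0 F328031)) (tt N38240 F99727) (tt N71105 (iv3 F219452)) (tt N19931 F99728) (tt N33675 (iv5 F328033)) (tt N19930 (iv6 D64108)) (tt N62923 (iv7 F328036)))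
theorem Q39263 : ∀ i, i < 39263 → P i := stepQ 39262 Q39262 (allL N39262 (tt N20077 (iv1 F99732)) (tt N19931 (iv0 D64109)) (tt N38238 (iv2 F99738)) (tt N37252 F168408) (tt N33725 (iv4 F327148)) (tt N32524 F326887) (tt N39211 F99730) (tt N38239 (iv7 F99740)))
theorem Q39264 : ∀ i, i < 39264 → P i := stepQ 39263 Q39263 (allL N39263 (tt N19931 (iv1 D64110)) (tt N20077 F99733) (tt N38239 F99739) (tt N69423 F214324) (tt N33721 (iv4 F327476)) (tt N32527 F326877) (tt N20013 F99735) (tt N38238 F99736))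
theorem Q39265 : ∀ i, i < 39265 → P i := stepQ 39264 Q39264 (allL N39264 (tt N71107 D136364) (tt N48143 (iv0 F313705)) (tt N71108 D136366) (tt N19932 (iv3 D64111)) (tt N20211 F99793) (tt N71109 D136367) (tt N58612 (iv6 F169755)) (tt N38242 F99794))
theorem Q39266 : ∀ i, i < 39266 → P i := stepQ 39265 Q39265 (allL N39265 (tt N39101 F99797) (tt N39098 F99798) (tt N39328 F100015) (tt N71109 (iv3 F219485)) (tt N36993 F99795) (tt N19932 (iv5 D64112)) (tt N71110 D136368) (tt N38243 F99796))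
theorem Q39267 : ∀ i, i < 39267 → P i := stepQ 39266 Q39266 (allL N39266 (tt N71111 D136369) (tt N54203 (iv0 F389354)) (tt N71112 D136371) (tt N19933 (iv3 D64113)) (tt N36782 F99799) (tt N71113 D136372) (tt N71114 D136373) (tt N68867 (iv7 F211766)))
theorem Q39268 : ∀ i, i < 39268 → P i := stepQ 39267 Q39267 (allL N39267 (tt N39093 F99801) (tt N33102 F99802) (tt N39300 F99878) (tt N71113 (iv3 F219489)) (tt N36982 F99800) (tt N19933 (iv5 D64114)) (tt N71115 D136374) (tt N39299 F99874))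
theorem Q39269 : ∀ i, i < 39269 → P i := stepQ 39268 Q39268 (allL N39268 (tt N33725 F327692) (tt N33721 F327693) (tt N41312 (iv2 F328189)) (tt N71114 (iv3 F219490)) (tt N36765 F99803) (tt N39648 (iv5 F100528)) (tt N19933 (iv6 D64115)) (tt N46102 (iv7 F328183)))
theorem Q39270 : ∀ i, i < 39270 → P i := stepQ 39269 Q39269 (allL N39269 (tt N71116 D136375) (tt N71117 D136376) (tt N71118 D136377) (tt N19934 (iv3 D64116)) (tt N44329 (iv4 F111661)) (tt N71119 D136378) (tt N64555 (iv6 F328879)) (tt N68866 (iv7 F211760)))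
theorem Q39271 : ∀ i, i < 39271 → P i := stepQ 39270 Q39270 (allL N39270 (tt N33102 F99805) (tt N39093 F99806) (tt N39299 F99873) (tt N71119 (iv3 F219494)) (tt N36985 F99804) (tt N19934 (iv5 D64117)) (tt N71120 D136379) (tt N39300 (iv7 F99876)))
theorem Q39272 : ∀ i, i < 39272 → P i := stepQ 39271 Q39271 (allL N39271 (tt N54509 (iv1 F328534)) (tt N19935 (iv0 D64118)) (tt N54506 (iv2 F346477)) (tt N71121 D136381) (tt N71122 D136382) (tt N71123 D136383) (tt N71124 D136384) (tt N54507 (iv7 F354510)))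
theorem Q39273 : ∀ i, i < 39273 → P i := stepQ 39272 Q39272 (allL N39272 (tt N19935 (iv1 D64119)) (tt N54509 (iv0 F328533)) (tt N54507 (iv2 F354508)) (tt N71125 D136386) (tt N71126 D136387) (tt N71127 D136388) (tt N70936 (iv6 F357403)) (tt N54506 (iv7 F346478)))
theorem Q39274 : ∀ i, i < 39274 → P i := stepQ 39273 Q39273 (allL N39273 (tt N71128 D136392) (tt N71129 D136393) (tt N54508 (iv2 F328532)) (tt N19936 F99807) (tt N71130 D136394) (tt N19935 (iv5 D64121)) (tt N71131 D136395) (tt N68911 (iv7 F211886)))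
theorem Q39275 : ∀ i, i < 39275 → P i := stepQ 39274 Q39274 (allL N39274 (tt N19942 (iv1 F99811)) (tt N19936 (iv0 D64123)) (tt N55852 (iv2 F161943)) (tt N71132 D136400) (tt N29608 F99810) (tt N19948 F99809) (tt N54004 (iv6 F344177)) (tt N35547 (iv7 F99812)))
theorem Q39276 : ∀ i, i < 39276 → P i := stepQ 39275 Q39275 (allL N39275 (tt N19936 (iv1 D64124)) (tt N19942 F99813) (tt N35547 (iv2 F99815)) (tt N71133 D136402) (tt N36976 (iv4 F99816)) (tt N19949 F99814) (tt N71134 D136403) (tt N55852 (iv7 F161945)))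
theorem Q39277 : ∀ i, i < 39277 → P i := stepQ 39276 Q39276 (allL N39276 (tt N53988 (iv1 F344194)) (tt N53989 (iv0 F344195)) (tt N50476 (iv2 F344183)) (tt N71131 (iv3 F219501)) (tt N37000 F99818) (tt N71135 D136406) (tt N19936 (iv6 D64125)) (tt N54011 (iv7 F362668)))
theorem Q39278 : ∀ i, i < 39278 → P i := stepQ 39277 Q39277 (allL N39277 (tt N54529 (iv1 F357591)) (tt N54528 (iv0 F357596)) (tt N53173 (iv2 F329010)) (tt N54505 (iv3 F328527)) (tt N71136 D136411) (tt N19937 (iv5 D64128)) (tt N71135 (iv6 F219511)) (tt N54526 (iv7 F328964)))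
theorem Q39279 : ∀ i, i < 39279 → P i := stepQ 39278 Q39278 (allL N39278 (tt N71137 D136413) (tt N65449 (iv0 F201735)) (tt N44322 (iv2 F111635)) (tt N28971 (iv3 F327131)) (tt N19938 (iv4 D64132)) (tt N28969 (iv5 F327130)) (tt N20037 F99823) (tt N48854 F326316))
theorem Q39280 : ∀ i, i < 39280 → P i := stepQ 39279 Q39279 (allL N39279 (tt N65449 (iv1 F201736)) (tt N71137 F219521) (tt N48854 F326311) (tt N63328 F320513) (tt N19939 (iv4 D64135)) (tt N28647 (iv5 F327129)) (tt N63094 F326312) (tt N44322 (iv7 F111637)))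
theorem Q39281 : ∀ i, i < 39281 → P i := stepQ 39280 Q39280 (allL N39280 (tt N39214 F99827) (tt N39211 (iv0 F99828)) (tt N39851 F100726) (tt N20217 F111220) (tt N63094 (iv4 F325440)) (tt N20040 F99825) (tt N19939 (iv6 D64136)) (tt N20040 F99826))
theorem Q39282 : ∀ i, i < 39282 → P i := stepQ 39281 Q39281 (allL N39281 (tt N54523 (iv1 F362583)) (tt N54043 (iv0 F352961)) (tt N54525 (iv2 F329301)) (tt N19942 F99852) (tt N71138 D136431) (tt N19941 (iv5 D64140)) (tt N71139 D136432) (tt N50477 (iv7 F329287)))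
theorem Q39283 : ∀ i, i < 39283 → P i := stepQ 39282 Q39282 (allL N39282 (tt N71140 D136437) (tt N71141 D136438) (tt N68912 (iv2 F211887)) (tt N71139 (iv3 F219533)) (tt N68861 (iv4 F211746)) (tt N71142 D136439) (tt N19942 (iv6 D64142)) (tt N71143 D136440))
theorem Q39284 : ∀ i, i < 39284 → P i := stepQ 39283 Q39283 (allL N39283 (tt N54527 (iv1 F328966)) (tt N19943 (iv0 D64143)) (tt N54530 (iv2 F329002)) (tt N71144 D136441) (tt N70214 F216992) (tt N71145 D136442) (tt N70898 (iv6 F218701)) (tt N20024 F216993))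
theorem Q39285 : ∀ i, i < 39285 → P i := stepQ 39284 Q39284 (allL N39284 (tt N71146 D136443) (tt N71147 D136444) (tt N70839 (iv2 F218559)) (tt N54544 (iv3 F329600)) (tt N71148 D136445) (tt N19943 (iv5 D64144)) (tt N71142 (iv6 F219536)) (tt N54531 (iv7 F329006)))
theorem Q39286 : ∀ i, i < 39286 → P i := stepQ 39285 Q39285 (allL N39285 (tt N70645 (iv1 F218028)) (tt N65453 F201757) (tt N70648 (iv2 F218034)) (tt N71149 D136447) (tt N19944 (iv4 D64146)) (tt N71150 D136448) (tt N58534 (iv6 F169565)) (tt N20017 F99856))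
theorem Q39287 : ∀ i, i < 39287 → P i := stepQ 39286 Q39286 (allL N39286 (tt N71151 D136449) (tt N65337 (iv0 F352323)) (tt N71152 D136451) (tt N19946 (iv3 D64147)) (tt N19950 F99857) (tt N70464 (iv5 F217455)) (tt N71153 D136452) (tt N30484 F99858))
theorem Q39288 : ∀ i, i < 39288 → P i := stepQ 39287 Q39287 (allL N39287 (tt N57668 F167352) (tt N71154 D136453) (tt N30483 F99859) (tt N71153 (iv3 F219551)) (tt N19947 F99860) (tt N71155 D136454) (tt N19946 (iv6 D64148)) (tt N71156 D136455))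
theorem Q39289 : ∀ i, i < 39289 → P i := stepQ 39288 Q39288 (allL N39288 (tt N57786 (iv1 F167737)) (tt N19947 (iv0 D64149)) (tt N56835 (iv2 F164894)) (tt N20617 F163552) (tt N57369 (iv4 F166311)) (tt N71157 D136456) (tt N20615 F163553) (tt N44363 F163554))
theorem Q39290 : ∀ i, i < 39290 → P i := stepQ 39289 Q39289 (allL N39289 (tt N19947 (iv1 D64150)) (tt N57786 F167736) (tt N44363 F164897) (tt N56361 (iv3 F164898)) (tt N57370 (iv4 F175457)) (tt N60405 (iv5 F176364)) (tt N71158 D136457) (tt N56835 F164896))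
theorem Q39291 : ∀ i, i < 39291 → P i := stepQ 39290 Q39290 (allL N39290 (tt N44363 (iv1 F165263)) (tt N56835 F165264) (tt N57786 (iv2 F167732)) (tt N19955 F99861) (tt N71156 (iv4 F219560)) (tt N31096 F99862) (tt N57788 (iv6 F167747)) (tt N19947 (iv7 D64151)))
theorem Q39292 : ∀ i, i < 39292 → P i := stepQ 39291 Q39291 (allL N39291 (tt N71159 D136458) (tt N71160 D136459) (tt N71161 D136460) (tt N19948 (iv3 D64152)) (tt N35564 F99863) (tt N71132 (iv5 F219504)) (tt N71162 D136461) (tt N35546 F99864))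
theorem Q39293 : ∀ i, i < 39293 → P i := stepQ 39292 Q39292 (allL N39292 (tt N20197 F101317) (tt N20193 F101318) (tt N61909 (iv2 F179687)) (tt N71162 (iv3 F219577)) (tt N35548 F99865) (tt N54005 (iv5 F325449)) (tt N19948 (iv6 D64153)) (tt N20096 F99866))
theorem Q39294 : ∀ i, i < 39294 → P i := stepQ 39293 Q39293 (allL N39293 (tt N71163 D136463) (tt N71164 D136464) (tt N71165 D136465) (tt N19949 (iv3 D64154)) (tt N44383 (iv4 F111871)) (tt N71133 (iv5 F219507)) (tt N20097 F99867) (tt N61908 (iv7 F179685)))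
theorem Q39295 : ∀ i, i < 39295 → P i := stepQ 39294 Q39294 (allL N39294 (tt N61912 (iv1 F179696)) (tt N19950 (iv0 D64155)) (tt N61911 (iv2 F344848)) (tt N71166 D136467) (tt N48511 F319243) (tt N71128 (iv5 F346572)) (tt N71167 D136470) (tt N61910 (iv7 F344846)))
theorem Q39296 : ∀ i, i < 39296 → P i := stepQ 39295 Q39295 (allL N39295 (tt N19950 (iv1 D64156)) (tt N61912 F179698) (tt N61910 (iv2 F344843)) (tt N71168 D136472) (tt N48510 F319242) (tt N71129 (iv5 F346579)) (tt N20099 (iv6 F344823)) (tt N61911 (iv7 F344852)))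
theorem Q39297 : ∀ i, i < 39297 → P i := stepQ 39296 Q39296 (allL N39296 (tt N61911 (iv1 F179697)) (tt N61910 F179692) (tt N19950 (iv2 D64157)) (tt N70842 (iv3 F218561)) (tt N71152 (iv4 F219546)) (tt N71169 D136476) (tt N71170 D136477) (tt N61912 (iv7 F179695)))
theorem Q39298 : ∀ i, i < 39298 → P i := stepQ 39297 Q39297 (allL N39297 (tt N71171 D136478) (tt N71172 D136479) (tt N71169 (iv2 F219590)) (tt N19951 F99868) (tt N71173 D136480) (tt N19950 (iv5 D64158)) (tt N71174 D136481) (tt N61913 (iv7 F179700)))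
theorem Q39299 : ∀ i, i < 39299 → P i := stepQ 39298 Q39298 (allL N39298 (tt N71175 D136482) (tt N71176 D136483) (tt N71170 (iv2 F219591)) (tt N19952 F99869) (tt N71153 (iv4 F219552)) (tt N71177 D136484) (tt N19950 (iv6 D64159)) (tt N71178 D136485))
theorem Q39300 : ∀ i, i < 39300 → P i := stepQ 39299 Q39299 (allL N39299 (tt N19957 (iv1 F99872)) (tt N19951 (iv0 D64160)) (tt N39270 (iv2 F99873)) (tt N71179 D136486) (tt N37807 F99871) (tt N37804 F99870) (tt N71180 D136487) (tt N39267 (iv7 F99874)))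
theorem Q39301 : ∀ i, i < 39301 → P i := stepQ 39300 Q39300 (allL N39300 (tt N19951 (iv1 D64161)) (tt N19957 F99875) (tt N39267 (iv2 F99878)) (tt N71181 D136488) (tt N37815 (iv4 F99879)) (tt N37803 F99877) (tt N71182 D136489) (tt N39270 F99876))
theorem Q39302 : ∀ i, i < 39302 → P i := stepQ 39301 Q39301 (allL N39301 (tt N71183 D136490) (tt N71184 D136491) (tt N70845 (iv2 F218571)) (tt N71174 (iv3 F219594)) (tt N37103 F99880) (tt N71185 D136492) (tt N19951 (iv6 D64162)) (tt N71186 D136493))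
theorem Q39303 : ∀ i, i < 39303 → P i := stepQ 39302 Q39302 (allL N39302 (tt N70849 (iv1 F218587)) (tt N19952 (iv0 D64163)) (tt N70846 F218577) (tt N71187 D136494) (tt N57561 F167115) (tt N71188 D136495) (tt N20130 F167116) (tt N70847 F218576))
theorem Q39304 : ∀ i, i < 39304 → P i := stepQ 39303 Q39303 (allL N39303 (tt N19952 (iv1 D64164)) (tt N70849 F218586) (tt N70847 F218575) (tt N71189 D136496) (tt N57562 (iv4 F167118)) (tt N71190 D136497) (tt N71191 D136498) (tt N70846 (iv7 F218580)))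
theorem Q39305 : ∀ i, i < 39305 → P i := stepQ 39304 Q39304 (allL N39304 (tt N39443 F100293) (tt N71192 D136499) (tt N70848 (iv2 F218582)) (tt N71177 (iv3 F219595)) (tt N71193 D136500) (tt N19952 (iv5 D64165)) (tt N71185 (iv6 F219605)) (tt N71194 D136501))
theorem Q39306 : ∀ i, i < 39306 → P i := stepQ 39305 Q39305 (allL N39305 (tt N70847 (iv1 F218573)) (tt N70846 F218581) (tt N70849 (iv2 F218583)) (tt N71178 (iv3 F219596)) (tt N19955 F99881) (tt N71194 (iv5 F219614)) (tt N61907 (iv6 F179677)) (tt N19952 (iv7 D64166)))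
theorem Q39307 : ∀ i, i < 39307 → P i := stepQ 39306 Q39306 (allL N39306 (tt N70858 (iv1 F218610)) (tt N19964 F161369) (tt N44380 F161370) (tt N54667 (iv3 F329305)) (tt N19953 (iv4 D64169)) (tt N71195 D136503) (tt N20134 F99885) (tt N70850 (iv7 F218589)))
theorem Q39308 : ∀ i, i < 39308 → P i := stepQ 39307 Q39307 (allL N39307 (tt N58529 F169558) (tt N58526 (iv0 F169541)) (tt N44381 (iv2 F161380)) (tt N44229 F161373) (tt N71196 D136504) (tt N19953 (iv5 D64170)) (tt N44229 (iv6 F111155)) (tt N58376 F169217))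
theorem Q39309 : ∀ i, i < 39309 → P i := stepQ 39308 Q39308 (allL N39308 (tt N19964 F99887) (tt N70858 F218609) (tt N70850 (iv2 F218588)) (tt N71197 D136505) (tt N19954 (iv4 D64173)) (tt N71198 D136506) (tt N71199 D136507) (tt N44380 F161307))
theorem Q39310 : ∀ i, i < 39310 → P i := stepQ 39309 Q39309 (allL N39309 (tt N31140 F99892) (tt N20199 F100576) (tt N59699 (iv2 F173570)) (tt N20254 F161301) (tt N71199 (iv4 F219618)) (tt N20079 F99890) (tt N19954 (iv6 D64175)) (tt N20133 F99889))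
theorem Q39311 : ∀ i, i < 39311 → P i := stepQ 39310 Q39310 (allL N39310 (tt N70842 (iv1 F218564)) (tt N19956 (iv0 D64176)) (tt N70841 (iv2 F221977)) (tt N71200 D136509) (tt N71201 D136510) (tt N54523 (iv5 F329869)) (tt N20124 (iv6 F326615)) (tt N70840 (iv7 F221981)))
theorem Q39312 : ∀ i, i < 39312 → P i := stepQ 39311 Q39311 (allL N39311 (tt N19956 (iv1 D64177)) (tt N70842 F218566) (tt N70840 (iv2 F221980)) (tt N48508 F314603) (tt N71202 D136515) (tt N54043 (iv5 F346672)) (tt N28816 (iv6 F346673)) (tt N70841 (iv7 F221979)))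
theorem Q39313 : ∀ i, i < 39313 → P i := stepQ 39312 Q39312 (allL N39312 (tt N70841 (iv1 F218565)) (tt N70840 F218560) (tt N19956 (iv2 D64178)) (tt N61912 (iv3 F179693)) (tt N56943 (iv4 F165094)) (tt N71203 D136518) (tt N71204 D136519) (tt N70842 (iv7 F218563)))
theorem Q39314 : ∀ i, i < 39314 → P i := stepQ 39313 Q39313 (allL N39313 (tt N71205 D136520) (tt N71206 D136521) (tt N71203 (iv2 F219624)) (tt N19957 F99919) (tt N71207 D136522) (tt N19956 (iv5 D64179)) (tt N54055 (iv6 F361947)) (tt N70843 (iv7 F218568)))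
theorem Q39315 : ∀ i, i < 39315 → P i := stepQ 39314 Q39314 (allL N39314 (tt N71208 D136524) (tt N71209 D136525) (tt N71204 (iv2 F219625)) (tt N19958 F99920) (tt N56939 (iv4 F165087)) (tt N71210 D136526) (tt N19956 (iv6 D64180)) (tt N71211 D136527))
theorem Q39316 : ∀ i, i < 39316 → P i := stepQ 39315 Q39315 (allL N39315 (tt N54022 (iv1 F344181)) (tt N71212 D136529) (tt N61914 (iv2 F179701)) (tt N54055 (iv3 F361946)) (tt N69068 (iv4 F212711)) (tt N71213 D136530) (tt N19957 (iv6 D64181)) (tt N71214 D136531))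
theorem Q39317 : ∀ i, i < 39317 → P i := stepQ 39316 Q39316 (allL N39316 (tt N61907 (iv1 F179683)) (tt N19958 (iv0 D64182)) (tt N61904 (iv2 F179681)) (tt N71215 D136532) (tt N70222 (iv4 F217020)) (tt N70920 (iv5 F218767)) (tt N71216 D136533) (tt N33733 F328851))
theorem Q39318 : ∀ i, i < 39318 → P i := stepQ 39317 Q39317 (allL N39317 (tt N19958 (iv1 D64183)) (tt N61907 F179679) (tt N33733 F328845) (tt N71217 D136534) (tt N41192 F172079) (tt N70921 (iv5 F218773)) (tt N20106 F172080) (tt N61904 (iv7 F179680)))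
theorem Q39319 : ∀ i, i < 39319 → P i := stepQ 39318 Q39318 (allL N39318 (tt N39482 (iv1 F172081)) (tt N39479 (iv0 F100316)) (tt N61906 (iv2 F179674)) (tt N71210 (iv3 F219627)) (tt N71218 D136535) (tt N19958 (iv5 D64184)) (tt N71213 (iv6 F219629)) (tt N71219 D136536))
theorem Q39320 : ∀ i, i < 39320 → P i := stepQ 39319 Q39319 (allL N39319 (tt N33733 F328849) (tt N61904 F179678) (tt N61907 (iv2 F179675)) (tt N71211 (iv3 F219628)) (tt N19961 F99921) (tt N71219 (iv5 F219634)) (tt N70849 (iv6 F218585)) (tt N19958 (iv7 D64185)))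
theorem Q39321 : ∀ i, i < 39321 → P i := stepQ 39320 Q39320 (allL N39320 (tt N70866 (iv1 F218629)) (tt N19967 F162114) (tt N61902 (iv2 F179658)) (tt N42935 F319407) (tt N19959 (iv4 D64188)) (tt N71220 D136538) (tt N71221 D136539) (tt N44400 (iv7 F111957)))
theorem Q39322 : ∀ i, i < 39322 → P i := stepQ 39321 Q39321 (allL N39321 (tt N20195 F99924) (tt N38974 F99926) (tt N61903 (iv2 F179662)) (tt N20265 F101981) (tt N71221 (iv4 F219638)) (tt N37305 F99923) (tt N19959 (iv6 D64189)) (tt N20115 F99929))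
theorem Q39323 : ∀ i, i < 39323 → P i := stepQ 39322 Q39322 (allL N39322 (tt N19967 F111276) (tt N70866 F218628) (tt N44400 (iv2 F111955)) (tt N71222 D136540) (tt N19960 (iv4 D64192)) (tt N71223 D136541) (tt N20111 F100010) (tt N61902 (iv7 F179659)))
theorem Q39324 : ∀ i, i < 39324 → P i := stepQ 39323 Q39323 (allL N39323 (tt N70861 (iv1 F218615)) (tt N19962 (iv0 D64193)) (tt N70860 (iv2 F338905)) (tt N71224 D136543) (tt N71225 D136544) (tt N71226 D136545) (tt N44576 F338909) (tt N70859 (iv7 F338917)))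
theorem Q39325 : ∀ i, i < 39325 → P i := stepQ 39324 Q39324 (allL N39324 (tt N19962 (iv1 D64194)) (tt N70861 F218617) (tt N70859 (iv2 F338916)) (tt N71227 D136548) (tt N71228 D136549) (tt N71229 D136550) (tt N20140 F338931) (tt N70860 (iv7 F338906)))
theorem Q39326 : ∀ i, i < 39326 → P i := stepQ 39325 Q39325 (allL N39325 (tt N70860 (iv1 F218616)) (tt N70859 F218611) (tt N19962 (iv2 D64195)) (tt N70853 (iv3 F218593)) (tt N57824 (iv4 F167867)) (tt N71230 D136552) (tt N71231 D136553) (tt N70861 (iv7 F218614)))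
theorem Q39327 : ∀ i, i < 39327 → P i := stepQ 39326 Q39326 (allL N39326 (tt N71232 D136554) (tt N71233 D136555) (tt N71230 (iv2 F219646)) (tt N19963 F100011) (tt N71234 D136556) (tt N19962 (iv5 D64196)) (tt N71235 D136557) (tt N70862 (iv7 F218619)))
theorem Q39328 : ∀ i, i < 39328 → P i := stepQ 39327 Q39327 (allL N39327 (tt N55373 (iv1 F358540)) (tt N71236 D136559) (tt N71231 (iv2 F219647)) (tt N19964 F100012) (tt N57826 (iv4 F167875)) (tt N71237 D136560) (tt N19962 (iv6 D64197)) (tt N71238 D136561))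
theorem Q39329 : ∀ i, i < 39329 → P i := stepQ 39328 Q39328 (allL N39328 (tt N19966 (iv1 F100016)) (tt N19963 (iv0 D64198)) (tt N39265 (iv2 F100015)) (tt N59050 (iv3 F332960)) (tt N37101 F100014) (tt N37802 F100013) (tt N59043 (iv6 F338255)) (tt N39260 F100017))
theorem Q39330 : ∀ i, i < 39330 → P i := stepQ 39329 Q39329 (allL N39329 (tt N71239 D136564) (tt N71240 D136565) (tt N70856 (iv2 F218603)) (tt N71235 (iv3 F219649)) (tt N69884 (iv4 F216290)) (tt N71241 D136566) (tt N19963 (iv6 D64199)) (tt N71242 D136567))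
theorem Q39331 : ∀ i, i < 39331 → P i := stepQ 39330 Q39330 (allL N39330 (tt N39423 (iv1 F100148)) (tt N71243 D136568) (tt N70857 (iv2 F218604)) (tt N71237 (iv3 F219650)) (tt N71244 D136569) (tt N19964 (iv5 D64201)) (tt N71241 (iv6 F219656)) (tt N71245 D136570))
theorem Q39332 : ∀ i, i < 39332 → P i := stepQ 39331 Q39331 (allL N39331 (tt N70850 F218591) (tt N44380 (iv0 F176832)) (tt N70858 (iv2 F218606)) (tt N71238 (iv3 F219651)) (tt N60758 F176831) (tt N71245 (iv5 F219659)) (tt N70866 (iv6 F218627)) (tt N19964 (iv7 D64202)))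
theorem Q39333 : ∀ i, i < 39333 → P i := stepQ 39332 Q39332 (allL N39332 (tt N70853 (iv1 F218596)) (tt N19965 (iv0 D64203)) (tt N70852 (iv2 F391938)) (tt N54788 F352943) (tt N71246 D136573) (tt N71247 D136574) (tt N20151 (iv6 F352948)) (tt N70851 (iv7 F391937)))
theorem Q39334 : ∀ i, i < 39334 → P i := stepQ 39333 Q39333 (allL N39333 (tt N19965 (iv1 D64204)) (tt N70853 F218598) (tt N70851 (iv2 F391935)) (tt N71248 D136577) (tt N71249 D136578) (tt N71250 D136579) (tt N71251 D136580) (tt N70852 (iv7 F391940)))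
theorem Q39335 : ∀ i, i < 39335 → P i := stepQ 39334 Q39334 (allL N39334 (tt N70852 (iv1 F218597)) (tt N70851 F218592) (tt N19965 (iv2 D64205)) (tt N70861 (iv3 F218612)) (tt N66342 (iv4 F204009)) (tt N71252 D136581) (tt N71253 D136582) (tt N70853 (iv7 F218595)))
theorem Q39336 : ∀ i, i < 39336 → P i := stepQ 39335 Q39335 (allL N39335 (tt N71254 D136583) (tt N71255 D136584) (tt N71252 (iv2 F219665)) (tt N19966 F100018) (tt N71256 D136585) (tt N19965 (iv5 D64206)) (tt N71257 D136586) (tt N70854 (iv7 F218600)))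
theorem Q39337 : ∀ i, i < 39337 → P i := stepQ 39336 Q39336 (allL N39336 (tt N71258 D136587) (tt N71259 D136588) (tt N71253 (iv2 F219666)) (tt N19967 F100019) (tt N66337 (iv4 F203997)) (tt N71260 D136589) (tt N19965 (iv6 D64207)) (tt N71261 D136590))
theorem Q39338 : ∀ i, i < 39338 → P i := stepQ 39337 Q39337 (allL N39337 (tt N71262 D136591) (tt N71263 D136592) (tt N70864 (iv2 F218622)) (tt N71257 (iv3 F219667)) (tt N71077 (iv4 F219403)) (tt N71264 D136593) (tt N19966 (iv6 D64208)) (tt N71265 D136594))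
theorem Q39339 : ∀ i, i < 39339 → P i := stepQ 39338 Q39338 (allL N39338 (tt N39493 F111277) (tt N39490 (iv0 F111428)) (tt N70865 (iv2 F218623)) (tt N71260 (iv3 F219668)) (tt N71266 D136595) (tt N19967 (iv5 D64211)) (tt N71264 (iv6 F219670)) (tt N71267 D136596))
theorem Q39340 : ∀ i, i < 39340 → P i := stepQ 39339 Q39339 (allL N39339 (tt N44400 (iv1 F167838)) (tt N61902 F179661) (tt N70866 (iv2 F218625)) (tt N71261 (iv3 F219669)) (tt N65456 (iv4 F201775)) (tt N71267 (iv5 F219671)) (tt N70858 (iv6 F218608)) (tt N19967 (iv7 D64212)))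
theorem Q39341 : ∀ i, i < 39341 → P i := stepQ 39340 Q39340 (allL N39340 (tt N19969 (iv1 F100023)) (tt N19968 (iv0 D64213)) (tt N19972 (iv2 F100020)) (tt N70867 (iv3 F218631)) (tt N20277 F100021) (tt N71268 D136597) (tt N71269 D136598) (tt N19970 F100022))
theorem Q39342 : ∀ i, i < 39342 → P i := stepQ 39341 Q39341 (allL N39341 (tt N19972 (iv1 F219714)) (tt N19970 (iv0 F219715)) (tt N19968 (iv2 D64214)) (tt N71270 D136601) (tt N25201 F312267) (tt N71271 D136603) (tt N71272 D136604) (tt N19969 (iv7 F100024)))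
theorem Q39343 : ∀ i, i < 39343 → P i := stepQ 39342 Q39342 (allL N39342 (tt N71248 (iv1 F366314)) (tt N71273 D136606) (tt N65481 (iv2 F219723)) (tt N19968 (iv3 D64215)) (tt N65479 (iv4 F219722)) (tt N71274 D136608) (tt N71275 D136609) (tt N65486 (iv7 F219719)))
theorem Q39344 : ∀ i, i < 39344 → P i := stepQ 39343 Q39343 (allL N39343 (tt N25497 (iv1 F310002)) (tt N25496 (iv0 F309999)) (tt N25201 (iv2 F310006)) (tt N65367 (iv3 F312156)) (tt N19968 (iv4 D64216)) (tt N25199 F309916) (tt N71276 D136615) (tt N25487 F309917))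
theorem Q39345 : ∀ i, i < 39345 → P i := stepQ 39344 Q39344 (allL N39344 (tt N59647 (iv1 F337457)) (tt N69539 F219692) (tt N71271 (iv2 F219690)) (tt N71274 (iv3 F219694)) (tt N71277 D136618) (tt N19968 (iv5 D64217)) (tt N71278 D136619) (tt N71279 D136620))
theorem Q39346 : ∀ i, i < 39346 → P i := stepQ 39345 Q39345 (allL N39345 (tt N71280 D136621) (tt N71197 (iv0 F359419)) (tt N71272 (iv2 F219693)) (tt N71275 (iv3 F219695)) (tt N71276 (iv4 F219739)) (tt N71281 D136623) (tt N19968 (iv6 D64218)) (tt N71282 D136624))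
theorem Q39347 : ∀ i, i < 39347 → P i := stepQ 39346 Q39346 (allL N39346 (tt N19970 F219716) (tt N19972 F219717) (tt N19969 F100025) (tt N65486 (iv3 F219718)) (tt N25487 F309915) (tt N71279 (iv5 F219760)) (tt N44979 (iv6 F312160)) (tt N19968 (iv7 D64219)))
theorem Q39348 : ∀ i, i < 39348 → P i := stepQ 39347 Q39347 (allL N39347 (tt N71283 D136626) (tt N71224 (iv0 F352331)) (tt N71284 D136628) (tt N19969 (iv3 D64220)) (tt N25499 (iv4 F314595)) (tt N71285 D136630) (tt N44993 (iv6 F314606)) (tt N71270 (iv7 F219686)))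
theorem Q39349 : ∀ i, i < 39349 → P i := stepQ 39348 Q39348 (allL N39348 (tt N69539 (iv1 F214694)) (tt N59647 (iv0 F337456)) (tt N71279 (iv2 F219759)) (tt N71285 (iv3 F219769)) (tt N53303 (iv4 F351903)) (tt N19969 (iv5 D64222)) (tt N53306 (iv6 F359930)) (tt N71271 (iv7 F219691)))
theorem Q39350 : ∀ i, i < 39350 → P i := stepQ 39349 Q39349 (allL N39349 (tt N71286 D136640) (tt N71287 D136641) (tt N19971 F100030) (tt N70876 (iv3 F218639)) (tt N71288 D136642) (tt N19970 (iv5 D64226)) (tt N71289 D136643) (tt N71268 (iv7 F219675)))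
theorem Q39351 : ∀ i, i < 39351 → P i := stepQ 39350 Q39350 (allL N39350 (tt N71268 (iv1 F219677)) (tt N19971 (iv0 D64227)) (tt N71286 (iv2 F221559)) (tt N71290 D136645) (tt N71291 D136646) (tt N71107 F219678) (tt N71292 D136647) (tt N71287 (iv7 F221565)))
theorem Q39352 : ∀ i, i < 39352 → P i := stepQ 39351 Q39351 (allL N39351 (tt N19971 (iv1 D64228)) (tt N71268 F219676) (tt N71287 (iv2 F221564)) (tt N71293 D136649) (tt N71294 D136650) (tt N48143 F316158) (tt N71295 D136651) (tt N71286 (iv7 F221560)))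
theorem Q39353 : ∀ i, i < 39353 → P i := stepQ 39352 Q39352 (allL N39352 (tt N71296 D136652) (tt N71297 D136653) (tt N71288 (iv2 F219789)) (tt N71298 D136654) (tt N19971 (iv4 D64229)) (tt N71299 D136655) (tt N71300 D136656) (tt N71301 D136657))
theorem Q39354 : ∀ i, i < 39354 → P i := stepQ 39353 Q39353 (allL N39353 (tt N71302 D136658) (tt N71303 D136659) (tt N71289 (iv2 F219790)) (tt N19976 F100031) (tt N71300 (iv4 F219802)) (tt N20176 F100032) (tt N19971 (iv6 D64230)) (tt N71300 F219804))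
theorem Q39355 : ∀ i, i < 39355 → P i := stepQ 39354 Q39354 (allL N39354 (tt N71287 (iv1 F219787)) (tt N71286 F219785) (tt N71268 (iv2 F219674)) (tt N19977 F100033) (tt N71301 (iv4 F219806)) (tt N19972 F100034) (tt N71301 (iv6 F219807)) (tt N19971 (iv7 D64231)))
theorem Q39356 : ∀ i, i < 39356 → P i := stepQ 39355 Q39355 (allL N39355 (tt N71304 D136660) (tt N71305 D136661) (tt N71269 (iv2 F219679)) (tt N19978 F100035) (tt N20293 F100036) (tt N71306 D136662) (tt N19972 (iv6 D64232)) (tt N20178 F100037))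
theorem Q39357 : ∀ i, i < 39357 → P i := stepQ 39356 Q39356 (allL N39356 (tt N71226 (iv1 F343910)) (tt N71229 (iv0 F343911)) (tt N55309 (iv2 F359640)) (tt N19973 (iv3 D64233)) (tt N71307 D136666) (tt N65448 (iv5 F201732)) (tt N48883 F343909) (tt N70882 (iv7 F218650)))
theorem Q39358 : ∀ i, i < 39358 → P i := stepQ 39357 Q39357 (allL N39357 (tt N48862 F338289) (tt N48866 (iv0 F338290)) (tt N70881 (iv2 F218648)) (tt N48883 F343908) (tt N69809 (iv4 F216191)) (tt N51109 (iv5 F343906)) (tt N19973 (iv6 D64234)) (tt N55304 (iv7 F343913)))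
theorem Q39359 : ∀ i, i < 39359 → P i := stepQ 39358 Q39358 (allL N39358 (tt N71247 (iv1 F393993)) (tt N71250 (iv0 F393995)) (tt N71308 D136674) (tt N19974 (iv3 D64235)) (tt N71309 D136675) (tt N65452 (iv5 F201751)) (tt N71310 D136676) (tt N70880 (iv7 F218647)))
theorem Q39360 : ∀ i, i < 39360 → P i := stepQ 39359 Q39359 (allL N39359 (tt N71311 D136677) (tt N71312 D136678) (tt N70883 (iv2 F218651)) (tt N71310 (iv3 F219814)) (tt N71073 (iv4 F219390)) (tt N71313 D136679) (tt N19974 (iv6 D64236)) (tt N71314 D136680))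
theorem Q39361 : ∀ i, i < 39361 → P i := stepQ 39360 Q39360 (allL N39360 (tt N71095 (iv1 F219424)) (tt N71094 F219427) (tt N71096 (iv2 F219425)) (tt N19975 (iv3 D64237)) (tt N71298 (iv4 F219796)) (tt N37094 F100038) (tt N71315 D136681) (tt N61675 (iv7 F179229)))
theorem Q39362 : ∀ i, i < 39362 → P i := stepQ 39361 Q39361 (allL N39361 (tt N71316 D136682) (tt N71317 D136683) (tt N68910 (iv2 F211883)) (tt N71315 (iv3 F219815)) (tt N19976 F100039) (tt N71318 D136684) (tt N19975 (iv6 D64238)) (tt N71315 (iv7 F219817)))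
theorem Q39363 : ∀ i, i < 39363 → P i := stepQ 39362 Q39362 (allL N39362 (tt N70886 (iv1 F218657)) (tt N19976 (iv0 D64239)) (tt N70884 (iv2 F359152)) (tt N71319 D136686) (tt N71320 D136687) (tt N71321 D136688) (tt N71322 D136689) (tt N70885 (iv7 F359155)))
theorem Q39364 : ∀ i, i < 39364 → P i := stepQ 39363 Q39363 (allL N39363 (tt N19976 (iv1 D64240)) (tt N70886 F218656) (tt N70885 (iv2 F359154)) (tt N71323 D136691) (tt N71324 D136692) (tt N71325 D136693) (tt N71326 D136694) (tt N70884 (iv7 F359153)))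
theorem Q39365 : ∀ i, i < 39365 → P i := stepQ 39364 Q39364 (allL N39364 (tt N70885 (iv1 F218652)) (tt N70884 F218655) (tt N70886 (iv2 F218653)) (tt N71300 (iv3 F219801)) (tt N71315 (iv4 F219816)) (tt N20187 F100040) (tt N71298 (iv6 F219799)) (tt N19976 (iv7 D64241)))
theorem Q39366 : ∀ i, i < 39366 → P i := stepQ 39365 Q39365 (allL N39365 (tt N71327 D136695) (tt N71328 D136696) (tt N44920 (iv2 F318997)) (tt N71301 (iv3 F219805)) (tt N61675 F179230) (tt N42783 F316634) (tt N19977 (iv6 D64242)) (tt N71298 F219797))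
theorem Q39367 : ∀ i, i < 39367 → P i := stepQ 39366 Q39366 (allL N39366 (tt N71022 (iv1 F219276)) (tt N34877 (iv0 F319004)) (tt N44921 (iv2 F319005)) (tt N71306 (iv3 F219811)) (tt N42785 (iv4 F319007)) (tt N19978 (iv5 D64243)) (tt N42783 F316635) (tt N20191 F100041))
theorem Q39368 : ∀ i, i < 39368 → P i := stepQ 39367 Q39367 (allL N39367 (tt N32226 (iv1 F100042)) (tt N19979 (iv0 D64244)) (tt N20192 F163984) (tt N32203 F168323) (tt N36166 F163985) (tt N71329 D136699) (tt N70580 (iv6 F217889)) (tt N39388 (iv7 F164001)))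
theorem Q39369 : ∀ i, i < 39369 → P i := stepQ 39368 Q39368 (allL N39368 (tt N39396 (iv1 F100101)) (tt N19980 (iv0 D64246)) (tt N39394 (iv2 F169532)) (tt N60413 F176375) (tt N41210 (iv4 F176376)) (tt N60376 (iv5 F176324)) (tt N71330 D136700) (tt N39395 F169536))
theorem Q39370 : ∀ i, i < 39370 → P i := stepQ 39369 Q39369 (allL N39369 (tt N19980 (iv1 D64247)) (tt N39396 F100094) (tt N39395 F169535) (tt N20013 F103655) (tt N41211 (iv4 F103654)) (tt N45910 F327659) (tt N69423 (iv6 F214325)) (tt N39394 (iv7 F169534)))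
theorem Q39371 : ∀ i, i < 39371 → P i := stepQ 39370 Q39370 (allL N39370 (tt N39395 (iv1 F100088)) (tt N39394 F100093) (tt N39396 (iv2 F100089)) (tt N20450 F100044) (tt N66297 (iv4 F203935)) (tt N31673 F100045) (tt N39400 (iv6 F100115)) (tt N19980 (iv7 D64248)))
theorem Q39372 : ∀ i, i < 39372 → P i := stepQ 39371 Q39371 (allL N39371 (tt N71331 D136701) (tt N71332 D136702) (tt N40661 F323664) (tt N19982 (iv3 D64250)) (tt N41230 (iv4 F103685)) (tt N40660 (iv5 F324993)) (tt N71333 D136704) (tt N36035 F100048))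
theorem Q39373 : ∀ i, i < 39373 → P i := stepQ 39372 Q39372 (allL N39372 (tt N57785 F167730) (tt N67021 (iv0 F332332)) (tt N33475 F100049) (tt N71333 (iv3 F219848)) (tt N30464 F100050) (tt N67009 (iv5 F332358)) (tt N19982 (iv6 D64251)) (tt N69427 (iv7 F214346)))
theorem Q39374 : ∀ i, i < 39374 → P i := stepQ 39373 Q39373 (allL N39373 (tt N39531 (iv1 F100383)) (tt N19983 (iv0 D64252)) (tt N39530 F139280) (tt N71334 D136706) (tt N71335 D136707) (tt N32482 F100051) (tt N71336 D136708) (tt N39529 (iv7 F139281)))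
theorem Q39375 : ∀ i, i < 39375 → P i := stepQ 39374 Q39374 (allL N39374 (tt N19983 (iv1 D64253)) (tt N39531 F100385) (tt N39529 (iv2 F139283)) (tt N69043 (iv3 F354172)) (tt N60853 (iv4 F177034)) (tt N66470 (iv5 F204216)) (tt N71337 D136710) (tt N39530 F139282))
theorem Q39376 : ∀ i, i < 39376 → P i := stepQ 39375 Q39375 (allL N39375 (tt N39530 (iv1 F100384)) (tt N39529 F100380) (tt N19983 (iv2 D64254)) (tt N39403 (iv3 F100118)) (tt N20027 F100052) (tt N71338 D136711) (tt N55045 (iv6 F331265)) (tt N39531 (iv7 F100382)))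
theorem Q39377 : ∀ i, i < 39377 → P i := stepQ 39376 Q39376 (allL N39376 (tt N32455 F143111) (tt N71339 D136713) (tt N71338 (iv2 F219852)) (tt N19984 F100053) (tt N50944 (iv4 F143109)) (tt N19983 (iv5 D64255)) (tt N71340 D136714) (tt N36159 F100054))
theorem Q39378 : ∀ i, i < 39378 → P i := stepQ 39377 Q39377 (allL N39377 (tt N71341 D136715) (tt N71342 D136716) (tt N55045 (iv2 F331263)) (tt N19985 F100055) (tt N20029 F100056) (tt N55047 (iv5 F365292)) (tt N19983 (iv6 D64256)) (tt N54377 (iv7 F323249)))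
theorem Q39379 : ∀ i, i < 39379 → P i := stepQ 39378 Q39378 (allL N39378 (tt N39820 F338722) (tt N36017 F338723) (tt N36158 F100057) (tt N71340 (iv3 F219865)) (tt N39141 F100058) (tt N71331 (iv5 F338737)) (tt N19984 (iv6 D64257)) (tt N39819 F336108))
theorem Q39380 : ∀ i, i < 39380 → P i := stepQ 39379 Q39379 (allL N39379 (tt N19985 (iv1 D64259)) (tt N39406 F100125) (tt N33485 (iv2 F111371)) (tt N44132 (iv3 F325002)) (tt N33484 F111370) (tt N63793 (iv5 F325004)) (tt N71343 D136725) (tt N36058 (iv7 F111372)))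
theorem Q39381 : ∀ i, i < 39381 → P i := stepQ 39380 Q39380 (allL N39380 (tt N34390 F322912) (tt N44132 (iv0 F323328)) (tt N39405 (iv2 F100121)) (tt N55047 (iv3 F365290)) (tt N71344 D136728) (tt N19985 (iv5 D64260)) (tt N71331 (iv6 F338738)) (tt N44131 F324693))
theorem Q39382 : ∀ i, i < 39382 → P i := stepQ 39381 Q39381 (allL N39381 (tt N33485 (iv1 F111241)) (tt N36058 (iv0 F111273)) (tt N39406 (iv2 F100122)) (tt N54377 (iv3 F323247)) (tt N19989 F100059) (tt N44131 F324694) (tt N39534 (iv6 F100389)) (tt N19985 (iv7 D64261)))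
theorem Q39383 : ∀ i, i < 39383 → P i := stepQ 39382 Q39382 (allL N39382 (tt N39846 F164009) (tt N71330 F219836) (tt N39409 F111347) (tt N35815 F111294) (tt N66328 (iv4 F203977)) (tt N71100 (iv5 F219446)) (tt N19987 (iv6 D64268)) (tt N71100 (iv7 F219447)))
theorem Q39384 : ∀ i, i < 39384 → P i := stepQ 39383 Q39383 (allL N39383 (tt N39413 (iv1 F100137)) (tt N19988 (iv0 D64269)) (tt N39410 F164927) (tt N31575 F164929) (tt N66335 (iv4 F203989)) (tt N57787 (iv5 F167741)) (tt N71345 D136730) (tt N39411 F164925))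
theorem Q39385 : ∀ i, i < 39385 → P i := stepQ 39384 Q39384 (allL N39384 (tt N19988 (iv1 D64270)) (tt N39413 F100136) (tt N39411 (iv2 F164921)) (tt N32194 (iv3 F164922)) (tt N66336 (iv4 F203995)) (tt N56850 F164920) (tt N56367 F164923) (tt N39410 (iv7 F164926)))
theorem Q39386 : ∀ i, i < 39386 → P i := stepQ 39385 Q39385 (allL N39385 (tt N39411 (iv1 F100129)) (tt N39410 F100135) (tt N39413 (iv2 F100132)) (tt N20044 F100062) (tt N57605 (iv4 F167215)) (tt N19989 F100063) (tt N44220 (iv6 F111138)) (tt N19988 (iv7 D64271)))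
theorem Q39387 : ∀ i, i < 39387 → P i := stepQ 39386 Q39386 (allL N39386 (tt N36000 F100067) (tt N35997 F100068) (tt N36052 F100064) (tt N57139 (iv3 F165430)) (tt N20031 F100065) (tt N19990 (iv5 D64272)) (tt N71346 D136731) (tt N29929 F100066))
theorem Q39388 : ∀ i, i < 39388 → P i := stepQ 39387 Q39387 (allL N39387 (tt N36169 F168126) (tt N36173 (iv0 F166984)) (tt N36091 F100069) (tt N57140 (iv3 F165432)) (tt N19991 F100070) (tt N65076 (iv5 F336030)) (tt N19990 (iv6 D64273)) (tt N60357 (iv7 F176274)))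
theorem Q39389 : ∀ i, i < 39389 → P i := stepQ 39388 Q39388 (allL N39388 (tt N19991 (iv1 D64275)) (tt N30736 F100072) (tt N39212 (iv2 F164002)) (tt N32221 (iv3 F168204)) (tt N57406 F166383) (tt N71330 (iv5 F219834)) (tt N60375 (iv6 F176321)) (tt N39367 F164001))
theorem Q39390 : ∀ i, i < 39390 → P i := stepQ 39389 Q39389 (allL N39389 (tt N62680 F183079) (tt N71347 D136733) (tt N48963 (iv2 F331258)) (tt N19992 (iv3 D64276)) (tt N20000 F100073) (tt N27900 (iv5 F331259)) (tt N27902 F331251) (tt N39514 (iv7 F100357)))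
theorem Q39391 : ∀ i, i < 39391 → P i := stepQ 39390 Q39390 (allL N39390 (tt N20828 F111242) (tt N20831 F111243) (tt N39114 F100074) (tt N27902 F331249) (tt N19993 F100075) (tt N27896 (iv5 F331252)) (tt N19992 (iv6 D64277)) (tt N71348 D136737))
theorem Q39392 : ∀ i, i < 39392 → P i := stepQ 39391 Q39391 (allL N39391 (tt N35812 (iv1 F100081)) (tt N35814 F100083) (tt N39115 F100076) (tt N20005 F100077) (tt N71348 (iv4 F219902)) (tt N30192 F100078) (tt N32325 F100079) (tt N19993 (iv7 D64278)))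
theorem Q39393 : ∀ i, i < 39393 → P i := stepQ 39392 Q39392 (allL N39392 (tt N71349 D136738) (tt N71350 D136739) (tt N68346 (iv2 F346545)) (tt N19996 (iv3 D64279)) (tt N30215 F100084) (tt N66392 (iv5 F204092)) (tt N71351 D136741) (tt N36044 F100085))
theorem Q39394 : ∀ i, i < 39394 → P i := stepQ 39393 Q39393 (allL N39393 (tt N41215 (iv1 F203924)) (tt N41219 (iv0 F103661)) (tt N36043 F100086) (tt N71351 (iv3 F219919)) (tt N19997 F100087) (tt N71352 D136742) (tt N19996 (iv6 D64280)) (tt N71353 D136743))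
theorem Q39395 : ∀ i, i < 39395 → P i := stepQ 39394 Q39394 (allL N39394 (tt N39370 (iv1 F100093)) (tt N19997 (iv0 D64281)) (tt N39368 F169532) (tt N31098 F169533) (tt N66285 (iv4 F203907)) (tt N71354 D136744) (tt N71023 (iv6 F219286)) (tt N39369 F169534))
theorem Q39396 : ∀ i, i < 39396 → P i := stepQ 39395 Q39395 (allL N39395 (tt N19997 (iv1 D64282)) (tt N39370 F100088) (tt N39369 (iv2 F169535)) (tt N39516 F169548) (tt N66286 (iv4 F203913)) (tt N59535 (iv5 F173098)) (tt N68055 (iv6 F214318)) (tt N39368 (iv7 F169536)))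
theorem Q39397 : ∀ i, i < 39397 → P i := stepQ 39396 Q39396 (allL N39396 (tt N39369 (iv1 F100094)) (tt N39368 F100101) (tt N39370 F100089) (tt N30219 F100090) (tt N71353 (iv4 F219923)) (tt N32296 F100091) (tt N38168 (iv6 F100097)) (tt N19997 (iv7 D64283)))
theorem Q39398 : ∀ i, i < 39398 → P i := stepQ 39397 Q39397 (allL N39397 (tt N71355 D136745) (tt N71356 D136746) (tt N71357 D136747) (tt N19998 (iv3 D64284)) (tt N33217 F100102) (tt N66390 (iv5 F204088)) (tt N47352 F330963) (tt N36041 F100103))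
theorem Q39399 : ∀ i, i < 39399 → P i := stepQ 39398 Q39398 (allL N39398 (tt N30463 F100106) (tt N71358 D136749) (tt N36046 F100104) (tt N47352 (iv3 F330960)) (tt N19999 F100105) (tt N46973 (iv5 F330961)) (tt N19998 (iv6 D64285)) (tt N71359 D136751))
theorem Q39400 : ∀ i, i < 39400 → P i := stepQ 39399 Q39399 (allL N39399 (tt N19999 (iv1 D64286)) (tt N38168 F100107) (tt N38170 (iv2 F100109)) (tt N38977 (iv3 F100110)) (tt N62574 (iv4 F182450)) (tt N68167 (iv5 F209214)) (tt N39258 (iv6 F100111)) (tt N30730 F100108))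
theorem Q39401 : ∀ i, i < 39401 → P i := stepQ 39400 Q39400 (allL N39400 (tt N38170 (iv1 F100116)) (tt N30730 F100117) (tt N38168 F100112) (tt N30749 F100113) (tt N71359 (iv4 F219950)) (tt N38935 F100114) (tt N39370 F100115) (tt N19999 (iv7 D64287)))
theorem Q39402 : ∀ i, i < 39402 → P i := stepQ 39401 Q39401 (allL N39401 (tt N70927 (iv1 F218789)) (tt N20000 (iv0 D64288)) (tt N70926 (iv2 F226661)) (tt N71360 D136753) (tt N71361 D136754) (tt N71362 D136755) (tt N71363 D136756) (tt N70925 (iv7 F226665)))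
theorem Q39403 : ∀ i, i < 39403 → P i := stepQ 39402 Q39402 (allL N39402 (tt N20000 (iv1 D64289)) (tt N70927 F218791) (tt N70925 (iv2 F226664)) (tt N47215 F343458) (tt N71364 D136759) (tt N71365 D136760) (tt N36591 (iv6 F343459)) (tt N70926 (iv7 F226662)))
theorem Q39404 : ∀ i, i < 39404 → P i := stepQ 39403 Q39403 (allL N39403 (tt N70926 (iv1 F218790)) (tt N70925 F218786) (tt N20000 (iv2 D64290)) (tt N39375 F100118) (tt N48963 F331266) (tt N66482 (iv5 F204265)) (tt N29175 F331267) (tt N70927 (iv7 F218788)))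
theorem Q39405 : ∀ i, i < 39405 → P i := stepQ 39404 Q39404 (allL N39404 (tt N29112 (iv1 F331253)) (tt N29178 (iv0 F331254)) (tt N29175 (iv2 F331255)) (tt N20001 F100119) (tt N27902 F331250) (tt N48947 (iv5 F331256)) (tt N20000 (iv6 D64291)) (tt N29174 (iv7 F331257)))
theorem Q39406 : ∀ i, i < 39406 → P i := stepQ 39405 Q39405 (allL N39405 (tt N63800 F323329) (tt N22572 F323330) (tt N39380 F100121) (tt N48947 F331268) (tt N71366 D136769) (tt N20001 (iv5 D64294)) (tt N66280 (iv6 F331749)) (tt N48946 (iv7 F331292)))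
theorem Q39407 : ∀ i, i < 39407 → P i := stepQ 39406 Q39406 (allL N39406 (tt N39379 (iv1 F100125)) (tt N20885 F111236) (tt N39381 F100122) (tt N29174 F331269) (tt N20005 F100123) (tt N48946 (iv5 F331291)) (tt N62696 F183130) (tt N20001 (iv7 D64295)))
theorem Q39408 : ∀ i, i < 39408 → P i := stepQ 39407 Q39407 (allL N39407 (tt N36057 (iv1 F111383)) (tt N35998 F111419) (tt N36054 (iv2 F111349)) (tt N71367 D136771) (tt N20002 (iv4 D64298)) (tt N71368 D136772) (tt N68063 (iv6 F209094)) (tt N36055 (iv7 F111353)))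
theorem Q39409 : ∀ i, i < 39409 → P i := stepQ 39408 Q39408 (allL N39408 (tt N35998 F111418) (tt N36057 (iv0 F111382)) (tt N36055 (iv2 F111351)) (tt N71369 D136773) (tt N20003 (iv4 D64301)) (tt N71370 D136774) (tt N71371 D136775) (tt N36054 (iv7 F111345)))
theorem Q39410 : ∀ i, i < 39410 → P i := stepQ 39409 Q39409 (allL N39409 (tt N71329 F219831) (tt N71023 (iv0 F219285)) (tt N39382 (iv2 F111347)) (tt N33237 F111343) (tt N71371 (iv4 F219982)) (tt N68065 (iv5 F209103)) (tt N20003 (iv6 D64302)) (tt N68065 (iv7 F209104)))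
theorem Q39411 : ∀ i, i < 39411 → P i := stepQ 39410 Q39410 (allL N39410 (tt N39385 (iv1 F100135)) (tt N20004 (iv0 D64303)) (tt N39383 (iv2 F164927)) (tt N30234 (iv3 F164928)) (tt N57590 (iv4 F175796)) (tt N58402 (iv5 F169295)) (tt N71372 D136776) (tt N39384 F164926))
theorem Q39412 : ∀ i, i < 39412 → P i := stepQ 39411 Q39411 (allL N39411 (tt N20004 (iv1 D64304)) (tt N39385 F100129) (tt N39384 F164921) (tt N22714 (iv3 F102190)) (tt N57591 (iv4 F167196)) (tt N39610 (iv5 F100493)) (tt N33118 (iv6 F111141)) (tt N39383 (iv7 F164925)))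
theorem Q39413 : ∀ i, i < 39413 → P i := stepQ 39412 Q39412 (allL N39412 (tt N66333 F203984) (tt N41428 F323286) (tt N30620 F100130) (tt N71373 D136777) (tt N20004 (iv4 D64305)) (tt N71374 D136778) (tt N20008 F100131) (tt N71375 D136779))
theorem Q39414 : ∀ i, i < 39414 → P i := stepQ 39413 Q39413 (allL N39413 (tt N39384 (iv1 F100136)) (tt N39383 F100137) (tt N39385 F100132) (tt N30192 F100133) (tt N71375 (iv4 F219993)) (tt N20005 F100134) (tt N58071 (iv6 F168822)) (tt N20004 (iv7 D64306)))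
theorem Q39415 : ∀ i, i < 39415 → P i := stepQ 39414 Q39414 (allL N39414 (tt N30568 F100140) (tt N30569 F100141) (tt N30587 F100138) (tt N71376 D136780) (tt N20007 (iv4 D64307)) (tt N57571 (iv5 F167130)) (tt N55921 (iv6 F162144)) (tt N30586 F100139))
theorem Q39416 : ∀ i, i < 39416 → P i := stepQ 39415 Q39415 (allL N39415 (tt N71377 D136781) (tt N71378 D136782) (tt N71379 D136783) (tt N20008 (iv3 D64308)) (tt N30187 F100142) (tt N71379 F220005) (tt N71373 (iv6 F219989)) (tt N30616 F100143))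
theorem Q39417 : ∀ i, i < 39417 → P i := stepQ 39416 Q39416 (allL N39416 (tt N57527 (iv1 F167041)) (tt N57529 (iv0 F167046)) (tt N30619 F100144) (tt N71379 (iv3 F220000)) (tt N39509 (iv4 F100343)) (tt N20008 (iv5 D64309)) (tt N71380 D136784) (tt N30617 F100145))
theorem Q39418 : ∀ i, i < 39418 → P i := stepQ 39417 Q39417 (allL N39417 (tt N70892 (iv1 F218680)) (tt N20009 (iv0 D64310)) (tt N70891 (iv2 F350338)) (tt N71381 D136786) (tt N71382 D136787) (tt N66486 (iv5 F350332)) (tt N71383 D136789) (tt N70890 (iv7 F350336)))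
theorem Q39419 : ∀ i, i < 39419 → P i := stepQ 39418 Q39418 (allL N39418 (tt N20009 (iv1 D64311)) (tt N70892 F218682) (tt N70890 (iv2 F350335)) (tt N71384 D136791) (tt N71385 D136792) (tt N66487 (iv5 F350340)) (tt N71386 D136794) (tt N70891 (iv7 F350339)))
theorem Q39420 : ∀ i, i < 39420 → P i := stepQ 39419 Q39419 (allL N39419 (tt N70891 (iv1 F218681)) (tt N70890 F218677) (tt N20009 (iv2 D64312)) (tt N58537 (iv3 F169576)) (tt N61829 (iv4 F179567)) (tt N38480 F327510) (tt N71387 D136796) (tt N70892 (iv7 F218679)))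
theorem Q39421 : ∀ i, i < 39421 → P i := stepQ 39420 Q39420 (allL N39420 (tt N65023 (iv1 F365136)) (tt N71388 D136802) (tt N71387 (iv2 F220012)) (tt N20011 F100147) (tt N61831 (iv4 F179570)) (tt N69387 (iv5 F365138)) (tt N20009 (iv6 D64314)) (tt N71389 D136804))
theorem Q39422 : ∀ i, i < 39422 → P i := stepQ 39421 Q39421 (allL N39421 (tt N58534 (iv1 F169569)) (tt N20011 (iv0 D64316)) (tt N58530 F202608) (tt N71390 D136809) (tt N60107 (iv4 F175578)) (tt N71391 D136810) (tt N63099 (iv6 F322838)) (tt N58531 (iv7 F202612)))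
theorem Q39423 : ∀ i, i < 39423 → P i := stepQ 39422 Q39422 (allL N39422 (tt N20011 (iv1 D64317)) (tt N58534 F169567) (tt N58531 (iv2 F202613)) (tt N71392 D136812) (tt N66270 F203879) (tt N71393 D136813) (tt N62890 (iv6 F328032)) (tt N58530 F202614))
theorem Q39424 : ∀ i, i < 39424 → P i := stepQ 39423 Q39423 (allL N39423 (tt N71394 D136814) (tt N39330 F100148) (tt N58533 (iv2 F169562)) (tt N69387 (iv3 F365137)) (tt N71395 D136815) (tt N20011 (iv5 D64318)) (tt N67618 (iv6 F326905)) (tt N71396 D136816))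
theorem Q39425 : ∀ i, i < 39425 → P i := stepQ 39424 Q39424 (allL N39424 (tt N58531 (iv1 F169559)) (tt N58530 F169566) (tt N58534 (iv2 F169563)) (tt N71389 (iv3 F220015)) (tt N20014 F100149) (tt N71396 (iv5 F220025)) (tt N70648 (iv6 F218036)) (tt N20011 (iv7 D64319)))
theorem Q39426 : ∀ i, i < 39426 → P i := stepQ 39425 Q39425 (allL N39425 (tt N60249 (iv1 F175996)) (tt N20052 F168365) (tt N60413 F176372) (tt N20012 (iv3 D64320)) (tt N41109 (iv4 F168415)) (tt N55643 F168366) (tt N39854 F100730) (tt N58527 (iv7 F169544)))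
theorem Q39427 : ∀ i, i < 39427 → P i := stepQ 39426 Q39426 (allL N39426 (tt N70898 (iv1 F218703)) (tt N20020 F169537) (tt N58525 (iv2 F169529)) (tt N53386 (iv3 F327145)) (tt N20012 (iv4 D64321)) (tt N71397 D136818) (tt N39857 (iv6 F100734)) (tt N58528 (iv7 F169550)))
theorem Q39428 : ∀ i, i < 39428 → P i := stepQ 39427 Q39427 (allL N39427 (tt N20020 F100150) (tt N70898 F218702) (tt N58528 (iv2 F169549)) (tt N71398 D136819) (tt N20013 (iv4 D64323)) (tt N71399 D136820) (tt N33721 F327987) (tt N58525 (iv7 F169530)))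
theorem Q39429 : ∀ i, i < 39429 → P i := stepQ 39428 Q39428 (allL N39428 (tt N58537 (iv1 F169579)) (tt N20015 (iv0 D64324)) (tt N58536 F177225) (tt N59186 F172287) (tt N62232 (iv4 F180234)) (tt N20173 F103147) (tt N63291 (iv6 F363012)) (tt N58535 F177223))
theorem Q39430 : ∀ i, i < 39430 → P i := stepQ 39429 Q39429 (allL N39429 (tt N20015 (iv1 D64325)) (tt N58537 F169580) (tt N58535 (iv2 F177224)) (tt N71400 D136822) (tt N41221 (iv4 F103664)) (tt N20174 F169581) (tt N62329 (iv6 F320751)) (tt N58536 F177220))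
theorem Q39431 : ∀ i, i < 39431 → P i := stepQ 39430 Q39430 (allL N39430 (tt N58536 F169573) (tt N58535 F169570) (tt N20015 (iv2 D64326)) (tt N70892 (iv3 F218678)) (tt N20377 F100285) (tt N39766 (iv5 F103080)) (tt N71401 D136824) (tt N58537 (iv7 F169578)))
theorem Q39432 : ∀ i, i < 39432 → P i := stepQ 39431 Q39431 (allL N39431 (tt N39769 (iv1 F220969)) (tt N39754 (iv0 F220966)) (tt N39766 F103081) (tt N20016 F100286) (tt N71402 D136827) (tt N20015 (iv5 D64327)) (tt N71403 D136828) (tt N39722 (iv7 F100614)))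
theorem Q39433 : ∀ i, i < 39433 → P i := stepQ 39432 Q39432 (allL N39432 (tt N71404 D136829) (tt N71405 D136830) (tt N71401 (iv2 F220029)) (tt N20017 F100287) (tt N20379 F100288) (tt N71406 D136831) (tt N20015 (iv6 D64328)) (tt N71149 (iv7 F219542)))
theorem Q39434 : ∀ i, i < 39434 → P i := stepQ 39433 Q39433 (allL N39433 (tt N71407 D136832) (tt N71408 D136833) (tt N39721 (iv2 F100612)) (tt N71403 (iv3 F220031)) (tt N66284 (iv4 F203906)) (tt N71409 D136834) (tt N20016 (iv6 D64329)) (tt N71410 D136835))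
theorem Q39435 : ∀ i, i < 39435 → P i := stepQ 39434 Q39434 (allL N39434 (tt N70648 (iv1 F218038)) (tt N20017 (iv0 D64330)) (tt N65453 (iv2 F201753)) (tt N71411 D136836) (tt N38697 (iv4 F100290)) (tt N71412 D136837) (tt N38241 F100289) (tt N70645 (iv7 F218029)))
theorem Q39436 : ∀ i, i < 39436 → P i := stepQ 39435 Q39435 (allL N39435 (tt N20017 (iv1 D64331)) (tt N70648 F218037) (tt N70645 F218031) (tt N71413 D136838) (tt N57183 (iv4 F165740)) (tt N71414 D136839) (tt N71137 F219523) (tt N65453 F201756))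
theorem Q39437 : ∀ i, i < 39437 → P i := stepQ 39436 Q39436 (allL N39436 (tt N71415 D136840) (tt N71416 D136841) (tt N70647 (iv2 F218033)) (tt N71406 (iv3 F220032)) (tt N71417 D136842) (tt N20017 (iv5 D64332)) (tt N71409 (iv6 F220033)) (tt N71150 (iv7 F219543)))
theorem Q39438 : ∀ i, i < 39438 → P i := stepQ 39437 Q39437 (allL N39437 (tt N70901 (iv1 F218708)) (tt N20018 (iv0 D64333)) (tt N70900 (iv2 F359143)) (tt N71418 D136844) (tt N71419 D136845) (tt N71420 D136846) (tt N71421 D136847) (tt N70899 (iv7 F359146)))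
theorem Q39439 : ∀ i, i < 39439 → P i := stepQ 39438 Q39438 (allL N39438 (tt N20018 (iv1 D64334)) (tt N70901 F218710) (tt N70899 (iv2 F359145)) (tt N71422 D136849) (tt N71423 D136850) (tt N71424 D136851) (tt N71425 D136852) (tt N70900 (iv7 F359144)))
theorem Q39440 : ∀ i, i < 39440 → P i := stepQ 39439 Q39439 (allL N39439 (tt N70900 (iv1 F218709)) (tt N70899 F218704) (tt N20018 (iv2 D64335)) (tt N70895 (iv3 F218686)) (tt N41466 (iv4 F104289)) (tt N70300 (iv5 F365148)) (tt N71426 D136854) (tt N70901 (iv7 F218707)))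
theorem Q39441 : ∀ i, i < 39441 → P i := stepQ 39440 Q39440 (allL N39440 (tt N38474 F330976) (tt N71427 D136856) (tt N70300 (iv2 F365146)) (tt N20019 F100291) (tt N71428 D136857) (tt N20018 (iv5 D64336)) (tt N70154 (iv6 F365143)) (tt N39637 (iv7 F100520)))
theorem Q39442 : ∀ i, i < 39442 → P i := stepQ 39441 Q39441 (allL N39441 (tt N71429 D136859) (tt N71430 D136860) (tt N71426 (iv2 F220045)) (tt N20020 F100292) (tt N41467 (iv4 F104291)) (tt N71431 D136861) (tt N20018 (iv6 D64337)) (tt N71432 D136862))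
theorem Q39443 : ∀ i, i < 39443 → P i := stepQ 39442 Q39442 (allL N39442 (tt N67611 (iv1 F330959)) (tt N67614 (iv0 F330958)) (tt N39640 (iv2 F100524)) (tt N70154 (iv3 F365141)) (tt N66391 (iv4 F204091)) (tt N71433 D136865) (tt N20019 (iv6 D64338)) (tt N70301 (iv7 F330957)))
theorem Q39444 : ∀ i, i < 39444 → P i := stepQ 39443 Q39443 (allL N39443 (tt N71434 D136867) (tt N39304 (iv0 F100293)) (tt N70897 (iv2 F218697)) (tt N71431 (iv3 F220047)) (tt N71435 D136868) (tt N20020 (iv5 D64340)) (tt N71433 (iv6 F220049)) (tt N71436 D136869))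
theorem Q39445 : ∀ i, i < 39445 → P i := stepQ 39444 Q39444 (allL N39444 (tt N58528 F169552) (tt N58525 (iv0 F169531)) (tt N70898 (iv2 F218699)) (tt N71432 (iv3 F220048)) (tt N41465 (iv4 F104287)) (tt N71436 (iv5 F220055)) (tt N54530 (iv6 F329004)) (tt N20020 (iv7 D64341)))
theorem Q39446 : ∀ i, i < 39446 → P i := stepQ 39445 Q39445 (allL N39445 (tt N70895 (iv1 F218689)) (tt N20021 (iv0 D64342)) (tt N70894 F218691) (tt N58553 F169677) (tt N71437 D136870) (tt N71438 D136871) (tt N63358 (iv6 F349993)) (tt N70893 F218685))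
theorem Q39447 : ∀ i, i < 39447 → P i := stepQ 39446 Q39446 (allL N39446 (tt N20021 (iv1 D64343)) (tt N70895 F218694) (tt N70893 (iv2 F218693)) (tt N71439 D136873) (tt N71440 D136874) (tt N71441 D136875) (tt N71442 D136876) (tt N70894 F218692))
theorem Q39448 : ∀ i, i < 39448 → P i := stepQ 39447 Q39447 (allL N39447 (tt N70894 (iv1 F218690)) (tt N70893 F218684) (tt N20021 (iv2 D64344)) (tt N70901 (iv3 F218705)) (tt N62265 (iv4 F180513)) (tt N71443 D136877) (tt N71444 D136878) (tt N70895 (iv7 F218688)))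
theorem Q39449 : ∀ i, i < 39449 → P i := stepQ 39448 Q39448 (allL N39448 (tt N40958 (iv1 F220983)) (tt N71445 D136880) (tt N71443 (iv2 F220061)) (tt N20023 F100294) (tt N71446 D136881) (tt N20021 (iv5 D64345)) (tt N71447 D136882) (tt N39639 (iv7 F100523)))
theorem Q39450 : ∀ i, i < 39450 → P i := stepQ 39449 Q39449 (allL N39449 (tt N71448 D136883) (tt N71449 D136884) (tt N71444 (iv2 F220062)) (tt N20024 F100295) (tt N62266 (iv4 F180519)) (tt N71450 D136885) (tt N20021 (iv6 D64346)) (tt N71144 (iv7 F219537)))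
theorem Q39451 : ∀ i, i < 39451 → P i := stepQ 39450 Q39450 (allL N39450 (tt N35543 F100300) (tt N70215 F216998) (tt N30358 F100296) (tt N36065 F100297) (tt N20024 F100298) (tt N35929 F100299) (tt N20022 (iv6 D64347)) (tt N70214 (iv7 F216989)))
theorem Q39452 : ∀ i, i < 39452 → P i := stepQ 39451 Q39451 (allL N39451 (tt N71451 D136886) (tt N71452 D136887) (tt N39638 (iv2 F100521)) (tt N71447 (iv3 F220063)) (tt N66393 (iv4 F204095)) (tt N71453 D136888) (tt N20023 (iv6 D64348)) (tt N71454 D136889))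
theorem Q39453 : ∀ i, i < 39453 → P i := stepQ 39452 Q39452 (allL N39452 (tt N71455 D136890) (tt N71456 D136891) (tt N70903 (iv2 F218713)) (tt N71450 (iv3 F220064)) (tt N71457 D136892) (tt N20024 (iv5 D64349)) (tt N71453 (iv6 F220065)) (tt N71145 (iv7 F219538)))
theorem Q39454 : ∀ i, i < 39454 → P i := stepQ 39453 Q39453 (allL N39453 (tt N71439 (iv1 F406656)) (tt N71458 D136894) (tt N71459 D136895) (tt N20025 (iv3 D64352)) (tt N71460 D136896) (tt N71461 D136897) (tt N71462 D136898) (tt N70929 (iv7 F218794)))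
theorem Q39455 : ∀ i, i < 39455 → P i := stepQ 39454 Q39454 (allL N39454 (tt N54319 (iv1 F322562)) (tt N71463 D136900) (tt N66300 F203947) (tt N71464 D136901) (tt N20025 (iv4 D64353)) (tt N50946 (iv5 F143120)) (tt N71465 D136902) (tt N69398 (iv7 F325515)))
theorem Q39456 : ∀ i, i < 39456 → P i := stepQ 39455 Q39455 (allL N39455 (tt N39627 (iv1 F106598)) (tt N39169 F106599) (tt N39630 (iv2 F106596)) (tt N71461 (iv3 F220073)) (tt N45049 F114432) (tt N20025 (iv5 D64354)) (tt N70264 (iv6 F325766)) (tt N39629 F106597))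
theorem Q39457 : ∀ i, i < 39457 → P i := stepQ 39456 Q39456 (allL N39456 (tt N54390 (iv1 F345508)) (tt N71398 (iv0 F360694)) (tt N70931 (iv2 F218800)) (tt N71462 (iv3 F220074)) (tt N71465 (iv4 F220079)) (tt N71466 D136906) (tt N20025 (iv6 D64355)) (tt N71467 D136907))
theorem Q39458 : ∀ i, i < 39458 → P i := stepQ 39457 Q39457 (allL N39457 (tt N71468 D136908) (tt N71418 (iv0 F365679)) (tt N71469 D136910) (tt N20026 (iv3 D64357)) (tt N71470 D136911) (tt N38476 F328194) (tt N71471 D136913) (tt N70267 F328195))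
theorem Q39459 : ∀ i, i < 39459 → P i := stepQ 39458 Q39458 (allL N39458 (tt N71463 (iv1 F220078)) (tt N54319 (iv0 F322561)) (tt N69398 (iv2 F325513)) (tt N66224 (iv3 F203711)) (tt N20026 (iv4 D64358)) (tt N37424 F324341) (tt N71472 D136915) (tt N66300 F203948))
theorem Q39460 : ∀ i, i < 39460 → P i := stepQ 39459 Q39459 (allL N39459 (tt N39169 (iv1 F106600)) (tt N39627 F106587) (tt N39629 F106589) (tt N38476 (iv3 F327702)) (tt N26896 (iv4 F106588)) (tt N20026 (iv5 D64359)) (tt N26904 F106590) (tt N39630 (iv7 F106593)))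
theorem Q39461 : ∀ i, i < 39461 → P i := stepQ 39460 Q39460 (allL N39460 (tt N70838 (iv1 F357920)) (tt N53413 (iv0 F357913)) (tt N70930 (iv2 F218798)) (tt N71471 (iv3 F220086)) (tt N71472 (iv4 F220100)) (tt N71473 D136918) (tt N20026 (iv6 D64360)) (tt N71474 D136919))
theorem Q39462 : ∀ i, i < 39462 → P i := stepQ 39461 Q39461 (allL N39461 (tt N70933 (iv1 F218830)) (tt N70932 F218805) (tt N20028 F100307) (tt N70907 (iv3 F218730)) (tt N50257 (iv4 F139344)) (tt N20027 (iv5 D64361)) (tt N71475 D136920) (tt N60847 (iv7 F177024)))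
theorem Q39463 : ∀ i, i < 39463 → P i := stepQ 39462 Q39462 (allL N39462 (tt N54447 (iv1 F347041)) (tt N71476 D136922) (tt N20029 F100308) (tt N53427 (iv3 F346662)) (tt N55045 (iv4 F331264)) (tt N71477 D136923) (tt N20027 (iv6 D64362)) (tt N54578 (iv7 F346668)))
theorem Q39464 : ∀ i, i < 39464 → P i := stepQ 39463 Q39463 (allL N39463 (tt N60847 (iv1 F177026)) (tt N20028 (iv0 D64363)) (tt N70933 F218833) (tt N71478 D136925) (tt N45180 F114700) (tt N20098 F114701) (tt N71479 D136926) (tt N70932 F218807))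
theorem Q39465 : ∀ i, i < 39465 → P i := stepQ 39464 Q39464 (allL N39464 (tt N20028 (iv1 D64364)) (tt N60847 F177027) (tt N70932 F218806) (tt N69905 (iv3 F331008)) (tt N61035 (iv4 F177713)) (tt N20099 F177028) (tt N69903 (iv6 F364209)) (tt N70933 (iv7 F218831)))
theorem Q39466 : ∀ i, i < 39466 → P i := stepQ 39465 Q39465 (allL N39465 (tt N71480 D136929) (tt N71481 D136930) (tt N71475 (iv2 F220102)) (tt N20032 F100309) (tt N60845 (iv4 F177018)) (tt N54434 (iv5 F354883)) (tt N20028 (iv6 D64365)) (tt N71482 D136932))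
theorem Q39467 : ∀ i, i < 39467 → P i := stepQ 39466 Q39466 (allL N39466 (tt N54578 (iv1 F346666)) (tt N20029 (iv0 D64366)) (tt N54447 (iv2 F362169)) (tt N71483 D136934) (tt N71484 D136935) (tt N71485 D136936) (tt N53405 (iv6 F362177)) (tt N71476 (iv7 F362161)))
theorem Q39468 : ∀ i, i < 39468 → P i := stepQ 39467 Q39467 (allL N39467 (tt N20029 (iv1 D64367)) (tt N54578 (iv0 F346665)) (tt N71476 (iv2 F362160)) (tt N71486 D136939) (tt N71487 D136940) (tt N71488 D136941) (tt N54333 (iv6 F362159)) (tt N54447 (iv7 F362170)))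
theorem Q39469 : ∀ i, i < 39469 → P i := stepQ 39468 Q39468 (allL N39468 (tt N71489 D136943) (tt N71490 D136944) (tt N71477 (iv2 F220104)) (tt N20035 F100310) (tt N54435 (iv4 F354887)) (tt N20029 (iv5 D64368)) (tt N54434 (iv6 F354884)) (tt N71491 D136946))
theorem Q39470 : ∀ i, i < 39470 → P i := stepQ 39469 Q39469 (allL N39469 (tt N71476 (iv1 F220103)) (tt N54447 (iv0 F347040)) (tt N54578 (iv2 F346667)) (tt N20036 F100311) (tt N54377 (iv4 F323248)) (tt N71491 (iv5 F220118)) (tt N54376 (iv6 F323245)) (tt N20029 (iv7 D64369)))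
theorem Q39471 : ∀ i, i < 39471 → P i := stepQ 39470 Q39470 (allL N39470 (tt N71420 (iv1 F220495)) (tt N71424 (iv0 F220043)) (tt N71492 D136948) (tt N20030 (iv3 D64370)) (tt N71493 D136949) (tt N20095 F100312) (tt N71494 D136950) (tt N58900 (iv7 F171414)))
theorem Q39472 : ∀ i, i < 39472 → P i := stepQ 39471 Q39471 (allL N39471 (tt N38875 (iv1 F338557)) (tt N42536 (iv0 F338558)) (tt N70913 (iv2 F218745)) (tt N71494 (iv3 F220120)) (tt N69243 (iv4 F338564)) (tt N71495 D136953) (tt N20030 (iv6 D64371)) (tt N71496 D136954))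
theorem Q39473 : ∀ i, i < 39473 → P i := stepQ 39472 Q39472 (allL N39472 (tt N71438 (iv1 F408500)) (tt N71441 (iv0 F401849)) (tt N71497 D136957) (tt N20031 (iv3 D64372)) (tt N71498 D136958) (tt N20097 F100313) (tt N71499 D136959) (tt N70912 (iv7 F218744)))
theorem Q39474 : ∀ i, i < 39474 → P i := stepQ 39473 Q39473 (allL N39473 (tt N70080 (iv1 F363980)) (tt N70065 (iv0 F340134)) (tt N58901 (iv2 F171415)) (tt N71499 (iv3 F220123)) (tt N71346 (iv4 F219892)) (tt N71134 (iv5 F219510)) (tt N20031 (iv6 D64373)) (tt N70078 (iv7 F342184)))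
theorem Q39475 : ∀ i, i < 39475 → P i := stepQ 39474 Q39474 (allL N39474 (tt N70110 (iv1 F338725)) (tt N20032 (iv0 D64374)) (tt N70052 (iv2 F339486)) (tt N69890 (iv3 F339488)) (tt N71500 D136965) (tt N71501 D136966) (tt N69889 (iv6 F339485)) (tt N70914 (iv7 F347101)))
theorem Q39476 : ∀ i, i < 39476 → P i := stepQ 39475 Q39475 (allL N39475 (tt N20032 (iv1 D64375)) (tt N70110 (iv0 F338724)) (tt N70914 (iv2 F347097)) (tt N71502 D136969) (tt N69215 F339480) (tt N71503 D136971) (tt N38871 (iv6 F339481)) (tt N70052 (iv7 F339487)))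
theorem Q39477 : ∀ i, i < 39477 → P i := stepQ 39476 Q39476 (allL N39476 (tt N71504 D136973) (tt N71505 D136974) (tt N70915 (iv2 F218748)) (tt N54434 (iv3 F354882)) (tt N71506 D136975) (tt N20032 (iv5 D64376)) (tt N20035 F100314) (tt N71507 D136976))
theorem Q39478 : ∀ i, i < 39478 → P i := stepQ 39477 Q39477 (allL N39477 (tt N70914 (iv1 F218747)) (tt N70052 (iv0 F347089)) (tt N70110 (iv2 F338726)) (tt N71482 (iv3 F220114)) (tt N38914 F327366) (tt N71507 (iv5 F220127)) (tt N70941 (iv6 F218842)) (tt N20032 (iv7 D64377)))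
theorem Q39479 : ∀ i, i < 39479 → P i := stepQ 39478 Q39478 (allL N39478 (tt N71508 D136977) (tt N71425 (iv0 F409968)) (tt N71509 D136979) (tt N20033 (iv3 D64379)) (tt N56922 (iv4 F165066)) (tt N71510 D136980) (tt N54171 (iv6 F328172)) (tt N70918 (iv7 F218761)))
theorem Q39480 : ∀ i, i < 39480 → P i := stepQ 39479 Q39479 (allL N39479 (tt N39318 F100316) (tt N71511 D136981) (tt N70917 (iv2 F218757)) (tt N71510 (iv3 F220128)) (tt N71512 D136982) (tt N20033 (iv5 D64381)) (tt N53986 (iv6 F329015)) (tt N70919 (iv7 F218763)))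
theorem Q39481 : ∀ i, i < 39481 → P i := stepQ 39480 Q39480 (allL N39480 (tt N63358 (iv1 F366272)) (tt N53291 (iv0 F365069)) (tt N71513 D136986) (tt N20034 (iv3 D64383)) (tt N71514 D136987) (tt N71515 D136988) (tt N71516 D136989) (tt N70916 (iv7 F218756)))
theorem Q39482 : ∀ i, i < 39482 → P i := stepQ 39481 Q39481 (allL N39481 (tt N29624 (iv1 F111441)) (tt N36034 F111442) (tt N30371 F111375) (tt N57973 (iv3 F168672)) (tt N20034 (iv4 D64384)) (tt N57972 (iv5 F168670)) (tt N71517 D136990) (tt N36032 (iv7 F111440)))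
theorem Q39483 : ∀ i, i < 39483 → P i := stepQ 39482 Q39482 (allL N39482 (tt N71511 (iv1 F220129)) (tt N39318 F172081) (tt N70919 (iv2 F218762)) (tt N71515 (iv3 F220135)) (tt N71518 D136991) (tt N20034 (iv5 D64385)) (tt N71519 D136992) (tt N70917 (iv7 F218758)))
theorem Q39484 : ∀ i, i < 39484 → P i := stepQ 39483 Q39483 (allL N39483 (tt N39852 (iv1 F220142)) (tt N39857 (iv0 F220141)) (tt N54369 (iv2 F327133)) (tt N71516 (iv3 F220136)) (tt N71517 (iv4 F220138)) (tt N43687 (iv5 F327140)) (tt N20034 (iv6 D64386)) (tt N43686 (iv7 F327139)))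
theorem Q39485 : ∀ i, i < 39485 → P i := stepQ 39484 Q39484 (allL N39484 (tt N70923 (iv1 F218779)) (tt N20035 (iv0 D64387)) (tt N70920 F218768) (tt N71520 D136996) (tt N71521 D136997) (tt N61904 F201767) (tt N71522 D136998) (tt N70921 (iv7 F218772)))
theorem Q39486 : ∀ i, i < 39486 → P i := stepQ 39485 Q39485 (allL N39485 (tt N20035 (iv1 D64388)) (tt N70923 F218778) (tt N70921 F218774) (tt N71523 D136999) (tt N71524 D137000) (tt N33733 F328850) (tt N33736 (iv6 F329193)) (tt N70920 F218769))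
theorem Q39487 : ∀ i, i < 39487 → P i := stepQ 39486 Q39486 (allL N39486 (tt N71525 D137002) (tt N71526 D137003) (tt N70922 (iv2 F218775)) (tt N71527 D137004) (tt N20035 (iv4 D64389)) (tt N71528 D137005) (tt N71506 (iv6 F220126)) (tt N71529 D137006))
theorem Q39488 : ∀ i, i < 39488 → P i := stepQ 39487 Q39487 (allL N39487 (tt N70921 (iv1 F218771)) (tt N70920 F218770) (tt N70923 (iv2 F218776)) (tt N71491 (iv3 F220117)) (tt N71529 (iv4 F220143)) (tt N20036 F100319) (tt N71530 D137007) (tt N20035 (iv7 D64390)))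
theorem Q39489 : ∀ i, i < 39489 → P i := stepQ 39488 Q39488 (allL N39488 (tt N20039 (iv1 F100322)) (tt N20037 (iv0 D64396)) (tt N62246 F180436) (tt N71531 D137008) (tt N55878 (iv4 F162026)) (tt N71532 D137009) (tt N58611 (iv6 F169753)) (tt N55877 F162023))
theorem Q39490 : ∀ i, i < 39490 → P i := stepQ 39489 Q39489 (allL N39489 (tt N71533 D137010) (tt N71386 (iv0 F350342)) (tt N63292 (iv2 F357233)) (tt N20037 (iv3 D64398)) (tt N61898 (iv4 F179650)) (tt N71534 D137013) (tt N28971 F327689) (tt N65031 (iv7 F357242)))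
theorem Q39491 : ∀ i, i < 39491 → P i := stepQ 39490 Q39490 (allL N39490 (tt N39338 F111428) (tt N71535 D137014) (tt N62247 (iv2 F180442)) (tt N71534 (iv3 F220144)) (tt N71536 D137015) (tt N20037 (iv5 D64399)) (tt N49137 F328568) (tt N70924 (iv7 F218782)))
theorem Q39492 : ∀ i, i < 39492 → P i := stepQ 39491 Q39491 (allL N39491 (tt N36024 F111275) (tt N40291 F111449) (tt N33095 F100324) (tt N71537 D137017) (tt N20038 (iv4 D64400)) (tt N71538 D137018) (tt N71539 D137019) (tt N33094 F100325))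
theorem Q39493 : ∀ i, i < 39493 → P i := stepQ 39492 Q39492 (allL N39492 (tt N44298 F111557) (tt N40171 (iv0 F101279)) (tt N33096 F100326) (tt N39132 (iv3 F111445)) (tt N71539 (iv4 F220155)) (tt N39693 (iv5 F100581)) (tt N20038 (iv6 D64401)) (tt N39693 (iv7 F100582)))
theorem Q39494 : ∀ i, i < 39494 → P i := stepQ 39493 Q39493 (allL N39493 (tt N71535 (iv1 F220145)) (tt N39338 (iv0 F111277)) (tt N70924 (iv2 F218781)) (tt N63369 F323829) (tt N71540 D137025) (tt N20039 (iv5 D64409)) (tt N71541 D137026) (tt N62247 (iv7 F180443)))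
theorem Q39495 : ∀ i, i < 39495 → P i := stepQ 39494 Q39494 (allL N39494 (tt N62934 (iv1 F328822)) (tt N63099 (iv0 F322835)) (tt N63100 (iv2 F325443)) (tt N63370 F321398) (tt N20040 F100330) (tt N63095 (iv5 F327126)) (tt N20039 (iv6 D64410)) (tt N63094 (iv7 F325441)))
theorem Q39496 : ∀ i, i < 39496 → P i := stepQ 39495 Q39495 (allL N39495 (tt N44264 (iv1 F111511)) (tt N44173 F111488) (tt N44245 (iv2 F111486)) (tt N71542 D137030) (tt N20041 (iv4 D64413)) (tt N71543 D137031) (tt N71544 D137032) (tt N44247 (iv7 F111496)))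
theorem Q39497 : ∀ i, i < 39497 → P i := stepQ 39496 Q39496 (allL N39496 (tt N38583 F100334) (tt N38581 (iv0 F100335)) (tt N44246 (iv2 F111489)) (tt N61903 (iv3 F179663)) (tt N71544 (iv4 F220165)) (tt N37397 F100333) (tt N20041 (iv6 D64414)) (tt N56998 (iv7 F165209)))
theorem Q39498 : ∀ i, i < 39498 → P i := stepQ 39497 Q39497 (allL N39497 (tt N44173 F111427) (tt N44264 F111510) (tt N44247 (iv2 F111494)) (tt N34266 F320532) (tt N20042 (iv4 D64416)) (tt N71545 D137034) (tt N20583 F101987) (tt N44245 (iv7 F111487)))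
theorem Q39499 : ∀ i, i < 39499 → P i := stepQ 39498 Q39498 (allL N39498 (tt N44244 (iv1 F111485)) (tt N20043 (iv0 D64417)) (tt N44241 F172053) (tt N71546 D137035) (tt N59111 (iv4 F172049)) (tt N61893 (iv5 F201768)) (tt N71547 D137036) (tt N44242 F172050))
theorem Q39500 : ∀ i, i < 39500 → P i := stepQ 39499 Q39499 (allL N39499 (tt N20043 (iv1 D64418)) (tt N44244 F111484) (tt N44242 (iv2 F172052)) (tt N71548 D137037) (tt N60209 F175909) (tt N61894 (iv5 F179643)) (tt N56993 F172055) (tt N44241 (iv7 F172054)))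
theorem Q39501 : ∀ i, i < 39501 → P i := stepQ 39500 Q39500 (allL N39500 (tt N71549 D137038) (tt N71550 D137039) (tt N71551 D137040) (tt N20043 (iv3 D64419)) (tt N57603 (iv4 F167213)) (tt N71552 D137041) (tt N20047 F100336) (tt N71553 D137042))
theorem Q39502 : ∀ i, i < 39502 → P i := stepQ 39501 Q39501 (allL N39501 (tt N71554 D137043) (tt N71555 D137044) (tt N44243 (iv2 F111480)) (tt N71552 (iv3 F220170)) (tt N71556 D137045) (tt N20043 (iv5 D64420)) (tt N71557 D137046) (tt N71558 D137047))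
theorem Q39503 : ∀ i, i < 39503 → P i := stepQ 39502 Q39502 (allL N39502 (tt N44242 (iv1 F111479)) (tt N44241 F111483) (tt N44244 (iv2 F111481)) (tt N71553 (iv3 F220172)) (tt N20044 F100337) (tt N71558 (iv5 F220181)) (tt N44227 (iv6 F111152)) (tt N20043 (iv7 D64421)))
theorem Q39504 : ∀ i, i < 39504 → P i := stepQ 39503 Q39503 (allL N39503 (tt N44172 (iv1 F111027)) (tt N44169 (iv0 F111018)) (tt N44252 F111503) (tt N48017 F318316) (tt N57527 (iv4 F167039)) (tt N20045 (iv5 D64423)) (tt N71559 D137052) (tt N37420 F100340))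
theorem Q39505 : ∀ i, i < 39505 → P i := stepQ 39504 Q39504 (allL N39504 (tt N44423 F112077) (tt N71560 D137053) (tt N71561 D137054) (tt N20046 (iv3 D64424)) (tt N44350 (iv4 F111747)) (tt N71562 D137055) (tt N71563 D137056) (tt N44223 (iv7 F111150)))
theorem Q39506 : ∀ i, i < 39506 → P i := stepQ 39505 Q39505 (allL N39505 (tt N44160 (iv1 F110979)) (tt N44159 (iv0 F110973)) (tt N44196 F111087) (tt N71562 (iv3 F220221)) (tt N32205 F100341) (tt N20046 (iv5 D64425)) (tt N71564 D137057) (tt N44197 (iv7 F111090)))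
theorem Q39507 : ∀ i, i < 39507 → P i := stepQ 39506 Q39506 (allL N39506 (tt N44295 (iv1 F168139)) (tt N44297 F168141) (tt N44222 (iv2 F111145)) (tt N71563 (iv3 F220222)) (tt N57519 (iv4 F167000)) (tt N71565 D137058) (tt N20046 (iv6 D64426)) (tt N56986 (iv7 F165169)))
theorem Q39508 : ∀ i, i < 39508 → P i := stepQ 39507 Q39507 (allL N39507 (tt N22634 (iv1 F100342)) (tt N20047 (iv0 D64427)) (tt N39511 (iv2 F110959)) (tt N48024 F320574) (tt N57531 (iv4 F167049)) (tt N44157 F110967) (tt N61773 (iv6 F336207)) (tt N39510 (iv7 F110961)))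
theorem Q39509 : ∀ i, i < 39509 → P i := stepQ 39508 Q39508 (allL N39508 (tt N20047 (iv1 D64428)) (tt N22634 F100346) (tt N39510 F110960) (tt N71566 D137061) (tt N57534 (iv4 F167061)) (tt N44156 (iv5 F110953)) (tt N71567 D137062) (tt N39511 F110958))
theorem Q39510 : ∀ i, i < 39510 → P i := stepQ 39509 Q39509 (allL N39509 (tt N39511 (iv1 F100349)) (tt N39510 F100348) (tt N20047 (iv2 D64429)) (tt N44237 (iv3 F111470)) (tt N39416 F100343) (tt N22594 F100344) (tt N71551 (iv6 F220169)) (tt N22634 F100345))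
theorem Q39511 : ∀ i, i < 39511 → P i := stepQ 39510 Q39510 (allL N39510 (tt N39509 (iv1 F100348)) (tt N20048 (iv0 D64430)) (tt N39508 (iv2 F110960)) (tt N71568 D137063) (tt N57571 (iv4 F167131)) (tt N22606 F100347) (tt N71569 D137064) (tt N39507 F110961))
theorem Q39512 : ∀ i, i < 39512 → P i := stepQ 39511 Q39511 (allL N39511 (tt N20048 (iv1 D64431)) (tt N39509 F100349) (tt N39507 F110959) (tt N71570 D137065) (tt N57572 (iv4 F167167)) (tt N22607 F100350) (tt N33126 F336208) (tt N39508 (iv7 F110958)))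
theorem Q39513 : ∀ i, i < 39513 → P i := stepQ 39512 Q39512 (allL N39512 (tt N57529 (iv1 F167047)) (tt N57527 (iv0 F167040)) (tt N30617 F100351) (tt N22624 F100352) (tt N20048 (iv4 D64432)) (tt N22624 F100353) (tt N71571 D137067) (tt N30619 F100354))
theorem Q39514 : ∀ i, i < 39514 → P i := stepQ 39513 Q39513 (allL N39513 (tt N71572 D137068) (tt N71573 D137069) (tt N44240 (iv2 F111478)) (tt N22628 F100355) (tt N71571 (iv4 F220235)) (tt N71557 (iv5 F220180)) (tt N20048 (iv6 D64433)) (tt N71574 D137070))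
theorem Q39515 : ∀ i, i < 39515 → P i := stepQ 39514 Q39514 (allL N39514 (tt N41280 F103779) (tt N71575 D137071) (tt N71576 D137072) (tt N20050 (iv3 D64434)) (tt N39133 F100356) (tt N52698 (iv5 F331279)) (tt N71577 D137073) (tt N39389 F100357))
theorem Q39516 : ∀ i, i < 39516 → P i := stepQ 39515 Q39515 (allL N39515 (tt N33537 (iv1 F100368)) (tt N33540 (iv0 F100360)) (tt N20055 F100358) (tt N71577 (iv3 F220247)) (tt N20051 F100359) (tt N71578 D137074) (tt N20050 (iv6 D64435)) (tt N60548 (iv7 F176563)))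
theorem Q39517 : ∀ i, i < 39517 → P i := stepQ 39516 Q39516 (allL N39516 (tt N20052 (iv1 D64437)) (tt N60249 F175995) (tt N58527 F169545) (tt N39395 (iv3 F169548)) (tt N41110 (iv4 F175997)) (tt N60420 (iv5 F176399)) (tt N37253 (iv6 F165238)) (tt N60413 (iv7 F176374)))
theorem Q39518 : ∀ i, i < 39518 → P i := stepQ 39517 Q39517 (allL N39517 (tt N70889 (iv1 F218669)) (tt N20053 (iv0 D64438)) (tt N70888 F218671) (tt N59100 F172018) (tt N71579 D137075) (tt N71580 D137076) (tt N54532 (iv6 F365459)) (tt N70887 F218666))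
theorem Q39519 : ∀ i, i < 39519 → P i := stepQ 39518 Q39518 (allL N39518 (tt N20053 (iv1 D64439)) (tt N70889 F218674) (tt N70887 (iv2 F218673)) (tt N71581 D137078) (tt N71582 D137079) (tt N71583 D137080) (tt N71584 D137081) (tt N70888 F218672))
theorem Q39520 : ∀ i, i < 39520 → P i := stepQ 39519 Q39519 (allL N39519 (tt N70888 (iv1 F218670)) (tt N70887 F218665) (tt N20053 (iv2 D64440)) (tt N71576 (iv3 F220238)) (tt N20068 F100361) (tt N71585 D137082) (tt N71586 D137083) (tt N70889 (iv7 F218668)))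
theorem Q39521 : ∀ i, i < 39521 → P i := stepQ 39520 Q39520 (allL N39520 (tt N71587 D137084) (tt N71588 D137085) (tt N71585 (iv2 F220250)) (tt N20054 F100362) (tt N71589 D137086) (tt N20053 (iv5 D64441)) (tt N71590 D137087) (tt N67142 (iv7 F206773)))
theorem Q39522 : ∀ i, i < 39522 → P i := stepQ 39521 Q39521 (allL N39521 (tt N71591 D137088) (tt N71592 D137089) (tt N71586 (iv2 F220251)) (tt N20055 F100363) (tt N20070 F100364) (tt N71593 D137090) (tt N20053 (iv6 D64442)) (tt N71594 D137091))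
theorem Q39523 : ∀ i, i < 39523 → P i := stepQ 39522 Q39522 (allL N39522 (tt N71595 D137092) (tt N71596 D137093) (tt N52686 (iv2 F331313)) (tt N71590 (iv3 F220253)) (tt N52682 (iv4 F331311)) (tt N71597 D137094) (tt N20054 (iv6 D64443)) (tt N71598 D137095))
theorem Q39524 : ∀ i, i < 39524 → P i := stepQ 39523 Q39523 (allL N39523 (tt N60548 F176565) (tt N20055 (iv0 D64444)) (tt N33537 (iv2 F100365)) (tt N71599 D137096) (tt N30383 F100366) (tt N71600 D137097) (tt N68680 (iv6 F211367)) (tt N33540 F100367))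
theorem Q39525 : ∀ i, i < 39525 → P i := stepQ 39524 Q39524 (allL N39524 (tt N71601 D137098) (tt N71602 D137099) (tt N71578 (iv2 F220249)) (tt N71593 (iv3 F220254)) (tt N71603 D137100) (tt N20055 (iv5 D64445)) (tt N71597 (iv6 F220257)) (tt N71604 D137101))
theorem Q39526 : ∀ i, i < 39526 → P i := stepQ 39525 Q39525 (allL N39525 (tt N33540 (iv1 F100370)) (tt N33537 F100371) (tt N60548 (iv2 F176562)) (tt N71594 (iv3 F220255)) (tt N20058 F100369) (tt N71604 (iv5 F220262)) (tt N41180 F111246) (tt N20055 (iv7 D64446)))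
theorem Q39527 : ∀ i, i < 39527 → P i := stepQ 39526 Q39526 (allL N39526 (tt N32308 (iv1 F100379)) (tt N20057 (iv0 D64449)) (tt N59750 F173784) (tt N56956 (iv3 F173806)) (tt N58834 (iv4 F174040)) (tt N60329 (iv5 F176220)) (tt N55681 (iv6 F161228)) (tt N56977 (iv7 F165152)))
theorem Q39528 : ∀ i, i < 39528 → P i := stepQ 39527 Q39527 (allL N39527 (tt N20057 (iv1 D64450)) (tt N32308 F100374) (tt N56977 (iv2 F165154)) (tt N30835 (iv3 F165156)) (tt N58835 (iv4 F170872)) (tt N57065 (iv5 F165323)) (tt N32049 F165155) (tt N59750 (iv7 F173783)))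
theorem Q39529 : ∀ i, i < 39529 → P i := stepQ 39528 Q39528 (allL N39528 (tt N56977 F165157) (tt N59750 F173785) (tt N32308 F100375) (tt N20082 F100376) (tt N65572 (iv4 F202052)) (tt N20058 F100377) (tt N29490 F100378) (tt N20057 (iv7 D64451)))
theorem Q39530 : ∀ i, i < 39530 → P i := stepQ 39529 Q39529 (allL N39529 (tt N39375 (iv1 F100380)) (tt N20059 (iv0 D64452)) (tt N39374 F139283) (tt N71605 D137102) (tt N71606 D137103) (tt N55705 F161476) (tt N71607 D137104) (tt N39373 F139281))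
theorem Q39531 : ∀ i, i < 39531 → P i := stepQ 39530 Q39530 (allL N39530 (tt N20059 (iv1 D64453)) (tt N39375 F100384) (tt N39373 (iv2 F139280)) (tt N67763 (iv3 F354197)) (tt N71608 D137106) (tt N50228 F139279) (tt N71609 D137107) (tt N39374 (iv7 F139282)))
theorem Q39532 : ∀ i, i < 39532 → P i := stepQ 39531 Q39531 (allL N39531 (tt N39374 (iv1 F100385)) (tt N39373 F100383) (tt N20059 (iv2 D64454)) (tt N70927 (iv3 F218787)) (tt N39138 F100381) (tt N60783 (iv5 F176879)) (tt N28814 F325770) (tt N39375 F100382))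
theorem Q39533 : ∀ i, i < 39533 → P i := stepQ 39532 Q39532 (allL N39532 (tt N71610 D137109) (tt N71611 D137110) (tt N28814 (iv2 F324654)) (tt N20060 F100386) (tt N39140 F100387) (tt N28308 (iv5 F324656)) (tt N20059 (iv6 D64455)) (tt N28827 F323250))
theorem Q39534 : ∀ i, i < 39534 → P i := stepQ 39533 Q39533 (allL N39533 (tt N22470 (iv1 F324781)) (tt N22457 (iv0 F324782)) (tt N22467 F323462) (tt N28308 (iv3 F324655)) (tt N33850 (iv4 F324783)) (tt N20060 (iv5 D64457)) (tt N65315 (iv6 F324784)) (tt N22468 F323463))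
theorem Q39535 : ∀ i, i < 39535 → P i := stepQ 39534 Q39534 (allL N39534 (tt N21064 F100390) (tt N62695 (iv0 F183124)) (tt N62696 F183127) (tt N28827 (iv3 F321531)) (tt N20064 F100388) (tt N22468 (iv5 F321767)) (tt N39381 F100389) (tt N20060 (iv7 D64458)))
theorem Q39536 : ∀ i, i < 39536 → P i := stepQ 39535 Q39535 (allL N39535 (tt N36084 F100393) (tt N36001 (iv0 F100394)) (tt N36081 F100392) (tt N71612 D137117) (tt N20061 (iv4 D64459)) (tt N71613 D137118) (tt N71614 D137119) (tt N36082 (iv7 F100395)))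
theorem Q39537 : ∀ i, i < 39537 → P i := stepQ 39536 Q39536 (allL N39536 (tt N32240 (iv1 F100402)) (tt N31138 (iv0 F163874)) (tt N32241 F100398) (tt N30794 F100399) (tt N66033 (iv4 F203140)) (tt N20061 (iv5 D64460)) (tt N30941 (iv6 F100401)) (tt N30789 F100400))
theorem Q39538 : ∀ i, i < 39538 → P i := stepQ 39537 Q39537 (allL N39537 (tt N68055 (iv1 F209084)) (tt N68054 F209082) (tt N60041 (iv2 F175355)) (tt N38483 F100404) (tt N71614 (iv4 F220292)) (tt N38462 F100406) (tt N20061 (iv6 D64461)) (tt N38163 F100405))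
theorem Q39539 : ∀ i, i < 39539 → P i := stepQ 39538 Q39538 (allL N39538 (tt N36001 (iv1 F100412)) (tt N36084 (iv0 F100410)) (tt N36082 F100407) (tt N47313 (iv3 F331943)) (tt N20062 (iv4 D64462)) (tt N47312 (iv5 F331944)) (tt N30452 F100408) (tt N36081 F100409))
theorem Q39540 : ∀ i, i < 39540 → P i := stepQ 39539 Q39539 (allL N39539 (tt N58072 (iv1 F168834)) (tt N20063 (iv0 D64463)) (tt N47343 (iv2 F317716)) (tt N31634 (iv3 F170917)) (tt N34215 (iv4 F317718)) (tt N71615 D137122) (tt N59673 (iv6 F173464)) (tt N40416 F170916))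
theorem Q39541 : ∀ i, i < 39541 → P i := stepQ 39540 Q39540 (allL N39540 (tt N20063 (iv1 D64464)) (tt N58072 F168833) (tt N40416 F170913) (tt N30261 F170914) (tt N47344 (iv4 F317719)) (tt N71616 D137123) (tt N58060 F170915) (tt N47343 (iv7 F317717)))
theorem Q39542 : ∀ i, i < 39542 → P i := stepQ 39541 Q39541 (allL N39541 (tt N40416 F173770) (tt N47343 (iv0 F317714)) (tt N58072 (iv2 F168829)) (tt N31800 F100413) (tt N58882 (iv4 F171223)) (tt N20064 F100414) (tt N31873 F100415) (tt N20063 (iv7 D64465)))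
theorem Q39543 : ∀ i, i < 39543 → P i := stepQ 39542 Q39542 (allL N39542 (tt N71422 (iv1 F401348)) (tt N71617 D137125) (tt N71618 D137126) (tt N20066 (iv3 D64467)) (tt N71619 D137127) (tt N71620 D137128) (tt N54217 (iv6 F360829)) (tt N70904 (iv7 F218714)))
theorem Q39544 : ∀ i, i < 39544 → P i := stepQ 39543 Q39543 (allL N39543 (tt N71621 D137130) (tt N71622 D137131) (tt N62651 (iv2 F182936)) (tt N71623 D137132) (tt N20066 (iv4 D64468)) (tt N71624 D137133) (tt N54536 (iv6 F365508)) (tt N70905 (iv7 F218717)))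
theorem Q39545 : ∀ i, i < 39545 → P i := stepQ 39544 Q39544 (allL N39544 (tt N39673 (iv1 F220917)) (tt N39156 (iv0 F220918)) (tt N39675 (iv2 F220889)) (tt N71620 (iv3 F220319)) (tt N71625 D137137) (tt N20066 (iv5 D64469)) (tt N71626 D137138) (tt N39674 F220888))
theorem Q39546 : ∀ i, i < 39546 → P i := stepQ 39545 Q39545 (allL N39545 (tt N58551 F182582) (tt N58553 (iv0 F180638)) (tt N40445 (iv2 F103431)) (tt N20067 (iv3 D64472)) (tt N40444 F103430) (tt N40922 F180639) (tt N71627 D137143) (tt N70906 (iv7 F218722)))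
theorem Q39547 : ∀ i, i < 39547 → P i := stepQ 39546 Q39546 (allL N39546 (tt N71622 (iv1 F220323)) (tt N71621 F220322) (tt N70905 (iv2 F218716)) (tt N20814 (iv3 F100418)) (tt N20067 (iv4 D64473)) (tt N71628 D137144) (tt N71629 D137145) (tt N62651 (iv7 F182932)))
theorem Q39548 : ∀ i, i < 39548 → P i := stepQ 39547 Q39547 (allL N39547 (tt N39156 F220919) (tt N39673 F220920) (tt N39674 F220887) (tt N40922 (iv3 F180642)) (tt N71630 D137146) (tt N20067 (iv5 D64474)) (tt N71631 D137147) (tt N39675 (iv7 F220890)))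
theorem Q39549 : ∀ i, i < 39549 → P i := stepQ 39548 Q39548 (allL N39548 (tt N53386 (iv1 F352559)) (tt N54399 (iv0 F352560)) (tt N54398 (iv2 F365270)) (tt N71627 (iv3 F220328)) (tt N71629 (iv4 F220331)) (tt N71632 D137150) (tt N20067 (iv6 D64475)) (tt N54397 (iv7 F368865)))
theorem Q39550 : ∀ i, i < 39550 → P i := stepQ 39549 Q39549 (allL N39549 (tt N70909 (iv1 F218737)) (tt N70908 F218736) (tt N20069 F100419) (tt N60847 F177029) (tt N71633 D137152) (tt N20068 (iv5 D64476)) (tt N71634 D137153) (tt N70907 (iv7 F218731)))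
theorem Q39551 : ∀ i, i < 39551 → P i := stepQ 39550 Q39550 (allL N39550 (tt N71635 D137154) (tt N54522 (iv0 F352856)) (tt N20070 F100420) (tt N54351 (iv3 F325768)) (tt N71586 (iv4 F220252)) (tt N71636 D137156) (tt N20068 (iv6 D64477)) (tt N54581 (iv7 F346634)))
theorem Q39552 : ∀ i, i < 39552 → P i := stepQ 39551 Q39551 (allL N39551 (tt N70907 (iv1 F218733)) (tt N20069 (iv0 D64478)) (tt N70909 (iv2 F225338)) (tt N71637 D137159) (tt N60656 (iv4 F383818)) (tt N20124 (iv5 F221252)) (tt N71638 D137162) (tt N70908 (iv7 F225344)))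
theorem Q39553 : ∀ i, i < 39553 → P i := stepQ 39552 Q39552 (allL N39552 (tt N20069 (iv1 D64479)) (tt N70907 F218732) (tt N70908 (iv2 F225342)) (tt N71639 D137164) (tt N60657 (iv4 F395994)) (tt N20125 (iv5 F221259)) (tt N28773 (iv6 F329870)) (tt N70909 (iv7 F225341)))
theorem Q39554 : ∀ i, i < 39554 → P i := stepQ 39553 Q39553 (allL N39553 (tt N71640 D137168) (tt N71641 D137169) (tt N71633 (iv2 F220332)) (tt N66483 (iv3 F204266)) (tt N20069 (iv4 D64480)) (tt N71642 D137170) (tt N71643 D137171) (tt N70910 (iv7 F218738)))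
theorem Q39555 : ∀ i, i < 39555 → P i := stepQ 39554 Q39554 (allL N39554 (tt N48646 F346639) (tt N60651 (iv0 F352461)) (tt N71634 (iv2 F220333)) (tt N20071 F100421) (tt N71643 (iv4 F220342)) (tt N71644 D137174) (tt N20069 (iv6 D64481)) (tt N71645 D137175))
theorem Q39556 : ∀ i, i < 39556 → P i := stepQ 39555 Q39555 (allL N39555 (tt N54581 (iv1 F346632)) (tt N20070 (iv0 D64482)) (tt N71635 (iv2 F352858)) (tt N71646 D137177) (tt N71647 D137178) (tt N71648 D137179) (tt N54404 (iv6 F346654)) (tt N54522 (iv7 F352813)))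
theorem Q39557 : ∀ i, i < 39557 → P i := stepQ 39556 Q39556 (allL N39556 (tt N20070 (iv1 D64483)) (tt N54581 (iv0 F346631)) (tt N54522 (iv2 F352812)) (tt N71649 D137182) (tt N71650 D137183) (tt N71651 D137184) (tt N53412 (iv6 F352811)) (tt N71635 (iv7 F352859)))
theorem Q39558 : ∀ i, i < 39558 → P i := stepQ 39557 Q39557 (allL N39557 (tt N71652 D137186) (tt N28627 F346637) (tt N71636 (iv2 F220335)) (tt N20074 F100422) (tt N71653 D137188) (tt N20070 (iv5 D64484)) (tt N71644 (iv6 F220344)) (tt N71654 D137189))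
theorem Q39559 : ∀ i, i < 39559 → P i := stepQ 39558 Q39558 (allL N39558 (tt N54522 (iv1 F352857)) (tt N71635 F220337) (tt N54581 (iv2 F346633)) (tt N20075 F100423) (tt N71594 (iv4 F220256)) (tt N71654 (iv5 F220349)) (tt N53426 (iv6 F346659)) (tt N20070 (iv7 D64485)))
theorem Q39560 : ∀ i, i < 39560 → P i := stepQ 39559 Q39559 (allL N39559 (tt N70941 (iv1 F218845)) (tt N20071 (iv0 D64486)) (tt N70938 (iv2 F350295)) (tt N55723 (iv3 F350285)) (tt N71655 D137192) (tt N71656 D137193) (tt N71657 D137194) (tt N70939 (iv7 F350300)))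
theorem Q39561 : ∀ i, i < 39561 → P i := stepQ 39560 Q39560 (allL N39560 (tt N20071 (iv1 D64487)) (tt N70941 F218844) (tt N70939 (iv2 F350298)) (tt N71658 D137196) (tt N71659 D137197) (tt N71660 D137198) (tt N70062 (iv6 F394433)) (tt N70938 (iv7 F350297)))
theorem Q39562 : ∀ i, i < 39562 → P i := stepQ 39561 Q39561 (allL N39561 (tt N71661 D137200) (tt N71662 D137201) (tt N70940 (iv2 F218839)) (tt N71644 (iv3 F220343)) (tt N71663 D137202) (tt N20071 (iv5 D64488)) (tt N20074 F100424) (tt N71664 D137203))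
theorem Q39563 : ∀ i, i < 39563 → P i := stepQ 39562 Q39562 (allL N39562 (tt N70939 (iv1 F218838)) (tt N70938 F218843) (tt N70941 (iv2 F218841)) (tt N71645 (iv3 F220345)) (tt N66257 (iv4 F338720)) (tt N71664 (iv5 F220353)) (tt N70110 (iv6 F338727)) (tt N20071 (iv7 D64489)))
theorem Q39564 : ∀ i, i < 39564 → P i := stepQ 39563 Q39563 (allL N39563 (tt N71665 D137204) (tt N71442 (iv0 F385245)) (tt N71666 D137206) (tt N20072 (iv3 D64490)) (tt N62287 (iv4 F180574)) (tt N71667 D137207) (tt N71668 D137208) (tt N64555 (iv7 F328880)))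
theorem Q39565 : ∀ i, i < 39565 → P i := stepQ 39564 Q39564 (allL N39564 (tt N36074 (iv1 F100428)) (tt N30882 F100430) (tt N30391 F100425) (tt N36069 (iv3 F100427)) (tt N20072 (iv4 D64491)) (tt N71669 D137209) (tt N71670 D137210) (tt N36073 F100426))
theorem Q39566 : ∀ i, i < 39566 → P i := stepQ 39565 Q39565 (allL N39565 (tt N71671 D137211) (tt N71672 D137212) (tt N70943 (iv2 F218848)) (tt N71667 (iv3 F220354)) (tt N71673 D137213) (tt N20072 (iv5 D64492)) (tt N71674 D137214) (tt N70944 (iv7 F218859)))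
theorem Q39567 : ∀ i, i < 39567 → P i := stepQ 39566 Q39566 (allL N39566 (tt N33721 F327690) (tt N33725 F327691) (tt N46102 (iv2 F328181)) (tt N71668 (iv3 F220355)) (tt N71670 (iv4 F220365)) (tt N21206 (iv5 F328188)) (tt N20072 (iv6 D64493)) (tt N41312 (iv7 F328191)))
theorem Q39568 : ∀ i, i < 39568 → P i := stepQ 39567 Q39567 (allL N39567 (tt N71421 (iv1 F453661)) (tt N71675 D137216) (tt N71676 D137217) (tt N20073 (iv3 D64494)) (tt N41509 (iv4 F104330)) (tt N71677 D137218) (tt N68867 (iv6 F211765)) (tt N70942 (iv7 F218847)))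
theorem Q39569 : ∀ i, i < 39569 → P i := stepQ 39568 Q39568 (allL N39568 (tt N71672 (iv1 F220373)) (tt N71671 F220371) (tt N70944 (iv2 F218858)) (tt N71677 (iv3 F220374)) (tt N71678 D137219) (tt N20073 (iv5 D64495)) (tt N71679 D137220) (tt N70943 (iv7 F218849)))
theorem Q39570 : ∀ i, i < 39570 → P i := stepQ 39569 Q39569 (allL N39569 (tt N70948 (iv1 F218867)) (tt N20074 (iv0 D64496)) (tt N70945 (iv2 F219005)) (tt N71680 D137221) (tt N71681 D137222) (tt N71191 F219609) (tt N71682 D137223) (tt N70946 F219004))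
theorem Q39571 : ∀ i, i < 39571 → P i := stepQ 39570 Q39570 (allL N39570 (tt N20074 (iv1 D64497)) (tt N70948 F218866) (tt N70946 F219001) (tt N71683 D137224) (tt N71684 D137225) (tt N70971 (iv5 F219000)) (tt N71685 D137226) (tt N70945 (iv7 F219003)))
theorem Q39572 : ∀ i, i < 39572 → P i := stepQ 39571 Q39571 (allL N39571 (tt N71686 D137227) (tt N71687 D137228) (tt N70947 (iv2 F218862)) (tt N71688 D137229) (tt N20074 (iv4 D64498)) (tt N71689 D137230) (tt N71663 (iv6 F220352)) (tt N71690 D137231))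
theorem Q39573 : ∀ i, i < 39573 → P i := stepQ 39572 Q39572 (allL N39572 (tt N70946 (iv1 F218860)) (tt N70945 F218865) (tt N70948 (iv2 F218863)) (tt N71654 (iv3 F220348)) (tt N71690 (iv4 F220376)) (tt N20075 F100432) (tt N71691 D137232) (tt N20074 (iv7 D64499)))
theorem Q39574 : ∀ i, i < 39574 → P i := stepQ 39573 Q39573 (allL N39573 (tt N20078 (iv1 F100433)) (tt N20076 (iv0 D64500)) (tt N58611 (iv2 F169752)) (tt N71692 D137233) (tt N57235 (iv4 F165859)) (tt N71693 D137234) (tt N62246 F180439) (tt N58074 F168842))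
theorem Q39575 : ∀ i, i < 39575 → P i := stepQ 39574 Q39574 (allL N39574 (tt N63362 (iv1 F353380)) (tt N62329 (iv0 F320750)) (tt N71694 D137237) (tt N20076 (iv3 D64501)) (tt N20507 F100434) (tt N71695 D137238) (tt N71696 D137239) (tt N58612 (iv7 F169756)))
theorem Q39576 : ∀ i, i < 39576 → P i := stepQ 39575 Q39575 (allL N39575 (tt N71697 D137240) (tt N71698 D137241) (tt N70950 (iv2 F218869)) (tt N71695 (iv3 F220378)) (tt N71699 D137242) (tt N20076 (iv5 D64502)) (tt N71700 D137243) (tt N58613 (iv7 F169758)))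
theorem Q39577 : ∀ i, i < 39577 → P i := stepQ 39576 Q39576 (allL N39576 (tt N62890 F328426) (tt N62894 F328427) (tt N62923 F328428) (tt N71696 (iv3 F220379)) (tt N20077 F100435) (tt N33674 (iv5 F328819)) (tt N20076 (iv6 D64503)) (tt N38240 F100436))
theorem Q39578 : ∀ i, i < 39578 → P i := stepQ 39577 Q39577 (allL N39577 (tt N71383 (iv1 F360370)) (tt N71701 D137245) (tt N40529 (iv2 F338267)) (tt N20078 (iv3 D64504)) (tt N61947 (iv4 F179726)) (tt N31448 F338262) (tt N68865 (iv6 F211757)) (tt N70949 (iv7 F218868)))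
theorem Q39579 : ∀ i, i < 39579 → P i := stepQ 39578 Q39578 (allL N39578 (tt N71698 (iv1 F220385)) (tt N71697 F220383) (tt N58613 (iv2 F169757)) (tt N31448 (iv3 F338257)) (tt N31527 (iv4 F338258)) (tt N20078 (iv5 D64505)) (tt N31443 F338256) (tt N70950 (iv7 F218870)))
theorem Q39580 : ∀ i, i < 39580 → P i := stepQ 39579 Q39579 (allL N39579 (tt N59710 (iv1 F173625)) (tt N31085 (iv0 F166132)) (tt N59698 (iv2 F173567)) (tt N65059 (iv3 F326662)) (tt N20079 (iv4 D64507)) (tt N71702 D137251) (tt N58742 (iv6 F170560)) (tt N59700 (iv7 F173578)))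
theorem Q39581 : ∀ i, i < 39581 → P i := stepQ 39580 Q39580 (allL N39580 (tt N31085 F100439) (tt N59710 F173624) (tt N59700 (iv2 F173576)) (tt N55430 (iv3 F358393)) (tt N20080 (iv4 D64510)) (tt N71703 D137253) (tt N59796 (iv6 F174049)) (tt N59698 (iv7 F173568)))
theorem Q39582 : ∀ i, i < 39582 → P i := stepQ 39581 Q39581 (allL N39581 (tt N59697 (iv1 F173564)) (tt N20081 (iv0 D64511)) (tt N59694 (iv2 F173562)) (tt N47642 F354531) (tt N71704 D137255) (tt N47640 (iv5 F354532)) (tt N71705 D137257) (tt N59695 F173563))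
theorem Q39583 : ∀ i, i < 39583 → P i := stepQ 39582 Q39582 (allL N39582 (tt N20081 (iv1 D64512)) (tt N59697 F173556) (tt N59695 F173561) (tt N71706 D137258) (tt N41513 F173557) (tt N71707 D137259) (tt N59793 (iv6 F174039)) (tt N59694 (iv7 F173558)))
theorem Q39584 : ∀ i, i < 39584 → P i := stepQ 39583 Q39583 (allL N39583 (tt N71708 D137260) (tt N71709 D137261) (tt N71710 D137262) (tt N20081 (iv3 D64513)) (tt N65570 (iv4 F202050)) (tt N71711 D137263) (tt N20085 F100440) (tt N71712 D137264))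
theorem Q39585 : ∀ i, i < 39585 → P i := stepQ 39584 Q39584 (allL N39584 (tt N71713 D137265) (tt N71031 (iv0 F219317)) (tt N59696 (iv2 F173552)) (tt N71711 (iv3 F220404)) (tt N71714 D137266) (tt N20081 (iv5 D64514)) (tt N71715 D137267) (tt N71716 D137268))
theorem Q39586 : ∀ i, i < 39586 → P i := stepQ 39585 Q39585 (allL N39585 (tt N59695 (iv1 F173551)) (tt N59694 F173550) (tt N59697 (iv2 F173553)) (tt N71712 (iv3 F220405)) (tt N20082 F100441) (tt N71716 (iv5 F220409)) (tt N59706 (iv6 F173607)) (tt N20081 (iv7 D64515)))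
theorem Q39587 : ∀ i, i < 39587 → P i := stepQ 39586 Q39586 (allL N39586 (tt N59760 F173879) (tt N71717 D137269) (tt N71718 D137270) (tt N20083 (iv3 D64516)) (tt N40303 (iv4 F101531)) (tt N71719 D137271) (tt N71720 D137272) (tt N59691 (iv7 F173533)))
theorem Q39588 : ∀ i, i < 39588 → P i := stepQ 39587 Q39587 (allL N39587 (tt N22587 F100443) (tt N31075 F100444) (tt N32437 F100442) (tt N71719 (iv3 F220413)) (tt N55618 (iv4 F161098)) (tt N20083 (iv5 D64517)) (tt N71721 D137273) (tt N44154 (iv7 F110950)))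
theorem Q39589 : ∀ i, i < 39589 → P i := stepQ 39588 Q39588 (allL N39588 (tt N31097 F100448) (tt N31037 (iv0 F100447)) (tt N32438 F100445) (tt N71720 (iv3 F220414)) (tt N31666 F100446) (tt N71722 D137274) (tt N20083 (iv6 D64518)) (tt N59784 (iv7 F174022)))
theorem Q39590 : ∀ i, i < 39590 → P i := stepQ 39589 Q39589 (allL N39589 (tt N71723 D137275) (tt N71724 D137276) (tt N71725 D137277) (tt N20084 (iv3 D64519)) (tt N29520 F100449) (tt N71726 D137278) (tt N71727 D137279) (tt N32436 F100450))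
theorem Q39591 : ∀ i, i < 39591 → P i := stepQ 39590 Q39590 (allL N39590 (tt N31075 F100453) (tt N22587 F100454) (tt N44154 F110948) (tt N71726 (iv3 F220423)) (tt N31669 F100452) (tt N20084 (iv5 D64520)) (tt N71728 D137280) (tt N32437 F100451))
theorem Q39592 : ∀ i, i < 39592 → P i := stepQ 39591 Q39591 (allL N39591 (tt N59689 F173528) (tt N59690 (iv0 F173531)) (tt N59692 (iv2 F173535)) (tt N71727 (iv3 F220425)) (tt N29518 F100455) (tt N71729 D137281) (tt N20084 (iv6 D64521)) (tt N59736 (iv7 F173715)))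
theorem Q39593 : ∀ i, i < 39593 → P i := stepQ 39592 Q39592 (allL N39592 (tt N52571 (iv1 F318863)) (tt N20085 (iv0 D64522)) (tt N59703 (iv2 F173846)) (tt N71730 D137282) (tt N71731 D137283) (tt N71732 D137284) (tt N71733 D137285) (tt N59702 (iv7 F173848)))
theorem Q39594 : ∀ i, i < 39594 → P i := stepQ 39593 Q39593 (allL N39593 (tt N20085 (iv1 D64523)) (tt N52571 (iv0 F318862)) (tt N59702 F173847) (tt N29067 F325199) (tt N71734 D137286) (tt N71735 D137287) (tt N29066 (iv6 F326126)) (tt N59703 F173845))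
theorem Q39595 : ∀ i, i < 39595 → P i := stepQ 39594 Q39594 (allL N39594 (tt N59703 (iv1 F173589)) (tt N59702 F173584) (tt N20085 (iv2 D64524)) (tt N36328 F100456) (tt N65568 (iv4 F202047)) (tt N36327 (iv5 F100457)) (tt N71710 (iv6 F220403)) (tt N52571 (iv7 F318865)))
theorem Q39596 : ∀ i, i < 39596 → P i := stepQ 39595 Q39595 (allL N39595 (tt N52570 (iv1 F318861)) (tt N52569 (iv0 F318860)) (tt N36327 F100458) (tt N20086 F100459) (tt N61114 (iv4 F321241)) (tt N20085 (iv5 D64525)) (tt N71736 D137292) (tt N52568 (iv7 F316662)))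
theorem Q39597 : ∀ i, i < 39597 → P i := stepQ 39596 Q39596 (allL N39596 (tt N27487 F314294) (tt N20086 (iv0 D64526)) (tt N44143 (iv2 F110923)) (tt N58243 (iv3 F169050)) (tt N32329 F100461) (tt N22588 F100460) (tt N71737 D137293) (tt N44146 (iv7 F110932)))
theorem Q39598 : ∀ i, i < 39598 → P i := stepQ 39597 Q39597 (allL N39597 (tt N52558 (iv1 F357987)) (tt N52557 (iv0 F357977)) (tt N52560 (iv2 F316664)) (tt N71736 (iv3 F220435)) (tt N58878 (iv4 F171218)) (tt N71715 (iv5 F220408)) (tt N20086 (iv6 D64527)) (tt N52554 (iv7 F357974)))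
theorem Q39599 : ∀ i, i < 39599 → P i := stepQ 39598 Q39598 (allL N39598 (tt N20092 (iv1 F100468)) (tt N20091 F100469) (tt N20094 F100464) (tt N56592 (iv3 F164372)) (tt N36139 F100465) (tt N38461 F100466) (tt N56351 (iv6 F163535)) (tt N20087 (iv7 D64530)))
theorem Q39600 : ∀ i, i < 39600 → P i := stepQ 39599 Q39599 (allL N39599 (tt N36142 (iv1 F100471)) (tt N20088 (iv0 D64531)) (tt N36141 F161458) (tt N71738 D137297) (tt N71739 D137298) (tt N32455 F100470) (tt N71740 D137299) (tt N36140 F161456))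
theorem Q39601 : ∀ i, i < 39601 → P i := stepQ 39600 Q39600 (allL N39600 (tt N20088 (iv1 D64532)) (tt N36142 F100476) (tt N36140 (iv2 F161457)) (tt N65340 (iv3 F352299)) (tt N60927 (iv4 F177268)) (tt N71339 (iv5 F219862)) (tt N65337 (iv6 F352327)) (tt N36141 (iv7 F161459)))
theorem Q39602 : ∀ i, i < 39602 → P i := stepQ 39601 Q39601 (allL N39601 (tt N36141 (iv1 F100477)) (tt N36140 F100475) (tt N20088 (iv2 D64533)) (tt N36132 F100472) (tt N20100 F100473) (tt N60827 (iv5 F176993)) (tt N71741 D137302) (tt N36142 F100474))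
theorem Q39603 : ∀ i, i < 39603 → P i := stepQ 39602 Q39602 (allL N39602 (tt N55705 (iv1 F161475)) (tt N50228 (iv0 F139278)) (tt N60827 F176995) (tt N20089 F100478) (tt N50280 F139399) (tt N20088 (iv5 D64534)) (tt N71742 D137303) (tt N36143 F100479))
theorem Q39604 : ∀ i, i < 39604 → P i := stepQ 39603 Q39603 (allL N39603 (tt N71743 D137304) (tt N71744 D137305) (tt N71741 (iv2 F220453)) (tt N20090 F100480) (tt N20102 F100481) (tt N71745 D137306) (tt N20088 (iv6 D64535)) (tt N71746 D137307))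
theorem Q39605 : ∀ i, i < 39605 → P i := stepQ 39604 Q39604 (allL N39604 (tt N37363 F338458) (tt N67646 (iv0 F338459)) (tt N36137 F100482) (tt N71742 (iv3 F220456)) (tt N39171 F100483) (tt N64077 (iv5 F338715)) (tt N20089 (iv6 D64536)) (tt N67604 (iv7 F327315)))
theorem Q39606 : ∀ i, i < 39606 → P i := stepQ 39605 Q39605 (allL N39605 (tt N36139 (iv1 F100489)) (tt N20090 (iv0 D64537)) (tt N36102 (iv2 F102078)) (tt N22564 F319213) (tt N29685 F102075) (tt N58092 (iv5 F323136)) (tt N22563 (iv6 F319663)) (tt N36104 (iv7 F102079)))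
theorem Q39607 : ∀ i, i < 39607 → P i := stepQ 39606 Q39606 (allL N39606 (tt N20090 (iv1 D64538)) (tt N36139 F100484) (tt N36104 (iv2 F102082)) (tt N71747 D137313) (tt N36005 (iv4 F162108)) (tt N58088 (iv5 F325294)) (tt N71748 D137315) (tt N36102 F102084))
theorem Q39608 : ∀ i, i < 39608 → P i := stepQ 39607 Q39607 (allL N39607 (tt N59944 (iv1 F323990)) (tt N71749 D137316) (tt N36138 F100485) (tt N71745 (iv3 F220457)) (tt N57936 (iv4 F330495)) (tt N20090 (iv5 D64539)) (tt N64077 (iv6 F338716)) (tt N71750 D137318))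
theorem Q39609 : ∀ i, i < 39609 → P i := stepQ 39608 Q39608 (allL N39608 (tt N36104 (iv1 F100490)) (tt N36102 (iv0 F102080)) (tt N36139 F100486) (tt N71746 (iv3 F220458)) (tt N20094 F100487) (tt N71750 (iv5 F220482)) (tt N36147 F100488) (tt N20090 (iv7 D64540)))
theorem Q39610 : ∀ i, i < 39610 → P i := stepQ 39609 Q39609 (allL N39609 (tt N69886 F216297) (tt N70573 F217860) (tt N57018 (iv2 F165228)) (tt N56752 (iv3 F164734)) (tt N71751 D137319) (tt N20091 (iv5 D64544)) (tt N61955 (iv6 F179748)) (tt N62364 (iv7 F180912)))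
theorem Q39611 : ∀ i, i < 39611 → P i := stepQ 39610 Q39610 (allL N39610 (tt N31028 F111139) (tt N57788 F167748) (tt N56850 (iv2 F164918)) (tt N20259 F102188) (tt N57383 (iv4 F167749)) (tt N39411 F100493) (tt N20091 (iv6 D64545)) (tt N57787 F167743))
theorem Q39612 : ∀ i, i < 39612 → P i := stepQ 39611 Q39611 (allL N39611 (tt N70573 (iv1 F217861)) (tt N69886 (iv0 F216296)) (tt N62364 (iv2 F180910)) (tt N56375 (iv3 F163652)) (tt N71752 D137320) (tt N20092 (iv5 D64549)) (tt N38949 F100495) (tt N57018 (iv7 F165230)))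
theorem Q39613 : ∀ i, i < 39613 → P i := stepQ 39612 Q39612 (allL N39612 (tt N70452 F217420) (tt N70580 F217891) (tt N62365 (iv2 F180914)) (tt N56376 (iv3 F163656)) (tt N47320 F332385) (tt N69429 (iv5 F214355)) (tt N20092 (iv6 D64550)) (tt N71753 D137321))
theorem Q39614 : ∀ i, i < 39614 → P i := stepQ 39613 Q39613 (allL N39613 (tt N20093 (iv1 D64551)) (tt N38461 F100496) (tt N38462 (iv2 F100498)) (tt N56377 F163662) (tt N66406 (iv4 F204111)) (tt N60041 (iv5 F175357)) (tt N39244 (iv6 F100499)) (tt N32984 F100497))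
theorem Q39615 : ∀ i, i < 39615 → P i := stepQ 39614 Q39614 (allL N39614 (tt N58899 (iv1 F171411)) (tt N20095 (iv0 D64552)) (tt N58898 (iv2 F336132)) (tt N61804 (iv3 F179539)) (tt N71754 D137323) (tt N69831 (iv5 F336142)) (tt N71755 D137325) (tt N58897 (iv7 F336139)))
theorem Q39616 : ∀ i, i < 39616 → P i := stepQ 39615 Q39615 (allL N39615 (tt N20095 (iv1 D64553)) (tt N58899 F171412) (tt N58897 (iv2 F336137)) (tt N71756 D137327) (tt N30325 (iv4 F100500)) (tt N69826 (iv5 F336146)) (tt N71757 D137329) (tt N58898 (iv7 F336134)))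
theorem Q39617 : ∀ i, i < 39617 → P i := stepQ 39616 Q39616 (allL N39616 (tt N58898 F171407) (tt N58897 F171405) (tt N20095 (iv2 D64554)) (tt N70952 (iv3 F218883)) (tt N31523 F100501) (tt N71492 (iv5 F220119)) (tt N71758 D137330) (tt N58899 (iv7 F171410)))
theorem Q39618 : ∀ i, i < 39618 → P i := stepQ 39617 Q39617 (allL N39617 (tt N71759 D137331) (tt N71760 D137332) (tt N71758 (iv2 F220513)) (tt N20096 F100502) (tt N31526 F100503) (tt N70546 (iv5 F334183)) (tt N20095 (iv6 D64555)) (tt N71162 (iv7 F219579)))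
theorem Q39619 : ∀ i, i < 39619 → P i := stepQ 39618 Q39618 (allL N39618 (tt N42799 (iv1 F325454)) (tt N63103 (iv0 F325451)) (tt N70954 (iv2 F218890)) (tt N70546 (iv3 F334182)) (tt N71761 D137336) (tt N20096 (iv5 D64556)) (tt N71495 (iv6 F220121)) (tt N54005 (iv7 F325450)))
theorem Q39620 : ∀ i, i < 39620 → P i := stepQ 39619 Q39619 (allL N39619 (tt N70952 (iv1 F218886)) (tt N20097 (iv0 D64557)) (tt N70951 F218878) (tt N20693 (iv3 F102989)) (tt N71762 D137337) (tt N71763 D137338) (tt N40991 F327471) (tt N20721 F102990))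
theorem Q39621 : ∀ i, i < 39621 → P i := stepQ 39620 Q39620 (allL N39620 (tt N20097 (iv1 D64558)) (tt N70952 F218887) (tt N20721 F218879) (tt N71764 D137340) (tt N71765 D137341) (tt N71766 D137342) (tt N71767 D137343) (tt N70951 F218880))
theorem Q39622 : ∀ i, i < 39622 → P i := stepQ 39621 Q39621 (allL N39621 (tt N70951 (iv1 F218882)) (tt N20721 F100505) (tt N20097 (iv2 D64559)) (tt N58899 (iv3 F171408)) (tt N58966 (iv4 F171618)) (tt N71497 (iv5 F220122)) (tt N71165 (iv6 F219584)) (tt N70952 (iv7 F218885)))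
theorem Q39623 : ∀ i, i < 39623 → P i := stepQ 39622 Q39622 (allL N39622 (tt N71764 (iv1 F220530)) (tt N20704 (iv0 F100626)) (tt N71768 D137344) (tt N20098 (iv3 D64561)) (tt N39735 F100625) (tt N71478 (iv5 F220109)) (tt N71769 D137345) (tt N70965 (iv7 F218960)))
theorem Q39624 : ∀ i, i < 39624 → P i := stepQ 39623 Q39623 (allL N39623 (tt N38252 F323472) (tt N66554 F218829) (tt N66381 F218827) (tt N71770 D137346) (tt N20098 (iv4 D64562)) (tt N71771 D137347) (tt N47802 F345846) (tt N66553 F218810))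
theorem Q39625 : ∀ i, i < 39625 → P i := stepQ 39624 Q39624 (allL N39624 (tt N28810 (iv1 F345844)) (tt N71025 (iv0 F354501)) (tt N70966 (iv2 F218971)) (tt N71769 (iv3 F220540)) (tt N47802 (iv4 F345845)) (tt N71772 D137351) (tt N20098 (iv6 D64564)) (tt N71167 (iv7 F344847)))
theorem Q39626 : ∀ i, i < 39626 → P i := stepQ 39625 Q39625 (allL N39625 (tt N61799 F179537) (tt N61804 (iv0 F220548)) (tt N69836 (iv2 F331005)) (tt N20099 (iv3 D64566)) (tt N71773 D137355) (tt N69905 (iv5 F331009)) (tt N71168 (iv6 F344819)) (tt N69835 (iv7 F331004)))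
theorem Q39627 : ∀ i, i < 39627 → P i := stepQ 39626 Q39626 (allL N39626 (tt N66554 (iv1 F204416)) (tt N38252 F323471) (tt N66553 F218828) (tt N62055 (iv3 F179896)) (tt N20099 (iv4 D64567)) (tt N71774 D137357) (tt N48510 F344813) (tt N66381 F218813))
theorem Q39628 : ∀ i, i < 39628 → P i := stepQ 39627 Q39627 (allL N39627 (tt N39459 (iv1 F106587)) (tt N39455 F106598) (tt N20101 F100508) (tt N70957 (iv3 F218905)) (tt N32498 F106580) (tt N20100 (iv5 D64570)) (tt N69789 (iv6 F364337)) (tt N70967 (iv7 F218975)))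
theorem Q39629 : ∀ i, i < 39629 → P i := stepQ 39628 Q39628 (allL N39628 (tt N71775 D137364) (tt N71776 D137365) (tt N20102 F100509) (tt N28888 (iv3 F329630)) (tt N71741 (iv4 F220455)) (tt N71777 D137366) (tt N20100 (iv6 D64571)) (tt N28869 F329377))
theorem Q39630 : ∀ i, i < 39630 → P i := stepQ 39629 Q39629 (allL N39629 (tt N70967 (iv1 F218977)) (tt N20101 (iv0 D64572)) (tt N39459 (iv2 F106589)) (tt N71778 D137368) (tt N26484 F100513) (tt N39136 (iv5 F100515)) (tt N26493 (iv6 F100514)) (tt N39455 (iv7 F106597)))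
theorem Q39631 : ∀ i, i < 39631 → P i := stepQ 39630 Q39630 (allL N39630 (tt N20101 (iv1 D64573)) (tt N70967 (iv0 F218976)) (tt N39455 F106596) (tt N38730 (iv3 F327159)) (tt N33670 (iv4 F106594)) (tt N39137 (iv5 F106602)) (tt N38728 F326344) (tt N39459 F106593))
theorem Q39632 : ∀ i, i < 39632 → P i := stepQ 39631 Q39631 (allL N39631 (tt N26533 F100511) (tt N29532 (iv0 F100512)) (tt N32498 (iv2 F106575)) (tt N45023 (iv3 F114380)) (tt N20101 (iv4 D64574)) (tt N29863 (iv5 F100510)) (tt N71779 D137371) (tt N32497 (iv7 F106581)))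
theorem Q39633 : ∀ i, i < 39633 → P i := stepQ 39632 Q39632 (allL N39632 (tt N69790 (iv1 F347386)) (tt N64670 (iv0 F347382)) (tt N69789 (iv2 F364335)) (tt N20105 F100516) (tt N71779 (iv4 F220579)) (tt N71780 D137374) (tt N20101 (iv6 D64575)) (tt N69788 (iv7 F327811)))
theorem Q39634 : ∀ i, i < 39634 → P i := stepQ 39633 Q39633 (allL N39633 (tt N28869 F329376) (tt N20102 (iv0 D64576)) (tt N71775 (iv2 F349938)) (tt N71781 D137377) (tt N71782 D137378) (tt N71783 D137379) (tt N71784 D137380) (tt N71776 (iv7 F349937)))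
theorem Q39635 : ∀ i, i < 39635 → P i := stepQ 39634 Q39634 (allL N39634 (tt N20102 (iv1 D64577)) (tt N28869 F329375) (tt N71776 (iv2 F349935)) (tt N71785 D137382) (tt N58785 (iv4 F345511)) (tt N71786 D137384) (tt N71787 D137385) (tt N71775 (iv7 F349940)))
theorem Q39636 : ∀ i, i < 39636 → P i := stepQ 39635 Q39635 (allL N39635 (tt N71788 D137386) (tt N71789 D137387) (tt N71777 (iv2 F220564)) (tt N20108 F100517) (tt N71790 D137388) (tt N20102 (iv5 D64578)) (tt N71780 (iv6 F220582)) (tt N71791 D137389))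
theorem Q39637 : ∀ i, i < 39637 → P i := stepQ 39636 Q39636 (allL N39636 (tt N71776 (iv1 F220563)) (tt N71775 F220566) (tt N28869 (iv2 F329050)) (tt N20109 F100518) (tt N71746 (iv4 F220459)) (tt N71791 (iv5 F220587)) (tt N28862 F328622) (tt N20102 (iv7 D64579)))
theorem Q39638 : ∀ i, i < 39638 → P i := stepQ 39637 Q39637 (allL N39637 (tt N69831 (iv1 F336141)) (tt N69826 (iv0 F336144)) (tt N69830 (iv2 F330972)) (tt N20103 (iv3 D64580)) (tt N71792 D137391) (tt N39119 F100519) (tt N71793 D137392) (tt N39440 F100520))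
theorem Q39639 : ∀ i, i < 39639 → P i := stepQ 39638 Q39638 (allL N39638 (tt N71794 D137393) (tt N71795 D137394) (tt N39451 F100521) (tt N71793 (iv3 F220595)) (tt N66295 (iv4 F203933)) (tt N71796 D137395) (tt N20103 (iv6 D64581)) (tt N71797 D137396))
theorem Q39640 : ∀ i, i < 39640 → P i := stepQ 39639 Q39639 (allL N39639 (tt N71763 (iv1 F225846)) (tt N71766 (iv0 F225847)) (tt N71798 D137399) (tt N20104 (iv3 D64582)) (tt N71799 D137400) (tt N39117 F100522) (tt N71800 D137401) (tt N39448 F100523))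
theorem Q39641 : ∀ i, i < 39641 → P i := stepQ 39640 Q39640 (allL N39640 (tt N68227 (iv1 F330933)) (tt N68225 (iv0 F330934)) (tt N39442 F100524) (tt N71800 (iv3 F220612)) (tt N37351 F330930) (tt N70487 (iv5 F330936)) (tt N20104 (iv6 D64583)) (tt N69548 (iv7 F330939)))
theorem Q39642 : ∀ i, i < 39642 → P i := stepQ 39641 Q39641 (allL N39641 (tt N68238 (iv1 F327495)) (tt N20105 (iv0 D64584)) (tt N69395 (iv2 F327808)) (tt N69728 (iv3 F352621)) (tt N69394 (iv4 F352618)) (tt N71801 D137409) (tt N71802 D137410) (tt N69824 (iv7 F327806)))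
theorem Q39643 : ∀ i, i < 39643 → P i := stepQ 39642 Q39642 (allL N39642 (tt N20105 (iv1 D64585)) (tt N68238 (iv0 F327494)) (tt N69824 (iv2 F327805)) (tt N71803 D137412) (tt N37425 (iv4 F327807)) (tt N71804 D137414) (tt N43846 F338473) (tt N69395 (iv7 F327809)))
theorem Q39644 : ∀ i, i < 39644 → P i := stepQ 39643 Q39643 (allL N39643 (tt N70053 (iv1 F352617)) (tt N41937 (iv0 F329194)) (tt N70960 (iv2 F218919)) (tt N71780 (iv3 F220581)) (tt N69972 (iv4 F331673)) (tt N20105 (iv5 D64586)) (tt N20108 F100525) (tt N71805 D137419))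
theorem Q39645 : ∀ i, i < 39645 → P i := stepQ 39644 Q39644 (allL N39644 (tt N69824 (iv1 F327493)) (tt N69395 (iv0 F327490)) (tt N68238 (iv2 F327496)) (tt N69788 (iv3 F327810)) (tt N36937 F327310) (tt N71805 (iv5 F220625)) (tt N70969 (iv6 F218991)) (tt N20105 (iv7 D64587)))
theorem Q39646 : ∀ i, i < 39646 → P i := stepQ 39645 Q39645 (allL N39645 (tt N71806 D137420) (tt N71757 (iv0 F360688)) (tt N71807 D137422) (tt N20106 (iv3 D64589)) (tt N57008 (iv4 F165218)) (tt N33699 (iv5 F329018)) (tt N71217 (iv6 F219633)) (tt N70961 (iv7 F218931)))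
theorem Q39647 : ∀ i, i < 39647 → P i := stepQ 39646 Q39646 (allL N39646 (tt N29646 F100529) (tt N39720 F100609) (tt N32532 F328369) (tt N58962 F171608) (tt N20107 (iv4 D64595)) (tt N32521 F328370) (tt N71808 D137435) (tt N33732 F328371))
theorem Q39648 : ∀ i, i < 39648 → P i := stepQ 39647 Q39647 (allL N39647 (tt N70455 (iv1 F336167)) (tt N70456 (iv0 F336168)) (tt N70962 (iv2 F218934)) (tt N40994 (iv3 F329192)) (tt N71808 (iv4 F220640)) (tt N71146 (iv5 F219539)) (tt N20107 (iv6 D64597)) (tt N71216 (iv7 F219630)))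
theorem Q39649 : ∀ i, i < 39649 → P i := stepQ 39648 Q39648 (allL N39648 (tt N36286 (iv1 F328461)) (tt N20108 (iv0 D64598)) (tt N20908 (iv2 F328453)) (tt N71809 D137440) (tt N20907 (iv4 F328579)) (tt N39268 F100528) (tt N71810 D137442) (tt N23891 (iv7 F328456)))
theorem Q39650 : ∀ i, i < 39650 → P i := stepQ 39649 Q39649 (allL N39649 (tt N36285 F328828) (tt N20956 (iv0 F329162)) (tt N32515 F328829) (tt N36302 (iv3 F329164)) (tt N20108 (iv4 D64600)) (tt N32509 (iv5 F329165)) (tt N69972 (iv6 F331675)) (tt N32508 F328830))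
theorem Q39651 : ∀ i, i < 39651 → P i := stepQ 39650 Q39650 (allL N39650 (tt N23891 (iv1 F328455)) (tt N20908 (iv0 F328451)) (tt N36286 (iv2 F328462)) (tt N71791 (iv3 F220586)) (tt N32508 (iv4 F328480)) (tt N20109 F100531) (tt N49724 (iv6 F329755)) (tt N20108 (iv7 D64601)))
theorem Q39652 : ∀ i, i < 39652 → P i := stepQ 39651 Q39651 (allL N39651 (tt N54664 (iv1 F343225)) (tt N54680 (iv0 F343229)) (tt N54678 (iv2 F353567)) (tt N20111 (iv3 D64607)) (tt N61993 (iv4 F179783)) (tt N62917 (iv5 F329155)) (tt N71222 (iv6 F219640)) (tt N54677 (iv7 F353566)))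
theorem Q39653 : ∀ i, i < 39653 → P i := stepQ 39652 Q39652 (allL N39652 (tt N20114 (iv1 F100536)) (tt N20112 (iv0 D64609)) (tt N32527 F326869) (tt N56679 F168406) (tt N32520 (iv4 F327473)) (tt N38239 F100533) (tt N33019 F100534) (tt N32524 F326870))
theorem Q39654 : ∀ i, i < 39654 → P i := stepQ 39653 Q39653 (allL N39653 (tt N20166 (iv1 F343284)) (tt N71811 D137465) (tt N71812 D137466) (tt N20113 (iv3 D64617)) (tt N20587 F102074) (tt N62915 (iv5 F329157)) (tt N71813 D137468) (tt N42227 (iv7 F318375)))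
theorem Q39655 : ∀ i, i < 39655 → P i := stepQ 39654 Q39654 (allL N39654 (tt N71814 D137471) (tt N71019 (iv0 F352703)) (tt N70963 (iv2 F218954)) (tt N71813 (iv3 F220671)) (tt N20115 F100541) (tt N71815 D137473) (tt N20113 (iv6 D64619)) (tt N71221 (iv7 F219639)))
theorem Q39656 : ∀ i, i < 39656 → P i := stepQ 39655 Q39655 (allL N39655 (tt N20116 (iv1 D64621)) (tt N32510 F327034) (tt N20902 (iv2 F327573)) (tt N45095 (iv3 F327578)) (tt N66064 (iv4 F203279)) (tt N20901 (iv5 F327579)) (tt N71816 D137478) (tt N23884 (iv7 F327572)))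
theorem Q39657 : ∀ i, i < 39657 → P i := stepQ 39656 Q39656 (allL N39656 (tt N21482 (iv1 F327582)) (tt N36274 (iv0 F327583)) (tt N32511 (iv2 F327584)) (tt N20116 (iv3 D64622)) (tt N67535 (iv4 F207374)) (tt N32504 (iv5 F327588)) (tt N37392 F100543) (tt N32513 (iv7 F327589)))
theorem Q39658 : ∀ i, i < 39658 → P i := stepQ 39657 Q39657 (allL N39657 (tt N20122 (iv1 F100545)) (tt N20121 F100546) (tt N20123 F100544) (tt N56351 (iv3 F163533)) (tt N67135 (iv4 F206749)) (tt N56360 (iv5 F163574)) (tt N56592 (iv6 F164375)) (tt N20117 (iv7 D64624)))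
theorem Q39659 : ∀ i, i < 39659 → P i := stepQ 39658 Q39658 (allL N39658 (tt N67125 (iv1 F206722)) (tt N20118 (iv0 D64625)) (tt N54786 (iv2 F333099)) (tt N59134 F172177) (tt N53460 (iv4 F333095)) (tt N71587 (iv5 F340520)) (tt N56941 (iv6 F352891)) (tt N54790 (iv7 F361818)))
theorem Q39660 : ∀ i, i < 39660 → P i := stepQ 39659 Q39659 (allL N39659 (tt N20118 (iv1 D64626)) (tt N67125 F206723) (tt N54790 (iv2 F361816)) (tt N71817 D137487) (tt N53461 (iv4 F333104)) (tt N71588 (iv5 F221261)) (tt N71818 D137489) (tt N54786 (iv7 F333100)))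
theorem Q39661 : ∀ i, i < 39661 → P i := stepQ 39660 Q39660 (allL N39660 (tt N54786 (iv1 F333098)) (tt N54790 (iv0 F361814)) (tt N20118 (iv2 D64627)) (tt N67130 (iv3 F206733)) (tt N20126 F100547) (tt N71819 D137490) (tt N28329 F329374) (tt N67125 (iv7 F206721)))
theorem Q39662 : ∀ i, i < 39662 → P i := stepQ 39661 Q39661 (allL N39661 (tt N71820 D137492) (tt N71821 D137493) (tt N71819 (iv2 F220684)) (tt N20119 F100548) (tt N71822 D137494) (tt N20118 (iv5 D64628)) (tt N71823 D137495) (tt N67126 (iv7 F206725)))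
theorem Q39663 : ∀ i, i < 39663 → P i := stepQ 39662 Q39662 (allL N39662 (tt N71824 D137500) (tt N71825 D137501) (tt N67133 (iv2 F206746)) (tt N71823 (iv3 F220687)) (tt N67127 (iv4 F206728)) (tt N71826 D137502) (tt N20119 (iv6 D64630)) (tt N71827 D137503))
theorem Q39664 : ∀ i, i < 39664 → P i := stepQ 39663 Q39663 (allL N39663 (tt N67135 (iv1 F206751)) (tt N20120 (iv0 D64631)) (tt N36200 (iv2 F166452)) (tt N71828 D137504) (tt N36189 F165335) (tt N71829 D137505) (tt N71830 D137506) (tt N36203 F166453))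
theorem Q39665 : ∀ i, i < 39665 → P i := stepQ 39664 Q39664 (allL N39664 (tt N20120 (iv1 D64632)) (tt N67135 F206750) (tt N36203 F166451) (tt N71831 D137507) (tt N36190 (iv4 F161379)) (tt N71832 D137508) (tt N57663 (iv6 F167340)) (tt N36200 (iv7 F166450)))
theorem Q39666 : ∀ i, i < 39666 → P i := stepQ 39665 Q39665 (allL N39665 (tt N68115 (iv1 F209158)) (tt N45001 F331307) (tt N67134 (iv2 F206747)) (tt N26214 F329768) (tt N71833 D137509) (tt N20120 (iv5 D64633)) (tt N71826 (iv6 F220691)) (tt N54493 F329769))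
theorem Q39667 : ∀ i, i < 39667 → P i := stepQ 39666 Q39666 (allL N39666 (tt N36203 (iv1 F163547)) (tt N36200 (iv0 F161382)) (tt N67135 (iv2 F206748)) (tt N28323 F329601) (tt N20123 F100551) (tt N54493 (iv5 F329744)) (tt N67128 (iv6 F206730)) (tt N20120 (iv7 D64634)))
theorem Q39668 : ∀ i, i < 39668 → P i := stepQ 39667 Q39667 (allL N39667 (tt N32323 F100553) (tt N32321 (iv0 F165153)) (tt N57065 (iv2 F165321)) (tt N57044 (iv3 F165298)) (tt N66533 (iv4 F204366)) (tt N56977 (iv5 F165151)) (tt N20121 (iv6 D64638)) (tt N60329 (iv7 F176221)))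
theorem Q39669 : ∀ i, i < 39669 → P i := stepQ 39668 Q39668 (allL N39668 (tt N71756 (iv1 F220510)) (tt N28747 F345470) (tt N71834 D137512) (tt N20124 (iv3 D64645)) (tt N39710 F100595) (tt N71637 (iv5 F221251)) (tt N71200 (iv6 F326613)) (tt N70955 (iv7 F218892)))
theorem Q39670 : ∀ i, i < 39670 → P i := stepQ 39669 Q39669 (allL N39669 (tt N71835 D137515) (tt N29032 F333129) (tt N62486 F181791) (tt N71836 D137517) (tt N20124 (iv4 D64646)) (tt N71837 D137518) (tt N71201 (iv6 F326614)) (tt N70956 (iv7 F218895)))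
theorem Q39671 : ∀ i, i < 39671 → P i := stepQ 39670 Q39670 (allL N39670 (tt N20707 F103003) (tt N20693 F103004) (tt N20702 F102539) (tt N20125 (iv3 D64650)) (tt N39761 (iv4 F100654)) (tt N71639 (iv5 F221257)) (tt N71838 D137529) (tt N20703 (iv7 F102540)))
theorem Q39672 : ∀ i, i < 39672 → P i := stepQ 39671 Q39671 (allL N39671 (tt N29032 F333130) (tt N71835 F220715) (tt N70956 (iv2 F218894)) (tt N20648 (iv3 F100557)) (tt N20125 (iv4 D64651)) (tt N71839 D137530) (tt N71840 D137531) (tt N62486 (iv7 F181790)))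
theorem Q39673 : ∀ i, i < 39673 → P i := stepQ 39672 Q39672 (allL N39672 (tt N28309 (iv1 F329871)) (tt N28313 (iv0 F329872)) (tt N28817 F329770) (tt N71838 (iv3 F220726)) (tt N71840 (iv4 F220729)) (tt N54044 (iv5 F329873)) (tt N20125 (iv6 D64653)) (tt N28816 (iv7 F329874)))
theorem Q39674 : ∀ i, i < 39674 → P i := stepQ 39673 Q39673 (allL N39673 (tt N39547 (iv1 F220920)) (tt N39544 F220917) (tt N20127 F100558) (tt N70967 (iv3 F218973)) (tt N71841 D137538) (tt N20126 (iv5 D64654)) (tt N27571 (iv6 F329628)) (tt N70957 (iv7 F218906)))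
theorem Q39675 : ∀ i, i < 39675 → P i := stepQ 39674 Q39674 (allL N39674 (tt N70957 (iv1 F218908)) (tt N20127 (iv0 D64656)) (tt N39547 (iv2 F220887)) (tt N71842 D137545) (tt N67271 (iv4 F333063)) (tt N39121 F220886) (tt N67269 (iv6 F333060)) (tt N39544 (iv7 F220888)))
theorem Q39676 : ∀ i, i < 39676 → P i := stepQ 39675 Q39675 (allL N39675 (tt N20127 (iv1 D64657)) (tt N70957 F218907) (tt N39544 F220889) (tt N71843 D137550) (tt N71844 D137551) (tt N39122 (iv5 F220891)) (tt N71845 D137553) (tt N39547 F220890))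
theorem Q39677 : ∀ i, i < 39677 → P i := stepQ 39676 Q39676 (allL N39676 (tt N71846 D137554) (tt N71847 D137555) (tt N71841 (iv2 F220730)) (tt N66457 (iv3 F204192)) (tt N20127 (iv4 D64658)) (tt N71848 D137556) (tt N28898 F329771) (tt N70958 (iv7 F218913)))
theorem Q39678 : ∀ i, i < 39678 → P i := stepQ 39677 Q39677 (allL N39677 (tt N70969 (iv1 F218994)) (tt N20128 (iv0 D64664)) (tt N49583 (iv2 F344337)) (tt N71849 D137577) (tt N69404 (iv4 F344346)) (tt N49576 (iv5 F344342)) (tt N71850 D137580) (tt N49581 (iv7 F344341)))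
theorem Q39679 : ∀ i, i < 39679 → P i := stepQ 39678 Q39678 (allL N39678 (tt N20128 (iv1 D64665)) (tt N70969 F218993) (tt N49581 (iv2 F344340)) (tt N71851 D137582) (tt N71852 D137583) (tt N49575 (iv5 F338481)) (tt N71853 D137585) (tt N49583 (iv7 F344339)))
theorem Q39680 : ∀ i, i < 39680 → P i := stepQ 39679 Q39679 (allL N39679 (tt N49581 F329582) (tt N49583 (iv0 F338455)) (tt N70969 (iv2 F218990)) (tt N27572 (iv3 F329738)) (tt N66463 (iv4 F204201)) (tt N28897 F329583) (tt N68238 (iv6 F327497)) (tt N20128 (iv7 D64667)))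
theorem Q39681 : ∀ i, i < 39681 → P i := stepQ 39680 Q39680 (allL N39680 (tt N71854 D137590) (tt N71767 (iv0 F365513)) (tt N71855 D137592) (tt N20129 (iv3 D64669)) (tt N62413 (iv4 F181222)) (tt N71856 D137593) (tt N71857 D137594) (tt N70972 (iv7 F219006)))
theorem Q39682 : ∀ i, i < 39682 → P i := stepQ 39681 Q39681 (allL N39681 (tt N39746 (iv1 F166475)) (tt N39186 (iv0 F166207)) (tt N39744 (iv2 F166469)) (tt N36111 F166470) (tt N20129 (iv4 D64670)) (tt N59005 (iv5 F171718)) (tt N71858 D137595) (tt N39745 (iv7 F166471)))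
theorem Q39683 : ∀ i, i < 39683 → P i := stepQ 39682 Q39682 (allL N39682 (tt N54526 (iv1 F328963)) (tt N53173 (iv0 F329008)) (tt N54529 (iv2 F357592)) (tt N71856 (iv3 F220753)) (tt N71859 D137596) (tt N20129 (iv5 D64671)) (tt N49705 (iv6 F344239)) (tt N54528 (iv7 F357601)))
theorem Q39684 : ∀ i, i < 39684 → P i := stepQ 39683 Q39683 (allL N39683 (tt N71026 F220372) (tt N71860 D137598) (tt N70971 (iv2 F218999)) (tt N71857 (iv3 F220754)) (tt N71858 (iv4 F220756)) (tt N70946 F218861) (tt N20129 (iv6 D64672)) (tt N71191 (iv7 F219608)))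
theorem Q39685 : ∀ i, i < 39685 → P i := stepQ 39684 Q39684 (allL N39684 (tt N71755 (iv1 F362208)) (tt N28736 (iv0 F339537)) (tt N71861 D137601) (tt N20130 (iv3 D64674)) (tt N57056 (iv4 F165308)) (tt N71862 D137602) (tt N71187 (iv6 F219607)) (tt N70970 (iv7 F218995)))
theorem Q39686 : ∀ i, i < 39686 → P i := stepQ 39685 Q39685 (allL N39685 (tt N53173 (iv1 F329009)) (tt N54526 (iv0 F328962)) (tt N54528 (iv2 F357597)) (tt N71862 (iv3 F220763)) (tt N49584 (iv4 F339532)) (tt N20130 (iv5 D64676)) (tt N27037 (iv6 F339533)) (tt N54529 (iv7 F357595)))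
theorem Q39687 : ∀ i, i < 39687 → P i := stepQ 39686 Q39686 (allL N39686 (tt N71863 D137617) (tt N20171 F323865) (tt N54668 (iv2 F356209)) (tt N20132 (iv3 D64689)) (tt N20635 F161305) (tt N71864 D137620) (tt N71865 D137621) (tt N62445 (iv7 F181424)))
theorem Q39688 : ∀ i, i < 39688 → P i := stepQ 39687 Q39687 (allL N39687 (tt N48600 F335573) (tt N71866 D137623) (tt N70973 (iv2 F219024)) (tt N71864 (iv3 F220772)) (tt N71867 D137624) (tt N20132 (iv5 D64690)) (tt N71868 D137625) (tt N48708 F328971))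
theorem Q39689 : ∀ i, i < 39689 → P i := stepQ 39688 Q39688 (allL N39688 (tt N71021 (iv1 F220384)) (tt N71869 D137626) (tt N70974 (iv2 F219026)) (tt N71865 (iv3 F220773)) (tt N20133 F100571) (tt N71870 D137627) (tt N20132 (iv6 D64691)) (tt N71199 (iv7 F219619)))
theorem Q39690 : ∀ i, i < 39690 → P i := stepQ 39689 Q39689 (allL N39689 (tt N20133 (iv1 D64692)) (tt N59699 (iv0 F173574)) (tt N31140 F100575) (tt N32321 (iv3 F168198)) (tt N71860 (iv4 F220759)) (tt N31120 (iv5 F100573)) (tt N38974 (iv6 F100574)) (tt N20199 F100572))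
theorem Q39691 : ∀ i, i < 39691 → P i := stepQ 39690 Q39690 (allL N39690 (tt N71866 (iv1 F220776)) (tt N48600 F335572) (tt N48708 F328970) (tt N51125 (iv3 F329304)) (tt N71871 D137632) (tt N20134 (iv5 D64698)) (tt N48700 (iv6 F329312)) (tt N70973 (iv7 F219025)))
theorem Q39692 : ∀ i, i < 39692 → P i := stepQ 39691 Q39691 (allL N39691 (tt N71872 D137634) (tt N57319 (iv0 F166057)) (tt N44203 (iv2 F111104)) (tt N22131 F320512) (tt N20135 (iv4 D64700)) (tt N71873 D137636) (tt N20415 F111233) (tt N44204 (iv7 F111109)))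
theorem Q39693 : ∀ i, i < 39693 → P i := stepQ 39692 Q39692 (allL N39692 (tt N57319 (iv1 F166058)) (tt N71872 F220783) (tt N44204 (iv2 F111108)) (tt N65012 (iv3 F357236)) (tt N20136 (iv4 D64702)) (tt N71874 D137638) (tt N65028 (iv6 F357245)) (tt N44203 (iv7 F111106)))
theorem Q39694 : ∀ i, i < 39694 → P i := stepQ 39693 Q39693 (allL N39693 (tt N33211 F100583) (tt N33208 (iv0 F100585)) (tt N41065 (iv2 F111224)) (tt N39851 F111444) (tt N65028 (iv4 F357244)) (tt N39492 F100581) (tt N20136 (iv6 D64703)) (tt N39492 F100582))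
theorem Q39695 : ∀ i, i < 39695 → P i := stepQ 39694 Q39694 (allL N39694 (tt N44202 (iv1 F111101)) (tt N20137 (iv0 D64704)) (tt N44199 (iv2 F167023)) (tt N71875 D137640) (tt N57523 (iv4 F167014)) (tt N71876 D137641) (tt N56896 F167027) (tt N44200 (iv7 F167025)))
theorem Q39696 : ∀ i, i < 39696 → P i := stepQ 39695 Q39695 (allL N39695 (tt N20137 (iv1 D64705)) (tt N44202 F111100) (tt N44200 F167024) (tt N71877 D137642) (tt N57524 (iv4 F167020)) (tt N71878 D137643) (tt N71879 D137644) (tt N44199 F167021))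
theorem Q39697 : ∀ i, i < 39697 → P i := stepQ 39696 Q39696 (allL N39696 (tt N71880 D137645) (tt N71881 D137646) (tt N71882 D137647) (tt N20137 (iv3 D64706)) (tt N56806 (iv4 F164832)) (tt N71883 D137648) (tt N44158 (iv6 F110969)) (tt N71884 D137649))
theorem Q39698 : ∀ i, i < 39698 → P i := stepQ 39697 Q39697 (allL N39697 (tt N62019 (iv1 F179806)) (tt N62022 (iv0 F179808)) (tt N44201 (iv2 F111096)) (tt N71883 (iv3 F220806)) (tt N49138 F329584) (tt N20137 (iv5 D64707)) (tt N71885 D137651) (tt N71886 D137652))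
theorem Q39699 : ∀ i, i < 39699 → P i := stepQ 39698 Q39698 (allL N39698 (tt N44200 (iv1 F111095)) (tt N44199 F111099) (tt N44202 (iv2 F111097)) (tt N71884 (iv3 F220807)) (tt N20138 F100586) (tt N71886 (iv5 F220808)) (tt N44214 (iv6 F111127)) (tt N20137 (iv7 D64708)))
theorem Q39700 : ∀ i, i < 39700 → P i := stepQ 39699 Q39699 (allL N39699 (tt N20168 F177276) (tt N71887 D137653) (tt N71739 (iv2 F220444)) (tt N20139 (iv3 D64710)) (tt N36141 F100588) (tt N55736 F161536) (tt N71888 D137654) (tt N60927 (iv7 F177267)))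
theorem Q39701 : ∀ i, i < 39701 → P i := stepQ 39700 Q39700 (allL N39700 (tt N71889 D137655) (tt N71890 D137656) (tt N70988 (iv2 F219086)) (tt N71891 D137657) (tt N20139 (iv4 D64711)) (tt N71892 D137658) (tt N71893 D137659) (tt N70987 (iv7 F219083)))
theorem Q39702 : ∀ i, i < 39702 → P i := stepQ 39701 Q39701 (allL N39701 (tt N71009 (iv1 F219251)) (tt N20179 F161537) (tt N70989 (iv2 F219096)) (tt N55736 (iv3 F161533)) (tt N35864 F100589) (tt N20139 (iv5 D64712)) (tt N71894 D137660) (tt N60460 (iv7 F176455)))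
theorem Q39703 : ∀ i, i < 39703 → P i := stepQ 39702 Q39702 (allL N39702 (tt N71895 D137661) (tt N71020 (iv0 F351802)) (tt N44580 F338925) (tt N71888 (iv3 F220823)) (tt N71893 (iv4 F220831)) (tt N43458 (iv5 F338929)) (tt N20139 (iv6 D64713)) (tt N44576 (iv7 F338930)))
theorem Q39704 : ∀ i, i < 39704 → P i := stepQ 39703 Q39703 (allL N39703 (tt N54776 (iv1 F333126)) (tt N54762 (iv0 F333121)) (tt N54773 (iv2 F333116)) (tt N20140 (iv3 D64715)) (tt N71896 D137667) (tt N71897 D137668) (tt N71227 (iv6 F338933)) (tt N54774 (iv7 F333120)))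
theorem Q39705 : ∀ i, i < 39705 → P i := stepQ 39704 Q39704 (allL N39704 (tt N71890 (iv1 F220827)) (tt N71889 F220825) (tt N70987 (iv2 F219082)) (tt N40665 (iv3 F102375)) (tt N20140 (iv4 D64716)) (tt N71898 D137670) (tt N71228 (iv6 F338934)) (tt N70988 (iv7 F219087)))
theorem Q39706 : ∀ i, i < 39706 → P i := stepQ 39705 Q39705 (allL N39705 (tt N20179 F219112) (tt N71009 F219252) (tt N60460 F176459) (tt N71897 (iv3 F220835)) (tt N60456 (iv4 F176460)) (tt N20140 (iv5 D64717)) (tt N71899 D137672) (tt N70989 (iv7 F219097)))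
theorem Q39707 : ∀ i, i < 39707 → P i := stepQ 39706 Q39706 (allL N39706 (tt N56764 (iv1 F164760)) (tt N56763 F164755) (tt N20142 F100591) (tt N56757 (iv3 F164748)) (tt N20141 (iv4 D64719)) (tt N71900 D137677) (tt N71901 D137678) (tt N55383 (iv7 F329348)))
theorem Q39708 : ∀ i, i < 39708 → P i := stepQ 39707 Q39707 (allL N39707 (tt N70990 (iv1 F219141)) (tt N65972 F203003) (tt N20143 F100592) (tt N70980 (iv3 F219052)) (tt N71902 D137679) (tt N20141 (iv5 D64720)) (tt N52319 (iv6 F329741)) (tt N48656 F329589))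
theorem Q39709 : ∀ i, i < 39709 → P i := stepQ 39708 Q39708 (allL N39708 (tt N55379 (iv1 F329314)) (tt N55378 (iv0 F329313)) (tt N20144 F100593) (tt N70981 (iv3 F219057)) (tt N71901 (iv4 F220843)) (tt N62875 (iv5 F329159)) (tt N20141 (iv6 D64721)) (tt N55362 (iv7 F329317)))
theorem Q39710 : ∀ i, i < 39710 → P i := stepQ 39709 Q39709 (allL N39709 (tt N55383 (iv1 F329345)) (tt N20142 (iv0 D64722)) (tt N56764 F164761) (tt N20621 F100594) (tt N40912 (iv4 F103032)) (tt N71903 D137685) (tt N71904 D137686) (tt N56763 F164756))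
theorem Q39711 : ∀ i, i < 39711 → P i := stepQ 39710 Q39710 (allL N39710 (tt N20142 (iv1 D64723)) (tt N55383 (iv0 F329344)) (tt N56763 (iv2 F164763)) (tt N61192 (iv3 F340003)) (tt N39668 (iv4 F100595)) (tt N61191 (iv5 F363660)) (tt N57823 (iv6 F327347)) (tt N56764 F164762))
theorem Q39712 : ∀ i, i < 39712 → P i := stepQ 39711 Q39711 (allL N39711 (tt N71905 D137690) (tt N71906 D137691) (tt N71900 (iv2 F220840)) (tt N38650 F100596) (tt N59505 (iv4 F219132)) (tt N20142 (iv5 D64724)) (tt N71907 D137692) (tt N56765 (iv7 F164766)))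
theorem Q39713 : ∀ i, i < 39713 → P i := stepQ 39712 Q39712 (allL N39712 (tt N71908 D137693) (tt N71909 D137694) (tt N71901 (iv2 F220842)) (tt N38651 F100597) (tt N20144 F100598) (tt N57074 (iv5 F350036)) (tt N20142 (iv6 D64725)) (tt N55377 (iv7 F329319)))
theorem Q39714 : ∀ i, i < 39714 → P i := stepQ 39713 Q39713 (allL N39713 (tt N48656 F329588) (tt N20143 (iv0 D64726)) (tt N70990 F219144) (tt N32499 F106585) (tt N32313 (iv4 F106586)) (tt N71910 D137697) (tt N50962 (iv6 F143161)) (tt N65972 (iv7 F203001)))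
theorem Q39715 : ∀ i, i < 39715 → P i := stepQ 39714 Q39714 (allL N39714 (tt N20143 (iv1 D64727)) (tt N48656 F329587) (tt N65972 (iv2 F219124)) (tt N71911 D137698) (tt N65970 F219126) (tt N71912 D137699) (tt N71913 D137700) (tt N70990 (iv7 F219142)))
theorem Q39716 : ∀ i, i < 39716 → P i := stepQ 39715 Q39715 (allL N39715 (tt N71914 D137701) (tt N71915 D137702) (tt N71902 (iv2 F220844)) (tt N60703 F176742) (tt N20143 (iv4 D64728)) (tt N60701 (iv5 F176743)) (tt N71916 D137703) (tt N52256 (iv7 F329356)))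
theorem Q39717 : ∀ i, i < 39717 → P i := stepQ 39716 Q39716 (allL N39716 (tt N52318 (iv1 F329742)) (tt N52317 (iv0 F329743)) (tt N52319 (iv2 F329740)) (tt N20149 F100599) (tt N71916 (iv4 F220925)) (tt N62876 (iv5 F329082)) (tt N20143 (iv6 D64729)) (tt N27340 F329590))
theorem Q39718 : ∀ i, i < 39718 → P i := stepQ 39717 Q39717 (allL N39717 (tt N55362 (iv1 F329316)) (tt N20144 (iv0 D64730)) (tt N55379 (iv2 F355539)) (tt N71917 D137709) (tt N71918 D137710) (tt N62931 (iv5 F355528)) (tt N71919 D137712) (tt N55378 (iv7 F355537)))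
theorem Q39719 : ∀ i, i < 39719 → P i := stepQ 39718 Q39718 (allL N39718 (tt N20144 (iv1 D64731)) (tt N55362 (iv0 F329315)) (tt N55378 (iv2 F355536)) (tt N71920 D137714) (tt N71921 D137715) (tt N62932 (iv5 F350790)) (tt N71922 D137717) (tt N55379 (iv7 F355541)))
theorem Q39720 : ∀ i, i < 39720 → P i := stepQ 39719 Q39719 (allL N39719 (tt N56005 F164721) (tt N66375 (iv0 F204065)) (tt N36669 F100602) (tt N20146 F100603) (tt N38651 F100604) (tt N36723 F100605) (tt N20145 (iv6 D64734)) (tt N71923 D137722))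
theorem Q39721 : ∀ i, i < 39721 → P i := stepQ 39720 Q39720 (allL N39720 (tt N39646 (iv1 F100609)) (tt N31499 F103595) (tt N55925 (iv2 F162161)) (tt N71923 (iv3 F220934)) (tt N20150 F100607) (tt N36763 F100608) (tt N55368 (iv6 F328545)) (tt N20146 (iv7 D64737)))
theorem Q39722 : ∀ i, i < 39722 → P i := stepQ 39721 Q39721 (allL N39721 (tt N71924 D137729) (tt N71925 D137730) (tt N39433 F100612) (tt N68222 (iv3 F326703)) (tt N41209 (iv4 F103653)) (tt N71926 D137731) (tt N20147 (iv6 D64739)) (tt N68218 (iv7 F326707)))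
theorem Q39723 : ∀ i, i < 39723 → P i := stepQ 39722 Q39722 (allL N39722 (tt N20165 F103082) (tt N20170 F103083) (tt N69837 (iv2 F327507)) (tt N20148 (iv3 D64740)) (tt N71927 D137734) (tt N31102 F100613) (tt N71928 D137735) (tt N39431 F100614))
theorem Q39724 : ∀ i, i < 39724 → P i := stepQ 39723 Q39723 (allL N39723 (tt N68215 (iv1 F327499)) (tt N68214 (iv0 F327500)) (tt N36948 F326901) (tt N71928 (iv3 F220987)) (tt N36947 F326902) (tt N70388 (iv5 F327501)) (tt N20148 (iv6 D64741)) (tt N68216 (iv7 F327504)))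
theorem Q39725 : ∀ i, i < 39725 → P i := stepQ 39724 Q39724 (allL N39724 (tt N20149 (iv1 D64743)) (tt N68235 (iv0 F328669)) (tt N36939 (iv2 F328675)) (tt N69785 (iv3 F328676)) (tt N36938 (iv4 F328677)) (tt N64591 (iv5 F337784)) (tt N64592 (iv6 F337785)) (tt N68236 (iv7 F328673)))
theorem Q39726 : ∀ i, i < 39726 → P i := stepQ 39725 Q39725 (allL N39725 (tt N36939 (iv1 F328667)) (tt N68236 (iv0 F328664)) (tt N68235 (iv2 F328670)) (tt N27340 (iv3 F329357)) (tt N66426 (iv4 F204149)) (tt N62878 (iv5 F329420)) (tt N27336 F328987) (tt N20149 (iv7 D64745)))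
theorem Q39727 : ∀ i, i < 39727 → P i := stepQ 39726 Q39726 (allL N39726 (tt N69039 (iv1 F347211)) (tt N55976 F219215) (tt N55963 F347209) (tt N55990 (iv3 F360863)) (tt N20151 (iv4 D64752)) (tt N33117 (iv5 F347215)) (tt N71246 (iv6 F352947)) (tt N70975 (iv7 F219036)))
theorem Q39728 : ∀ i, i < 39728 → P i := stepQ 39727 Q39727 (allL N39727 (tt N71005 F347224) (tt N20181 F347225) (tt N70979 (iv2 F219048)) (tt N54787 (iv3 F333101)) (tt N69025 (iv4 F345906)) (tt N20151 (iv5 D64753)) (tt N71929 D137774) (tt N70976 (iv7 F219038)))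
theorem Q39729 : ∀ i, i < 39729 → P i := stepQ 39728 Q39728 (allL N39728 (tt N59193 F219212) (tt N20163 F219213) (tt N54789 (iv2 F361821)) (tt N20152 (iv3 D64756)) (tt N71930 D137780) (tt N71931 D137781) (tt N71932 D137782) (tt N70978 (iv7 F219040)))
theorem Q39730 : ∀ i, i < 39730 → P i := stepQ 39729 Q39729 (allL N39729 (tt N55976 F219214) (tt N69039 (iv0 F347210)) (tt N70975 (iv2 F219035)) (tt N55957 (iv3 F162218)) (tt N20152 (iv4 D64757)) (tt N55964 (iv5 F344619)) (tt N71933 D137784) (tt N55963 (iv7 F347208)))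
theorem Q39731 : ∀ i, i < 39731 → P i := stepQ 39730 Q39730 (allL N39730 (tt N20181 (iv1 F347222)) (tt N71005 (iv0 F347223)) (tt N70976 (iv2 F219037)) (tt N71931 (iv3 F221029)) (tt N68898 (iv4 F347217)) (tt N20152 (iv5 D64758)) (tt N71934 D137786) (tt N70979 (iv7 F219049)))
theorem Q39732 : ∀ i, i < 39732 → P i := stepQ 39731 Q39731 (allL N39731 (tt N71018 (iv1 F362502)) (tt N71935 D137788) (tt N70977 (iv2 F219039)) (tt N71932 (iv3 F221030)) (tt N71933 (iv4 F221031)) (tt N71936 D137789) (tt N20152 (iv6 D64759)) (tt N71251 (iv7 F352949)))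
theorem Q39733 : ∀ i, i < 39733 → P i := stepQ 39732 Q39732 (allL N39732 (tt N55929 (iv1 F162175)) (tt N55928 F162171) (tt N20154 F100622) (tt N55945 (iv3 F162204)) (tt N20153 (iv4 D64760)) (tt N71937 D137791) (tt N55381 (iv6 F329327)) (tt N55930 (iv7 F162173)))
theorem Q39734 : ∀ i, i < 39734 → P i := stepQ 39733 Q39733 (allL N39733 (tt N70983 (iv1 F219059)) (tt N70982 F219058) (tt N20155 F100623) (tt N48656 F329579) (tt N70571 (iv4 F329380)) (tt N20153 (iv5 D64761)) (tt N48655 F329580) (tt N70980 (iv7 F219053)))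
theorem Q39735 : ∀ i, i < 39735 → P i := stepQ 39734 Q39734 (allL N39734 (tt N55930 (iv1 F162174)) (tt N20154 (iv0 D64763)) (tt N55929 (iv2 F218966)) (tt N61970 (iv3 F179761)) (tt N40916 F103034) (tt N29650 F344608) (tt N66340 (iv6 F336212)) (tt N55928 F218968))
theorem Q39736 : ∀ i, i < 39736 → P i := stepQ 39735 Q39735 (allL N39735 (tt N20154 (iv1 D64764)) (tt N55930 F162176) (tt N55928 F218965) (tt N71938 D137801) (tt N39622 (iv4 F100625)) (tt N71939 D137802) (tt N71940 D137803) (tt N55929 (iv7 F218964)))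
theorem Q39737 : ∀ i, i < 39737 → P i := stepQ 39736 Q39736 (allL N39736 (tt N71941 D137804) (tt N71942 D137805) (tt N71937 (iv2 F221032)) (tt N55865 (iv3 F161983)) (tt N56955 (iv4 F347230)) (tt N20154 (iv5 D64765)) (tt N55920 (iv6 F344620)) (tt N55931 (iv7 F162178)))
theorem Q39738 : ∀ i, i < 39738 → P i := stepQ 39737 Q39737 (allL N39737 (tt N71943 D137808) (tt N71944 D137809) (tt N55381 (iv2 F329326)) (tt N55866 (iv3 F161987)) (tt N20156 F100627) (tt N71945 D137810) (tt N20154 (iv6 D64766)) (tt N71946 D137811))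
theorem Q39739 : ∀ i, i < 39739 → P i := stepQ 39738 Q39738 (allL N39738 (tt N70980 (iv1 F219055)) (tt N20155 (iv0 D64767)) (tt N70983 (iv2 F386026)) (tt N54792 (iv3 F347281)) (tt N69026 (iv4 F347280)) (tt N71947 D137815) (tt N71948 D137816) (tt N70982 (iv7 F386025)))
theorem Q39740 : ∀ i, i < 39740 → P i := stepQ 39739 Q39739 (allL N39739 (tt N20155 (iv1 D64768)) (tt N70980 F219054) (tt N70982 (iv2 F386023)) (tt N71949 D137818) (tt N69027 (iv4 F345905)) (tt N71950 D137820) (tt N71951 D137821) (tt N70983 (iv7 F386027)))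
theorem Q39741 : ∀ i, i < 39741 → P i := stepQ 39740 Q39740 (allL N39740 (tt N68885 (iv1 F347252)) (tt N71952 D137823) (tt N70571 (iv2 F329379)) (tt N66389 (iv3 F204084)) (tt N20155 (iv4 D64769)) (tt N38744 F329051) (tt N71953 D137825) (tt N70984 (iv7 F219060)))
theorem Q39742 : ∀ i, i < 39742 → P i := stepQ 39741 Q39741 (allL N39741 (tt N28102 (iv1 F329334)) (tt N48779 (iv0 F329335)) (tt N48655 (iv2 F329336)) (tt N20158 F100628) (tt N71953 (iv4 F221051)) (tt N48654 F328975) (tt N20155 (iv6 D64770)) (tt N52312 (iv7 F329338)))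
theorem Q39743 : ∀ i, i < 39743 → P i := stepQ 39742 Q39742 (allL N39742 (tt N20156 (iv1 D64772)) (tt N53506 (iv0 F329330)) (tt N53440 (iv2 F329333)) (tt N54685 (iv3 F365467)) (tt N71954 D137837) (tt N71955 D137838) (tt N71956 D137839) (tt N54693 (iv7 F329332)))
theorem Q39744 : ∀ i, i < 39744 → P i := stepQ 39743 Q39743 (allL N39743 (tt N53440 (iv1 F329325)) (tt N54693 (iv0 F329324)) (tt N53506 (iv2 F329331)) (tt N20160 F100630) (tt N71946 (iv4 F221045)) (tt N53429 (iv5 F327683)) (tt N62863 (iv6 F328423)) (tt N20156 (iv7 D64774)))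
theorem Q39745 : ∀ i, i < 39745 → P i := stepQ 39744 Q39744 (allL N39744 (tt N55368 (iv1 F328541)) (tt N20157 (iv0 D64775)) (tt N39681 F166469) (tt N30403 F166214) (tt N39172 F166215) (tt N62063 F179909) (tt N71957 D137844) (tt N31511 F166466))
theorem Q39746 : ∀ i, i < 39746 → P i := stepQ 39745 Q39745 (allL N39745 (tt N20157 (iv1 D64776)) (tt N55368 (iv0 F328540)) (tt N31511 (iv2 F166472)) (tt N31433 (iv3 F166473)) (tt N39173 (iv4 F166480)) (tt N62064 (iv5 F179920)) (tt N65454 (iv6 F201759)) (tt N39681 F166471))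
theorem Q39747 : ∀ i, i < 39747 → P i := stepQ 39746 Q39746 (allL N39746 (tt N31511 (iv1 F166092)) (tt N39681 F166475) (tt N55368 (iv2 F328542)) (tt N55868 (iv3 F161994)) (tt N20160 F100631) (tt N57322 (iv5 F166218)) (tt N55925 (iv6 F162165)) (tt N20157 (iv7 D64777)))
theorem Q39748 : ∀ i, i < 39748 → P i := stepQ 39747 Q39747 (allL N39747 (tt N27336 F328976) (tt N20158 (iv0 D64778)) (tt N68262 (iv2 F333862)) (tt N71958 D137846) (tt N66461 (iv4 F336495)) (tt N48547 F333861) (tt N71959 D137849) (tt N70991 (iv7 F333864)))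
theorem Q39749 : ∀ i, i < 39749 → P i := stepQ 39748 Q39748 (allL N39748 (tt N20158 (iv1 D64779)) (tt N27336 F328977) (tt N70991 F333865) (tt N28061 (iv3 F333867)) (tt N36968 (iv4 F333868)) (tt N28060 (iv5 F333869)) (tt N68258 (iv6 F333871)) (tt N68262 F333866))
theorem Q39750 : ∀ i, i < 39750 → P i := stepQ 39749 Q39749 (allL N39749 (tt N27334 (iv1 F328551)) (tt N27333 (iv0 F328552)) (tt N25571 F328159) (tt N48654 (iv3 F328549)) (tt N50146 (iv4 F328550)) (tt N20158 (iv5 D64780)) (tt N20159 F100632) (tt N27335 (iv7 F328553)))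
theorem Q39751 : ∀ i, i < 39751 → P i := stepQ 39750 Q39750 (allL N39750 (tt N70991 (iv1 F219160)) (tt N68262 F328978) (tt N27336 F328979) (tt N52312 (iv3 F329337)) (tt N66396 (iv4 F204097)) (tt N27335 F328980) (tt N68235 (iv6 F328671)) (tt N20158 (iv7 D64781)))
theorem Q39752 : ∀ i, i < 39752 → P i := stepQ 39751 Q39751 (allL N39751 (tt N20174 (iv1 F100638)) (tt N20173 F100639) (tt N20177 F100636) (tt N66488 (iv3 F204274)) (tt N71960 D137869) (tt N20161 (iv5 D64796)) (tt N71961 D137870) (tt N20172 F100637))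
theorem Q39753 : ∀ i, i < 39753 → P i := stepQ 39752 Q39752 (allL N39752 (tt N71305 (iv1 F219809)) (tt N71304 F219808) (tt N20178 F100640) (tt N70992 (iv3 F219182)) (tt N20691 F100641) (tt N71962 D137871) (tt N20161 (iv6 D64797)) (tt N71269 (iv7 F219681)))
theorem Q39754 : ∀ i, i < 39754 → P i := stepQ 39753 Q39753 (allL N39753 (tt N71739 F220446) (tt N60927 (iv0 F204212)) (tt N71887 (iv2 F220813)) (tt N20162 (iv3 D64800)) (tt N36214 F102782) (tt N71963 D137872) (tt N71964 D137873) (tt N20168 F100644))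
theorem Q39755 : ∀ i, i < 39755 → P i := stepQ 39754 Q39754 (allL N39754 (tt N39431 F220966) (tt N69837 (iv0 F327505)) (tt N20165 F100648) (tt N71963 (iv3 F221089)) (tt N71965 D137874) (tt N20162 (iv5 D64802)) (tt N69783 (iv6 F361494)) (tt N20170 F100649))
theorem Q39756 : ∀ i, i < 39756 → P i := stepQ 39755 Q39755 (allL N39755 (tt N42227 (iv1 F323277)) (tt N71812 (iv0 F341540)) (tt N20166 F100650) (tt N71964 (iv3 F221094)) (tt N36212 F102783) (tt N71966 D137878) (tt N20162 (iv6 D64803)) (tt N71811 (iv7 F343282)))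
theorem Q39757 : ∀ i, i < 39757 → P i := stepQ 39756 Q39756 (allL N39756 (tt N20163 (iv1 D64805)) (tt N59193 F172298) (tt N70978 (iv2 F219211)) (tt N53460 (iv3 F333094)) (tt N59133 (iv4 F172299)) (tt N71967 D137880) (tt N71273 (iv6 F386013)) (tt N54789 (iv7 F361823)))
theorem Q39758 : ∀ i, i < 39758 → P i := stepQ 39757 Q39757 (allL N39757 (tt N54789 (iv1 F361820)) (tt N70978 F219046) (tt N20163 (iv2 D64806)) (tt N71887 F220812) (tt N31358 (iv4 F102791)) (tt N71968 D137882) (tt N71969 D137883) (tt N59193 (iv7 F172297)))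
theorem Q39759 : ∀ i, i < 39759 → P i := stepQ 39758 Q39758 (allL N39758 (tt N71949 (iv1 F345912)) (tt N71970 D137885) (tt N71968 (iv2 F221109)) (tt N20165 F100651) (tt N71971 D137886) (tt N20163 (iv5 D64807)) (tt N71972 D137887) (tt N71973 D137888))
theorem Q39760 : ∀ i, i < 39760 → P i := stepQ 39759 Q39759 (allL N39759 (tt N71974 D137889) (tt N54707 (iv0 F362568)) (tt N71969 (iv2 F221111)) (tt N20166 F100652) (tt N59196 (iv4 F172313)) (tt N71975 D137891) (tt N20163 (iv6 D64808)) (tt N71976 D137892))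
theorem Q39761 : ∀ i, i < 39761 → P i := stepQ 39760 Q39760 (allL N39760 (tt N70978 F219044) (tt N54789 (iv0 F361819)) (tt N59193 (iv2 F172296)) (tt N20167 F100653) (tt N31359 F102786) (tt N71973 (iv5 F221116)) (tt N54650 (iv6 F331214)) (tt N20163 (iv7 D64809)))
theorem Q39762 : ∀ i, i < 39762 → P i := stepQ 39761 Q39761 (allL N39761 (tt N20169 (iv1 F100661)) (tt N20164 (iv0 D64810)) (tt N20620 (iv2 F102538)) (tt N40790 (iv3 F102657)) (tt N39670 F100654) (tt N62321 (iv5 F320913)) (tt N71977 D137895) (tt N36210 F102537))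
theorem Q39763 : ∀ i, i < 39763 → P i := stepQ 39762 Q39762 (allL N39762 (tt N20555 F100657) (tt N36221 F102800) (tt N36206 (iv2 F102763)) (tt N20164 (iv3 D64812)) (tt N59195 (iv4 F172305)) (tt N71978 D137896) (tt N67079 (iv6 F363003)) (tt N36222 (iv7 F102794)))
theorem Q39764 : ∀ i, i < 39764 → P i := stepQ 39763 Q39763 (allL N39763 (tt N71979 D137898) (tt N40446 (iv0 F177261)) (tt N36211 (iv2 F102831)) (tt N71978 (iv3 F221130)) (tt N71980 D137899) (tt N20164 (iv5 D64813)) (tt N71981 D137900) (tt N71982 D137901))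
theorem Q39765 : ∀ i, i < 39765 → P i := stepQ 39764 Q39764 (allL N39764 (tt N44991 F324685) (tt N62387 (iv0 F333287)) (tt N36212 (iv2 F102792)) (tt N67079 (iv3 F363001)) (tt N20166 F100658) (tt N71983 D137904) (tt N20164 (iv6 D64814)) (tt N71984 D137905))
theorem Q39766 : ∀ i, i < 39766 → P i := stepQ 39765 Q39765 (allL N39765 (tt N36210 F102777) (tt N20620 F102778) (tt N20169 F100659) (tt N36222 F102779) (tt N20167 F100660) (tt N71982 (iv5 F221152)) (tt N66865 (iv6 F322434)) (tt N20164 (iv7 D64815)))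
theorem Q39767 : ∀ i, i < 39767 → P i := stepQ 39766 Q39766 (allL N39766 (tt N20170 (iv1 F100665)) (tt N20165 (iv0 D64816)) (tt N39431 (iv2 F103081)) (tt N68348 (iv3 F326700)) (tt N71985 D137907) (tt N39430 F103080) (tt N71986 D137908) (tt N69837 (iv7 F327509)))
theorem Q39768 : ∀ i, i < 39768 → P i := stepQ 39767 Q39767 (allL N39767 (tt N71987 D137909) (tt N71988 D137910) (tt N71965 (iv2 F221096)) (tt N71989 D137911) (tt N20165 (iv4 D64818)) (tt N71990 D137912) (tt N71991 D137913) (tt N71992 D137914))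
theorem Q39769 : ∀ i, i < 39769 → P i := stepQ 39768 Q39768 (allL N39768 (tt N68234 (iv1 F355789)) (tt N69785 (iv0 F354839)) (tt N69783 (iv2 F361493)) (tt N71972 (iv3 F221114)) (tt N71991 (iv4 F221173)) (tt N69765 (iv5 F411685)) (tt N20165 (iv6 D64819)) (tt N69784 (iv7 F361495)))
theorem Q39770 : ∀ i, i < 39770 → P i := stepQ 39769 Q39769 (allL N39769 (tt N69837 (iv1 F327506)) (tt N39431 F220969) (tt N20170 F100663) (tt N71973 (iv3 F221115)) (tt N71992 (iv4 F221175)) (tt N20167 F100664) (tt N71993 D137919) (tt N20165 (iv7 D64820)))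
theorem Q39771 : ∀ i, i < 39771 → P i := stepQ 39770 Q39770 (allL N39770 (tt N71811 F343283) (tt N20166 (iv0 D64821)) (tt N42227 (iv2 F343286)) (tt N54678 (iv3 F349498)) (tt N20712 (iv4 F343287)) (tt N71994 D137923) (tt N44992 (iv6 F343292)) (tt N71812 (iv7 F343285)))
theorem Q39772 : ∀ i, i < 39772 → P i := stepQ 39771 Q39771 (allL N39771 (tt N71995 D137930) (tt N62856 (iv0 F329160)) (tt N71966 (iv2 F221101)) (tt N71975 (iv3 F221117)) (tt N71996 D137932) (tt N20166 (iv5 D64823)) (tt N69765 (iv6 F411686)) (tt N71997 D137933))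
theorem Q39773 : ∀ i, i < 39773 → P i := stepQ 39772 Q39772 (allL N39772 (tt N71812 (iv1 F341541)) (tt N42227 F324684) (tt N71811 (iv2 F343279)) (tt N71976 (iv3 F221118)) (tt N71984 (iv4 F221158)) (tt N71997 (iv5 F221180)) (tt N71863 (iv6 F325059)) (tt N20166 (iv7 D64824)))
theorem Q39774 : ∀ i, i < 39774 → P i := stepQ 39773 Q39773 (allL N39773 (tt N54668 (iv1 F356208)) (tt N62445 (iv0 F342513)) (tt N20171 F100666) (tt N54650 (iv3 F331212)) (tt N66865 (iv4 F322433)) (tt N28301 F331210) (tt N20167 (iv6 D64825)) (tt N71863 (iv7 F325060)))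
theorem Q39775 : ∀ i, i < 39775 → P i := stepQ 39774 Q39774 (allL N39774 (tt N71887 (iv1 F220809)) (tt N20168 (iv0 D64826)) (tt N60927 (iv2 F177265)) (tt N54773 (iv3 F333117)) (tt N36140 F100667) (tt N60923 (iv5 F177209)) (tt N71283 (iv6 F346583)) (tt N71739 (iv7 F220445)))
theorem Q39776 : ∀ i, i < 39776 → P i := stepQ 39775 Q39775 (allL N39775 (tt N60927 F177269) (tt N71739 F220447) (tt N20168 (iv2 D64828)) (tt N59193 F172300) (tt N69554 (iv4 F323475)) (tt N71998 D137940) (tt N71999 D137941) (tt N71887 (iv7 F220810)))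
theorem Q39777 : ∀ i, i < 39777 → P i := stepQ 39776 Q39776 (allL N39776 (tt N72000 D137943) (tt N32499 F139189) (tt N71998 (iv2 F221195)) (tt N20170 F100671) (tt N50183 (iv4 F139184)) (tt N20168 (iv5 D64830)) (tt N72001 D137944) (tt N71963 (iv7 F221090)))
theorem Q39778 : ∀ i, i < 39778 → P i := stepQ 39777 Q39777 (allL N39777 (tt N47068 (iv1 F325107)) (tt N55371 (iv0 F328707)) (tt N71999 (iv2 F221200)) (tt N20171 F100672) (tt N24841 F323866) (tt N53680 (iv5 F331187)) (tt N20168 (iv6 D64831)) (tt N72002 D137948))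
theorem Q39779 : ∀ i, i < 39779 → P i := stepQ 39778 Q39778 (allL N39778 (tt N40446 (iv1 F177262)) (tt N71979 F221140) (tt N71982 (iv2 F221150)) (tt N36218 (iv3 F102773)) (tt N72003 D137949) (tt N20169 (iv5 D64832)) (tt N42653 (iv6 F320782)) (tt N36211 F102832))
theorem Q39780 : ∀ i, i < 39780 → P i := stepQ 39779 Q39779 (allL N39779 (tt N72004 D137951) (tt N54463 (iv0 F334893)) (tt N66865 (iv2 F322431)) (tt N21849 F320645) (tt N20171 F100675) (tt N21847 (iv5 F322435)) (tt N20169 (iv6 D64833)) (tt N66867 (iv7 F322438)))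
theorem Q39781 : ∀ i, i < 39781 → P i := stepQ 39780 Q39780 (allL N39780 (tt N71988 (iv1 F221171)) (tt N71987 F221170) (tt N71992 (iv2 F221174)) (tt N72005 D137955) (tt N20170 (iv4 D64834)) (tt N72006 D137956) (tt N72007 D137957) (tt N71965 (iv7 F221098)))
theorem Q39782 : ∀ i, i < 39782 → P i := stepQ 39781 Q39781 (allL N39781 (tt N71958 (iv1 F356279)) (tt N69803 (iv0 F356275)) (tt N71993 (iv2 F221177)) (tt N72001 (iv3 F221208)) (tt N72007 (iv4 F221225)) (tt N72008 D137960) (tt N20170 (iv6 D64835)) (tt N72009 D137961))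
theorem Q39783 : ∀ i, i < 39783 → P i := stepQ 39782 Q39782 (allL N39782 (tt N20171 (iv1 D64837)) (tt N71863 (iv0 F325057)) (tt N62445 (iv2 F323835)) (tt N53455 (iv3 F356212)) (tt N20726 (iv4 F325061)) (tt N72010 D137970) (tt N71280 (iv6 F359423)) (tt N54668 (iv7 F356211)))
theorem Q39784 : ∀ i, i < 39784 → P i := stepQ 39783 Q39783 (allL N39783 (tt N53511 (iv1 F331205)) (tt N53450 (iv0 F331206)) (tt N28301 (iv2 F331207)) (tt N53680 F331195) (tt N28279 (iv4 F331208)) (tt N20171 (iv5 D64838)) (tt N72008 (iv6 F221226)) (tt N28297 (iv7 F331209)))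
theorem Q39785 : ∀ i, i < 39785 → P i := stepQ 39784 Q39784 (allL N39784 (tt N62445 (iv1 F342514)) (tt N54668 (iv0 F356207)) (tt N71863 (iv2 F325058)) (tt N72002 (iv3 F221210)) (tt N66867 (iv4 F322436)) (tt N28297 F331211) (tt N71811 (iv6 F343281)) (tt N20171 (iv7 D64839)))
theorem Q39786 : ∀ i, i < 39786 → P i := stepQ 39785 Q39785 (allL N39785 (tt N20177 (iv1 F100689)) (tt N20172 (iv0 D64849)) (tt N20173 F177218) (tt N60925 (iv3 F177217)) (tt N72011 D137976) (tt N58536 F169671) (tt N72012 D137977) (tt N20174 F177219))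
theorem Q39787 : ∀ i, i < 39787 → P i := stepQ 39786 Q39786 (allL N39786 (tt N20172 (iv1 D64850)) (tt N20177 F100690) (tt N20174 F177221) (tt N72013 D137978) (tt N72014 D137979) (tt N58535 F169575) (tt N72015 D137980) (tt N20173 F177222))
theorem Q39788 : ∀ i, i < 39788 → P i := stepQ 39787 Q39787 (allL N39787 (tt N72016 D137981) (tt N72015 (iv0 F365744)) (tt N20175 F100691) (tt N40553 (iv3 F329478)) (tt N20172 (iv4 D64851)) (tt N40552 F329190) (tt N52923 (iv6 F356311)) (tt N71960 (iv7 F221083)))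
theorem Q39789 : ∀ i, i < 39789 → P i := stepQ 39788 Q39788 (allL N39788 (tt N72017 D137985) (tt N69763 (iv0 F357342)) (tt N20176 F100692) (tt N58040 (iv3 F326048)) (tt N52923 (iv4 F356310)) (tt N71289 (iv5 F219791)) (tt N20172 (iv6 D64852)) (tt N69911 (iv7 F356305)))
theorem Q39790 : ∀ i, i < 39790 → P i := stepQ 39789 Q39789 (allL N39789 (tt N71931 (iv1 F383804)) (tt N71967 (iv0 F221108)) (tt N72018 D137989) (tt N20173 (iv3 D64854)) (tt N72019 D137990) (tt N59186 (iv5 F172288)) (tt N72020 D137991) (tt N72013 (iv7 F221233)))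
theorem Q39791 : ∀ i, i < 39791 → P i := stepQ 39790 Q39790 (allL N39790 (tt N72021 D137992) (tt N72022 D137993) (tt N72011 (iv2 F221230)) (tt N72023 D137994) (tt N20173 (iv4 D64855)) (tt N72024 D137995) (tt N72025 D137996) (tt N72014 (iv7 F221235)))
theorem Q39792 : ∀ i, i < 39792 → P i := stepQ 39791 Q39791 (allL N39791 (tt N69768 (iv1 F411666)) (tt N72026 D137998) (tt N72012 (iv2 F221232)) (tt N72020 (iv3 F221247)) (tt N72025 (iv4 F221264)) (tt N72027 D137999) (tt N20173 (iv6 D64857)) (tt N72028 D138000))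
theorem Q39793 : ∀ i, i < 39793 → P i := stepQ 39792 Q39792 (allL N39792 (tt N60923 (iv1 F177210)) (tt N55736 (iv0 F161535)) (tt N60926 (iv2 F177264)) (tt N20174 (iv3 D64859)) (tt N50901 (iv4 F142970)) (tt N71400 (iv5 F220028)) (tt N72029 D138001) (tt N60925 F177216))
theorem Q39794 : ∀ i, i < 39794 → P i := stepQ 39793 Q39793 (allL N39793 (tt N72022 (iv1 F221262)) (tt N72021 F221260) (tt N72014 (iv2 F221234)) (tt N72030 D138002) (tt N20174 (iv4 D64860)) (tt N72031 D138003) (tt N72032 D138004) (tt N72011 (iv7 F221231)))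
theorem Q39795 : ∀ i, i < 39795 → P i := stepQ 39794 Q39794 (allL N39794 (tt N20175 F355780) (tt N71960 (iv0 F355781)) (tt N72015 (iv2 F221236)) (tt N72029 (iv3 F221265)) (tt N72032 (iv4 F221268)) (tt N72033 D138007) (tt N20174 (iv6 D64862)) (tt N72016 (iv7 F365747)))
theorem Q39796 : ∀ i, i < 39796 → P i := stepQ 39795 Q39795 (allL N39795 (tt N71960 (iv1 F221085)) (tt N20175 (iv0 D64863)) (tt N72016 (iv2 F365746)) (tt N72034 D138010) (tt N72035 D138011) (tt N72036 D138012) (tt N72028 (iv6 F355796)) (tt N72015 (iv7 F355782)))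
theorem Q39797 : ∀ i, i < 39797 → P i := stepQ 39796 Q39796 (allL N39796 (tt N71014 (iv1 F362695)) (tt N20182 (iv0 F362696)) (tt N71012 (iv2 F360524)) (tt N20175 (iv3 D64865)) (tt N20183 F100695) (tt N72037 D138022) (tt N72038 D138023) (tt N66258 (iv7 F203840)))
theorem Q39798 : ∀ i, i < 39798 → P i := stepQ 39797 Q39797 (allL N39797 (tt N72039 D138024) (tt N72040 D138025) (tt N40552 F329189) (tt N72037 (iv3 F221280)) (tt N62947 (iv4 F184214)) (tt N20175 (iv5 D64866)) (tt N72041 D138026) (tt N72042 D138027))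
theorem Q39799 : ∀ i, i < 39799 → P i := stepQ 39798 Q39798 (allL N39798 (tt N72043 D138028) (tt N72044 D138029) (tt N52923 (iv2 F356309)) (tt N72038 (iv3 F221281)) (tt N20176 F100696) (tt N72045 D138030) (tt N20175 (iv6 D64867)) (tt N72046 D138031))
theorem Q39800 : ∀ i, i < 39800 → P i := stepQ 39799 Q39799 (allL N39799 (tt N72015 (iv1 F365745)) (tt N72016 F221237) (tt N71960 (iv2 F221081)) (tt N66258 (iv3 F203839)) (tt N20177 F100697) (tt N72042 (iv5 F221291)) (tt N72047 D138032) (tt N20175 (iv7 D64868)))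
theorem Q39801 : ∀ i, i < 39801 → P i := stepQ 39800 Q39800 (allL N39800 (tt N69911 (iv1 F356303)) (tt N20176 (iv0 D64869)) (tt N72017 (iv2 F357340)) (tt N72048 D138034) (tt N72049 D138035) (tt N72050 D138036) (tt N72051 D138037) (tt N69763 (iv7 F355793)))
theorem Q39802 : ∀ i, i < 39802 → P i := stepQ 39801 Q39801 (allL N39801 (tt N20176 (iv1 D64870)) (tt N69911 (iv0 F356302)) (tt N69763 (iv2 F355792)) (tt N72052 D138039) (tt N72053 D138040) (tt N72054 D138041) (tt N69759 (iv6 F355791)) (tt N72017 (iv7 F357341)))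
theorem Q39803 : ∀ i, i < 39803 → P i := stepQ 39802 Q39802 (allL N39802 (tt N69763 (iv1 F357343)) (tt N72017 F221243) (tt N69911 (iv2 F356304)) (tt N20187 F100698) (tt N72046 (iv4 F221292)) (tt N71300 F219803) (tt N72055 D138043) (tt N20176 (iv7 D64871)))
theorem Q39804 : ∀ i, i < 39804 → P i := stepQ 39803 Q39803 (allL N39803 (tt N72056 D138044) (tt N72057 D138045) (tt N71961 (iv2 F221086)) (tt N20188 F100699) (tt N72047 (iv4 F221293)) (tt N72058 D138046) (tt N20177 (iv6 D64872)) (tt N72055 (iv7 F221297)))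
theorem Q39805 : ∀ i, i < 39805 → P i := stepQ 39804 Q39804 (allL N39804 (tt N71269 (iv1 F219683)) (tt N20178 (iv0 D64873)) (tt N71305 (iv2 F363376)) (tt N72059 D138048) (tt N72060 D138049) (tt N41015 (iv5 F339049)) (tt N72061 D138051) (tt N71304 (iv7 F363374)))
theorem Q39806 : ∀ i, i < 39806 → P i := stepQ 39805 Q39805 (allL N39805 (tt N20178 (iv1 D64874)) (tt N71269 F219682) (tt N71304 (iv2 F363373)) (tt N72062 D138053) (tt N72063 D138054) (tt N72064 D138055) (tt N72065 D138056) (tt N71305 (iv7 F363377)))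
theorem Q39807 : ∀ i, i < 39807 → P i := stepQ 39806 Q39806 (allL N39806 (tt N34857 (iv1 F339034)) (tt N57467 (iv0 F339035)) (tt N71962 (iv2 F221087)) (tt N20191 F100700) (tt N44485 (iv4 F339042)) (tt N20178 (iv5 D64875)) (tt N72058 (iv6 F221299)) (tt N71306 (iv7 F219812)))
theorem Q39808 : ∀ i, i < 39808 → P i := stepQ 39807 Q39807 (allL N39807 (tt N70989 (iv1 F219117)) (tt N60460 F176464) (tt N20179 (iv2 D64878)) (tt N71005 (iv3 F219235)) (tt N72066 D138060) (tt N66274 (iv5 F203888)) (tt N72067 D138061) (tt N71009 (iv7 F219250)))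
theorem Q39809 : ∀ i, i < 39809 → P i := stepQ 39808 Q39808 (allL N39808 (tt N60650 (iv1 F352470)) (tt N72068 D138063) (tt N72066 (iv2 F221303)) (tt N60581 (iv3 F176608)) (tt N20179 (iv4 D64879)) (tt N60579 (iv5 F176605)) (tt N72069 D138064) (tt N71010 (iv7 F219254)))
theorem Q39810 : ∀ i, i < 39810 → P i := stepQ 39809 Q39809 (allL N39809 (tt N72070 D138065) (tt N72071 D138066) (tt N72067 (iv2 F221305)) (tt N20180 F100701) (tt N72069 (iv4 F221307)) (tt N72072 D138067) (tt N20179 (iv6 D64880)) (tt N72073 D138068))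
theorem Q39811 : ∀ i, i < 39811 → P i := stepQ 39810 Q39810 (allL N39810 (tt N20180 (iv1 D64882)) (tt N69980 (iv0 F347006)) (tt N38817 (iv2 F347011)) (tt N72026 (iv3 F428203)) (tt N38864 (iv4 F347012)) (tt N72074 D138077) (tt N38803 (iv6 F347013)) (tt N69954 (iv7 F347010)))
theorem Q39812 : ∀ i, i < 39812 → P i := stepQ 39811 Q39811 (allL N39811 (tt N72075 D138079) (tt N72076 D138080) (tt N71008 (iv2 F219243)) (tt N72072 (iv3 F221308)) (tt N72077 D138081) (tt N20180 (iv5 D64883)) (tt N66276 (iv6 F203890)) (tt N72078 D138082))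
theorem Q39813 : ∀ i, i < 39813 → P i := stepQ 39812 Q39812 (allL N39812 (tt N38817 (iv1 F347014)) (tt N69954 (iv0 F347015)) (tt N69980 (iv2 F347007)) (tt N72073 (iv3 F221309)) (tt N66366 (iv4 F204055)) (tt N72078 (iv5 F221313)) (tt N71014 (iv6 F219261)) (tt N20180 (iv7 D64884)))
theorem Q39814 : ∀ i, i < 39814 → P i := stepQ 39813 Q39813 (allL N39813 (tt N70979 (iv1 F360513)) (tt N70976 (iv0 F360510)) (tt N20181 (iv2 D64887)) (tt N71009 (iv3 F219249)) (tt N72079 D138093) (tt N66351 (iv5 F204037)) (tt N72080 D138094) (tt N71005 (iv7 F219236)))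
theorem Q39815 : ∀ i, i < 39815 → P i := stepQ 39814 Q39814 (allL N39814 (tt N72081 D138095) (tt N67676 (iv0 F328623)) (tt N72079 (iv2 F221316)) (tt N66312 (iv3 F203966)) (tt N20181 (iv4 D64888)) (tt N72082 D138097) (tt N72083 D138098) (tt N71006 (iv7 F219240)))
theorem Q39816 : ∀ i, i < 39816 → P i := stepQ 39815 Q39815 (allL N39815 (tt N53021 (iv1 F365380)) (tt N72084 D138100) (tt N72080 (iv2 F221317)) (tt N20182 F100702) (tt N72083 (iv4 F221321)) (tt N72085 D138101) (tt N20181 (iv6 D64889)) (tt N72086 D138102))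
theorem Q39817 : ∀ i, i < 39817 → P i := stepQ 39816 Q39816 (allL N39816 (tt N20182 (iv1 D64891)) (tt N71014 F219263) (tt N66258 F362697) (tt N40556 (iv3 F362699)) (tt N66256 (iv4 F362700)) (tt N40555 (iv5 F362701)) (tt N69133 (iv6 F362702)) (tt N71012 F362698))
theorem Q39818 : ∀ i, i < 39818 → P i := stepQ 39817 Q39817 (allL N39817 (tt N72087 D138113) (tt N72088 D138114) (tt N71013 (iv2 F219259)) (tt N72085 (iv3 F221322)) (tt N72089 D138115) (tt N20182 (iv5 D64892)) (tt N66353 (iv6 F204039)) (tt N72090 D138116))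
theorem Q39819 : ∀ i, i < 39819 → P i := stepQ 39818 Q39818 (allL N39818 (tt N66258 (iv1 F360531)) (tt N71012 F219262) (tt N71014 (iv2 F219260)) (tt N72086 (iv3 F221323)) (tt N66323 (iv4 F203973)) (tt N72090 (iv5 F221327)) (tt N69980 (iv6 F347008)) (tt N20182 (iv7 D64893)))
theorem Q39820 : ∀ i, i < 39820 → P i := stepQ 39819 Q39819 (allL N39819 (tt N66256 (iv1 F203836)) (tt N20183 (iv0 D64894)) (tt N66257 (iv2 F338719)) (tt N72091 D138118) (tt N70941 (iv4 F336105)) (tt N66279 (iv5 F336106)) (tt N38914 (iv6 F336107)) (tt N39378 (iv7 F336108)))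
theorem Q39821 : ∀ i, i < 39821 → P i := stepQ 39820 Q39820 (allL N39820 (tt N66257 (iv1 F203838)) (tt N39378 (iv0 F338722)) (tt N20183 (iv2 D64896)) (tt N37127 F323626) (tt N71012 (iv4 F360526)) (tt N66248 (iv5 F203824)) (tt N37126 (iv6 F324970)) (tt N66256 (iv7 F203834)))
theorem Q39822 : ∀ i, i < 39822 → P i := stepQ 39821 Q39821 (allL N39821 (tt N38897 F348618) (tt N38884 F348619) (tt N37126 F325105) (tt N20184 F100703) (tt N72038 (iv4 F221282)) (tt N72092 D138130) (tt N20183 (iv6 D64897)) (tt N38895 F339529))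
theorem Q39823 : ∀ i, i < 39823 → P i := stepQ 39822 Q39822 (allL N39822 (tt N72093 D138142) (tt N72094 D138143) (tt N34619 F322469) (tt N72092 (iv3 F221331)) (tt N72095 D138144) (tt N20184 (iv5 D64900)) (tt N45768 F322470) (tt N70083 (iv7 F333841)))
theorem Q39824 : ∀ i, i < 39824 → P i := stepQ 39823 Q39823 (allL N39823 (tt N72096 D138152) (tt N71899 (iv0 F380786)) (tt N72097 D138154) (tt N20185 (iv3 D64903)) (tt N72098 D138155) (tt N72099 D138156) (tt N72100 D138157) (tt N69965 (iv7 F333881)))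
theorem Q39825 : ∀ i, i < 39825 → P i := stepQ 39824 Q39824 (allL N39824 (tt N67958 (iv1 F351698)) (tt N66319 (iv0 F351695)) (tt N71016 (iv2 F359615)) (tt N67912 (iv3 F333895)) (tt N20185 (iv4 D64904)) (tt N72101 D138162) (tt N67975 (iv6 F333891)) (tt N67976 (iv7 F333883)))
theorem Q39826 : ∀ i, i < 39826 → P i := stepQ 39825 Q39825 (allL N39825 (tt N72102 D138165) (tt N72103 D138166) (tt N71017 (iv2 F359619)) (tt N72099 (iv3 F221344)) (tt N72104 D138167) (tt N20185 (iv5 D64905)) (tt N72105 D138168) (tt N69968 (iv7 F333885)))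
theorem Q39827 : ∀ i, i < 39827 → P i := stepQ 39826 Q39826 (allL N39826 (tt N69133 (iv1 F363248)) (tt N69961 (iv0 F363250)) (tt N69963 (iv2 F333888)) (tt N72100 (iv3 F221345)) (tt N67975 (iv4 F333890)) (tt N72106 D138172) (tt N20185 (iv6 D64906)) (tt N67970 (iv7 F333887)))
theorem Q39828 : ∀ i, i < 39828 → P i := stepQ 39827 Q39827 (allL N39827 (tt N71929 (iv1 F441953)) (tt N72107 D138176) (tt N72108 D138177) (tt N20186 (iv3 D64908)) (tt N66201 (iv4 F364602)) (tt N72109 D138179) (tt N66199 (iv6 F333874)) (tt N71015 (iv7 F359618)))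
theorem Q39829 : ∀ i, i < 39829 → P i := stepQ 39828 Q39828 (allL N39828 (tt N66319 (iv1 F351696)) (tt N67958 (iv0 F351697)) (tt N67976 (iv2 F333882)) (tt N67999 (iv3 F359607)) (tt N20186 (iv4 D64909)) (tt N72110 D138182) (tt N67933 (iv6 F333875)) (tt N71016 (iv7 F359616)))
theorem Q39830 : ∀ i, i < 39830 → P i := stepQ 39829 Q39829 (allL N39829 (tt N72103 (iv1 F221353)) (tt N72102 F221356) (tt N69968 (iv2 F333884)) (tt N72109 (iv3 F221359)) (tt N72111 D138184) (tt N20186 (iv5 D64910)) (tt N72112 D138185) (tt N71017 (iv7 F359620)))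
theorem Q39831 : ∀ i, i < 39831 → P i := stepQ 39830 Q39830 (allL N39830 (tt N42540 (iv1 F318998)) (tt N38806 (iv0 F337829)) (tt N66490 (iv2 F204284)) (tt N72055 (iv3 F221296)) (tt N38881 F337840) (tt N72113 D138190) (tt N20187 (iv6 D64912)) (tt N20188 F100707))
theorem Q39832 : ∀ i, i < 39832 → P i := stepQ 39831 Q39831 (allL N39831 (tt N66490 (iv1 F204289)) (tt N20188 (iv0 D64913)) (tt N38806 (iv2 F338400)) (tt N43666 (iv3 F338401)) (tt N38041 (iv4 F338402)) (tt N35010 (iv5 F338403)) (tt N38039 (iv6 F338404)) (tt N42540 (iv7 F338405)))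
theorem Q39833 : ∀ i, i < 39833 → P i := stepQ 39832 Q39832 (allL N39832 (tt N20188 (iv1 D64914)) (tt N66490 F204288) (tt N42540 F338406) (tt N72114 D138197) (tt N72115 D138198) (tt N33845 (iv5 F338411)) (tt N72116 D138200) (tt N38806 F338407))
theorem Q39834 : ∀ i, i < 39834 → P i := stepQ 39833 Q39833 (allL N39833 (tt N72117 D138201) (tt N72118 D138202) (tt N66489 (iv2 F204282)) (tt N72058 (iv3 F221298)) (tt N72119 D138203) (tt N20188 (iv5 D64915)) (tt N20191 F100708) (tt N72113 (iv7 F221365)))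
theorem Q39835 : ∀ i, i < 39835 → P i := stepQ 39834 Q39834 (allL N39834 (tt N44576 (iv1 F351597)) (tt N44580 F351596) (tt N71895 (iv2 F351805)) (tt N20189 (iv3 D64917)) (tt N72120 D138207) (tt N43828 (iv5 F351598)) (tt N72121 D138209) (tt N71020 (iv7 F219271)))
theorem Q39836 : ∀ i, i < 39836 → P i := stepQ 39835 Q39835 (allL N39835 (tt N37794 (iv1 F100711)) (tt N21007 (iv0 F100710)) (tt N55996 (iv2 F202573)) (tt N38718 (iv3 F168117)) (tt N20189 (iv4 D64918)) (tt N72122 D138210) (tt N72123 D138211) (tt N65462 F202575))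
theorem Q39837 : ∀ i, i < 39837 → P i := stepQ 39836 Q39836 (allL N39836 (tt N33849 (iv1 F326303)) (tt N33840 (iv0 F326304)) (tt N33846 (iv2 F326306)) (tt N43828 F351599) (tt N34311 F325439) (tt N20189 (iv5 D64919)) (tt N48182 (iv6 F326308)) (tt N33847 (iv7 F326310)))
theorem Q39838 : ∀ i, i < 39838 → P i := stepQ 39837 Q39837 (allL N39837 (tt N70963 (iv1 F221380)) (tt N71221 (iv0 F221379)) (tt N71019 (iv2 F219270)) (tt N72121 (iv3 F221371)) (tt N72123 (iv4 F221377)) (tt N72124 D138216) (tt N20189 (iv6 D64920)) (tt N71814 (iv7 F399185)))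
theorem Q39839 : ∀ i, i < 39839 → P i := stepQ 39838 Q39838 (allL N39838 (tt N70977 (iv1 F362509)) (tt N71251 (iv0 F362497)) (tt N71935 (iv2 F362503)) (tt N20190 (iv3 D64922)) (tt N72125 D138221) (tt N52938 (iv5 F351798)) (tt N72126 D138223) (tt N71018 (iv7 F219267)))
theorem Q39840 : ∀ i, i < 39840 → P i := stepQ 39839 Q39839 (allL N39839 (tt N21007 F111882) (tt N37794 F111883) (tt N65462 F202572) (tt N30632 (iv3 F100713)) (tt N20190 (iv4 D64923)) (tt N72127 D138224) (tt N72128 D138225) (tt N55996 (iv7 F202555)))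
theorem Q39841 : ∀ i, i < 39841 → P i := stepQ 39840 Q39840 (allL N39840 (tt N33840 (iv1 F326305)) (tt N33849 (iv0 F326302)) (tt N33847 (iv2 F326309)) (tt N52938 (iv3 F351797)) (tt N43680 F325446) (tt N20190 (iv5 D64924)) (tt N72129 D138227) (tt N33846 (iv7 F326307)))
theorem Q39842 : ∀ i, i < 39842 → P i := stepQ 39841 Q39841 (allL N39841 (tt N71199 F221405) (tt N70974 (iv0 F221404)) (tt N71021 (iv2 F219274)) (tt N72126 (iv3 F221392)) (tt N72128 (iv4 F221399)) (tt N72130 D138228) (tt N20190 (iv6 D64925)) (tt N71869 (iv7 F220778)))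
theorem Q39843 : ∀ i, i < 39843 → P i := stepQ 39842 Q39842 (allL N39842 (tt N44921 F321119) (tt N20191 (iv0 D64926)) (tt N34877 (iv2 F322840)) (tt N43409 (iv3 F322842)) (tt N43091 (iv4 F322843)) (tt N62934 (iv5 F328826)) (tt N34487 (iv6 F322848)) (tt N71022 (iv7 F322833)))
theorem Q39844 : ∀ i, i < 39844 → P i := stepQ 39843 Q39843 (allL N39843 (tt N20191 (iv1 D64927)) (tt N44921 F321118) (tt N71022 (iv2 F322832)) (tt N69574 (iv3 F333415)) (tt N63723 (iv4 F322834)) (tt N63099 (iv5 F322837)) (tt N57468 (iv6 F322839)) (tt N34877 (iv7 F322841)))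
theorem Q39845 : ∀ i, i < 39845 → P i := stepQ 39844 Q39844 (allL N39844 (tt N42757 (iv1 F322850)) (tt N42804 (iv0 F322849)) (tt N42803 F321122) (tt N21732 (iv3 F322852)) (tt N20191 (iv4 D64928)) (tt N23105 F321123) (tt N72119 (iv6 F221368)) (tt N42785 F321124))
theorem Q39846 : ∀ i, i < 39846 → P i := stepQ 39845 Q39845 (allL N39845 (tt N30492 F101316) (tt N36021 (iv0 F100715)) (tt N36166 F100716) (tt N72131 D138241) (tt N20192 (iv4 D64932)) (tt N47783 F338798) (tt N72132 D138243) (tt N36167 F100714))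
theorem Q39847 : ∀ i, i < 39847 → P i := stepQ 39846 Q39846 (allL N39846 (tt N68065 F209105) (tt N39382 (iv0 F164009)) (tt N71329 (iv2 F219827)) (tt N20194 F100718) (tt N72133 D138244) (tt N20192 (iv5 D64933)) (tt N68054 (iv6 F209081)) (tt N71023 (iv7 F219284)))
theorem Q39848 : ∀ i, i < 39848 → P i := stepQ 39847 Q39847 (allL N39847 (tt N62365 (iv1 F217855)) (tt N71753 F220488) (tt N70580 (iv2 F217886)) (tt N20195 F100719) (tt N72132 (iv4 F221426)) (tt N38934 (iv5 F163999)) (tt N20192 (iv6 D64934)) (tt N70452 (iv7 F217419)))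
theorem Q39849 : ∀ i, i < 39849 → P i := stepQ 39848 Q39848 (allL N39848 (tt N71167 (iv1 F346588)) (tt N70966 (iv0 F354498)) (tt N28810 (iv2 F327699)) (tt N20193 (iv3 D64937)) (tt N72131 (iv4 F221421)) (tt N28808 F327150) (tt N72134 D138249) (tt N71025 (iv7 F219293)))
theorem Q39850 : ∀ i, i < 39850 → P i := stepQ 39849 Q39849 (allL N39849 (tt N28823 (iv1 F326324)) (tt N22324 (iv0 F326325)) (tt N28307 (iv2 F326326)) (tt N28808 (iv3 F326327)) (tt N33841 F325457) (tt N20193 (iv5 D64938)) (tt N48230 (iv6 F326328)) (tt N28824 (iv7 F326329)))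
theorem Q39851 : ∀ i, i < 39851 → P i := stepQ 39850 Q39850 (allL N39850 (tt N70962 F218936) (tt N71216 F219631) (tt N70456 (iv2 F217424)) (tt N72134 (iv3 F221430)) (tt N20195 F100723) (tt N72135 D138254) (tt N20193 (iv6 D64939)) (tt N70455 (iv7 F217422)))
theorem Q39852 : ∀ i, i < 39852 → P i := stepQ 39851 Q39851 (allL N39851 (tt N20198 (iv1 F100727)) (tt N20194 (iv0 D64940)) (tt N39280 (iv2 F100726)) (tt N39693 (iv3 F111444)) (tt N33848 F325442) (tt N39132 F100724) (tt N33156 F100725) (tt N39132 F100728))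
theorem Q39853 : ∀ i, i < 39853 → P i := stepQ 39852 Q39852 (allL N39852 (tt N72136 D138256) (tt N39483 F220142) (tt N28838 (iv2 F326322)) (tt N72137 D138257) (tt N20194 (iv4 D64941)) (tt N72138 D138258) (tt N62899 (iv6 F327695)) (tt N71027 (iv7 F219302)))
theorem Q39854 : ∀ i, i < 39854 → P i := stepQ 39853 Q39853 (allL N39853 (tt N33511 (iv1 F168127)) (tt N32116 (iv0 F168119)) (tt N41084 F168109) (tt N28829 F328193) (tt N20196 (iv4 D64945)) (tt N72139 D138260) (tt N72140 D138261) (tt N41083 (iv7 F168112)))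
theorem Q39855 : ∀ i, i < 39855 → P i := stepQ 39854 Q39854 (allL N39854 (tt N56932 F168368) (tt N60164 (iv0 F175832)) (tt N60349 (iv2 F176244)) (tt N20198 F100729) (tt N72141 D138262) (tt N20196 (iv5 D64946)) (tt N39425 (iv6 F100730)) (tt N60350 (iv7 F176249)))
theorem Q39856 : ∀ i, i < 39856 → P i := stepQ 39855 Q39855 (allL N39855 (tt N60329 (iv1 F176223)) (tt N57065 F168340) (tt N32323 F168202) (tt N20199 F100731) (tt N72140 (iv4 F221457)) (tt N29496 (iv5 F168341)) (tt N20196 (iv6 D64947)) (tt N32321 (iv7 F168201)))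
theorem Q39857 : ∀ i, i < 39857 → P i := stepQ 39856 Q39856 (allL N39856 (tt N71191 (iv1 F219610)) (tt N70971 F219299) (tt N71026 (iv2 F219296)) (tt N28830 (iv3 F327700)) (tt N20199 F100733) (tt N72142 D138270) (tt N20197 (iv6 D64950)) (tt N71860 (iv7 F220758)))
theorem Q39858 : ∀ i, i < 39858 → P i := stepQ 39857 Q39857 (allL N39857 (tt N39483 F220141) (tt N72136 F221448) (tt N71027 (iv2 F219300)) (tt N28315 (iv3 F326321)) (tt N20198 (iv4 D64951)) (tt N72143 D138272) (tt N39426 F100734) (tt N28838 (iv7 F326323)))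
theorem Q39859 : ∀ i, i < 39859 → P i := stepQ 39858 Q39858 (allL N39858 (tt N72144 D138273) (tt N72145 D138274) (tt N72146 D138275) (tt N20200 (iv3 D64952)) (tt N37249 F100735) (tt N72147 D138276) (tt N72148 D138277) (tt N44328 (iv7 F111655)))
theorem Q39860 : ∀ i, i < 39860 → P i := stepQ 39859 Q39859 (allL N39859 (tt N31549 F100738) (tt N31552 F100739) (tt N35053 F329105) (tt N72147 (iv3 F221477)) (tt N38529 F100737) (tt N20200 (iv5 D64953)) (tt N35070 (iv6 F329428)) (tt N34909 F329106))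
theorem Q39861 : ∀ i, i < 39861 → P i := stepQ 39860 Q39860 (allL N39860 (tt N72149 D138279) (tt N72150 D138280) (tt N38760 F100740) (tt N72148 (iv3 F221478)) (tt N20201 F100741) (tt N38447 F329465) (tt N20200 (iv6 D64954)) (tt N62291 (iv7 F180587)))
theorem Q39862 : ∀ i, i < 39862 → P i := stepQ 39861 Q39861 (allL N39861 (tt N38761 (iv1 F100742)) (tt N20201 (iv0 D64955)) (tt N38258 (iv2 F168235)) (tt N40153 F168313) (tt N72151 D138282) (tt N69745 (iv5 F216042)) (tt N40055 (iv6 F101082)) (tt N38759 (iv7 F100750)))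
theorem Q39863 : ∀ i, i < 39863 → P i := stepQ 39862 Q39862 (allL N39862 (tt N72152 D138283) (tt N72153 D138284) (tt N72154 D138285) (tt N20202 (iv3 D64957)) (tt N71376 (iv4 F219997)) (tt N35048 F329113) (tt N35051 (iv6 F329437)) (tt N38762 F100751))
theorem Q39864 : ∀ i, i < 39864 → P i := stepQ 39863 Q39863 (allL N39863 (tt N72155 D138288) (tt N72156 D138289) (tt N72157 D138290) (tt N20203 (iv3 D64959)) (tt N68866 (iv4 F211759)) (tt N64545 (iv5 F329496)) (tt N72158 D138292) (tt N44329 (iv7 F111662)))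
theorem Q39865 : ∀ i, i < 39865 → P i := stepQ 39864 Q39864 (allL N39864 (tt N72151 F221488) (tt N68351 (iv0 F209747)) (tt N40577 F329402) (tt N72158 (iv3 F221498)) (tt N38435 F100760) (tt N38758 F329403) (tt N20203 (iv6 D64961)) (tt N62288 (iv7 F180575)))
theorem Q39866 : ∀ i, i < 39866 → P i := stepQ 39865 Q39865 (allL N39865 (tt N72159 D138294) (tt N72160 D138295) (tt N72161 D138296) (tt N20204 (iv3 D64962)) (tt N56800 (iv4 F164824)) (tt N64430 (iv5 F329492)) (tt N62289 (iv6 F180577)) (tt N44330 (iv7 F111670)))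
theorem Q39867 : ∀ i, i < 39867 → P i := stepQ 39866 Q39866 (allL N39866 (tt N20205 (iv1 D64965)) (tt N44332 F111678) (tt N25158 (iv2 F315845)) (tt N72162 D138305) (tt N25152 F313387) (tt N72163 D138306) (tt N62286 (iv6 F320764)) (tt N44331 (iv7 F315858)))
theorem Q39868 : ∀ i, i < 39868 → P i := stepQ 39867 Q39867 (allL N39867 (tt N44331 (iv1 F111677)) (tt N25158 (iv0 F311113)) (tt N20205 (iv2 D64966)) (tt N59214 (iv3 F172339)) (tt N20214 F100764) (tt N72164 D138308) (tt N72165 D138309) (tt N44332 (iv7 F111675)))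
theorem Q39869 : ∀ i, i < 39869 → P i := stepQ 39868 Q39868 (allL N39868 (tt N48100 (iv1 F315855)) (tt N72166 D138311) (tt N72164 (iv2 F221506)) (tt N20206 F100765) (tt N72167 D138312) (tt N20205 (iv5 D64967)) (tt N69991 (iv6 F343189)) (tt N44333 (iv7 F111680)))
theorem Q39870 : ∀ i, i < 39870 → P i := stepQ 39869 Q39869 (allL N39869 (tt N63768 (iv1 F315863)) (tt N72168 D138315) (tt N72165 (iv2 F221507)) (tt N20207 F100766) (tt N20216 F100767) (tt N72169 D138316) (tt N20205 (iv6 D64968)) (tt N42903 (iv7 F315862)))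
theorem Q39871 : ∀ i, i < 39871 → P i := stepQ 39870 Q39870 (allL N39870 (tt N31570 (iv1 F100770)) (tt N20206 (iv0 D64969)) (tt N44336 F111691) (tt N72170 D138318) (tt N31392 F100769) (tt N20235 F100768) (tt N69985 (iv6 F341447)) (tt N44335 F111686))
theorem Q39872 : ∀ i, i < 39872 → P i := stepQ 39871 Q39871 (allL N39871 (tt N59221 (iv1 F172359)) (tt N20207 (iv0 D64971)) (tt N59218 F172347) (tt N72171 D138324) (tt N38438 F171766) (tt N72172 D138325) (tt N20336 F171767) (tt N59219 (iv7 F172352)))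
theorem Q39873 : ∀ i, i < 39873 → P i := stepQ 39872 Q39872 (allL N39872 (tt N20207 (iv1 D64972)) (tt N59221 F172358) (tt N59219 F172353) (tt N72173 D138326) (tt N38439 (iv4 F111424)) (tt N72174 D138327) (tt N72175 D138328) (tt N59218 F172349))
theorem Q39874 : ∀ i, i < 39874 → P i := stepQ 39873 Q39873 (allL N39873 (tt N62414 (iv1 F181223)) (tt N62416 (iv0 F181224)) (tt N59220 (iv2 F172354)) (tt N72169 (iv3 F221511)) (tt N72176 D138329) (tt N20207 (iv5 D64973)) (tt N69992 (iv6 F343182)) (tt N72177 D138330))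
theorem Q39875 : ∀ i, i < 39875 → P i := stepQ 39874 Q39874 (allL N39874 (tt N59219 (iv1 F172351)) (tt N59218 F172350) (tt N59221 (iv2 F172355)) (tt N42903 F318064) (tt N20210 F100771) (tt N72177 (iv5 F221529)) (tt N44340 (iv6 F111699)) (tt N20207 (iv7 D64974)))
theorem Q39876 : ∀ i, i < 39876 → P i := stepQ 39875 Q39875 (allL N39875 (tt N69781 (iv1 F216115)) (tt N69724 (iv0 F215958)) (tt N59222 (iv2 F172360)) (tt N72178 D138331) (tt N20208 (iv4 D64977)) (tt N70314 (iv5 F336663)) (tt N20341 F100775) (tt N59223 (iv7 F172364)))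
theorem Q39877 : ∀ i, i < 39877 → P i := stepQ 39876 Q39876 (allL N39876 (tt N22605 F111316) (tt N44187 F111317) (tt N37275 (iv2 F111327)) (tt N20209 (iv3 D64979)) (tt N66439 (iv4 F204171)) (tt N39256 F111319) (tt N72179 D138333) (tt N44186 F111320))
theorem Q39878 : ∀ i, i < 39878 → P i := stepQ 39877 Q39877 (allL N39877 (tt N69724 (iv1 F215959)) (tt N69781 F216114) (tt N59223 (iv2 F172363)) (tt N72180 D138334) (tt N20209 (iv4 D64980)) (tt N70315 (iv5 F343816)) (tt N72181 D138336) (tt N59222 (iv7 F172362)))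
theorem Q39879 : ∀ i, i < 39879 → P i := stepQ 39878 Q39878 (allL N39878 (tt N33472 (iv1 F168220)) (tt N40055 (iv0 F101081)) (tt N41061 F168318) (tt N72179 (iv3 F221534)) (tt N72181 (iv4 F221540)) (tt N20346 F100777) (tt N20209 (iv6 D64981)) (tt N20346 F100778))
theorem Q39880 : ∀ i, i < 39880 → P i := stepQ 39879 Q39879 (allL N39879 (tt N25101 F311304) (tt N20211 (iv0 D64982)) (tt N38262 F210486) (tt N65243 (iv3 F313678)) (tt N53359 (iv4 F341560)) (tt N20289 F210487) (tt N53358 (iv6 F341568)) (tt N38261 F210488))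
theorem Q39881 : ∀ i, i < 39881 → P i := stepQ 39880 Q39880 (allL N39880 (tt N20211 (iv1 D64983)) (tt N25101 (iv0 F309918)) (tt N38261 F210489) (tt N25157 (iv3 F310066)) (tt N72182 D138341) (tt N20290 F210490) (tt N56118 (iv6 F308059)) (tt N38262 F210491))
theorem Q39882 : ∀ i, i < 39882 → P i := stepQ 39881 Q39881 (allL N39881 (tt N38262 (iv1 F100783)) (tt N38261 F100781) (tt N20211 (iv2 D64984)) (tt N25097 (iv3 F312276)) (tt N71108 (iv4 F219481)) (tt N25095 F310017) (tt N58621 (iv6 F169836)) (tt N25101 F310018))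
theorem Q39883 : ∀ i, i < 39883 → P i := stepQ 39882 Q39882 (allL N39882 (tt N35482 (iv1 F313026)) (tt N48148 (iv0 F313024)) (tt N36613 (iv2 F314361)) (tt N20212 (iv3 D64992)) (tt N57647 F167304) (tt N35472 F312967) (tt N72183 D138358) (tt N36616 F312968))
theorem Q39884 : ∀ i, i < 39884 → P i := stepQ 39883 Q39883 (allL N39883 (tt N48078 F314744) (tt N48075 (iv0 F317047)) (tt N44344 F212181) (tt N72184 D138361) (tt N20212 (iv4 D64993)) (tt N72185 D138362) (tt N72186 D138363) (tt N44342 (iv7 F212184)))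
theorem Q39885 : ∀ i, i < 39885 → P i := stepQ 39884 Q39884 (allL N39884 (tt N39944 F212192) (tt N22719 F212193) (tt N39946 (iv2 F212187)) (tt N35472 F312539) (tt N42976 (iv4 F314647)) (tt N20212 (iv5 D64994)) (tt N63271 (iv6 F315001)) (tt N36615 F312540))
theorem Q39886 : ∀ i, i < 39886 → P i := stepQ 39885 Q39885 (allL N39885 (tt N56056 (iv1 F322620)) (tt N56068 (iv0 F322619)) (tt N44345 F212183) (tt N72183 (iv3 F221596)) (tt N72186 (iv4 F221600)) (tt N40630 F323526) (tt N20212 (iv6 D64995)) (tt N41809 F322556))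
theorem Q39887 : ∀ i, i < 39887 → P i := stepQ 39886 Q39886 (allL N39886 (tt N72187 D138370) (tt N48218 (iv0 F314362)) (tt N47408 (iv2 F314991)) (tt N20213 (iv3 D64997)) (tt N72188 D138373) (tt N47365 (iv5 F315000)) (tt N62325 (iv6 F327175)) (tt N44343 F212178))
theorem Q39888 : ∀ i, i < 39888 → P i := stepQ 39887 Q39887 (allL N39887 (tt N48075 (iv1 F317048)) (tt N48078 F314743) (tt N44342 F212190) (tt N69812 (iv3 F216200)) (tt N20213 (iv4 D64998)) (tt N72189 D138376) (tt N62326 (iv6 F327177)) (tt N44344 F212179))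
theorem Q39889 : ∀ i, i < 39889 → P i := stepQ 39888 Q39888 (allL N39888 (tt N22719 F212194) (tt N39944 F212195) (tt N36615 F312542) (tt N47365 (iv3 F314999)) (tt N42977 (iv4 F314648)) (tt N20213 (iv5 D64999)) (tt N72190 D138379) (tt N39946 (iv7 F212189)))
theorem Q39890 : ∀ i, i < 39890 → P i := stepQ 39889 Q39889 (allL N39889 (tt N43084 F309282) (tt N43083 F309283) (tt N20215 F100797) (tt N44319 (iv3 F111600)) (tt N23300 (iv4 F311501)) (tt N20214 (iv5 D65001)) (tt N42709 (iv6 F310410)) (tt N23297 F309284))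
theorem Q39891 : ∀ i, i < 39891 → P i := stepQ 39890 Q39890 (allL N39890 (tt N29777 (iv1 F312928)) (tt N42889 (iv0 F312929)) (tt N20216 F100798) (tt N36493 (iv3 F310665)) (tt N72165 (iv4 F221508)) (tt N42710 (iv5 F312930)) (tt N20214 (iv6 D65002)) (tt N42902 (iv7 F312931)))
theorem Q39892 : ∀ i, i < 39892 → P i := stepQ 39891 Q39891 (allL N39891 (tt N23297 F310804) (tt N20215 (iv0 D65003)) (tt N43084 F310805) (tt N38374 F100799) (tt N42851 (iv4 F313038)) (tt N20242 F211926) (tt N42681 (iv6 F310808)) (tt N43083 F310806))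
theorem Q39893 : ∀ i, i < 39893 → P i := stepQ 39892 Q39892 (allL N39892 (tt N20215 (iv1 D65004)) (tt N23297 F310287) (tt N43083 F310288) (tt N72191 D138392) (tt N42850 (iv4 F312572)) (tt N20243 F212037) (tt N72192 D138394) (tt N43084 F310289))
theorem Q39894 : ∀ i, i < 39894 → P i := stepQ 39893 Q39893 (allL N39893 (tt N42902 F313396) (tt N20216 (iv0 D65007)) (tt N29777 (iv2 F315864)) (tt N36479 (iv3 F315866)) (tt N72193 D138405) (tt N21541 (iv5 F315871)) (tt N20413 F322095) (tt N42889 (iv7 F315874)))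
theorem Q39895 : ∀ i, i < 39895 → P i := stepQ 39894 Q39894 (allL N39894 (tt N20216 (iv1 D65008)) (tt N42902 F313397) (tt N42889 (iv2 F315873)) (tt N72194 D138409) (tt N72195 D138410) (tt N24200 (iv5 F315882)) (tt N72196 D138412) (tt N29777 (iv7 F315865)))
theorem Q39896 : ∀ i, i < 39896 → P i := stepQ 39895 Q39895 (allL N39895 (tt N72197 D138445) (tt N72198 D138446) (tt N72199 D138447) (tt N20218 (iv3 D65032)) (tt N44442 (iv4 F112136)) (tt N72200 D138448) (tt N58183 (iv6 F168965)) (tt N40150 (iv7 F101242)))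
theorem Q39897 : ∀ i, i < 39897 → P i := stepQ 39896 Q39896 (allL N39896 (tt N30761 F100832) (tt N30758 F100833) (tt N40155 (iv2 F101260)) (tt N72200 (iv3 F221645)) (tt N38771 F100831) (tt N20218 (iv5 D65033)) (tt N72201 D138449) (tt N40151 (iv7 F101244)))
theorem Q39898 : ∀ i, i < 39898 → P i := stepQ 39897 Q39897 (allL N39897 (tt N72202 D138450) (tt N58334 (iv0 F364776)) (tt N72203 D138452) (tt N20219 (iv3 D65034)) (tt N44194 (iv4 F111080)) (tt N72204 D138453) (tt N72205 D138454) (tt N44299 (iv7 F111558)))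
theorem Q39899 : ∀ i, i < 39899 → P i := stepQ 39898 Q39898 (allL N39898 (tt N30752 F100835) (tt N22691 F100836) (tt N39965 F100940) (tt N72204 (iv3 F221647)) (tt N37331 F100834) (tt N20219 (iv5 D65035)) (tt N72206 D138455) (tt N39964 F100935))
theorem Q39900 : ∀ i, i < 39900 → P i := stepQ 39899 Q39899 (allL N39899 (tt N20425 F100839) (tt N20469 F100840) (tt N20467 F100837) (tt N72205 (iv3 F221648)) (tt N30886 F100838) (tt N72207 D138456) (tt N20219 (iv6 D65036)) (tt N20466 F101555))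
theorem Q39901 : ∀ i, i < 39901 → P i := stepQ 39900 Q39900 (allL N39900 (tt N72208 D138457) (tt N72209 D138458) (tt N72210 D138459) (tt N20220 (iv3 D65037)) (tt N37259 F100842) (tt N72211 D138460) (tt N57016 (iv6 F331827)) (tt N44301 (iv7 F111564)))
theorem Q39902 : ∀ i, i < 39902 → P i := stepQ 39901 Q39901 (allL N39901 (tt N22691 F100844) (tt N30752 F100845) (tt N39964 F100934) (tt N72211 (iv3 F221654)) (tt N38799 F100843) (tt N20220 (iv5 D65038)) (tt N72212 D138462) (tt N39965 (iv7 F100937)))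
theorem Q39903 : ∀ i, i < 39903 → P i := stepQ 39902 Q39902 (allL N39902 (tt N68350 F209743) (tt N69838 (iv0 F216237)) (tt N44300 (iv2 F111559)) (tt N57016 (iv3 F331825)) (tt N44326 F111650) (tt N57007 (iv5 F331824)) (tt N20220 (iv6 D65039)) (tt N57006 (iv7 F331795)))
theorem Q39904 : ∀ i, i < 39904 → P i := stepQ 39903 Q39903 (allL N39903 (tt N44303 (iv1 F111569)) (tt N44302 F111565) (tt N20221 (iv2 D65042)) (tt N57806 (iv3 F167791)) (tt N20228 F100846) (tt N72213 D138472) (tt N48458 (iv6 F312852)) (tt N44304 (iv7 F111567)))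
theorem Q39905 : ∀ i, i < 39905 → P i := stepQ 39904 Q39904 (allL N39904 (tt N72214 D138474) (tt N72215 D138475) (tt N72213 (iv2 F221668)) (tt N20222 F100847) (tt N72216 D138476) (tt N20221 (iv5 D65043)) (tt N58314 (iv6 F341395)) (tt N44305 (iv7 F111572)))
theorem Q39906 : ∀ i, i < 39906 → P i := stepQ 39905 Q39905 (allL N39905 (tt N72217 D138478) (tt N62196 (iv0 F324146)) (tt N48458 (iv2 F312851)) (tt N20223 F100848) (tt N20230 F100849) (tt N72218 D138480) (tt N20221 (iv6 D65044)) (tt N48249 (iv7 F312806)))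
theorem Q39907 : ∀ i, i < 39907 → P i := stepQ 39906 Q39906 (allL N39906 (tt N35029 F341370) (tt N20223 (iv0 D65046)) (tt N57810 F167804) (tt N72219 D138486) (tt N57550 F167805) (tt N48263 F341371) (tt N59488 (iv6 F336698)) (tt N20454 F167806))
theorem Q39908 : ∀ i, i < 39908 → P i := stepQ 39907 Q39907 (allL N39907 (tt N35027 (iv1 F341386)) (tt N35026 (iv0 F341387)) (tt N35030 F341380) (tt N72218 (iv3 F221672)) (tt N34772 (iv4 F341388)) (tt N20223 (iv5 D65047)) (tt N57986 (iv6 F341389)) (tt N34904 F341381))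
theorem Q39909 : ∀ i, i < 39909 → P i := stepQ 39908 Q39908 (allL N39908 (tt N20454 (iv1 F100851)) (tt N57810 F167809) (tt N35029 F341369) (tt N48249 F315249) (tt N20225 F100850) (tt N34904 (iv5 F341375)) (tt N44310 (iv6 F111579)) (tt N20223 (iv7 D65048)))
theorem Q39910 : ∀ i, i < 39910 → P i := stepQ 39909 Q39909 (allL N39909 (tt N62183 (iv1 F180094)) (tt N38699 (iv0 F111129)) (tt N47907 F341274) (tt N72220 D138492) (tt N20224 (iv4 D65049)) (tt N35021 (iv5 F341280)) (tt N62176 (iv6 F180071)) (tt N20445 F100853))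
theorem Q39911 : ∀ i, i < 39911 → P i := stepQ 39910 Q39910 (allL N39910 (tt N48216 F316783) (tt N72221 D138501) (tt N48499 F316784) (tt N20226 (iv3 D65051)) (tt N57637 F167264) (tt N42534 F316785) (tt N72222 D138504) (tt N44314 (iv7 F245751)))
theorem Q39912 : ∀ i, i < 39912 → P i := stepQ 39911 Q39911 (allL N39911 (tt N72223 D138506) (tt N48052 F315250) (tt N44318 F245748) (tt N72224 D138508) (tt N20226 (iv4 D65052)) (tt N72225 D138509) (tt N72226 D138510) (tt N44315 (iv7 F245753)))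
theorem Q39913 : ∀ i, i < 39913 → P i := stepQ 39912 Q39912 (allL N39912 (tt N36431 (iv1 F312244)) (tt N22699 F232820) (tt N35108 F312133) (tt N42534 (iv3 F314457)) (tt N35092 (iv4 F314458)) (tt N20226 (iv5 D65053)) (tt N72227 D138515) (tt N35105 (iv7 F312251)))
theorem Q39914 : ∀ i, i < 39914 → P i := stepQ 39913 Q39913 (allL N39913 (tt N20490 F330023) (tt N20498 (iv0 F330024)) (tt N20496 F327184) (tt N72222 (iv3 F221690)) (tt N72226 (iv4 F221694)) (tt N72228 D138519) (tt N20226 (iv6 D65054)) (tt N20495 (iv7 F327724)))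
theorem Q39915 : ∀ i, i < 39915 → P i := stepQ 39914 Q39914 (allL N39914 (tt N48052 (iv1 F312807)) (tt N72223 F221697) (tt N44315 (iv2 F245752)) (tt N72229 D138527) (tt N20227 (iv4 D65057)) (tt N72230 D138528) (tt N72231 D138529) (tt N44318 F245750))
theorem Q39916 : ∀ i, i < 39916 → P i := stepQ 39915 Q39915 (allL N39915 (tt N62606 (iv1 F312809)) (tt N66686 (iv0 F312810)) (tt N44316 (iv2 F245755)) (tt N48497 (iv3 F312255)) (tt N72231 (iv4 F221714)) (tt N72232 D138534) (tt N20227 (iv6 D65059)) (tt N72233 D138535))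
theorem Q39917 : ∀ i, i < 39917 → P i := stepQ 39916 Q39916 (allL N39916 (tt N44319 (iv1 F111603)) (tt N20229 (iv0 D65062)) (tt N44321 (iv2 F245848)) (tt N72234 D138543) (tt N28363 (iv4 F310573)) (tt N20261 (iv5 F222374)) (tt N72235 D138546) (tt N44320 F245847))
theorem Q39918 : ∀ i, i < 39918 → P i := stepQ 39917 Q39917 (allL N39917 (tt N20229 (iv1 D65063)) (tt N44319 F111602) (tt N44320 F245846) (tt N42472 (iv3 F310087)) (tt N28364 (iv4 F310574)) (tt N20262 (iv5 F222380)) (tt N42469 (iv6 F309583)) (tt N44321 (iv7 F245849)))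
theorem Q39919 : ∀ i, i < 39919 → P i := stepQ 39918 Q39918 (allL N39918 (tt N46533 (iv1 F312805)) (tt N20230 (iv0 D65066)) (tt N48248 (iv2 F312834)) (tt N72236 D138561) (tt N72237 D138562) (tt N72238 D138563) (tt N62231 (iv6 F324371)) (tt N20484 F322906))
theorem Q39920 : ∀ i, i < 39920 → P i := stepQ 39919 Q39919 (allL N39919 (tt N42875 (iv1 F316231)) (tt N35483 (iv0 F315102)) (tt N48147 (iv2 F316230)) (tt N20231 (iv3 D65074)) (tt N72239 D138585) (tt N38360 (iv5 F316340)) (tt N36378 (iv6 F316342)) (tt N20397 F100864))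
theorem Q39921 : ∀ i, i < 39921 → P i := stepQ 39920 Q39920 (allL N39920 (tt N41064 (iv1 F103269)) (tt N41261 F103743) (tt N41263 (iv2 F103745)) (tt N38360 (iv3 F316339)) (tt N40042 F313902) (tt N20231 (iv5 D65075)) (tt N30561 (iv6 F316343)) (tt N20399 F100865))
theorem Q39922 : ∀ i, i < 39922 → P i := stepQ 39921 Q39921 (allL N39921 (tt N63336 (iv1 F311659)) (tt N56118 (iv0 F308057)) (tt N72240 D138600) (tt N20234 (iv3 D65080)) (tt N71149 (iv4 F219541)) (tt N72241 D138601) (tt N58549 (iv6 F169665)) (tt N20379 F100868))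
theorem Q39923 : ∀ i, i < 39923 → P i := stepQ 39922 Q39922 (allL N39922 (tt N41049 (iv1 F103230)) (tt N44542 (iv0 F311460)) (tt N44349 (iv2 F111743)) (tt N72241 (iv3 F221774)) (tt N57698 (iv4 F313672)) (tt N20234 (iv5 D65081)) (tt N34431 (iv6 F313674)) (tt N20382 F100869))
theorem Q39924 : ∀ i, i < 39924 → P i := stepQ 39923 Q39923 (allL N39923 (tt N72242 D138603) (tt N72243 D138604) (tt N72244 D138605) (tt N20235 (iv3 D65082)) (tt N61908 (iv4 F179684)) (tt N72170 (iv5 F221514)) (tt N72245 D138606) (tt N44383 (iv7 F111873)))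
theorem Q39925 : ∀ i, i < 39925 → P i := stepQ 39924 Q39924 (allL N39924 (tt N59051 (iv1 F171826)) (tt N20768 F111880) (tt N44385 (iv2 F111876)) (tt N72245 (iv3 F221778)) (tt N38434 F100870) (tt N72246 D138607) (tt N20235 (iv6 D65083)) (tt N20527 F100871))
theorem Q39926 : ∀ i, i < 39926 → P i := stepQ 39925 Q39925 (allL N39925 (tt N20236 (iv1 D65085)) (tt N44387 F111903) (tt N35444 F316033) (tt N72247 D138614) (tt N35443 F316034) (tt N72166 (iv5 F221509)) (tt N20529 F320416) (tt N44386 (iv7 F222093)))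
theorem Q39927 : ∀ i, i < 39927 → P i := stepQ 39926 Q39926 (allL N39926 (tt N44386 (iv1 F111902)) (tt N35444 F315840) (tt N20236 (iv2 D65086)) (tt N59226 (iv3 F172367)) (tt N20244 F100872) (tt N72248 D138616) (tt N72249 D138617) (tt N44387 (iv7 F111900)))
theorem Q39928 : ∀ i, i < 39928 → P i := stepQ 39927 Q39927 (allL N39927 (tt N43695 F328071) (tt N72250 D138619) (tt N72248 (iv2 F221784)) (tt N20237 F100873) (tt N72251 D138620) (tt N20236 (iv5 D65087)) (tt N72252 D138621) (tt N44388 (iv7 F111905)))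
theorem Q39929 : ∀ i, i < 39929 → P i := stepQ 39928 Q39928 (allL N39928 (tt N72253 D138622) (tt N72254 D138623) (tt N72249 (iv2 F221787)) (tt N20238 F100874) (tt N20246 F100875) (tt N72255 D138624) (tt N20236 (iv6 D65088)) (tt N63187 (iv7 F319535)))
theorem Q39930 : ∀ i, i < 39930 → P i := stepQ 39929 Q39929 (allL N39929 (tt N20237 (iv1 D65090)) (tt N31573 F100881) (tt N34975 F329494) (tt N72256 D138628) (tt N38495 F100884) (tt N22677 F100883) (tt N35012 (iv6 F329677)) (tt N34892 F329495))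
theorem Q39931 : ∀ i, i < 39931 → P i := stepQ 39930 Q39930 (allL N39930 (tt N72257 D138630) (tt N72258 D138631) (tt N59229 (iv2 F172372)) (tt N72252 (iv3 F221790)) (tt N69751 (iv4 F216058)) (tt N72259 D138632) (tt N20237 (iv6 D65091)) (tt N72260 D138633))
theorem Q39932 : ∀ i, i < 39932 → P i := stepQ 39931 Q39931 (allL N39931 (tt N59233 (iv1 F172388)) (tt N20238 (iv0 D65092)) (tt N59230 (iv2 F172378)) (tt N72261 D138634) (tt N58970 F172379) (tt N72262 D138635) (tt N59016 F172380) (tt N59231 (iv7 F172382)))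
theorem Q39933 : ∀ i, i < 39933 → P i := stepQ 39932 Q39932 (allL N39932 (tt N20238 (iv1 D65093)) (tt N59233 F172387) (tt N59231 F172383) (tt N72263 D138636) (tt N58971 (iv4 F171628)) (tt N72264 D138637) (tt N44934 F332928) (tt N59230 F172376))
theorem Q39934 : ∀ i, i < 39934 → P i := stepQ 39933 Q39933 (allL N39933 (tt N40104 F101159) (tt N72265 D138639) (tt N59232 (iv2 F172384)) (tt N72255 (iv3 F221791)) (tt N72266 D138640) (tt N20238 (iv5 D65094)) (tt N72259 (iv6 F221802)) (tt N72267 D138641))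
theorem Q39935 : ∀ i, i < 39935 → P i := stepQ 39934 Q39934 (allL N39934 (tt N59231 (iv1 F172381)) (tt N59230 F172377) (tt N59233 (iv2 F172385)) (tt N63187 (iv3 F319534)) (tt N20241 F100886) (tt N72267 (iv5 F221805)) (tt N44391 (iv6 F111910)) (tt N20238 (iv7 D65095)))
theorem Q39936 : ∀ i, i < 39936 → P i := stepQ 39935 Q39935 (allL N39935 (tt N59244 (iv1 F172408)) (tt N31579 F172392) (tt N59234 (iv2 F172389)) (tt N72268 D138642) (tt N20239 (iv4 D65098)) (tt N72269 D138643) (tt N62400 (iv6 F181191)) (tt N59235 (iv7 F172394)))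
theorem Q39937 : ∀ i, i < 39937 → P i := stepQ 39936 Q39936 (allL N39936 (tt N57915 F168566) (tt N31710 (iv0 F100888)) (tt N58223 (iv2 F169020)) (tt N60328 (iv3 F176216)) (tt N72270 D138644) (tt N20239 (iv5 D65099)) (tt N44362 (iv6 F111776)) (tt N31779 F102478))
theorem Q39938 : ∀ i, i < 39938 → P i := stepQ 39937 Q39937 (allL N39937 (tt N31565 F169196) (tt N44220 (iv0 F169195)) (tt N44219 F168826) (tt N20240 (iv3 D65101)) (tt N72271 D138645) (tt N58363 F169194) (tt N72272 D138646) (tt N44218 (iv7 F163556)))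
theorem Q39939 : ∀ i, i < 39939 → P i := stepQ 39938 Q39938 (allL N39938 (tt N31579 F101612) (tt N59244 F172407) (tt N59235 (iv2 F172393)) (tt N72273 D138647) (tt N20240 (iv4 D65102)) (tt N64884 (iv5 F336654)) (tt N64309 (iv6 F336652)) (tt N59234 (iv7 F172391)))
theorem Q39940 : ∀ i, i < 39940 → P i := stepQ 39939 Q39939 (allL N39939 (tt N31151 F168303) (tt N59276 (iv0 F172455)) (tt N59236 (iv2 F172397)) (tt N72272 (iv3 F221812)) (tt N64309 (iv4 F336651)) (tt N30834 F100890) (tt N20240 (iv6 D65103)) (tt N59525 (iv7 F173066)))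
theorem Q39941 : ∀ i, i < 39941 → P i := stepQ 39940 Q39940 (allL N39940 (tt N40020 F101037) (tt N65286 (iv0 F316923)) (tt N44398 (iv2 F212040)) (tt N71674 (iv3 F338227)) (tt N20242 (iv4 D65106)) (tt N72274 D138653) (tt N71667 (iv6 F361536)) (tt N44396 F212039))
theorem Q39942 : ∀ i, i < 39942 → P i := stepQ 39941 Q39941 (allL N39941 (tt N62432 F320216) (tt N20771 (iv0 F326019)) (tt N44399 F212044) (tt N24947 F317704) (tt N71667 (iv4 F361535)) (tt N24946 (iv5 F319896)) (tt N20242 (iv6 D65108)) (tt N20557 F320218))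
theorem Q39943 : ∀ i, i < 39943 → P i := stepQ 39942 Q39942 (allL N39942 (tt N44268 F212042) (tt N44272 F212043) (tt N57674 (iv2 F212028)) (tt N20243 (iv3 D65110)) (tt N25118 (iv4 F315027)) (tt N72191 (iv5 F221617)) (tt N20558 F321517) (tt N44397 (iv7 F212021)))
theorem Q39944 : ∀ i, i < 39944 → P i := stepQ 39943 Q39943 (allL N39943 (tt N65286 (iv1 F316924)) (tt N40020 F212041) (tt N44396 (iv2 F212029)) (tt N59245 (iv3 F172410)) (tt N20243 (iv4 D65111)) (tt N72275 D138661) (tt N20559 F321518) (tt N44398 (iv7 F212022)))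
theorem Q39945 : ∀ i, i < 39945 → P i := stepQ 39944 Q39944 (allL N39944 (tt N39888 (iv1 F212195)) (tt N39884 (iv0 F212192)) (tt N20245 F100893) (tt N44370 (iv3 F111792)) (tt N35417 F314454) (tt N20244 (iv5 D65114)) (tt N43902 F314455) (tt N43020 F314456))
theorem Q39946 : ∀ i, i < 39946 → P i := stepQ 39945 Q39945 (allL N39945 (tt N62443 (iv1 F319541)) (tt N63188 (iv0 F319540)) (tt N20246 F100894) (tt N44371 (iv3 F111797)) (tt N72249 (iv4 F221788)) (tt N72276 D138671) (tt N20244 (iv6 D65115)) (tt N56106 (iv7 F319264)))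
theorem Q39947 : ∀ i, i < 39947 → P i := stepQ 39946 Q39946 (allL N39946 (tt N20245 (iv1 D65117)) (tt N43020 (iv0 F312537)) (tt N39884 F212187) (tt N24761 (iv3 F312532)) (tt N63271 (iv4 F312287)) (tt N22684 F212188) (tt N42976 (iv6 F312541)) (tt N39888 F212189))
theorem Q39948 : ∀ i, i < 39948 → P i := stepQ 39947 Q39947 (allL N39947 (tt N56106 (iv1 F319263)) (tt N20246 (iv0 D65120)) (tt N62443 (iv2 F319536)) (tt N55187 (iv3 F353412)) (tt N72277 D138688) (tt N55186 (iv5 F353416)) (tt N46505 (iv6 F319539)) (tt N63188 (iv7 F353419)))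
theorem Q39949 : ∀ i, i < 39949 → P i := stepQ 39948 Q39948 (allL N39948 (tt N20246 (iv1 D65121)) (tt N56106 (iv0 F319262)) (tt N63188 (iv2 F353418)) (tt N72278 D138692) (tt N72279 D138693) (tt N55817 (iv5 F355715)) (tt N72280 D138695) (tt N62443 (iv7 F319537)))
theorem Q39950 : ∀ i, i < 39950 → P i := stepQ 39949 Q39949 (allL N39949 (tt N40262 (iv1 F325726)) (tt N72281 D138697) (tt N72276 (iv2 F221827)) (tt N20249 F100897) (tt N72282 D138698) (tt N20246 (iv5 D65122)) (tt N43921 F315672) (tt N62594 (iv7 F317968)))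
theorem Q39951 : ∀ i, i < 39951 → P i := stepQ 39950 Q39950 (allL N39950 (tt N57681 (iv1 F317367)) (tt N57673 (iv0 F317345)) (tt N57679 (iv2 F317356)) (tt N20247 (iv3 D65128)) (tt N72283 D138712) (tt N65394 (iv5 F319598)) (tt N20634 F100901) (tt N44377 (iv7 F111821)))
theorem Q39952 : ∀ i, i < 39952 → P i := stepQ 39951 Q39951 (allL N39951 (tt N41226 (iv1 F103676)) (tt N41228 (iv0 F103680)) (tt N44378 (iv2 F111822)) (tt N40647 (iv3 F319600)) (tt N64221 (iv4 F318677)) (tt N20248 (iv5 D65131)) (tt N40645 (iv6 F319601)) (tt N25227 F317315))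
theorem Q39953 : ∀ i, i < 39953 → P i := stepQ 39952 Q39952 (allL N39952 (tt N31152 (iv1 F100906)) (tt N20779 F100905) (tt N41585 (iv2 F104476)) (tt N20501 F318617) (tt N30500 F100902) (tt N20500 F318618) (tt N20248 (iv6 D65132)) (tt N20633 F100903))
theorem Q39954 : ∀ i, i < 39954 → P i := stepQ 39953 Q39953 (allL N39953 (tt N24646 (iv1 F323543)) (tt N45543 (iv0 F323544)) (tt N44379 (iv2 F111826)) (tt N24795 (iv3 F323547)) (tt N20249 (iv4 D65134)) (tt N24130 (iv5 F323548)) (tt N66754 (iv6 F313280)) (tt N62596 (iv7 F317972)))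
theorem Q39955 : ∀ i, i < 39955 → P i := stepQ 39954 Q39954 (allL N39954 (tt N44255 F175906) (tt N44170 (iv0 F166195)) (tt N44228 F161388) (tt N72284 D138729) (tt N20250 (iv4 D65139)) (tt N49181 F340573) (tt N20637 F100912) (tt N44230 (iv7 F161257)))
theorem Q39956 : ∀ i, i < 39956 → P i := stepQ 39955 Q39955 (allL N39955 (tt N31939 F161374) (tt N31907 F161376) (tt N44229 (iv2 F161381)) (tt N20252 F100913) (tt N47611 (iv4 F325048)) (tt N20250 (iv5 D65140)) (tt N44381 (iv6 F111837)) (tt N31981 F100914))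
theorem Q39957 : ∀ i, i < 39957 → P i := stepQ 39956 Q39956 (allL N39956 (tt N33750 (iv1 F318398)) (tt N43363 (iv0 F318399)) (tt N43362 F320480) (tt N20251 (iv3 D65141)) (tt N72284 (iv4 F221880)) (tt N44886 (iv5 F318400)) (tt N20638 F100915) (tt N42955 F320481))
theorem Q39958 : ∀ i, i < 39958 → P i := stepQ 39957 Q39957 (allL N39957 (tt N20282 (iv1 F319249)) (tt N34033 (iv0 F318402)) (tt N72285 D138741) (tt N20253 (iv3 D65149)) (tt N71197 (iv4 F219617)) (tt N56043 (iv5 F340851)) (tt N72286 D138743) (tt N42958 (iv7 F318303)))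
theorem Q39959 : ∀ i, i < 39959 → P i := stepQ 39958 Q39958 (allL N39958 (tt N44889 (iv1 F317149)) (tt N41838 (iv0 F318277)) (tt N42956 F320475) (tt N56043 (iv3 F340850)) (tt N64219 (iv4 F322180)) (tt N20253 (iv5 D65150)) (tt N44894 (iv6 F318403)) (tt N34561 F320476))
theorem Q39960 : ∀ i, i < 39960 → P i := stepQ 39959 Q39959 (allL N39959 (tt N35767 (iv1 F100926)) (tt N20764 (iv0 F101311)) (tt N42957 (iv2 F316837)) (tt N72286 (iv3 F221888)) (tt N20254 F100922) (tt N21054 (iv5 F100924)) (tt N20253 (iv6 D65151)) (tt N20636 F100923))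
theorem Q39961 : ∀ i, i < 39961 → P i := stepQ 39960 Q39960 (allL N39960 (tt N44352 (iv1 F111759)) (tt N20255 (iv0 D65152)) (tt N35402 F316124) (tt N72287 D138746) (tt N35373 F316125) (tt N72214 (iv5 F245657)) (tt N20601 F323803) (tt N35405 F316126))
theorem Q39962 : ∀ i, i < 39962 → P i := stepQ 39961 Q39961 (allL N39961 (tt N20255 (iv1 D65153)) (tt N44352 F111761) (tt N35405 (iv2 F314689)) (tt N72288 D138749) (tt N35374 F314330) (tt N72215 (iv5 F222382)) (tt N72289 D138751) (tt N35402 F314331))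
theorem Q39963 : ∀ i, i < 39963 → P i := stepQ 39962 Q39962 (allL N39962 (tt N35402 (iv1 F313632)) (tt N35405 (iv0 F314687)) (tt N20255 (iv2 D65154)) (tt N57813 (iv3 F167822)) (tt N20263 F100927) (tt N72290 D138752) (tt N43872 (iv6 F314694)) (tt N44352 (iv7 F111758)))
theorem Q39964 : ∀ i, i < 39964 → P i := stepQ 39963 Q39963 (allL N39963 (tt N72291 D138754) (tt N72292 D138755) (tt N72290 (iv2 F221892)) (tt N20256 F100928) (tt N72293 D138756) (tt N20255 (iv5 D65155)) (tt N72294 D138757) (tt N44353 (iv7 F111763)))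
theorem Q39965 : ∀ i, i < 39965 → P i := stepQ 39964 Q39964 (allL N39964 (tt N30708 (iv1 F100933)) (tt N20256 (iv0 D65157)) (tt N39901 (iv2 F100934)) (tt N72295 D138762) (tt N38139 F100932) (tt N22658 F100931) (tt N72296 D138763) (tt N39898 (iv7 F100935)))
theorem Q39966 : ∀ i, i < 39966 → P i := stepQ 39965 Q39965 (allL N39965 (tt N20256 (iv1 D65158)) (tt N30708 F100936) (tt N39898 (iv2 F100940)) (tt N72297 D138764) (tt N38720 F100939) (tt N22659 F100938) (tt N72298 D138765) (tt N39901 F100937))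
theorem Q39967 : ∀ i, i < 39967 → P i := stepQ 39966 Q39966 (allL N39966 (tt N63992 (iv1 F329571)) (tt N63984 (iv0 F329572)) (tt N57815 (iv2 F167830)) (tt N72294 (iv3 F221895)) (tt N25229 F329260) (tt N64302 (iv5 F329573)) (tt N20256 (iv6 D65159)) (tt N64293 (iv7 F329575)))
theorem Q39968 : ∀ i, i < 39968 → P i := stepQ 39967 Q39967 (allL N39967 (tt N57818 (iv1 F167847)) (tt N20257 (iv0 D65160)) (tt N57816 (iv2 F171592)) (tt N72299 D138770) (tt N57581 F167848) (tt N62206 (iv5 F180166)) (tt N72300 D138771) (tt N57817 F171591))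
theorem Q39969 : ∀ i, i < 39969 → P i := stepQ 39968 Q39968 (allL N39968 (tt N20257 (iv1 D65161)) (tt N57818 F167846) (tt N57817 (iv2 F171589)) (tt N72301 D138772) (tt N57582 (iv4 F171582)) (tt N62207 (iv5 F180167)) (tt N56747 (iv6 F171593)) (tt N57816 (iv7 F171586)))
theorem Q39970 : ∀ i, i < 39970 → P i := stepQ 39969 Q39969 (allL N39969 (tt N72302 D138773) (tt N72303 D138774) (tt N51038 (iv2 F349177)) (tt N63185 (iv3 F319261)) (tt N28362 (iv4 F329854)) (tt N20257 (iv5 D65162)) (tt N64302 F329735) (tt N31767 F337433))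
theorem Q39971 : ∀ i, i < 39971 → P i := stepQ 39970 Q39970 (allL N39970 (tt N57817 (iv1 F167841)) (tt N57816 (iv0 F167833)) (tt N57818 (iv2 F167843)) (tt N21888 F320533) (tt N20260 F100941) (tt N31767 F337432) (tt N44359 (iv6 F111768)) (tt N20257 (iv7 D65163)))
theorem Q39972 : ∀ i, i < 39972 → P i := stepQ 39971 Q39971 (allL N39971 (tt N57836 (iv1 F167899)) (tt N30717 F167851) (tt N57819 (iv2 F167849)) (tt N72304 D138777) (tt N20258 (iv4 D65166)) (tt N72305 D138778) (tt N72306 D138779) (tt N57821 (iv7 F167859)))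
theorem Q39973 : ∀ i, i < 39973 → P i := stepQ 39972 Q39972 (allL N39972 (tt N56797 F164816) (tt N38586 (iv0 F164020)) (tt N57820 (iv2 F167852)) (tt N56849 (iv3 F164915)) (tt N72306 (iv4 F221917)) (tt N38443 F100943) (tt N20258 (iv6 D65167)) (tt N56754 (iv7 F164745)))
theorem Q39974 : ∀ i, i < 39974 → P i := stepQ 39973 Q39973 (allL N39973 (tt N30717 F101951) (tt N57836 F167898) (tt N57821 (iv2 F167857)) (tt N72307 D138780) (tt N20259 (iv4 D65170)) (tt N72308 D138781) (tt N56751 (iv6 F164730)) (tt N57819 (iv7 F167850)))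
theorem Q39975 : ∀ i, i < 39975 → P i := stepQ 39974 Q39974 (allL N39974 (tt N57671 (iv1 F245521)) (tt N57683 (iv0 F245516)) (tt N57682 (iv2 F221941)) (tt N20261 (iv3 D65172)) (tt N39983 F100978) (tt N72234 (iv5 F222373)) (tt N20618 F321300) (tt N44366 (iv7 F221949)))
theorem Q39976 : ∀ i, i < 39976 → P i := stepQ 39975 Q39975 (allL N39975 (tt N25487 F309914) (tt N25201 (iv0 F310005)) (tt N25497 (iv2 F310003)) (tt N20262 (iv3 D65177)) (tt N40009 (iv4 F101026)) (tt N42472 (iv5 F310089)) (tt N72309 D138809) (tt N25496 (iv7 F310001)))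
theorem Q39977 : ∀ i, i < 39977 → P i := stepQ 39976 Q39976 (allL N39976 (tt N20778 F317019) (tt N44530 (iv0 F314714)) (tt N44368 (iv2 F221984)) (tt N72309 (iv3 F221989)) (tt N65277 (iv4 F314713)) (tt N72310 D138816) (tt N20262 (iv6 D65180)) (tt N20622 F321304))
theorem Q39978 : ∀ i, i < 39978 → P i := stepQ 39977 Q39977 (allL N39977 (tt N48088 (iv1 F315161)) (tt N48087 (iv0 F316686)) (tt N35449 F314310) (tt N72311 D138897) (tt N20266 (iv4 D65214)) (tt N72312 D138898) (tt N72313 D138899) (tt N44411 (iv7 F222088)))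
theorem Q39979 : ∀ i, i < 39979 → P i := stepQ 39978 Q39978 (allL N39978 (tt N33946 F309706) (tt N20294 (iv0 F222425)) (tt N34449 F309707) (tt N43078 (iv3 F311894)) (tt N72314 D138903) (tt N20266 (iv5 D65215)) (tt N23880 (iv6 F311903)) (tt N44412 (iv7 F222090)))
theorem Q39980 : ∀ i, i < 39980 → P i := stepQ 39979 Q39979 (allL N39979 (tt N62483 (iv1 F320421)) (tt N20759 (iv0 F325040)) (tt N35450 F314311) (tt N48098 (iv3 F314655)) (tt N72313 (iv4 F222061)) (tt N64638 (iv5 F314371)) (tt N20266 (iv6 D65216)) (tt N20642 F320417))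
theorem Q39981 : ∀ i, i < 39981 → P i := stepQ 39980 Q39980 (allL N39980 (tt N44414 (iv1 F112014)) (tt N44413 F112013) (tt N20268 F100975) (tt N55237 (iv3 F295627)) (tt N20267 (iv4 D65222)) (tt N72315 D138923) (tt N72316 D138924) (tt N43195 (iv7 F316685)))
theorem Q39982 : ∀ i, i < 39982 → P i := stepQ 39981 Q39981 (allL N39981 (tt N42337 (iv1 F318258)) (tt N42954 (iv0 F318259)) (tt N20269 F100977) (tt N43581 F316035) (tt N72316 (iv4 F222110)) (tt N41868 (iv5 F317026)) (tt N20267 (iv6 D65224)) (tt N34151 (iv7 F318262)))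
theorem Q39983 : ∀ i, i < 39983 → P i := stepQ 39982 Q39982 (allL N39982 (tt N43195 (iv1 F316683)) (tt N20268 (iv0 D65225)) (tt N44414 (iv2 F221947)) (tt N71202 (iv3 F219623)) (tt N48507 F314602) (tt N72317 D138932) (tt N72318 D138933) (tt N44413 F221946))
theorem Q39984 : ∀ i, i < 39984 → P i := stepQ 39983 Q39983 (allL N39983 (tt N20268 (iv1 D65226)) (tt N43195 (iv0 F316682)) (tt N44413 F221942) (tt N72319 D138934) (tt N39974 (iv4 F100978)) (tt N72320 D138935) (tt N20649 F322929) (tt N44414 (iv7 F221945)))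
theorem Q39985 : ∀ i, i < 39985 → P i := stepQ 39984 Q39984 (allL N39984 (tt N72321 D138937) (tt N72322 D138938) (tt N72315 (iv2 F222108)) (tt N30648 F100979) (tt N72323 D138939) (tt N20268 (iv5 D65227)) (tt N72324 D138940) (tt N44415 (iv7 F112017)))
theorem Q39986 : ∀ i, i < 39986 → P i := stepQ 39985 Q39985 (allL N39985 (tt N72325 D138941) (tt N72326 D138942) (tt N72316 (iv2 F222109)) (tt N30649 F100980) (tt N20269 F100981) (tt N72327 D138943) (tt N20268 (iv6 D65228)) (tt N42953 (iv7 F318389)))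
theorem Q39987 : ∀ i, i < 39987 → P i := stepQ 39986 Q39986 (allL N39986 (tt N34151 (iv1 F318261)) (tt N20269 (iv0 D65233)) (tt N42337 (iv2 F318390)) (tt N72328 D138964) (tt N72329 D138965) (tt N44866 (iv5 F318392)) (tt N43398 (iv6 F318393)) (tt N42954 (iv7 F318395)))
theorem Q39988 : ∀ i, i < 39988 → P i := stepQ 39987 Q39987 (allL N39987 (tt N20269 (iv1 D65234)) (tt N34151 (iv0 F318260)) (tt N42954 (iv2 F318394)) (tt N33811 (iv3 F318396)) (tt N72330 D138970) (tt N72331 D138971) (tt N62331 (iv6 F318397)) (tt N42337 (iv7 F318391)))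
theorem Q39989 : ∀ i, i < 39989 → P i := stepQ 39988 Q39988 (allL N39988 (tt N41276 F322276) (tt N33805 (iv0 F317759)) (tt N41868 (iv2 F317025)) (tt N20271 F100984) (tt N72332 D138975) (tt N20269 (iv5 D65235)) (tt N33788 F315527) (tt N33601 (iv7 F317760)))
theorem Q39990 : ∀ i, i < 39990 → P i := stepQ 39989 Q39989 (allL N39989 (tt N33743 (iv1 F312218)) (tt N23071 F310922) (tt N41700 F310923) (tt N33788 (iv3 F313134)) (tt N64231 (iv4 F321248)) (tt N20270 (iv5 D65239)) (tt N20271 F100986) (tt N33581 (iv7 F311035)))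
theorem Q39991 : ∀ i, i < 39991 → P i := stepQ 39990 Q39990 (allL N39990 (tt N20271 (iv1 D65241)) (tt N33580 (iv0 F314516)) (tt N40192 (iv2 F101338)) (tt N72333 D138986) (tt N45543 F324827) (tt N31113 F100989) (tt N63851 (iv6 F316153)) (tt N31112 F100988))
theorem Q39992 : ∀ i, i < 39992 → P i := stepQ 39991 Q39991 (allL N39991 (tt N65371 (iv1 F313644)) (tt N65485 F219751) (tt N44403 F214156) (tt N72334 D138994) (tt N20272 (iv4 D65246)) (tt N72335 D138995) (tt N20672 F320518) (tt N44401 (iv7 F214155)))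
theorem Q39993 : ∀ i, i < 39993 → P i := stepQ 39992 Q39992 (allL N39992 (tt N42959 (iv1 F313647)) (tt N20279 F221976) (tt N35404 (iv2 F313650)) (tt N20273 (iv3 D65250)) (tt N57676 (iv4 F167380)) (tt N69655 (iv5 F215419)) (tt N72336 D139003) (tt N44402 F214168))
theorem Q39994 : ∀ i, i < 39994 → P i := stepQ 39993 Q39993 (allL N39993 (tt N65485 (iv1 F219752)) (tt N65371 (iv0 F313643)) (tt N44401 (iv2 F214170)) (tt N65471 (iv3 F201812)) (tt N20273 (iv4 D65251)) (tt N72337 D139004) (tt N72338 D139005) (tt N44403 F214169))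
theorem Q39995 : ∀ i, i < 39995 → P i := stepQ 39994 Q39994 (allL N39994 (tt N20762 (iv1 F321159)) (tt N62449 (iv0 F321158)) (tt N24961 F319068) (tt N72336 (iv3 F222180)) (tt N72338 (iv4 F222184)) (tt N24922 (iv5 F321157)) (tt N20273 (iv6 D65253)) (tt N20677 (iv7 F322215)))
theorem Q39996 : ∀ i, i < 39996 → P i := stepQ 39995 Q39995 (allL N39995 (tt N44406 (iv1 F111976)) (tt N44405 F111975) (tt N20275 F100994) (tt N55234 (iv3 F295622)) (tt N20274 (iv4 D65254)) (tt N58150 (iv5 F348814)) (tt N42929 (iv6 F316705)) (tt N44404 (iv7 F111965)))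
theorem Q39997 : ∀ i, i < 39997 → P i := stepQ 39996 Q39996 (allL N39996 (tt N44404 (iv1 F111967)) (tt N20275 (iv0 D65257)) (tt N44406 F212012) (tt N72339 D139017) (tt N36618 F313032) (tt N72340 D139018) (tt N20681 F321207) (tt N44405 F212010))
theorem Q39998 : ∀ i, i < 39998 → P i := stepQ 39997 Q39997 (allL N39997 (tt N20275 (iv1 D65258)) (tt N44404 (iv0 F111966)) (tt N44405 (iv2 F212011)) (tt N72341 D139020) (tt N36619 F313040) (tt N72342 D139021) (tt N47730 (iv6 F317705)) (tt N44406 (iv7 F212014)))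
theorem Q39999 : ∀ i, i < 39999 → P i := stepQ 39998 Q39998 (allL N39998 (tt N58356 (iv1 F343560)) (tt N67986 F208786) (tt N58150 (iv2 F348812)) (tt N20843 F100998) (tt N67432 (iv4 F208787)) (tt N20275 (iv5 D65259)) (tt N57905 (iv6 F348801)) (tt N44407 (iv7 F111979)))
theorem Q40000 : ∀ i, i < 40000 → P i := stepQ 39999 Q39999 (allL N39999 (tt N20276 (iv1 D65262)) (tt N35377 F311935) (tt N35369 F311936) (tt N35391 (iv3 F314338)) (tt N65368 (iv4 F312117)) (tt N22758 F208780) (tt N72343 D139031) (tt N35378 F311937))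
theorem Q40001 : ∀ i, i < 40001 → P i := stepQ 40000 Q40000 (allL N40000 (tt N20743 (iv1 F101011)) (tt N20742 F101012) (tt N20293 F101009) (tt N44416 (iv3 F112043)) (tt N71269 (iv4 F219680)) (tt N72344 D139061) (tt N20277 (iv6 D65274)) (tt N20691 F101010))
theorem Q40002 : ∀ i, i < 40002 → P i := stepQ 40001 Q40001 (allL N40001 (tt N48508 F312298) (tt N48506 F312299) (tt N20280 F101016) (tt N71163 (iv3 F219581)) (tt N20278 (iv4 D65278)) (tt N72345 D139067) (tt N72346 D139068) (tt N20285 F101017))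
theorem Q40003 : ∀ i, i < 40003 → P i := stepQ 40002 Q40002 (allL N40002 (tt N42958 (iv1 F314672)) (tt N72285 (iv0 F322178)) (tt N20282 F101020) (tt N48071 (iv3 F314660)) (tt N72346 (iv4 F222250)) (tt N72347 D139072) (tt N20278 (iv6 D65280)) (tt N34033 (iv7 F314671)))
theorem Q40004 : ∀ i, i < 40004 → P i := stepQ 40003 Q40003 (allL N40003 (tt N20279 (iv1 D65282)) (tt N42959 F314322) (tt N44402 (iv2 F214165)) (tt N35373 F314323) (tt N57677 (iv4 F245503)) (tt N72348 D139075) (tt N20696 F323802) (tt N35404 F314324))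
theorem Q40005 : ∀ i, i < 40005 → P i := stepQ 40004 Q40004 (allL N40004 (tt N35404 F314320) (tt N44402 (iv0 F214158)) (tt N20279 (iv2 D65283)) (tt N35414 (iv3 F314646)) (tt N30621 F210281) (tt N35390 (iv5 F314617)) (tt N72349 D139078) (tt N42959 F314321))
theorem Q40006 : ∀ i, i < 40006 → P i := stepQ 40005 Q40005 (allL N40005 (tt N30625 F101021) (tt N30623 (iv0 F101022)) (tt N30621 F210269) (tt N72350 D139079) (tt N20279 (iv4 D65284)) (tt N72351 D139080) (tt N72352 D139081) (tt N30622 F210270))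
theorem Q40007 : ∀ i, i < 40007 → P i := stepQ 40006 Q40006 (allL N40006 (tt N35391 (iv1 F314614)) (tt N35365 (iv0 F314615)) (tt N35390 (iv2 F314616)) (tt N20281 F101023) (tt N35466 F312269) (tt N20279 (iv5 D65285)) (tt N43500 F312270) (tt N21760 F312271))
theorem Q40008 : ∀ i, i < 40008 → P i := stepQ 40007 Q40007 (allL N40007 (tt N72353 D139087) (tt N72354 D139088) (tt N72349 (iv2 F222263)) (tt N20282 F101024) (tt N72352 (iv4 F222271)) (tt N72355 D139089) (tt N20279 (iv6 D65286)) (tt N43523 (iv7 F318368)))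
theorem Q40009 : ∀ i, i < 40009 → P i := stepQ 40008 Q40008 (allL N40008 (tt N44402 (iv1 F214159)) (tt N35404 (iv0 F313649)) (tt N42959 (iv2 F313648)) (tt N20283 F101025) (tt N30622 F210265) (tt N21760 F312279) (tt N21761 (iv6 F314639)) (tt N20279 (iv7 D65287)))
theorem Q40010 : ∀ i, i < 40010 → P i := stepQ 40009 Q40009 (allL N40009 (tt N20285 (iv1 F101031)) (tt N20280 (iv0 D65288)) (tt N48508 (iv2 F312264)) (tt N72356 D139092) (tt N39975 F101026) (tt N72357 D139093) (tt N72358 D139094) (tt N48506 (iv7 F312261)))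
theorem Q40011 : ∀ i, i < 40011 → P i := stepQ 40010 Q40010 (allL N40010 (tt N20280 (iv1 D65289)) (tt N20285 F101027) (tt N48506 (iv2 F312260)) (tt N70841 (iv3 F221978)) (tt N48138 F312147) (tt N72359 D139095) (tt N20703 (iv6 F324697)) (tt N48508 (iv7 F312265)))
theorem Q40012 : ∀ i, i < 40012 → P i := stepQ 40011 Q40011 (allL N40011 (tt N71166 F219588) (tt N72360 D139097) (tt N72361 D139098) (tt N20280 (iv3 D65290)) (tt N72350 (iv4 F222265)) (tt N72362 D139099) (tt N72363 D139100) (tt N72364 D139101))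
theorem Q40013 : ∀ i, i < 40013 → P i := stepQ 40012 Q40012 (allL N40012 (tt N72365 D139102) (tt N72366 D139103) (tt N72345 (iv2 F222247)) (tt N72362 (iv3 F222286)) (tt N64902 (iv4 F359389)) (tt N20280 (iv5 D65291)) (tt N72367 D139105) (tt N72368 D139106))
theorem Q40014 : ∀ i, i < 40014 → P i := stepQ 40013 Q40013 (allL N40013 (tt N72369 D139107) (tt N72370 D139108) (tt N72346 (iv2 F222249)) (tt N72363 (iv3 F222287)) (tt N20282 F101028) (tt N72371 D139109) (tt N20280 (iv6 D65292)) (tt N72372 D139110))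
theorem Q40015 : ∀ i, i < 40015 → P i := stepQ 40014 Q40014 (allL N40014 (tt N48506 F312280) (tt N48508 F312281) (tt N20285 F101029) (tt N72364 (iv3 F222288)) (tt N20283 F101030) (tt N72368 (iv5 F222292)) (tt N34030 (iv6 F314641)) (tt N20280 (iv7 D65293)))
theorem Q40016 : ∀ i, i < 40016 → P i := stepQ 40015 Q40015 (allL N40015 (tt N48134 (iv1 F309912)) (tt N44496 (iv0 F232704)) (tt N47989 (iv2 F308956)) (tt N38298 F208248) (tt N20281 (iv4 D65296)) (tt N72373 D139114) (tt N72374 D139115) (tt N47939 F308185))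
theorem Q40017 : ∀ i, i < 40017 → P i := stepQ 40016 Q40016 (allL N40016 (tt N34167 (iv1 F310037)) (tt N34237 (iv0 F310038)) (tt N34236 (iv2 F310036)) (tt N43500 (iv3 F310039)) (tt N72374 (iv4 F222303)) (tt N72375 D139119) (tt N20281 (iv6 D65297)) (tt N34061 F308018))
theorem Q40018 : ∀ i, i < 40018 → P i := stepQ 40017 Q40017 (allL N40017 (tt N34033 F316928) (tt N20282 (iv0 D65299)) (tt N42958 F320552) (tt N43362 F320549) (tt N71280 (iv4 F359422)) (tt N72376 D139125) (tt N20726 F226118) (tt N72285 F320553))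
theorem Q40019 : ∀ i, i < 40019 → P i := stepQ 40018 Q40018 (allL N40018 (tt N72377 D139132) (tt N72333 (iv0 F222155)) (tt N72347 (iv2 F222253)) (tt N72355 (iv3 F222277)) (tt N72378 D139133) (tt N20282 (iv5 D65301)) (tt N72375 (iv6 F222311)) (tt N41807 (iv7 F314679)))
theorem Q40020 : ∀ i, i < 40020 → P i := stepQ 40019 Q40019 (allL N40019 (tt N72285 (iv1 F322179)) (tt N42958 F316915) (tt N34033 F316916) (tt N43523 (iv3 F318367)) (tt N72372 (iv4 F222294)) (tt N41807 F316917) (tt N33995 F316918) (tt N20282 (iv7 D65302)))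
theorem Q40021 : ∀ i, i < 40021 → P i := stepQ 40020 Q40020 (allL N40020 (tt N39943 (iv1 F212041)) (tt N39940 (iv0 F101037)) (tt N42978 (iv2 F314645)) (tt N72379 D139143) (tt N20284 (iv4 D65307)) (tt N72380 D139144) (tt N33985 (iv6 F314656)) (tt N48070 (iv7 F314659)))
theorem Q40022 : ∀ i, i < 40022 → P i := stepQ 40021 Q40021 (allL N40021 (tt N71165 (iv1 F219585)) (tt N61908 (iv0 F179686)) (tt N71164 (iv2 F386800)) (tt N20285 (iv3 D65310)) (tt N72379 (iv4 F222328)) (tt N72381 D139155) (tt N72382 D139156) (tt N71163 F219582))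
theorem Q40023 : ∀ i, i < 40023 → P i := stepQ 40022 Q40022 (allL N40022 (tt N72366 (iv1 F222290)) (tt N72365 F222293) (tt N72368 (iv2 F222291)) (tt N72381 (iv3 F222337)) (tt N64901 (iv4 F352850)) (tt N20285 (iv5 D65311)) (tt N72383 D139158) (tt N72345 (iv7 F222248)))
theorem Q40024 : ∀ i, i < 40024 → P i := stepQ 40023 Q40023 (allL N40023 (tt N72384 D139159) (tt N72385 D139160) (tt N34030 (iv2 F314640)) (tt N72382 (iv3 F222338)) (tt N20287 F101040) (tt N72386 D139161) (tt N20285 (iv6 D65312)) (tt N34032 (iv7 F314670)))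
theorem Q40025 : ∀ i, i < 40025 → P i := stepQ 40024 Q40024 (allL N40024 (tt N44496 (iv1 F232705)) (tt N48134 (iv0 F309911)) (tt N47939 F308014) (tt N38306 F208252) (tt N20286 (iv4 D65313)) (tt N68357 F209939) (tt N29786 F308015) (tt N47989 (iv7 F308958)))
theorem Q40026 : ∀ i, i < 40026 → P i := stepQ 40025 Q40025 (allL N40025 (tt N44525 (iv1 F112413)) (tt N44524 F112409) (tt N20291 F101044) (tt N68577 F211014) (tt N20288 (iv4 D65329)) (tt N66857 F210478) (tt N72387 D139181) (tt N44526 (iv7 F112411)))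
theorem Q40027 : ∀ i, i < 40027 → P i := stepQ 40026 Q40026 (allL N40026 (tt N72388 D139182) (tt N72389 D139183) (tt N20292 F101045) (tt N44426 (iv3 F112084)) (tt N72387 (iv4 F222354)) (tt N20730 F101046) (tt N20288 (iv6 D65330)) (tt N72390 D139184))
theorem Q40028 : ∀ i, i < 40028 → P i := stepQ 40027 Q40027 (allL N40027 (tt N69655 (iv1 F248141)) (tt N72348 (iv0 F222261)) (tt N72391 D139186) (tt N20289 (iv3 D65332)) (tt N57468 F166819) (tt N65243 (iv5 F313679)) (tt N63723 (iv6 F312715)) (tt N44544 (iv7 F209828)))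
theorem Q40029 : ∀ i, i < 40029 → P i := stepQ 40028 Q40028 (allL N40028 (tt N72392 D139188) (tt N72393 D139189) (tt N44546 (iv2 F209835)) (tt N69575 (iv3 F214914)) (tt N20289 (iv4 D65333)) (tt N43117 (iv5 F232828)) (tt N43079 (iv6 F232501)) (tt N44545 (iv7 F209829)))
theorem Q40030 : ∀ i, i < 40030 → P i := stepQ 40029 Q40029 (allL N40029 (tt N72393 (iv1 F222383)) (tt N72392 F222381) (tt N44545 (iv2 F209840)) (tt N21832 F310064) (tt N20290 (iv4 D65338)) (tt N37485 F209822) (tt N21831 F310065) (tt N44546 F209823))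
theorem Q40031 : ∀ i, i < 40031 → P i := stepQ 40030 Q40030 (allL N40030 (tt N44526 (iv1 F112412)) (tt N20291 (iv0 D65341)) (tt N44525 F210934) (tt N68978 (iv3 F212285)) (tt N72394 D139200) (tt N48455 F311160) (tt N66956 F311161) (tt N44524 (iv7 F210939)))
theorem Q40032 : ∀ i, i < 40032 → P i := stepQ 40031 Q40031 (allL N40031 (tt N46555 F312995) (tt N25453 F307183) (tt N66857 (iv2 F210479)) (tt N27731 F311365) (tt N44917 (iv4 F313766)) (tt N20291 (iv5 D65343)) (tt N57463 F210944) (tt N44527 (iv7 F112416)))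
theorem Q40033 : ∀ i, i < 40033 → P i := stepQ 40032 Q40032 (allL N40032 (tt N72395 D139203) (tt N72396 D139204) (tt N72387 (iv2 F222352)) (tt N44532 (iv3 F112431)) (tt N20292 F101049) (tt N72397 D139205) (tt N20291 (iv6 D65344)) (tt N72398 D139206))
theorem Q40034 : ∀ i, i < 40034 → P i := stepQ 40033 Q40033 (allL N40033 (tt N72390 (iv1 F222365)) (tt N20292 (iv0 D65345)) (tt N72388 (iv2 F313503)) (tt N43516 (iv3 F313494)) (tt N72399 D139209) (tt N63530 (iv5 F313495)) (tt N43514 (iv6 F313496)) (tt N72389 (iv7 F313507)))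
theorem Q40035 : ∀ i, i < 40035 → P i := stepQ 40034 Q40034 (allL N40034 (tt N20292 (iv1 D65346)) (tt N72390 F222364) (tt N72389 (iv2 F313505)) (tt N72400 D139213) (tt N72241 (iv4 F313670)) (tt N63529 (iv5 F340102)) (tt N72401 D139216) (tt N72388 (iv7 F313504)))
theorem Q40036 : ∀ i, i < 40036 → P i := stepQ 40035 Q40035 (allL N40035 (tt N72389 (iv1 F222358)) (tt N72388 F222363) (tt N72390 (iv2 F222359)) (tt N20297 F101050) (tt N72398 (iv4 F222407)) (tt N20741 F101051) (tt N44550 (iv6 F112482)) (tt N20292 (iv7 D65347)))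
theorem Q40037 : ∀ i, i < 40037 → P i := stepQ 40036 Q40036 (allL N40036 (tt N20691 (iv1 F101052)) (tt N20293 (iv0 D65348)) (tt N20743 (iv2 F338977)) (tt N72402 D139218) (tt N72403 D139219) (tt N43143 (iv5 F333273)) (tt N72404 D139221) (tt N20742 F338976))
theorem Q40038 : ∀ i, i < 40038 → P i := stepQ 40037 Q40037 (allL N40037 (tt N20293 (iv1 D65349)) (tt N20691 F101053) (tt N20742 F338975) (tt N48103 F339084) (tt N72405 D139224) (tt N43144 (iv5 F338981)) (tt N72406 D139226) (tt N20743 (iv7 F338978)))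
theorem Q40039 : ∀ i, i < 40039 → P i := stepQ 40038 Q40038 (allL N40038 (tt N28291 (iv1 F332518)) (tt N72407 D139228) (tt N72344 (iv2 F222227)) (tt N20298 F101054) (tt N64552 (iv4 F316528)) (tt N20293 (iv5 D65350)) (tt N44549 (iv6 F112480)) (tt N20744 F101055))
theorem Q40040 : ∀ i, i < 40040 → P i := stepQ 40039 Q40039 (allL N40039 (tt N34449 F309709) (tt N44412 (iv0 F245869)) (tt N20294 (iv2 D65353)) (tt N37208 F101056) (tt N69295 (iv4 F213671)) (tt N25128 (iv5 F311914)) (tt N25078 F309710) (tt N33946 F309711))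
theorem Q40041 : ∀ i, i < 40041 → P i := stepQ 40040 Q40040 (allL N40040 (tt N72408 D139241) (tt N47286 (iv0 F309287)) (tt N69295 (iv2 F213670)) (tt N30681 F101058) (tt N20294 (iv4 D65354)) (tt N68545 (iv5 F210800)) (tt N63564 (iv6 F309187)) (tt N37567 F101059))
theorem Q40042 : ∀ i, i < 40042 → P i := stepQ 40041 Q40041 (allL N40041 (tt N69654 (iv1 F313937)) (tt N72409 D139269) (tt N72410 D139270) (tt N20296 (iv3 D65366)) (tt N69336 (iv4 F237552)) (tt N64056 (iv5 F313291)) (tt N72411 D139273) (tt N44438 (iv7 F200083)))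
theorem Q40043 : ∀ i, i < 40043 → P i := stepQ 40042 Q40042 (allL N40042 (tt N63109 (iv1 F309197)) (tt N63730 (iv0 F309132)) (tt N44439 (iv2 F200077)) (tt N72411 (iv3 F222454)) (tt N39920 (iv4 F313902)) (tt N37954 F313399) (tt N20296 (iv6 D65369)) (tt N40249 (iv7 F313403)))
theorem Q40044 : ∀ i, i < 40044 → P i := stepQ 40043 Q40043 (allL N40043 (tt N38919 (iv1 F315016)) (tt N38916 (iv0 F315018)) (tt N41057 (iv2 F103244)) (tt N72412 D139278) (tt N20298 (iv4 D65370)) (tt N33464 F101066) (tt N44552 (iv6 F112490)) (tt N20767 F101065))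
theorem Q40045 : ∀ i, i < 40045 → P i := stepQ 40044 Q40044 (allL N40044 (tt N20430 (iv1 F101067)) (tt N20299 (iv0 D65371)) (tt N35738 (iv2 F166444)) (tt N58748 F170580) (tt N31774 (iv4 F166448)) (tt N72413 D139279) (tt N72414 D139280) (tt N58350 (iv7 F169175)))
theorem Q40046 : ∀ i, i < 40046 → P i := stepQ 40045 Q40045 (allL N40045 (tt N38392 (iv1 F101070)) (tt N20300 (iv0 D65373)) (tt N38391 F181257) (tt N31520 F101069) (tt N72415 D139281) (tt N72416 D139282) (tt N72417 D139283) (tt N38390 (iv7 F181256)))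
theorem Q40047 : ∀ i, i < 40047 → P i := stepQ 40046 Q40046 (allL N40046 (tt N20300 (iv1 D65374)) (tt N38392 F101073) (tt N38390 (iv2 F181258)) (tt N72418 D139284) (tt N67136 (iv4 F206753)) (tt N72419 D139285) (tt N72420 D139286) (tt N38391 F181259))
theorem Q40048 : ∀ i, i < 40048 → P i := stepQ 40047 Q40047 (allL N40047 (tt N38391 (iv1 F101074)) (tt N38390 F101072) (tt N20300 (iv2 D65375)) (tt N62250 (iv3 F180481)) (tt N66524 (iv4 F204355)) (tt N72421 D139287) (tt N72422 D139288) (tt N38392 F101071))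
theorem Q40049 : ∀ i, i < 40049 → P i := stepQ 40048 Q40048 (allL N40048 (tt N72423 D139289) (tt N72424 D139290) (tt N72421 (iv2 F222485)) (tt N20301 F101075) (tt N72425 D139291) (tt N20300 (iv5 D65376)) (tt N71127 (iv6 F356109)) (tt N38393 F101076))
theorem Q40050 : ∀ i, i < 40050 → P i := stepQ 40049 Q40049 (allL N40049 (tt N72426 D139293) (tt N72427 D139294) (tt N72422 (iv2 F222489)) (tt N20302 F101077) (tt N66525 (iv4 F204361)) (tt N70936 (iv5 F357402)) (tt N20300 (iv6 D65377)) (tt N59267 (iv7 F172431)))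
theorem Q40051 : ∀ i, i < 40051 → P i := stepQ 40050 Q40050 (allL N40050 (tt N72428 D139296) (tt N72429 D139297) (tt N62253 (iv2 F180489)) (tt N71127 (iv3 F356108)) (tt N59447 (iv4 F172896)) (tt N71125 (iv5 F356113)) (tt N20301 (iv6 D65378)) (tt N72430 D139299))
theorem Q40052 : ∀ i, i < 40052 → P i := stepQ 40051 Q40051 (allL N40051 (tt N31591 (iv1 F101078)) (tt N20302 (iv0 D65379)) (tt N59274 (iv2 F172449)) (tt N72431 D139300) (tt N31449 (iv4 F168334)) (tt N72432 D139301) (tt N72433 D139302) (tt N59273 F172445))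
theorem Q40053 : ∀ i, i < 40053 → P i := stepQ 40052 Q40052 (allL N40052 (tt N20302 (iv1 D65380)) (tt N31591 F101079) (tt N59273 F172444) (tt N72434 D139303) (tt N31450 (iv4 F170585)) (tt N65042 (iv5 F342821)) (tt N64434 (iv6 F342823)) (tt N59274 (iv7 F172447)))
theorem Q40054 : ∀ i, i < 40054 → P i := stepQ 40053 Q40053 (allL N40053 (tt N72435 D139306) (tt N72436 D139307) (tt N62254 (iv2 F180490)) (tt N70936 (iv3 F357400)) (tt N72437 D139308) (tt N20302 (iv5 D65381)) (tt N71125 (iv6 F356114)) (tt N59275 (iv7 F172450)))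
theorem Q40055 : ∀ i, i < 40055 → P i := stepQ 40054 Q40054 (allL N40054 (tt N44385 F168212) (tt N20527 F168213) (tt N20768 F168214) (tt N72438 D139309) (tt N20303 (iv4 D65384)) (tt N72439 D139310) (tt N72440 D139311) (tt N59051 (iv7 F171827)))
theorem Q40056 : ∀ i, i < 40056 → P i := stepQ 40055 Q40055 (allL N40055 (tt N39878 F101081) (tt N40066 (iv0 F101107)) (tt N20769 (iv2 F168227)) (tt N56796 F168215) (tt N72441 D139312) (tt N20303 (iv5 D65385)) (tt N39861 F101082) (tt N40081 (iv7 F101140)))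
theorem Q40057 : ∀ i, i < 40057 → P i := stepQ 40056 Q40056 (allL N40056 (tt N20547 F101084) (tt N44393 (iv0 F111915)) (tt N20770 (iv2 F168228)) (tt N56797 F168216) (tt N72440 (iv4 F222503)) (tt N38416 F101083) (tt N20303 (iv6 D65386)) (tt N38502 (iv7 F101129)))
theorem Q40058 : ∀ i, i < 40058 → P i := stepQ 40057 Q40057 (allL N40057 (tt N59467 (iv1 F172960)) (tt N20304 (iv0 D65391)) (tt N59466 (iv2 F406002)) (tt N72442 D139314) (tt N72443 D139315) (tt N72444 D139316) (tt N72445 D139317) (tt N59465 (iv7 F406007)))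
theorem Q40059 : ∀ i, i < 40059 → P i := stepQ 40058 Q40058 (allL N40058 (tt N20304 (iv1 D65392)) (tt N59467 F172962) (tt N59465 (iv2 F406006)) (tt N72446 D139319) (tt N72447 D139320) (tt N72448 D139321) (tt N72449 D139322) (tt N59466 (iv7 F406003)))
theorem Q40060 : ∀ i, i < 40060 → P i := stepQ 40059 Q40059 (allL N40059 (tt N59466 (iv1 F172961)) (tt N59465 F172956) (tt N20304 (iv2 D65393)) (tt N20332 F101088) (tt N56737 (iv4 F164686)) (tt N28544 (iv5 F329481)) (tt N26997 F329201) (tt N59467 (iv7 F172959)))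
theorem Q40061 : ∀ i, i < 40061 → P i := stepQ 40060 Q40060 (allL N40060 (tt N72450 D139325) (tt N72451 D139326) (tt N28544 F329669) (tt N20305 F101089) (tt N72452 D139327) (tt N20304 (iv5 D65394)) (tt N26647 (iv6 F329789)) (tt N59044 (iv7 F171817)))
theorem Q40062 : ∀ i, i < 40062 → P i := stepQ 40061 Q40061 (allL N40061 (tt N52915 (iv1 F329821)) (tt N72453 D139334) (tt N20335 F101091) (tt N26647 (iv3 F329788)) (tt N59335 (iv4 F172638)) (tt N26646 F329713) (tt N20305 (iv6 D65396)) (tt N28219 (iv7 F329825)))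
theorem Q40063 : ∀ i, i < 40063 → P i := stepQ 40062 Q40062 (allL N40062 (tt N20339 (iv1 F101096)) (tt N20306 (iv0 D65397)) (tt N20336 F103516) (tt N72454 D139337) (tt N30369 (iv4 F101098)) (tt N49449 (iv5 F328895)) (tt N59218 F172348) (tt N20337 F103517))
theorem Q40064 : ∀ i, i < 40064 → P i := stepQ 40063 Q40063 (allL N40063 (tt N20306 (iv1 D65398)) (tt N20339 F101092) (tt N20337 F103518) (tt N71514 (iv3 F220133)) (tt N57973 (iv4 F168674)) (tt N72455 D139339) (tt N72456 D139340) (tt N20336 F103519))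
theorem Q40065 : ∀ i, i < 40065 → P i := stepQ 40064 Q40064 (allL N40064 (tt N49012 F329609) (tt N31409 F111411) (tt N20341 F101215) (tt N72457 D139346) (tt N20307 (iv4 D65403)) (tt N52762 (iv5 F329764)) (tt N59222 (iv6 F172361)) (tt N20344 F101216))
theorem Q40066 : ∀ i, i < 40066 → P i := stepQ 40065 Q40065 (allL N40065 (tt N31409 F111408) (tt N49012 F329610) (tt N20344 F101207) (tt N28606 (iv3 F329765)) (tt N20308 (iv4 D65406)) (tt N72458 D139349) (tt N72459 D139350) (tt N20341 F101208))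
theorem Q40067 : ∀ i, i < 40067 → P i := stepQ 40066 Q40066 (allL N40066 (tt N40055 F101107) (tt N33472 (iv0 F168219)) (tt N20346 F101204) (tt N65924 (iv3 F202877)) (tt N72459 (iv4 F222565)) (tt N41061 (iv5 F168317)) (tt N20308 (iv6 D65407)) (tt N41061 (iv7 F168319)))
theorem Q40068 : ∀ i, i < 40068 → P i := stepQ 40067 Q40067 (allL N40067 (tt N62304 F180757) (tt N72460 D139351) (tt N72461 D139352) (tt N20310 (iv3 D65408)) (tt N60362 (iv4 F176277)) (tt N69719 (iv5 F215943)) (tt N72462 D139353) (tt N31416 F101108))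
theorem Q40069 : ∀ i, i < 40069 → P i := stepQ 40068 Q40068 (allL N40068 (tt N20341 F101949) (tt N20344 F101950) (tt N31409 F101109) (tt N72462 (iv3 F222575)) (tt N31394 F101110) (tt N49013 (iv5 F329767)) (tt N20310 (iv6 D65409)) (tt N49012 F329611))
theorem Q40070 : ∀ i, i < 40070 → P i := stepQ 40069 Q40069 (allL N40069 (tt N62257 (iv1 F180496)) (tt N20311 (iv0 D65410)) (tt N62256 (iv2 F357515)) (tt N72463 D139356) (tt N72464 D139357) (tt N72423 (iv5 F357473)) (tt N72465 D139359) (tt N62255 (iv7 F357523)))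
theorem Q40071 : ∀ i, i < 40071 → P i := stepQ 40070 Q40070 (allL N40070 (tt N20311 (iv1 D65411)) (tt N62257 F180498) (tt N62255 (iv2 F357521)) (tt N28632 (iv3 F357498)) (tt N72466 D139362) (tt N72424 (iv5 F357488)) (tt N28609 F357497) (tt N62256 (iv7 F357518)))
theorem Q40072 : ∀ i, i < 40072 → P i := stepQ 40071 Q40071 (allL N40071 (tt N62256 (iv1 F180497)) (tt N62255 F180492) (tt N20311 (iv2 D65412)) (tt N58130 (iv3 F168902)) (tt N62645 (iv4 F182914)) (tt N72467 D139365) (tt N72468 D139366) (tt N62257 (iv7 F180495)))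
theorem Q40073 : ∀ i, i < 40073 → P i := stepQ 40072 Q40072 (allL N40072 (tt N69690 (iv1 F393165)) (tt N69694 (iv0 F393166)) (tt N72467 (iv2 F222584)) (tt N20312 F101111) (tt N72469 D139369) (tt N20311 (iv5 D65413)) (tt N72470 D139370) (tt N62258 (iv7 F180500)))
theorem Q40074 : ∀ i, i < 40074 → P i := stepQ 40073 Q40073 (allL N40073 (tt N72471 D139371) (tt N72472 D139372) (tt N72468 (iv2 F222585)) (tt N20313 F101112) (tt N62647 (iv4 F182922)) (tt N72473 D139373) (tt N20311 (iv6 D65414)) (tt N72474 D139374))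
theorem Q40075 : ∀ i, i < 40075 → P i := stepQ 40074 Q40074 (allL N40074 (tt N64808 (iv1 F363106)) (tt N64510 (iv0 F363014)) (tt N58132 (iv2 F168909)) (tt N72470 (iv3 F222586)) (tt N59424 (iv4 F172879)) (tt N72475 D139377) (tt N20312 (iv6 D65415)) (tt N64871 (iv7 F364224)))
theorem Q40076 : ∀ i, i < 40076 → P i := stepQ 40075 Q40075 (allL N40075 (tt N58127 (iv1 F168898)) (tt N20313 (iv0 D65416)) (tt N58123 F171929) (tt N42147 (iv3 F349409)) (tt N40340 F168899) (tt N72476 D139380) (tt N72477 D139381) (tt N58124 F171923))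
theorem Q40077 : ∀ i, i < 40077 → P i := stepQ 40076 Q40076 (allL N40076 (tt N20313 (iv1 D65417)) (tt N58127 F168897) (tt N58124 F171926) (tt N72478 D139382) (tt N40341 F171677) (tt N72479 D139383) (tt N72150 (iv6 F223602)) (tt N58123 (iv7 F171928)))
theorem Q40078 : ∀ i, i < 40078 → P i := stepQ 40077 Q40077 (allL N40077 (tt N72480 D139385) (tt N59297 (iv0 F172520)) (tt N58126 (iv2 F168892)) (tt N72473 (iv3 F222587)) (tt N72481 D139386) (tt N20313 (iv5 D65418)) (tt N72475 (iv6 F222589)) (tt N72482 D139387))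
theorem Q40079 : ∀ i, i < 40079 → P i := stepQ 40078 Q40078 (allL N40078 (tt N58124 (iv1 F168889)) (tt N58123 F168896) (tt N58127 (iv2 F168893)) (tt N72474 (iv3 F222588)) (tt N20316 F101113) (tt N72482 (iv5 F222596)) (tt N44341 (iv6 F111704)) (tt N20313 (iv7 D65419)))
theorem Q40080 : ∀ i, i < 40080 → P i := stepQ 40079 Q40079 (allL N40079 (tt N62273 (iv1 F180543)) (tt N20326 F168883) (tt N58121 (iv2 F168880)) (tt N72483 D139388) (tt N20314 (iv4 D65421)) (tt N72484 D139389) (tt N72485 D139390) (tt N58122 (iv7 F168885)))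
theorem Q40081 : ∀ i, i < 40081 → P i := stepQ 40080 Q40080 (allL N40080 (tt N58223 (iv1 F169016)) (tt N31779 (iv0 F101116)) (tt N31710 F101114) (tt N57903 (iv3 F168529)) (tt N72486 D139391) (tt N20314 (iv5 D65422)) (tt N31609 F101115) (tt N57915 (iv7 F168564)))
theorem Q40082 : ∀ i, i < 40082 → P i := stepQ 40081 Q40081 (allL N40081 (tt N20346 F101141) (tt N41061 F168320) (tt N33472 (iv2 F168221)) (tt N40301 F168312) (tt N72485 (iv4 F222599)) (tt N31564 F101142) (tt N20314 (iv6 D65423)) (tt N40055 F101140))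
theorem Q40083 : ∀ i, i < 40083 → P i := stepQ 40082 Q40082 (allL N40082 (tt N20326 F101535) (tt N62273 F180542) (tt N58122 (iv2 F168884)) (tt N72487 D139392) (tt N20315 (iv4 D65425)) (tt N72488 D139393) (tt N68351 (iv6 F209746)) (tt N58121 (iv7 F168881)))
theorem Q40084 : ∀ i, i < 40084 → P i := stepQ 40083 Q40083 (allL N40083 (tt N72489 D139394) (tt N72490 D139395) (tt N72491 D139396) (tt N20317 (iv3 D65426)) (tt N20319 F101143) (tt N72492 D139397) (tt N72493 D139398) (tt N55889 (iv7 F162055)))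
theorem Q40085 : ∀ i, i < 40085 → P i := stepQ 40084 Q40084 (allL N40084 (tt N29656 F101145) (tt N29649 F101146) (tt N55893 (iv2 F162063)) (tt N72492 (iv3 F222607)) (tt N31041 F101144) (tt N20317 (iv5 D65427)) (tt N72494 D139399) (tt N55890 (iv7 F162056)))
theorem Q40086 : ∀ i, i < 40086 → P i := stepQ 40085 Q40085 (allL N40085 (tt N30601 F101148) (tt N72495 D139400) (tt N55894 (iv2 F162067)) (tt N72493 (iv3 F222608)) (tt N20318 F101147) (tt N72496 D139401) (tt N20317 (iv6 D65428)) (tt N72497 D139402))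
theorem Q40087 : ∀ i, i < 40087 → P i := stepQ 40086 Q40086 (allL N40086 (tt N20318 (iv1 D65429)) (tt N56815 F164864) (tt N56816 (iv2 F164865)) (tt N44163 (iv3 F110990)) (tt N41244 F110995) (tt N69355 (iv5 F213979)) (tt N44187 (iv6 F111067)) (tt N22617 F101149))
theorem Q40088 : ∀ i, i < 40088 → P i := stepQ 40087 Q40087 (allL N40087 (tt N56816 (iv1 F164869)) (tt N22617 F164862) (tt N56815 F164860) (tt N20323 F101150) (tt N72497 (iv4 F222617)) (tt N61672 (iv5 F179222)) (tt N56947 (iv6 F165108)) (tt N20318 (iv7 D65430)))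
theorem Q40089 : ∀ i, i < 40089 → P i := stepQ 40088 Q40088 (allL N40088 (tt N58130 (iv1 F168904)) (tt N20319 (iv0 D65431)) (tt N58129 (iv2 F205141)) (tt N72498 D139403) (tt N72499 D139404) (tt N61386 (iv5 F349983)) (tt N72500 D139406) (tt N58128 F205142))
theorem Q40090 : ∀ i, i < 40090 → P i := stepQ 40089 Q40089 (allL N40089 (tt N20319 (iv1 D65432)) (tt N58130 F168906) (tt N58128 F205140) (tt N62295 (iv3 F182982)) (tt N72501 D139407) (tt N69716 (iv5 F353543)) (tt N72502 D139409) (tt N58129 (iv7 F205139)))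
theorem Q40091 : ∀ i, i < 40091 → P i := stepQ 40090 Q40090 (allL N40090 (tt N58129 (iv1 F168905)) (tt N58128 F168901) (tt N20319 (iv2 D65433)) (tt N62257 (iv3 F180493)) (tt N72491 (iv4 F222606)) (tt N72503 D139410) (tt N72504 D139411) (tt N58130 (iv7 F168903)))
theorem Q40092 : ∀ i, i < 40092 → P i := stepQ 40091 Q40091 (allL N40091 (tt N72505 D139412) (tt N72506 D139413) (tt N72503 (iv2 F222624)) (tt N20320 F101151) (tt N72507 D139414) (tt N20319 (iv5 D65434)) (tt N72508 D139415) (tt N58131 (iv7 F168908)))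
theorem Q40093 : ∀ i, i < 40093 → P i := stepQ 40092 Q40092 (allL N40092 (tt N72509 D139416) (tt N72510 D139417) (tt N72504 (iv2 F222625)) (tt N20321 F101152) (tt N72493 (iv4 F222609)) (tt N72511 D139418) (tt N20319 (iv6 D65435)) (tt N72512 D139419))
theorem Q40094 : ∀ i, i < 40094 → P i := stepQ 40093 Q40093 (allL N40093 (tt N72513 D139420) (tt N72514 D139421) (tt N62260 (iv2 F180503)) (tt N72508 (iv3 F222626)) (tt N59418 (iv4 F172868)) (tt N72515 D139422) (tt N20320 (iv6 D65436)) (tt N72516 D139423))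
theorem Q40095 : ∀ i, i < 40095 → P i := stepQ 40094 Q40094 (allL N40094 (tt N20321 (iv1 D65437)) (tt N44341 F111707) (tt N62261 F180507) (tt N72517 D139424) (tt N57349 (iv4 F166275)) (tt N72518 D139425) (tt N69781 (iv6 F216113)) (tt N57347 F166268))
theorem Q40096 : ∀ i, i < 40096 → P i := stepQ 40095 Q40095 (allL N40095 (tt N72519 D139426) (tt N72520 D139427) (tt N62262 (iv2 F180510)) (tt N72511 (iv3 F222627)) (tt N72521 D139428) (tt N20321 (iv5 D65438)) (tt N72515 (iv6 F222629)) (tt N72522 D139429))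
theorem Q40097 : ∀ i, i < 40097 → P i := stepQ 40096 Q40096 (allL N40096 (tt N62261 (iv1 F180505)) (tt N57347 F166267) (tt N44341 (iv2 F111703)) (tt N72512 (iv3 F222628)) (tt N20323 F101153) (tt N72522 (iv5 F222631)) (tt N58127 (iv6 F168895)) (tt N20321 (iv7 D65439)))
theorem Q40098 : ∀ i, i < 40098 → P i := stepQ 40097 Q40097 (allL N40097 (tt N20329 (iv1 F101155)) (tt N44338 F111696) (tt N44340 (iv2 F111697)) (tt N72523 D139430) (tt N20322 (iv4 D65440)) (tt N72524 D139431) (tt N59221 (iv6 F172357)) (tt N31571 F101154))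
theorem Q40099 : ∀ i, i < 40099 → P i := stepQ 40098 Q40098 (allL N40098 (tt N62265 (iv1 F180515)) (tt N20324 (iv0 D65441)) (tt N62264 (iv2 F360378)) (tt N72525 D139433) (tt N72526 D139434) (tt N59644 (iv5 F395998)) (tt N64553 (iv6 F364749)) (tt N62263 (iv7 F360381)))
theorem Q40100 : ∀ i, i < 40100 → P i := stepQ 40099 Q40099 (allL N40099 (tt N20324 (iv1 D65442)) (tt N62265 F180517) (tt N62263 (iv2 F360380)) (tt N72527 D139438) (tt N72528 D139439) (tt N59645 (iv5 F410209)) (tt N72529 D139441) (tt N62264 (iv7 F360379)))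
theorem Q40101 : ∀ i, i < 40101 → P i := stepQ 40100 Q40100 (allL N40100 (tt N62264 (iv1 F180516)) (tt N62263 F180511) (tt N20324 (iv2 D65443)) (tt N62270 (iv3 F180522)) (tt N70895 (iv4 F218687)) (tt N72530 D139442) (tt N72531 D139443) (tt N62265 (iv7 F180514)))
theorem Q40102 : ∀ i, i < 40102 → P i := stepQ 40101 Q40101 (allL N40101 (tt N72532 D139444) (tt N72533 D139445) (tt N72530 (iv2 F222638)) (tt N20325 F101157) (tt N72534 D139446) (tt N20324 (iv5 D65444)) (tt N72535 D139447) (tt N40544 (iv7 F101832)))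
theorem Q40103 : ∀ i, i < 40103 → P i := stepQ 40102 Q40102 (allL N40102 (tt N72536 D139448) (tt N72537 D139449) (tt N72531 (iv2 F222639)) (tt N20326 F101158) (tt N70896 (iv4 F218696)) (tt N72538 D139450) (tt N20324 (iv6 D65445)) (tt N72539 D139451))
theorem Q40104 : ∀ i, i < 40104 → P i := stepQ 40103 Q40103 (allL N40103 (tt N72540 D139452) (tt N72541 D139453) (tt N40547 (iv2 F101837)) (tt N72535 (iv3 F222640)) (tt N59411 (iv4 F172863)) (tt N72542 D139454) (tt N20325 (iv6 D65446)) (tt N72543 D139455))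
theorem Q40105 : ∀ i, i < 40105 → P i := stepQ 40104 Q40104 (allL N40104 (tt N72544 D139456) (tt N39933 (iv0 F101159)) (tt N62272 (iv2 F180537)) (tt N72538 (iv3 F222641)) (tt N72545 D139457) (tt N20326 (iv5 D65449)) (tt N72542 (iv6 F222643)) (tt N72546 D139458))
theorem Q40106 : ∀ i, i < 40106 → P i := stepQ 40105 Q40105 (allL N40105 (tt N58122 (iv1 F168887)) (tt N58121 F168888) (tt N62273 (iv2 F180539)) (tt N72539 (iv3 F222642)) (tt N58984 (iv4 F171672)) (tt N72546 (iv5 F222649)) (tt N44338 F111695) (tt N20326 (iv7 D65450)))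
theorem Q40107 : ∀ i, i < 40107 → P i := stepQ 40106 Q40106 (allL N40106 (tt N62270 (iv1 F180525)) (tt N20327 (iv0 D65451)) (tt N62269 (iv2 F345098)) (tt N72547 D139460) (tt N72548 D139461) (tt N59039 F222654) (tt N72549 D139462) (tt N62268 (iv7 F362370)))
theorem Q40108 : ∀ i, i < 40108 → P i := stepQ 40107 Q40107 (allL N40107 (tt N20327 (iv1 D65452)) (tt N62270 F180527) (tt N62268 (iv2 F362368)) (tt N72550 D139464) (tt N57102 (iv4 F180529)) (tt N59040 (iv5 F180528)) (tt N72551 D139465) (tt N62269 (iv7 F345101)))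
theorem Q40109 : ∀ i, i < 40109 → P i := stepQ 40108 Q40108 (allL N40108 (tt N62269 (iv1 F180526)) (tt N62268 F180521) (tt N20327 (iv2 D65453)) (tt N62265 (iv3 F180512)) (tt N41457 (iv4 F104276)) (tt N72552 D139466) (tt N72553 D139467) (tt N62270 (iv7 F180524)))
theorem Q40110 : ∀ i, i < 40110 → P i := stepQ 40109 Q40109 (allL N40109 (tt N72554 D139468) (tt N71322 (iv0 F359147)) (tt N72552 (iv2 F222659)) (tt N20328 F101160) (tt N72555 D139470) (tt N20327 (iv5 D65454)) (tt N71312 (iv6 F364002)) (tt N40546 (iv7 F101836)))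
theorem Q40111 : ∀ i, i < 40111 → P i := stepQ 40110 Q40110 (allL N40110 (tt N72556 D139472) (tt N72557 D139473) (tt N72553 (iv2 F222662)) (tt N20329 F101161) (tt N41458 (iv4 F104278)) (tt N72558 D139474) (tt N20327 (iv6 D65455)) (tt N72559 D139475))
theorem Q40112 : ∀ i, i < 40112 → P i := stepQ 40111 Q40111 (allL N40111 (tt N72560 D139476) (tt N72561 D139477) (tt N40545 (iv2 F101833)) (tt N71312 (iv3 F364001)) (tt N59402 (iv4 F172819)) (tt N72562 D139478) (tt N20328 (iv6 D65456)) (tt N72563 D139479))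
theorem Q40113 : ∀ i, i < 40113 → P i := stepQ 40112 Q40112 (allL N40112 (tt N64328 (iv1 F356530)) (tt N72564 D139481) (tt N62267 (iv2 F180520)) (tt N72558 (iv3 F222665)) (tt N72565 D139482) (tt N20329 (iv5 D65457)) (tt N72562 (iv6 F222667)) (tt N72566 D139483))
theorem Q40114 : ∀ i, i < 40114 → P i := stepQ 40113 Q40113 (allL N40113 (tt N44340 (iv1 F111701)) (tt N31571 (iv0 F103415)) (tt N44338 F111693) (tt N72559 (iv3 F222666)) (tt N38466 (iv4 F101618)) (tt N72566 (iv5 F222670)) (tt N62273 (iv6 F180541)) (tt N20329 (iv7 D65458)))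
theorem Q40115 : ∀ i, i < 40115 → P i := stepQ 40114 Q40114 (allL N40114 (tt N72550 F222657) (tt N48948 F331752) (tt N72567 D139485) (tt N20330 (iv3 D65460)) (tt N36076 F101163) (tt N72568 D139486) (tt N72569 D139487) (tt N62274 (iv7 F183035)))
theorem Q40116 : ∀ i, i < 40116 → P i := stepQ 40115 Q40115 (allL N40115 (tt N62672 (iv1 F182981)) (tt N45267 F322918) (tt N20877 F183029) (tt N40840 F320393) (tt N20330 (iv4 D65461)) (tt N40839 (iv5 F322088)) (tt N63072 (iv6 F320791)) (tt N62275 F183030))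
theorem Q40117 : ∀ i, i < 40117 → P i := stepQ 40116 Q40116 (allL N40116 (tt N40534 F181593) (tt N33345 F181594) (tt N40537 F183037) (tt N72568 (iv3 F222674)) (tt N72570 D139489) (tt N20330 (iv5 D65462)) (tt N72571 D139490) (tt N40536 (iv7 F183036)))
theorem Q40118 : ∀ i, i < 40118 → P i := stepQ 40117 Q40117 (allL N40117 (tt N72572 D139491) (tt N72487 (iv0 F349408)) (tt N62278 (iv2 F183040)) (tt N72569 (iv3 F222675)) (tt N63072 (iv4 F320790)) (tt N72573 D139493) (tt N20330 (iv6 D65463)) (tt N72574 D139494))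
theorem Q40119 : ∀ i, i < 40119 → P i := stepQ 40118 Q40118 (allL N40118 (tt N72575 D139495) (tt N72525 (iv0 F390839)) (tt N72576 D139497) (tt N20331 (iv3 D65465)) (tt N62676 (iv4 F183001)) (tt N72577 D139498) (tt N72578 D139499) (tt N62277 F183042))
theorem Q40120 : ∀ i, i < 40120 → P i := stepQ 40119 Q40119 (allL N40119 (tt N33345 F181590) (tt N40534 F181591) (tt N40536 (iv2 F183038)) (tt N72577 (iv3 F222681)) (tt N72579 D139500) (tt N20331 (iv5 D65466)) (tt N72580 D139501) (tt N40537 F183039))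
theorem Q40121 : ∀ i, i < 40121 → P i := stepQ 40120 Q40120 (allL N40120 (tt N44334 F340952) (tt N72581 D139503) (tt N62276 F183041) (tt N72578 (iv3 F222682)) (tt N62673 (iv4 F182984)) (tt N72582 D139504) (tt N20331 (iv6 D65467)) (tt N72583 D139505))
theorem Q40122 : ∀ i, i < 40122 → P i := stepQ 40121 Q40121 (allL N40121 (tt N62282 (iv1 F180565)) (tt N62281 F180564) (tt N20333 F101165) (tt N28544 F329670) (tt N72584 D139506) (tt N20332 (iv5 D65468)) (tt N28510 F329671) (tt N62279 (iv7 F180557)))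
theorem Q40123 : ∀ i, i < 40123 → P i := stepQ 40122 Q40122 (allL N40122 (tt N42922 (iv1 F322624)) (tt N22533 (iv0 F322623)) (tt N20334 F101166) (tt N26997 (iv3 F328869)) (tt N20409 F101167) (tt N26996 (iv5 F328873)) (tt N20332 (iv6 D65469)) (tt N28204 F328488))
theorem Q40124 : ∀ i, i < 40124 → P i := stepQ 40123 Q40123 (allL N40123 (tt N62279 F180559) (tt N20333 (iv0 D65470)) (tt N62282 (iv2 F181703)) (tt N72585 D139512) (tt N70413 (iv4 F350364)) (tt N20528 F180560) (tt N70412 (iv6 F350365)) (tt N62281 (iv7 F181693)))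
theorem Q40125 : ∀ i, i < 40125 → P i := stepQ 40124 Q40124 (allL N40124 (tt N20333 (iv1 D65471)) (tt N62279 F180561) (tt N62281 (iv2 F181691)) (tt N72586 D139515) (tt N72587 D139516) (tt N20529 F105781) (tt N72588 D139517) (tt N62282 (iv7 F181705)))
theorem Q40126 : ∀ i, i < 40126 → P i := stepQ 40125 Q40125 (allL N40125 (tt N72589 D139518) (tt N72590 D139519) (tt N72584 (iv2 F222683)) (tt N59479 (iv3 F172980)) (tt N20333 (iv4 D65472)) (tt N72591 D139520) (tt N72592 D139521) (tt N62283 (iv7 F180566)))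
theorem Q40127 : ∀ i, i < 40127 → P i := stepQ 40126 Q40126 (allL N40126 (tt N28508 (iv1 F329566)) (tt N28507 (iv0 F329567)) (tt N28510 (iv2 F329568)) (tt N20335 F101168) (tt N72592 (iv4 F222696)) (tt N28491 F329255) (tt N20333 (iv6 D65473)) (tt N28490 (iv7 F329569)))
theorem Q40128 : ∀ i, i < 40128 → P i := stepQ 40127 Q40127 (allL N40127 (tt N20334 (iv1 D65475)) (tt N28204 F328485) (tt N22533 (iv2 F323761)) (tt N72593 D139532) (tt N21924 (iv4 F322247)) (tt N49813 (iv5 F328863)) (tt N72594 D139535) (tt N42922 (iv7 F323760)))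
theorem Q40129 : ∀ i, i < 40129 → P i := stepQ 40128 Q40128 (allL N40128 (tt N28203 (iv1 F328871)) (tt N28202 (iv0 F328870)) (tt N26996 (iv2 F328872)) (tt N20338 F101169) (tt N50404 (iv4 F328912)) (tt N20334 (iv5 D65476)) (tt N28491 (iv6 F328913)) (tt N28199 F328510))
theorem Q40130 : ∀ i, i < 40130 → P i := stepQ 40129 Q40129 (allL N40129 (tt N28219 (iv1 F329823)) (tt N20335 (iv0 D65478)) (tt N52915 (iv2 F329835)) (tt N72595 D139541) (tt N59642 (iv4 F345075)) (tt N50434 (iv5 F343886)) (tt N69951 (iv6 F350361)) (tt N72453 (iv7 F329839)))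
theorem Q40131 : ∀ i, i < 40131 → P i := stepQ 40130 Q40130 (allL N40130 (tt N20335 (iv1 D65479)) (tt N28219 (iv0 F329822)) (tt N72453 (iv2 F329838)) (tt N48868 (iv3 F329840)) (tt N59643 (iv4 F345077)) (tt N50433 (iv5 F343864)) (tt N72596 D139549) (tt N52915 (iv7 F329836)))
theorem Q40132 : ∀ i, i < 40132 → P i := stepQ 40131 Q40131 (allL N40131 (tt N28218 (iv1 F329543)) (tt N28217 (iv0 F329544)) (tt N26646 (iv2 F329521)) (tt N28491 F329243) (tt N49013 (iv4 F329541)) (tt N20335 (iv5 D65480)) (tt N20338 F101172) (tt N25010 (iv7 F329545)))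
theorem Q40133 : ∀ i, i < 40133 → P i := stepQ 40132 Q40132 (allL N40132 (tt N72453 (iv1 F222519)) (tt N52915 (iv0 F329820)) (tt N28219 (iv2 F329824)) (tt N28490 F329716) (tt N57835 (iv4 F345064)) (tt N25010 F329717) (tt N34800 F329718) (tt N20335 (iv7 D65481)))
theorem Q40134 : ∀ i, i < 40134 → P i := stepQ 40133 Q40133 (allL N40133 (tt N53286 (iv1 F365275)) (tt N72529 (iv0 F365277)) (tt N72597 D139556) (tt N20336 (iv3 D65483)) (tt N70916 (iv4 F218755)) (tt N72598 D139557) (tt N72171 (iv6 F221517)) (tt N71514 (iv7 F220134)))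
theorem Q40135 : ∀ i, i < 40135 → P i := stepQ 40134 Q40134 (allL N40134 (tt N27001 F335657) (tt N72599 D139558) (tt N49449 F329218) (tt N72598 (iv3 F222709)) (tt N28062 (iv4 F329516)) (tt N20336 (iv5 D65485)) (tt N27024 (iv6 F329517)) (tt N72455 (iv7 F222532)))
theorem Q40136 : ∀ i, i < 40136 → P i := stepQ 40135 Q40135 (allL N40135 (tt N72549 (iv1 F338292)) (tt N28650 (iv0 F329512)) (tt N72600 D139563) (tt N20337 (iv3 D65488)) (tt N56924 (iv4 F165068)) (tt N55072 (iv5 F335546)) (tt N72601 D139565) (tt N72454 (iv7 F222527)))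
theorem Q40137 : ∀ i, i < 40137 → P i := stepQ 40136 Q40136 (allL N40136 (tt N72599 (iv1 F222710)) (tt N27001 F335656) (tt N72455 (iv2 F222531)) (tt N55072 (iv3 F335545)) (tt N72602 D139566) (tt N20337 (iv5 D65489)) (tt N49796 (iv6 F343261)) (tt N49449 F329217))
theorem Q40138 : ∀ i, i < 40138 → P i := stepQ 40137 Q40137 (allL N40137 (tt N41062 F171685) (tt N72485 F222601) (tt N72456 (iv2 F222534)) (tt N72601 (iv3 F222714)) (tt N58987 (iv4 F171684)) (tt N72603 D139568) (tt N20337 (iv6 D65490)) (tt N72175 (iv7 F221527)))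
theorem Q40139 : ∀ i, i < 40139 → P i := stepQ 40138 Q40138 (allL N40138 (tt N28361 (iv1 F329533)) (tt N28360 (iv0 F329534)) (tt N26730 (iv2 F329520)) (tt N48972 (iv3 F329535)) (tt N20338 (iv4 D65493)) (tt N69720 (iv5 F337438)) (tt N49013 (iv6 F329542)) (tt N24391 F329242))
theorem Q40140 : ∀ i, i < 40140 → P i := stepQ 40139 Q40139 (allL N40139 (tt N20826 F101183) (tt N20790 (iv0 F101184)) (tt N20823 F101239) (tt N72604 D139581) (tt N20340 (iv4 D65503)) (tt N29246 F296079) (tt N37274 F111341) (tt N20824 F101238))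
theorem Q40141 : ∀ i, i < 40141 → P i := stepQ 40140 Q40140 (allL N40140 (tt N28582 (iv1 F329810)) (tt N28609 (iv0 F329811)) (tt N28607 (iv2 F329812)) (tt N20341 (iv3 D65508)) (tt N72604 (iv4 F222718)) (tt N49558 (iv5 F329814)) (tt N72178 (iv6 F221531)) (tt N28606 (iv7 F329766)))
theorem Q40142 : ∀ i, i < 40142 → P i := stepQ 40141 Q40141 (allL N40141 (tt N49626 (iv1 F335386)) (tt N72605 D139589) (tt N52762 (iv2 F329763)) (tt N49558 (iv3 F329813)) (tt N72606 D139590) (tt N20341 (iv5 D65509)) (tt N49555 (iv6 F329819)) (tt N72458 (iv7 F222562)))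
theorem Q40143 : ∀ i, i < 40143 → P i := stepQ 40142 Q40142 (allL N40142 (tt N30827 (iv1 F101923)) (tt N72607 D139592) (tt N33236 F101229) (tt N72608 D139593) (tt N20342 (iv4 D65511)) (tt N59485 (iv5 F345073)) (tt N72609 D139595) (tt N33235 (iv7 F101232)))
theorem Q40144 : ∀ i, i < 40144 → P i := stepQ 40143 Q40143 (allL N40143 (tt N56796 F164811) (tt N20776 F163966) (tt N33237 F101230) (tt N30233 (iv3 F111376)) (tt N72609 (iv4 F222741)) (tt N57740 (iv5 F167671)) (tt N20342 (iv6 D65512)) (tt N57740 (iv7 F167672)))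
theorem Q40145 : ∀ i, i < 40145 → P i := stepQ 40144 Q40144 (allL N40144 (tt N55856 (iv1 F162089)) (tt N55905 F162088) (tt N55903 (iv2 F162082)) (tt N72610 D139596) (tt N20343 (iv4 D65518)) (tt N72611 D139597) (tt N72612 D139598) (tt N55902 F162079))
theorem Q40146 : ∀ i, i < 40146 → P i := stepQ 40145 Q40145 (allL N40145 (tt N72613 D139599) (tt N72614 D139600) (tt N61826 (iv2 F179564)) (tt N20346 F101197) (tt N72612 (iv4 F222744)) (tt N72179 (iv5 F221535)) (tt N20343 (iv6 D65520)) (tt N72179 (iv7 F221536)))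
theorem Q40147 : ∀ i, i < 40147 → P i := stepQ 40146 Q40146 (allL N40146 (tt N72500 (iv1 F365348)) (tt N72615 D139602) (tt N72616 D139603) (tt N20344 (iv3 D65521)) (tt N72610 (iv4 F222742)) (tt N72617 D139604) (tt N72618 D139605) (tt N72457 (iv7 F222555)))
theorem Q40148 : ∀ i, i < 40148 → P i := stepQ 40147 Q40147 (allL N40147 (tt N72605 (iv1 F222727)) (tt N49626 (iv0 F335385)) (tt N72458 (iv2 F222561)) (tt N72617 (iv3 F222758)) (tt N72619 D139606) (tt N20344 (iv5 D65522)) (tt N72620 D139607) (tt N52762 F329802))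
theorem Q40149 : ∀ i, i < 40149 → P i := stepQ 40148 Q40148 (allL N40148 (tt N72621 D139608) (tt N72477 (iv0 F226510)) (tt N72459 (iv2 F222564)) (tt N72618 (iv3 F222759)) (tt N20346 F101198) (tt N72622 D139610) (tt N20344 (iv6 D65523)) (tt N72181 (iv7 F221541)))
theorem Q40150 : ∀ i, i < 40150 → P i := stepQ 40149 Q40149 (allL N40149 (tt N72607 (iv1 F222730)) (tt N30827 F101924) (tt N33235 F101233) (tt N72623 D139611) (tt N20345 (iv4 D65524)) (tt N59484 (iv5 F343798)) (tt N57738 (iv6 F167663)) (tt N33236 F101228))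
theorem Q40151 : ∀ i, i < 40151 → P i := stepQ 40150 Q40150 (allL N40150 (tt N72624 D139613) (tt N72625 D139614) (tt N72626 D139615) (tt N20348 (iv3 D65526)) (tt N57644 (iv4 F167298)) (tt N72627 D139616) (tt N72628 D139617) (tt N39895 F101242))
theorem Q40152 : ∀ i, i < 40152 → P i := stepQ 40151 Q40151 (allL N40151 (tt N30713 F101246) (tt N30716 F101247) (tt N38485 F101243) (tt N72627 (iv3 F222772)) (tt N38729 F101245) (tt N20348 (iv5 D65527)) (tt N72629 D139618) (tt N39896 F101244))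
theorem Q40153 : ∀ i, i < 40153 → P i := stepQ 40152 Q40152 (allL N40152 (tt N72630 D139619) (tt N72631 D139620) (tt N38482 F101248) (tt N72628 (iv3 F222774)) (tt N20349 F101249) (tt N72632 D139621) (tt N20348 (iv6 D65528)) (tt N40411 (iv7 F101686)))
theorem Q40154 : ∀ i, i < 40154 → P i := stepQ 40153 Q40153 (allL N40153 (tt N38483 (iv1 F101250)) (tt N20349 (iv0 D65529)) (tt N37435 (iv2 F163956)) (tt N39861 (iv3 F168313)) (tt N72633 D139622) (tt N70168 (iv5 F216877)) (tt N56796 (iv6 F164810)) (tt N38481 (iv7 F101258)))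
theorem Q40155 : ∀ i, i < 40155 → P i := stepQ 40154 Q40154 (allL N40154 (tt N72634 D139623) (tt N72635 D139624) (tt N72636 D139625) (tt N20354 (iv3 D65531)) (tt N68056 (iv4 F209085)) (tt N72637 D139626) (tt N40412 (iv6 F101687)) (tt N38484 F101259))
theorem Q40156 : ∀ i, i < 40156 → P i := stepQ 40155 Q40155 (allL N40155 (tt N30716 F101263) (tt N30713 F101264) (tt N39896 F101260) (tt N72637 (iv3 F222791)) (tt N38726 F101261) (tt N20354 (iv5 D65532)) (tt N72638 D139627) (tt N38485 F101262))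
theorem Q40157 : ∀ i, i < 40157 → P i := stepQ 40156 Q40156 (allL N40156 (tt N40649 (iv1 F330574)) (tt N72639 D139629) (tt N72640 D139630) (tt N20355 (iv3 D65533)) (tt N31416 F101265) (tt N61815 (iv5 F179550)) (tt N72641 D139631) (tt N60362 (iv7 F176279)))
theorem Q40158 : ∀ i, i < 40158 → P i := stepQ 40157 Q40157 (allL N40157 (tt N61772 (iv1 F179469)) (tt N20510 (iv0 F101267)) (tt N58058 (iv2 F168788)) (tt N72641 (iv3 F222797)) (tt N31413 F101266) (tt N72642 D139632) (tt N20355 (iv6 D65534)) (tt N61945 (iv7 F179719)))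
theorem Q40159 : ∀ i, i < 40159 → P i := stepQ 40158 Q40158 (allL N40158 (tt N61841 (iv1 F179603)) (tt N20356 (iv0 D65535)) (tt N61840 (iv2 F179597)) (tt N72643 D139633) (tt N62300 (iv4 F180631)) (tt N62102 (iv5 F180017)) (tt N72644 D139634) (tt N61839 F179598))
theorem Q40160 : ∀ i, i < 40160 → P i := stepQ 40159 Q40159 (allL N40159 (tt N20356 (iv1 D65536)) (tt N61841 F179604) (tt N61839 F179596) (tt N72645 D139635) (tt N41250 (iv4 F103727)) (tt N62101 (iv5 F180012)) (tt N22144 (iv6 F322286)) (tt N61840 (iv7 F179593)))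
theorem Q40161 : ∀ i, i < 40161 → P i := stepQ 40160 Q40160 (allL N40160 (tt N61840 (iv1 F179594)) (tt N61839 F179590) (tt N20356 (iv2 D65537)) (tt N61829 (iv3 F179566)) (tt N20364 F101268) (tt N72646 D139637) (tt N72647 D139638) (tt N61841 (iv7 F179602)))
theorem Q40162 : ∀ i, i < 40162 → P i := stepQ 40161 Q40161 (allL N40161 (tt N33179 (iv1 F179948)) (tt N33184 F175007) (tt N72646 (iv2 F222801)) (tt N20357 F101269) (tt N72648 D139639) (tt N20356 (iv5 D65538)) (tt N72649 D139640) (tt N61842 (iv7 F179606)))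
theorem Q40163 : ∀ i, i < 40163 → P i := stepQ 40162 Q40162 (allL N40162 (tt N72650 D139641) (tt N72651 D139642) (tt N72647 (iv2 F222805)) (tt N20358 F101270) (tt N20366 F101271) (tt N72652 D139643) (tt N20356 (iv6 D65539)) (tt N72653 D139644))
theorem Q40164 : ∀ i, i < 40164 → P i := stepQ 40163 Q40163 (allL N40163 (tt N72654 D139645) (tt N72655 D139646) (tt N61832 (iv2 F179571)) (tt N72649 (iv3 F222813)) (tt N58803 (iv4 F170771)) (tt N72656 D139647) (tt N20357 (iv6 D65540)) (tt N72657 D139648))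
theorem Q40165 : ∀ i, i < 40165 → P i := stepQ 40164 Q40164 (allL N40164 (tt N61836 (iv1 F179582)) (tt N20358 (iv0 D65541)) (tt N61833 (iv2 F182851)) (tt N72658 D139649) (tt N62621 (iv4 F182848)) (tt N72659 D139650) (tt N72660 D139651) (tt N61834 (iv7 F182853)))
theorem Q40166 : ∀ i, i < 40166 → P i := stepQ 40165 Q40165 (allL N40165 (tt N20358 (iv1 D65542)) (tt N61836 F179579) (tt N61834 F182854) (tt N33194 (iv3 F330592)) (tt N62622 F182857) (tt N72661 D139653) (tt N33193 F330591) (tt N61833 F182852))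
theorem Q40167 : ∀ i, i < 40167 → P i := stepQ 40166 Q40166 (allL N40166 (tt N72662 D139654) (tt N72663 D139655) (tt N61835 (iv2 F179574)) (tt N72652 (iv3 F222814)) (tt N72664 D139656) (tt N20358 (iv5 D65543)) (tt N72656 (iv6 F222817)) (tt N72665 D139657))
theorem Q40168 : ∀ i, i < 40168 → P i := stepQ 40167 Q40167 (allL N40167 (tt N61834 (iv1 F179573)) (tt N61833 F179578) (tt N61836 (iv2 F179576)) (tt N72653 (iv3 F222815)) (tt N20361 F101272) (tt N72665 (iv5 F222822)) (tt N44215 (iv6 F111130)) (tt N20358 (iv7 D65544)))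
theorem Q40169 : ∀ i, i < 40169 → P i := stepQ 40168 Q40168 (allL N40168 (tt N56947 (iv1 F169270)) (tt N31024 F169269) (tt N56905 F165615) (tt N20359 (iv3 D65545)) (tt N72666 D139658) (tt N72667 D139659) (tt N72614 (iv6 F222757)) (tt N56946 (iv7 F168331)))
theorem Q40170 : ∀ i, i < 40170 → P i := stepQ 40169 Q40169 (allL N40169 (tt N61855 (iv1 F179620)) (tt N56888 F179586) (tt N61837 (iv2 F179583)) (tt N72668 D139660) (tt N20359 (iv4 D65546)) (tt N72669 D139661) (tt N72670 D139662) (tt N61838 (iv7 F179588)))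
theorem Q40171 : ∀ i, i < 40171 → P i := stepQ 40170 Q40170 (allL N40170 (tt N44229 F111157) (tt N31981 (iv0 F161252)) (tt N31907 F101273) (tt N72667 (iv3 F222828)) (tt N55542 (iv4 F346832)) (tt N20359 (iv5 D65547)) (tt N31884 F101275) (tt N31939 F101274))
theorem Q40172 : ∀ i, i < 40172 → P i := stepQ 40171 Q40171 (allL N40171 (tt N39492 F101279) (tt N41065 (iv0 F111223)) (tt N33211 F101276) (tt N72614 (iv3 F222756)) (tt N72670 (iv4 F222833)) (tt N22656 F101278) (tt N20359 (iv6 D65548)) (tt N33208 F101277))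
theorem Q40173 : ∀ i, i < 40173 → P i := stepQ 40172 Q40172 (allL N40172 (tt N56888 F169650) (tt N61855 F179619) (tt N61838 (iv2 F179587)) (tt N72671 D139664) (tt N20360 (iv4 D65550)) (tt N72672 D139665) (tt N68334 (iv6 F209566)) (tt N61837 (iv7 F179584)))
theorem Q40174 : ∀ i, i < 40174 → P i := stepQ 40173 Q40173 (allL N40173 (tt N31981 (iv1 F161253)) (tt N44229 (iv0 F111156)) (tt N31939 F101280) (tt N55645 (iv3 F165568)) (tt N72673 D139666) (tt N20360 (iv5 D65551)) (tt N31922 F101281) (tt N31907 F101282))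
theorem Q40175 : ∀ i, i < 40175 → P i := stepQ 40174 Q40174 (allL N40174 (tt N40266 F101431) (tt N61919 (iv0 F180705)) (tt N62216 (iv2 F180192)) (tt N72674 D139668) (tt N20362 (iv4 D65554)) (tt N72675 D139669) (tt N62692 (iv6 F318443)) (tt N62214 (iv7 F180183)))
theorem Q40176 : ∀ i, i < 40176 → P i := stepQ 40175 Q40175 (allL N40175 (tt N62193 F180186) (tt N21041 F180187) (tt N42674 (iv2 F322069)) (tt N20363 (iv3 D65558)) (tt N40435 (iv4 F101715)) (tt N21426 F105790) (tt N22140 (iv6 F322218)) (tt N62215 (iv7 F180190)))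
theorem Q40177 : ∀ i, i < 40177 → P i := stepQ 40176 Q40176 (allL N40176 (tt N61919 (iv1 F180706)) (tt N40266 F180184) (tt N62214 (iv2 F180182)) (tt N61856 (iv3 F179621)) (tt N20363 (iv4 D65559)) (tt N72676 D139673) (tt N22141 (iv6 F322219)) (tt N62216 (iv7 F180193)))
theorem Q40178 : ∀ i, i < 40178 → P i := stepQ 40177 Q40177 (allL N40177 (tt N33411 (iv1 F181962)) (tt N33422 F181959) (tt N20365 F101285) (tt N40826 (iv3 F102703)) (tt N72677 D139679) (tt N20364 (iv5 D65562)) (tt N40812 F340110) (tt N33419 (iv7 F175004)))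
theorem Q40179 : ∀ i, i < 40179 → P i := stepQ 40178 Q40178 (allL N40178 (tt N72678 D139681) (tt N72679 D139682) (tt N20366 F101286) (tt N58547 (iv3 F169661)) (tt N72647 (iv4 F222806)) (tt N62845 (iv5 F319961)) (tt N20364 (iv6 D65563)) (tt N62981 (iv7 F341176)))
theorem Q40180 : ∀ i, i < 40180 → P i := stepQ 40179 Q40179 (allL N40179 (tt N72680 D139685) (tt N59966 (iv0 F175000)) (tt N72677 (iv2 F222849)) (tt N20915 F101287) (tt N20365 (iv4 D65566)) (tt N59980 (iv5 F175069)) (tt N72681 D139686) (tt N40824 (iv7 F102685)))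
theorem Q40181 : ∀ i, i < 40181 → P i := stepQ 40180 Q40180 (allL N40180 (tt N40814 (iv1 F320800)) (tt N40786 (iv0 F320801)) (tt N40812 F340109) (tt N20367 F101288) (tt N72681 (iv4 F222867)) (tt N62984 F317767) (tt N20365 (iv6 D65567)) (tt N40813 (iv7 F340111)))
theorem Q40182 : ∀ i, i < 40182 → P i := stepQ 40181 Q40181 (allL N40181 (tt N62981 (iv1 F341173)) (tt N20366 (iv0 D65568)) (tt N72678 (iv2 F349389)) (tt N43998 (iv3 F321133)) (tt N72682 D139693) (tt N45308 (iv5 F321134)) (tt N43996 F319032) (tt N72679 (iv7 F349394)))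
theorem Q40183 : ∀ i, i < 40183 → P i := stepQ 40182 Q40182 (allL N40182 (tt N20366 (iv1 D65569)) (tt N62981 (iv0 F341172)) (tt N72679 (iv2 F349393)) (tt N72683 D139697) (tt N72684 D139698) (tt N72685 D139699) (tt N68352 (iv6 F349379)) (tt N72678 (iv7 F349392)))
theorem Q40184 : ∀ i, i < 40184 → P i := stepQ 40183 Q40183 (allL N40183 (tt N72679 (iv1 F222854)) (tt N72678 F222859) (tt N62981 (iv2 F341174)) (tt N20371 F101290) (tt N72653 (iv4 F222816)) (tt N62844 (iv5 F316828)) (tt N44348 (iv6 F111741)) (tt N20366 (iv7 D65571)))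
theorem Q40185 : ∀ i, i < 40185 → P i := stepQ 40184 Q40184 (allL N40184 (tt N40832 (iv1 F102720)) (tt N20367 (iv0 D65572)) (tt N40829 (iv2 F200031)) (tt N72686 D139705) (tt N20941 F104789) (tt N41854 F313294) (tt N34601 F313295) (tt N40830 (iv7 F200032)))
theorem Q40186 : ∀ i, i < 40186 → P i := stepQ 40185 Q40185 (allL N40185 (tt N20367 (iv1 D65573)) (tt N40832 F102719) (tt N40830 F200033) (tt N33421 F321859) (tt N20942 F107374) (tt N41853 F314032) (tt N33414 F321860) (tt N40829 (iv7 F199876)))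
theorem Q40187 : ∀ i, i < 40187 → P i := stepQ 40186 Q40186 (allL N40186 (tt N43940 F313157) (tt N63044 (iv0 F184522)) (tt N40831 (iv2 F102713)) (tt N62984 (iv3 F315537)) (tt N47169 F325888) (tt N20367 (iv5 D65574)) (tt N20370 F101292) (tt N72687 D139712))
theorem Q40188 : ∀ i, i < 40188 → P i := stepQ 40187 Q40187 (allL N40187 (tt N40830 (iv1 F102712)) (tt N40829 F102718) (tt N40832 (iv2 F102715)) (tt N40813 F340112) (tt N20919 F101293) (tt N72687 (iv5 F222887)) (tt N34594 F314005) (tt N20367 (iv7 D65575)))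
theorem Q40189 : ∀ i, i < 40189 → P i := stepQ 40188 Q40188 (allL N40188 (tt N62582 (iv1 F326748)) (tt N21048 (iv0 F326749)) (tt N62581 (iv2 F342455)) (tt N20368 (iv3 D65576)) (tt N72688 D139716) (tt N46572 (iv5 F318384)) (tt N51605 F317183) (tt N58544 (iv7 F169656)))
theorem Q40190 : ∀ i, i < 40190 → P i := stepQ 40189 Q40189 (allL N40189 (tt N34561 F320473) (tt N42956 F320474) (tt N44889 (iv2 F317150)) (tt N46572 (iv3 F318383)) (tt N34718 (iv4 F320833)) (tt N20368 (iv5 D65577)) (tt N46571 F316155) (tt N41838 (iv7 F318280)))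
theorem Q40191 : ∀ i, i < 40191 → P i := stepQ 40190 Q40190 (allL N40190 (tt N20880 F321510) (tt N62684 (iv0 F322272)) (tt N62683 (iv2 F320535)) (tt N20369 (iv3 D65579)) (tt N72689 D139724) (tt N72690 D139725) (tt N42229 F316154) (tt N58543 (iv7 F169651)))
theorem Q40192 : ∀ i, i < 40192 → P i := stepQ 40191 Q40191 (allL N40191 (tt N42956 F320471) (tt N34561 F320472) (tt N41838 (iv2 F318278)) (tt N72690 (iv3 F222899)) (tt N34723 (iv4 F320834)) (tt N20369 (iv5 D65580)) (tt N33624 (iv6 F318382)) (tt N44889 (iv7 F317152)))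
theorem Q40193 : ∀ i, i < 40193 → P i := stepQ 40192 Q40192 (allL N40192 (tt N22729 (iv1 F101340)) (tt N21141 (iv0 F315529)) (tt N39990 F101338) (tt N62844 (iv3 F316827)) (tt N47171 (iv4 F324830)) (tt N20371 F101339) (tt N44555 (iv6 F316364)) (tt N20370 (iv7 D65583)))
theorem Q40194 : ∀ i, i < 40194 → P i := stepQ 40193 Q40193 (allL N40193 (tt N59488 (iv1 F336695)) (tt N20457 F168414) (tt N62177 (iv2 F180079)) (tt N72691 D139734) (tt N20372 (iv4 D65587)) (tt N72692 D139735) (tt N41071 (iv6 F103292)) (tt N58542 (iv7 F169646)))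
theorem Q40195 : ∀ i, i < 40195 → P i := stepQ 40194 Q40194 (allL N40194 (tt N62231 (iv1 F337757)) (tt N20488 (iv0 F337758)) (tt N62229 (iv2 F350161)) (tt N20373 (iv3 D65588)) (tt N72691 (iv4 F222918)) (tt N72693 D139739) (tt N41074 (iv6 F103300)) (tt N41227 (iv7 F103677)))
theorem Q40196 : ∀ i, i < 40196 → P i := stepQ 40195 Q40195 (allL N40195 (tt N25227 F317396) (tt N44378 (iv0 F111824)) (tt N41226 (iv2 F103673)) (tt N72693 (iv3 F222919)) (tt N23551 (iv4 F319654)) (tt N20373 (iv5 D65589)) (tt N53066 (iv6 F318157)) (tt N41228 (iv7 F103679)))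
theorem Q40197 : ∀ i, i < 40197 → P i := stepQ 40196 Q40196 (allL N40196 (tt N20403 F335043) (tt N62309 F335044) (tt N62307 (iv2 F341083)) (tt N20374 (iv3 D65594)) (tt N72487 (iv4 F222605)) (tt N72694 D139745) (tt N56068 (iv6 F316357)) (tt N41225 (iv7 F103672)))
theorem Q40198 : ∀ i, i < 40198 → P i := stepQ 40197 Q40197 (allL N40197 (tt N44378 (iv1 F111825)) (tt N25227 F317395) (tt N41228 (iv2 F103678)) (tt N72694 (iv3 F222922)) (tt N47170 (iv4 F320837)) (tt N20374 (iv5 D65595)) (tt N21131 (iv6 F319651)) (tt N41226 (iv7 F103674)))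
theorem Q40199 : ∀ i, i < 40199 → P i := stepQ 40198 Q40198 (allL N40198 (tt N21045 F182584) (tt N62584 F182585) (tt N62583 (iv2 F205123)) (tt N20375 (iv3 D65597)) (tt N40223 F101371) (tt N20731 F103145) (tt N22244 F319247) (tt N58550 F205128))
theorem Q40200 : ∀ i, i < 40200 → P i := stepQ 40199 Q40199 (allL N40199 (tt N40445 F101726) (tt N70906 F218724) (tt N58553 F205154) (tt N71458 F220070) (tt N20375 (iv4 D65598)) (tt N72035 (iv5 F221270)) (tt N45262 F319248) (tt N58551 (iv7 F205153)))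
theorem Q40201 : ∀ i, i < 40201 → P i := stepQ 40200 Q40200 (allL N40200 (tt N62275 F180707) (tt N20877 F180708) (tt N62672 F205132) (tt N20376 (iv3 D65602)) (tt N40254 (iv4 F101420)) (tt N20733 (iv5 F103141)) (tt N72695 D139754) (tt N45267 (iv7 F321289)))
theorem Q40202 : ∀ i, i < 40202 → P i := stepQ 40201 Q40201 (allL N40201 (tt N70906 (iv1 F218725)) (tt N40445 (iv0 F180709)) (tt N58551 (iv2 F205155)) (tt N70893 (iv3 F218683)) (tt N20376 (iv4 D65603)) (tt N72032 (iv5 F355785)) (tt N72696 D139755) (tt N58553 F205156))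
theorem Q40203 : ∀ i, i < 40203 → P i := stepQ 40202 Q40202 (allL N40202 (tt N20507 F208257) (tt N58621 F208258) (tt N58552 F205170) (tt N72695 (iv3 F222929)) (tt N72696 (iv4 F222930)) (tt N72695 (iv5 F321953)) (tt N20376 (iv6 D65605)) (tt N58620 (iv7 F209609)))
theorem Q40204 : ∀ i, i < 40204 → P i := stepQ 40203 Q40203 (allL N40203 (tt N56118 (iv1 F308058)) (tt N63336 (iv0 F311658)) (tt N20379 F101345) (tt N62218 (iv3 F180197)) (tt N71401 (iv4 F220030)) (tt N72399 (iv5 F342565)) (tt N20377 (iv6 D65607)) (tt N72240 (iv7 F221771)))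
theorem Q40205 : ∀ i, i < 40205 → P i := stepQ 40204 Q40204 (allL N40204 (tt N72697 D139758) (tt N66546 (iv0 F204433)) (tt N40931 F103084) (tt N20908 F101346) (tt N20378 (iv4 D65610)) (tt N72698 D139759) (tt N72699 D139760) (tt N40827 (iv7 F102710)))
theorem Q40206 : ∀ i, i < 40206 → P i := stepQ 40205 Q40205 (allL N40205 (tt N45274 (iv1 F314016)) (tt N45254 (iv0 F314017)) (tt N40932 F103085) (tt N20380 F101347) (tt N72699 (iv4 F222942)) (tt N72700 D139763) (tt N20378 (iv6 D65611)) (tt N45272 (iv7 F311587)))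
theorem Q40207 : ∀ i, i < 40207 → P i := stepQ 40206 Q40206 (allL N40206 (tt N72240 (iv1 F221772)) (tt N20379 (iv0 D65612)) (tt N56118 F310068) (tt N72701 D139765) (tt N72702 D139766) (tt N25485 F310069) (tt N38261 F220974) (tt N63336 (iv7 F311661)))
theorem Q40208 : ∀ i, i < 40208 → P i := stepQ 40207 Q40207 (allL N40207 (tt N20379 (iv1 D65613)) (tt N72240 F221773) (tt N63336 (iv2 F311660)) (tt N72703 D139768) (tt N53362 (iv4 F342541)) (tt N46191 (iv5 F312358)) (tt N53361 (iv6 F342539)) (tt N56118 F310070))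
theorem Q40209 : ∀ i, i < 40209 → P i := stepQ 40208 Q40208 (allL N40208 (tt N72704 D139772) (tt N72705 D139773) (tt N72399 (iv2 F342564)) (tt N20382 F101348) (tt N72388 (iv4 F342567)) (tt N20379 (iv5 D65614)) (tt N72700 (iv6 F222944)) (tt N72241 (iv7 F221775)))
theorem Q40210 : ∀ i, i < 40210 → P i := stepQ 40209 Q40209 (allL N40209 (tt N34123 F309338) (tt N44538 F309339) (tt N21852 F309340) (tt N72700 (iv3 F222943)) (tt N21828 (iv4 F311563)) (tt N20380 (iv5 D65617)) (tt N20382 F101355) (tt N21848 F309341))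
theorem Q40211 : ∀ i, i < 40211 → P i := stepQ 40210 Q40210 (allL N40210 (tt N21044 F323604) (tt N62590 (iv0 F324902)) (tt N62588 (iv2 F340808)) (tt N20381 (iv3 D65619)) (tt N72706 D139786) (tt N57428 F311273) (tt N22157 (iv6 F313626)) (tt N30647 F101357))
theorem Q40212 : ∀ i, i < 40212 → P i := stepQ 40211 Q40211 (allL N40211 (tt N44349 (iv1 F111746)) (tt N20382 (iv0 D65621)) (tt N44542 F313664) (tt N72707 D139790) (tt N63730 (iv4 F315889)) (tt N37960 F101359) (tt N30512 (iv6 F316149)) (tt N41049 (iv7 F103228)))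
theorem Q40213 : ∀ i, i < 40213 → P i := stepQ 40212 Q40212 (allL N40212 (tt N20382 (iv1 D65622)) (tt N44349 (iv0 F111745)) (tt N41049 (iv2 F103227)) (tt N66853 (iv3 F315783)) (tt N63109 (iv4 F315786)) (tt N33459 (iv5 F101360)) (tt N42695 (iv6 F315787)) (tt N44542 F313359))
theorem Q40214 : ∀ i, i < 40214 → P i := stepQ 40213 Q40213 (allL N40213 (tt N42717 (iv1 F314535)) (tt N23093 (iv0 F316259)) (tt N21854 F314002) (tt N66868 (iv3 F316505)) (tt N20382 (iv4 D65623)) (tt N36635 (iv5 F315517)) (tt N21828 F314003) (tt N57698 F314004))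
theorem Q40215 : ∀ i, i < 40215 → P i := stepQ 40214 Q40214 (allL N40214 (tt N20404 F179600) (tt N62301 F180702) (tt N62300 F180632) (tt N20383 (iv3 D65625)) (tt N61840 F179592) (tt N36358 F101364) (tt N72708 D139799) (tt N41250 (iv7 F162350)))
theorem Q40216 : ∀ i, i < 40216 → P i := stepQ 40215 Q40215 (allL N40215 (tt N62585 F182595) (tt N72709 D139800) (tt N41253 F162348) (tt N72710 D139801) (tt N20383 (iv4 D65626)) (tt N72711 D139802) (tt N72712 D139803) (tt N41251 (iv7 F162351)))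
theorem Q40217 : ∀ i, i < 40217 → P i := stepQ 40216 Q40216 (allL N40216 (tt N41576 F167396) (tt N20503 F167397) (tt N41254 F162349) (tt N72708 (iv3 F222992)) (tt N72712 (iv4 F222998)) (tt N41254 F320849) (tt N20383 (iv6 D65627)) (tt N33896 (iv7 F318704)))
theorem Q40218 : ∀ i, i < 40218 → P i := stepQ 40217 Q40217 (allL N40217 (tt N41147 F180643) (tt N20481 F180644) (tt N62222 (iv2 F180213)) (tt N20384 (iv3 D65629)) (tt N62674 (iv4 F182988)) (tt N36360 F101367) (tt N33897 (iv6 F322608)) (tt N41252 F162346))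
theorem Q40219 : ∀ i, i < 40219 → P i := stepQ 40218 Q40218 (allL N40218 (tt N72709 (iv1 F222993)) (tt N62585 (iv0 F182594)) (tt N41251 F162352) (tt N72713 D139806) (tt N20384 (iv4 D65630)) (tt N72714 D139807) (tt N33898 (iv6 F322609)) (tt N41253 F162347))
theorem Q40220 : ∀ i, i < 40220 → P i := stepQ 40219 Q40219 (allL N40219 (tt N41238 (iv1 F103711)) (tt N41237 F103707) (tt N20386 F101368) (tt N72715 D139813) (tt N20385 (iv4 D65632)) (tt N72716 D139814) (tt N72717 D139815) (tt N41239 (iv7 F103709)))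
theorem Q40221 : ∀ i, i < 40221 → P i := stepQ 40220 Q40220 (allL N40220 (tt N40582 (iv1 F173691)) (tt N40579 (iv0 F173671)) (tt N20387 F101369) (tt N33330 F319607) (tt N72718 D139816) (tt N20385 (iv5 D65633)) (tt N40638 (iv6 F320294)) (tt N40631 (iv7 F102286)))
theorem Q40222 : ∀ i, i < 40222 → P i := stepQ 40221 Q40221 (allL N40221 (tt N72719 D139818) (tt N72720 D139819) (tt N20388 F101370) (tt N36381 F319627) (tt N72717 (iv4 F223011)) (tt N36380 F319628) (tt N20385 (iv6 D65634)) (tt N72721 D139821))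
theorem Q40223 : ∀ i, i < 40223 → P i := stepQ 40222 Q40222 (allL N40222 (tt N41239 (iv1 F103710)) (tt N20386 (iv0 D65635)) (tt N41238 (iv2 F205131)) (tt N72501 (iv3 F222623)) (tt N41538 (iv4 F104392)) (tt N72722 D139822) (tt N72723 D139823) (tt N41237 F205126))
theorem Q40224 : ∀ i, i < 40224 → P i := stepQ 40223 Q40223 (allL N40223 (tt N20386 (iv1 D65636)) (tt N41239 F103712) (tt N41237 F205130) (tt N72724 D139824) (tt N40198 (iv4 F101371)) (tt N72725 D139825) (tt N33900 F321292) (tt N41238 (iv7 F205129)))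
theorem Q40225 : ∀ i, i < 40225 → P i := stepQ 40224 Q40224 (allL N40224 (tt N55974 (iv1 F162322)) (tt N55977 F162321) (tt N72716 (iv2 F223008)) (tt N32090 F101372) (tt N72726 D139827) (tt N20386 (iv5 D65637)) (tt N72727 D139828) (tt N41240 (iv7 F103714)))
theorem Q40226 : ∀ i, i < 40226 → P i := stepQ 40225 Q40225 (allL N40225 (tt N72728 D139829) (tt N72729 D139830) (tt N72717 (iv2 F223010)) (tt N32088 F101373) (tt N20388 F101374) (tt N72730 D139831) (tt N20386 (iv6 D65638)) (tt N72731 D139832))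
theorem Q40227 : ∀ i, i < 40227 → P i := stepQ 40226 Q40226 (allL N40226 (tt N72732 D139833) (tt N72733 D139834) (tt N72718 (iv2 F223012)) (tt N21116 F101375) (tt N20387 (iv4 D65641)) (tt N72734 D139835) (tt N72735 D139836) (tt N40632 (iv7 F102291)))
theorem Q40228 : ∀ i, i < 40228 → P i := stepQ 40227 Q40227 (allL N40227 (tt N62729 (iv1 F363630)) (tt N56019 (iv0 F333616)) (tt N40638 F321729) (tt N20389 F101376) (tt N72735 (iv4 F223048)) (tt N72736 D139839) (tt N20387 (iv6 D65642)) (tt N72737 D139840))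
theorem Q40229 : ∀ i, i < 40229 → P i := stepQ 40228 Q40228 (allL N40228 (tt N72721 (iv1 F223021)) (tt N20388 (iv0 D65643)) (tt N72719 (iv2 F333632)) (tt N72738 D139842) (tt N72739 D139843) (tt N63391 (iv5 F333634)) (tt N44129 (iv6 F333635)) (tt N72720 (iv7 F333637)))
theorem Q40230 : ∀ i, i < 40230 → P i := stepQ 40229 Q40229 (allL N40229 (tt N20388 (iv1 D65644)) (tt N72721 F223020) (tt N72720 (iv2 F333636)) (tt N72740 D139847) (tt N72741 D139848) (tt N72742 D139849) (tt N69062 (iv6 F333642)) (tt N72719 (iv7 F333633)))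
theorem Q40231 : ∀ i, i < 40231 → P i := stepQ 40230 Q40230 (allL N40230 (tt N33569 (iv1 F321608)) (tt N41392 F319610) (tt N36380 F317915) (tt N20390 F101377) (tt N72743 D139853) (tt N20388 (iv5 D65645)) (tt N72736 (iv6 F223050)) (tt N41391 F317916))
theorem Q40232 : ∀ i, i < 40232 → P i := stepQ 40231 Q40231 (allL N40231 (tt N72720 (iv1 F223015)) (tt N72719 F223019) (tt N72721 (iv2 F223018)) (tt N20391 F101378) (tt N72731 (iv4 F223036)) (tt N41391 (iv5 F317365)) (tt N41259 (iv6 F103733)) (tt N20388 (iv7 D65646)))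
theorem Q40233 : ∀ i, i < 40233 → P i := stepQ 40232 Q40232 (allL N40232 (tt N40637 (iv1 F102327)) (tt N20389 (iv0 D65647)) (tt N40634 (iv2 F200167)) (tt N72744 D139855) (tt N20917 F131053) (tt N21146 F313183) (tt N21674 F313184) (tt N40635 (iv7 F200173)))
theorem Q40234 : ∀ i, i < 40234 → P i := stepQ 40233 Q40233 (allL N40233 (tt N46235 F313216) (tt N41614 F313217) (tt N40636 (iv2 F102320)) (tt N72736 (iv3 F223049)) (tt N64063 (iv4 F315596)) (tt N20389 (iv5 D65649)) (tt N20390 F101379) (tt N72745 D139862))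
theorem Q40235 : ∀ i, i < 40235 → P i := stepQ 40234 Q40234 (allL N40234 (tt N40635 (iv1 F102319)) (tt N40634 F102325) (tt N40637 (iv2 F102322)) (tt N72737 (iv3 F223051)) (tt N21120 F101380) (tt N72745 (iv5 F223065)) (tt N21663 F315202) (tt N20389 (iv7 D65650)))
theorem Q40236 : ∀ i, i < 40236 → P i := stepQ 40235 Q40235 (allL N40235 (tt N22704 (iv1 F101387)) (tt N33492 (iv0 F315677)) (tt N36377 (iv2 F315674)) (tt N41391 (iv3 F317364)) (tt N48516 F321816) (tt N20391 F101386) (tt N57708 (iv6 F317404)) (tt N20390 (iv7 D65653)))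
theorem Q40237 : ∀ i, i < 40237 → P i := stepQ 40236 Q40236 (allL N40236 (tt N20485 F177229) (tt N62233 F180298) (tt N62232 F180235) (tt N20392 (iv3 D65655)) (tt N58536 F169572) (tt N21654 F320873) (tt N21657 (iv6 F322631)) (tt N41221 F177230))
theorem Q40238 : ∀ i, i < 40238 → P i := stepQ 40237 Q40237 (allL N40237 (tt N37911 F320391) (tt N36186 (iv0 F321837)) (tt N40652 (iv2 F320529)) (tt N72746 D139869) (tt N20392 (iv4 D65656)) (tt N33334 (iv5 F322085)) (tt N21658 (iv6 F322633)) (tt N40657 (iv7 F320794)))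
theorem Q40239 : ∀ i, i < 40239 → P i := stepQ 40238 Q40238 (allL N40238 (tt N41487 F180284) (tt N20400 F180285) (tt N62292 (iv2 F180599)) (tt N20393 (iv3 D65660)) (tt N62577 (iv4 F182476)) (tt N20494 F320922) (tt N20497 F320923) (tt N41222 F177241))
theorem Q40240 : ∀ i, i < 40240 → P i := stepQ 40239 Q40239 (allL N40239 (tt N36186 (iv1 F321838)) (tt N37911 F320390) (tt N40657 (iv2 F320792)) (tt N71349 (iv3 F219906)) (tt N20393 (iv4 D65661)) (tt N33337 (iv5 F322084)) (tt N20505 F320924) (tt N40652 (iv7 F320531)))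
theorem Q40241 : ∀ i, i < 40241 → P i := stepQ 40240 Q40240 (allL N40240 (tt N35483 F316496) (tt N42875 F316497) (tt N20397 F101393) (tt N41255 (iv3 F103730)) (tt N40664 (iv4 F322016)) (tt N68573 (iv5 F318740)) (tt N20394 (iv6 D65666)) (tt N48147 F316498))
theorem Q40242 : ∀ i, i < 40242 → P i := stepQ 40241 Q40241 (allL N40241 (tt N37032 F320786) (tt N20395 (iv0 D65667)) (tt N40662 F320787) (tt N72747 D139882) (tt N21695 F320872) (tt N36154 (iv5 F182037)) (tt N21696 (iv6 F322628)) (tt N40663 F320788))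
theorem Q40243 : ∀ i, i < 40243 → P i := stepQ 40242 Q40242 (allL N40242 (tt N20395 (iv1 D65668)) (tt N37032 F321278) (tt N40663 F321279) (tt N72748 D139884) (tt N33453 F320396) (tt N36155 F162514) (tt N33553 (iv6 F320590)) (tt N40662 F321280))
theorem Q40244 : ∀ i, i < 40244 → P i := stepQ 40243 Q40243 (allL N40243 (tt N48056 (iv1 F318741)) (tt N70113 (iv0 F323783)) (tt N40664 F322107) (tt N33475 F101396) (tt N20397 F101397) (tt N36950 (iv5 F323784)) (tt N20395 (iv6 D65670)) (tt N72239 (iv7 F221755)))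
theorem Q40245 : ∀ i, i < 40245 → P i := stepQ 40244 Q40244 (allL N40244 (tt N20397 (iv1 D65676)) (tt N48147 F316492) (tt N42875 F316493) (tt N72749 D139901) (tt N68043 (iv4 F320867)) (tt N37365 (iv5 F318737)) (tt N34392 F316494) (tt N35483 F316495))
theorem Q40246 : ∀ i, i < 40246 → P i := stepQ 40245 Q40245 (allL N40245 (tt N38385 (iv1 F318742)) (tt N68572 (iv0 F318743)) (tt N68573 (iv2 F318738)) (tt N20399 F101400) (tt N68042 (iv4 F318744)) (tt N20397 (iv5 D65677)) (tt N38383 F316499) (tt N38360 F316500))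
theorem Q40247 : ∀ i, i < 40247 → P i := stepQ 40246 Q40246 (allL N40246 (tt N21826 (iv1 F315893)) (tt N21846 (iv0 F314930)) (tt N21844 (iv2 F315890)) (tt N38383 (iv3 F315894)) (tt N42728 F313401) (tt N20398 (iv5 D65679)) (tt N20399 F101405) (tt N21843 (iv7 F315895)))
theorem Q40248 : ∀ i, i < 40248 → P i := stepQ 40247 Q40247 (allL N40247 (tt N41263 (iv1 F103748)) (tt N20399 (iv0 D65681)) (tt N41261 F103741) (tt N72750 D139914) (tt N42717 (iv4 F314536)) (tt N38851 F101407) (tt N22777 (iv6 F314537)) (tt N41064 (iv7 F103267)))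
theorem Q40249 : ∀ i, i < 40249 → P i := stepQ 40248 Q40248 (allL N40248 (tt N20399 (iv1 D65682)) (tt N41263 F103747) (tt N41064 (iv2 F103266)) (tt N23086 (iv3 F314570)) (tt N23093 (iv4 F316260)) (tt N33469 (iv5 F101408)) (tt N23085 (iv6 F316261)) (tt N41261 (iv7 F103742)))
theorem Q40250 : ∀ i, i < 40250 → P i := stepQ 40249 Q40249 (allL N40249 (tt N43981 (iv1 F313916)) (tt N42741 (iv0 F313621)) (tt N41262 (iv2 F103744)) (tt N43538 (iv3 F315896)) (tt N20399 (iv4 D65683)) (tt N69135 (iv5 F212908)) (tt N42728 F313402) (tt N40042 F313403))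
theorem Q40251 : ∀ i, i < 40251 → P i := stepQ 40250 Q40250 (allL N40250 (tt N20400 (iv1 D65691)) (tt N41487 F104308) (tt N41222 (iv2 F180281)) (tt N62232 F180236) (tt N59182 (iv4 F172278)) (tt N45321 F322806) (tt N36480 (iv6 F324032)) (tt N62292 (iv7 F180600)))
theorem Q40252 : ∀ i, i < 40252 → P i := stepQ 40251 Q40251 (allL N40251 (tt N62292 F180663) (tt N41222 F180664) (tt N20400 (iv2 D65692)) (tt N62301 (iv3 F180699)) (tt N30363 (iv4 F180670)) (tt N66561 (iv5 F204485)) (tt N55193 (iv6 F336843)) (tt N41487 F104306))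
theorem Q40253 : ∀ i, i < 40253 → P i := stepQ 40252 Q40252 (allL N40252 (tt N66543 (iv1 F221133)) (tt N66556 (iv0 F204475)) (tt N66561 F204487) (tt N20402 F101417) (tt N62458 F181585) (tt N20400 (iv5 D65693)) (tt N52580 (iv6 F330064)) (tt N40613 (iv7 F181539)))
theorem Q40254 : ∀ i, i < 40254 → P i := stepQ 40253 Q40253 (allL N40253 (tt N24940 (iv1 F330067)) (tt N55195 (iv0 F330068)) (tt N55193 (iv2 F336841)) (tt N20403 F101418) (tt N41490 (iv4 F104313)) (tt N36351 F330075) (tt N20400 (iv6 D65694)) (tt N55192 (iv7 F341053)))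
theorem Q40255 : ∀ i, i < 40255 → P i := stepQ 40254 Q40254 (allL N40254 (tt N20405 (iv1 F101425)) (tt N20401 (iv0 D65696)) (tt N62295 (iv2 F205133)) (tt N72751 D139929) (tt N40200 F101420) (tt N72752 D139930) (tt N72753 D139931) (tt N62294 F205138))
theorem Q40256 : ∀ i, i < 40256 → P i := stepQ 40255 Q40255 (allL N40255 (tt N20401 (iv1 D65697)) (tt N20405 F101421) (tt N62294 F205136) (tt N58129 F182577) (tt N41265 (iv4 F182489)) (tt N72754 D139932) (tt N44054 (iv6 F324611)) (tt N62295 (iv7 F205137)))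
theorem Q40257 : ∀ i, i < 40257 → P i := stepQ 40256 Q40256 (allL N40256 (tt N72463 F222579) (tt N72755 D139934) (tt N72756 D139935) (tt N20401 (iv3 D65698)) (tt N41489 (iv4 F104312)) (tt N72757 D139936) (tt N72758 D139937) (tt N62296 F180683))
theorem Q40258 : ∀ i, i < 40258 → P i := stepQ 40257 Q40257 (allL N40257 (tt N72759 D139938) (tt N72760 D139939) (tt N62305 (iv2 F180759)) (tt N72757 (iv3 F223166)) (tt N72761 D139940) (tt N20401 (iv5 D65699)) (tt N72762 D139941) (tt N62297 (iv7 F180686)))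
theorem Q40259 : ∀ i, i < 40259 → P i := stepQ 40258 Q40258 (allL N40258 (tt N72763 D139942) (tt N72764 D139943) (tt N62306 (iv2 F180761)) (tt N72758 (iv3 F223167)) (tt N20403 F101422) (tt N72765 D139944) (tt N20401 (iv6 D65700)) (tt N72766 D139945))
theorem Q40260 : ∀ i, i < 40260 → P i := stepQ 40259 Q40259 (allL N40259 (tt N69991 (iv1 F343186)) (tt N72767 D139947) (tt N40617 (iv2 F181552)) (tt N72768 D139948) (tt N20402 (iv4 D65704)) (tt N72769 D139949) (tt N69917 (iv6 F333160)) (tt N40614 (iv7 F181542)))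
theorem Q40261 : ∀ i, i < 40261 → P i := stepQ 40260 Q40260 (allL N40260 (tt N72770 D139951) (tt N66547 (iv0 F334136)) (tt N40618 (iv2 F181555)) (tt N52580 (iv3 F330063)) (tt N69917 (iv4 F333159)) (tt N52579 (iv5 F333162)) (tt N20402 (iv6 D65705)) (tt N72771 D139954))
theorem Q40262 : ∀ i, i < 40262 → P i := stepQ 40261 Q40261 (allL N40261 (tt N62309 (iv1 F180772)) (tt N20403 (iv0 D65707)) (tt N41225 (iv2 F335040)) (tt N62229 (iv3 F350162)) (tt N72572 (iv4 F349411)) (tt N72772 D139958) (tt N72773 D139959) (tt N62307 (iv7 F341086)))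
theorem Q40263 : ∀ i, i < 40263 → P i := stepQ 40262 Q40262 (allL N40262 (tt N72774 D139965) (tt N39949 F325726) (tt N62308 (iv2 F180767)) (tt N36351 F330074) (tt N72775 D139967) (tt N20403 (iv5 D65709)) (tt N52579 (iv6 F333163)) (tt N72776 D139968))
theorem Q40264 : ∀ i, i < 40264 → P i := stepQ 40263 Q40263 (allL N40263 (tt N62307 (iv1 F180766)) (tt N41225 F341087) (tt N62309 (iv2 F180768)) (tt N55192 (iv3 F341050)) (tt N72766 (iv4 F223177)) (tt N72776 (iv5 F223188)) (tt N44347 (iv6 F341097)) (tt N20403 (iv7 D65710)))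
theorem Q40265 : ∀ i, i < 40265 → P i := stepQ 40264 Q40264 (allL N40264 (tt N62301 (iv1 F180701)) (tt N20404 (iv0 D65712)) (tt N41250 F179599) (tt N62222 F180212) (tt N61839 F179591) (tt N62542 (iv5 F182083)) (tt N72777 D139969) (tt N62300 F180633))
theorem Q40266 : ∀ i, i < 40266 → P i := stepQ 40265 Q40265 (allL N40265 (tt N41250 F104309) (tt N62300 F180645) (tt N20404 (iv2 D65714)) (tt N41487 F104305) (tt N72778 D139970) (tt N72779 D139971) (tt N72780 D139972) (tt N62301 (iv7 F180700)))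
theorem Q40267 : ∀ i, i < 40267 → P i := stepQ 40266 Q40266 (allL N40266 (tt N40176 (iv1 F180184)) (tt N40174 (iv0 F101431)) (tt N72778 (iv2 F223189)) (tt N61985 (iv3 F330564)) (tt N20404 (iv4 D65715)) (tt N61984 (iv5 F362576)) (tt N72781 D139974) (tt N62302 (iv7 F180747)))
theorem Q40268 : ∀ i, i < 40268 → P i := stepQ 40267 Q40267 (allL N40267 (tt N72782 D139975) (tt N56013 F181942) (tt N72779 (iv2 F223194)) (tt N20406 F101432) (tt N62509 (iv4 F181951)) (tt N20404 (iv5 D65716)) (tt N72783 D139976) (tt N40616 (iv7 F181551)))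
theorem Q40269 : ∀ i, i < 40269 → P i := stepQ 40268 Q40268 (allL N40268 (tt N72784 D139977) (tt N72785 D139978) (tt N72780 (iv2 F223197)) (tt N20407 F101433) (tt N72781 (iv4 F223200)) (tt N72786 D139979) (tt N20404 (iv6 D65717)) (tt N72787 D139980))
theorem Q40270 : ∀ i, i < 40270 → P i := stepQ 40269 Q40269 (allL N40269 (tt N72461 (iv1 F222569)) (tt N31416 (iv0 F101434)) (tt N72460 F222571) (tt N20405 (iv3 D65718)) (tt N61985 (iv4 F330565)) (tt N72788 D139981) (tt N72789 D139982) (tt N62304 (iv7 F180756)))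
theorem Q40271 : ∀ i, i < 40271 → P i := stepQ 40270 Q40270 (allL N40270 (tt N72760 (iv1 F223172)) (tt N72759 F223168) (tt N62297 F180696) (tt N72788 (iv3 F223207)) (tt N72790 D139983) (tt N20405 (iv5 D65719)) (tt N72791 D139984) (tt N62305 (iv7 F180760)))
theorem Q40272 : ∀ i, i < 40272 → P i := stepQ 40271 Q40271 (allL N40271 (tt N72792 D139985) (tt N72793 D139986) (tt N62298 F180687) (tt N72789 (iv3 F223208)) (tt N20407 F101435) (tt N72794 D139987) (tt N20405 (iv6 D65720)) (tt N72795 D139988))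
theorem Q40273 : ∀ i, i < 40273 → P i := stepQ 40272 Q40272 (allL N40272 (tt N72767 (iv1 F223181)) (tt N69991 (iv0 F343185)) (tt N40614 (iv2 F181541)) (tt N72796 D139989) (tt N20406 (iv4 D65721)) (tt N72797 D139990) (tt N72798 D139991) (tt N40617 (iv7 F181553)))
theorem Q40274 : ∀ i, i < 40274 → P i := stepQ 40273 Q40273 (allL N40273 (tt N44049 F336881) (tt N63086 (iv0 F336875)) (tt N40615 (iv2 F181544)) (tt N72783 (iv3 F223204)) (tt N72798 (iv4 F223212)) (tt N64363 (iv5 F340979)) (tt N20406 (iv6 D65722)) (tt N63087 (iv7 F333352)))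
theorem Q40275 : ∀ i, i < 40275 → P i := stepQ 40274 Q40274 (allL N40274 (tt N20407 (iv1 D65724)) (tt N44347 F341098) (tt N41260 (iv2 F341102)) (tt N46533 (iv3 F341103)) (tt N72581 (iv4 F341111)) (tt N46532 (iv5 F341104)) (tt N42902 (iv6 F341105)) (tt N44346 (iv7 F341106)))
theorem Q40276 : ∀ i, i < 40276 → P i := stepQ 40275 Q40275 (allL N40275 (tt N72750 (iv1 F342392)) (tt N72799 D140007) (tt N62299 F180688) (tt N72786 (iv3 F223205)) (tt N72800 D140008) (tt N20407 (iv5 D65725)) (tt N64363 (iv6 F340980)) (tt N72801 D140009))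
theorem Q40277 : ∀ i, i < 40277 → P i := stepQ 40276 Q40276 (allL N40276 (tt N41260 F332414) (tt N44346 F332415) (tt N44347 F341099) (tt N72787 (iv3 F223206)) (tt N72795 (iv4 F223211)) (tt N72801 (iv5 F223216)) (tt N62309 (iv6 F180769)) (tt N20407 (iv7 D65726)))
theorem Q40278 : ∀ i, i < 40278 → P i := stepQ 40277 Q40277 (allL N40277 (tt N62319 (iv1 F180792)) (tt N62318 F180790) (tt N20412 F101436) (tt N72802 D140010) (tt N20408 (iv4 D65727)) (tt N72803 D140011) (tt N45313 F316570) (tt N62310 (iv7 F180774)))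
theorem Q40279 : ∀ i, i < 40279 → P i := stepQ 40278 Q40278 (allL N40278 (tt N20494 (iv1 F319597)) (tt N45321 (iv0 F321027)) (tt N45324 (iv2 F318789)) (tt N20410 (iv3 D65734)) (tt N41022 F103179) (tt N20555 F105774) (tt N24315 (iv6 F318960)) (tt N45325 (iv7 F316591)))
theorem Q40280 : ∀ i, i < 40280 → P i := stepQ 40279 Q40279 (allL N40279 (tt N40983 F103140) (tt N53701 (iv0 F320400)) (tt N62316 (iv2 F181678)) (tt N72804 D140034) (tt N20410 (iv4 D65735)) (tt N72805 D140035) (tt N72806 D140036) (tt N62313 (iv7 F181688)))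
theorem Q40281 : ∀ i, i < 40281 → P i := stepQ 40280 Q40280 (allL N40280 (tt N63054 (iv1 F320403)) (tt N21458 (iv0 F320404)) (tt N62317 (iv2 F181680)) (tt N24315 (iv3 F318959)) (tt N72806 (iv4 F223250)) (tt N64267 (iv5 F320082)) (tt N20410 (iv6 D65737)) (tt N63053 (iv7 F320083)))
theorem Q40282 : ∀ i, i < 40282 → P i := stepQ 40281 Q40281 (allL N40281 (tt N62542 (iv1 F182085)) (tt N36358 (iv0 F180185)) (tt N72807 D140041) (tt N20411 (iv3 D65739)) (tt N42258 F105778) (tt N20558 F105779) (tt N72808 D140042) (tt N62315 (iv7 F181677)))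
theorem Q40283 : ∀ i, i < 40283 → P i := stepQ 40282 Q40282 (allL N40282 (tt N53701 (iv1 F320401)) (tt N40983 F181270) (tt N62313 (iv2 F181687)) (tt N72809 D140043) (tt N20411 (iv4 D65740)) (tt N72810 D140044) (tt N54801 (iv6 F337100)) (tt N62316 (iv7 F181679)))
theorem Q40284 : ∀ i, i < 40284 → P i := stepQ 40283 Q40283 (allL N40283 (tt N36231 (iv1 F318791)) (tt N44000 (iv0 F317437)) (tt N62314 (iv2 F181690)) (tt N72808 (iv3 F223259)) (tt N54801 (iv4 F337099)) (tt N72192 (iv5 F318797)) (tt N20411 (iv6 D65742)) (tt N72811 D140049))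
theorem Q40285 : ∀ i, i < 40285 → P i := stepQ 40284 Q40284 (allL N40284 (tt N62310 (iv1 F180776)) (tt N20412 (iv0 D65743)) (tt N62319 (iv2 F181701)) (tt N62929 (iv3 F348006)) (tt N42677 (iv4 F318912)) (tt N72812 D140051) (tt N72813 D140052) (tt N62318 F181702))
theorem Q40286 : ∀ i, i < 40286 → P i := stepQ 40285 Q40285 (allL N40285 (tt N20412 (iv1 D65744)) (tt N62310 F180775) (tt N62318 (iv2 F181671)) (tt N72814 D140053) (tt N45266 (iv4 F318915)) (tt N72815 D140054) (tt N72816 D140055) (tt N62319 (iv7 F181700)))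
theorem Q40287 : ∀ i, i < 40287 → P i := stepQ 40286 Q40286 (allL N40286 (tt N72817 D140056) (tt N72818 D140057) (tt N72803 (iv2 F223218)) (tt N21416 F101446) (tt N72819 D140058) (tt N20412 (iv5 D65745)) (tt N72820 D140059) (tt N62320 (iv7 F180795)))
theorem Q40288 : ∀ i, i < 40288 → P i := stepQ 40287 Q40287 (allL N40287 (tt N44055 (iv1 F323740)) (tt N44054 (iv0 F323741)) (tt N29779 (iv2 F323735)) (tt N72821 D140093) (tt N20413 (iv4 D65753)) (tt N72822 D140094) (tt N72193 (iv6 F323749)) (tt N42906 (iv7 F323751)))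
theorem Q40289 : ∀ i, i < 40289 → P i := stepQ 40288 Q40288 (allL N40288 (tt N72777 (iv1 F323753)) (tt N33894 (iv0 F323754)) (tt N36621 (iv2 F323755)) (tt N20414 (iv3 D65757)) (tt N43364 (iv4 F323756)) (tt N29769 (iv5 F323757)) (tt N72823 D140112) (tt N29768 (iv7 F323734)))
theorem Q40290 : ∀ i, i < 40290 → P i := stepQ 40289 Q40289 (allL N40289 (tt N44054 (iv1 F323742)) (tt N44055 (iv0 F323739)) (tt N42906 (iv2 F323750)) (tt N72824 D140113) (tt N20414 (iv4 D65758)) (tt N72825 D140114) (tt N72826 D140115) (tt N29779 (iv7 F323736)))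
theorem Q40291 : ∀ i, i < 40291 → P i := stepQ 40290 Q40290 (allL N40290 (tt N41066 (iv1 F323758)) (tt N72773 (iv0 F359180)) (tt N42907 (iv2 F323752)) (tt N72823 (iv3 F223302)) (tt N72826 (iv4 F223303)) (tt N37512 (iv5 F322749)) (tt N20414 (iv6 D65760)) (tt N72196 (iv7 F323759)))
theorem Q40292 : ∀ i, i < 40292 → P i := stepQ 40291 Q40291 (allL N40291 (tt N39491 (iv1 F111449)) (tt N20415 (iv0 D65819)) (tt N61897 F179646) (tt N72827 D140259) (tt N60364 (iv4 F176287)) (tt N72828 D140260) (tt N61945 F179720) (tt N60363 F176284))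
theorem Q40293 : ∀ i, i < 40293 → P i := stepQ 40292 Q40292 (allL N40292 (tt N72829 D140265) (tt N72830 D140266) (tt N61899 (iv2 F179651)) (tt N22145 F323814) (tt N72831 D140267) (tt N20415 (iv5 D65822)) (tt N72832 D140268) (tt N61900 (iv7 F179655)))
theorem Q40294 : ∀ i, i < 40294 → P i := stepQ 40293 Q40293 (allL N40293 (tt N38657 (iv1 F101515)) (tt N20416 (iv0 D65861)) (tt N38656 (iv2 F181480)) (tt N72833 D140326) (tt N67755 (iv4 F324047)) (tt N72834 D140328) (tt N72835 D140329) (tt N38655 F181481))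
theorem Q40295 : ∀ i, i < 40295 → P i := stepQ 40294 Q40294 (allL N40294 (tt N20416 (iv1 D65862)) (tt N38657 F101519) (tt N38655 F181479) (tt N62370 F181445) (tt N36149 (iv4 F101516)) (tt N72836 D140330) (tt N72837 D140331) (tt N38656 (iv7 F181478)))
theorem Q40296 : ∀ i, i < 40296 → P i := stepQ 40295 Q40295 (allL N40295 (tt N38656 (iv1 F101520)) (tt N38655 F101518) (tt N20416 (iv2 D65863)) (tt N56768 (iv3 F164771)) (tt N66380 (iv4 F204070)) (tt N58338 (iv5 F169166)) (tt N72838 D140332) (tt N38657 F101517))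
theorem Q40297 : ∀ i, i < 40297 → P i := stepQ 40296 Q40296 (allL N40296 (tt N72839 D140333) (tt N72840 D140334) (tt N72838 (iv2 F223444)) (tt N20417 F101521) (tt N65855 (iv4 F351688)) (tt N72841 D140335) (tt N20416 (iv6 D65864)) (tt N57849 (iv7 F167916)))
theorem Q40298 : ∀ i, i < 40298 → P i := stepQ 40297 Q40297 (allL N40297 (tt N30728 (iv1 F101522)) (tt N20417 (iv0 D65865)) (tt N56792 F202584) (tt N72120 (iv3 F221369)) (tt N38718 (iv4 F168118)) (tt N72842 D140336) (tt N72843 D140337) (tt N56793 F202579))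
theorem Q40299 : ∀ i, i < 40299 → P i := stepQ 40298 Q40298 (allL N40298 (tt N20417 (iv1 D65866)) (tt N30728 F101523) (tt N56793 F202581) (tt N72844 D140338) (tt N38717 (iv4 F169260)) (tt N72845 D140339) (tt N72846 D140340) (tt N56792 (iv7 F202583)))
theorem Q40300 : ∀ i, i < 40300 → P i := stepQ 40299 Q40299 (allL N40299 (tt N72847 D140341) (tt N72848 D140342) (tt N56794 (iv2 F164801)) (tt N72841 (iv3 F223445)) (tt N72849 D140343) (tt N20417 (iv5 D65867)) (tt N58340 (iv6 F169168)) (tt N57860 (iv7 F167934)))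
theorem Q40301 : ∀ i, i < 40301 → P i := stepQ 40300 Q40300 (allL N40300 (tt N20600 F168103) (tt N44351 F168104) (tt N20775 F163973) (tt N72850 D140344) (tt N20418 (iv4 D65874)) (tt N72851 D140345) (tt N72852 D140346) (tt N56795 (iv7 F164803)))
theorem Q40302 : ∀ i, i < 40302 → P i := stepQ 40301 Q40301 (allL N40301 (tt N33237 F111584) (tt N57740 (iv0 F167673)) (tt N20776 F163965) (tt N40081 (iv3 F168312)) (tt N72853 D140347) (tt N20418 (iv5 D65875)) (tt N33215 F101528) (tt N56796 (iv7 F164808)))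
theorem Q40303 : ∀ i, i < 40303 → P i := stepQ 40302 Q40302 (allL N40302 (tt N44365 (iv1 F111788)) (tt N20614 (iv0 F101530)) (tt N20777 F163948) (tt N59276 (iv3 F172452)) (tt N72852 (iv4 F223453)) (tt N30793 F101529) (tt N20418 (iv6 D65876)) (tt N30930 (iv7 F101640)))
theorem Q40304 : ∀ i, i < 40304 → P i := stepQ 40303 Q40303 (allL N40303 (tt N72854 D140348) (tt N72855 D140349) (tt N72856 D140350) (tt N20419 (iv3 D65877)) (tt N39586 F101531) (tt N57947 (iv5 F168619)) (tt N72857 D140351) (tt N56731 (iv7 F164672)))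
theorem Q40305 : ∀ i, i < 40305 → P i := stepQ 40304 Q40304 (allL N40304 (tt N57890 F168498) (tt N31639 (iv0 F101534)) (tt N20437 F101532) (tt N72857 (iv3 F223459)) (tt N20420 F101533) (tt N72858 D140352) (tt N20419 (iv6 D65878)) (tt N58117 (iv7 F168877)))
theorem Q40306 : ∀ i, i < 40306 → P i := stepQ 40305 Q40305 (allL N40305 (tt N20441 (iv1 F101537)) (tt N20420 (iv0 D65879)) (tt N20438 F101541) (tt N35637 (iv3 F101540)) (tt N30896 (iv4 F101603)) (tt N72859 D140353) (tt N58085 (iv6 F168859)) (tt N20439 F101539))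
theorem Q40307 : ∀ i, i < 40307 → P i := stepQ 40306 Q40306 (allL N40306 (tt N20439 (iv1 F101538)) (tt N20438 F101544) (tt N20441 F101536) (tt N58856 F171165) (tt N58117 F168878) (tt N58984 (iv5 F171673)) (tt N56734 (iv6 F164680)) (tt N20420 (iv7 D65880)))
theorem Q40308 : ∀ i, i < 40308 → P i := stepQ 40307 Q40307 (allL N40307 (tt N56737 (iv1 F164688)) (tt N20423 (iv0 D65881)) (tt N56736 (iv2 F224843)) (tt N72860 D140355) (tt N72861 D140356) (tt N72862 D140357) (tt N72863 D140358) (tt N56735 (iv7 F224841)))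
theorem Q40309 : ∀ i, i < 40309 → P i := stepQ 40308 Q40308 (allL N40308 (tt N20423 (iv1 D65882)) (tt N56737 F164690) (tt N56735 (iv2 F224840)) (tt N72864 D140360) (tt N72865 D140361) (tt N72866 D140362) (tt N72867 D140363) (tt N56736 (iv7 F224844)))
theorem Q40310 : ∀ i, i < 40310 → P i := stepQ 40309 Q40309 (allL N40309 (tt N56736 (iv1 F164689)) (tt N56735 F164684) (tt N20423 (iv2 D65883)) (tt N20460 F101547) (tt N59467 (iv4 F172958)) (tt N72868 D140364) (tt N72869 D140365) (tt N56737 (iv7 F164687)))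
theorem Q40311 : ∀ i, i < 40311 → P i := stepQ 40310 Q40310 (allL N40310 (tt N72452 (iv1 F345618)) (tt N72870 D140367) (tt N72868 (iv2 F223474)) (tt N20424 F101548) (tt N72871 D140368) (tt N20423 (iv5 D65884)) (tt N72872 D140369) (tt N56738 (iv7 F164692)))
theorem Q40312 : ∀ i, i < 40312 → P i := stepQ 40311 Q40311 (allL N40311 (tt N72873 D140370) (tt N72874 D140371) (tt N72869 (iv2 F223476)) (tt N20425 F101549) (tt N28433 F329204) (tt N72875 D140372) (tt N20423 (iv6 D65885)) (tt N28432 (iv7 F329487)))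
theorem Q40313 : ∀ i, i < 40313 → P i := stepQ 40312 Q40312 (allL N40312 (tt N72876 D140374) (tt N72877 D140375) (tt N20465 F101550) (tt N72872 (iv3 F223478)) (tt N57946 (iv4 F168618)) (tt N72878 D140376) (tt N20424 (iv6 D65886)) (tt N72879 D140377))
theorem Q40314 : ∀ i, i < 40314 → P i := stepQ 40313 Q40313 (allL N40313 (tt N20469 F101553) (tt N20425 (iv0 D65887)) (tt N20466 F101554) (tt N30254 F331787) (tt N30885 (iv4 F101679)) (tt N30253 (iv5 F331789)) (tt N57006 (iv6 F331794)) (tt N20467 (iv7 F101552)))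
theorem Q40315 : ∀ i, i < 40315 → P i := stepQ 40314 Q40314 (allL N40314 (tt N72880 D140380) (tt N72881 D140381) (tt N20468 F101556) (tt N72875 (iv3 F223479)) (tt N72882 D140382) (tt N20425 (iv5 D65888)) (tt N72878 (iv6 F223483)) (tt N72883 D140383))
theorem Q40316 : ∀ i, i < 40316 → P i := stepQ 40315 Q40315 (allL N40315 (tt N20467 (iv1 F101559)) (tt N20466 F101560) (tt N20469 F101557) (tt N28432 F329675) (tt N20427 F101558) (tt N72883 (iv5 F223498)) (tt N28455 F329676) (tt N20425 (iv7 D65889)))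
theorem Q40317 : ∀ i, i < 40317 → P i := stepQ 40316 Q40316 (allL N40316 (tt N58080 (iv1 F168849)) (tt N55912 F162131) (tt N20470 F101561) (tt N72884 D140384) (tt N20426 (iv4 D65890)) (tt N72885 D140385) (tt N69843 (iv6 F216247)) (tt N20473 F101562))
theorem Q40318 : ∀ i, i < 40318 → P i := stepQ 40317 Q40317 (allL N40317 (tt N58748 (iv1 F170579)) (tt N35742 (iv0 F166191)) (tt N31984 F101563) (tt N20430 F101564) (tt N31124 F101565) (tt N40317 F101566) (tt N20428 (iv6 D65891)) (tt N31985 F101567))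
theorem Q40319 : ∀ i, i < 40319 → P i := stepQ 40318 Q40318 (allL N40318 (tt N31215 F101570) (tt N72886 D140386) (tt N72887 D140387) (tt N20429 (iv3 D65892)) (tt N31123 F101568) (tt N72888 D140388) (tt N72889 D140389) (tt N30915 F101569))
theorem Q40320 : ∀ i, i < 40320 → P i := stepQ 40319 Q40319 (allL N40319 (tt N30785 F101574) (tt N30780 F101575) (tt N30851 F101571) (tt N72888 (iv3 F223518)) (tt N20463 F101572) (tt N20429 (iv5 D65893)) (tt N72890 D140390) (tt N30852 F101573))
theorem Q40321 : ∀ i, i < 40321 → P i := stepQ 40320 Q40320 (allL N40320 (tt N31005 (iv1 F166190)) (tt N31009 F166161) (tt N30914 F101576) (tt N72889 (iv3 F223520)) (tt N20430 F101577) (tt N72891 D140391) (tt N20429 (iv6 D65894)) (tt N59342 (iv7 F172679)))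
theorem Q40322 : ∀ i, i < 40322 → P i := stepQ 40321 Q40321 (allL N40321 (tt N72892 D140392) (tt N72893 D140393) (tt N72894 D140394) (tt N20431 (iv3 D65895)) (tt N32001 F101578) (tt N58163 (iv5 F168946)) (tt N47924 F328592) (tt N30840 F101579))
theorem Q40323 : ∀ i, i < 40323 → P i := stepQ 40322 Q40322 (allL N40322 (tt N20432 (iv1 D65896)) (tt N59487 (iv0 F172991)) (tt N60694 (iv2 F176724)) (tt N32091 (iv3 F101581)) (tt N44358 F336687) (tt N41102 (iv5 F103348)) (tt N35597 (iv6 F101582)) (tt N31415 F101580))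
theorem Q40324 : ∀ i, i < 40324 → P i := stepQ 40323 Q40323 (allL N40323 (tt N60694 (iv1 F176719)) (tt N31415 (iv0 F171182)) (tt N59487 (iv2 F172987)) (tt N32005 F101583) (tt N59336 (iv4 F172639)) (tt N38705 F101584) (tt N58866 (iv6 F171188)) (tt N20432 (iv7 D65897)))
theorem Q40325 : ∀ i, i < 40325 → P i := stepQ 40324 Q40324 (allL N40324 (tt N72895 D140395) (tt N58840 F175068) (tt N31995 F101585) (tt N20435 F101586) (tt N31042 F101587) (tt N31413 F101588) (tt N20433 (iv6 D65898)) (tt N60759 (iv7 F176838)))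
theorem Q40326 : ∀ i, i < 40326 → P i := stepQ 40325 Q40325 (allL N40325 (tt N72896 D140396) (tt N72897 D140397) (tt N72898 D140398) (tt N20434 (iv3 D65899)) (tt N31040 F101589) (tt N58164 (iv5 F168950)) (tt N72899 D140399) (tt N30843 F101590))
theorem Q40327 : ∀ i, i < 40327 → P i := stepQ 40326 Q40326 (allL N40326 (tt N59751 F173791) (tt N59752 (iv0 F173798)) (tt N30842 F101591) (tt N72899 (iv3 F223549)) (tt N20435 F101592) (tt N24384 (iv5 F341306)) (tt N20434 (iv6 D65900)) (tt N47786 F341300))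
theorem Q40328 : ∀ i, i < 40328 → P i := stepQ 40327 Q40327 (allL N40327 (tt N58866 (iv1 F171192)) (tt N20435 (iv0 D65901)) (tt N58865 F173017) (tt N21035 F173018) (tt N57980 F173019) (tt N72900 D140401) (tt N65821 (iv6 F202424)) (tt N57247 F173020))
theorem Q40329 : ∀ i, i < 40329 → P i := stepQ 40328 Q40328 (allL N40328 (tt N20435 (iv1 D65902)) (tt N58866 F171190) (tt N57247 (iv2 F173021)) (tt N58768 F173015) (tt N57981 (iv4 F171191)) (tt N66416 (iv5 F204129)) (tt N58083 (iv6 F175105)) (tt N58865 (iv7 F173022)))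
theorem Q40330 : ∀ i, i < 40330 → P i := stepQ 40329 Q40329 (allL N40329 (tt N57247 (iv1 F171734)) (tt N58865 F171189) (tt N58866 (iv2 F171184)) (tt N60759 (iv3 F176836)) (tt N47786 F341299) (tt N31420 F101593) (tt N59487 F172992) (tt N20435 (iv7 D65903)))
theorem Q40331 : ∀ i, i < 40331 → P i := stepQ 40330 Q40330 (allL N40330 (tt N60697 (iv1 F176730)) (tt N20436 (iv0 D65904)) (tt N60696 (iv2 F358896)) (tt N72901 D140403) (tt N72902 D140404) (tt N72903 D140405) (tt N72904 D140406) (tt N60695 (iv7 F358903)))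
theorem Q40332 : ∀ i, i < 40332 → P i := stepQ 40331 Q40331 (allL N40331 (tt N20436 (iv1 D65905)) (tt N60697 F176732) (tt N60695 (iv2 F358902)) (tt N72905 D140408) (tt N72906 D140409) (tt N72907 D140410) (tt N72908 D140411) (tt N60696 (iv7 F358898)))
theorem Q40333 : ∀ i, i < 40333 → P i := stepQ 40332 Q40332 (allL N40332 (tt N60696 (iv1 F176731)) (tt N60695 F176726) (tt N20436 (iv2 D65906)) (tt N72856 (iv3 F223457)) (tt N36259 F101594) (tt N58330 (iv5 F169163)) (tt N72909 D140412) (tt N60697 (iv7 F176729)))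
theorem Q40334 : ∀ i, i < 40334 → P i := stepQ 40333 Q40333 (allL N40333 (tt N72910 D140413) (tt N72911 D140414) (tt N72909 (iv2 F223566)) (tt N20437 F101595) (tt N36261 F101596) (tt N72912 D140415) (tt N20436 (iv6 D65907)) (tt N72913 D140416))
theorem Q40335 : ∀ i, i < 40335 → P i := stepQ 40334 Q40334 (allL N40334 (tt N72219 (iv1 F351211)) (tt N72914 D140418) (tt N72858 (iv2 F223461)) (tt N72912 (iv3 F223568)) (tt N72915 D140419) (tt N20437 (iv5 D65908)) (tt N58334 (iv6 F169165)) (tt N72916 D140420))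
theorem Q40336 : ∀ i, i < 40336 → P i := stepQ 40335 Q40335 (allL N40335 (tt N31639 (iv1 F101598)) (tt N57890 (iv0 F168497)) (tt N58117 F168875) (tt N72913 (iv3 F223569)) (tt N20441 F101597) (tt N72916 (iv5 F223572)) (tt N58033 F168719) (tt N20437 (iv7 D65909)))
theorem Q40337 : ∀ i, i < 40337 → P i := stepQ 40336 Q40336 (allL N40336 (tt N30899 F101600) (tt N30786 (iv0 F101601)) (tt N30896 F101602) (tt N72917 D140421) (tt N20438 (iv4 D65910)) (tt N72918 D140422) (tt N59419 (iv6 F172871)) (tt N30897 F101599))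
theorem Q40338 : ∀ i, i < 40338 → P i := stepQ 40337 Q40337 (allL N40337 (tt N72919 D140423) (tt N57412 (iv0 F172409)) (tt N72859 (iv2 F223462)) (tt N57312 (iv3 F166024)) (tt N59244 (iv4 F172406)) (tt N20438 (iv5 D65911)) (tt N57377 (iv6 F166325)) (tt N31399 F101605))
theorem Q40339 : ∀ i, i < 40339 → P i := stepQ 40338 Q40338 (allL N40338 (tt N58083 (iv1 F168853)) (tt N58082 F168860) (tt N58085 (iv2 F168857)) (tt N32073 F101606) (tt N59419 (iv4 F172870)) (tt N55913 (iv5 F162136)) (tt N20438 (iv6 D65912)) (tt N32068 F101607))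
theorem Q40340 : ∀ i, i < 40340 → P i := stepQ 40339 Q40339 (allL N40339 (tt N57412 F166497) (tt N72919 F223579) (tt N31399 F101608) (tt N32147 F101609) (tt N31579 (iv4 F101611)) (tt N20439 (iv5 D65913)) (tt N31380 F101610) (tt N72859 (iv7 F223465)))
theorem Q40341 : ∀ i, i < 40341 → P i := stepQ 40340 Q40340 (allL N40340 (tt N58984 (iv1 F171678)) (tt N20440 (iv0 D65914)) (tt N58983 F171924) (tt N36038 F168900) (tt N40075 (iv4 F168899)) (tt N66036 (iv5 F203152)) (tt N66504 (iv6 F204314)) (tt N41218 (iv7 F171864)))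
theorem Q40342 : ∀ i, i < 40342 → P i := stepQ 40341 Q40341 (allL N40341 (tt N20440 (iv1 D65915)) (tt N58984 F171676) (tt N41218 (iv2 F171925)) (tt N72920 D140424) (tt N40076 (iv4 F171677)) (tt N72921 D140425) (tt N72922 D140426) (tt N58983 F171927))
theorem Q40343 : ∀ i, i < 40343 → P i := stepQ 40342 Q40342 (allL N40342 (tt N41218 F165728) (tt N58983 F171675) (tt N58984 (iv2 F171671)) (tt N30357 F101613) (tt N62273 (iv4 F180540)) (tt N20441 F101614) (tt N38466 (iv6 F101615)) (tt N20440 (iv7 D65916)))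
theorem Q40344 : ∀ i, i < 40344 → P i := stepQ 40343 Q40343 (allL N40343 (tt N62171 (iv1 F180056)) (tt N20443 (iv0 D65917)) (tt N62170 (iv2 F228317)) (tt N72923 D140428) (tt N72924 D140429) (tt N56779 (iv5 F225650)) (tt N72925 D140431) (tt N62169 (iv7 F228321)))
theorem Q40345 : ∀ i, i < 40345 → P i := stepQ 40344 Q40344 (allL N40344 (tt N20443 (iv1 D65918)) (tt N62171 F180058) (tt N62169 (iv2 F228320)) (tt N72926 D140433) (tt N72927 D140434) (tt N56780 (iv5 F223615)) (tt N72928 D140435) (tt N62170 (iv7 F228318)))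
theorem Q40346 : ∀ i, i < 40346 → P i := stepQ 40345 Q40345 (allL N40345 (tt N62170 (iv1 F180057)) (tt N62169 F180052) (tt N20443 (iv2 D65919)) (tt N62180 (iv3 F180084)) (tt N56909 (iv4 F165047)) (tt N72929 D140436) (tt N72930 D140437) (tt N62171 (iv7 F180055)))
theorem Q40347 : ∀ i, i < 40347 → P i := stepQ 40346 Q40346 (allL N40346 (tt N72931 D140438) (tt N72932 D140439) (tt N72929 (iv2 F223622)) (tt N20444 F101620) (tt N72933 D140440) (tt N20443 (iv5 D65920)) (tt N46716 (iv6 F341291)) (tt N62172 (iv7 F180060)))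
theorem Q40348 : ∀ i, i < 40348 → P i := stepQ 40347 Q40347 (allL N40347 (tt N72934 D140442) (tt N72935 D140443) (tt N72930 (iv2 F223625)) (tt N20445 F101621) (tt N56910 (iv4 F165054)) (tt N46703 (iv5 F341279)) (tt N20443 (iv6 D65921)) (tt N72220 (iv7 F221679)))
theorem Q40349 : ∀ i, i < 40349 → P i := stepQ 40348 Q40348 (allL N40348 (tt N47907 F341275) (tt N20445 (iv0 D65923)) (tt N38699 (iv2 F101624)) (tt N72936 D140449) (tt N30596 F101622) (tt N47911 (iv5 F341281)) (tt N30595 F101623) (tt N62183 (iv7 F180095)))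
theorem Q40350 : ∀ i, i < 40350 → P i := stepQ 40349 Q40349 (allL N40349 (tt N20445 (iv1 D65924)) (tt N47907 F341272) (tt N62183 (iv2 F180097)) (tt N72937 D140451) (tt N38702 (iv4 F101626)) (tt N45940 (iv5 F341278)) (tt N72938 D140453) (tt N38699 F101625))
theorem Q40351 : ∀ i, i < 40351 → P i := stepQ 40350 Q40350 (allL N40350 (tt N62180 (iv1 F180086)) (tt N20446 (iv0 D65926)) (tt N62179 (iv2 F182466)) (tt N72939 D140457) (tt N72940 D140458) (tt N58336 (iv5 F404829)) (tt N72941 D140460) (tt N62178 (iv7 F182468)))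
theorem Q40352 : ∀ i, i < 40352 → P i := stepQ 40351 Q40351 (allL N40351 (tt N20446 (iv1 D65927)) (tt N62180 F180088) (tt N62178 F182467) (tt N62225 (iv3 F182464)) (tt N72747 (iv4 F223101)) (tt N58337 (iv5 F354184)) (tt N72942 D140462) (tt N62179 F182465))
theorem Q40353 : ∀ i, i < 40353 → P i := stepQ 40352 Q40352 (allL N40352 (tt N62179 (iv1 F180087)) (tt N62178 F180083) (tt N20446 (iv2 D65928)) (tt N62171 (iv3 F180053)) (tt N66292 (iv4 F203929)) (tt N72943 D140463) (tt N72944 D140464) (tt N62180 (iv7 F180085)))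
theorem Q40354 : ∀ i, i < 40354 → P i := stepQ 40353 Q40353 (allL N40353 (tt N70132 (iv1 F354212)) (tt N70134 (iv0 F354216)) (tt N72943 (iv2 F223641)) (tt N20447 F101627) (tt N72945 D140467) (tt N20446 (iv5 D65929)) (tt N57996 (iv6 F336712)) (tt N62181 (iv7 F180090)))
theorem Q40355 : ∀ i, i < 40355 → P i := stepQ 40354 Q40354 (allL N40354 (tt N72946 D140469) (tt N72947 D140470) (tt N72944 (iv2 F223642)) (tt N20448 F101628) (tt N66294 (iv4 F203932)) (tt N57997 (iv5 F336713)) (tt N20446 (iv6 D65930)) (tt N72948 D140472))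
theorem Q40356 : ∀ i, i < 40356 → P i := stepQ 40355 Q40355 (allL N40355 (tt N62176 (iv1 F180077)) (tt N20448 (iv0 D65932)) (tt N62174 (iv2 F202606)) (tt N72949 D140477) (tt N57963 F180078) (tt N72950 D140478) (tt N72951 D140479) (tt N62175 F202605))
theorem Q40357 : ∀ i, i < 40357 → P i := stepQ 40356 Q40356 (allL N40356 (tt N20448 (iv1 D65933)) (tt N62176 F180073) (tt N62175 (iv2 F202603)) (tt N72952 D140480) (tt N57964 F168653) (tt N59677 (iv5 F336739)) (tt N69840 F216242) (tt N62174 (iv7 F202600)))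
theorem Q40358 : ∀ i, i < 40358 → P i := stepQ 40357 Q40357 (allL N40357 (tt N62175 (iv1 F180065)) (tt N62174 F180072) (tt N62176 (iv2 F180069)) (tt N72948 (iv3 F223645)) (tt N20450 F101629) (tt N31684 F336724) (tt N47907 F341277) (tt N20448 (iv7 D65935)))
theorem Q40359 : ∀ i, i < 40359 → P i := stepQ 40358 Q40358 (allL N40358 (tt N20457 F168144) (tt N59488 (iv0 F336694)) (tt N58542 (iv2 F169645)) (tt N72953 D140485) (tt N20449 (iv4 D65940)) (tt N58352 (iv5 F337411)) (tt N69838 (iv6 F216236)) (tt N62177 (iv7 F180080)))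
theorem Q40360 : ∀ i, i < 40360 → P i := stepQ 40359 Q40359 (allL N40359 (tt N31783 F101657) (tt N44362 (iv0 F111778)) (tt N31729 F101655) (tt N57915 (iv3 F168562)) (tt N72954 D140487) (tt N20449 (iv5 D65941)) (tt N31614 F101656) (tt N57903 (iv7 F168531)))
theorem Q40361 : ∀ i, i < 40361 → P i := stepQ 40360 Q40360 (allL N40360 (tt N62186 (iv1 F180102)) (tt N20451 (iv0 D65942)) (tt N62185 (iv2 F349740)) (tt N72955 D140489) (tt N72956 D140490) (tt N63961 (iv5 F345333)) (tt N72957 D140492) (tt N62184 (iv7 F349744)))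
theorem Q40362 : ∀ i, i < 40362 → P i := stepQ 40361 Q40361 (allL N40361 (tt N20451 (iv1 D65943)) (tt N62186 F180104) (tt N62184 (iv2 F349743)) (tt N72958 D140494) (tt N72959 D140495) (tt N72960 D140496) (tt N72961 D140497) (tt N62185 (iv7 F349741)))
theorem Q40363 : ∀ i, i < 40363 → P i := stepQ 40362 Q40362 (allL N40362 (tt N62185 (iv1 F180103)) (tt N62184 F180099) (tt N20451 (iv2 D65944)) (tt N62190 (iv3 F180114)) (tt N61858 (iv4 F179622)) (tt N72962 D140498) (tt N72914 (iv6 F351309)) (tt N62186 (iv7 F180101)))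
theorem Q40364 : ∀ i, i < 40364 → P i := stepQ 40363 Q40363 (allL N40363 (tt N72963 D140500) (tt N72964 D140501) (tt N72962 (iv2 F223658)) (tt N20453 F101658) (tt N72965 D140502) (tt N20451 (iv5 D65945)) (tt N58221 (iv6 F341327)) (tt N40698 (iv7 F102402)))
theorem Q40365 : ∀ i, i < 40365 → P i := stepQ 40364 Q40364 (allL N40364 (tt N72858 (iv1 F351250)) (tt N72916 (iv0 F351251)) (tt N72914 (iv2 F351308)) (tt N20454 F101659) (tt N61860 (iv4 F179625)) (tt N58222 (iv5 F341357)) (tt N20451 (iv6 D65946)) (tt N72219 (iv7 F221676)))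
theorem Q40366 : ∀ i, i < 40366 → P i := stepQ 40365 Q40365 (allL N40365 (tt N22922 F341310) (tt N44669 F341311) (tt N40700 (iv2 F102406)) (tt N58221 (iv3 F341326)) (tt N44651 (iv4 F341328)) (tt N24065 (iv5 F341330)) (tt N20453 (iv6 D65947)) (tt N45507 F341312))
theorem Q40367 : ∀ i, i < 40367 → P i := stepQ 40366 Q40366 (allL N40366 (tt N35507 (iv1 F341354)) (tt N46700 (iv0 F341355)) (tt N48262 F341335) (tt N58222 (iv3 F341356)) (tt N23547 (iv4 F341358)) (tt N20454 (iv5 D65948)) (tt N24065 F341336) (tt N48263 (iv7 F341359)))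
theorem Q40368 : ∀ i, i < 40368 → P i := stepQ 40367 Q40367 (allL N40367 (tt N62190 (iv1 F180116)) (tt N20455 (iv0 D65950)) (tt N62189 (iv2 F340477)) (tt N72966 D140515) (tt N72967 D140516) (tt N61187 (iv5 F339987)) (tt N60038 (iv6 F339988)) (tt N62188 (iv7 F339980)))
theorem Q40369 : ∀ i, i < 40369 → P i := stepQ 40368 Q40368 (allL N40368 (tt N20455 (iv1 D65951)) (tt N62190 F180118) (tt N62188 (iv2 F339979)) (tt N72968 D140520) (tt N72969 D140521) (tt N61184 (iv5 F339978)) (tt N72970 D140523) (tt N62189 (iv7 F340479)))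
theorem Q40370 : ∀ i, i < 40370 → P i := stepQ 40369 Q40369 (allL N40369 (tt N62189 (iv1 F180117)) (tt N62188 F180113) (tt N20455 (iv2 D65952)) (tt N62186 (iv3 F180100)) (tt N41105 (iv4 F103353)) (tt N72971 D140524) (tt N72972 D140525) (tt N62190 (iv7 F180115)))
theorem Q40371 : ∀ i, i < 40371 → P i := stepQ 40370 Q40370 (allL N40370 (tt N66772 (iv1 F339985)) (tt N66778 (iv0 F331562)) (tt N72971 (iv2 F223672)) (tt N20456 F101660) (tt N61304 (iv4 F326282)) (tt N20455 (iv5 D65953)) (tt N58254 (iv6 F336702)) (tt N40699 (iv7 F102405)))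
theorem Q40372 : ∀ i, i < 40372 → P i := stepQ 40371 Q40371 (allL N40371 (tt N72973 D140530) (tt N72974 D140531) (tt N72972 (iv2 F223673)) (tt N20457 F101661) (tt N41107 (iv4 F103356)) (tt N59490 (iv5 F336692)) (tt N20455 (iv6 D65954)) (tt N72975 D140533))
theorem Q40373 : ∀ i, i < 40373 → P i := stepQ 40372 Q40372 (allL N40372 (tt N58542 F169648) (tt N62177 (iv0 F180081)) (tt N59488 (iv2 F336696)) (tt N72975 (iv3 F223676)) (tt N41102 (iv4 F103347)) (tt N59337 (iv5 F336682)) (tt N57810 F167808) (tt N20457 (iv7 D65959)))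
theorem Q40374 : ∀ i, i < 40374 → P i := stepQ 40373 Q40373 (allL N40373 (tt N72968 (iv1 F340492)) (tt N72976 D140542) (tt N72977 D140543) (tt N20458 (iv3 D65961)) (tt N72978 D140544) (tt N72979 D140545) (tt N72980 D140546) (tt N62192 (iv7 F182536)))
theorem Q40375 : ∀ i, i < 40375 → P i := stepQ 40374 Q40374 (allL N40374 (tt N42674 (iv1 F322068)) (tt N62215 (iv0 F180750)) (tt N21041 F182510) (tt N62584 (iv3 F182578)) (tt N20458 (iv4 D65962)) (tt N72981 D140547) (tt N72982 D140548) (tt N62193 F182511))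
theorem Q40376 : ∀ i, i < 40376 → P i := stepQ 40375 Q40375 (allL N40375 (tt N40688 F180974) (tt N33299 F180975) (tt N40691 F182538) (tt N72979 (iv3 F223686)) (tt N72983 D140549) (tt N20458 (iv5 D65963)) (tt N72984 D140550) (tt N40690 (iv7 F182537)))
theorem Q40377 : ∀ i, i < 40377 → P i := stepQ 40376 Q40376 (allL N40376 (tt N48458 (iv1 F326241)) (tt N48249 (iv0 F326242)) (tt N62196 (iv2 F182541)) (tt N72980 (iv3 F223687)) (tt N72982 (iv4 F223695)) (tt N72985 D140553) (tt N20458 (iv6 D65964)) (tt N72217 (iv7 F326243)))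
theorem Q40378 : ∀ i, i < 40378 → P i := stepQ 40377 Q40377 (allL N40377 (tt N72986 D140555) (tt N72955 (iv0 F387842)) (tt N72987 D140557) (tt N20459 (iv3 D65966)) (tt N62578 (iv4 F182481)) (tt N72988 D140558) (tt N72989 D140559) (tt N62195 F182554))
theorem Q40379 : ∀ i, i < 40379 → P i := stepQ 40378 Q40378 (allL N40378 (tt N33299 F180972) (tt N40688 F180973) (tt N40690 (iv2 F182539)) (tt N72988 (iv3 F223698)) (tt N72990 D140560) (tt N20459 (iv5 D65967)) (tt N58274 (iv6 F345106)) (tt N40691 F182540))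
theorem Q40380 : ∀ i, i < 40380 → P i := stepQ 40379 Q40379 (allL N40379 (tt N72691 (iv1 F342464)) (tt N72991 D140563) (tt N62194 F182553) (tt N72989 (iv3 F223699)) (tt N62576 (iv4 F182472)) (tt N72992 D140564) (tt N20459 (iv6 D65968)) (tt N72993 D140565))
theorem Q40381 : ∀ i, i < 40381 → P i := stepQ 40380 Q40380 (allL N40380 (tt N62199 (iv1 F180145)) (tt N62198 F180144) (tt N20461 F101664) (tt N72868 (iv3 F223475)) (tt N72994 D140566) (tt N20460 (iv5 D65969)) (tt N72995 D140567) (tt N62197 (iv7 F180137)))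
theorem Q40382 : ∀ i, i < 40382 → P i := stepQ 40381 Q40381 (allL N40381 (tt N72996 D140568) (tt N65258 (iv0 F342396)) (tt N20462 F101665) (tt N72869 (iv3 F223477)) (tt N20490 F101666) (tt N72997 D140570) (tt N20460 (iv6 D65970)) (tt N72998 D140571))
theorem Q40383 : ∀ i, i < 40383 → P i := stepQ 40382 Q40382 (allL N40382 (tt N62197 F180139) (tt N20461 (iv0 D65971)) (tt N62199 F180360) (tt N72999 D140572) (tt N73000 D140573) (tt N20601 F180140) (tt N73001 D140574) (tt N62198 (iv7 F180364)))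
theorem Q40384 : ∀ i, i < 40384 → P i := stepQ 40383 Q40383 (allL N40383 (tt N20461 (iv1 D65972)) (tt N62197 F180141) (tt N62198 F180362) (tt N73002 D140575) (tt N73003 D140576) (tt N20602 F103129) (tt N73004 D140577) (tt N62199 F180361))
theorem Q40385 : ∀ i, i < 40385 → P i := stepQ 40384 Q40384 (allL N40384 (tt N73005 D140578) (tt N73006 D140579) (tt N72994 (iv2 F223700)) (tt N58324 (iv3 F169160)) (tt N20461 (iv4 D65973)) (tt N73007 D140580) (tt N73008 D140581) (tt N62200 (iv7 F180146)))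
theorem Q40386 : ∀ i, i < 40386 → P i := stepQ 40385 Q40385 (allL N40385 (tt N73009 D140582) (tt N73010 D140583) (tt N72995 (iv2 F223701)) (tt N20465 F101667) (tt N73008 (iv4 F223713)) (tt N65261 (iv5 F342502)) (tt N20461 (iv6 D65974)) (tt N73011 D140585))
theorem Q40387 : ∀ i, i < 40387 → P i := stepQ 40386 Q40386 (allL N40386 (tt N72998 (iv1 F223709)) (tt N20462 (iv0 D65975)) (tt N72996 (iv2 F342410)) (tt N73012 D140587) (tt N65260 (iv4 F342412)) (tt N73013 D140589) (tt N73014 D140590) (tt N65258 (iv7 F342408)))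
theorem Q40388 : ∀ i, i < 40388 → P i := stepQ 40387 Q40387 (allL N40387 (tt N20462 (iv1 D65976)) (tt N72998 F223707) (tt N65258 (iv2 F342407)) (tt N73015 D140592) (tt N65216 (iv4 F318451)) (tt N73016 D140594) (tt N44303 (iv6 F342409)) (tt N72996 (iv7 F342411)))
theorem Q40389 : ∀ i, i < 40389 → P i := stepQ 40388 Q40388 (allL N40388 (tt N73017 D140596) (tt N73018 D140597) (tt N72997 (iv2 F223703)) (tt N20468 F101668) (tt N65259 (iv4 F342437)) (tt N20462 (iv5 D65977)) (tt N65261 (iv6 F342503)) (tt N73019 D140599))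
theorem Q40390 : ∀ i, i < 40390 → P i := stepQ 40389 Q40389 (allL N40389 (tt N65258 (iv1 F342397)) (tt N72996 F223706) (tt N72998 (iv2 F223704)) (tt N20469 F101669) (tt N20498 F101670) (tt N73019 (iv5 F223721)) (tt N33915 (iv6 F320774)) (tt N20462 (iv7 D65978)))
theorem Q40391 : ∀ i, i < 40391 → P i := stepQ 40390 Q40390 (allL N40390 (tt N63961 (iv1 F349745)) (tt N72960 (iv0 F345321)) (tt N73020 D140602) (tt N20463 (iv3 D65979)) (tt N38826 (iv4 F345294)) (tt N20598 F101671) (tt N73021 D140604) (tt N38823 F345289))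
theorem Q40392 : ∀ i, i < 40392 → P i := stepQ 40391 Q40391 (allL N40391 (tt N48336 F351111) (tt N73022 D140606) (tt N32782 F331533) (tt N73021 (iv3 F223723)) (tt N72890 (iv4 F223523)) (tt N70152 (iv5 F216808)) (tt N20463 (iv6 D65980)) (tt N73023 D140607))
theorem Q40393 : ∀ i, i < 40393 → P i := stepQ 40392 Q40392 (allL N40392 (tt N61187 (iv1 F331521)) (tt N61184 (iv0 F331522)) (tt N73024 D140610) (tt N20464 (iv3 D65981)) (tt N32775 (iv4 F331527)) (tt N20599 F101672) (tt N73025 D140612) (tt N32774 (iv7 F331528)))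
theorem Q40394 : ∀ i, i < 40394 → P i := stepQ 40393 Q40393 (allL N40393 (tt N30995 (iv1 F351208)) (tt N58344 (iv0 F345276)) (tt N38822 (iv2 F345277)) (tt N73025 (iv3 F223725)) (tt N70203 (iv4 F216954)) (tt N73026 D140615) (tt N20464 (iv6 D65982)) (tt N73027 D140616))
theorem Q40395 : ∀ i, i < 40395 → P i := stepQ 40394 Q40394 (allL N40394 (tt N72879 (iv1 F223487)) (tt N20465 (iv0 D65983)) (tt N72876 (iv2 F360108)) (tt N73028 D140618) (tt N73029 D140619) (tt N73030 D140620) (tt N73031 D140621) (tt N72877 (iv7 F360099)))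
theorem Q40396 : ∀ i, i < 40396 → P i := stepQ 40395 Q40395 (allL N40395 (tt N20465 (iv1 D65984)) (tt N72879 F223486) (tt N72877 (iv2 F360098)) (tt N73032 D140623) (tt N73033 D140624) (tt N73034 D140625) (tt N44661 (iv6 F360107)) (tt N72876 (iv7 F360109)))
theorem Q40397 : ∀ i, i < 40397 → P i := stepQ 40396 Q40396 (allL N40396 (tt N73035 D140627) (tt N30299 (iv0 F342500)) (tt N72878 (iv2 F223482)) (tt N65261 (iv3 F342501)) (tt N73036 D140629) (tt N20465 (iv5 D65985)) (tt N20468 F101673) (tt N73037 D140630))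
theorem Q40398 : ∀ i, i < 40398 → P i := stepQ 40397 Q40397 (allL N40397 (tt N72877 (iv1 F223481)) (tt N72876 F223485) (tt N72879 (iv2 F223484)) (tt N73011 (iv3 F223716)) (tt N58329 (iv4 F169162)) (tt N73037 (iv5 F223730)) (tt N30999 F351219) (tt N20465 (iv7 D65986)))
theorem Q40399 : ∀ i, i < 40399 → P i := stepQ 40398 Q40398 (allL N40398 (tt N73038 D140631) (tt N72961 (iv0 F415127)) (tt N60035 (iv2 F364957)) (tt N20466 (iv3 D65987)) (tt N61936 (iv4 F179714)) (tt N60032 (iv5 F331810)) (tt N73039 D140635) (tt N72205 F221649))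
theorem Q40400 : ∀ i, i < 40400 → P i := stepQ 40399 Q40399 (allL N40399 (tt N30888 (iv1 F101676)) (tt N29640 F101682) (tt N30885 (iv2 F101677)) (tt N58988 (iv3 F171686)) (tt N20466 (iv4 D65988)) (tt N58253 (iv5 F169060)) (tt N70206 (iv6 F216971)) (tt N30886 F101675))
theorem Q40401 : ∀ i, i < 40401 → P i := stepQ 40400 Q40400 (allL N40400 (tt N73040 D140636) (tt N73041 D140637) (tt N30253 F331805) (tt N60032 (iv3 F331809)) (tt N73042 D140638) (tt N20466 (iv5 D65989)) (tt N30252 (iv6 F331811)) (tt N72207 (iv7 F221652)))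
theorem Q40402 : ∀ i, i < 40402 → P i := stepQ 40401 Q40401 (allL N40401 (tt N69838 (iv1 F216238)) (tt N68350 F216239) (tt N57006 (iv2 F331792)) (tt N73039 (iv3 F223732)) (tt N70206 (iv4 F216969)) (tt N57004 (iv5 F331819)) (tt N20466 (iv6 D65990)) (tt N44300 (iv7 F111561)))
theorem Q40403 : ∀ i, i < 40403 → P i := stepQ 40402 Q40402 (allL N40402 (tt N60038 (iv1 F331796)) (tt N60037 (iv0 F331797)) (tt N60040 (iv2 F331798)) (tt N20467 (iv3 D65991)) (tt N65934 (iv4 F202910)) (tt N30255 (iv5 F331800)) (tt N44301 (iv6 F111563)) (tt N30254 F331788))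
theorem Q40404 : ∀ i, i < 40404 → P i := stepQ 40403 Q40403 (allL N40403 (tt N73041 (iv1 F223735)) (tt N73040 F223734) (tt N72207 (iv2 F221651)) (tt N30255 F331806) (tt N73043 D140645) (tt N20467 (iv5 D65992)) (tt N65920 (iv6 F331815)) (tt N30253 F331807))
theorem Q40405 : ∀ i, i < 40405 → P i := stepQ 40404 Q40404 (allL N40404 (tt N72883 (iv1 F223501)) (tt N20468 (iv0 D65993)) (tt N72880 (iv2 F223749)) (tt N73044 D140648) (tt N73045 D140649) (tt N73046 D140650) (tt N58181 (iv6 F351095)) (tt N72881 F223747))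
theorem Q40406 : ∀ i, i < 40406 → P i := stepQ 40405 Q40405 (allL N40405 (tt N20468 (iv1 D65994)) (tt N72883 F223500) (tt N72881 (iv2 F223748)) (tt N73047 D140652) (tt N73048 D140653) (tt N73049 D140654) (tt N73050 D140655) (tt N72880 (iv7 F223750)))
theorem Q40407 : ∀ i, i < 40407 → P i := stepQ 40406 Q40406 (allL N40406 (tt N73051 D140656) (tt N73052 D140657) (tt N72882 (iv2 F223496)) (tt N73053 D140658) (tt N20468 (iv4 D65995)) (tt N73054 D140659) (tt N73036 (iv6 F223729)) (tt N73055 D140660))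
theorem Q40408 : ∀ i, i < 40408 → P i := stepQ 40407 Q40407 (allL N40407 (tt N72881 (iv1 F223492)) (tt N72880 F223499) (tt N72883 (iv2 F223497)) (tt N73019 (iv3 F223720)) (tt N73055 (iv4 F223757)) (tt N20469 F101683) (tt N73056 D140661) (tt N20468 (iv7 D65996)))
theorem Q40409 : ∀ i, i < 40409 → P i := stepQ 40408 Q40408 (allL N40408 (tt N20473 (iv1 F101684)) (tt N20470 (iv0 D65997)) (tt N58080 (iv2 F168846)) (tt N73057 D140662) (tt N55913 (iv4 F162135)) (tt N73058 D140663) (tt N57971 (iv6 F168661)) (tt N55912 F162132))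
theorem Q40410 : ∀ i, i < 40410 → P i := stepQ 40409 Q40409 (allL N40409 (tt N73059 D140664) (tt N72928 (iv0 F385085)) (tt N73060 D140666) (tt N20470 (iv3 D65998)) (tt N56969 (iv4 F165127)) (tt N73061 D140667) (tt N73062 D140668) (tt N58183 (iv7 F168966)))
theorem Q40411 : ∀ i, i < 40411 → P i := stepQ 40410 Q40410 (allL N40410 (tt N73063 D140669) (tt N73064 D140670) (tt N72885 (iv2 F223504)) (tt N73061 (iv3 F223758)) (tt N73065 D140671) (tt N20470 (iv5 D65999)) (tt N73066 D140672) (tt N58184 (iv7 F168968)))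
theorem Q40412 : ∀ i, i < 40412 → P i := stepQ 40411 Q40411 (allL N40411 (tt N69840 (iv1 F216240)) (tt N69839 F216248) (tt N69843 (iv2 F216245)) (tt N73062 (iv3 F223759)) (tt N20471 F101685) (tt N73067 D140673) (tt N20470 (iv6 D66000)) (tt N40152 F101686))
theorem Q40413 : ∀ i, i < 40413 → P i := stepQ 40412 Q40412 (allL N40412 (tt N72941 (iv1 F354201)) (tt N73068 D140675) (tt N73069 D140676) (tt N20473 (iv3 D66001)) (tt N66370 (iv4 F204058)) (tt N73070 D140677) (tt N40154 F101687) (tt N72884 (iv7 F223503)))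
theorem Q40414 : ∀ i, i < 40414 → P i := stepQ 40413 Q40413 (allL N40413 (tt N73064 (iv1 F223763)) (tt N73063 F223762) (tt N58184 (iv2 F168967)) (tt N73070 (iv3 F223767)) (tt N73071 D140678) (tt N20473 (iv5 D66002)) (tt N73072 D140679) (tt N72885 (iv7 F223505)))
theorem Q40415 : ∀ i, i < 40415 → P i := stepQ 40414 Q40414 (allL N40414 (tt N59419 (iv1 F172873)) (tt N58084 F172834) (tt N59406 (iv2 F172831)) (tt N73073 D140680) (tt N20474 (iv4 D66005)) (tt N73074 D140681) (tt N58360 (iv6 F169185)) (tt N59407 (iv7 F172837)))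
theorem Q40416 : ∀ i, i < 40416 → P i := stepQ 40415 Q40415 (allL N40415 (tt N30930 F101690) (tt N20777 F163952) (tt N44365 (iv2 F111784)) (tt N56839 (iv3 F164903)) (tt N73075 D140682) (tt N20474 (iv5 D66006)) (tt N30710 F101689) (tt N20614 F102431))
theorem Q40417 : ∀ i, i < 40417 → P i := stepQ 40416 Q40416 (allL N40416 (tt N32292 (iv1 F173771)) (tt N39541 (iv0 F173770)) (tt N39540 (iv2 F170913)) (tt N20475 (iv3 D66008)) (tt N58870 F173769) (tt N70964 (iv5 F218957)) (tt N56957 (iv6 F173802)) (tt N39539 (iv7 F170916)))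
theorem Q40418 : ∀ i, i < 40418 → P i := stepQ 40417 Q40417 (allL N40417 (tt N58084 (iv1 F168856)) (tt N59419 F172872) (tt N59407 (iv2 F172835)) (tt N73076 D140683) (tt N20475 (iv4 D66009)) (tt N73077 D140684) (tt N59752 (iv6 F173796)) (tt N59406 (iv7 F172832)))
theorem Q40419 : ∀ i, i < 40419 → P i := stepQ 40418 Q40418 (allL N40418 (tt N20777 F163953) (tt N30930 (iv0 F101693)) (tt N20614 F102434) (tt N70964 (iv3 F218956)) (tt N73078 D140685) (tt N20475 (iv5 D66010)) (tt N20595 F101692) (tt N44365 (iv7 F111786)))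
theorem Q40420 : ∀ i, i < 40420 → P i := stepQ 40419 Q40419 (allL N40419 (tt N59405 (iv1 F172830)) (tt N20476 (iv0 D66011)) (tt N59403 F175471) (tt N73079 D140686) (tt N60072 (iv4 F175460)) (tt N57048 (iv5 F331101)) (tt N73080 D140688) (tt N59404 (iv7 F175473)))
theorem Q40421 : ∀ i, i < 40421 → P i := stepQ 40420 Q40420 (allL N40420 (tt N20476 (iv1 D66012)) (tt N59405 F172829) (tt N59404 F175474) (tt N73081 D140689) (tt N60073 F175463) (tt N73082 D140690) (tt N59749 (iv6 F175475)) (tt N59403 F175469))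
theorem Q40422 : ∀ i, i < 40422 → P i := stepQ 40421 Q40421 (allL N40421 (tt N45359 (iv1 F325845)) (tt N45357 (iv0 F325846)) (tt N73083 D140693) (tt N20476 (iv3 D66013)) (tt N20518 F101696) (tt N65056 (iv5 F325848)) (tt N20479 F101697) (tt N45612 (iv7 F325821)))
theorem Q40423 : ∀ i, i < 40423 → P i := stepQ 40422 Q40422 (allL N40422 (tt N58263 (iv1 F175464)) (tt N57922 (iv0 F168581)) (tt N58260 F169073) (tt N65056 (iv3 F325847)) (tt N73084 D140696) (tt N20476 (iv5 D66014)) (tt N73085 D140697) (tt N58261 (iv7 F169074)))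
theorem Q40424 : ∀ i, i < 40424 → P i := stepQ 40423 Q40423 (allL N40423 (tt N59404 (iv1 F172824)) (tt N59403 (iv0 F172821)) (tt N59405 (iv2 F172826)) (tt N45612 F326229) (tt N20477 F101698) (tt N58261 F169075) (tt N30900 F101699) (tt N20476 (iv7 D66015)))
theorem Q40425 : ∀ i, i < 40425 → P i := stepQ 40424 Q40424 (allL N40424 (tt N73086 D140698) (tt N73087 D140699) (tt N73088 D140700) (tt N20478 (iv3 D66016)) (tt N59778 (iv4 F174005)) (tt N59393 (iv5 F172800)) (tt N73089 D140701) (tt N58979 (iv7 F171652)))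
theorem Q40426 : ∀ i, i < 40426 → P i := stepQ 40425 Q40425 (allL N40425 (tt N59337 (iv1 F172655)) (tt N30839 (iv0 F101701)) (tt N58991 (iv2 F171700)) (tt N73089 (iv3 F223790)) (tt N36064 F101700) (tt N57749 (iv5 F337421)) (tt N20478 (iv6 D66017)) (tt N57748 (iv7 F336686)))
theorem Q40427 : ∀ i, i < 40427 → P i := stepQ 40426 Q40426 (allL N40426 (tt N58698 (iv1 F170332)) (tt N20479 (iv0 D66018)) (tt N59408 (iv2 F172855)) (tt N73090 D140703) (tt N25037 F323105) (tt N58723 (iv5 F170518)) (tt N25036 (iv6 F324534)) (tt N25315 (iv7 F324535)))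
theorem Q40428 : ∀ i, i < 40428 → P i := stepQ 40427 Q40427 (allL N40427 (tt N20479 (iv1 D66019)) (tt N58698 F170322) (tt N25315 F325618) (tt N73091 D140705) (tt N24366 F325619) (tt N58724 (iv5 F170521)) (tt N24365 (iv6 F326437)) (tt N59408 (iv7 F172853)))
theorem Q40429 : ∀ i, i < 40429 → P i := stepQ 40428 Q40428 (allL N40428 (tt N59408 (iv1 F172852)) (tt N25315 F325628) (tt N20479 (iv2 D66020)) (tt N59400 (iv3 F172813)) (tt N20519 F101702) (tt N73092 D140707) (tt N73083 (iv6 F223783)) (tt N58698 (iv7 F170321)))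
theorem Q40430 : ∀ i, i < 40430 → P i := stepQ 40429 Q40429 (allL N40429 (tt N31742 F343747) (tt N31758 (iv0 F170930)) (tt N73092 (iv2 F223793)) (tt N20480 F101703) (tt N73093 D140708) (tt N20479 (iv5 D66021)) (tt N73094 D140709) (tt N59409 (iv7 F172858)))
theorem Q40431 : ∀ i, i < 40431 → P i := stepQ 40430 Q40430 (allL N40430 (tt N73095 D140710) (tt N73096 D140711) (tt N59402 (iv2 F172818)) (tt N73094 (iv3 F223800)) (tt N40545 (iv4 F101834)) (tt N73085 (iv5 F223788)) (tt N20480 (iv6 D66022)) (tt N73097 D140712))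
theorem Q40432 : ∀ i, i < 40432 → P i := stepQ 40431 Q40431 (allL N40431 (tt N20481 (iv1 D66030)) (tt N41147 F103429) (tt N41252 F180636) (tt N62300 (iv3 F180635)) (tt N62675 F182993) (tt N73098 D140713) (tt N73099 D140714) (tt N62222 F180637))
theorem Q40433 : ∀ i, i < 40433 → P i := stepQ 40432 Q40432 (allL N40432 (tt N62222 (iv1 F180264)) (tt N41252 (iv0 F180262)) (tt N20481 (iv2 D66031)) (tt N62233 (iv3 F180295)) (tt N33527 (iv4 F180260)) (tt N73100 D140715) (tt N73101 D140716) (tt N41147 F103427))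
theorem Q40434 : ∀ i, i < 40434 → P i := stepQ 40433 Q40433 (allL N40433 (tt N56021 (iv1 F225027)) (tt N73102 D140718) (tt N73100 (iv2 F223807)) (tt N20483 F101712) (tt N62492 F181814) (tt N20481 (iv5 D66032)) (tt N73103 D140719) (tt N40740 (iv7 F180309)))
theorem Q40435 : ∀ i, i < 40435 → P i := stepQ 40434 Q40434 (allL N40434 (tt N73104 D140720) (tt N73105 D140721) (tt N73101 (iv2 F223811)) (tt N20484 F101713) (tt N41152 (iv4 F103435)) (tt N73106 D140722) (tt N20481 (iv6 D66033)) (tt N72236 (iv7 F324369)))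
theorem Q40436 : ∀ i, i < 40436 → P i := stepQ 40435 Q40435 (allL N40435 (tt N20486 (iv1 F101720)) (tt N20482 (iv0 D66035)) (tt N62225 F180224) (tt N73107 D140724) (tt N40175 F101715) (tt N73108 D140725) (tt N36500 (iv6 F323806)) (tt N62224 F180218))
theorem Q40437 : ∀ i, i < 40437 → P i := stepQ 40436 Q40436 (allL N40436 (tt N20482 (iv1 D66036)) (tt N20486 F101716) (tt N62224 (iv2 F180219)) (tt N62179 F180221) (tt N41026 F322260) (tt N73109 D140727) (tt N41561 (iv6 F323822)) (tt N62225 (iv7 F180223)))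
theorem Q40438 : ∀ i, i < 40438 → P i := stepQ 40437 Q40437 (allL N40437 (tt N72923 F223610) (tt N73110 D140729) (tt N73111 D140730) (tt N20482 (iv3 D66037)) (tt N41150 (iv4 F103434)) (tt N73112 D140731) (tt N73113 D140732) (tt N62226 (iv7 F180267)))
theorem Q40439 : ∀ i, i < 40439 → P i := stepQ 40438 Q40438 (allL N40438 (tt N62518 (iv1 F181994)) (tt N73114 D140733) (tt N62236 (iv2 F180320)) (tt N73112 (iv3 F223829)) (tt N50621 (iv4 F331056)) (tt N20482 (iv5 D66038)) (tt N73115 D140735) (tt N62227 (iv7 F180268)))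
theorem Q40440 : ∀ i, i < 40440 → P i := stepQ 40439 Q40439 (allL N40439 (tt N48446 (iv1 F324357)) (tt N73116 D140737) (tt N62237 (iv2 F180322)) (tt N73113 (iv3 F223830)) (tt N20484 F101717) (tt N73117 D140738) (tt N20482 (iv6 D66039)) (tt N72237 (iv7 F324370)))
theorem Q40441 : ∀ i, i < 40441 → P i := stepQ 40440 Q40440 (allL N40440 (tt N62521 (iv1 F182001)) (tt N73118 D140740) (tt N40744 F180316) (tt N73119 D140741) (tt N20483 (iv4 D66043)) (tt N73120 D140742) (tt N73121 D140743) (tt N40741 (iv7 F180311)))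
theorem Q40442 : ∀ i, i < 40442 → P i := stepQ 40441 Q40441 (allL N40441 (tt N46494 (iv1 F324343)) (tt N21661 (iv0 F324344)) (tt N24312 F322902) (tt N73103 (iv3 F223815)) (tt N73121 (iv4 F223837)) (tt N24255 (iv5 F324352)) (tt N20483 (iv6 D66044)) (tt N24310 (iv7 F324354)))
theorem Q40443 : ∀ i, i < 40443 → P i := stepQ 40442 Q40442 (allL N40442 (tt N46456 (iv1 F324364)) (tt N23086 (iv0 F324365)) (tt N24313 F322905) (tt N73106 (iv3 F223816)) (tt N25382 (iv4 F324366)) (tt N20484 (iv5 D66048)) (tt N24255 (iv6 F324353)) (tt N72238 (iv7 F324367)))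
theorem Q40444 : ∀ i, i < 40444 → P i := stepQ 40443 Q40443 (allL N40443 (tt N62233 (iv1 F180297)) (tt N20485 (iv0 D66051)) (tt N41221 (iv2 F177226)) (tt N62292 F180598) (tt N58535 F169571) (tt N62311 (iv5 F320916)) (tt N62312 (iv6 F320749)) (tt N62232 F180237))
theorem Q40445 : ∀ i, i < 40445 → P i := stepQ 40444 Q40444 (allL N40444 (tt N41221 F103665) (tt N62232 (iv0 F180239)) (tt N20485 (iv2 D66053)) (tt N41147 F103426) (tt N39545 (iv4 F103430)) (tt N66545 F204434) (tt N73122 D140763) (tt N62233 (iv7 F180296)))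
theorem Q40446 : ∀ i, i < 40446 → P i := stepQ 40445 Q40445 (allL N40445 (tt N40201 F180709) (tt N40199 (iv0 F101726)) (tt N39545 F103431) (tt N73123 D140764) (tt N20485 (iv4 D66054)) (tt N73124 D140765) (tt N73125 D140766) (tt N62234 (iv7 F180299)))
theorem Q40447 : ∀ i, i < 40447 → P i := stepQ 40446 Q40446 (allL N40446 (tt N39763 F177261) (tt N39778 F177262) (tt N66545 (iv2 F204435)) (tt N20487 F101727) (tt N73126 D140767) (tt N20485 (iv5 D66055)) (tt N40623 F334918) (tt N40743 (iv7 F180314)))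
theorem Q40448 : ∀ i, i < 40448 → P i := stepQ 40447 Q40447 (allL N40447 (tt N55184 (iv1 F334899)) (tt N73127 D140770) (tt N73122 (iv2 F223842)) (tt N20488 F101728) (tt N73125 (iv4 F223856)) (tt N73128 D140771) (tt N20485 (iv6 D66056)) (tt N73129 D140772))
theorem Q40449 : ∀ i, i < 40449 → P i := stepQ 40448 Q40448 (allL N40448 (tt N58077 (iv1 F168844)) (tt N57865 (iv0 F167963)) (tt N58076 (iv2 F220317)) (tt N20486 (iv3 D66057)) (tt N73123 (iv4 F223845)) (tt N73130 D140773) (tt N73131 D140774) (tt N58075 F180269))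
theorem Q40450 : ∀ i, i < 40450 → P i := stepQ 40449 Q40449 (allL N40449 (tt N73114 (iv1 F223831)) (tt N62518 (iv0 F181993)) (tt N62227 F180279) (tt N73130 (iv3 F223864)) (tt N50622 (iv4 F331059)) (tt N20486 (iv5 D66058)) (tt N73132 D140776) (tt N62236 (iv7 F180321)))
theorem Q40451 : ∀ i, i < 40451 → P i := stepQ 40450 Q40450 (allL N40450 (tt N73133 D140777) (tt N73134 D140778) (tt N62228 F180270) (tt N73131 (iv3 F223868)) (tt N20488 F101729) (tt N73135 D140779) (tt N20486 (iv6 D66059)) (tt N73136 D140780))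
theorem Q40452 : ∀ i, i < 40452 → P i := stepQ 40451 Q40451 (allL N40451 (tt N73118 (iv1 F223836)) (tt N62521 (iv0 F182000)) (tt N40741 (iv2 F180310)) (tt N73137 D140781) (tt N20487 (iv4 D66060)) (tt N73138 D140782) (tt N73139 D140783) (tt N40744 (iv7 F180315)))
theorem Q40453 : ∀ i, i < 40453 → P i := stepQ 40452 Q40452 (allL N40452 (tt N72744 (iv1 F335052)) (tt N73140 D140785) (tt N40742 (iv2 F180313)) (tt N40623 F334917) (tt N73139 (iv4 F223871)) (tt N73141 D140786) (tt N20487 (iv6 D66061)) (tt N46496 F326253))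
theorem Q40454 : ∀ i, i < 40454 → P i := stepQ 40453 Q40453 (allL N40453 (tt N20488 (iv1 D66063)) (tt N62231 F180273) (tt N41227 F337759) (tt N62307 (iv3 F341084)) (tt N72991 (iv4 F363685)) (tt N73142 D140796) (tt N66686 (iv6 F339614)) (tt N62229 (iv7 F350164)))
theorem Q40455 : ∀ i, i < 40455 → P i := stepQ 40454 Q40454 (allL N40454 (tt N41600 (iv1 F339605)) (tt N73143 D140799) (tt N62230 F180271) (tt N73128 (iv3 F223862)) (tt N42151 (iv4 F338182)) (tt N20488 (iv5 D66064)) (tt N73141 (iv6 F223872)) (tt N73144 D140801))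
theorem Q40456 : ∀ i, i < 40456 → P i := stepQ 40455 Q40455 (allL N40455 (tt N41227 (iv1 F350160)) (tt N62229 F180276) (tt N62231 F180272) (tt N73129 (iv3 F223863)) (tt N73136 (iv4 F223870)) (tt N73144 (iv5 F223875)) (tt N48248 F324177) (tt N20488 (iv7 D66065)))
theorem Q40457 : ∀ i, i < 40457 → P i := stepQ 40456 Q40456 (allL N40456 (tt N32693 F319131) (tt N62244 F180348) (tt N20493 F101730) (tt N73145 D140802) (tt N20489 (iv4 D66066)) (tt N73146 D140803) (tt N73147 D140804) (tt N29903 F319132))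
theorem Q40458 : ∀ i, i < 40458 → P i := stepQ 40457 Q40457 (allL N40457 (tt N45325 F318250) (tt N45324 F318251) (tt N20494 F101731) (tt N62311 (iv3 F180778)) (tt N73147 (iv4 F223879)) (tt N62292 (iv5 F321031)) (tt N20489 (iv6 D66067)) (tt N45321 F318252))
theorem Q40459 : ∀ i, i < 40459 → P i := stepQ 40458 Q40458 (allL N40458 (tt N20498 (iv1 F101735)) (tt N20490 (iv0 D66068)) (tt N20495 (iv2 F330025)) (tt N62328 (iv3 F348037)) (tt N73148 D140811) (tt N73149 D140812) (tt N72233 (iv6 F330032)) (tt N20496 (iv7 F330033)))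
theorem Q40460 : ∀ i, i < 40460 → P i := stepQ 40459 Q40459 (allL N40459 (tt N62322 (iv1 F348844)) (tt N73150 D140820) (tt N20497 F101733) (tt N62312 (iv3 F180781)) (tt N73013 (iv4 F342429)) (tt N20490 (iv5 D66070)) (tt N62292 (iv6 F321032)) (tt N73151 D140822))
theorem Q40461 : ∀ i, i < 40461 → P i := stepQ 40460 Q40460 (allL N40460 (tt N20496 (iv1 F101736)) (tt N20495 F101737) (tt N20498 F101734) (tt N42921 (iv3 F318717)) (tt N72998 (iv4 F223705)) (tt N73151 (iv5 F223895)) (tt N33914 (iv6 F320772)) (tt N20490 (iv7 D66071)))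
theorem Q40462 : ∀ i, i < 40462 → P i := stepQ 40461 Q40461 (allL N40461 (tt N36360 (iv1 F205308)) (tt N73098 (iv0 F223804)) (tt N73152 D140823) (tt N20491 (iv3 D66073)) (tt N41018 F103162) (tt N20618 F103122) (tt N73153 D140824) (tt N62238 (iv7 F180371)))
theorem Q40463 : ∀ i, i < 40463 → P i := stepQ 40462 Q40462 (allL N40462 (tt N42261 (iv1 F105797)) (tt N41024 F321308) (tt N62242 F180369) (tt N32759 (iv3 F319271)) (tt N20491 (iv4 D66074)) (tt N73154 D140827) (tt N73155 D140828) (tt N62239 (iv7 F180372)))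
theorem Q40464 : ∀ i, i < 40464 → P i := stepQ 40463 Q40463 (allL N40463 (tt N54130 (iv1 F339629)) (tt N36233 (iv0 F339630)) (tt N62243 F180370) (tt N73153 (iv3 F223905)) (tt N73155 (iv4 F223909)) (tt N72235 (iv5 F322932)) (tt N20491 (iv6 D66076)) (tt N73156 D140832))
theorem Q40465 : ∀ i, i < 40465 → P i := stepQ 40464 Q40464 (allL N40464 (tt N62311 (iv1 F320914)) (tt N21654 F320017) (tt N62321 (iv2 F320910)) (tt N20492 (iv3 D66078)) (tt N40979 F103126) (tt N20620 F103127) (tt N73157 D140833) (tt N62241 F180365))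
theorem Q40466 : ∀ i, i < 40466 → P i := stepQ 40465 Q40465 (allL N40465 (tt N41024 F321309) (tt N42261 F180374) (tt N62239 F180373) (tt N50790 (iv3 F316824)) (tt N20492 (iv4 D66079)) (tt N73158 D140835) (tt N50788 (iv6 F321794)) (tt N62242 F180368))
theorem Q40467 : ∀ i, i < 40467 → P i := stepQ 40466 Q40466 (allL N40466 (tt N21445 (iv1 F321791)) (tt N63066 (iv0 F321792)) (tt N62240 (iv2 F180377)) (tt N73157 (iv3 F223911)) (tt N50788 (iv4 F321793)) (tt N37499 (iv5 F321795)) (tt N20492 (iv6 D66081)) (tt N63065 (iv7 F320018)))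
theorem Q40468 : ∀ i, i < 40468 → P i := stepQ 40467 Q40467 (allL N40467 (tt N29903 F319136) (tt N20493 (iv0 D66082)) (tt N32693 F319137) (tt N56182 (iv3 F321184)) (tt N42673 F319138) (tt N73159 D140842) (tt N73160 D140843) (tt N62244 (iv7 F181489)))
theorem Q40469 : ∀ i, i < 40469 → P i := stepQ 40468 Q40468 (allL N40468 (tt N73161 D140847) (tt N66781 (iv0 F325368)) (tt N73146 (iv2 F223877)) (tt N21401 F101740) (tt N73162 D140849) (tt N20493 (iv5 D66084)) (tt N73163 D140850) (tt N62245 (iv7 F180379)))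
theorem Q40470 : ∀ i, i < 40470 → P i := stepQ 40469 Q40469 (allL N40469 (tt N62452 F320520) (tt N32661 F320521) (tt N73147 (iv2 F223878)) (tt N21402 F101741) (tt N20494 F101742) (tt N73164 D140853) (tt N20493 (iv6 D66085)) (tt N29898 F316826))
theorem Q40471 : ∀ i, i < 40471 → P i := stepQ 40470 Q40470 (allL N40470 (tt N45321 F318253) (tt N20494 (iv0 D66086)) (tt N45325 (iv2 F320405)) (tt N72807 (iv3 F321033)) (tt N41021 (iv4 F321034)) (tt N36221 (iv5 F321035)) (tt N46227 (iv6 F320406)) (tt N45324 (iv7 F320407)))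
theorem Q40472 : ∀ i, i < 40472 → P i := stepQ 40471 Q40471 (allL N40471 (tt N73165 D140875) (tt N73099 (iv0 F348055)) (tt N73166 D140877) (tt N20495 (iv3 D66091)) (tt N73167 D140878) (tt N73168 D140879) (tt N73169 D140880) (tt N72222 (iv7 F327719)))
theorem Q40473 : ∀ i, i < 40473 → P i := stepQ 40472 Q40472 (allL N40472 (tt N73170 D140882) (tt N41561 F342440) (tt N73148 (iv2 F330027)) (tt N21028 (iv3 F331032)) (tt N20495 (iv4 D66092)) (tt N21025 (iv5 F331033)) (tt N59138 F331030) (tt N72226 (iv7 F327721)))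
theorem Q40474 : ∀ i, i < 40474 → P i := stepQ 40473 Q40473 (allL N40473 (tt N73171 D140888) (tt N73172 D140889) (tt N73149 (iv2 F330029)) (tt N73168 (iv3 F223938)) (tt N73173 D140890) (tt N20495 (iv5 D66093)) (tt N55190 (iv6 F341027)) (tt N72228 (iv7 F327723)))
theorem Q40475 : ∀ i, i < 40475 → P i := stepQ 40474 Q40474 (allL N40474 (tt N66686 (iv1 F328586)) (tt N62606 (iv0 F328587)) (tt N72233 F328208) (tt N73169 (iv3 F223939)) (tt N59138 (iv4 F331029)) (tt N55191 (iv5 F341061)) (tt N20495 (iv6 D66094)) (tt N44316 (iv7 F328588)))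
theorem Q40476 : ∀ i, i < 40476 → P i := stepQ 40475 Q40475 (allL N40475 (tt N62312 (iv1 F342393)) (tt N42882 (iv0 F327725)) (tt N48505 (iv2 F327726)) (tt N20496 (iv3 D66096)) (tt N73174 D140901) (tt N62440 (iv5 F327728)) (tt N44317 F327185) (tt N62328 (iv7 F348038)))
theorem Q40477 : ∀ i, i < 40477 → P i := stepQ 40476 Q40476 (allL N40476 (tt N41561 F342441) (tt N73170 F223945) (tt N72226 (iv2 F327720)) (tt N73175 D140904) (tt N20496 (iv4 D66097)) (tt N73176 D140905) (tt N44318 F327186) (tt N73148 (iv7 F330028)))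
theorem Q40478 : ∀ i, i < 40478 → P i := stepQ 40477 Q40477 (allL N40477 (tt N73172 (iv1 F223946)) (tt N73171 F223949) (tt N72228 (iv2 F327722)) (tt N62440 (iv3 F327727)) (tt N73177 D140907) (tt N20496 (iv5 D66098)) (tt N62438 (iv6 F341031)) (tt N73149 (iv7 F330030)))
theorem Q40479 : ∀ i, i < 40479 → P i := stepQ 40478 Q40478 (allL N40478 (tt N73151 (iv1 F223898)) (tt N20497 (iv0 D66100)) (tt N62322 (iv2 F348823)) (tt N73178 D140914) (tt N41492 F348826) (tt N73179 D140916) (tt N73180 D140917) (tt N73150 (iv7 F348841)))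
theorem Q40480 : ∀ i, i < 40480 → P i := stepQ 40479 Q40479 (allL N40479 (tt N20497 (iv1 D66101)) (tt N73151 F223897) (tt N73150 (iv2 F348838)) (tt N42924 (iv3 F322611)) (tt N41493 (iv4 F322618)) (tt N73181 D140921) (tt N36616 (iv6 F322612)) (tt N62322 (iv7 F348824)))
theorem Q40481 : ∀ i, i < 40481 → P i := stepQ 40480 Q40480 (allL N40480 (tt N73182 D140923) (tt N73183 D140924) (tt N73013 (iv2 F342428)) (tt N73184 D140925) (tt N20497 (iv4 D66102)) (tt N72996 (iv5 F342423)) (tt N62577 (iv6 F322683)) (tt N73016 (iv7 F342436)))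
theorem Q40482 : ∀ i, i < 40482 → P i := stepQ 40481 Q40481 (allL N40481 (tt N73150 (iv1 F223891)) (tt N62322 (iv0 F348843)) (tt N73151 (iv2 F223894)) (tt N20506 F101748) (tt N73016 (iv4 F342434)) (tt N20498 F101749) (tt N34388 (iv6 F320412)) (tt N20497 (iv7 D66103)))
theorem Q40483 : ∀ i, i < 40483 → P i := stepQ 40482 Q40482 (allL N40482 (tt N21845 (iv1 F314932)) (tt N36232 F204548) (tt N29744 F317924) (tt N36362 F317925) (tt N33506 (iv4 F105660)) (tt N41450 (iv5 F316533)) (tt N20499 (iv6 D66113)) (tt N46198 (iv7 F314929)))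
theorem Q40484 : ∀ i, i < 40484 → P i := stepQ 40483 Q40483 (allL N40483 (tt N41566 (iv1 F320623)) (tt N33553 (iv0 F320589)) (tt N41564 (iv2 F320591)) (tt N33557 F101754) (tt N20500 (iv4 D66121)) (tt N23521 F324031) (tt N48151 (iv6 F318725)) (tt N35499 F318447))
theorem Q40485 : ∀ i, i < 40485 → P i := stepQ 40484 Q40484 (allL N40484 (tt N20504 (iv1 F101759)) (tt N20501 (iv0 D66124)) (tt N41073 (iv2 F103296)) (tt N73185 D140976) (tt N24101 (iv4 F323536)) (tt N31918 F101758) (tt N44139 (iv6 F316369)) (tt N41579 (iv7 F104446)))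
theorem Q40486 : ∀ i, i < 40486 → P i := stepQ 40485 Q40485 (allL N40485 (tt N20501 (iv1 D66125)) (tt N20504 F101760) (tt N41579 F104448) (tt N73172 (iv3 F350112)) (tt N45514 F324262) (tt N31916 (iv5 F101761)) (tt N36230 F318642) (tt N41073 (iv7 F103297)))
theorem Q40487 : ∀ i, i < 40487 → P i := stepQ 40486 Q40486 (allL N40486 (tt N20503 (iv1 D66129)) (tt N41576 F104440) (tt N33896 (iv2 F318702)) (tt N73165 (iv3 F348058)) (tt N73186 D140990) (tt N33896 F320850) (tt N20982 (iv6 F318712)) (tt N41254 F167398))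
theorem Q40488 : ∀ i, i < 40488 → P i := stepQ 40487 Q40487 (allL N40487 (tt N72723 (iv1 F245707)) (tt N73187 D140995) (tt N48224 (iv2 F318699)) (tt N33559 F101763) (tt N20503 (iv4 D66131)) (tt N55999 (iv5 F351840)) (tt N44313 (iv6 F111595)) (tt N41571 (iv7 F104428)))
theorem Q40489 : ∀ i, i < 40489 → P i := stepQ 40488 Q40488 (allL N40488 (tt N73188 D140997) (tt N73189 D140998) (tt N48225 (iv2 F316368)) (tt N20504 F101764) (tt N73190 D140999) (tt N20503 (iv5 D66132)) (tt N48214 F313921) (tt N41577 (iv7 F104442)))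
theorem Q40490 : ∀ i, i < 40490 → P i := stepQ 40489 Q40489 (allL N40489 (tt N21853 F309242) (tt N21849 (iv0 F311457)) (tt N20632 F321536) (tt N48214 (iv3 F311462)) (tt N45532 F324265) (tt N35497 (iv5 F311135)) (tt N20504 (iv6 D66134)) (tt N36228 F321581))
theorem Q40491 : ∀ i, i < 40491 → P i := stepQ 40490 Q40490 (allL N40490 (tt N42884 F320498) (tt N20505 (iv0 D66141)) (tt N45614 (iv2 F323775)) (tt N73191 D141028) (tt N21054 F101768) (tt N23517 F323712) (tt N59943 (iv6 F324485)) (tt N25163 F320499))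
theorem Q40492 : ∀ i, i < 40492 → P i := stepQ 40491 Q40491 (allL N40491 (tt N47311 (iv1 F325018)) (tt N47313 (iv0 F325019)) (tt N73192 D141036) (tt N20505 (iv3 D66143)) (tt N73184 (iv4 F223959)) (tt N45538 (iv5 F325020)) (tt N71349 (iv6 F322684)) (tt N45622 (iv7 F325021)))
theorem Q40493 : ∀ i, i < 40493 → P i := stepQ 40492 Q40492 (allL N40492 (tt N58620 (iv1 F169839)) (tt N58552 (iv0 F209607)) (tt N20507 (iv2 D66149)) (tt N62330 (iv3 F180842)) (tt N71694 (iv4 F220377)) (tt N73193 D141046) (tt N73194 D141047) (tt N58621 (iv7 F169837)))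
theorem Q40494 : ∀ i, i < 40494 → P i := stepQ 40493 Q40493 (allL N40493 (tt N73195 D141048) (tt N73196 D141049) (tt N73193 (iv2 F224046)) (tt N20508 F101773) (tt N73197 D141050) (tt N20507 (iv5 D66150)) (tt N42335 (iv6 F318437)) (tt N58622 (iv7 F169842)))
theorem Q40495 : ∀ i, i < 40495 → P i := stepQ 40494 Q40494 (allL N40494 (tt N42221 F314625) (tt N42225 F314626) (tt N73194 (iv2 F224047)) (tt N20509 F101774) (tt N71696 (iv4 F220380)) (tt N40836 (iv5 F102727)) (tt N20507 (iv6 D66151)) (tt N38260 F101775))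
theorem Q40496 : ∀ i, i < 40496 → P i := stepQ 40495 Q40495 (allL N40495 (tt N20512 (iv1 F101777)) (tt N20508 (iv0 D66152)) (tt N41054 (iv2 F103234)) (tt N73198 D141054) (tt N23594 F321955) (tt N33461 F101776) (tt N34372 (iv6 F318347)) (tt N48107 F316112))
theorem Q40497 : ∀ i, i < 40497 → P i := stepQ 40496 Q40496 (allL N40496 (tt N20508 (iv1 D66153)) (tt N20512 F101778) (tt N48107 F316111) (tt N73199 D141057) (tt N23593 F322785) (tt N35894 (iv5 F101779)) (tt N35452 (iv6 F318346)) (tt N41054 (iv7 F103235)))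
theorem Q40498 : ∀ i, i < 40498 → P i := stepQ 40497 Q40497 (allL N40497 (tt N24101 F324867) (tt N45514 F324868) (tt N45513 F324869) (tt N73200 D141060) (tt N20508 (iv4 D66154)) (tt N31913 F101780) (tt N42336 (iv6 F318476)) (tt N45512 F324870))
theorem Q40499 : ∀ i, i < 40499 → P i := stepQ 40498 Q40498 (allL N40498 (tt N20510 (iv1 D66156)) (tt N61772 (iv0 F179468)) (tt N61945 F179717) (tt N33199 (iv3 F357003)) (tt N58059 (iv4 F168794)) (tt N73201 D141066) (tt N61897 F179649) (tt N58058 F168792))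
theorem Q40500 : ∀ i, i < 40500 → P i := stepQ 40499 Q40499 (allL N40499 (tt N72644 F222800) (tt N73202 D141067) (tt N73203 D141068) (tt N20510 (iv3 D66157)) (tt N20511 F101781) (tt N33113 F339851) (tt N25114 F316107) (tt N40500 F339852))
theorem Q40501 : ∀ i, i < 40501 → P i := stepQ 40500 Q40500 (allL N40500 (tt N43376 (iv1 F351412)) (tt N73204 D141071) (tt N61948 (iv2 F179727)) (tt N33113 F339850) (tt N33290 (iv4 F339853)) (tt N20510 (iv5 D66158)) (tt N73205 D141073) (tt N40499 (iv7 F339852)))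
theorem Q40502 : ∀ i, i < 40502 → P i := stepQ 40501 Q40501 (allL N40501 (tt N20511 (iv1 D66160)) (tt N62330 F180846) (tt N22139 (iv2 F316905)) (tt N43544 (iv3 F318326)) (tt N73206 D141075) (tt N62686 (iv5 F318329)) (tt N22068 (iv6 F318330)) (tt N62217 F220218))
theorem Q40503 : ∀ i, i < 40503 → P i := stepQ 40502 Q40502 (allL N40502 (tt N62217 F180195) (tt N22139 (iv0 F316903)) (tt N20511 (iv2 D66161)) (tt N58621 (iv3 F169835)) (tt N73203 (iv4 F224070)) (tt N59866 (iv5 F339847)) (tt N25097 F314632) (tt N62330 (iv7 F180843)))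
theorem Q40504 : ∀ i, i < 40504 → P i := stepQ 40503 Q40503 (allL N40503 (tt N62563 (iv1 F318331)) (tt N73207 D141079) (tt N59866 (iv2 F339846)) (tt N20512 F101784) (tt N59837 (iv4 F339843)) (tt N20511 (iv5 D66162)) (tt N25116 F316108) (tt N62331 (iv7 F180848)))
theorem Q40505 : ∀ i, i < 40505 → P i := stepQ 40504 Q40504 (allL N40504 (tt N45514 F323637) (tt N24101 F323638) (tt N45512 F323639) (tt N73208 D141082) (tt N20512 (iv4 D66163)) (tt N24502 (iv5 F324977)) (tt N69337 F323640) (tt N45513 F323641))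
theorem Q40506 : ∀ i, i < 40506 → P i := stepQ 40505 Q40505 (allL N40505 (tt N44099 F311267) (tt N43330 F311268) (tt N58623 (iv2 F169849)) (tt N25116 (iv3 F313617)) (tt N69337 (iv4 F321976)) (tt N25110 F311269) (tt N20512 (iv6 D66164)) (tt N42339 F311270))
theorem Q40507 : ∀ i, i < 40507 → P i := stepQ 40506 Q40506 (allL N40506 (tt N31042 F161386) (tt N59808 F174082) (tt N59796 (iv2 F174048)) (tt N45691 F327362) (tt N20514 (iv4 D66174)) (tt N62688 (iv5 F348127)) (tt N59700 (iv6 F173577)) (tt N59753 (iv7 F173813)))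
theorem Q40508 : ∀ i, i < 40508 → P i := stepQ 40507 Q40507 (allL N40507 (tt N24585 (iv1 F326665)) (tt N24583 (iv0 F326666)) (tt N23040 (iv2 F326667)) (tt N20515 (iv3 D66175)) (tt N45691 (iv4 F326668)) (tt N22928 F325860) (tt N23036 (iv6 F325927)) (tt N23043 (iv7 F325929)))
theorem Q40509 : ∀ i, i < 40509 → P i := stepQ 40508 Q40508 (allL N40508 (tt N45608 (iv1 F325819)) (tt N20518 (iv0 D66181)) (tt N45611 (iv2 F325826)) (tt N34625 (iv3 F325828)) (tt N73209 D141111) (tt N46374 (iv5 F325829)) (tt N45630 (iv6 F325830)) (tt N45610 (iv7 F325832)))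
theorem Q40510 : ∀ i, i < 40510 → P i := stepQ 40509 Q40509 (allL N40509 (tt N20518 (iv1 D66182)) (tt N45608 (iv0 F325818)) (tt N45610 (iv2 F325831)) (tt N23469 (iv3 F325833)) (tt N73210 D141115) (tt N23467 (iv5 F325839)) (tt N45619 (iv6 F325840)) (tt N45611 (iv7 F325827)))
theorem Q40511 : ∀ i, i < 40511 → P i := stepQ 40510 Q40510 (allL N40510 (tt N45611 (iv1 F325817)) (tt N45610 (iv0 F325816)) (tt N20518 (iv2 D66183)) (tt N45615 (iv3 F325823)) (tt N73083 (iv4 F223782)) (tt N25979 (iv5 F325844)) (tt N20519 F101794) (tt N45608 (iv7 F325820)))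
theorem Q40512 : ∀ i, i < 40512 → P i := stepQ 40511 Q40511 (allL N40511 (tt N59022 (iv1 F171783)) (tt N20520 (iv0 D66197)) (tt N59021 (iv2 F361311)) (tt N73211 D141124) (tt N73212 D141125) (tt N72450 (iv5 F361316)) (tt N73213 D141127) (tt N59020 (iv7 F361307)))
theorem Q40513 : ∀ i, i < 40513 → P i := stepQ 40512 Q40512 (allL N40512 (tt N20520 (iv1 D66198)) (tt N59022 F171785) (tt N59020 (iv2 F361306)) (tt N73214 D141129) (tt N73215 D141130) (tt N72451 (iv5 F350414)) (tt N59225 (iv6 F350416)) (tt N59021 (iv7 F361312)))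
theorem Q40514 : ∀ i, i < 40514 → P i := stepQ 40513 Q40513 (allL N40513 (tt N59021 (iv1 F171784)) (tt N59020 F171779) (tt N20520 (iv2 D66199)) (tt N20530 F101801) (tt N56743 (iv4 F164708)) (tt N73216 D141133) (tt N73217 D141134) (tt N59022 (iv7 F171782)))
theorem Q40515 : ∀ i, i < 40515 → P i := stepQ 40514 Q40514 (allL N40514 (tt N73218 D141135) (tt N73219 D141136) (tt N73216 (iv2 F224104)) (tt N20521 F101802) (tt N72862 (iv4 F223471)) (tt N20520 (iv5 D66200)) (tt N73220 D141137) (tt N59023 (iv7 F171787)))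
theorem Q40516 : ∀ i, i < 40516 → P i := stepQ 40515 Q40515 (allL N40515 (tt N28440 F360355) (tt N73221 D141139) (tt N73217 (iv2 F224106)) (tt N20522 F101803) (tt N56745 (iv4 F164716)) (tt N73222 D141140) (tt N20520 (iv6 D66201)) (tt N73223 D141141))
theorem Q40517 : ∀ i, i < 40517 → P i := stepQ 40516 Q40516 (allL N40516 (tt N64024 (iv1 F350354)) (tt N73224 D141143) (tt N20535 F101804) (tt N73220 (iv3 F224108)) (tt N59357 (iv4 F172729)) (tt N67232 (iv5 F329458)) (tt N20521 (iv6 D66202)) (tt N67231 (iv7 F357710)))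
theorem Q40518 : ∀ i, i < 40518 → P i := stepQ 40517 Q40517 (allL N40517 (tt N20539 (iv1 F101809)) (tt N20522 (iv0 D66203)) (tt N20536 F103603) (tt N73225 D141146) (tt N36175 (iv4 F101811)) (tt N70360 (iv5 F329878)) (tt N28405 F329700) (tt N20537 F103604))
theorem Q40519 : ∀ i, i < 40519 → P i := stepQ 40518 Q40518 (allL N40518 (tt N20522 (iv1 D66204)) (tt N20539 F101805) (tt N20537 F103606) (tt N40993 F329479) (tt N58962 F171610) (tt N73226 D141148) (tt N73227 D141149) (tt N20536 F103607))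
theorem Q40520 : ∀ i, i < 40520 → P i := stepQ 40519 Q40519 (allL N40519 (tt N20548 F329148) (tt N69555 F329149) (tt N20538 F101806) (tt N73222 (iv3 F224109)) (tt N57716 F329150) (tt N20522 (iv5 D66205)) (tt N67232 (iv6 F329459)) (tt N57714 F329151))
theorem Q40521 : ∀ i, i < 40521 → P i := stepQ 40520 Q40520 (allL N40520 (tt N20537 (iv1 F101810)) (tt N20536 F101812) (tt N20539 F101807) (tt N73223 (iv3 F224110)) (tt N20525 F101808) (tt N57714 (iv5 F328804)) (tt N59027 (iv6 F171795)) (tt N20522 (iv7 D66206)))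
theorem Q40522 : ∀ i, i < 40522 → P i := stepQ 40521 Q40521 (allL N40521 (tt N38756 F329888) (tt N31423 F162112) (tt N20541 F102111) (tt N73228 D141154) (tt N20523 (iv4 D66209)) (tt N73229 D141155) (tt N44394 (iv6 F111918)) (tt N20545 F102112))
theorem Q40523 : ∀ i, i < 40523 → P i := stepQ 40522 Q40522 (allL N40522 (tt N38792 F101814) (tt N69745 (iv0 F216044)) (tt N20542 F102113) (tt N61955 (iv3 F179747)) (tt N73230 D141156) (tt N20523 (iv5 D66210)) (tt N56752 (iv6 F164735)) (tt N20546 F102114))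
theorem Q40524 : ∀ i, i < 40524 → P i := stepQ 40523 Q40523 (allL N40523 (tt N31423 F162111) (tt N38756 F329887) (tt N20545 F102119) (tt N73231 D141157) (tt N20524 (iv4 D66213)) (tt N69871 (iv5 F329933)) (tt N73232 D141159) (tt N20541 F102120))
theorem Q40525 : ∀ i, i < 40525 → P i := stepQ 40524 Q40524 (allL N40524 (tt N38502 F101817) (tt N20770 F168236) (tt N20547 (iv2 F102134)) (tt N69468 (iv3 F214442)) (tt N73232 (iv4 F224148)) (tt N37333 F101816) (tt N20524 (iv6 D66214)) (tt N44393 (iv7 F111914)))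
theorem Q40526 : ∀ i, i < 40526 → P i := stepQ 40525 Q40525 (allL N40525 (tt N58966 (iv1 F171620)) (tt N20526 (iv0 D66215)) (tt N58965 (iv2 F224175)) (tt N73233 D141161) (tt N29027 F333125) (tt N73234 D141163) (tt N29026 (iv6 F333136)) (tt N58964 F224179))
theorem Q40527 : ∀ i, i < 40527 → P i := stepQ 40526 Q40526 (allL N40526 (tt N20526 (iv1 D66216)) (tt N58966 F171622) (tt N58964 F224178) (tt N73235 D141165) (tt N39190 (iv4 F101819)) (tt N73236 D141166) (tt N73237 D141167) (tt N58965 (iv7 F224177)))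
theorem Q40528 : ∀ i, i < 40528 → P i := stepQ 40527 Q40527 (allL N40527 (tt N58965 (iv1 F171621)) (tt N58964 F171616) (tt N20526 (iv2 D66217)) (tt N59028 (iv3 F171799)) (tt N70952 (iv4 F218884)) (tt N59646 (iv5 F173436)) (tt N73238 D141168) (tt N58966 (iv7 F171619)))
theorem Q40529 : ∀ i, i < 40529 → P i := stepQ 40528 Q40528 (allL N40528 (tt N73239 D141169) (tt N73240 D141170) (tt N73238 (iv2 F224192)) (tt N20527 F101820) (tt N70953 (iv4 F218889)) (tt N73241 D141171) (tt N20526 (iv6 D66218)) (tt N72245 (iv7 F221779)))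
theorem Q40530 : ∀ i, i < 40530 → P i := stepQ 40529 Q40529 (allL N40529 (tt N73242 D141172) (tt N73243 D141173) (tt N39577 F338267) (tt N73241 (iv3 F224193)) (tt N73244 D141174) (tt N20527 (iv5 D66221)) (tt N59650 (iv6 F173438)) (tt N72246 (iv7 F221780)))
theorem Q40531 : ∀ i, i < 40531 → P i := stepQ 40530 Q40530 (allL N40530 (tt N59035 F220522) (tt N73245 D141175) (tt N73246 D141176) (tt N20528 (iv3 D66223)) (tt N36115 F101822) (tt N72585 (iv5 F222693)) (tt N73247 D141177) (tt N62401 (iv7 F181195)))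
theorem Q40532 : ∀ i, i < 40532 → P i := stepQ 40531 Q40531 (allL N40531 (tt N20717 F102978) (tt N20692 F102979) (tt N20639 F102980) (tt N35448 (iv3 F320658)) (tt N20528 (iv4 D66224)) (tt N42677 F320542) (tt N48104 (iv6 F322292)) (tt N20716 F102981))
theorem Q40533 : ∀ i, i < 40533 → P i := stepQ 40532 Q40532 (allL N40532 (tt N73248 D141179) (tt N62570 (iv0 F342364)) (tt N62403 (iv2 F181204)) (tt N73247 (iv3 F224199)) (tt N48104 F323828) (tt N73249 D141181) (tt N20528 (iv6 D66226)) (tt N48101 (iv7 F325056)))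
theorem Q40534 : ∀ i, i < 40534 → P i := stepQ 40533 Q40533 (allL N40533 (tt N73250 D141183) (tt N73233 (iv0 F224160)) (tt N73251 D141184) (tt N20529 (iv3 D66228)) (tt N62474 (iv4 F181718)) (tt N72586 (iv5 F222694)) (tt N72247 (iv6 F322121)) (tt N62402 (iv7 F181201)))
theorem Q40535 : ∀ i, i < 40535 → P i := stepQ 40534 Q40534 (allL N40534 (tt N40119 (iv1 F181591)) (tt N40116 (iv0 F181593)) (tt N20531 F101824) (tt N73216 (iv3 F224105)) (tt N73252 D141190) (tt N20530 (iv5 D66231)) (tt N53109 (iv6 F364541)) (tt N62404 (iv7 F181207)))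
theorem Q40536 : ∀ i, i < 40536 → P i := stepQ 40535 Q40535 (allL N40535 (tt N73253 D141192) (tt N73254 D141193) (tt N20532 F101825) (tt N73217 (iv3 F224107)) (tt N20561 F101826) (tt N60049 (iv5 F324064)) (tt N20530 (iv6 D66232)) (tt N73255 D141195))
theorem Q40537 : ∀ i, i < 40537 → P i := stepQ 40536 Q40536 (allL N40536 (tt N62404 (iv1 F181209)) (tt N20531 (iv0 D66233)) (tt N40119 F183038) (tt N73256 D141196) (tt N73257 D141197) (tt N33265 F181569) (tt N73258 D141198) (tt N40116 F183036))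
theorem Q40538 : ∀ i, i < 40538 → P i := stepQ 40537 Q40537 (allL N40537 (tt N20531 (iv1 D66234)) (tt N62404 F181208) (tt N40116 (iv2 F183037)) (tt N73259 D141199) (tt N73260 D141200) (tt N33266 F181556) (tt N73261 D141201) (tt N40119 (iv7 F183039)))
theorem Q40539 : ∀ i, i < 40539 → P i := stepQ 40538 Q40538 (allL N40538 (tt N73262 D141202) (tt N73263 D141203) (tt N73252 (iv2 F224206)) (tt N59542 (iv3 F173111)) (tt N20531 (iv4 D66235)) (tt N73264 D141204) (tt N73265 D141205) (tt N62406 (iv7 F181214)))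
theorem Q40540 : ∀ i, i < 40540 → P i := stepQ 40539 Q40539 (allL N40539 (tt N53079 (iv1 F338881)) (tt N50498 (iv0 F338882)) (tt N53109 (iv2 F364540)) (tt N20535 F101827) (tt N73265 (iv4 F224234)) (tt N73266 D141208) (tt N20531 (iv6 D66236)) (tt N53108 (iv7 F372552)))
theorem Q40541 : ∀ i, i < 40541 → P i := stepQ 40540 Q40540 (allL N40540 (tt N73255 (iv1 F224217)) (tt N20532 (iv0 D66237)) (tt N73253 (iv2 F321271)) (tt N48933 (iv3 F329562)) (tt N34375 (iv4 F321273)) (tt N55726 (iv5 F340840)) (tt N34374 (iv6 F321274)) (tt N73254 (iv7 F348156)))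
theorem Q40542 : ∀ i, i < 40542 → P i := stepQ 40541 Q40541 (allL N40541 (tt N20532 (iv1 D66238)) (tt N73255 F224215) (tt N73254 (iv2 F348154)) (tt N73267 D141216) (tt N56065 (iv4 F340833)) (tt N55725 (iv5 F363446)) (tt N73268 D141219) (tt N73253 (iv7 F321272)))
theorem Q40543 : ∀ i, i < 40543 → P i := stepQ 40542 Q40542 (allL N40542 (tt N73269 D141220) (tt N73270 D141221) (tt N60049 (iv2 F324063)) (tt N20538 F101828) (tt N45095 (iv4 F324065)) (tt N20532 (iv5 D66239)) (tt N73266 (iv6 F224236)) (tt N45094 F322578))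
theorem Q40544 : ∀ i, i < 40544 → P i := stepQ 40543 Q40543 (allL N40543 (tt N73254 (iv1 F224210)) (tt N73253 F224214) (tt N73255 (iv2 F224212)) (tt N20539 F101829) (tt N20569 F101830) (tt N45094 (iv5 F321259)) (tt N46507 (iv6 F319681)) (tt N20532 (iv7 D66240)))
theorem Q40545 : ∀ i, i < 40545 → P i := stepQ 40544 Q40544 (allL N40544 (tt N73234 (iv1 F224186)) (tt N73236 (iv0 F224190)) (tt N73271 D141224) (tt N20533 (iv3 D66241)) (tt N73272 D141225) (tt N33261 F101831) (tt N73273 D141226) (tt N40101 F101832))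
theorem Q40546 : ∀ i, i < 40546 → P i := stepQ 40545 Q40545 (allL N40545 (tt N73274 D141227) (tt N73275 D141228) (tt N40111 F101833) (tt N73273 (iv3 F224251)) (tt N40430 F101834) (tt N73276 D141229) (tt N20533 (iv6 D66242)) (tt N73277 D141230))
theorem Q40547 : ∀ i, i < 40547 → P i := stepQ 40546 Q40546 (allL N40546 (tt N59032 (iv1 F222661)) (tt N59036 F172284) (tt N73278 D141231) (tt N20534 (iv3 D66243)) (tt N73279 D141232) (tt N33263 F101835) (tt N73280 D141233) (tt N40109 F101836))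
theorem Q40548 : ∀ i, i < 40548 → P i := stepQ 40547 Q40547 (allL N40547 (tt N73281 D141234) (tt N64896 (iv0 F343242)) (tt N40103 F101837) (tt N73280 (iv3 F224269)) (tt N59592 (iv4 F173200)) (tt N73282 D141236) (tt N20534 (iv6 D66244)) (tt N73283 D141237))
theorem Q40549 : ∀ i, i < 40549 → P i := stepQ 40548 Q40548 (allL N40548 (tt N67231 (iv1 F357708)) (tt N20535 (iv0 D66245)) (tt N64024 (iv2 F357711)) (tt N73284 D141239) (tt N59618 (iv4 F357739)) (tt N38523 F357707) (tt N63988 (iv6 F357712)) (tt N73224 (iv7 F357713)))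
theorem Q40550 : ∀ i, i < 40550 → P i := stepQ 40549 Q40549 (allL N40549 (tt N20535 (iv1 D66246)) (tt N67231 F357714) (tt N73224 F357715) (tt N39110 (iv3 F357717)) (tt N59619 (iv4 F357729)) (tt N38521 (iv5 F357718)) (tt N39106 (iv6 F357719)) (tt N64024 F357716))
theorem Q40551 : ∀ i, i < 40551 → P i := stepQ 40550 Q40550 (allL N40550 (tt N58036 (iv1 F329461)) (tt N37359 (iv0 F329462)) (tt N67232 (iv2 F329457)) (tt N73266 (iv3 F224235)) (tt N57712 F329153) (tt N20535 (iv5 D66247)) (tt N20538 F101838) (tt N57710 (iv7 F329464)))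
theorem Q40552 : ∀ i, i < 40552 → P i := stepQ 40551 Q40551 (allL N40551 (tt N73224 (iv1 F224111)) (tt N64024 (iv0 F350353)) (tt N67231 (iv2 F357709)) (tt N53108 (iv3 F372551)) (tt N59548 (iv4 F173116)) (tt N57710 (iv5 F329463)) (tt N59959 (iv6 F343163)) (tt N20535 (iv7 D66248)))
theorem Q40553 : ∀ i, i < 40553 → P i := stepQ 40552 Q40552 (allL N40552 (tt N73285 D141252) (tt N73237 (iv0 F353569)) (tt N39797 (iv2 F329189)) (tt N20536 (iv3 D66250)) (tt N33730 F328846) (tt N39787 (iv5 F329190)) (tt N73286 D141256) (tt N40993 (iv7 F329191)))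
theorem Q40554 : ∀ i, i < 40554 → P i := stepQ 40553 Q40553 (allL N40553 (tt N70430 F329773) (tt N73287 D141258) (tt N70360 (iv2 F329877)) (tt N39787 F329478) (tt N40566 (iv4 F329880)) (tt N20536 (iv5 D66252)) (tt N28067 (iv6 F329881)) (tt N73226 (iv7 F224123)))
theorem Q40555 : ∀ i, i < 40555 → P i := stepQ 40554 Q40554 (allL N40554 (tt N31574 F171640) (tt N44391 F171641) (tt N28405 (iv2 F329518)) (tt N73286 (iv3 F224283)) (tt N58972 (iv4 F171638)) (tt N28398 F329238) (tt N20536 (iv6 D66253)) (tt N28409 (iv7 F329519)))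
theorem Q40556 : ∀ i, i < 40556 → P i := stepQ 40555 Q40555 (allL N40555 (tt N59033 (iv1 F362375)) (tt N73288 D141262) (tt N73289 D141263) (tt N20537 (iv3 D66255)) (tt N57010 (iv4 F165219)) (tt N39816 F362701) (tt N73290 D141265) (tt N73225 (iv7 F224119)))
theorem Q40557 : ∀ i, i < 40557 → P i := stepQ 40556 Q40556 (allL N40556 (tt N73287 (iv1 F224286)) (tt N70430 F329772) (tt N73226 (iv2 F224122)) (tt N39816 F362699) (tt N38504 (iv4 F329875)) (tt N20537 (iv5 D66256)) (tt N38503 (iv6 F329876)) (tt N70360 (iv7 F329879)))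
theorem Q40558 : ∀ i, i < 40558 → P i := stepQ 40557 Q40557 (allL N40557 (tt N70458 (iv1 F217431)) (tt N72440 F222505) (tt N73227 (iv2 F224124)) (tt N73290 (iv3 F224289)) (tt N59004 (iv4 F171717)) (tt N73291 D141268) (tt N20537 (iv6 D66257)) (tt N73292 D141269))
theorem Q40559 : ∀ i, i < 40559 → P i := stepQ 40558 Q40558 (allL N40558 (tt N37654 (iv1 F328806)) (tt N57715 (iv0 F328807)) (tt N57716 (iv2 F328808)) (tt N66064 (iv3 F328809)) (tt N20538 (iv4 D66260)) (tt N66348 (iv5 F328810)) (tt N57712 (iv6 F328811)) (tt N30738 F328402))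
theorem Q40560 : ∀ i, i < 40560 → P i := stepQ 40559 Q40559 (allL N40559 (tt N69555 (iv1 F328800)) (tt N20548 (iv0 F328802)) (tt N57714 (iv2 F328803)) (tt N45094 F322909) (tt N30738 F328401) (tt N20539 F101845) (tt N30737 (iv6 F328805)) (tt N20538 (iv7 D66261)))
theorem Q40561 : ∀ i, i < 40561 → P i := stepQ 40560 Q40560 (allL N40560 (tt N56004 F162260) (tt N31487 (iv0 F101857)) (tt N56001 F162254) (tt N73293 D141283) (tt N20540 (iv4 D66271)) (tt N65620 (iv5 F355934)) (tt N55239 (iv6 F295850)) (tt N56002 (iv7 F162253)))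
theorem Q40562 : ∀ i, i < 40562 → P i := stepQ 40561 Q40561 (allL N40561 (tt N56679 F164583) (tt N69439 (iv0 F214404)) (tt N57023 (iv2 F165234)) (tt N20542 F101858) (tt N73294 D141285) (tt N20540 (iv5 D66272)) (tt N56374 (iv6 F163649)) (tt N56697 (iv7 F164600)))
theorem Q40563 : ∀ i, i < 40563 → P i := stepQ 40562 Q40562 (allL N40562 (tt N20545 (iv1 F101864)) (tt N20541 (iv0 D66275)) (tt N38756 (iv2 F329779)) (tt N73295 D141286) (tt N31427 (iv4 F101866)) (tt N38670 F329653) (tt N62421 F181231) (tt N31423 F101865))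
theorem Q40564 : ∀ i, i < 40564 → P i := stepQ 40563 Q40563 (allL N40563 (tt N73296 D141288) (tt N72420 (iv0 F386891)) (tt N73297 D141290) (tt N20541 (iv3 D66276)) (tt N73293 (iv4 F224302)) (tt N73298 D141291) (tt N28600 F329956) (tt N73231 (iv7 F224144)))
theorem Q40565 : ∀ i, i < 40565 → P i := stepQ 40564 Q40564 (allL N40564 (tt N70006 (iv1 F342844)) (tt N73230 (iv0 F342840)) (tt N73229 (iv2 F224139)) (tt N73298 (iv3 F224308)) (tt N73299 D141295) (tt N20541 (iv5 D66277)) (tt N38787 (iv6 F329971)) (tt N69871 F329960))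
theorem Q40566 : ∀ i, i < 40566 → P i := stepQ 40565 Q40565 (allL N40565 (tt N31582 F101922) (tt N59252 F172416) (tt N44394 (iv2 F111917)) (tt N28600 (iv3 F329917)) (tt N20543 F101861) (tt N28598 F329868) (tt N20541 (iv6 D66278)) (tt N44392 (iv7 F111911)))
theorem Q40567 : ∀ i, i < 40567 → P i := stepQ 40566 Q40566 (allL N40566 (tt N20546 F102091) (tt N20542 (iv0 D66280)) (tt N38792 (iv2 F102090)) (tt N58041 (iv3 F168735)) (tt N40553 F329880) (tt N38759 F102088) (tt N31661 F102089) (tt N69745 (iv7 F216043)))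
theorem Q40568 : ∀ i, i < 40568 → P i := stepQ 40567 Q40567 (allL N40567 (tt N73229 (iv1 F329935)) (tt N69871 F224143) (tt N73230 (iv2 F224141)) (tt N48650 F350838) (tt N20542 (iv4 D66281)) (tt N72149 (iv5 F329662)) (tt N62362 (iv6 F180905)) (tt N70006 F216414))
theorem Q40569 : ∀ i, i < 40569 → P i := stepQ 40568 Q40568 (allL N40568 (tt N55862 (iv1 F162190)) (tt N55937 (iv0 F162189)) (tt N55936 (iv2 F163646)) (tt N73300 D141302) (tt N20544 (iv4 D66286)) (tt N73301 D141303) (tt N73302 D141304) (tt N55935 F162187))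
theorem Q40570 : ∀ i, i < 40570 → P i := stepQ 40569 Q40569 (allL N40569 (tt N71081 F222751) (tt N70040 (iv0 F216460)) (tt N61956 (iv2 F179750)) (tt N20546 F102192) (tt N73303 D141305) (tt N20544 (iv5 D66287)) (tt N38834 (iv6 F102193)) (tt N61955 (iv7 F179749)))
theorem Q40571 : ∀ i, i < 40571 → P i := stepQ 40570 Q40570 (allL N40570 (tt N73304 D141306) (tt N62161 (iv0 F216199)) (tt N61957 (iv2 F179753)) (tt N20547 F102196) (tt N73302 (iv4 F224325)) (tt N69353 (iv5 F213964)) (tt N20544 (iv6 D66288)) (tt N71345 (iv7 F219887)))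
theorem Q40572 : ∀ i, i < 40572 → P i := stepQ 40571 Q40571 (allL N40571 (tt N69711 (iv1 F424312)) (tt N73305 D141308) (tt N73306 D141309) (tt N20545 (iv3 D66289)) (tt N73300 (iv4 F224324)) (tt N73307 D141310) (tt N73308 D141311) (tt N73228 (iv7 F224138)))
theorem Q40573 : ∀ i, i < 40573 → P i := stepQ 40572 Q40572 (allL N40572 (tt N73230 (iv1 F342841)) (tt N70006 (iv0 F342843)) (tt N69871 (iv2 F329932)) (tt N73307 (iv3 F224333)) (tt N67806 (iv4 F342837)) (tt N20545 (iv5 D66290)) (tt N67805 (iv6 F342836)) (tt N73229 (iv7 F224140)))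
theorem Q40574 : ∀ i, i < 40574 → P i := stepQ 40573 Q40573 (allL N40573 (tt N64574 (iv1 F342829)) (tt N72433 (iv0 F227001)) (tt N73232 (iv2 F224147)) (tt N73308 (iv3 F224334)) (tt N20547 F102197) (tt N73309 D141316) (tt N20545 (iv6 D66291)) (tt N73310 D141317))
theorem Q40575 : ∀ i, i < 40575 → P i := stepQ 40574 Q40574 (allL N40574 (tt N69871 (iv1 F217197)) (tt N73229 (iv0 F329934)) (tt N70006 (iv2 F216412)) (tt N73311 D141318) (tt N20546 (iv4 D66292)) (tt N72150 (iv5 F329663)) (tt N38835 F102198) (tt N73230 (iv7 F224142)))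
theorem Q40576 : ∀ i, i < 40576 → P i := stepQ 40575 Q40575 (allL N40575 (tt N20770 F168237) (tt N38502 F102205) (tt N44393 (iv2 F111912)) (tt N71345 (iv3 F219886)) (tt N73310 (iv4 F224335)) (tt N37334 F102202) (tt N31575 F102203) (tt N20547 (iv7 D66294)))
theorem Q40577 : ∀ i, i < 40577 → P i := stepQ 40576 Q40576 (allL N40576 (tt N73312 D141324) (tt N73313 D141325) (tt N73314 D141326) (tt N20548 (iv3 D66297)) (tt N20590 F102208) (tt N72088 (iv5 F329081)) (tt N37345 F102209) (tt N67768 (iv7 F207773)))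
theorem Q40578 : ∀ i, i < 40578 → P i := stepQ 40577 Q40577 (allL N40577 (tt N69557 (iv1 F329400)) (tt N70319 (iv0 F329401)) (tt N39864 (iv2 F329402)) (tt N72088 (iv3 F329080)) (tt N41198 (iv4 F329406)) (tt N20548 (iv5 D66298)) (tt N22677 (iv6 F329407)) (tt N69556 (iv7 F214865)))
theorem Q40579 : ∀ i, i < 40579 → P i := stepQ 40578 Q40578 (allL N40578 (tt N62450 F181515) (tt N73315 D141332) (tt N29695 F173677) (tt N62092 (iv3 F179997)) (tt N20549 (iv4 D66300)) (tt N73316 D141333) (tt N63140 (iv6 F319621)) (tt N29691 F173678))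
theorem Q40580 : ∀ i, i < 40580 → P i := stepQ 40579 Q40579 (allL N40579 (tt N40220 F173671) (tt N20570 F173672) (tt N29696 F173673) (tt N62094 (iv3 F180004)) (tt N59722 F173670) (tt N20549 (iv5 D66301)) (tt N42528 (iv6 F319614)) (tt N29692 F173674))
theorem Q40581 : ∀ i, i < 40581 → P i := stepQ 40580 Q40580 (allL N40580 (tt N40790 F179987) (tt N20618 F179988) (tt N62081 (iv2 F179970)) (tt N20550 (iv3 D66304)) (tt N62472 (iv4 F181709)) (tt N73317 D141340) (tt N73318 D141341) (tt N29694 F173683))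
theorem Q40582 : ∀ i, i < 40582 → P i := stepQ 40581 Q40581 (allL N40581 (tt N73315 (iv1 F224345)) (tt N62450 (iv0 F181514)) (tt N29691 F173684) (tt N69705 (iv3 F336190)) (tt N20550 (iv4 D66305)) (tt N73319 D141342) (tt N69704 (iv6 F336188)) (tt N29695 F173685))
theorem Q40583 : ∀ i, i < 40583 → P i := stepQ 40582 Q40582 (allL N40582 (tt N20570 F173690) (tt N40220 F173691) (tt N29692 F173686) (tt N73317 (iv3 F224363)) (tt N73320 D141344) (tt N20550 (iv5 D66306)) (tt N73321 D141345) (tt N29696 F173687))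
theorem Q40584 : ∀ i, i < 40584 → P i := stepQ 40583 Q40583 (allL N40583 (tt N20577 (iv1 F320119)) (tt N61381 (iv0 F319611)) (tt N29693 F173688) (tt N73318 (iv3 F224367)) (tt N69704 (iv4 F336187)) (tt N73322 D141348) (tt N20550 (iv6 D66307)) (tt N62392 (iv7 F317979)))
theorem Q40585 : ∀ i, i < 40585 → P i := stepQ 40584 Q40584 (allL N40584 (tt N29669 F102214) (tt N29668 F102215) (tt N20552 F102212) (tt N73323 D141350) (tt N20551 (iv4 D66308)) (tt N73324 D141351) (tt N73325 D141352) (tt N29670 F102213))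
theorem Q40586 : ∀ i, i < 40586 → P i := stepQ 40585 Q40585 (allL N40585 (tt N57694 (iv1 F167427)) (tt N57693 F167426) (tt N20553 F102216) (tt N36205 F102217) (tt N73325 (iv4 F224395)) (tt N63107 (iv5 F318003)) (tt N20551 (iv6 D66309)) (tt N57670 (iv7 F167367)))
theorem Q40587 : ∀ i, i < 40587 → P i := stepQ 40586 Q40586 (allL N40586 (tt N29670 (iv1 F102218)) (tt N20552 (iv0 D66310)) (tt N29669 F102982) (tt N69712 (iv3 F215937)) (tt N40849 (iv4 F102838)) (tt N73326 D141354) (tt N73327 D141355) (tt N29668 (iv7 F102943)))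
theorem Q40588 : ∀ i, i < 40588 → P i := stepQ 40587 Q40587 (allL N40587 (tt N72722 (iv1 F223025)) (tt N72725 (iv0 F223029)) (tt N73324 (iv2 F224390)) (tt N29676 F102219) (tt N73328 D141356) (tt N20552 (iv5 D66311)) (tt N73329 D141357) (tt N29671 F102220))
theorem Q40589 : ∀ i, i < 40589 → P i := stepQ 40588 Q40588 (allL N40588 (tt N73330 D141358) (tt N73331 D141359) (tt N73325 (iv2 F224394)) (tt N29677 F102221) (tt N20553 F102222) (tt N73332 D141360) (tt N20552 (iv6 D66312)) (tt N57619 (iv7 F167232)))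
theorem Q40590 : ∀ i, i < 40590 → P i := stepQ 40589 Q40589 (allL N40589 (tt N57670 (iv1 F167369)) (tt N20553 (iv0 D66313)) (tt N57694 (iv2 F359886)) (tt N73333 D141362) (tt N73334 D141363) (tt N57704 (iv5 F343406)) (tt N73335 D141365) (tt N57693 (iv7 F359890)))
theorem Q40591 : ∀ i, i < 40591 → P i := stepQ 40590 Q40590 (allL N40590 (tt N20553 (iv1 D66314)) (tt N57670 F167368) (tt N57693 (iv2 F359889)) (tt N73336 D141367) (tt N73337 D141368) (tt N57703 (iv5 F357022)) (tt N73188 (iv6 F357077)) (tt N57694 (iv7 F359887)))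
theorem Q40592 : ∀ i, i < 40592 → P i := stepQ 40591 Q40591 (allL N40591 (tt N73338 D141371) (tt N73339 D141372) (tt N63107 (iv2 F318002)) (tt N20554 F102223) (tt N34220 (iv4 F344031)) (tt N20553 (iv5 D66315)) (tt N36365 F102224) (tt N57695 (iv7 F167430)))
theorem Q40593 : ∀ i, i < 40593 → P i := stepQ 40592 Q40592 (allL N40592 (tt N30504 (iv1 F102226)) (tt N20554 (iv0 D66316)) (tt N36234 (iv2 F102227)) (tt N73340 D141374) (tt N38916 (iv4 F315020)) (tt N33470 F102225) (tt N45592 (iv6 F315951)) (tt N36235 (iv7 F102228)))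
theorem Q40594 : ∀ i, i < 40594 → P i := stepQ 40593 Q40593 (allL N40593 (tt N20554 (iv1 D66317)) (tt N30504 F102229) (tt N36235 (iv2 F102232)) (tt N52247 (iv3 F318155)) (tt N38919 (iv4 F315017)) (tt N33474 F102231) (tt N37501 (iv6 F315949)) (tt N36234 F102230))
theorem Q40595 : ∀ i, i < 40595 → P i := stepQ 40594 Q40594 (allL N40594 (tt N37231 F314876) (tt N37234 F314877) (tt N36236 F102233) (tt N73341 D141378) (tt N20554 (iv4 D66318)) (tt N57420 (iv5 F166603)) (tt N36367 F102234) (tt N57699 (iv7 F167448)))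
theorem Q40596 : ∀ i, i < 40596 → P i := stepQ 40595 Q40595 (allL N40595 (tt N36222 (iv1 F102824)) (tt N36206 F102823) (tt N20555 (iv2 D66326)) (tt N62080 (iv3 F179961)) (tt N30310 (iv4 F102825)) (tt N45324 F318790) (tt N24944 (iv6 F321210)) (tt N36221 (iv7 F102799)))
theorem Q40597 : ∀ i, i < 40597 → P i := stepQ 40596 Q40596 (allL N40596 (tt N46453 (iv1 F322807)) (tt N46455 (iv0 F322808)) (tt N24944 (iv2 F321209)) (tt N20557 F102244) (tt N40865 (iv4 F102892)) (tt N24916 (iv5 F322810)) (tt N20555 (iv6 D66328)) (tt N24947 (iv7 F321889)))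
theorem Q40598 : ∀ i, i < 40598 → P i := stepQ 40597 Q40597 (allL N40597 (tt N20556 (iv1 D66330)) (tt N20559 F102246) (tt N40887 (iv2 F102991)) (tt N62249 F180474) (tt N40766 (iv4 F102947)) (tt N73342 D141384) (tt N73343 D141385) (tt N40946 (iv7 F103065)))
theorem Q40599 : ∀ i, i < 40599 → P i := stepQ 40598 Q40598 (allL N40598 (tt N31520 F102247) (tt N31515 (iv0 F102890)) (tt N71679 (iv2 F361549)) (tt N20556 (iv3 D66331)) (tt N40864 (iv4 F102889)) (tt N71120 (iv5 F361546)) (tt N70944 (iv6 F361541)) (tt N62427 (iv7 F181239)))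
theorem Q40600 : ∀ i, i < 40600 → P i := stepQ 40599 Q40599 (allL N40599 (tt N72752 (iv1 F223159)) (tt N72754 (iv0 F223162)) (tt N62430 (iv2 F181285)) (tt N71120 (iv3 F361545)) (tt N72589 (iv4 F222695)) (tt N20556 (iv5 D66332)) (tt N71119 (iv6 F361544)) (tt N62428 (iv7 F181263)))
theorem Q40601 : ∀ i, i < 40601 → P i := stepQ 40600 Q40600 (allL N40600 (tt N73344 D141390) (tt N73345 D141391) (tt N62431 (iv2 F181287)) (tt N70944 (iv3 F361539)) (tt N20557 F102248) (tt N64555 (iv5 F361542)) (tt N20556 (iv6 D66333)) (tt N71667 (iv7 F361537)))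
theorem Q40602 : ∀ i, i < 40602 → P i := stepQ 40601 Q40601 (allL N40601 (tt N44399 F320215) (tt N20557 (iv0 D66340)) (tt N20771 (iv2 F321892)) (tt N44530 (iv3 F321893)) (tt N73248 (iv4 F361960)) (tt N42467 (iv5 F320989)) (tt N73346 D141398) (tt N62432 (iv7 F326018)))
theorem Q40603 : ∀ i, i < 40603 → P i := stepQ 40602 Q40602 (allL N40602 (tt N56129 (iv1 F323431)) (tt N52247 (iv0 F341095)) (tt N62433 (iv2 F181293)) (tt N24916 (iv3 F322809)) (tt N34612 (iv4 F323439)) (tt N20557 (iv5 D66342)) (tt N64267 F321749) (tt N24946 (iv7 F321891)))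
theorem Q40604 : ∀ i, i < 40604 → P i := stepQ 40603 Q40603 (allL N40603 (tt N29690 F102830) (tt N62084 F179982) (tt N20558 (iv2 D66346)) (tt N36221 (iv3 F102798)) (tt N33416 (iv4 F102801)) (tt N72807 (iv5 F223254)) (tt N57674 (iv6 F321206)) (tt N62080 (iv7 F179962)))
theorem Q40605 : ∀ i, i < 40605 → P i := stepQ 40604 Q40604 (allL N40604 (tt N33410 (iv1 F181465)) (tt N33418 (iv0 F181457)) (tt N33416 F102802) (tt N73347 D141409) (tt N20558 (iv4 D66347)) (tt N73348 D141410) (tt N25118 (iv6 F323217)) (tt N33415 (iv7 F102804)))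
theorem Q40606 : ∀ i, i < 40606 → P i := stepQ 40605 Q40605 (allL N40605 (tt N62036 (iv1 F179848)) (tt N31429 (iv0 F102261)) (tt N62038 F179858) (tt N20559 (iv3 D66350)) (tt N73347 (iv4 F224446)) (tt N73349 D141416) (tt N59245 (iv6 F323218)) (tt N62037 F179853))
theorem Q40607 : ∀ i, i < 40607 → P i := stepQ 40606 Q40606 (allL N40606 (tt N72754 (iv1 F223163)) (tt N72752 (iv0 F223158)) (tt N62428 (iv2 F181262)) (tt N73349 (iv3 F224459)) (tt N72590 F223160) (tt N20559 (iv5 D66351)) (tt N73350 D141418) (tt N62430 (iv7 F181286)))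
theorem Q40608 : ∀ i, i < 40608 → P i := stepQ 40607 Q40607 (allL N40607 (tt N62436 (iv1 F181318)) (tt N62435 F181316) (tt N20564 F102263) (tt N73351 D141437) (tt N20560 (iv4 D66359)) (tt N73352 D141438) (tt N73353 D141439) (tt N62434 (iv7 F181300)))
theorem Q40609 : ∀ i, i < 40609 → P i := stepQ 40608 Q40608 (allL N40608 (tt N73354 D141440) (tt N73355 D141441) (tt N20565 F102264) (tt N62377 (iv3 F180953)) (tt N73353 (iv4 F224471)) (tt N41708 F321516) (tt N20560 (iv6 D66360)) (tt N73356 D141443))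
theorem Q40610 : ∀ i, i < 40610 → P i := stepQ 40609 Q40609 (allL N40609 (tt N20569 (iv1 F102268)) (tt N20561 (iv0 D66361)) (tt N20566 (iv2 F320808)) (tt N73357 D141445) (tt N73358 D141446) (tt N33704 (iv5 F320802)) (tt N21884 (iv6 F320399)) (tt N20567 (iv7 F320814)))
theorem Q40611 : ∀ i, i < 40611 → P i := stepQ 40610 Q40610 (allL N40610 (tt N20561 (iv1 D66362)) (tt N20569 F102265) (tt N20567 (iv2 F320813)) (tt N67080 (iv3 F320820)) (tt N73359 D141450) (tt N42401 (iv5 F320822)) (tt N73360 D141452) (tt N20566 (iv7 F320809)))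
theorem Q40612 : ∀ i, i < 40612 → P i := stepQ 40611 Q40611 (allL N40611 (tt N41665 (iv1 F320312)) (tt N21204 (iv0 F321260)) (tt N20568 F102266) (tt N62379 (iv3 F180956)) (tt N20934 (iv4 F321270)) (tt N20561 (iv5 D66363)) (tt N41708 (iv6 F320092)) (tt N41663 (iv7 F320818)))
theorem Q40613 : ∀ i, i < 40613 → P i := stepQ 40612 Q40612 (allL N40612 (tt N20567 (iv1 F102269)) (tt N20566 F102270) (tt N20569 F102267) (tt N62380 (iv3 F180958)) (tt N73255 (iv4 F224213)) (tt N41663 (iv5 F320817)) (tt N46503 (iv6 F319301)) (tt N20561 (iv7 D66364)))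
theorem Q40614 : ∀ i, i < 40614 → P i := stepQ 40613 Q40613 (allL N40613 (tt N36224 F204483) (tt N71978 (iv0 F221132)) (tt N73361 D141457) (tt N20562 (iv3 D66366)) (tt N40877 F102898) (tt N33275 F181538) (tt N63763 (iv6 F333342)) (tt N40252 F181539))
theorem Q40615 : ∀ i, i < 40615 → P i := stepQ 40614 Q40614 (allL N40614 (tt N40952 (iv1 F103073)) (tt N73362 D141459) (tt N40272 F181541) (tt N73363 D141460) (tt N20562 (iv4 D66367)) (tt N73364 D141461) (tt N73365 D141462) (tt N40259 F181542))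
theorem Q40616 : ∀ i, i < 40616 → P i := stepQ 40615 Q40615 (allL N40615 (tt N73366 D141463) (tt N33832 (iv0 F333348)) (tt N40273 F181544) (tt N63763 (iv3 F333340)) (tt N73365 (iv4 F224504)) (tt N46559 (iv5 F332430)) (tt N20562 (iv6 D66369)) (tt N73367 D141466))
theorem Q40617 : ∀ i, i < 40617 → P i := stepQ 40616 Q40616 (allL N40616 (tt N62082 F181548) (tt N62094 F181549) (tt N73368 D141467) (tt N20563 (iv3 D66371)) (tt N73369 D141468) (tt N33278 F181550) (tt N73370 D141469) (tt N40267 F181551))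
theorem Q40618 : ∀ i, i < 40618 → P i := stepQ 40617 Q40617 (allL N40617 (tt N73362 (iv1 F224497)) (tt N40952 F181568) (tt N40259 F181552) (tt N73371 D141470) (tt N20563 (iv4 D66372)) (tt N73372 D141471) (tt N73373 D141472) (tt N40272 F181553))
theorem Q40619 : ∀ i, i < 40619 → P i := stepQ 40618 Q40618 (allL N40618 (tt N73374 D141473) (tt N71981 (iv0 F336866)) (tt N40260 F181555) (tt N73370 (iv3 F224524)) (tt N73373 (iv4 F224529)) (tt N73375 D141475) (tt N20563 (iv6 D66374)) (tt N73376 D141476))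
theorem Q40620 : ∀ i, i < 40620 → P i := stepQ 40619 Q40619 (allL N40619 (tt N62434 (iv1 F181302)) (tt N20564 (iv0 D66375)) (tt N62436 (iv2 F183049)) (tt N73377 D141477) (tt N73378 D141478) (tt N73379 D141479) (tt N73380 D141480) (tt N62435 (iv7 F183050)))
theorem Q40621 : ∀ i, i < 40621 → P i := stepQ 40620 Q40620 (allL N40620 (tt N20564 (iv1 D66376)) (tt N62434 F181301) (tt N62435 (iv2 F183046)) (tt N73381 D141481) (tt N41266 F181560) (tt N73382 D141482) (tt N73383 D141483) (tt N62436 F183048))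
theorem Q40622 : ∀ i, i < 40622 → P i := stepQ 40621 Q40621 (allL N40621 (tt N72812 (iv1 F223263)) (tt N72815 (iv0 F223264)) (tt N73352 (iv2 F224469)) (tt N21259 F102273) (tt N73384 D141484) (tt N20564 (iv5 D66377)) (tt N73385 D141485) (tt N62437 (iv7 F181321)))
theorem Q40623 : ∀ i, i < 40623 → P i := stepQ 40622 Q40622 (allL N40622 (tt N72274 (iv1 F332626)) (tt N72275 (iv0 F364010)) (tt N73353 (iv2 F224470)) (tt N21260 F102274) (tt N20565 F102275) (tt N48075 (iv5 F338214)) (tt N20564 (iv6 D66378)) (tt N73386 D141489))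
theorem Q40624 : ∀ i, i < 40624 → P i := stepQ 40623 Q40623 (allL N40623 (tt N73356 (iv1 F224478)) (tt N20565 (iv0 D66379)) (tt N73354 (iv2 F350254)) (tt N40452 (iv3 F334917)) (tt N73387 D141492) (tt N64012 F334916) (tt N40446 (iv6 F334918)) (tt N73355 (iv7 F334919)))
theorem Q40625 : ∀ i, i < 40625 → P i := stepQ 40624 Q40624 (allL N40624 (tt N20565 (iv1 D66380)) (tt N73356 F224477) (tt N73355 F334920) (tt N73388 D141496) (tt N65327 (iv4 F356822)) (tt N73389 D141498) (tt N42645 (iv6 F334921)) (tt N73354 (iv7 F350255)))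
theorem Q40626 : ∀ i, i < 40626 → P i := stepQ 40625 Q40625 (allL N40625 (tt N73355 (iv1 F224472)) (tt N73354 F224476) (tt N73356 (iv2 F224475)) (tt N20576 F102278) (tt N73386 (iv4 F224554)) (tt N33595 F318000) (tt N33830 F318001) (tt N20565 (iv7 D66382)))
theorem Q40627 : ∀ i, i < 40627 → P i := stepQ 40626 Q40626 (allL N40626 (tt N73390 D141517) (tt N73343 (iv0 F330612)) (tt N73358 (iv2 F320811)) (tt N71656 (iv3 F350286)) (tt N20566 (iv4 D66385)) (tt N55723 (iv5 F330620)) (tt N63186 (iv6 F321266)) (tt N73359 (iv7 F321254)))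
theorem Q40628 : ∀ i, i < 40628 → P i := stepQ 40627 Q40627 (allL N40627 (tt N62083 (iv1 F336235)) (tt N73391 D141533) (tt N73392 D141534) (tt N20567 (iv3 D66389)) (tt N61865 (iv4 F330607)) (tt N56066 (iv5 F321267)) (tt N73393 D141537) (tt N73357 (iv7 F320810)))
theorem Q40629 : ∀ i, i < 40629 → P i := stepQ 40628 Q40628 (allL N40628 (tt N73343 (iv1 F330613)) (tt N73390 F224577) (tt N73359 (iv2 F321253)) (tt N73394 D141538) (tt N20567 (iv4 D66390)) (tt N55720 (iv5 F330621)) (tt N73395 D141540) (tt N73358 (iv7 F320812)))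
theorem Q40630 : ∀ i, i < 40630 → P i := stepQ 40629 Q40629 (allL N40629 (tt N70459 (iv1 F342382)) (tt N73346 (iv0 F363156)) (tt N73360 (iv2 F321256)) (tt N73393 (iv3 F224584)) (tt N73395 (iv4 F224585)) (tt N47673 F342384) (tt N20567 (iv6 D66392)) (tt N57452 (iv7 F342383)))
theorem Q40631 : ∀ i, i < 40631 → P i := stepQ 40630 Q40630 (allL N40630 (tt N41663 F322577) (tt N20568 (iv0 D66393)) (tt N41665 (iv2 F324051)) (tt N73396 D141548) (tt N21205 (iv4 F324054)) (tt N39885 (iv5 F323526)) (tt N73397 D141551) (tt N21204 (iv7 F324050)))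
theorem Q40632 : ∀ i, i < 40632 → P i := stepQ 40631 Q40631 (allL N40631 (tt N29696 (iv1 F162320)) (tt N29692 F162317) (tt N20570 (iv2 D66399)) (tt N36216 (iv3 F204428)) (tt N73398 D141563) (tt N20871 F102285) (tt N42592 (iv6 F318756)) (tt N40220 F102286))
theorem Q40633 : ∀ i, i < 40633 → P i := stepQ 40632 Q40632 (allL N40632 (tt N73399 D141565) (tt N40904 (iv0 F103086)) (tt N73398 (iv2 F224592)) (tt N20925 F102290) (tt N20570 (iv4 D66400)) (tt N73400 D141566) (tt N52518 (iv6 F317683)) (tt N40226 F102291))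
theorem Q40634 : ∀ i, i < 40634 → P i := stepQ 40633 Q40633 (allL N40633 (tt N42594 (iv1 F318754)) (tt N37550 (iv0 F318755)) (tt N42592 F320895) (tt N20571 F102292) (tt N52518 (iv4 F317682)) (tt N42864 (iv5 F318065)) (tt N20570 (iv6 D66401)) (tt N42593 (iv7 F322661)))
theorem Q40635 : ∀ i, i < 40635 → P i := stepQ 40634 Q40634 (allL N40634 (tt N40234 (iv1 F102325)) (tt N20573 (iv0 D66410)) (tt N40232 F200167) (tt N73374 (iv3 F336861)) (tt N21208 F131045) (tt N41696 F312711) (tt N33826 F312712) (tt N36217 F321570))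
theorem Q40636 : ∀ i, i < 40636 → P i := stepQ 40635 Q40635 (allL N40635 (tt N20573 (iv1 D66411)) (tt N40234 F102319) (tt N36217 F320303) (tt N73401 D141589) (tt N21209 F107360) (tt N41695 F313221) (tt N36208 F320304) (tt N40232 F200173))
theorem Q40637 : ∀ i, i < 40637 → P i := stepQ 40636 Q40636 (allL N40636 (tt N42613 F313168) (tt N42302 (iv0 F105876)) (tt N40233 F102320) (tt N41709 F317838) (tt N34720 F320071) (tt N20573 (iv5 D66412)) (tt N20856 F102321) (tt N73402 D141594))
theorem Q40638 : ∀ i, i < 40638 → P i := stepQ 40637 Q40637 (allL N40637 (tt N36217 F321566) (tt N40232 F102327) (tt N40234 F102322) (tt N20575 F318189) (tt N20943 F102323) (tt N73402 (iv5 F224671)) (tt N33833 F315565) (tt N20573 (iv7 D66413)))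
theorem Q40639 : ∀ i, i < 40639 → P i := stepQ 40638 Q40638 (allL N40638 (tt N42572 (iv1 F320023)) (tt N73321 (iv0 F333609)) (tt N40227 (iv2 F321729)) (tt N20574 (iv3 D66415)) (tt N73403 D141598) (tt N63807 (iv5 F320020)) (tt N40220 F320294) (tt N41712 (iv7 F105867)))
theorem Q40640 : ∀ i, i < 40640 → P i := stepQ 40639 Q40639 (allL N40639 (tt N21095 F317828) (tt N42863 F317829) (tt N41713 (iv2 F105872)) (tt N73402 (iv3 F320022)) (tt N21270 F317830) (tt N20575 (iv5 D66422)) (tt N37621 F317831) (tt N41709 F105871))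
theorem Q40641 : ∀ i, i < 40641 → P i := stepQ 40640 Q40640 (allL N40640 (tt N61381 F317973) (tt N20577 (iv0 D66428)) (tt N62392 (iv2 F317978)) (tt N73391 (iv3 F364289)) (tt N73404 D141626) (tt N73405 D141627) (tt N48231 (iv6 F320123)) (tt N29693 (iv7 F320120)))
theorem Q40642 : ∀ i, i < 40642 → P i := stepQ 40641 Q40641 (allL N40641 (tt N73406 D141636) (tt N40902 F322901) (tt N67105 (iv2 F320125)) (tt N36181 F102333) (tt N20577 (iv4 D66431)) (tt N72499 (iv5 F349985)) (tt N20983 (iv6 F319602)) (tt N62393 (iv7 F181084)))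
theorem Q40643 : ∀ i, i < 40643 → P i := stepQ 40642 Q40642 (allL N40642 (tt N36150 F321546) (tt N31191 F324016) (tt N58805 F324017) (tt N36104 F102339) (tt N20578 (iv4 D66440)) (tt N23788 (iv5 F318600)) (tt N63791 F314545) (tt N22564 (iv7 F316874)))
theorem Q40644 : ∀ i, i < 40644 → P i := stepQ 40643 Q40643 (allL N40643 (tt N73405 (iv1 F318140)) (tt N73322 (iv0 F224379)) (tt N48243 (iv2 F315939)) (tt N20580 (iv3 D66445)) (tt N73407 D141688) (tt N37913 F102342) (tt N41633 F313476) (tt N62395 (iv7 F181096)))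
theorem Q40645 : ∀ i, i < 40645 → P i := stepQ 40644 Q40644 (allL N40644 (tt N40841 (iv1 F102739)) (tt N33389 F102343) (tt N33414 F321149) (tt N73408 D141690) (tt N20580 (iv4 D66446)) (tt N25169 (iv5 F316383)) (tt N40830 F313477) (tt N40838 (iv7 F102732)))
theorem Q40646 : ∀ i, i < 40646 → P i := stepQ 40645 Q40645 (allL N40645 (tt N36219 F207810) (tt N48244 (iv0 F319229)) (tt N48245 (iv2 F319233)) (tt N20581 (iv3 D66448)) (tt N45932 (iv4 F318591)) (tt N25216 F317931) (tt N39951 F319601) (tt N25215 F317932))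
theorem Q40647 : ∀ i, i < 40647 → P i := stepQ 40646 Q40646 (allL N40646 (tt N33389 F102347) (tt N40841 F102738) (tt N40838 F102734) (tt N33422 (iv3 F320461)) (tt N20581 (iv4 D66449)) (tt N25170 (iv5 F319831)) (tt N34602 (iv6 F318635)) (tt N33414 (iv7 F320141)))
theorem Q40648 : ∀ i, i < 40648 → P i := stepQ 40647 Q40647 (allL N40647 (tt N33828 (iv1 F318632)) (tt N33579 (iv0 F318633)) (tt N41674 F316365) (tt N39951 F319600) (tt N34602 (iv4 F318634)) (tt N36383 F316366) (tt N20581 (iv6 D66450)) (tt N41662 F316367))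
theorem Q40649 : ∀ i, i < 40649 → P i := stepQ 40648 Q40648 (allL N40648 (tt N62088 (iv1 F360885)) (tt N62074 (iv0 F366264)) (tt N62087 (iv2 F336237)) (tt N20583 (iv3 D66458)) (tt N20585 F102354) (tt N73409 D141722) (tt N34266 F318781) (tt N61996 (iv7 F179788)))
theorem Q40650 : ∀ i, i < 40650 → P i := stepQ 40649 Q40649 (allL N40649 (tt N73410 D141723) (tt N40156 F330574) (tt N61994 (iv2 F179784)) (tt N73409 (iv3 F224769)) (tt N73411 D141725) (tt N20583 (iv5 D66459)) (tt N73412 D141726) (tt N61997 (iv7 F179789)))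
theorem Q40651 : ∀ i, i < 40651 → P i := stepQ 40650 Q40650 (allL N40650 (tt N70036 F218231) (tt N70018 F218318) (tt N61995 (iv2 F179785)) (tt N60782 (iv3 F354326)) (tt N20584 (iv4 D66460)) (tt N73413 D141728) (tt N60780 (iv6 F325996)) (tt N61999 (iv7 F179792)))
theorem Q40652 : ∀ i, i < 40652 → P i := stepQ 40651 Q40651 (allL N40651 (tt N67957 (iv1 F336081)) (tt N56355 (iv0 F346536)) (tt N73414 D141757) (tt N20586 (iv3 D66469)) (tt N60782 (iv4 F354327)) (tt N66298 (iv5 F322267)) (tt N60781 (iv6 F323718)) (tt N62398 (iv7 F181165)))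
theorem Q40653 : ∀ i, i < 40653 → P i := stepQ 40652 Q40652 (allL N40652 (tt N37034 F102360) (tt N36935 F102361) (tt N40237 F320529) (tt N66298 (iv3 F322266)) (tt N20851 F320530) (tt N20586 (iv5 D66470)) (tt N21863 (iv6 F322549)) (tt N40239 F320531))
theorem Q40654 : ∀ i, i < 40654 → P i := stepQ 40653 Q40653 (allL N40653 (tt N20587 (iv1 D66472)) (tt N20712 (iv0 F318370)) (tt N20714 (iv2 F318371)) (tt N73415 D141766) (tt N73416 D141767) (tt N63760 (iv5 F318372)) (tt N20728 (iv6 F318373)) (tt N20695 (iv7 F318374)))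
theorem Q40655 : ∀ i, i < 40655 → P i := stepQ 40654 Q40654 (allL N40654 (tt N20695 F320526) (tt N20714 F320527) (tt N20587 (iv2 D66473)) (tt N62396 (iv3 F181153)) (tt N71812 (iv4 F220669)) (tt N42207 (iv5 F317046)) (tt N73417 D141771) (tt N20712 F320525))
theorem Q40656 : ∀ i, i < 40656 → P i := stepQ 40655 Q40655 (allL N40655 (tt N73418 D141776) (tt N72406 (iv0 F342577)) (tt N73417 (iv2 F224801)) (tt N20588 F102363) (tt N71813 (iv4 F220672)) (tt N42699 F310062) (tt N20587 (iv6 D66475)) (tt N42936 (iv7 F312474)))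
theorem Q40657 : ∀ i, i < 40657 → P i := stepQ 40656 Q40656 (allL N40656 (tt N71774 (iv1 F331832)) (tt N71771 (iv0 F345850)) (tt N60778 (iv2 F337548)) (tt N20589 (iv3 D66479)) (tt N50226 (iv4 F327484)) (tt N54319 (iv5 F312972)) (tt N38104 F102365) (tt N60781 (iv7 F323719)))
theorem Q40658 : ∀ i, i < 40658 → P i := stepQ 40657 Q40657 (allL N40657 (tt N36935 F102366) (tt N37034 F102367) (tt N40239 F320792) (tt N54319 (iv3 F312971)) (tt N20850 F320793) (tt N20589 (iv5 D66480)) (tt N23602 (iv6 F308706)) (tt N40237 F320794))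
theorem Q40659 : ∀ i, i < 40659 → P i := stepQ 40658 Q40658 (allL N40658 (tt N66282 (iv1 F325877)) (tt N20590 (iv0 D66481)) (tt N67615 (iv2 F359094)) (tt N73419 D141791) (tt N73420 D141792) (tt N36015 (iv5 F359095)) (tt N37336 (iv6 F359096)) (tt N67767 (iv7 F359097)))
theorem Q40660 : ∀ i, i < 40660 → P i := stepQ 40659 Q40659 (allL N40659 (tt N20590 (iv1 D66482)) (tt N66282 (iv0 F325876)) (tt N67767 F359098) (tt N73421 D141796) (tt N73422 D141797) (tt N36014 (iv5 F359100)) (tt N67647 (iv6 F359101)) (tt N67615 F359099))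
theorem Q40661 : ∀ i, i < 40661 → P i := stepQ 40660 Q40660 (allL N40660 (tt N67615 (iv1 F216489)) (tt N67767 F207767) (tt N20590 (iv2 D66483)) (tt N36136 (iv3 F325029)) (tt N73314 (iv4 F224340)) (tt N39371 F324993) (tt N37347 F102368) (tt N66282 (iv7 F325879)))
theorem Q40662 : ∀ i, i < 40662 → P i := stepQ 40661 Q40661 (allL N40661 (tt N66280 (iv1 F323661)) (tt N66279 (iv0 F323662)) (tt N39371 (iv2 F323664)) (tt N20591 F102369) (tt N73423 D141803) (tt N20590 (iv5 D66484)) (tt N73424 D141804) (tt N66281 F322015))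
theorem Q40663 : ∀ i, i < 40663 → P i := stepQ 40662 Q40662 (allL N40662 (tt N20844 F320397) (tt N20591 (iv0 D66485)) (tt N40241 (iv2 F320787)) (tt N73425 D141805) (tt N22535 F319227) (tt N36183 F102370) (tt N21865 (iv6 F321277)) (tt N40242 (iv7 F321280)))
theorem Q40664 : ∀ i, i < 40664 → P i := stepQ 40663 Q40663 (allL N40663 (tt N20591 (iv1 D66486)) (tt N20844 F320409) (tt N40242 (iv2 F321279)) (tt N73426 D141807) (tt N20752 F320410) (tt N36184 F102373) (tt N21055 (iv6 F322105)) (tt N40241 (iv7 F320788)))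
theorem Q40665 : ∀ i, i < 40665 → P i := stepQ 40664 Q40664 (allL N40664 (tt N65298 (iv1 F319097)) (tt N70557 (iv0 F217790)) (tt N40243 (iv2 F322107)) (tt N73424 (iv3 F224813)) (tt N40240 F322016) (tt N37071 F102374) (tt N20591 (iv6 D66488)) (tt N73427 D141812))
theorem Q40666 : ∀ i, i < 40666 → P i := stepQ 40665 Q40665 (allL N40665 (tt N56743 (iv1 F164710)) (tt N20592 (iv0 D66489)) (tt N56742 F219093) (tt N39704 F102375) (tt N73428 D141813) (tt N72452 F222515) (tt N57811 (iv6 F338935)) (tt N56741 (iv7 F219092)))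
theorem Q40667 : ∀ i, i < 40667 → P i := stepQ 40666 Q40666 (allL N40666 (tt N20592 (iv1 D66490)) (tt N56743 F164712) (tt N56741 (iv2 F219094)) (tt N73429 D141815) (tt N73430 D141816) (tt N72870 (iv5 F350396)) (tt N73431 D141818) (tt N56742 F219095))
theorem Q40668 : ∀ i, i < 40668 → P i := stepQ 40667 Q40667 (allL N40667 (tt N56742 (iv1 F164711)) (tt N56741 F164706) (tt N20592 (iv2 D66491)) (tt N20603 F102376) (tt N59022 (iv4 F171781)) (tt N73432 D141819) (tt N73433 D141820) (tt N56743 (iv7 F164709)))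
theorem Q40669 : ∀ i, i < 40669 → P i := stepQ 40668 Q40668 (allL N40668 (tt N73434 D141821) (tt N73435 D141822) (tt N73432 (iv2 F224832)) (tt N20593 F102377) (tt N73436 D141823) (tt N20592 (iv5 D66492)) (tt N73437 D141824) (tt N56744 (iv7 F164714)))
theorem Q40670 : ∀ i, i < 40670 → P i := stepQ 40669 Q40669 (allL N40669 (tt N73438 D141825) (tt N73439 D141826) (tt N73433 (iv2 F224834)) (tt N20594 F102378) (tt N59024 (iv4 F171789)) (tt N73440 D141827) (tt N20592 (iv6 D66493)) (tt N73441 D141828))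
theorem Q40671 : ∀ i, i < 40671 → P i := stepQ 40670 Q40670 (allL N40670 (tt N73442 D141829) (tt N73443 D141830) (tt N20608 F102379) (tt N73437 (iv3 F224851)) (tt N57921 (iv4 F168579)) (tt N73444 D141831) (tt N20593 (iv6 D66494)) (tt N73445 D141832))
theorem Q40672 : ∀ i, i < 40672 → P i := stepQ 40671 Q40671 (allL N40671 (tt N20612 (iv1 F102384)) (tt N20594 (iv0 D66495)) (tt N20609 F166454) (tt N73446 D141833) (tt N36199 (iv4 F102386)) (tt N73447 D141834) (tt N73049 (iv6 F223755)) (tt N20610 F166455))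
theorem Q40673 : ∀ i, i < 40673 → P i := stepQ 40672 Q40672 (allL N40672 (tt N20594 (iv1 D66496)) (tt N20612 F102380) (tt N20610 F166460) (tt N73448 D141835) (tt N59017 (iv4 F171744)) (tt N73449 D141836) (tt N44356 (iv6 F171756)) (tt N20609 F166461))
theorem Q40674 : ∀ i, i < 40674 → P i := stepQ 40673 Q40673 (allL N40673 (tt N73450 D141837) (tt N73451 D141838) (tt N20611 F102381) (tt N73440 (iv3 F224852)) (tt N73452 D141839) (tt N20594 (iv5 D66497)) (tt N73444 (iv6 F224856)) (tt N73453 D141840))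
theorem Q40675 : ∀ i, i < 40675 → P i := stepQ 40674 Q40674 (allL N40674 (tt N20610 (iv1 F102385)) (tt N20609 F102387) (tt N20612 F102382) (tt N73441 (iv3 F224853)) (tt N20597 F102383) (tt N73453 (iv5 F224880)) (tt N56750 (iv6 F164726)) (tt N20594 (iv7 D66498)))
theorem Q40676 : ∀ i, i < 40676 → P i := stepQ 40675 Q40675 (allL N40675 (tt N55376 (iv1 F360798)) (tt N38654 F166198) (tt N20613 F102437) (tt N73454 D141841) (tt N20595 (iv4 D66501)) (tt N73455 D141842) (tt N73078 (iv6 F223775)) (tt N20616 F102438))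
theorem Q40677 : ∀ i, i < 40677 → P i := stepQ 40676 Q40676 (allL N40676 (tt N38654 F166196) (tt N55376 (iv0 F360797)) (tt N20616 F102445) (tt N73456 D141843) (tt N20596 (iv4 D66504)) (tt N73457 D141844) (tt N44361 (iv6 F111774)) (tt N20613 F102446))
theorem Q40678 : ∀ i, i < 40678 → P i := stepQ 40677 Q40677 (allL N40677 (tt N62334 (iv1 F180856)) (tt N20598 (iv0 D66505)) (tt N62333 (iv2 F349722)) (tt N57098 (iv3 F336123)) (tt N73458 D141846) (tt N73459 D141847) (tt N73460 D141848) (tt N57122 (iv7 F349727)))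
theorem Q40679 : ∀ i, i < 40679 → P i := stepQ 40678 Q40678 (allL N40678 (tt N20598 (iv1 D66506)) (tt N62334 F180857) (tt N57122 (iv2 F349726)) (tt N54199 (iv3 F345473)) (tt N73461 D141851) (tt N73462 D141852) (tt N54198 (iv6 F345475)) (tt N62333 (iv7 F349723)))
theorem Q40680 : ∀ i, i < 40680 → P i := stepQ 40679 Q40679 (allL N40679 (tt N62333 F180853) (tt N57122 F165411) (tt N20598 (iv2 D66507)) (tt N62339 (iv3 F180861)) (tt N61965 (iv4 F179757)) (tt N73020 (iv5 F223722)) (tt N70151 (iv6 F216803)) (tt N62334 (iv7 F180855)))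
theorem Q40681 : ∀ i, i < 40681 → P i := stepQ 40680 Q40680 (allL N40680 (tt N62339 (iv1 F180865)) (tt N20599 (iv0 D66508)) (tt N62338 (iv2 F331552)) (tt N73463 D141855) (tt N73464 D141856) (tt N61181 (iv5 F331551)) (tt N73465 D141858) (tt N62337 (iv7 F331557)))
theorem Q40682 : ∀ i, i < 40682 → P i := stepQ 40681 Q40681 (allL N40681 (tt N20599 (iv1 D66509)) (tt N62339 F180867) (tt N62337 (iv2 F331555)) (tt N73466 D141860) (tt N73467 D141861) (tt N61177 (iv5 F331546)) (tt N66510 (iv6 F339932)) (tt N62338 (iv7 F331554)))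
theorem Q40683 : ∀ i, i < 40683 → P i := stepQ 40682 Q40682 (allL N40682 (tt N62338 (iv1 F180866)) (tt N62337 F180860) (tt N20599 (iv2 D66510)) (tt N62334 (iv3 F180854)) (tt N41081 (iv4 F103308)) (tt N73024 (iv5 F223724)) (tt N73468 D141864) (tt N62339 (iv7 F180864)))
theorem Q40684 : ∀ i, i < 40684 → P i := stepQ 40683 Q40683 (allL N40683 (tt N73469 D141865) (tt N73470 D141866) (tt N73468 (iv2 F224908)) (tt N20600 F102391) (tt N41082 (iv4 F103316)) (tt N73471 D141867) (tt N20599 (iv6 D66511)) (tt N70238 (iv7 F217049)))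
theorem Q40685 : ∀ i, i < 40685 → P i := stepQ 40684 Q40684 (allL N40684 (tt N73472 D141868) (tt N73473 D141869) (tt N62336 (iv2 F180859)) (tt N73471 (iv3 F224909)) (tt N73474 D141870) (tt N20600 (iv5 D66514)) (tt N73026 (iv6 F223726)) (tt N70241 (iv7 F217050)))
theorem Q40686 : ∀ i, i < 40686 → P i := stepQ 40685 Q40685 (allL N40685 (tt N73466 F224905) (tt N73475 D141871) (tt N73476 D141872) (tt N20601 (iv3 D66516)) (tt N73477 D141873) (tt N72999 (iv5 F223710)) (tt N72287 (iv6 F325039)) (tt N62340 (iv7 F180868)))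
theorem Q40687 : ∀ i, i < 40687 → P i := stepQ 40686 Q40686 (allL N40686 (tt N57110 (iv1 F336130)) (tt N57098 (iv0 F336122)) (tt N57105 F165406) (tt N20602 (iv3 D66520)) (tt N62447 (iv4 F181493)) (tt N73002 (iv5 F223711)) (tt N73478 D141879) (tt N57106 (iv7 F165405)))
theorem Q40688 : ∀ i, i < 40688 → P i := stepQ 40687 Q40687 (allL N40687 (tt N62565 (iv1 F359320)) (tt N73479 D141881) (tt N62342 (iv2 F180876)) (tt N73478 (iv3 F224919)) (tt N62446 (iv4 F181491)) (tt N73480 D141882) (tt N20602 (iv6 D66522)) (tt N72289 (iv7 F338943)))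
theorem Q40689 : ∀ i, i < 40689 → P i := stepQ 40688 Q40688 (allL N40688 (tt N40378 (iv1 F180973)) (tt N40375 (iv0 F180974)) (tt N20604 F102394) (tt N73432 (iv3 F224833)) (tt N73481 D141884) (tt N20603 (iv5 D66523)) (tt N73482 D141885) (tt N62343 (iv7 F180880)))
theorem Q40690 : ∀ i, i < 40690 → P i := stepQ 40689 Q40689 (allL N40689 (tt N73483 D141886) (tt N73484 D141887) (tt N20605 F102395) (tt N73433 (iv3 F224835)) (tt N20624 F102396) (tt N73485 D141888) (tt N20603 (iv6 D66524)) (tt N66886 (iv7 F319316)))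
theorem Q40691 : ∀ i, i < 40691 → P i := stepQ 40690 Q40690 (allL N40690 (tt N62343 F180882) (tt N20604 (iv0 D66525)) (tt N40378 F182539) (tt N73486 D141890) (tt N73487 D141891) (tt N33224 F180883) (tt N72903 (iv6 F352249)) (tt N40375 F182537))
theorem Q40692 : ∀ i, i < 40692 → P i := stepQ 40691 Q40691 (allL N40691 (tt N20604 (iv1 D66526)) (tt N62343 F180884) (tt N40375 (iv2 F182538)) (tt N73488 D141893) (tt N73489 D141894) (tt N33225 F180318) (tt N73490 D141895) (tt N40378 (iv7 F182540)))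
theorem Q40693 : ∀ i, i < 40693 → P i := stepQ 40692 Q40692 (allL N40692 (tt N73491 D141896) (tt N73492 D141897) (tt N73481 (iv2 F224920)) (tt N50482 (iv3 F331068)) (tt N20604 (iv4 D66527)) (tt N50585 (iv5 F356696)) (tt N50657 (iv6 F331071)) (tt N26717 F331061))
theorem Q40694 : ∀ i, i < 40694 → P i := stepQ 40693 Q40693 (allL N40693 (tt N73493 D141900) (tt N73494 D141901) (tt N73482 (iv2 F224923)) (tt N20608 F102397) (tt N50657 (iv4 F331070)) (tt N73495 D141902) (tt N20604 (iv6 D66528)) (tt N50654 (iv7 F331078)))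
theorem Q40695 : ∀ i, i < 40695 → P i := stepQ 40694 Q40694 (allL N40694 (tt N66886 F321311) (tt N20605 (iv0 D66529)) (tt N73483 (iv2 F321328)) (tt N73496 D141905) (tt N62523 (iv4 F322936)) (tt N73497 D141907) (tt N73498 D141908) (tt N73484 (iv7 F321331)))
theorem Q40696 : ∀ i, i < 40696 → P i := stepQ 40695 Q40695 (allL N40695 (tt N20605 (iv1 D66530)) (tt N66886 F321312) (tt N73484 (iv2 F321330)) (tt N73499 D141910) (tt N62524 (iv4 F322347)) (tt N73500 D141912) (tt N73501 D141913) (tt N73483 (iv7 F321329)))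
theorem Q40697 : ∀ i, i < 40697 → P i := stepQ 40696 Q40696 (allL N40696 (tt N73502 D141914) (tt N73503 D141915) (tt N73485 (iv2 F224925)) (tt N20611 F102398) (tt N73504 D141916) (tt N20605 (iv5 D66531)) (tt N73495 (iv6 F224951)) (tt N73505 D141917))
theorem Q40698 : ∀ i, i < 40698 → P i := stepQ 40697 Q40697 (allL N40697 (tt N73484 (iv1 F224924)) (tt N73483 F224928) (tt N66886 (iv2 F319315)) (tt N20612 F102399) (tt N20631 F102400) (tt N73505 (iv5 F224957)) (tt N62347 (iv6 F180894)) (tt N20605 (iv7 D66532)))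
theorem Q40699 : ∀ i, i < 40699 → P i := stepQ 40698 Q40698 (allL N40698 (tt N73459 (iv1 F345315)) (tt N73462 (iv0 F360792)) (tt N73506 D141920) (tt N20606 (iv3 D66533)) (tt N73507 D141921) (tt N33220 F102401) (tt N57987 (iv6 F336700)) (tt N40363 F102402))
theorem Q40700 : ∀ i, i < 40700 → P i := stepQ 40699 Q40699 (allL N40699 (tt N61181 (iv1 F331550)) (tt N61177 (iv0 F331544)) (tt N73508 D141929) (tt N20607 (iv3 D66535)) (tt N61610 (iv4 F327105)) (tt N33222 F102404) (tt N73509 D141931) (tt N40370 F102405))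
theorem Q40701 : ∀ i, i < 40701 → P i := stepQ 40700 Q40700 (allL N40700 (tt N44649 (iv1 F341309)) (tt N25314 (iv0 F341308)) (tt N40365 F102406) (tt N73509 (iv3 F224983)) (tt N44647 (iv4 F341316)) (tt N25324 (iv5 F341317)) (tt N20607 (iv6 D66536)) (tt N44668 F341302))
theorem Q40702 : ∀ i, i < 40702 → P i := stepQ 40701 Q40701 (allL N40701 (tt N73445 (iv1 F224860)) (tt N20608 (iv0 D66537)) (tt N73442 (iv2 F406941)) (tt N73510 D141937) (tt N73511 D141938) (tt N73512 D141939) (tt N73513 D141940) (tt N73443 (iv7 F406947)))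
theorem Q40703 : ∀ i, i < 40703 → P i := stepQ 40702 Q40702 (allL N40702 (tt N20608 (iv1 D66538)) (tt N73445 F224859) (tt N73443 (iv2 F406944)) (tt N73514 D141942) (tt N73515 D141943) (tt N73516 D141944) (tt N73517 D141945) (tt N73442 (iv7 F406943)))
theorem Q40704 : ∀ i, i < 40704 → P i := stepQ 40703 Q40703 (allL N40703 (tt N73518 D141946) (tt N73519 D141947) (tt N73444 (iv2 F224855)) (tt N73495 (iv3 F224950)) (tt N73520 D141948) (tt N20608 (iv5 D66539)) (tt N20611 F102407) (tt N73521 D141949))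
theorem Q40705 : ∀ i, i < 40705 → P i := stepQ 40704 Q40704 (allL N40704 (tt N73443 (iv1 F224854)) (tt N73442 F224858) (tt N73445 (iv2 F224857)) (tt N50654 (iv3 F331077)) (tt N58259 (iv4 F169071)) (tt N73521 (iv5 F224995)) (tt N50652 (iv6 F331075)) (tt N20608 (iv7 D66540)))
theorem Q40706 : ∀ i, i < 40706 → P i := stepQ 40705 Q40705 (allL N40705 (tt N73522 D141950) (tt N54198 (iv0 F360794)) (tt N73523 D141952) (tt N20609 (iv3 D66542)) (tt N62018 (iv4 F179805)) (tt N73524 D141953) (tt N73525 D141954) (tt N73448 (iv7 F224866)))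
theorem Q40707 : ∀ i, i < 40707 → P i := stepQ 40706 Q40706 (allL N40706 (tt N67124 (iv1 F206710)) (tt N29654 F166499) (tt N36199 F166462) (tt N59005 F171719) (tt N20609 (iv4 D66543)) (tt N36111 (iv5 F166463)) (tt N73526 D141955) (tt N59017 (iv7 F171743)))
theorem Q40708 : ∀ i, i < 40708 → P i := stepQ 40707 Q40707 (allL N40707 (tt N63889 (iv1 F341377)) (tt N44309 F166464) (tt N73447 (iv2 F224863)) (tt N73524 (iv3 F224996)) (tt N73527 D141957) (tt N20609 (iv5 D66544)) (tt N73528 D141958) (tt N73449 (iv7 F224868)))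
theorem Q40709 : ∀ i, i < 40709 → P i := stepQ 40708 Q40708 (allL N40708 (tt N72852 (iv1 F223495)) (tt N59887 (iv0 F223494)) (tt N73049 (iv2 F223752)) (tt N73525 (iv3 F224997)) (tt N73526 (iv4 F224999)) (tt N72881 F223493) (tt N20609 (iv6 D66545)) (tt N73046 F223746))
theorem Q40710 : ∀ i, i < 40710 → P i := stepQ 40709 Q40709 (allL N40709 (tt N73465 (iv1 F390437)) (tt N73529 D141960) (tt N73530 D141961) (tt N20610 (iv3 D66547)) (tt N71831 (iv4 F220701)) (tt N73531 D141962) (tt N73532 D141963) (tt N73446 (iv7 F224862)))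
theorem Q40711 : ∀ i, i < 40711 → P i := stepQ 40710 Q40710 (allL N40710 (tt N29654 F166498) (tt N67124 F206709) (tt N59017 (iv2 F171742)) (tt N36190 F102410) (tt N20610 (iv4 D66548)) (tt N36112 (iv5 F166140)) (tt N57662 (iv6 F167336)) (tt N36199 (iv7 F166449)))
theorem Q40712 : ∀ i, i < 40712 → P i := stepQ 40711 Q40711 (allL N40711 (tt N44309 (iv1 F111576)) (tt N63889 (iv0 F341376)) (tt N73449 (iv2 F224867)) (tt N73531 (iv3 F225007)) (tt N73533 D141964) (tt N20610 (iv5 D66549)) (tt N73534 D141965) (tt N73447 (iv7 F224864)))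
theorem Q40713 : ∀ i, i < 40713 → P i := stepQ 40712 Q40712 (allL N40712 (tt N44359 F167339) (tt N30709 (iv0 F111577)) (tt N44356 F171752) (tt N73532 (iv3 F225008)) (tt N57662 F167337) (tt N72954 (iv5 F337416)) (tt N20610 (iv6 D66550)) (tt N44357 (iv7 F171751)))
theorem Q40714 : ∀ i, i < 40714 → P i := stepQ 40713 Q40713 (allL N40713 (tt N73453 (iv1 F224882)) (tt N20611 (iv0 D66551)) (tt N73450 F224871) (tt N73535 D141967) (tt N73536 D141968) (tt N57735 F171765) (tt N73535 (iv6 F404751)) (tt N73451 (iv7 F224875)))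
theorem Q40715 : ∀ i, i < 40715 → P i := stepQ 40714 Q40714 (allL N40714 (tt N20611 (iv1 D66552)) (tt N73453 F224881) (tt N73451 F224877) (tt N73537 D141970) (tt N73538 D141971) (tt N57734 (iv5 F167646)) (tt N73539 D141972) (tt N73450 F224872))
theorem Q40716 : ∀ i, i < 40716 → P i := stepQ 40715 Q40715 (allL N40715 (tt N73540 D141973) (tt N73541 D141974) (tt N73452 (iv2 F224878)) (tt N73542 D141975) (tt N20611 (iv4 D66553)) (tt N73543 D141976) (tt N73520 (iv6 F224994)) (tt N73544 D141977))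
theorem Q40717 : ∀ i, i < 40717 → P i := stepQ 40716 Q40716 (allL N40716 (tt N73451 (iv1 F224874)) (tt N73450 F224873) (tt N73453 (iv2 F224879)) (tt N73505 (iv3 F224956)) (tt N73544 (iv4 F225009)) (tt N20612 F102411) (tt N73545 D141978) (tt N20611 (iv7 D66554)))
theorem Q40718 : ∀ i, i < 40718 → P i := stepQ 40717 Q40717 (allL N40717 (tt N20616 (iv1 F102424)) (tt N20613 (iv0 D66565)) (tt N55376 (iv2 F360799)) (tt N73546 D141979) (tt N55942 F166082) (tt N73547 D141980) (tt N56762 F166086) (tt N38654 (iv7 F166083)))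
theorem Q40719 : ∀ i, i < 40719 → P i := stepQ 40718 Q40718 (allL N40718 (tt N73548 D141981) (tt N56778 (iv0 F400434)) (tt N73549 D141983) (tt N20613 (iv3 D66567)) (tt N57061 (iv4 F165314)) (tt N73550 D141984) (tt N73551 D141985) (tt N73456 (iv7 F224888)))
theorem Q40720 : ∀ i, i < 40720 → P i := stepQ 40719 Q40719 (allL N40719 (tt N73552 D141986) (tt N73553 D141987) (tt N73455 (iv2 F224884)) (tt N73550 (iv3 F225012)) (tt N73554 D141988) (tt N20613 (iv5 D66568)) (tt N73555 D141989) (tt N73457 (iv7 F224890)))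
theorem Q40721 : ∀ i, i < 40721 → P i := stepQ 40720 Q40720 (allL N40720 (tt N72846 F223448) (tt N73556 D141990) (tt N73078 (iv2 F223774)) (tt N73551 (iv3 F225013)) (tt N20614 F102421) (tt N73557 D141991) (tt N20613 (iv6 D66569)) (tt N73075 (iv7 F223772)))
theorem Q40722 : ∀ i, i < 40722 → P i := stepQ 40721 Q40721 (allL N40721 (tt N72835 (iv1 F366181)) (tt N73558 D141993) (tt N73559 D141994) (tt N20616 (iv3 D66579)) (tt N66428 (iv4 F204151)) (tt N73560 D141995) (tt N73561 D141996) (tt N73454 (iv7 F224883)))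
theorem Q40723 : ∀ i, i < 40723 → P i := stepQ 40722 Q40722 (allL N40722 (tt N73553 (iv1 F225017)) (tt N73552 F225015) (tt N73457 (iv2 F224889)) (tt N73560 (iv3 F225020)) (tt N73562 D141997) (tt N20616 (iv5 D66580)) (tt N59551 (iv6 F343793)) (tt N73455 (iv7 F224885)))
theorem Q40724 : ∀ i, i < 40724 → P i := stepQ 40723 Q40723 (allL N40723 (tt N57829 (iv1 F167881)) (tt N30714 F167689) (tt N44361 (iv2 F111773)) (tt N73561 (iv3 F225021)) (tt N20617 F102490) (tt N59552 (iv5 F336741)) (tt N20616 (iv6 D66581)) (tt N44364 (iv7 F111781)))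
theorem Q40725 : ∀ i, i < 40725 → P i := stepQ 40724 Q40724 (allL N40724 (tt N31729 F102492) (tt N57903 (iv0 F168532)) (tt N44362 (iv2 F111775)) (tt N71157 (iv3 F219564)) (tt N73563 D142000) (tt N20617 (iv5 D66582)) (tt N58223 F169019) (tt N31783 F102491))
theorem Q40726 : ∀ i, i < 40726 → P i := stepQ 40725 Q40725 (allL N40725 (tt N20618 (iv1 D66590)) (tt N40790 F102659) (tt N29694 F179984) (tt N62084 F179985) (tt N62473 F181715) (tt N73564 D142001) (tt N73565 D142002) (tt N62081 F179986))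
theorem Q40727 : ∀ i, i < 40727 → P i := stepQ 40726 Q40726 (allL N40726 (tt N62081 F179974) (tt N29694 (iv0 F162313)) (tt N20618 (iv2 D66591)) (tt N36210 (iv3 F102514)) (tt N33400 (iv4 F102515)) (tt N73152 (iv5 F223901)) (tt N57682 (iv6 F322930)) (tt N40790 (iv7 F102658)))
theorem Q40728 : ∀ i, i < 40728 → P i := stepQ 40727 Q40727 (allL N40727 (tt N20621 (iv1 F102509)) (tt N20619 (iv0 D66595)) (tt N62370 F181470) (tt N73566 D142008) (tt N33409 (iv4 F181463)) (tt N73567 D142009) (tt N73568 D142010) (tt N33428 F181471))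
theorem Q40729 : ∀ i, i < 40729 → P i := stepQ 40728 Q40728 (allL N40728 (tt N20619 (iv1 D66596)) (tt N20621 F102505) (tt N33428 (iv2 F181472)) (tt N38656 F181477) (tt N33427 F181474) (tt N73569 D142011) (tt N73570 D142012) (tt N62370 (iv7 F181473)))
theorem Q40730 : ∀ i, i < 40730 → P i := stepQ 40729 Q40729 (allL N40729 (tt N56770 F164777) (tt N73571 D142013) (tt N61192 F340005) (tt N20619 (iv3 D66597)) (tt N40793 (iv4 F102661)) (tt N36395 (iv5 F340006)) (tt N65274 (iv6 F322931)) (tt N62371 (iv7 F180924)))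
theorem Q40731 : ∀ i, i < 40731 → P i := stepQ 40730 Q40730 (allL N40730 (tt N73108 (iv1 F223820)) (tt N73109 (iv0 F223824)) (tt N62375 (iv2 F180937)) (tt N36395 F340007) (tt N73005 (iv4 F223712)) (tt N20619 (iv5 D66598)) (tt N36408 (iv6 F340010)) (tt N62372 (iv7 F180926)))
theorem Q40732 : ∀ i, i < 40732 → P i := stepQ 40731 Q40731 (allL N40731 (tt N72060 (iv1 F346608)) (tt N72063 (iv0 F346598)) (tt N71977 (iv2 F221127)) (tt N20622 F102554) (tt N40914 (iv4 F103033)) (tt N53336 (iv5 F344030)) (tt N20620 (iv6 D66610)) (tt N72309 (iv7 F322933)))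
theorem Q40733 : ∀ i, i < 40733 → P i := stepQ 40732 Q40732 (allL N40732 (tt N73109 (iv1 F223825)) (tt N73108 (iv0 F223819)) (tt N62372 (iv2 F180925)) (tt N71903 (iv3 F220855)) (tt N73006 F223821) (tt N20621 (iv5 D66611)) (tt N73572 D142039) (tt N62375 (iv7 F180938)))
theorem Q40734 : ∀ i, i < 40734 → P i := stepQ 40733 Q40733 (allL N40733 (tt N73573 D142040) (tt N73574 D142041) (tt N62373 (iv2 F180927)) (tt N71904 (iv3 F220856)) (tt N20622 F102555) (tt N73575 D142042) (tt N20621 (iv6 D66612)) (tt N65277 (iv7 F322934)))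
theorem Q40735 : ∀ i, i < 40735 → P i := stepQ 40734 Q40734 (allL N40734 (tt N20622 (iv1 D66616)) (tt N44368 F321303) (tt N20778 F327710) (tt N62432 (iv3 F328203)) (tt N73479 (iv4 F350158)) (tt N44531 (iv5 F328205)) (tt N73576 D142053) (tt N44530 F327711))
theorem Q40736 : ∀ i, i < 40736 → P i := stepQ 40735 Q40735 (allL N40735 (tt N73340 (iv1 F344025)) (tt N73577 D142055) (tt N62374 (iv2 F180930)) (tt N53336 (iv3 F344029)) (tt N68418 (iv4 F324798)) (tt N20622 (iv5 D66617)) (tt N37499 F323499) (tt N72310 (iv7 F322935)))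
theorem Q40737 : ∀ i, i < 40737 → P i := stepQ 40736 Q40736 (allL N40736 (tt N62382 (iv1 F180966)) (tt N62381 F180965) (tt N20627 F102556) (tt N73578 D142058) (tt N20623 (iv4 D66619)) (tt N50581 (iv5 F356667)) (tt N56315 (iv6 F320181)) (tt N62376 (iv7 F180949)))
theorem Q40738 : ∀ i, i < 40738 → P i := stepQ 40737 Q40737 (allL N40737 (tt N36508 (iv1 F319834)) (tt N36542 (iv0 F319833)) (tt N20628 F102557) (tt N42617 (iv3 F319291)) (tt N56315 (iv4 F320180)) (tt N46482 (iv5 F319317)) (tt N20623 (iv6 D66620)) (tt N36540 (iv7 F319836)))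
theorem Q40739 : ∀ i, i < 40739 → P i := stepQ 40738 Q40738 (allL N40738 (tt N20631 (iv1 F102561)) (tt N20624 (iv0 D66621)) (tt N20629 F321316) (tt N72004 (iv3 F321320)) (tt N73579 D142067) (tt N36617 (iv5 F319307)) (tt N73181 (iv6 F223958)) (tt N20630 F321317))
theorem Q40740 : ∀ i, i < 40740 → P i := stepQ 40739 Q40739 (allL N40739 (tt N20624 (iv1 D66622)) (tt N20631 F102558) (tt N20630 F321318) (tt N73580 D142070) (tt N73581 D142071) (tt N46486 (iv5 F319312)) (tt N44372 (iv6 F319265)) (tt N20629 F321319))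
theorem Q40741 : ∀ i, i < 40741 → P i := stepQ 40740 Q40740 (allL N40740 (tt N73317 (iv1 F224366)) (tt N73564 (iv0 F225026)) (tt N73582 D142078) (tt N20625 (iv3 D66626)) (tt N40809 F102666) (tt N33243 F180308) (tt N73583 D142079) (tt N40433 F180309))
theorem Q40742 : ∀ i, i < 40742 → P i := stepQ 40741 Q40741 (allL N40741 (tt N73584 D142080) (tt N73585 D142081) (tt N40451 F180310) (tt N73586 D142082) (tt N20625 (iv4 D66627)) (tt N73587 D142083) (tt N73588 D142084) (tt N40440 F180311))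
theorem Q40743 : ∀ i, i < 40743 → P i := stepQ 40742 Q40742 (allL N40742 (tt N73589 D142085) (tt N73401 (iv0 F330059)) (tt N40452 F180313) (tt N73583 (iv3 F225098)) (tt N73588 (iv4 F225111)) (tt N73590 D142087) (tt N20625 (iv6 D66629)) (tt N46627 F326373))
theorem Q40744 : ∀ i, i < 40744 → P i := stepQ 40743 Q40743 (allL N40743 (tt N71982 (iv1 F221154)) (tt N36211 F103088) (tt N71979 F221138) (tt N20626 (iv3 D66631)) (tt N40933 (iv4 F103087)) (tt N33246 (iv5 F180302)) (tt N42644 (iv6 F324175)) (tt N40446 F180314))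
theorem Q40745 : ∀ i, i < 40745 → P i := stepQ 40744 Q40744 (allL N40744 (tt N73585 (iv1 F225103)) (tt N73584 F225100) (tt N40440 (iv2 F180316)) (tt N73591 D142090) (tt N20626 (iv4 D66632)) (tt N73592 D142091) (tt N46630 (iv6 F324176)) (tt N40451 F180315))
theorem Q40746 : ∀ i, i < 40746 → P i := stepQ 40745 Q40745 (allL N40745 (tt N62376 (iv1 F180951)) (tt N20627 (iv0 D66635)) (tt N62382 F182557) (tt N73593 D142097) (tt N62520 (iv4 F181998)) (tt N73594 D142098) (tt N73595 D142099) (tt N62381 F182561))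
theorem Q40747 : ∀ i, i < 40747 → P i := stepQ 40746 Q40746 (allL N40746 (tt N20627 (iv1 D66636)) (tt N62376 (iv0 F180950)) (tt N62381 F182560) (tt N23857 (iv3 F324160)) (tt N41526 (iv4 F166903)) (tt N61186 (iv5 F324164)) (tt N23855 (iv6 F324165)) (tt N62382 (iv7 F182559)))
theorem Q40748 : ∀ i, i < 40748 → P i := stepQ 40747 Q40747 (allL N40747 (tt N73159 (iv1 F223915)) (tt N66768 (iv0 F321180)) (tt N50581 (iv2 F356666)) (tt N21196 F102566) (tt N50576 (iv4 F356695)) (tt N20627 (iv5 D66637)) (tt N50575 (iv6 F356652)) (tt N62383 (iv7 F180977)))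
theorem Q40749 : ∀ i, i < 40749 → P i := stepQ 40748 Q40748 (allL N40748 (tt N56286 (iv1 F320182)) (tt N56314 (iv0 F320183)) (tt N56315 (iv2 F320179)) (tt N21197 F102567) (tt N20628 F102568) (tt N51165 (iv5 F356648)) (tt N20627 (iv6 D66638)) (tt N42615 (iv7 F319420)))
theorem Q40750 : ∀ i, i < 40750 → P i := stepQ 40749 Q40749 (allL N40749 (tt N20628 (iv1 D66640)) (tt N36540 (iv0 F319835)) (tt N36542 (iv2 F320158)) (tt N73596 D142115) (tt N73597 D142116) (tt N23987 (iv5 F320171)) (tt N73598 D142118) (tt N36508 (iv7 F320157)))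
theorem Q40751 : ∀ i, i < 40751 → P i := stepQ 40750 Q40750 (allL N40750 (tt N63141 (iv1 F322943)) (tt N73565 (iv0 F348369)) (tt N73599 D142131) (tt N20629 (iv3 D66644)) (tt N73600 D142132) (tt N47409 (iv5 F322945)) (tt N73601 D142134) (tt N73580 (iv7 F321325)))
theorem Q40752 : ∀ i, i < 40752 → P i := stepQ 40751 Q40751 (allL N40751 (tt N73602 D142136) (tt N73570 (iv0 F348342)) (tt N73579 (iv2 F321322)) (tt N73603 D142138) (tt N20629 (iv4 D66645)) (tt N73604 D142139) (tt N73605 D142140) (tt N73581 (iv7 F321327)))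
theorem Q40753 : ∀ i, i < 40753 → P i := stepQ 40752 Q40752 (allL N40752 (tt N46487 (iv1 F322949)) (tt N23661 (iv0 F322950)) (tt N36617 (iv2 F322952)) (tt N47409 (iv3 F322944)) (tt N67996 (iv4 F322954)) (tt N20629 (iv5 D66646)) (tt N35471 (iv6 F322955)) (tt N46486 (iv7 F322957)))
theorem Q40754 : ∀ i, i < 40754 → P i := stepQ 40753 Q40753 (allL N40753 (tt N73576 (iv1 F350120)) (tt N59888 (iv0 F350118)) (tt N73181 (iv2 F321324)) (tt N73601 (iv3 F225163)) (tt N73605 (iv4 F225166)) (tt N73150 F223892) (tt N20629 (iv6 D66647)) (tt N73179 (iv7 F321648)))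
theorem Q40755 : ∀ i, i < 40755 → P i := stepQ 40754 Q40754 (allL N40754 (tt N66865 (iv1 F322958)) (tt N66867 (iv0 F322959)) (tt N54463 (iv2 F334895)) (tt N20630 (iv3 D66649)) (tt N40963 F324986) (tt N73606 D142155) (tt N73607 D142156) (tt N72004 (iv7 F321321)))
theorem Q40756 : ∀ i, i < 40756 → P i := stepQ 40755 Q40755 (allL N40755 (tt N73570 (iv1 F348343)) (tt N73602 F225169) (tt N73581 (iv2 F321326)) (tt N54179 (iv3 F360804)) (tt N20630 (iv4 D66650)) (tt N73608 D142158) (tt N73609 D142159) (tt N73579 (iv7 F321323)))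
theorem Q40757 : ∀ i, i < 40757 → P i := stepQ 40756 Q40756 (allL N40756 (tt N23661 (iv1 F322951)) (tt N46487 (iv0 F322948)) (tt N46486 (iv2 F322956)) (tt N73606 (iv3 F225175)) (tt N68014 (iv4 F322973)) (tt N20630 (iv5 D66651)) (tt N48158 (iv6 F322974)) (tt N36617 (iv7 F322953)))
theorem Q40758 : ∀ i, i < 40758 → P i := stepQ 40757 Q40757 (allL N40757 (tt N21889 (iv1 F322975)) (tt N44371 (iv0 F322976)) (tt N44372 (iv2 F322977)) (tt N73607 (iv3 F225176)) (tt N73609 (iv4 F225177)) (tt N73610 D142164) (tt N20630 (iv6 D66652)) (tt N44373 (iv7 F322981)))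
theorem Q40759 : ∀ i, i < 40759 → P i := stepQ 40758 Q40758 (allL N40758 (tt N36228 F320646) (tt N20632 (iv0 D66671)) (tt N21853 (iv2 F323253)) (tt N66867 (iv3 F322439)) (tt N69339 (iv4 F323254)) (tt N21828 (iv5 F323255)) (tt N36220 (iv6 F322440)) (tt N21849 (iv7 F323256)))
theorem Q40760 : ∀ i, i < 40760 → P i := stepQ 40759 Q40759 (allL N40759 (tt N29697 (iv1 F319706)) (tt N48231 (iv0 F319630)) (tt N20634 (iv2 D66681)) (tt N36228 F321622) (tt N73611 D142249) (tt N48215 (iv5 F319580)) (tt N57679 F317372) (tt N48214 (iv7 F319631)))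
theorem Q40761 : ∀ i, i < 40761 → P i := stepQ 40760 Q40760 (allL N40760 (tt N73327 (iv1 F323826)) (tt N73612 D142252) (tt N73611 (iv2 F225219)) (tt N36204 F102585) (tt N20634 (iv4 D66682)) (tt N73613 D142253) (tt N72283 (iv6 F221863)) (tt N48232 F321539))
theorem Q40762 : ∀ i, i < 40762 → P i := stepQ 40761 Q40761 (allL N40761 (tt N20726 F320545) (tt N20635 (iv0 D66717)) (tt N20728 (iv2 F322295)) (tt N43517 (iv3 F321989)) (tt N28298 (iv4 F334867)) (tt N33992 (iv5 F321994)) (tt N20714 (iv6 F322296)) (tt N20715 (iv7 F322297)))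
theorem Q40763 : ∀ i, i < 40763 → P i := stepQ 40762 Q40762 (allL N40762 (tt N20728 F320546) (tt N20715 F320547) (tt N20635 (iv2 D66719)) (tt N43335 F320539) (tt N54668 (iv4 F356210)) (tt N25153 F320540) (tt N73614 D142308) (tt N20726 (iv7 F322300)))
theorem Q40764 : ∀ i, i < 40764 → P i := stepQ 40763 Q40763 (allL N40763 (tt N72404 (iv1 F333274)) (tt N73615 D142314) (tt N73614 (iv2 F225249)) (tt N20636 F102606) (tt N71865 (iv4 F220774)) (tt N25159 F319186) (tt N20635 (iv6 D66721)) (tt N72286 (iv7 F221889)))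
theorem Q40765 : ∀ i, i < 40765 → P i := stepQ 40764 Q40764 (allL N40764 (tt N62089 (iv1 F348373)) (tt N62100 (iv0 F348360)) (tt N62098 (iv2 F348345)) (tt N20637 (iv3 D66738)) (tt N20638 F102613) (tt N73616 D142325) (tt N72284 (iv6 F221881)) (tt N62026 (iv7 F179812)))
theorem Q40766 : ∀ i, i < 40766 → P i := stepQ 40765 Q40765 (allL N40765 (tt N73617 D142326) (tt N54604 (iv0 F357603)) (tt N62029 (iv2 F179816)) (tt N73616 (iv3 F225255)) (tt N49141 F329586) (tt N20637 (iv5 D66739)) (tt N73618 D142329) (tt N62027 (iv7 F179813)))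
theorem Q40767 : ∀ i, i < 40767 → P i := stepQ 40766 Q40766 (allL N40766 (tt N20639 (iv1 D66753)) (tt N20716 F102944) (tt N20692 F102945) (tt N20697 F102946) (tt N40597 F102947) (tt N73619 D142350) (tt N64215 (iv6 F326861)) (tt N20717 F102948))
theorem Q40768 : ∀ i, i < 40768 → P i := stepQ 40767 Q40767 (allL N40767 (tt N20733 F181271) (tt N45253 (iv0 F319502)) (tt N42677 (iv2 F318911)) (tt N20641 F102623) (tt N62319 F181694) (tt N20639 (iv5 D66755)) (tt N73620 D142352) (tt N45266 (iv7 F318917)))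
theorem Q40769 : ∀ i, i < 40769 → P i := stepQ 40768 Q40768 (allL N40768 (tt N48103 (iv1 F325034)) (tt N48102 (iv0 F325035)) (tt N48104 F323788) (tt N20642 F102624) (tt N62403 (iv4 F181205)) (tt N73621 D142355) (tt N20639 (iv6 D66756)) (tt N48098 F323789))
theorem Q40770 : ∀ i, i < 40770 → P i := stepQ 40769 Q40769 (allL N40769 (tt N20643 (iv1 F102631)) (tt N20640 (iv0 D66758)) (tt N62473 (iv2 F181716)) (tt N73622 D142357) (tt N29694 F102626) (tt N60182 (iv5 F330355)) (tt N73623 D142359) (tt N62472 F181712))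
theorem Q40771 : ∀ i, i < 40771 → P i := stepQ 40770 Q40770 (allL N40770 (tt N20640 (iv1 D66759)) (tt N20643 F102627) (tt N62472 F181711) (tt N62077 (iv3 F179973)) (tt N62081 (iv4 F179972)) (tt N73624 D142360) (tt N73625 D142361) (tt N62473 (iv7 F181714)))
theorem Q40772 : ∀ i, i < 40772 → P i := stepQ 40771 Q40771 (allL N40771 (tt N69693 F215906) (tt N69689 (iv0 F215904)) (tt N73626 D142362) (tt N20640 (iv3 D66760)) (tt N62402 (iv4 F181200)) (tt N73627 D142363) (tt N73628 D142364) (tt N62474 (iv7 F181719)))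
theorem Q40773 : ∀ i, i < 40773 → P i := stepQ 40772 Q40772 (allL N40772 (tt N73629 D142365) (tt N73630 D142366) (tt N62479 (iv2 F181752)) (tt N73627 (iv3 F225285)) (tt N73631 D142367) (tt N20640 (iv5 D66761)) (tt N73632 D142368) (tt N62475 (iv7 F181721)))
theorem Q40774 : ∀ i, i < 40774 → P i := stepQ 40773 Q40773 (allL N40773 (tt N73633 D142369) (tt N73634 D142370) (tt N62480 (iv2 F181754)) (tt N73628 (iv3 F225286)) (tt N20642 F102628) (tt N73635 D142371) (tt N20640 (iv6 D66762)) (tt N72313 (iv7 F322122)))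
theorem Q40775 : ∀ i, i < 40775 → P i := stepQ 40774 Q40774 (allL N40774 (tt N62544 (iv1 F323316)) (tt N73636 D142374) (tt N62481 (iv2 F181756)) (tt N73637 D142375) (tt N20641 (iv4 D66766)) (tt N61098 (iv5 F330344)) (tt N73638 D142377) (tt N62476 (iv7 F181725)))
theorem Q40776 : ∀ i, i < 40776 → P i := stepQ 40775 Q40775 (allL N40775 (tt N63040 (iv1 F319987)) (tt N21436 (iv0 F319988)) (tt N62482 (iv2 F181758)) (tt N73620 (iv3 F225273)) (tt N73638 (iv4 F225299)) (tt N63448 (iv5 F319503)) (tt N20641 (iv6 D66767)) (tt N63039 (iv7 F317780)))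
theorem Q40777 : ∀ i, i < 40777 → P i := stepQ 40776 Q40776 (allL N40776 (tt N35450 (iv1 F320419)) (tt N20642 (iv0 D66769)) (tt N20759 (iv2 F323790)) (tt N62449 (iv3 F323791)) (tt N73639 D142384) (tt N44541 F322123) (tt N73640 D142386) (tt N62483 (iv7 F323794)))
theorem Q40778 : ∀ i, i < 40778 → P i := stepQ 40777 Q40777 (allL N40777 (tt N64639 (iv1 F323795)) (tt N62564 (iv0 F323796)) (tt N43991 F322124) (tt N73621 (iv3 F225274)) (tt N73641 D142394) (tt N20642 (iv5 D66771)) (tt N63448 (iv6 F319504)) (tt N64638 F322125))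
theorem Q40779 : ∀ i, i < 40779 → P i := stepQ 40778 Q40778 (allL N40778 (tt N66449 (iv1 F204184)) (tt N36674 (iv0 F102641)) (tt N66452 F206740) (tt N20643 (iv3 D66779)) (tt N48096 (iv4 F321152)) (tt N73642 D142405) (tt N48089 (iv6 F321153)) (tt N62478 (iv7 F181750)))
theorem Q40780 : ∀ i, i < 40780 → P i := stepQ 40779 Q40779 (allL N40779 (tt N73630 (iv1 F225289)) (tt N73629 F225288) (tt N62475 (iv2 F181720)) (tt N73642 (iv3 F225318)) (tt N73643 D142407) (tt N20643 (iv5 D66780)) (tt N73644 D142408) (tt N62479 (iv7 F181753)))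
theorem Q40781 : ∀ i, i < 40781 → P i := stepQ 40780 Q40780 (allL N40780 (tt N73636 (iv1 F225296)) (tt N62544 (iv0 F323315)) (tt N62476 (iv2 F181724)) (tt N63009 (iv3 F316675)) (tt N20644 (iv4 D66782)) (tt N61099 (iv5 F330347)) (tt N73645 D142415) (tt N62481 (iv7 F181757)))
theorem Q40782 : ∀ i, i < 40782 → P i := stepQ 40781 Q40781 (allL N40781 (tt N20753 (iv1 F318072)) (tt N34288 (iv0 F318073)) (tt N62477 (iv2 F181726)) (tt N34295 (iv3 F318075)) (tt N73645 (iv4 F225324)) (tt N43337 (iv5 F318076)) (tt N20644 (iv6 D66783)) (tt N43936 (iv7 F318077)))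
theorem Q40783 : ∀ i, i < 40783 → P i := stepQ 40782 Q40782 (allL N40782 (tt N57088 (iv1 F165367)) (tt N57087 F165366) (tt N31485 F102643) (tt N20645 (iv3 D66788)) (tt N31493 F102644) (tt N73646 D142434) (tt N73647 D142435) (tt N55205 (iv7 F356919)))
theorem Q40784 : ∀ i, i < 40784 → P i := stepQ 40783 Q40783 (allL N40783 (tt N41151 (iv1 F181607)) (tt N41148 F181566) (tt N20650 F102645) (tt N73646 (iv3 F225330)) (tt N73648 D142436) (tt N20645 (iv5 D66789)) (tt N73649 D142437) (tt N62484 (iv7 F181767)))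
theorem Q40785 : ∀ i, i < 40785 → P i := stepQ 40784 Q40784 (allL N40784 (tt N73650 D142438) (tt N73651 D142439) (tt N20651 F102646) (tt N73647 (iv3 F225333)) (tt N20647 F102647) (tt N73652 D142440) (tt N20645 (iv6 D66790)) (tt N73653 D142441))
theorem Q40786 : ∀ i, i < 40786 → P i := stepQ 40785 Q40785 (allL N40785 (tt N62492 (iv1 F181813)) (tt N62491 F181812) (tt N20654 F102648) (tt N73654 D142442) (tt N20646 (iv4 D66791)) (tt N73655 D142443) (tt N73656 D142444) (tt N62485 (iv7 F181773)))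
theorem Q40787 : ∀ i, i < 40787 → P i := stepQ 40786 Q40786 (allL N40786 (tt N40180 F320801) (tt N73657 D142446) (tt N20655 F102649) (tt N62455 (iv3 F181572)) (tt N73656 (iv4 F225362)) (tt N62836 (iv5 F320614)) (tt N20646 (iv6 D66792)) (tt N62880 (iv7 F318662)))
theorem Q40788 : ∀ i, i < 40788 → P i := stepQ 40787 Q40787 (allL N40787 (tt N20647 (iv1 D66794)) (tt N20659 F102650) (tt N20657 (iv2 F322317)) (tt N56065 (iv3 F340832)) (tt N73658 D142455) (tt N33713 (iv5 F321228)) (tt N73659 D142457) (tt N20656 (iv7 F322313)))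
theorem Q40789 : ∀ i, i < 40789 → P i := stepQ 40788 Q40788 (allL N40788 (tt N48047 F318481) (tt N73660 D142459) (tt N20658 F102651) (tt N62456 (iv3 F181575)) (tt N73661 D142460) (tt N20647 (iv5 D66795)) (tt N62836 (iv6 F320615)) (tt N63644 F318482))
theorem Q40790 : ∀ i, i < 40790 → P i := stepQ 40789 Q40789 (allL N40789 (tt N20657 (iv1 F102654)) (tt N20656 F102655) (tt N20659 F102652) (tt N42083 (iv3 F320115)) (tt N73653 (iv4 F225351)) (tt N63644 F319193) (tt N34145 (iv6 F321231)) (tt N20647 (iv7 D66796)))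
theorem Q40791 : ∀ i, i < 40791 → P i := stepQ 40790 Q40790 (allL N40790 (tt N40725 (iv1 F102659)) (tt N40580 (iv0 F179987)) (tt N33313 F102656) (tt N39761 F102657) (tt N20648 (iv4 D66797)) (tt N66740 (iv5 F205305)) (tt N73662 D142462) (tt N40726 F102658))
theorem Q40792 : ∀ i, i < 40792 → P i := stepQ 40791 Q40791 (allL N40791 (tt N62655 (iv1 F182946)) (tt N20817 F181802) (tt N61255 (iv2 F355187)) (tt N71839 (iv3 F220727)) (tt N73663 D142463) (tt N20648 (iv5 D66798)) (tt N61261 (iv6 F355184)) (tt N62487 (iv7 F181793)))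
theorem Q40793 : ∀ i, i < 40793 → P i := stepQ 40792 Q40792 (allL N40792 (tt N73639 (iv1 F347184)) (tt N62562 (iv0 F347186)) (tt N62488 (iv2 F181804)) (tt N71840 (iv3 F220728)) (tt N73662 (iv4 F225383)) (tt N73664 D142467) (tt N20648 (iv6 D66799)) (tt N72318 (iv7 F359925)))
theorem Q40794 : ∀ i, i < 40794 → P i := stepQ 40793 Q40793 (allL N40793 (tt N73665 D142469) (tt N73666 D142470) (tt N71836 (iv2 F220718)) (tt N20649 (iv3 D66800)) (tt N40729 F102661) (tt N61257 (iv5 F331560)) (tt N72319 (iv6 F324395)) (tt N61256 (iv7 F339994)))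
theorem Q40795 : ∀ i, i < 40795 → P i := stepQ 40794 Q40794 (allL N40794 (tt N20817 F181699) (tt N62655 F182947) (tt N62487 (iv2 F181792)) (tt N61257 (iv3 F331559)) (tt N73667 D142473) (tt N20649 (iv5 D66801)) (tt N73668 D142474) (tt N61255 (iv7 F355189)))
theorem Q40796 : ∀ i, i < 40796 → P i := stepQ 40795 Q40795 (allL N40795 (tt N62484 (iv1 F181768)) (tt N20650 (iv0 D66803)) (tt N41151 (iv2 F181604)) (tt N73669 D142479) (tt N73670 D142480) (tt N33527 F181606) (tt N73671 D142481) (tt N41148 (iv7 F181605)))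
theorem Q40797 : ∀ i, i < 40797 → P i := stepQ 40796 Q40796 (allL N40796 (tt N20650 (iv1 D66804)) (tt N62484 F181769) (tt N41148 F181602) (tt N73672 D142482) (tt N73673 D142483) (tt N33528 (iv5 F181601)) (tt N73674 D142484) (tt N41151 F181603))
theorem Q40798 : ∀ i, i < 40798 → P i := stepQ 40797 Q40797 (allL N40797 (tt N73675 D142485) (tt N73676 D142486) (tt N73648 (iv2 F225335)) (tt N73677 D142487) (tt N20650 (iv4 D66805)) (tt N73678 D142488) (tt N73679 D142489) (tt N58916 (iv7 F319087)))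
theorem Q40799 : ∀ i, i < 40799 → P i := stepQ 40798 Q40798 (allL N40798 (tt N73680 D142490) (tt N73681 D142491) (tt N73649 (iv2 F225345)) (tt N56000 (iv3 F162251)) (tt N73679 (iv4 F225400)) (tt N73682 D142492) (tt N20650 (iv6 D66806)) (tt N73683 D142493))
theorem Q40800 : ∀ i, i < 40800 → P i := stepQ 40799 Q40799 (allL N40799 (tt N73653 (iv1 F225353)) (tt N20651 (iv0 D66807)) (tt N73650 (iv2 F344477)) (tt N73684 D142495) (tt N73685 D142496) (tt N73686 D142497) (tt N42949 (iv6 F344495)) (tt N73651 (iv7 F344489)))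
theorem Q40801 : ∀ i, i < 40801 → P i := stepQ 40800 Q40800 (allL N40800 (tt N20651 (iv1 D66808)) (tt N73653 F225352) (tt N73651 (iv2 F344488)) (tt N71056 (iv3 F361855)) (tt N73687 D142501) (tt N73688 D142502) (tt N73689 D142503) (tt N73650 (iv7 F344478)))
theorem Q40802 : ∀ i, i < 40802 → P i := stepQ 40801 Q40801 (allL N40801 (tt N58703 (iv1 F404364)) (tt N71052 (iv0 F349711)) (tt N73652 (iv2 F225349)) (tt N56003 (iv3 F162256)) (tt N73690 D142506) (tt N20651 (iv5 D66809)) (tt N73682 (iv6 F225401)) (tt N73691 D142507))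
theorem Q40803 : ∀ i, i < 40803 → P i := stepQ 40802 Q40802 (allL N40802 (tt N73651 (iv1 F225348)) (tt N73650 (iv0 F225347)) (tt N73653 (iv2 F225350)) (tt N56004 (iv3 F162257)) (tt N20659 F102663) (tt N73691 (iv5 F225405)) (tt N43399 (iv6 F321234)) (tt N20651 (iv7 D66810)))
theorem Q40804 : ∀ i, i < 40804 → P i := stepQ 40803 Q40803 (allL N40803 (tt N20719 F182977) (tt N73619 (iv0 F225267)) (tt N73378 (iv2 F224538)) (tt N20652 (iv3 D66812)) (tt N62436 F181319) (tt N33541 (iv5 F181595)) (tt N73692 D142508) (tt N41266 F183047))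
theorem Q40805 : ∀ i, i < 40805 → P i := stepQ 40804 Q40804 (allL N40804 (tt N73693 D142509) (tt N61100 (iv0 F324237)) (tt N41283 F183057) (tt N73694 D142511) (tt N20652 (iv4 D66813)) (tt N57368 (iv5 F331689)) (tt N57371 (iv6 F331697)) (tt N41273 F183051))
theorem Q40806 : ∀ i, i < 40806 → P i := stepQ 40805 Q40805 (allL N40805 (tt N64044 (iv1 F322306)) (tt N23357 (iv0 F322307)) (tt N41284 (iv2 F183065)) (tt N73692 (iv3 F225406)) (tt N57371 (iv4 F331696)) (tt N73695 D142516) (tt N20652 (iv6 D66815)) (tt N64043 (iv7 F322311)))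
theorem Q40807 : ∀ i, i < 40807 → P i := stepQ 40806 Q40806 (allL N40806 (tt N61100 (iv1 F324238)) (tt N73693 F225408) (tt N41273 F183052) (tt N41846 (iv3 F104999)) (tt N20653 (iv4 D66818)) (tt N73696 D142520) (tt N73697 D142521) (tt N41283 (iv7 F183056)))
theorem Q40808 : ∀ i, i < 40808 → P i := stepQ 40807 Q40807 (allL N40807 (tt N62512 (iv1 F320306)) (tt N62499 (iv0 F320307)) (tt N41274 F183053) (tt N20664 (iv3 F321854)) (tt N73697 (iv4 F225418)) (tt N42332 (iv5 F320309)) (tt N20653 (iv6 D66820)) (tt N62469 (iv7 F321857)))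
theorem Q40809 : ∀ i, i < 40809 → P i := stepQ 40808 Q40808 (allL N40808 (tt N62485 (iv1 F181777)) (tt N20654 (iv0 D66821)) (tt N62492 (iv2 F181817)) (tt N66997 (iv3 F354087)) (tt N73100 (iv4 F223809)) (tt N41692 (iv5 F223810)) (tt N57391 (iv6 F334094)) (tt N62491 F181818))
theorem Q40810 : ∀ i, i < 40810 → P i := stepQ 40809 Q40809 (allL N40809 (tt N20654 (iv1 D66822)) (tt N62485 (iv0 F181774)) (tt N62491 F181816) (tt N73698 D142528) (tt N40740 (iv4 F102666)) (tt N41693 (iv5 F181775)) (tt N73699 D142529) (tt N62492 (iv7 F181815)))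
theorem Q40811 : ∀ i, i < 40811 → P i := stepQ 40810 Q40810 (allL N40810 (tt N73700 D142530) (tt N73701 D142531) (tt N73655 (iv2 F225359)) (tt N21079 F102667) (tt N46076 (iv4 F314385)) (tt N20654 (iv5 D66823)) (tt N43244 F311996) (tt N44602 (iv7 F112675)))
theorem Q40812 : ∀ i, i < 40812 → P i := stepQ 40811 Q40811 (allL N40811 (tt N73702 D142533) (tt N24849 (iv0 F319106)) (tt N73656 (iv2 F225361)) (tt N21144 F102668) (tt N20655 F102669) (tt N46787 F316737) (tt N20654 (iv6 D66824)) (tt N73703 D142536))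
theorem Q40813 : ∀ i, i < 40813 → P i := stepQ 40812 Q40812 (allL N40812 (tt N62880 (iv1 F318660)) (tt N20655 (iv0 D66825)) (tt N40180 (iv2 F340109)) (tt N73704 D142538) (tt N47406 (iv4 F322876)) (tt N69958 (iv5 F334161)) (tt N40177 (iv6 F340110)) (tt N73657 (iv7 F360907)))
theorem Q40814 : ∀ i, i < 40814 → P i := stepQ 40813 Q40813 (allL N40813 (tt N20655 (iv1 D66826)) (tt N62880 (iv0 F318659)) (tt N73657 (iv2 F360906)) (tt N40187 (iv3 F340112)) (tt N70100 (iv4 F334167)) (tt N69966 (iv5 F331618)) (tt N64041 (iv6 F340113)) (tt N40180 F340111))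
theorem Q40815 : ∀ i, i < 40815 → P i := stepQ 40814 Q40814 (allL N40814 (tt N73657 (iv1 F225363)) (tt N40180 F320800) (tt N62880 (iv2 F318661)) (tt N20666 F102672) (tt N73703 (iv4 F225427)) (tt N21269 (iv5 F318643)) (tt N22452 F316384) (tt N20655 (iv7 D66828)))
theorem Q40816 : ∀ i, i < 40816 → P i := stepQ 40815 Q40815 (allL N40815 (tt N73415 (iv1 F340843)) (tt N64215 (iv0 F350004)) (tt N34375 (iv2 F322319)) (tt N20656 (iv3 D66830)) (tt N73253 F224216) (tt N33705 (iv5 F322320)) (tt N33984 (iv6 F322321)) (tt N56065 (iv7 F340835)))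
theorem Q40817 : ∀ i, i < 40817 → P i := stepQ 40816 Q40816 (allL N40816 (tt N59811 (iv1 F361861)) (tt N73625 (iv0 F361858)) (tt N44092 (iv2 F322314)) (tt N73705 D142565) (tt N20656 (iv4 D66831)) (tt N59799 (iv5 F347157)) (tt N42948 (iv6 F322322)) (tt N73658 (iv7 F322328)))
theorem Q40818 : ∀ i, i < 40818 → P i := stepQ 40817 Q40817 (allL N40817 (tt N73625 (iv1 F361859)) (tt N59811 (iv0 F361860)) (tt N73658 (iv2 F322327)) (tt N73706 D142585) (tt N20657 (iv4 D66836)) (tt N59798 (iv5 F347156)) (tt N73707 D142587) (tt N44092 (iv7 F322315)))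
theorem Q40819 : ∀ i, i < 40819 → P i := stepQ 40818 Q40818 (allL N40818 (tt N33712 (iv1 F322324)) (tt N33711 (iv0 F322323)) (tt N33713 (iv2 F322325)) (tt N42399 (iv3 F322330)) (tt N64423 (iv4 F348004)) (tt N20657 (iv5 D66837)) (tt N33718 (iv6 F322332)) (tt N33693 (iv7 F322316)))
theorem Q40820 : ∀ i, i < 40820 → P i := stepQ 40819 Q40819 (allL N40819 (tt N69140 (iv1 F322333)) (tt N73640 (iv0 F340823)) (tt N73659 (iv2 F322329)) (tt N34373 (iv3 F322331)) (tt N73707 (iv4 F225458)) (tt N63833 (iv5 F322334)) (tt N20657 (iv6 D66838)) (tt N34368 (iv7 F322335)))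
theorem Q40821 : ∀ i, i < 40821 → P i := stepQ 40820 Q40820 (allL N40820 (tt N63644 F318479) (tt N20658 (iv0 D66839)) (tt N48047 (iv2 F320606)) (tt N29725 F323848) (tt N69977 (iv4 F363092)) (tt N48035 (iv5 F320608)) (tt N46098 (iv6 F320609)) (tt N73660 (iv7 F320288)))
theorem Q40822 : ∀ i, i < 40822 → P i := stepQ 40821 Q40821 (allL N40821 (tt N20658 (iv1 D66840)) (tt N63644 F318480) (tt N73660 (iv2 F320287)) (tt N48067 (iv3 F320610)) (tt N69978 (iv4 F363097)) (tt N48048 (iv5 F320505)) (tt N73708 D142603) (tt N48047 (iv7 F320607)))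
theorem Q40823 : ∀ i, i < 40823 → P i := stepQ 40822 Q40822 (allL N40822 (tt N73709 D142604) (tt N73710 D142605) (tt N73661 (iv2 F225375)) (tt N62435 (iv3 F323723)) (tt N20658 (iv4 D66841)) (tt N73711 D142607) (tt N62837 (iv6 F320616)) (tt N73377 (iv7 F366075)))
theorem Q40824 : ∀ i, i < 40824 → P i := stepQ 40823 Q40823 (allL N40823 (tt N73660 (iv1 F225373)) (tt N48047 (iv0 F318112)) (tt N63644 (iv2 F318113)) (tt N20670 F102675) (tt N73377 (iv4 F366073)) (tt N20659 F102676) (tt N22506 (iv6 F318115)) (tt N20658 (iv7 D66842)))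
theorem Q40825 : ∀ i, i < 40825 → P i := stepQ 40824 Q40824 (allL N40824 (tt N73712 D142610) (tt N57493 (iv0 F166917)) (tt N62507 (iv2 F181946)) (tt N21212 F102684) (tt N20660 (iv4 D66846)) (tt N58859 (iv5 F171171)) (tt N73713 D142611) (tt N40179 F102685))
theorem Q40826 : ∀ i, i < 40826 → P i := stepQ 40825 Q40825 (allL N40825 (tt N56152 (iv1 F316404)) (tt N62886 (iv0 F313912)) (tt N62508 (iv2 F181949)) (tt N20661 F102686) (tt N73713 (iv4 F225471)) (tt N42869 F309603) (tt N20660 (iv6 D66847)) (tt N64041 (iv7 F313915)))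
theorem Q40827 : ∀ i, i < 40827 → P i := stepQ 40826 Q40826 (allL N40826 (tt N20694 (iv1 F220973)) (tt N20711 F220970) (tt N20662 (iv2 D66853)) (tt N40177 F102703) (tt N73714 D142621) (tt N31116 F102704) (tt N73704 (iv6 F340108)) (tt N20708 (iv7 F103077)))
theorem Q40828 : ∀ i, i < 40828 → P i := stepQ 40827 Q40827 (allL N40827 (tt N71980 (iv1 F221144)) (tt N72003 (iv0 F221213)) (tt N73714 (iv2 F225489)) (tt N21206 F102709) (tt N20662 (iv4 D66854)) (tt N71668 F328574) (tt N72274 (iv6 F330628)) (tt N40204 F102710))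
theorem Q40829 : ∀ i, i < 40829 → P i := stepQ 40828 Q40828 (allL N40828 (tt N73715 D142625) (tt N72167 (iv0 F356814)) (tt N73704 (iv2 F340107)) (tt N20663 F102711) (tt N72274 (iv4 F330627)) (tt N73716 D142627) (tt N20662 (iv6 D66855)) (tt N73717 D142628))
theorem Q40830 : ∀ i, i < 40830 → P i := stepQ 40829 Q40829 (allL N40829 (tt N40187 (iv1 F102718)) (tt N20663 (iv0 D66856)) (tt N40184 F200031) (tt N62512 (iv3 F321862)) (tt N21118 F107425) (tt N42410 F313404) (tt N23370 F313405) (tt N40185 F199876))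
theorem Q40831 : ∀ i, i < 40831 → P i := stepQ 40830 Q40830 (allL N40830 (tt N20663 (iv1 D66857)) (tt N40187 F102712) (tt N40185 (iv2 F200033)) (tt N73718 D142631) (tt N21119 F107426) (tt N42409 F315699) (tt N40644 (iv6 F313477)) (tt N40184 F200032))
theorem Q40832 : ∀ i, i < 40832 → P i := stepQ 40831 Q40831 (allL N40831 (tt N48163 F313195) (tt N42279 (iv0 F105826)) (tt N40186 F102713) (tt N73716 (iv3 F225501)) (tt N67925 (iv4 F325890)) (tt N20663 (iv5 D66858)) (tt N31112 F102714) (tt N73719 D142636))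
theorem Q40833 : ∀ i, i < 40833 → P i := stepQ 40832 Q40832 (allL N40832 (tt N40185 (iv1 F102719)) (tt N40184 F102720) (tt N40187 F102715) (tt N73717 (iv3 F225503)) (tt N21210 F102716) (tt N73719 (iv5 F225523)) (tt N23358 F311589) (tt N20663 (iv7 D66859)))
theorem Q40834 : ∀ i, i < 40834 → P i := stepQ 40833 Q40833 (allL N40833 (tt N20710 (iv1 F326891)) (tt N62829 (iv0 F326892)) (tt N73720 D142648) (tt N20665 (iv3 D66866)) (tt N73721 D142649) (tt N73722 D142650) (tt N63757 (iv6 F189234)) (tt N62468 (iv7 F181624)))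
theorem Q40835 : ∀ i, i < 40835 → P i := stepQ 40834 Q40834 (allL N40834 (tt N33659 (iv1 F314014)) (tt N41044 F105820) (tt N41939 (iv2 F314050)) (tt N73722 (iv3 F225533)) (tt N21155 (iv4 F315213)) (tt N20665 (iv5 D66868)) (tt N38159 (iv6 F313922)) (tt N33810 (iv7 F315216)))
theorem Q40836 : ∀ i, i < 40836 → P i := stepQ 40835 Q40835 (allL N40835 (tt N62514 (iv1 F319166)) (tt N62500 (iv0 F220207)) (tt N48007 (iv2 F314486)) (tt N20667 (iv3 D66874)) (tt N73723 D142664) (tt N37437 F102725) (tt N23062 F313724) (tt N62471 (iv7 F181649)))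
theorem Q40837 : ∀ i, i < 40837 → P i := stepQ 40836 Q40836 (allL N40836 (tt N20713 F208260) (tt N63760 (iv0 F314488)) (tt N73724 D142670) (tt N20668 (iv3 D66876)) (tt N73725 D142671) (tt N40494 F102727) (tt N55810 (iv6 F317429)) (tt N62470 (iv7 F181645)))
theorem Q40838 : ∀ i, i < 40838 → P i := stepQ 40837 Q40837 (allL N40837 (tt N23369 (iv1 F318133)) (tt N21220 (iv0 F318134)) (tt N42654 F315927) (tt N55810 (iv3 F317428)) (tt N33827 (iv4 F318135)) (tt N21470 (iv5 F316197)) (tt N20668 (iv6 D66877)) (tt N41327 (iv7 F318136)))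
theorem Q40839 : ∀ i, i < 40839 → P i := stepQ 40838 Q40838 (allL N40838 (tt N20669 (iv1 D66879)) (tt N41278 (iv0 F320890)) (tt N40646 (iv2 F102734)) (tt N62515 (iv3 F322471)) (tt N33329 F102733) (tt N35447 (iv5 F318584)) (tt N23371 (iv6 F318143)) (tt N40644 F102732))
theorem Q40840 : ∀ i, i < 40840 → P i := stepQ 40839 Q40839 (allL N40839 (tt N73619 (iv1 F323720)) (tt N20719 (iv0 F323721)) (tt N41266 (iv2 F323722)) (tt N20669 (iv3 D66880)) (tt N62435 (iv4 F323724)) (tt N40115 F322088) (tt N62468 (iv6 F318645)) (tt N73378 F322089))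
theorem Q40841 : ∀ i, i < 40841 → P i := stepQ 40840 Q40840 (allL N40840 (tt N33453 (iv1 F319228)) (tt N21695 (iv0 F318649)) (tt N33544 F320136) (tt N40115 (iv3 F320393)) (tt N37034 F102736) (tt N20669 (iv5 D66881)) (tt N33809 (iv6 F318650)) (tt N41028 F317930))
theorem Q40842 : ∀ i, i < 40842 → P i := stepQ 40841 Q40841 (allL N40841 (tt N40646 (iv1 F102738)) (tt N40644 F102739) (tt N41278 (iv2 F320891)) (tt N73378 (iv3 F322086)) (tt N20670 F102737) (tt N41028 (iv5 F317634)) (tt N22507 (iv6 F317635)) (tt N20669 (iv7 D66882)))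
theorem Q40843 : ∀ i, i < 40843 → P i := stepQ 40842 Q40842 (allL N40842 (tt N21426 F180375) (tt N20749 F320093) (tt N42673 (iv2 F318358)) (tt N20673 F102748) (tt N32693 (iv4 F316767)) (tt N20671 (iv5 D66893)) (tt N43672 (iv6 F318360)) (tt N42672 (iv7 F318232)))
theorem Q40844 : ∀ i, i < 40844 → P i := stepQ 40843 Q40843 (allL N40843 (tt N20675 (iv1 F102761)) (tt N20672 (iv0 D66896)) (tt N59195 F172309) (tt N73726 D142696) (tt N36206 (iv4 F102764)) (tt N73727 D142697) (tt N73728 D142698) (tt N36223 F102762))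
theorem Q40845 : ∀ i, i < 40845 → P i := stepQ 40844 Q40844 (allL N40844 (tt N20672 (iv1 D66897)) (tt N20675 F102752) (tt N36223 (iv2 F102755)) (tt N31359 (iv3 F102756)) (tt N36222 F102753) (tt N55259 (iv5 F363556)) (tt N73729 D142700) (tt N59195 (iv7 F172306)))
theorem Q40846 : ∀ i, i < 40846 → P i := stepQ 40845 Q40845 (allL N40845 (tt N31514 F102891) (tt N73730 D142701) (tt N73731 D142702) (tt N20672 (iv3 D66898)) (tt N57106 (iv4 F165403)) (tt N73732 D142703) (tt N72334 (iv6 F322257)) (tt N62447 (iv7 F181494)))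
theorem Q40847 : ∀ i, i < 40847 → P i := stepQ 40846 Q40846 (allL N40846 (tt N59180 (iv1 F180292)) (tt N59163 F180290) (tt N56999 F172109) (tt N73732 (iv3 F225613)) (tt N59117 (iv4 F172088)) (tt N20672 (iv5 D66899)) (tt N73733 D142705) (tt N59179 F172271))
theorem Q40848 : ∀ i, i < 40848 → P i := stepQ 40847 Q40847 (allL N40847 (tt N29898 (iv1 F318361)) (tt N73147 (iv0 F319184)) (tt N62452 (iv2 F181525)) (tt N29566 (iv3 F318364)) (tt N20673 (iv4 D66904)) (tt N73734 D142713) (tt N73735 D142714) (tt N32661 (iv7 F318235)))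
theorem Q40849 : ∀ i, i < 40849 → P i := stepQ 40848 Q40848 (allL N40848 (tt N43639 (iv1 F320142)) (tt N20756 (iv0 F320143)) (tt N62453 (iv2 F181527)) (tt N43672 (iv3 F318359)) (tt N73735 (iv4 F225624)) (tt N69654 (iv5 F320145)) (tt N20673 (iv6 D66905)) (tt N62555 (iv7 F353108)))
theorem Q40850 : ∀ i, i < 40850 → P i := stepQ 40849 Q40849 (allL N40849 (tt N20696 (iv1 F102842)) (tt N20674 (iv0 D66912)) (tt N20701 (iv2 F102839)) (tt N20717 F102840) (tt N40586 F102838) (tt N73736 D142733) (tt N43515 F323827) (tt N20697 F102841))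
theorem Q40851 : ∀ i, i < 40851 → P i := stepQ 40850 Q40850 (allL N40850 (tt N20701 (iv1 F102941)) (tt N20697 F102940) (tt N20674 (iv2 D66913)) (tt N62341 (iv3 F180873)) (tt N73315 F224347) (tt N63021 (iv5 F184455)) (tt N73737 D142735) (tt N20696 F102871))
theorem Q40852 : ∀ i, i < 40852 → P i := stepQ 40851 Q40851 (allL N40851 (tt N29695 (iv1 F162312)) (tt N29691 (iv0 F102872)) (tt N73315 (iv2 F224348)) (tt N73738 D142736) (tt N20674 (iv4 D66914)) (tt N73739 D142737) (tt N73740 D142738) (tt N62450 (iv7 F181513)))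
theorem Q40853 : ∀ i, i < 40853 → P i := stepQ 40852 Q40852 (allL N40852 (tt N63022 (iv1 F205103)) (tt N20731 F184460) (tt N63021 (iv2 F184457)) (tt N20676 F102873) (tt N73741 D142739) (tt N20674 (iv5 D66915)) (tt N73742 D142740) (tt N62451 (iv7 F181519)))
theorem Q40854 : ∀ i, i < 40854 → P i := stepQ 40853 Q40853 (allL N40853 (tt N73743 D142741) (tt N72402 (iv0 F339009)) (tt N73737 (iv2 F225639)) (tt N20677 F102874) (tt N73740 (iv4 F225643)) (tt N24952 (iv5 F322337)) (tt N20674 (iv6 D66916)) (tt N72336 (iv7 F322258)))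
theorem Q40855 : ∀ i, i < 40855 → P i := stepQ 40854 Q40854 (allL N40854 (tt N30298 (iv1 F102877)) (tt N29938 (iv0 F102876)) (tt N30297 F163634) (tt N20675 (iv3 D66917)) (tt N73738 (iv4 F225640)) (tt N56379 (iv5 F172093)) (tt N73744 D142745) (tt N30296 F102875))
theorem Q40856 : ∀ i, i < 40856 → P i := stepQ 40855 Q40855 (allL N40855 (tt N59163 (iv1 F180291)) (tt N59180 F180293) (tt N59179 F172270) (tt N56379 F172092) (tt N59118 F172091) (tt N20675 (iv5 D66918)) (tt N73745 D142746) (tt N56999 F172114))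
theorem Q40857 : ∀ i, i < 40857 → P i := stepQ 40856 Q40856 (allL N40856 (tt N73746 D142747) (tt N73747 D142748) (tt N62448 (iv2 F181499)) (tt N73744 (iv3 F225659)) (tt N20677 F102878) (tt N73748 D142749) (tt N20675 (iv6 D66919)) (tt N72338 (iv7 F322259)))
theorem Q40858 : ∀ i, i < 40858 → P i := stepQ 40857 Q40857 (allL N40857 (tt N73147 (iv1 F319185)) (tt N29898 F319950) (tt N32661 F319951) (tt N56178 F319952) (tt N20676 (iv4 D66920)) (tt N73749 D142752) (tt N61073 (iv6 F321780)) (tt N62452 (iv7 F181526)))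
theorem Q40859 : ∀ i, i < 40859 → P i := stepQ 40858 Q40858 (allL N40858 (tt N21433 (iv1 F321821)) (tt N27941 (iv0 F321822)) (tt N46653 F320077) (tt N73742 (iv3 F225655)) (tt N61073 (iv4 F321779)) (tt N24953 (iv5 F321825)) (tt N20676 (iv6 D66921)) (tt N46647 (iv7 F321826)))
theorem Q40860 : ∀ i, i < 40860 → P i := stepQ 40859 Q40859 (allL N40859 (tt N20677 (iv1 D66923)) (tt N24961 (iv0 F322074)) (tt N20762 (iv2 F322207)) (tt N62483 (iv3 F322202)) (tt N73750 D142765) (tt N24165 (iv5 F322205)) (tt N73751 D142767) (tt N62449 (iv7 F322206)))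
theorem Q40861 : ∀ i, i < 40861 → P i := stepQ 40860 Q40860 (allL N40860 (tt N73752 D142772) (tt N73753 D142773) (tt N20683 F102879) (tt N55204 (iv3 F356921)) (tt N20680 F102880) (tt N73754 D142774) (tt N20678 (iv6 D66926)) (tt N43568 (iv7 F322353)))
theorem Q40862 : ∀ i, i < 40862 → P i := stepQ 40861 Q40861 (allL N40861 (tt N62458 (iv1 F181583)) (tt N62457 F181582) (tt N20686 F102881) (tt N73755 D142776) (tt N20679 (iv4 D66927)) (tt N73756 D142777) (tt N65207 (iv6 F320224)) (tt N62454 (iv7 F181536)))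
theorem Q40863 : ∀ i, i < 40863 → P i := stepQ 40862 Q40862 (allL N40862 (tt N20680 (iv1 D66930)) (tt N20690 F102883) (tt N20689 (iv2 F322365)) (tt N62524 (iv3 F322346)) (tt N73757 D142789) (tt N46669 (iv5 F322348)) (tt N43580 (iv6 F322349)) (tt N20688 (iv7 F322360)))
theorem Q40864 : ∀ i, i < 40864 → P i := stepQ 40863 Q40863 (allL N40863 (tt N57097 (iv1 F336120)) (tt N57118 (iv0 F220502)) (tt N57117 F165401) (tt N20681 (iv3 D66933)) (tt N56988 F165171) (tt N59130 (iv5 F172163)) (tt N72339 (iv6 F322896)) (tt N57071 (iv7 F165336)))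
theorem Q40865 : ∀ i, i < 40865 → P i := stepQ 40864 Q40864 (allL N40864 (tt N73758 D142801) (tt N56388 (iv0 F171807)) (tt N73759 D142802) (tt N20682 (iv3 D66936)) (tt N40598 F102889) (tt N59133 (iv5 F172173)) (tt N73760 D142803) (tt N57072 (iv7 F165345)))
theorem Q40866 : ∀ i, i < 40866 → P i := stepQ 40865 Q40865 (allL N40865 (tt N57152 (iv1 F324275)) (tt N73750 (iv0 F323804)) (tt N47727 (iv2 F322897)) (tt N73760 (iv3 F225707)) (tt N40596 F102892) (tt N73761 D142806) (tt N20682 (iv6 D66938)) (tt N47730 (iv7 F323569)))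
theorem Q40867 : ∀ i, i < 40867 → P i := stepQ 40866 Q40866 (allL N40866 (tt N43568 (iv1 F322351)) (tt N20683 (iv0 D66939)) (tt N73752 (iv2 F353394)) (tt N73762 D142809) (tt N66563 (iv4 F350097)) (tt N73763 D142811) (tt N73764 D142812) (tt N73753 (iv7 F353397)))
theorem Q40868 : ∀ i, i < 40868 → P i := stepQ 40867 Q40867 (allL N40867 (tt N20683 (iv1 D66940)) (tt N43568 (iv0 F322350)) (tt N73753 (iv2 F353396)) (tt N73765 D142814) (tt N66564 (iv4 F321586)) (tt N73766 D142816) (tt N73767 D142817) (tt N73752 (iv7 F353395)))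
theorem Q40869 : ∀ i, i < 40869 → P i := stepQ 40868 Q40868 (allL N40868 (tt N73768 D142818) (tt N73769 D142819) (tt N73754 (iv2 F225669)) (tt N31508 F102893) (tt N50614 (iv4 F345152)) (tt N20683 (iv5 D66941)) (tt N50613 (iv6 F302685)) (tt N73770 D142821))
theorem Q40870 : ∀ i, i < 40870 → P i := stepQ 40869 Q40869 (allL N40869 (tt N73753 (iv1 F225668)) (tt N73752 (iv0 F225667)) (tt N43568 (iv2 F322352)) (tt N31509 F102894) (tt N20690 F102895) (tt N73770 (iv5 F225714)) (tt N57077 (iv6 F165354)) (tt N20683 (iv7 D66942)))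
theorem Q40871 : ∀ i, i < 40871 → P i := stepQ 40870 Q40870 (allL N40870 (tt N62496 (iv1 F223692)) (tt N62515 (iv0 F181990)) (tt N62520 F182556) (tt N20684 (iv3 D66944)) (tt N62382 F180967) (tt N33476 (iv5 F180723)) (tt N62460 (iv6 F334990)) (tt N41526 (iv7 F182558)))
theorem Q40872 : ∀ i, i < 40872 → P i := stepQ 40871 Q40871 (allL N40871 (tt N73771 D142823) (tt N56313 (iv0 F350228)) (tt N41545 F182567) (tt N56342 (iv3 F326246)) (tt N20684 (iv4 D66945)) (tt N60199 (iv5 F326249)) (tt N73772 D142827) (tt N41533 F182562))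
theorem Q40873 : ∀ i, i < 40873 → P i := stepQ 40872 Q40872 (allL N40872 (tt N73773 D142828) (tt N73718 (iv0 F335121)) (tt N41546 (iv2 F182575)) (tt N62460 (iv3 F334989)) (tt N73772 (iv4 F225722)) (tt N27858 F334481) (tt N20684 (iv6 D66947)) (tt N73774 D142831))
theorem Q40874 : ∀ i, i < 40874 → P i := stepQ 40873 Q40873 (allL N40873 (tt N73736 (iv1 F225633)) (tt N20699 F225634) (tt N73775 D142832) (tt N20685 (iv3 D66949)) (tt N73776 D142833) (tt N33479 (iv5 F180720)) (tt N73777 D142834) (tt N41541 (iv7 F182565)))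
theorem Q40875 : ∀ i, i < 40875 → P i := stepQ 40874 Q40874 (allL N40874 (tt N56313 (iv1 F350229)) (tt N73771 F225717) (tt N41533 F182563) (tt N73778 D142835) (tt N20685 (iv4 D66950)) (tt N73779 D142836) (tt N56303 (iv6 F331575)) (tt N41545 (iv7 F182566)))
theorem Q40876 : ∀ i, i < 40876 → P i := stepQ 40875 Q40875 (allL N40875 (tt N64053 (iv1 F322354)) (tt N44556 (iv0 F322355)) (tt N41534 F182564) (tt N73777 (iv3 F225732)) (tt N56303 (iv4 F331574)) (tt N46651 (iv5 F322356)) (tt N20685 (iv6 D66952)) (tt N64052 (iv7 F322358)))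
theorem Q40877 : ∀ i, i < 40877 → P i := stepQ 40876 Q40876 (allL N40876 (tt N62454 (iv1 F181570)) (tt N20686 (iv0 D66953)) (tt N62458 (iv2 F181610)) (tt N73780 D142842) (tt N66561 (iv4 F204486)) (tt N73781 D142843) (tt N61750 (iv6 F348995)) (tt N62457 F181611))
theorem Q40878 : ∀ i, i < 40878 → P i := stepQ 40877 Q40877 (allL N40877 (tt N20686 (iv1 D66954)) (tt N62454 (iv0 F181537)) (tt N62457 F181609) (tt N51493 (iv3 F333378)) (tt N40613 (iv4 F102898)) (tt N52751 (iv5 F333383)) (tt N51492 (iv6 F333376)) (tt N62458 (iv7 F181608)))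
theorem Q40879 : ∀ i, i < 40879 → P i := stepQ 40878 Q40878 (allL N40878 (tt N73782 D142848) (tt N73783 D142849) (tt N73756 (iv2 F225677)) (tt N21111 F102899) (tt N52056 (iv4 F306975)) (tt N20686 (iv5 D66955)) (tt N73784 D142851) (tt N52053 (iv7 F306970)))
theorem Q40880 : ∀ i, i < 40880 → P i := stepQ 40879 Q40879 (allL N40879 (tt N73785 D142852) (tt N73786 D142853) (tt N65207 (iv2 F320223)) (tt N21112 F102900) (tt N20687 F102901) (tt N73787 D142854) (tt N20686 (iv6 D66956)) (tt N32870 F318070))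
theorem Q40881 : ∀ i, i < 40881 → P i := stepQ 40880 Q40880 (allL N40880 (tt N43340 (iv1 F322367)) (tt N62516 (iv0 F322368)) (tt N62523 (iv2 F322369)) (tt N20688 (iv3 D66962)) (tt N73483 F224930) (tt N65213 (iv5 F322370)) (tt N73788 D142880) (tt N62524 (iv7 F322371)))
theorem Q40882 : ∀ i, i < 40882 → P i := stepQ 40881 Q40881 (allL N40881 (tt N73789 D142882) (tt N73729 (iv0 F342508)) (tt N65261 (iv2 F322362)) (tt N73790 D142884) (tt N20688 (iv4 D66963)) (tt N72995 (iv5 F342506)) (tt N72997 (iv6 F342505)) (tt N73757 (iv7 F322376)))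
theorem Q40883 : ∀ i, i < 40883 → P i := stepQ 40882 Q40882 (allL N40882 (tt N73751 (iv1 F351583)) (tt N66041 (iv0 F351579)) (tt N65259 (iv2 F322364)) (tt N73788 (iv3 F225765)) (tt N72997 (iv4 F342504)) (tt N65216 F320568) (tt N20688 (iv6 D66965)) (tt N73791 D142896))
theorem Q40884 : ∀ i, i < 40884 → P i := stepQ 40883 Q40883 (allL N40883 (tt N43515 (iv1 F322378)) (tt N43517 (iv0 F322379)) (tt N73792 D142900) (tt N20689 (iv3 D66967)) (tt N73793 D142901) (tt N65249 (iv5 F322380)) (tt N72353 (iv6 F363426)) (tt N65248 (iv7 F322361)))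
theorem Q40885 : ∀ i, i < 40885 → P i := stepQ 40884 Q40884 (allL N40884 (tt N73729 (iv1 F342509)) (tt N73789 F225771) (tt N73757 (iv2 F322375)) (tt N73037 (iv3 F342498)) (tt N20689 (iv4 D66968)) (tt N73011 (iv5 F342499)) (tt N73794 D142906) (tt N65261 (iv7 F322363)))
theorem Q40886 : ∀ i, i < 40886 → P i := stepQ 40885 Q40885 (allL N40885 (tt N33921 (iv1 F322381)) (tt N43581 (iv0 F322382)) (tt N43580 (iv2 F322377)) (tt N72353 (iv3 F363425)) (tt N73794 (iv4 F225783)) (tt N55124 (iv5 F342454)) (tt N20689 (iv6 D66970)) (tt N43579 (iv7 F322383)))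
theorem Q40887 : ∀ i, i < 40887 → P i := stepQ 40886 Q40886 (allL N40886 (tt N72407 (iv1 F222415)) (tt N28291 F332519) (tt N20744 F102928) (tt N43993 F317231) (tt N65002 (iv4 F319520)) (tt N20691 (iv5 D66999)) (tt N63030 (iv6 F184487)) (tt N72344 (iv7 F222228)))
theorem Q40888 : ∀ i, i < 40888 → P i := stepQ 40887 Q40887 (allL N40887 (tt N33358 (iv1 F102994)) (tt N33356 (iv0 F102993)) (tt N40597 F102991) (tt N71762 (iv3 F220519)) (tt N20692 (iv4 D67013)) (tt N72759 (iv5 F223169)) (tt N73795 D142986) (tt N20718 F102992))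
theorem Q40889 : ∀ i, i < 40889 → P i := stepQ 40888 Q40888 (allL N40888 (tt N73378 (iv1 F224541)) (tt N41266 F223171) (tt N73619 (iv2 F225264)) (tt N20694 F102995) (tt N69991 (iv4 F343188)) (tt N20692 (iv5 D67014)) (tt N72167 (iv6 F340106)) (tt N20719 F102996))
theorem Q40890 : ∀ i, i < 40890 → P i := stepQ 40889 Q40889 (allL N40889 (tt N34375 (iv1 F326856)) (tt N56065 (iv0 F326857)) (tt N64215 (iv2 F326858)) (tt N20695 F102997) (tt N73795 (iv4 F225832)) (tt N23303 F325986) (tt N20692 (iv6 D67015)) (tt N73415 (iv7 F319172)))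
theorem Q40891 : ∀ i, i < 40891 → P i := stepQ 40890 Q40890 (allL N40890 (tt N20693 (iv1 D67017)) (tt N20707 F102999) (tt N20703 F103001) (tt N71834 (iv3 F220708)) (tt N33316 (iv4 F103000)) (tt N73796 D142992) (tt N48506 (iv6 F321645)) (tt N20702 F103002))
theorem Q40892 : ∀ i, i < 40892 → P i := stepQ 40891 Q40891 (allL N40891 (tt N71843 (iv1 F220976)) (tt N73124 (iv0 F223852)) (tt N20705 F103005) (tt N71763 (iv3 F220524)) (tt N73797 D142994) (tt N20693 (iv5 D67018)) (tt N73798 D142995) (tt N20722 F103006))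
theorem Q40893 : ∀ i, i < 40893 → P i := stepQ 40892 Q40892 (allL N40892 (tt N73799 D142996) (tt N73800 D142997) (tt N20706 F103007) (tt N40991 (iv3 F326866)) (tt N20695 F103008) (tt N73801 D142998) (tt N20693 (iv6 D67019)) (tt N73416 (iv7 F319177)))
theorem Q40894 : ∀ i, i < 40894 → P i := stepQ 40893 Q40893 (allL N40893 (tt N73802 D143000) (tt N73126 (iv0 F223859)) (tt N20709 F103011) (tt N69770 (iv3 F341441)) (tt N20694 (iv4 D67022)) (tt N70995 (iv5 F343214)) (tt N69769 (iv6 F333156)) (tt N20724 F103012))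
theorem Q40895 : ∀ i, i < 40895 → P i := stepQ 40894 Q40894 (allL N40894 (tt N62468 (iv1 F327183)) (tt N73720 (iv0 F364172)) (tt N20710 F103013) (tt N72167 (iv3 F340105)) (tt N69769 (iv4 F333155)) (tt N62798 (iv5 F318110)) (tt N20694 (iv6 D67023)) (tt N62829 (iv7 F316975)))
theorem Q40896 : ∀ i, i < 40896 → P i := stepQ 40895 Q40895 (allL N40895 (tt N62470 F210315) (tt N73724 F225559) (tt N20713 F103015) (tt N23303 (iv3 F324989)) (tt N41642 (iv4 F324991)) (tt N20695 (iv5 D67026)) (tt N62798 (iv6 F318111)) (tt N63760 F315922))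
theorem Q40897 : ∀ i, i < 40897 → P i := stepQ 40896 Q40896 (allL N40896 (tt N29691 F179964) (tt N29695 F179965) (tt N62450 (iv2 F181511)) (tt N73477 (iv3 F224912)) (tt N20696 (iv4 D67028)) (tt N73803 D143019) (tt N57677 (iv6 F325038)) (tt N73315 (iv7 F224346)))
theorem Q40898 : ∀ i, i < 40898 → P i := stepQ 40897 Q40897 (allL N40897 (tt N20731 F103021) (tt N63022 (iv0 F205102)) (tt N62451 (iv2 F181517)) (tt N42673 F320240) (tt N73804 D143021) (tt N20696 (iv5 D67029)) (tt N73805 D143022) (tt N63021 (iv7 F184458)))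
theorem Q40899 : ∀ i, i < 40899 → P i := stepQ 40898 Q40898 (allL N40898 (tt N73775 (iv1 F225727)) (tt N41541 (iv0 F182590)) (tt N20699 F103022) (tt N73619 (iv3 F225265)) (tt N72732 (iv4 F223037)) (tt N20697 (iv5 D67031)) (tt N73806 D143027) (tt N73736 (iv7 F225631)))
theorem Q40900 : ∀ i, i < 40900 → P i := stepQ 40899 Q40899 (allL N40899 (tt N43879 F323650) (tt N62462 (iv0 F340760)) (tt N20700 F103023) (tt N64215 (iv3 F326859)) (tt N55975 (iv4 F162229)) (tt N64214 (iv5 F326632)) (tt N20697 (iv6 D67032)) (tt N73807 D143031))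
theorem Q40901 : ∀ i, i < 40901 → P i := stepQ 40900 Q40900 (allL N40900 (tt N70975 (iv1 F219047)) (tt N55963 (iv0 F347205)) (tt N69039 (iv2 F347212)) (tt N20698 (iv3 D67033)) (tt N20704 F103024) (tt N57528 (iv5 F347240)) (tt N73808 D143033) (tt N55976 (iv7 F162231)))
theorem Q40902 : ∀ i, i < 40902 → P i := stepQ 40901 Q40901 (allL N40901 (tt N41240 (iv1 F173692)) (tt N72716 (iv0 F223009)) (tt N55974 (iv2 F162227)) (tt N57528 (iv3 F347239)) (tt N73809 D143034) (tt N20698 (iv5 D67034)) (tt N57526 (iv6 F353524)) (tt N55977 (iv7 F162232)))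
theorem Q40903 : ∀ i, i < 40903 → P i := stepQ 40902 Q40902 (allL N40902 (tt N40641 (iv1 F322901)) (tt N73810 D143037) (tt N55975 (iv2 F162228)) (tt N73808 (iv3 F225899)) (tt N20700 F103025) (tt N73811 D143038) (tt N20698 (iv6 D67035)) (tt N73812 D143039))
theorem Q40904 : ∀ i, i < 40904 → P i := stepQ 40903 Q40903 (allL N40903 (tt N20699 (iv1 D67037)) (tt N73736 F225635) (tt N41541 (iv2 F180131)) (tt N62520 (iv3 F181999)) (tt N73813 D143040) (tt N41539 F180130) (tt N73814 D143041) (tt N73775 (iv7 F225726)))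
theorem Q40905 : ∀ i, i < 40905 → P i := stepQ 40904 Q40904 (allL N40904 (tt N40632 F103086) (tt N72718 (iv0 F223013)) (tt N72732 F223038) (tt N59882 (iv3 F174379)) (tt N20699 (iv4 D67038)) (tt N59881 F174377) (tt N73815 D143042) (tt N72733 (iv7 F223039)))
theorem Q40906 : ∀ i, i < 40906 → P i := stepQ 40905 Q40905 (allL N40905 (tt N73814 (iv1 F334981)) (tt N73816 D143044) (tt N73806 (iv2 F225891)) (tt N20710 F103026) (tt N73815 (iv4 F225906)) (tt N62825 (iv5 F319178)) (tt N20699 (iv6 D67039)) (tt N73817 D143046))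
theorem Q40907 : ∀ i, i < 40907 → P i := stepQ 40906 Q40906 (allL N40906 (tt N41541 (iv1 F182591)) (tt N73775 F225728) (tt N73736 (iv2 F225629)) (tt N20711 F103027) (tt N72733 F223041) (tt N20701 F103028) (tt N65195 (iv6 F316934)) (tt N20699 (iv7 D67040)))
theorem Q40908 : ∀ i, i < 40908 → P i := stepQ 40907 Q40907 (allL N40907 (tt N73807 (iv1 F225897)) (tt N20700 (iv0 D67041)) (tt N43879 (iv2 F340739)) (tt N42034 (iv3 F340740)) (tt N73818 D143050) (tt N42027 F340738) (tt N42932 (iv6 F340743)) (tt N62462 (iv7 F340764)))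
theorem Q40909 : ∀ i, i < 40909 → P i := stepQ 40908 Q40908 (allL N40908 (tt N20700 (iv1 D67042)) (tt N73807 F225896) (tt N62462 (iv2 F340762)) (tt N43885 (iv3 F340745)) (tt N73819 D143055) (tt N34128 (iv5 F340746)) (tt N46527 (iv6 F340747)) (tt N43879 F340744))
theorem Q40910 : ∀ i, i < 40910 → P i := stepQ 40909 Q40909 (allL N40909 (tt N73820 D143058) (tt N73821 D143059) (tt N64214 (iv2 F326631)) (tt N20713 F103029) (tt N73822 D143060) (tt N20700 (iv5 D67043)) (tt N62825 (iv6 F319179)) (tt N73823 D143061))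
theorem Q40911 : ∀ i, i < 40911 → P i := stepQ 40910 Q40910 (allL N40910 (tt N62462 (iv1 F340761)) (tt N43879 (iv0 F321986)) (tt N73807 (iv2 F225894)) (tt N20714 F103030) (tt N73812 (iv4 F225901)) (tt N73823 (iv5 F225915)) (tt N43517 (iv6 F321987)) (tt N20700 (iv7 D67044)))
theorem Q40912 : ∀ i, i < 40912 → P i := stepQ 40911 Q40911 (allL N40911 (tt N65248 (iv1 F322287)) (tt N73792 (iv0 F357849)) (tt N43515 (iv2 F322288)) (tt N20715 F103031) (tt N55978 (iv4 F162233)) (tt N34020 (iv5 F321298)) (tt N20701 (iv6 D67045)) (tt N43517 (iv7 F321988)))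
theorem Q40913 : ∀ i, i < 40913 → P i := stepQ 40912 Q40912 (allL N40912 (tt N28747 (iv1 F345469)) (tt N71756 (iv0 F220509)) (tt N70955 (iv2 F218891)) (tt N20702 (iv3 D67046)) (tt N39709 F103032) (tt N73824 D143066) (tt N44569 F339064) (tt N71834 (iv7 F220710)))
theorem Q40914 : ∀ i, i < 40914 → P i := stepQ 40913 Q40913 (allL N40913 (tt N72032 (iv1 F355784)) (tt N72035 F221272) (tt N71639 (iv2 F221255)) (tt N73824 (iv3 F225919)) (tt N73825 D143068) (tt N20702 (iv5 D67047)) (tt N73826 D143069) (tt N73796 (iv7 F225838)))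
theorem Q40915 : ∀ i, i < 40915 → P i := stepQ 40914 Q40914 (allL N40914 (tt N72405 (iv1 F346605)) (tt N72403 (iv0 F339126)) (tt N71838 (iv2 F220725)) (tt N44569 (iv3 F339062)) (tt N40731 F103033) (tt N44568 F339061) (tt N20702 (iv6 D67048)) (tt N72358 (iv7 F324399)))
theorem Q40916 : ∀ i, i < 40916 → P i := stepQ 40915 Q40915 (allL N40915 (tt N72035 (iv1 F221271)) (tt N72032 (iv0 F355783)) (tt N73796 (iv2 F225837)) (tt N70909 (iv3 F225339)) (tt N73827 D143074) (tt N20703 (iv5 D67049)) (tt N73828 D143075) (tt N71639 (iv7 F221258)))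
theorem Q40917 : ∀ i, i < 40917 → P i := stepQ 40916 Q40916 (allL N40916 (tt N20704 (iv1 D67051)) (tt N71764 F220529) (tt N70965 F218967) (tt N69836 (iv3 F331006)) (tt N39734 (iv4 F103034)) (tt N73829 D143080) (tt N72360 (iv6 F336213)) (tt N71768 (iv7 F220537)))
theorem Q40918 : ∀ i, i < 40918 → P i := stepQ 40917 Q40917 (allL N40917 (tt N71768 (iv1 F220538)) (tt N70965 F218963) (tt N20704 (iv2 D67052)) (tt N70951 (iv3 F218881)) (tt N69039 (iv4 F347214)) (tt N73830 D143082) (tt N73831 D143083) (tt N71764 (iv7 F220528)))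
theorem Q40919 : ∀ i, i < 40919 → P i := stepQ 40918 Q40918 (allL N40918 (tt N71778 F220981) (tt N69833 (iv0 F347249)) (tt N73830 (iv2 F225933)) (tt N20705 F103035) (tt N69029 (iv4 F347241)) (tt N20704 (iv5 D67053)) (tt N69786 (iv6 F347284)) (tt N69028 (iv7 F345910)))
theorem Q40920 : ∀ i, i < 40920 → P i := stepQ 40919 Q40919 (allL N40919 (tt N71781 (iv1 F349479)) (tt N73832 D143089) (tt N73831 (iv2 F225935)) (tt N20706 F103036) (tt N73808 (iv4 F225900)) (tt N73833 D143090) (tt N20704 (iv6 D67054)) (tt N73834 D143091))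
theorem Q40921 : ∀ i, i < 40921 → P i := stepQ 40920 Q40920 (allL N40920 (tt N70965 F218962) (tt N71768 F220539) (tt N71764 (iv2 F220527)) (tt N20707 F103037) (tt N55976 (iv4 F162230)) (tt N69028 (iv5 F345909)) (tt N73835 D143092) (tt N20704 (iv7 D67055)))
theorem Q40922 : ∀ i, i < 40922 → P i := stepQ 40921 Q40921 (allL N40921 (tt N20722 (iv1 F103041)) (tt N20705 (iv0 D67056)) (tt N71843 F220900) (tt N73836 D143093) (tt N73837 D143094) (tt N62234 (iv5 F180301)) (tt N73838 D143095) (tt N73124 (iv7 F223851)))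
theorem Q40923 : ∀ i, i < 40923 → P i := stepQ 40922 Q40922 (allL N40922 (tt N20705 (iv1 D67057)) (tt N20722 F103038) (tt N73124 (iv2 F223850)) (tt N39547 F180642) (tt N73839 D143096) (tt N39545 (iv5 F180639)) (tt N73840 D143097) (tt N71843 F220901))
theorem Q40924 : ∀ i, i < 40924 → P i := stepQ 40923 Q40923 (allL N40923 (tt N71985 (iv1 F221167)) (tt N71927 (iv0 F220979)) (tt N73797 (iv2 F225842)) (tt N73841 D143098) (tt N20705 (iv4 D67058)) (tt N72039 (iv5 F221283)) (tt N73842 D143099) (tt N73843 D143100))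
theorem Q40925 : ∀ i, i < 40925 → P i := stepQ 40924 Q40924 (allL N40924 (tt N69793 (iv1 F380087)) (tt N73844 D143102) (tt N73798 (iv2 F225855)) (tt N69786 (iv3 F347283)) (tt N73842 (iv4 F225954)) (tt N73845 D143103) (tt N20705 (iv6 D67059)) (tt N73846 D143104))
theorem Q40926 : ∀ i, i < 40926 → P i := stepQ 40925 Q40925 (allL N40925 (tt N73124 (iv1 F223853)) (tt N71843 F220975) (tt N20722 F103039) (tt N69028 (iv3 F345908)) (tt N73843 (iv4 F225956)) (tt N20707 F103040) (tt N53035 (iv6 F334889)) (tt N20705 (iv7 D67060)))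
theorem Q40927 : ∀ i, i < 40927 → P i := stepQ 40926 Q40926 (allL N40926 (tt N73416 (iv1 F319174)) (tt N20706 (iv0 D67061)) (tt N73799 (iv2 F335431)) (tt N73847 D143107) (tt N66548 (iv4 F334860)) (tt N43050 (iv5 F334861)) (tt N72385 (iv6 F335437)) (tt N73800 (iv7 F335435)))
theorem Q40928 : ∀ i, i < 40928 → P i := stepQ 40927 Q40927 (allL N40927 (tt N20706 (iv1 D67062)) (tt N73416 (iv0 F319173)) (tt N73800 (iv2 F335434)) (tt N28885 F349492) (tt N66549 (iv4 F334855)) (tt N43054 (iv5 F334856)) (tt N73848 D143115) (tt N73799 (iv7 F335432)))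
theorem Q40929 : ∀ i, i < 40929 → P i := stepQ 40928 Q40928 (allL N40928 (tt N73849 D143116) (tt N73850 D143117) (tt N73801 (iv2 F225857)) (tt N73833 (iv3 F225939)) (tt N73851 D143118) (tt N20706 (iv5 D67063)) (tt N73845 (iv6 F225960)) (tt N73852 D143119))
theorem Q40930 : ∀ i, i < 40930 → P i := stepQ 40929 Q40929 (allL N40929 (tt N73800 (iv1 F225856)) (tt N73799 F225861) (tt N73416 (iv2 F319175)) (tt N73834 (iv3 F225940)) (tt N20714 F103042) (tt N73852 (iv5 F225964)) (tt N28298 F334871) (tt N20706 (iv7 D67064)))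
theorem Q40931 : ∀ i, i < 40931 → P i := stepQ 40930 Q40930 (allL N40930 (tt N73853 D143121) (tt N28876 (iv0 F334879)) (tt N20723 F103043) (tt N73835 (iv3 F225941)) (tt N20715 F103044) (tt N28279 (iv5 F334882)) (tt N20707 (iv6 D67065)) (tt N28298 F334872))
theorem Q40932 : ∀ i, i < 40932 → P i := stepQ 40931 Q40931 (allL N40931 (tt N72003 (iv1 F221214)) (tt N71980 (iv0 F221143)) (tt N40204 (iv2 F103084)) (tt N73854 D143124) (tt N20708 (iv4 D67068)) (tt N73855 D143125) (tt N73856 D143126) (tt N73714 (iv7 F225490)))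
theorem Q40933 : ∀ i, i < 40933 → P i := stepQ 40932 Q40932 (allL N40932 (tt N73857 D143127) (tt N23347 (iv0 F314021)) (tt N40205 (iv2 F103085)) (tt N62508 (iv3 F181950)) (tt N73856 (iv4 F225977)) (tt N56104 (iv5 F311699)) (tt N20708 (iv6 D67070)) (tt N73858 D143130))
theorem Q40934 : ∀ i, i < 40934 → P i := stepQ 40933 Q40933 (allL N40933 (tt N20724 (iv1 F103051)) (tt N20709 (iv0 D67076)) (tt N73802 F225865) (tt N73859 D143131) (tt N40743 F103087) (tt N73860 D143132) (tt N73861 D143133) (tt N73126 (iv7 F223858)))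
theorem Q40935 : ∀ i, i < 40935 → P i := stepQ 40934 Q40934 (allL N40934 (tt N20709 (iv1 D67077)) (tt N20724 F103047) (tt N73126 (iv2 F223857)) (tt N62874 F222935) (tt N66545 (iv4 F204436)) (tt N73862 D143134) (tt N48100 (iv6 F337092)) (tt N73802 (iv7 F225867)))
theorem Q40936 : ∀ i, i < 40936 → P i := stepQ 40935 Q40935 (allL N40935 (tt N54715 (iv1 F324382)) (tt N54714 (iv0 F324386)) (tt N54717 (iv2 F324389)) (tt N20709 (iv3 D67078)) (tt N59882 F174381) (tt N53448 (iv5 F324393)) (tt N69983 (iv6 F333145)) (tt N29043 F322928))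
theorem Q40937 : ∀ i, i < 40937 → P i := stepQ 40936 Q40936 (allL N40936 (tt N73863 D143141) (tt N71920 (iv0 F357291)) (tt N70995 (iv2 F343213)) (tt N53448 (iv3 F324391)) (tt N72040 F221288) (tt N20709 (iv5 D67079)) (tt N54776 (iv6 F353581)) (tt N53439 (iv7 F321297)))
theorem Q40938 : ∀ i, i < 40938 → P i := stepQ 40937 Q40937 (allL N40937 (tt N69917 (iv1 F333157)) (tt N69913 (iv0 F363636)) (tt N69769 (iv2 F333154)) (tt N69983 (iv3 F333144)) (tt N20710 F103048) (tt N73864 D143147) (tt N20709 (iv6 D67080)) (tt N69982 (iv7 F333153)))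
theorem Q40939 : ∀ i, i < 40939 → P i := stepQ 40938 Q40938 (allL N40938 (tt N73126 (iv1 F223860)) (tt N73802 F225866) (tt N20724 F103049) (tt N29043 (iv3 F321294)) (tt N20711 F103050) (tt N53439 (iv5 F321296)) (tt N29042 F319254) (tt N20709 (iv7 D67081)))
theorem Q40940 : ∀ i, i < 40940 → P i := stepQ 40939 Q40939 (allL N40939 (tt N62829 (iv1 F316972)) (tt N20710 (iv0 D67082)) (tt N62468 (iv2 F325022)) (tt N41274 (iv3 F325921)) (tt N73383 (iv4 F325922)) (tt N73865 D143153) (tt N41266 F324901) (tt N73720 (iv7 F326893)))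
theorem Q40941 : ∀ i, i < 40941 → P i := stepQ 40940 Q40940 (allL N40940 (tt N73720 (iv1 F364173)) (tt N62468 (iv0 F327182)) (tt N62829 (iv2 F316973)) (tt N73817 (iv3 F225909)) (tt N69982 (iv4 F333151)) (tt N62799 (iv5 F316980)) (tt N22441 F314683) (tt N20710 (iv7 D67085)))
theorem Q40942 : ∀ i, i < 40942 → P i := stepQ 40941 Q40941 (allL N40941 (tt N22426 (iv1 F316930)) (tt N22443 (iv0 F316931)) (tt N20725 F103053) (tt N65195 (iv3 F316933)) (tt N29042 (iv4 F316936)) (tt N34022 (iv5 F316938)) (tt N20711 (iv6 D67086)) (tt N22441 F314681))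
theorem Q40943 : ∀ i, i < 40943 → P i := stepQ 40942 Q40942 (allL N40942 (tt N63760 (iv1 F314489)) (tt N20713 (iv0 D67097)) (tt N62470 (iv2 F208261)) (tt N48007 (iv3 F314487)) (tt N73866 D143212) (tt N47991 F312194) (tt N37522 F209754) (tt N73724 (iv7 F225557)))
theorem Q40944 : ∀ i, i < 40944 → P i := stepQ 40943 Q40943 (allL N40943 (tt N73867 D143213) (tt N55819 (iv0 F361633)) (tt N41642 (iv2 F324990)) (tt N45134 (iv3 F324995)) (tt N20713 (iv4 D67099)) (tt N61253 (iv5 F324996)) (tt N62826 (iv6 F319180)) (tt N45128 F323672))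
theorem Q40945 : ∀ i, i < 40945 → P i := stepQ 40944 Q40944 (allL N40944 (tt N73724 (iv1 F225558)) (tt N62470 F225554) (tt N63760 F315921) (tt N73823 (iv3 F225914)) (tt N45128 F323671) (tt N20714 F103056) (tt N22497 (iv6 F318109)) (tt N20713 (iv7 D67100)))
theorem Q40946 : ∀ i, i < 40946 → P i := stepQ 40945 Q40945 (allL N40945 (tt N45253 F320389) (tt N20733 F181669) (tt N45266 (iv2 F318913)) (tt N20750 (iv3 F322081)) (tt N62318 F181670) (tt N20716 (iv5 D67105)) (tt N43918 (iv6 F322083)) (tt N42677 (iv7 F321951)))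
theorem Q40947 : ∀ i, i < 40947 → P i := stepQ 40946 Q40946 (allL N40946 (tt N33356 F103067) (tt N33358 (iv0 F103068)) (tt N20718 F103064) (tt N38401 F103066) (tt N20717 (iv4 D67107)) (tt N72760 (iv5 F223173)) (tt N73868 D143238) (tt N40597 F103065))
theorem Q40948 : ∀ i, i < 40948 → P i := stepQ 40947 Q40947 (allL N40947 (tt N41266 (iv1 F181559)) (tt N73378 F224542) (tt N20719 F103069) (tt N73736 (iv3 F225630)) (tt N72767 F223183) (tt N20717 (iv5 D67108)) (tt N63530 (iv6 F316942)) (tt N73619 (iv7 F225266)))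
theorem Q40949 : ∀ i, i < 40949 → P i := stepQ 40948 Q40948 (allL N40948 (tt N62494 (iv1 F322294)) (tt N73869 D143241) (tt N20720 F103070) (tt N43515 (iv3 F322289)) (tt N73868 (iv4 F226059)) (tt N43514 F320543) (tt N20717 (iv6 D67109)) (tt N73870 D143243))
theorem Q40950 : ∀ i, i < 40950 → P i := stepQ 40949 Q40949 (allL N40949 (tt N71896 F220834) (tt N73871 D143244) (tt N71765 (iv2 F220531)) (tt N20718 (iv3 D67110)) (tt N20721 F103071) (tt N73872 D143245) (tt N73873 D143246) (tt N71762 (iv7 F220520)))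
theorem Q40951 : ∀ i, i < 40951 → P i := stepQ 40950 Q40950 (allL N40950 (tt N62305 F181557) (tt N62297 F181558) (tt N72760 F223174) (tt N73872 (iv3 F226068)) (tt N73874 D143247) (tt N20718 (iv5 D67111)) (tt N73875 D143248) (tt N72759 F223170))
theorem Q40952 : ∀ i, i < 40952 → P i := stepQ 40951 Q40951 (allL N40951 (tt N73876 D143249) (tt N73877 D143250) (tt N73868 (iv2 F226057)) (tt N73873 (iv3 F226069)) (tt N20720 F103072) (tt N73878 D143251) (tt N20718 (iv6 D67112)) (tt N73879 D143252))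
theorem Q40953 : ∀ i, i < 40953 → P i := stepQ 40952 Q40952 (allL N40952 (tt N40617 (iv1 F181568)) (tt N40614 F103073) (tt N72767 F223182) (tt N64412 (iv3 F356498)) (tt N20719 (iv4 D67115)) (tt N73880 D143255) (tt N64410 (iv6 F356492)) (tt N69991 (iv7 F343190)))
theorem Q40954 : ∀ i, i < 40954 → P i := stepQ 40953 Q40953 (allL N40953 (tt N23355 (iv1 F316939)) (tt N63532 (iv0 F316940)) (tt N63530 (iv2 F316941)) (tt N20725 F103089) (tt N64410 (iv4 F356491)) (tt N72388 (iv5 F315962)) (tt N20719 (iv6 D67116)) (tt N63529 (iv7 F316946)))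
theorem Q40955 : ∀ i, i < 40955 → P i := stepQ 40954 Q40954 (allL N40954 (tt N73870 (iv1 F226066)) (tt N20720 (iv0 D67117)) (tt N62494 (iv2 F348317)) (tt N58623 (iv3 F348322)) (tt N62408 (iv4 F348335)) (tt N68365 (iv5 F348319)) (tt N58622 (iv6 F348321)) (tt N73869 (iv7 F348324)))
theorem Q40956 : ∀ i, i < 40956 → P i := stepQ 40955 Q40955 (allL N40955 (tt N20720 (iv1 D67118)) (tt N73870 F226065) (tt N73869 (iv2 F348323)) (tt N43398 (iv3 F348315)) (tt N62409 (iv4 F348316)) (tt N38323 F348314) (tt N72328 (iv6 F361404)) (tt N62494 (iv7 F348318)))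
theorem Q40957 : ∀ i, i < 40957 → P i := stepQ 40956 Q40956 (allL N40956 (tt N73881 D143271) (tt N34069 (iv0 F320358)) (tt N43514 (iv2 F320359)) (tt N20727 F103090) (tt N72700 (iv4 F320360)) (tt N20720 (iv5 D67119)) (tt N72388 F318161) (tt N34023 (iv7 F320361)))
theorem Q40958 : ∀ i, i < 40958 → P i := stepQ 40957 Q40957 (allL N40957 (tt N73869 (iv1 F226061)) (tt N62494 (iv0 F322293)) (tt N73870 (iv2 F226063)) (tt N20728 F103091) (tt N73879 (iv4 F226073)) (tt N34023 F320544) (tt N73415 (iv6 F319171)) (tt N20720 (iv7 D67120)))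
theorem Q40959 : ∀ i, i < 40959 → P i := stepQ 40958 Q40958 (allL N40958 (tt N71798 F220982) (tt N39448 F220983) (tt N71766 (iv2 F220534)) (tt N20722 F103092) (tt N73882 D143275) (tt N20721 (iv5 D67122)) (tt N73883 D143276) (tt N71763 (iv7 F220525)))
theorem Q40960 : ∀ i, i < 40960 → P i := stepQ 40959 Q40959 (allL N40959 (tt N71855 (iv1 F362226)) (tt N70972 (iv0 F362220)) (tt N71767 (iv2 F220535)) (tt N20723 F103093) (tt N73873 (iv4 F226070)) (tt N28300 (iv5 F334884)) (tt N20721 (iv6 D67123)) (tt N71854 (iv7 F365518)))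
theorem Q40961 : ∀ i, i < 40961 → P i := stepQ 40960 Q40960 (allL N40960 (tt N71927 (iv1 F220980)) (tt N71985 (iv0 F221166)) (tt N73843 (iv2 F225955)) (tt N73884 D143281) (tt N20722 (iv4 D67124)) (tt N72040 (iv5 F221287)) (tt N73885 D143282) (tt N73797 (iv7 F225843)))
theorem Q40962 : ∀ i, i < 40962 → P i := stepQ 40961 Q40961 (allL N40961 (tt N49533 (iv1 F334886)) (tt N48659 (iv0 F334887)) (tt N53035 (iv2 F334888)) (tt N73883 (iv3 F226085)) (tt N73885 (iv4 F226088)) (tt N28302 F334885) (tt N20722 (iv6 D67125)) (tt N53036 (iv7 F334890)))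
theorem Q40963 : ∀ i, i < 40963 → P i := stepQ 40962 Q40962 (allL N40962 (tt N28298 F334869) (tt N20723 (iv0 D67126)) (tt N73853 (iv2 F342527)) (tt N28322 (iv3 F334877)) (tt N73886 D143289) (tt N49794 (iv5 F334878)) (tt N73887 D143291) (tt N28876 (iv7 F334874)))
theorem Q40964 : ∀ i, i < 40964 → P i := stepQ 40963 Q40963 (allL N40963 (tt N20723 (iv1 D67127)) (tt N28298 F334868) (tt N28876 (iv2 F334873)) (tt N28738 (iv3 F334875)) (tt N40754 (iv4 F324986)) (tt N51447 (iv5 F334876)) (tt N72369 (iv6 F363418)) (tt N73853 (iv7 F342529)))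
theorem Q40965 : ∀ i, i < 40965 → P i := stepQ 40964 Q40964 (allL N40964 (tt N28876 (iv1 F334880)) (tt N73853 F225970) (tt N28298 F334870) (tt N71854 (iv3 F365515)) (tt N20728 F103094) (tt N28278 (iv5 F334881)) (tt N73416 (iv6 F319176)) (tt N20723 (iv7 D67129)))
theorem Q40966 : ∀ i, i < 40966 → P i := stepQ 40965 Q40965 (allL N40965 (tt N69985 (iv1 F341444)) (tt N62858 (iv0 F183941)) (tt N54679 (iv2 F343199)) (tt N20724 (iv3 D67130)) (tt N64412 (iv4 F356499)) (tt N54664 (iv5 F343222)) (tt N54665 (iv6 F316953)) (tt N69770 (iv7 F341442)))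
theorem Q40967 : ∀ i, i < 40967 → P i := stepQ 40966 Q40966 (allL N40966 (tt N71920 (iv1 F357292)) (tt N73863 F226002) (tt N53439 (iv2 F321295)) (tt N54664 (iv3 F343221)) (tt N72039 (iv4 F221284)) (tt N20724 (iv5 D67131)) (tt N53435 (iv6 F349512)) (tt N70995 (iv7 F343215)))
theorem Q40968 : ∀ i, i < 40968 → P i := stepQ 40967 Q40967 (allL N40967 (tt N28150 (iv1 F316947)) (tt N73888 D143307) (tt N29042 (iv2 F316935)) (tt N54665 (iv3 F316952)) (tt N20725 F103095) (tt N29041 (iv5 F316954)) (tt N20724 (iv6 D67132)) (tt N64427 (iv7 F316956)))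
theorem Q40969 : ∀ i, i < 40969 → P i := stepQ 40968 Q40968 (allL N40968 (tt N20725 (iv1 D67134)) (tt N22441 (iv0 F312302)) (tt N22443 (iv2 F312303)) (tt N62531 (iv3 F322152)) (tt N73889 D143317) (tt N22427 (iv5 F312310)) (tt N63532 F310050) (tt N22426 (iv7 F312311)))
theorem Q40970 : ∀ i, i < 40970 → P i := stepQ 40969 Q40969 (allL N40969 (tt N34452 (iv1 F316957)) (tt N73890 D143321) (tt N34022 (iv2 F316937)) (tt N72388 (iv3 F315961)) (tt N66868 (iv4 F316965)) (tt N20725 (iv5 D67135)) (tt N20727 F103096) (tt N72400 (iv7 F353453)))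
theorem Q40971 : ∀ i, i < 40971 → P i := stepQ 40970 Q40970 (allL N40970 (tt N22443 (iv1 F316932)) (tt N22426 (iv0 F316929)) (tt N22441 F314682) (tt N63529 (iv3 F316945)) (tt N64427 (iv4 F316955)) (tt N72400 (iv5 F353451)) (tt N62829 (iv6 F316974)) (tt N20725 (iv7 D67136)))
theorem Q40972 : ∀ i, i < 40972 → P i := stepQ 40971 Q40971 (allL N40971 (tt N25161 F316288) (tt N25160 (iv0 F318559)) (tt N25155 (iv2 F318561)) (tt N62533 (iv3 F322172)) (tt N25153 (iv4 F318563)) (tt N20726 (iv5 D67145)) (tt N25151 (iv6 F318564)) (tt N25153 (iv7 F318560)))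
theorem Q40973 : ∀ i, i < 40973 → P i := stepQ 40972 Q40972 (allL N40972 (tt N62902 (iv1 F184083)) (tt N62901 F184079) (tt N62842 (iv2 F183876)) (tt N20729 (iv3 D67151)) (tt N62534 (iv4 F182018)) (tt N73891 D143376) (tt N73892 D143377) (tt N62903 (iv7 F184082)))
theorem Q40974 : ∀ i, i < 40974 → P i := stepQ 40973 Q40973 (allL N40973 (tt N62950 (iv1 F184220)) (tt N62949 F184219) (tt N20737 F103100) (tt N73891 (iv3 F226132)) (tt N72042 (iv4 F221290)) (tt N20729 (iv5 D67152)) (tt N73893 D143378) (tt N62947 (iv7 F184213)))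
theorem Q40975 : ∀ i, i < 40975 → P i := stepQ 40974 Q40974 (allL N40974 (tt N46196 F321593) (tt N73894 D143380) (tt N20738 F103101) (tt N73892 (iv3 F226133)) (tt N20730 F103102) (tt N73895 D143381) (tt N20729 (iv6 D67153)) (tt N73896 D143382))
theorem Q40976 : ∀ i, i < 40976 → P i := stepQ 40975 Q40975 (allL N40975 (tt N20741 (iv1 F103105)) (tt N20730 (iv0 D67154)) (tt N20739 F215269) (tt N43901 (iv3 F310044)) (tt N73897 D143384) (tt N34172 F308019) (tt N63035 (iv6 F318166)) (tt N20740 F215270))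
theorem Q40977 : ∀ i, i < 40977 → P i := stepQ 40976 Q40976 (allL N40976 (tt N20730 (iv1 D67155)) (tt N20741 F103103) (tt N20740 F215266) (tt N73898 D143387) (tt N73899 D143388) (tt N34173 F308020) (tt N62830 (iv6 F310045)) (tt N20739 F215267))
theorem Q40978 : ∀ i, i < 40978 → P i := stepQ 40977 Q40977 (allL N40977 (tt N20740 (iv1 F103106)) (tt N20739 F103107) (tt N20741 F103104) (tt N43934 (iv3 F313435)) (tt N73896 (iv4 F226138)) (tt N72390 (iv5 F222361)) (tt N63031 (iv6 F184490)) (tt N20730 (iv7 D67156)))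
theorem Q40979 : ∀ i, i < 40979 → P i := stepQ 40978 Q40978 (allL N40978 (tt N63021 (iv1 F205121)) (tt N62451 F205120) (tt N20731 (iv2 D67164)) (tt N45253 F319642) (tt N51739 F319643) (tt N62583 F205119) (tt N21617 (iv6 F321630)) (tt N63022 (iv7 F205107)))
theorem Q40980 : ∀ i, i < 40980 → P i := stepQ 40979 Q40979 (allL N40979 (tt N20734 (iv1 F103134)) (tt N20732 (iv0 D67168)) (tt N63024 F184469) (tt N61145 (iv3 F361672)) (tt N40464 (iv4 F103126)) (tt N73863 (iv5 F226001)) (tt N73900 D143396) (tt N63023 F184464))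
theorem Q40981 : ∀ i, i < 40981 → P i := stepQ 40980 Q40980 (allL N40980 (tt N20732 (iv1 D67169)) (tt N20734 F103130) (tt N63023 (iv2 F184466)) (tt N62932 F204403) (tt N42633 (iv4 F320902)) (tt N71920 (iv5 F357293)) (tt N73901 D143397) (tt N63024 (iv7 F184468)))
theorem Q40982 : ∀ i, i < 40982 → P i := stepQ 40981 Q40981 (allL N40981 (tt N54712 (iv1 F326379)) (tt N54709 (iv0 F349495)) (tt N64556 (iv2 F321935)) (tt N20732 (iv3 D67170)) (tt N53869 (iv4 F321615)) (tt N73902 D143400) (tt N45261 (iv6 F321937)) (tt N63025 (iv7 F205145)))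
theorem Q40983 : ∀ i, i < 40983 → P i := stepQ 40982 Q40982 (allL N40982 (tt N73903 D143402) (tt N73904 D143403) (tt N63028 (iv2 F205159)) (tt N73902 (iv3 F226164)) (tt N72033 (iv4 F355787)) (tt N20732 (iv5 D67171)) (tt N73905 D143404) (tt N63026 (iv7 F205158)))
theorem Q40984 : ∀ i, i < 40984 → P i := stepQ 40983 Q40983 (allL N40983 (tt N40282 (iv1 F181270)) (tt N40279 (iv0 F103140)) (tt N63027 (iv2 F321944)) (tt N64562 (iv3 F321947)) (tt N20733 (iv4 D67187)) (tt N70418 (iv5 F360241)) (tt N20734 (iv6 F321952)) (tt N45265 F320244))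
theorem Q40985 : ∀ i, i < 40985 → P i := stepQ 40984 Q40984 (allL N40984 (tt N63957 (iv1 F355547)) (tt N62917 (iv0 F184135)) (tt N64558 (iv2 F324900)) (tt N20734 (iv3 D67189)) (tt N64562 F323601) (tt N73906 D143434) (tt N64562 F323602) (tt N34852 F323603))
theorem Q40986 : ∀ i, i < 40986 → P i := stepQ 40985 Q40985 (allL N40985 (tt N73904 (iv1 F226172)) (tt N73903 F226169) (tt N63026 (iv2 F205162)) (tt N73906 (iv3 F226192)) (tt N72036 (iv4 F221273)) (tt N20734 (iv5 D67190)) (tt N73907 D143436) (tt N63028 F205161))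
theorem Q40987 : ∀ i, i < 40987 → P i := stepQ 40986 Q40986 (allL N40986 (tt N73908 D143455) (tt N73909 D143456) (tt N73910 D143457) (tt N20735 (iv3 D67197)) (tt N42961 (iv4 F321916)) (tt N73911 D143459) (tt N42960 (iv6 F321918)) (tt N62943 (iv7 F184200)))
theorem Q40988 : ∀ i, i < 40988 → P i := stepQ 40987 Q40987 (allL N40987 (tt N62321 (iv1 F320909)) (tt N62241 F180366) (tt N21654 F320236) (tt N45321 (iv3 F321028)) (tt N20735 (iv4 D67198)) (tt N62232 F180238) (tt N21648 (iv6 F321921)) (tt N62311 (iv7 F320917)))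
theorem Q40989 : ∀ i, i < 40989 → P i := stepQ 40988 Q40988 (allL N40988 (tt N73912 D143462) (tt N72698 (iv0 F222939)) (tt N62946 (iv2 F184209)) (tt N73911 (iv3 F226199)) (tt N72031 (iv4 F221267)) (tt N20735 (iv5 D67199)) (tt N73913 D143463) (tt N62944 (iv7 F184206)))
theorem Q40990 : ∀ i, i < 40990 → P i := stepQ 40989 Q40989 (allL N40989 (tt N45259 (iv1 F321922)) (tt N42665 (iv0 F321923)) (tt N21653 (iv2 F321911)) (tt N42960 (iv3 F321917)) (tt N21648 (iv4 F321920)) (tt N45287 (iv5 F321924)) (tt N20735 (iv6 D67200)) (tt N45313 (iv7 F321925)))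
theorem Q40991 : ∀ i, i < 40991 → P i := stepQ 40990 Q40990 (allL N40990 (tt N72698 (iv1 F222940)) (tt N73912 F226205) (tt N62944 (iv2 F184205)) (tt N63005 (iv3 F322681)) (tt N72024 (iv4 F221263)) (tt N20736 (iv5 D67204)) (tt N73914 D143475) (tt N62946 (iv7 F184210)))
theorem Q40992 : ∀ i, i < 40992 → P i := stepQ 40991 Q40991 (allL N40991 (tt N62947 (iv1 F184216)) (tt N20737 (iv0 D67206)) (tt N62950 F221145) (tt N40892 F326866) (tt N72006 (iv4 F221224)) (tt N71980 (iv5 F221142)) (tt N39619 (iv6 F327471)) (tt N62949 (iv7 F221146)))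
theorem Q40993 : ∀ i, i < 40993 → P i := stepQ 40992 Q40992 (allL N40992 (tt N20737 (iv1 D67207)) (tt N62947 F184215) (tt N62949 (iv2 F221148)) (tt N73915 D143482) (tt N71990 F221172) (tt N72003 (iv5 F221212)) (tt N73916 D143483) (tt N62950 F221147))
theorem Q40994 : ∀ i, i < 40994 → P i := stepQ 40993 Q40993 (allL N40993 (tt N72040 (iv1 F221286)) (tt N72039 F221285) (tt N72042 (iv2 F221289)) (tt N40518 (iv3 F329479)) (tt N20737 (iv4 D67208)) (tt N71960 (iv5 F221082)) (tt N73917 D143485) (tt N40552 F329191))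
theorem Q40995 : ∀ i, i < 40995 → P i := stepQ 40994 Q40994 (allL N40994 (tt N73918 D143486) (tt N73919 D143487) (tt N73893 (iv2 F226134)) (tt N39647 F329192) (tt N73917 (iv4 F226213)) (tt N73920 D143488) (tt N20737 (iv6 D67209)) (tt N73921 D143489))
theorem Q40996 : ∀ i, i < 40996 → P i := stepQ 40995 Q40995 (allL N40995 (tt N73896 (iv1 F226142)) (tt N20738 (iv0 D67210)) (tt N46196 F315910) (tt N73922 D143491) (tt N46193 (iv4 F318078)) (tt N73923 D143493) (tt N73924 D143494) (tt N73894 (iv7 F323285)))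
theorem Q40997 : ∀ i, i < 40997 → P i := stepQ 40996 Q40996 (allL N40996 (tt N20738 (iv1 D67211)) (tt N73896 F226140) (tt N73894 (iv2 F323283)) (tt N73925 D143496) (tt N21632 F312233) (tt N73926 D143498) (tt N73927 D143499) (tt N46196 (iv7 F314584)))
theorem Q40998 : ∀ i, i < 40998 → P i := stepQ 40997 Q40997 (allL N40997 (tt N73928 D143500) (tt N73929 D143501) (tt N73895 (iv2 F226136)) (tt N62967 (iv3 F184240)) (tt N73930 D143502) (tt N20738 (iv5 D67212)) (tt N73920 (iv6 F226214)) (tt N73931 D143503))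
theorem Q40999 : ∀ i, i < 40999 → P i := stepQ 40998 Q40998 (allL N40998 (tt N73894 (iv1 F226135)) (tt N46196 F321592) (tt N73896 (iv2 F226137)) (tt N62964 (iv3 F184237)) (tt N20741 F103153) (tt N73931 (iv5 F226218)) (tt N62955 (iv6 F184228)) (tt N20738 (iv7 D67213)))
theorem Q41000 : ∀ i, i < 41000 → P i := stepQ 40999 Q40999 (allL N40999 (tt N73932 D143504) (tt N73805 (iv0 F346229)) (tt N43914 (iv2 F313358)) (tt N20739 (iv3 D67215)) (tt N73933 D143507) (tt N35352 F311084) (tt N73934 D143509) (tt N73898 (iv7 F226150)))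
theorem Q41001 : ∀ i, i < 41001 → P i := stepQ 41000 Q41000 (allL N41000 (tt N73935 D143510) (tt N73901 (iv0 F321930)) (tt N73897 (iv2 F226144)) (tt N73936 D143512) (tt N20739 (iv4 D67216)) (tt N73937 D143513) (tt N73938 D143514) (tt N73899 (iv7 F226152)))
theorem Q41002 : ∀ i, i < 41002 → P i := stepQ 41001 Q41001 (allL N41001 (tt N34175 F307072) (tt N34171 F307073) (tt N34172 F307074) (tt N35352 (iv3 F308930)) (tt N48495 (iv4 F307420)) (tt N20739 (iv5 D67217)) (tt N29775 (iv6 F308771)) (tt N34173 F307075))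
theorem Q41003 : ∀ i, i < 41003 → P i := stepQ 41002 Q41002 (allL N41002 (tt N73620 (iv1 F342591)) (tt N73939 D143520) (tt N63035 (iv2 F318164)) (tt N73934 (iv3 F226220)) (tt N73938 (iv4 F226223)) (tt N29776 (iv5 F314153)) (tt N20739 (iv6 D67218)) (tt N73940 D143522))
theorem Q41004 : ∀ i, i < 41004 → P i := stepQ 41003 Q41003 (allL N41003 (tt N73901 (iv1 F321931)) (tt N73935 F226221) (tt N73899 (iv2 F226151)) (tt N38530 (iv3 F329851)) (tt N20740 (iv4 D67221)) (tt N73941 D143529) (tt N38527 F329734) (tt N73897 (iv7 F226145)))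
theorem Q41005 : ∀ i, i < 41005 → P i := stepQ 41004 Q41004 (allL N41004 (tt N62833 (iv1 F314567)) (tt N45260 (iv0 F314568)) (tt N62830 F312229) (tt N43923 (iv3 F314559)) (tt N38527 (iv4 F329570)) (tt N73942 D143533) (tt N20740 (iv6 D67223)) (tt N62831 (iv7 F314569)))
theorem Q41006 : ∀ i, i < 41006 → P i := stepQ 41005 Q41005 (allL N41005 (tt N72336 (iv1 F347181)) (tt N73737 (iv0 F338960)) (tt N73743 (iv2 F339012)) (tt N20742 (iv3 D67225)) (tt N73943 D143544) (tt N73944 D143545) (tt N73945 D143546) (tt N72402 (iv7 F338986)))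
theorem Q41007 : ∀ i, i < 41007 → P i := stepQ 41006 Q41006 (allL N41006 (tt N72358 (iv1 F321334)) (tt N71838 F346693) (tt N72405 (iv2 F338983)) (tt N73946 D143550) (tt N20742 (iv4 D67226)) (tt N28292 (iv5 F346694)) (tt N73947 D143552) (tt N72403 (iv7 F338988)))
theorem Q41008 : ∀ i, i < 41008 → P i := stepQ 41007 Q41007 (allL N41007 (tt N43019 (iv1 F338967)) (tt N34018 (iv0 F338968)) (tt N43144 (iv2 F338969)) (tt N73944 (iv3 F226251)) (tt N54041 (iv4 F339113)) (tt N20742 (iv5 D67227)) (tt N54039 (iv6 F352968)) (tt N43143 (iv7 F338970)))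
theorem Q41009 : ∀ i, i < 41009 → P i := stepQ 41008 Q41008 (allL N41008 (tt N73417 (iv1 F342543)) (tt N42936 (iv0 F342552)) (tt N72406 (iv2 F338985)) (tt N73945 (iv3 F226252)) (tt N73947 (iv4 F226255)) (tt N73948 D143561) (tt N20742 (iv6 D67228)) (tt N73418 (iv7 F342580)))
theorem Q41010 : ∀ i, i < 41010 → P i := stepQ 41009 Q41009 (allL N41009 (tt N48104 (iv1 F339078)) (tt N48098 (iv0 F339079)) (tt N48102 (iv2 F339080)) (tt N20743 (iv3 D67230)) (tt N73949 D143567) (tt N73950 D143568) (tt N73196 (iv6 F339082)) (tt N48103 (iv7 F339083)))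
theorem Q41011 : ∀ i, i < 41011 → P i := stepQ 41010 Q41010 (allL N41010 (tt N71838 (iv1 F346692)) (tt N72358 (iv0 F321333)) (tt N72403 (iv2 F338987)) (tt N73951 D143570) (tt N20743 (iv4 D67231)) (tt N28293 F346691) (tt N73952 D143572) (tt N72405 (iv7 F338984)))
theorem Q41012 : ∀ i, i < 41012 → P i := stepQ 41011 Q41011 (allL N41011 (tt N34018 F338971) (tt N43019 F338972) (tt N43143 F338973) (tt N73950 (iv3 F226266)) (tt N44568 (iv4 F339077)) (tt N20743 (iv5 D67232)) (tt N73953 D143574) (tt N43144 F338974))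
theorem Q41013 : ∀ i, i < 41013 → P i := stepQ 41012 Q41012 (allL N41012 (tt N72286 (iv1 F348233)) (tt N73614 (iv0 F338996)) (tt N72404 (iv2 F338989)) (tt N73196 (iv3 F339081)) (tt N73952 (iv4 F226268)) (tt N73954 D143577) (tt N20743 (iv6 D67233)) (tt N73615 (iv7 F338993)))
theorem Q41014 : ∀ i, i < 41014 → P i := stepQ 41013 Q41013 (allL N41013 (tt N72344 (iv1 F222230)) (tt N20744 (iv0 D67234)) (tt N72407 (iv2 F332512)) (tt N63601 (iv3 F332494)) (tt N28295 (iv4 F332495)) (tt N63371 (iv5 F316896)) (tt N43912 F332493) (tt N28291 (iv7 F332496)))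
theorem Q41015 : ∀ i, i < 41015 → P i := stepQ 41014 Q41014 (allL N41014 (tt N20744 (iv1 D67235)) (tt N72344 F222229) (tt N28291 F332497) (tt N48463 (iv3 F332498)) (tt N28277 (iv4 F332499)) (tt N63372 (iv5 F332503)) (tt N28276 (iv6 F332500)) (tt N72407 (iv7 F332516)))
theorem Q41016 : ∀ i, i < 41016 → P i := stepQ 41015 Q41015 (allL N41015 (tt N64929 (iv1 F341195)) (tt N63093 (iv0 F346609)) (tt N65002 (iv2 F319519)) (tt N73955 D143591) (tt N20744 (iv4 D67236)) (tt N39804 F339049) (tt N63038 (iv6 F184496)) (tt N64552 (iv7 F316529)))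
theorem Q41017 : ∀ i, i < 41017 → P i := stepQ 41016 Q41016 (allL N41016 (tt N62554 (iv1 F182176)) (tt N62553 F182175) (tt N20746 F103160) (tt N73655 (iv3 F225360)) (tt N20745 (iv4 D67247)) (tt N73654 F225356) (tt N34584 F312524) (tt N62540 (iv7 F320155)))
theorem Q41018 : ∀ i, i < 41018 → P i := stepQ 41017 Q41017 (allL N41017 (tt N62540 (iv1 F320152)) (tt N20746 (iv0 D67249)) (tt N62554 (iv2 F182180)) (tt N73956 D143598) (tt N66740 (iv4 F205306)) (tt N73700 (iv5 F225422)) (tt N73957 D143599) (tt N62553 F182181))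
theorem Q41019 : ∀ i, i < 41019 → P i := stepQ 41018 Q41018 (allL N41018 (tt N20746 (iv1 D67250)) (tt N62540 (iv0 F320151)) (tt N62553 F182179) (tt N61287 (iv3 F321310)) (tt N40461 (iv4 F103162)) (tt N73701 (iv5 F225423)) (tt N73958 D143601) (tt N62554 (iv7 F182178)))
theorem Q41020 : ∀ i, i < 41020 → P i := stepQ 41019 Q41019 (allL N41019 (tt N73959 D143602) (tt N70465 (iv0 F330325)) (tt N73654 (iv2 F225354)) (tt N21089 F103163) (tt N62716 (iv4 F183336)) (tt N20746 (iv5 D67251)) (tt N73960 D143604) (tt N21138 F103164))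
theorem Q41021 : ∀ i, i < 41021 → P i := stepQ 41020 Q41020 (allL N41020 (tt N61338 (iv1 F318193)) (tt N61337 (iv0 F318190)) (tt N20748 F103177) (tt N73678 (iv3 F225399)) (tt N20747 (iv4 D67281)) (tt N73677 F225397) (tt N62537 (iv6 F320881)) (tt N56288 (iv7 F318199)))
theorem Q41022 : ∀ i, i < 41022 → P i := stepQ 41021 Q41021 (allL N41021 (tt N56288 (iv1 F318197)) (tt N20748 (iv0 D67283)) (tt N61338 (iv2 F318194)) (tt N55784 (iv3 F347782)) (tt N40470 F321034) (tt N73782 (iv5 F225742)) (tt N73961 D143656) (tt N61337 (iv7 F318192)))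
theorem Q41023 : ∀ i, i < 41023 → P i := stepQ 41022 Q41022 (allL N41022 (tt N20748 (iv1 D67284)) (tt N56288 (iv0 F318196)) (tt N61337 (iv2 F318191)) (tt N73962 D143657) (tt N40278 (iv4 F103179)) (tt N73783 (iv5 F225743)) (tt N46633 (iv6 F321029)) (tt N61338 (iv7 F318195)))
theorem Q41024 : ∀ i, i < 41024 → P i := stepQ 41023 Q41023 (allL N41023 (tt N73963 D143659) (tt N73964 D143660) (tt N73677 (iv2 F225395)) (tt N20972 F103180) (tt N73965 D143661) (tt N20748 (iv5 D67285)) (tt N73966 D143662) (tt N61339 (iv7 F318203)))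
theorem Q41025 : ∀ i, i < 41025 → P i := stepQ 41024 Q41024 (allL N41024 (tt N40462 (iv1 F321308)) (tt N40465 (iv0 F321309)) (tt N62537 (iv2 F320880)) (tt N20973 F103181) (tt N20749 F103182) (tt N73967 D143665) (tt N20748 (iv6 D67286)) (tt N42671 F318688))
theorem Q41026 : ∀ i, i < 41026 → P i := stepQ 41025 Q41025 (allL N41025 (tt N20749 (iv1 D67288)) (tt N21426 F319135) (tt N42672 (iv2 F320878)) (tt N63021 (iv3 F321181)) (tt N62244 (iv4 F321182)) (tt N62341 (iv5 F321183)) (tt N73968 D143676) (tt N42673 (iv7 F320879)))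
theorem Q41027 : ∀ i, i < 41027 → P i := stepQ 41026 Q41026 (allL N41026 (tt N21041 (iv1 F321954)) (tt N62193 (iv0 F322076)) (tt N62215 (iv2 F320537)) (tt N20752 F103183) (tt N40436 (iv4 F322260)) (tt N20749 (iv5 D67289)) (tt N21052 F103184) (tt N42674 F318750))
theorem Q41028 : ∀ i, i < 41028 → P i := stepQ 41027 Q41027 (allL N41027 (tt N62558 F182314) (tt N20755 F182315) (tt N42678 (iv2 F311053)) (tt N62482 (iv3 F315548)) (tt N21411 F110642) (tt N37453 (iv5 F311571)) (tt N20751 (iv6 D67300)) (tt N43937 (iv7 F311058)))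
theorem Q41029 : ∀ i, i < 41029 → P i := stepQ 41028 Q41028 (allL N41028 (tt N22535 F316022) (tt N20752 (iv0 D67301)) (tt N20881 F320096) (tt N62275 (iv3 F320392)) (tt N36186 (iv4 F319832)) (tt N40841 F317634) (tt N65299 (iv6 F318248)) (tt N40840 (iv7 F317930)))
theorem Q41030 : ∀ i, i < 41030 → P i := stepQ 41029 Q41029 (allL N41029 (tt N34288 (iv1 F313414)) (tt N20753 (iv0 D67311)) (tt N43936 (iv2 F313418)) (tt N43917 (iv3 F313420)) (tt N73969 D143712) (tt N43313 (iv5 F313421)) (tt N63039 (iv6 F313422)) (tt N62477 (iv7 F318074)))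
theorem Q41031 : ∀ i, i < 41031 → P i := stepQ 41030 Q41030 (allL N41030 (tt N43936 (iv1 F313412)) (tt N62477 (iv0 F349363)) (tt N20753 (iv2 D67313)) (tt N43639 F311118) (tt N73970 D143720) (tt N34273 F311119) (tt N21430 F322635) (tt N34288 (iv7 F313417)))
theorem Q41032 : ∀ i, i < 41032 → P i := stepQ 41031 Q41031 (allL N41031 (tt N73971 D143723) (tt N73958 (iv0 F346287)) (tt N73970 (iv2 F226384)) (tt N34726 F323513) (tt N20753 (iv4 D67314)) (tt N34285 (iv5 F324819)) (tt N73972 D143726) (tt N34284 (iv7 F324820)))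
theorem Q41033 : ∀ i, i < 41033 → P i := stepQ 41032 Q41032 (allL N41032 (tt N21428 (iv1 F316508)) (tt N21432 F314013) (tt N21430 (iv2 F320888)) (tt N20755 F103200) (tt N73972 (iv4 F226387)) (tt N73973 D143733) (tt N20753 (iv6 D67316)) (tt N21429 F320076))
theorem Q41034 : ∀ i, i < 41034 → P i := stepQ 41033 Q41033 (allL N41033 (tt N33822 (iv1 F307041)) (tt N33814 (iv0 F307042)) (tt N33819 F305134) (tt N73974 D143741) (tt N20754 (iv4 D67326)) (tt N41688 F104783) (tt N48417 F302856) (tt N33820 (iv7 F307045)))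
theorem Q41035 : ∀ i, i < 41035 → P i := stepQ 41034 Q41034 (allL N41034 (tt N34254 (iv1 F305202)) (tt N68360 (iv0 F305054)) (tt N44537 F302853) (tt N28790 (iv3 F307039)) (tt N48417 F305133) (tt N30507 (iv5 F305203)) (tt N20754 (iv6 D67327)) (tt N44042 (iv7 F305205)))
theorem Q41036 : ∀ i, i < 41036 → P i := stepQ 41035 Q41035 (allL N41035 (tt N20755 (iv1 D67330)) (tt N62558 F182313) (tt N43937 (iv2 F311057)) (tt N73939 (iv3 F356517)) (tt N63012 (iv4 F184350)) (tt N34454 (iv5 F311574)) (tt N34294 (iv6 F311575)) (tt N42678 (iv7 F311054)))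
theorem Q41037 : ∀ i, i < 41037 → P i := stepQ 41036 Q41036 (allL N41036 (tt N21852 (iv1 F307319)) (tt N21848 (iv0 F307320)) (tt N44538 (iv2 F307321)) (tt N73973 (iv3 F226389)) (tt N34126 (iv4 F308970)) (tt N20755 (iv5 D67331)) (tt N30507 F305337) (tt N34123 (iv7 F307322)))
theorem Q41038 : ∀ i, i < 41038 → P i := stepQ 41037 Q41037 (allL N41037 (tt N43937 (iv1 F311056)) (tt N42678 (iv0 F311051)) (tt N62558 (iv2 F182310)) (tt N21429 F320074) (tt N37621 (iv4 F182255)) (tt N34123 F309344) (tt N21270 (iv6 F311580)) (tt N20755 (iv7 D67332)))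
theorem Q41039 : ∀ i, i < 41039 → P i := stepQ 41038 Q41038 (allL N41038 (tt N20756 (iv1 D67335)) (tt N43639 F313300) (tt N62555 (iv2 F353103)) (tt N73932 (iv3 F346237)) (tt N73975 D143755) (tt N72409 (iv5 F315706)) (tt N46647 (iv6 F315707)) (tt N62453 (iv7 F320144)))
theorem Q41040 : ∀ i, i < 41040 → P i := stepQ 41039 Q41039 (allL N41039 (tt N62453 (iv1 F346257)) (tt N62555 F182294) (tt N20756 (iv2 D67336)) (tt N34288 (iv3 F313416)) (tt N73976 D143758) (tt N34286 F313302) (tt N73977 D143760) (tt N43639 F313303))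
theorem Q41041 : ∀ i, i < 41041 → P i := stepQ 41040 Q41040 (allL N41040 (tt N73961 (iv1 F333387)) (tt N73978 D143762) (tt N73976 (iv2 F226422)) (tt N63809 (iv3 F315726)) (tt N20756 (iv4 D67337)) (tt N73979 D143763) (tt N63806 (iv6 F315729)) (tt N62556 (iv7 F182291)))
theorem Q41042 : ∀ i, i < 41042 → P i := stepQ 41041 Q41041 (allL N41041 (tt N73980 D143769) (tt N21318 (iv0 F315737)) (tt N73977 (iv2 F226424)) (tt N20758 F103215) (tt N63806 (iv4 F315728)) (tt N73981 D143771) (tt N20756 (iv6 D67339)) (tt N62839 (iv7 F315573)))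
theorem Q41043 : ∀ i, i < 41043 → P i := stepQ 41042 Q41042 (allL N41042 (tt N33814 (iv1 F307043)) (tt N33822 (iv0 F307040)) (tt N33820 (iv2 F307044)) (tt N38337 F110530) (tt N20757 (iv4 D67343)) (tt N41668 (iv5 F110533)) (tt N38336 (iv6 F110529)) (tt N33819 F305140))
theorem Q41044 : ∀ i, i < 41044 → P i := stepQ 41043 Q41043 (allL N41043 (tt N41326 (iv1 F308978)) (tt N37439 (iv0 F103217)) (tt N46110 (iv2 F308974)) (tt N43641 (iv3 F308999)) (tt N38336 (iv4 F110528)) (tt N21450 (iv5 F309000)) (tt N20757 (iv6 D67344)) (tt N63020 F307134))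
theorem Q41045 : ∀ i, i < 41045 → P i := stepQ 41044 Q41044 (allL N41044 (tt N40834 (iv1 F105820)) (tt N21469 (iv0 F313469)) (tt N62560 (iv2 F182344)) (tt N73981 (iv3 F226430)) (tt N21272 (iv4 F312726)) (tt N20758 (iv5 D67347)) (tt N21450 F311152) (tt N21271 (iv7 F312727)))
theorem Q41046 : ∀ i, i < 41046 → P i := stepQ 41045 Q41045 (allL N41045 (tt N72318 (iv1 F346678)) (tt N62488 (iv0 F321332)) (tt N73639 (iv2 F323792)) (tt N56032 (iv3 F162376)) (tt N20759 (iv4 D67352)) (tt N73982 D143792) (tt N73983 D143793) (tt N62562 (iv7 F182375)))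
theorem Q41047 : ∀ i, i < 41047 → P i := stepQ 41046 Q41046 (allL N41046 (tt N34120 (iv1 F318426)) (tt N42722 (iv0 F318427)) (tt N44541 (iv2 F318428)) (tt N20760 F103219) (tt N73984 D143796) (tt N20759 (iv5 D67353)) (tt N73985 D143797) (tt N43165 (iv7 F318305)))
theorem Q41048 : ∀ i, i < 41048 → P i := stepQ 41047 Q41047 (allL N41047 (tt N73659 (iv1 F348142)) (tt N34368 (iv0 F317161)) (tt N73640 (iv2 F323793)) (tt N20761 F103220) (tt N73983 (iv4 F226444)) (tt N73986 D143800) (tt N20759 (iv6 D67354)) (tt N69140 (iv7 F212935)))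
theorem Q41049 : ∀ i, i < 41049 → P i := stepQ 41048 Q41048 (allL N41048 (tt N69578 (iv1 F315534)) (tt N37446 F313144) (tt N43167 (iv2 F315535)) (tt N73985 (iv3 F226445)) (tt N37235 (iv4 F313458)) (tt N42740 (iv5 F313834)) (tt N20760 (iv6 D67358)) (tt N69577 (iv7 F315536)))
theorem Q41050 : ∀ i, i < 41050 → P i := stepQ 41049 Q41049 (allL N41049 (tt N33242 F103229) (tt N39922 F103230) (tt N40212 F103227) (tt N73986 (iv3 F226446)) (tt N42741 (iv4 F313622)) (tt N20761 (iv5 D67359)) (tt N42740 (iv6 F313835)) (tt N40211 F103228))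
theorem Q41051 : ∀ i, i < 41051 → P i := stepQ 41050 Q41050 (allL N41050 (tt N47727 (iv1 F322216)) (tt N47730 (iv0 F322217)) (tt N73750 (iv2 F322209)) (tt N30341 (iv3 F163987)) (tt N20762 (iv4 D67363)) (tt N73987 D143828) (tt N73988 D143829) (tt N57152 (iv7 F165442)))
theorem Q41052 : ∀ i, i < 41052 → P i := stepQ 41051 Q41051 (allL N41051 (tt N24273 (iv1 F318418)) (tt N37442 (iv0 F318419)) (tt N24165 (iv2 F318420)) (tt N20763 F103232) (tt N24155 (iv4 F318421)) (tt N20762 (iv5 D67364)) (tt N64268 (iv6 F318423)) (tt N24162 (iv7 F318314)))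
theorem Q41053 : ∀ i, i < 41053 → P i := stepQ 41052 Q41052 (allL N41052 (tt N73791 (iv1 F342445)) (tt N65259 (iv0 F342465)) (tt N73751 (iv2 F322210)) (tt N20764 F103233) (tt N73988 (iv4 F226472)) (tt N73989 D143836) (tt N20762 (iv6 D67365)) (tt N66041 (iv7 F203161)))
theorem Q41054 : ∀ i, i < 41054 → P i := stepQ 41053 Q41053 (allL N41053 (tt N37391 (iv1 F318424)) (tt N69421 (iv0 F317911)) (tt N43166 (iv2 F318307)) (tt N64268 (iv3 F318422)) (tt N37232 (iv4 F317138)) (tt N22552 (iv5 F316193)) (tt N20763 (iv6 D67367)) (tt N63780 (iv7 F318425)))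
theorem Q41055 : ∀ i, i < 41055 → P i := stepQ 41054 Q41054 (allL N41054 (tt N31154 F103236) (tt N33291 F103237) (tt N40495 F103234) (tt N73989 (iv3 F226474)) (tt N24119 F321024) (tt N20764 (iv5 D67368)) (tt N22552 (iv6 F316194)) (tt N40496 F103235))
theorem Q41056 : ∀ i, i < 41056 → P i := stepQ 41055 Q41055 (allL N41055 (tt N64638 (iv1 F317089)) (tt N43991 (iv0 F317090)) (tt N64639 (iv2 F317091)) (tt N20765 (iv3 D67369)) (tt N64636 (iv4 F317092)) (tt N63382 (iv5 F314879)) (tt N46141 (iv6 F314875)) (tt N62564 (iv7 F182389)))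
theorem Q41057 : ∀ i, i < 41057 → P i := stepQ 41056 Q41056 (allL N41056 (tt N70106 (iv1 F330206)) (tt N70108 (iv0 F341198)) (tt N73990 D143869) (tt N20767 (iv3 D67377)) (tt N73955 (iv4 F226274)) (tt N73991 D143870) (tt N63045 (iv6 F184559)) (tt N72412 (iv7 F222459)))
theorem Q41058 : ∀ i, i < 41058 → P i := stepQ 41057 Q41057 (allL N41057 (tt N38644 (iv1 F312566)) (tt N38642 (iv0 F312567)) (tt N40043 F103244) (tt N73991 (iv3 F226488)) (tt N22748 F103246) (tt N20767 (iv5 D67378)) (tt N45396 (iv6 F115721)) (tt N33464 F103245))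
theorem Q41059 : ∀ i, i < 41059 → P i := stepQ 41058 Q41058 (allL N41058 (tt N48101 (iv1 F319711)) (tt N62403 (iv0 F342362)) (tt N73248 (iv2 F361959)) (tt N20768 (iv3 D67393)) (tt N20771 F103255) (tt N73992 D143874) (tt N73993 D143875) (tt N62570 (iv7 F182430)))
theorem Q41060 : ∀ i, i < 41060 → P i := stepQ 41059 Q41059 (allL N41059 (tt N54671 (iv1 F343870)) (tt N73994 D143877) (tt N72439 (iv2 F222501)) (tt N73992 (iv3 F226491)) (tt N73995 D143878) (tt N20768 (iv5 D67394)) (tt N73996 D143879) (tt N62571 (iv7 F182431)))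
theorem Q41061 : ∀ i, i < 41061 → P i := stepQ 41060 Q41060 (allL N41060 (tt N73227 (iv1 F226497)) (tt N73292 (iv0 F226495)) (tt N72440 (iv2 F222502)) (tt N73993 (iv3 F226492)) (tt N20770 F103256) (tt N73997 D143880) (tt N20768 (iv6 D67395)) (tt N70458 (iv7 F217430)))
theorem Q41062 : ∀ i, i < 41062 → P i := stepQ 41061 Q41061 (allL N41061 (tt N40081 (iv1 F168320)) (tt N20769 (iv0 D67396)) (tt N39878 (iv2 F168318)) (tt N60164 (iv3 F175831)) (tt N73998 D143881) (tt N40066 F168317) (tt N31540 F168316) (tt N40066 F168319))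
theorem Q41063 : ∀ i, i < 41063 → P i := stepQ 41062 Q41062 (allL N41062 (tt N73999 D143882) (tt N40137 (iv0 F171685)) (tt N72441 (iv2 F222506)) (tt N74000 D143883) (tt N20769 (iv4 D67398)) (tt N71383 (iv5 F360372)) (tt N69557 (iv6 F214866)) (tt N62572 (iv7 F182433)))
theorem Q41064 : ∀ i, i < 41064 → P i := stepQ 41063 Q41063 (allL N41063 (tt N73360 (iv1 F321255)) (tt N57452 (iv0 F316863)) (tt N73346 (iv2 F321896)) (tt N20772 F103258) (tt N73993 (iv4 F226493)) (tt N74001 D143903) (tt N20771 (iv6 D67405)) (tt N70459 (iv7 F217433)))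
theorem Q41065 : ∀ i, i < 41065 → P i := stepQ 41064 Q41064 (allL N41064 (tt N20874 F103268) (tt N39920 F103269) (tt N40248 F103266) (tt N74001 (iv3 F226528)) (tt N42856 F314538) (tt N20772 (iv5 D67410)) (tt N42854 F314539) (tt N40247 F103267))
theorem Q41066 : ∀ i, i < 41066 → P i := stepQ 41065 Q41065 (allL N41065 (tt N40171 F111223) (tt N44298 (iv0 F111556)) (tt N39693 F111224) (tt N20773 (iv3 D67411)) (tt N74002 D143916) (tt N33096 F111225) (tt N22611 F111226) (tt N33096 F111227))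
theorem Q41067 : ∀ i, i < 41067 → P i := stepQ 41066 Q41066 (allL N41066 (tt N42468 (iv1 F320331)) (tt N40290 F323758) (tt N74003 D143921) (tt N20774 (iv3 D67414)) (tt N74000 (iv4 F226516)) (tt N47728 F318154) (tt N29737 F318726) (tt N62573 (iv7 F182447)))
theorem Q41068 : ∀ i, i < 41068 → P i := stepQ 41067 Q41067 (allL N41067 (tt N62342 (iv1 F338957)) (tt N72289 (iv0 F338958)) (tt N73479 (iv2 F350157)) (tt N20775 (iv3 D67430)) (tt N20778 F103290) (tt N44572 (iv5 F319708)) (tt N74004 D143926) (tt N62565 (iv7 F182406)))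
theorem Q41069 : ∀ i, i < 41069 → P i := stepQ 41068 Q41068 (allL N41068 (tt N74005 D143927) (tt N74006 D143928) (tt N72851 (iv2 F223451)) (tt N44572 F321646) (tt N74007 D143929) (tt N20775 (iv5 D67431)) (tt N74008 D143930) (tt N62566 (iv7 F182407)))
theorem Q41070 : ∀ i, i < 41070 → P i := stepQ 41069 Q41069 (allL N41069 (tt N73046 (iv1 F223744)) (tt N73049 F223756) (tt N72852 (iv2 F223452)) (tt N74004 (iv3 F226563)) (tt N20777 F103291) (tt N56964 (iv5 F331803)) (tt N20775 (iv6 D67432)) (tt N59887 (iv7 F174477)))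
theorem Q41071 : ∀ i, i < 41071 → P i := stepQ 41070 Q41070 (allL N41070 (tt N20776 (iv1 D67434)) (tt N56796 (iv0 F164809)) (tt N57740 (iv2 F167669)) (tt N68065 (iv3 F209102)) (tt N74009 D143932) (tt N33237 F163967) (tt N22664 F163968) (tt N33237 F163969))
theorem Q41072 : ∀ i, i < 41072 → P i := stepQ 41071 Q41071 (allL N41071 (tt N74010 D143933) (tt N74011 D143934) (tt N72853 (iv2 F223455)) (tt N74012 D143935) (tt N20776 (iv4 D67435)) (tt N74013 D143936) (tt N40193 F103292) (tt N62568 (iv7 F182409)))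
theorem Q41073 : ∀ i, i < 41073 → P i := stepQ 41072 Q41072 (allL N41072 (tt N73179 (iv1 F321647)) (tt N73181 (iv0 F319710)) (tt N73576 (iv2 F328206)) (tt N20779 F103294) (tt N74004 (iv4 F226564)) (tt N74014 D143955) (tt N20778 (iv6 D67442)) (tt N59888 (iv7 F174491)))
theorem Q41074 : ∀ i, i < 41074 → P i := stepQ 41073 Q41073 (allL N41073 (tt N21065 F103298) (tt N21062 F103299) (tt N40484 F103296) (tt N74014 (iv3 F226591)) (tt N23519 F322784) (tt N20779 (iv5 D67445)) (tt N36651 (iv6 F318622)) (tt N40485 F103297))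
theorem Q41075 : ∀ i, i < 41075 → P i := stepQ 41074 Q41074 (allL N41074 (tt N63184 (iv1 F320342)) (tt N66890 (iv0 F320343)) (tt N66906 (iv2 F320344)) (tt N20780 (iv3 D67446)) (tt N74012 (iv4 F226578)) (tt N66574 (iv5 F204571)) (tt N40194 F103300) (tt N62569 (iv7 F182428)))
theorem Q41076 : ∀ i, i < 41076 → P i := stepQ 41075 Q41075 (allL N41075 (tt N38665 (iv1 F103301)) (tt N20781 (iv0 D67447)) (tt N38718 (iv2 F202574)) (tt N30633 F168110) (tt N56792 F168111) (tt N74015 D143966) (tt N69109 (iv6 F212799)) (tt N38717 (iv7 F202582)))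
theorem Q41077 : ∀ i, i < 41077 → P i := stepQ 41076 Q41076 (allL N41076 (tt N20781 (iv1 D67448)) (tt N38665 F103302) (tt N38717 F202580) (tt N65462 (iv3 F201783)) (tt N56793 F168142) (tt N74016 D143967) (tt N65927 (iv6 F202891)) (tt N38718 F202576))
theorem Q41078 : ∀ i, i < 41078 → P i := stepQ 41077 Q41077 (allL N41077 (tt N74017 D143968) (tt N55988 (iv0 F347190)) (tt N74018 D143970) (tt N20782 (iv3 D67449)) (tt N58389 (iv4 F169246)) (tt N41159 (iv5 F103443)) (tt N74019 D143971) (tt N32209 F103303))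
theorem Q41079 : ∀ i, i < 41079 → P i := stepQ 41078 Q41078 (allL N41078 (tt N41086 (iv1 F168325)) (tt N36239 F168324) (tt N36193 F103304) (tt N74019 (iv3 F226621)) (tt N20783 F103305) (tt N74020 D143972) (tt N20782 (iv6 D67450)) (tt N32220 F103306))
theorem Q41080 : ∀ i, i < 41080 → P i := stepQ 41079 Q41079 (allL N41079 (tt N36679 (iv1 F103307)) (tt N20784 (iv0 D67451)) (tt N36678 F206766) (tt N69693 F215907) (tt N73571 F225052) (tt N74021 D143973) (tt N74022 D143974) (tt N36677 F206767))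
theorem Q41081 : ∀ i, i < 41081 → P i := stepQ 41080 Q41080 (allL N41080 (tt N20784 (iv1 D67452)) (tt N36679 F103311) (tt N36677 F206764) (tt N74023 D143975) (tt N56770 (iv4 F164776)) (tt N74024 D143976) (tt N74025 D143977) (tt N36678 F206765))
theorem Q41082 : ∀ i, i < 41082 → P i := stepQ 41081 Q41081 (allL N41081 (tt N36678 (iv1 F103312)) (tt N36677 F103310) (tt N20784 (iv2 D67453)) (tt N62610 (iv3 F182821)) (tt N40682 F103308) (tt N32142 F331484) (tt N60247 (iv6 F331494)) (tt N36679 F103309))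
theorem Q41083 : ∀ i, i < 41083 → P i := stepQ 41082 Q41082 (allL N41082 (tt N74026 D143984) (tt N74027 D143985) (tt N60247 (iv2 F331492)) (tt N20786 F103315) (tt N40683 F103316) (tt N32116 (iv5 F331497)) (tt N20784 (iv6 D67455)) (tt N41085 (iv7 F331500)))
theorem Q41084 : ∀ i, i < 41084 → P i := stepQ 41083 Q41083 (allL N41083 (tt N32163 (iv1 F103317)) (tt N20786 (iv0 D67457)) (tt N60159 (iv2 F175816)) (tt N53369 (iv3 F328192)) (tt N32222 (iv4 F168374)) (tt N74028 D143992) (tt N74029 D143993) (tt N39853 F168112))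
theorem Q41085 : ∀ i, i < 41085 → P i := stepQ 41084 Q41084 (allL N41084 (tt N20786 (iv1 D67458)) (tt N32163 F103318) (tt N39853 (iv2 F168109)) (tt N74030 D143994) (tt N32221 (iv4 F168205)) (tt N74031 D143995) (tt N60547 (iv6 F176561)) (tt N60159 (iv7 F175814)))
theorem Q41086 : ∀ i, i < 41086 → P i := stepQ 41085 Q41085 (allL N41085 (tt N74032 D143996) (tt N74033 D143997) (tt N62613 (iv2 F182833)) (tt N32116 F331498) (tt N70238 (iv4 F331508)) (tt N20786 (iv5 D67459)) (tt N32114 F331499) (tt N41082 F331500))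
theorem Q41087 : ∀ i, i < 41087 → P i := stepQ 41086 Q41086 (allL N41086 (tt N32202 (iv1 F168337)) (tt N41078 F168325) (tt N56032 (iv2 F168137)) (tt N74034 D143999) (tt N20787 (iv4 D67462)) (tt N74035 D144000) (tt N74036 D144001) (tt N60160 (iv7 F175819)))
theorem Q41088 : ∀ i, i < 41088 → P i := stepQ 41087 Q41087 (allL N41087 (tt N41188 F103483) (tt N41099 (iv0 F103345)) (tt N41187 F103477) (tt N31532 F168099) (tt N74037 D144002) (tt N20787 (iv5 D67463)) (tt N56504 (iv6 F163857)) (tt N41115 F103386))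
theorem Q41089 : ∀ i, i < 41089 → P i := stepQ 41088 Q41088 (allL N41088 (tt N56010 F162266) (tt N57207 (iv0 F165794)) (tt N36806 (iv2 F103374)) (tt N31533 F168100) (tt N74036 (iv4 F226656)) (tt N36704 F103320) (tt N20787 (iv6 D67464)) (tt N36804 (iv7 F103373)))
theorem Q41090 : ∀ i, i < 41090 → P i := stepQ 41089 Q41089 (allL N41089 (tt N57215 (iv1 F165819)) (tt N20788 (iv0 D67469)) (tt N57214 (iv2 F182546)) (tt N55041 (iv3 F367012)) (tt N62579 (iv4 F182482)) (tt N74038 D144004) (tt N74039 D144005) (tt N57213 (iv7 F182549)))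
theorem Q41091 : ∀ i, i < 41091 → P i := stepQ 41090 Q41090 (allL N41090 (tt N20788 (iv1 D67470)) (tt N57215 F165820) (tt N57213 F182547) (tt N74040 D144006) (tt N60026 (iv4 F175340)) (tt N74041 D144007) (tt N74042 D144008) (tt N57214 F182545))
theorem Q41092 : ∀ i, i < 41092 → P i := stepQ 41091 Q41091 (allL N41091 (tt N57214 F165815) (tt N57213 F165813) (tt N20788 (iv2 D67471)) (tt N20816 F103323) (tt N31472 F103324) (tt N27521 (iv5 F305026)) (tt N27522 F302682) (tt N57215 (iv7 F165818)))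
theorem Q41093 : ∀ i, i < 41093 → P i := stepQ 41092 Q41092 (allL N41092 (tt N74043 D144011) (tt N74044 D144012) (tt N27521 (iv2 F305025)) (tt N20789 F103325) (tt N74045 D144013) (tt N20788 (iv5 D67472)) (tt N27161 (iv6 F305028)) (tt N41163 (iv7 F103449)))
theorem Q41094 : ∀ i, i < 41094 → P i := stepQ 41093 Q41093 (allL N41093 (tt N74046 D144019) (tt N74047 D144020) (tt N20822 F103328) (tt N27161 (iv3 F305027)) (tt N33533 F103329) (tt N27160 F302691) (tt N20789 (iv6 D67474)) (tt N27525 (iv7 F305036)))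
theorem Q41095 : ∀ i, i < 41095 → P i := stepQ 41094 Q41094 (allL N41094 (tt N20790 (iv1 D67475)) (tt N20826 F103330) (tt N20824 (iv2 F103332)) (tt N54995 (iv3 F296435)) (tt N30231 F111278) (tt N29282 F296078) (tt N74048 D144025) (tt N20823 F103331))
theorem Q41096 : ∀ i, i < 41096 → P i := stepQ 41095 Q41095 (allL N41095 (tt N74049 D144026) (tt N74050 D144027) (tt N20825 F103333) (tt N26721 (iv3 F299843)) (tt N27167 (iv4 F299846)) (tt N20790 (iv5 D67476)) (tt N27160 (iv6 F299847)) (tt N50662 (iv7 F299852)))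
theorem Q41097 : ∀ i, i < 41097 → P i := stepQ 41096 Q41096 (allL N41096 (tt N20824 (iv1 F103336)) (tt N20823 F103337) (tt N20826 F103334) (tt N29228 (iv3 F299845)) (tt N20793 F103335) (tt N50662 (iv5 F299851)) (tt N57219 (iv6 F165839)) (tt N20790 (iv7 D67477)))
theorem Q41098 : ∀ i, i < 41098 → P i := stepQ 41097 Q41097 (allL N41097 (tt N71348 (iv1 F219905)) (tt N39114 (iv0 F111360)) (tt N20828 F103497) (tt N74051 D144030) (tt N20791 (iv4 D67480)) (tt N27301 (iv5 F331280)) (tt N60127 (iv6 F175721)) (tt N20831 F103498))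
theorem Q41099 : ∀ i, i < 41099 → P i := stepQ 41098 Q41098 (allL N41098 (tt N39114 (iv1 F111361)) (tt N71348 F219904) (tt N20831 F103489) (tt N55272 (iv3 F331286)) (tt N20792 (iv4 D67483)) (tt N29182 (iv5 F331289)) (tt N74052 D144034) (tt N20828 F103490))
theorem Q41100 : ∀ i, i < 41100 → P i := stepQ 41099 Q41099 (allL N41099 (tt N41087 F103345) (tt N36240 (iv0 F168075)) (tt N20832 F103486) (tt N57974 (iv3 F168678)) (tt N74052 (iv4 F226737)) (tt N60129 (iv5 F175730)) (tt N20792 (iv6 D67484)) (tt N60129 (iv7 F175731)))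
theorem Q41101 : ∀ i, i < 41101 → P i := stepQ 41100 Q41100 (allL N41100 (tt N57965 (iv1 F168658)) (tt N20794 (iv0 D67485)) (tt N57963 F202601) (tt N55886 F180076) (tt N62174 (iv4 F180075)) (tt N65858 (iv5 F202667)) (tt N70242 (iv6 F217052)) (tt N57964 (iv7 F202599)))
theorem Q41102 : ∀ i, i < 41102 → P i := stepQ 41101 Q41101 (allL N41101 (tt N20794 (iv1 D67486)) (tt N57965 F168657) (tt N57964 (iv2 F202602)) (tt N66270 F203876) (tt N62175 (iv4 F180066)) (tt N74053 D144035) (tt N74054 D144036) (tt N57963 F202604))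
theorem Q41103 : ∀ i, i < 41103 → P i := stepQ 41102 Q41102 (allL N41102 (tt N57964 (iv1 F168652)) (tt N57963 F168656) (tt N57965 (iv2 F168654)) (tt N20800 F103346) (tt N40372 F103347) (tt N40322 F103348) (tt N38700 (iv6 F103349)) (tt N20794 (iv7 D67487)))
theorem Q41104 : ∀ i, i < 41104 → P i := stepQ 41103 Q41103 (allL N41103 (tt N62616 (iv1 F182839)) (tt N20795 (iv0 D67488)) (tt N62615 (iv2 F331457)) (tt N74055 D144038) (tt N73110 F223826) (tt N60282 (iv5 F325796)) (tt N74056 D144040) (tt N62614 (iv7 F340458)))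
theorem Q41105 : ∀ i, i < 41105 → P i := stepQ 41104 Q41104 (allL N41104 (tt N20795 (iv1 D67489)) (tt N62616 F182841) (tt N62614 (iv2 F340457)) (tt N52127 (iv3 F340461)) (tt N72923 (iv4 F223609)) (tt N52113 (iv5 F340454)) (tt N52116 (iv6 F340463)) (tt N62615 (iv7 F331458)))
theorem Q41106 : ∀ i, i < 41106 → P i := stepQ 41105 Q41105 (allL N41105 (tt N62615 (iv1 F182840)) (tt N62614 F182835) (tt N20795 (iv2 D67490)) (tt N62626 (iv3 F182864)) (tt N40369 F103353) (tt N74057 D144045) (tt N74058 D144046) (tt N62616 (iv7 F182838)))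
theorem Q41107 : ∀ i, i < 41107 → P i := stepQ 41106 Q41106 (allL N41106 (tt N61248 (iv1 F331565)) (tt N61243 (iv0 F331561)) (tt N74057 (iv2 F226763)) (tt N20796 F103354) (tt N56209 (iv4 F331469)) (tt N20795 (iv5 D67491)) (tt N74059 D144050) (tt N62617 (iv7 F182843)))
theorem Q41108 : ∀ i, i < 41108 → P i := stepQ 41107 Q41107 (allL N41107 (tt N74060 D144051) (tt N74061 D144052) (tt N74058 (iv2 F226764)) (tt N20797 F103355) (tt N40371 F103356) (tt N74062 D144053) (tt N20795 (iv6 D67492)) (tt N74063 D144054))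
theorem Q41109 : ∀ i, i < 41109 → P i := stepQ 41108 Q41108 (allL N41108 (tt N74064 D144055) (tt N74065 D144056) (tt N62629 (iv2 F182874)) (tt N74059 (iv3 F226766)) (tt N41145 (iv4 F103422)) (tt N74066 D144057) (tt N20796 (iv6 D67493)) (tt N74067 D144058))
theorem Q41110 : ∀ i, i < 41110 → P i := stepQ 41109 Q41109 (allL N41109 (tt N62633 (iv1 F182889)) (tt N20797 (iv0 D67494)) (tt N62630 F182876) (tt N74068 D144059) (tt N39425 F168415) (tt N74069 D144060) (tt N72141 (iv6 F221460)) (tt N62631 (iv7 F182880)))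
theorem Q41111 : ∀ i, i < 41111 → P i := stepQ 41110 Q41110 (allL N41110 (tt N20797 (iv1 D67495)) (tt N62633 F182888) (tt N62631 F182882) (tt N74070 D144061) (tt N39516 F175997) (tt N74071 D144062) (tt N68076 (iv6 F209128)) (tt N62630 F182877))
theorem Q41112 : ∀ i, i < 41112 → P i := stepQ 41111 Q41111 (allL N41111 (tt N74072 D144063) (tt N60226 (iv0 F175939)) (tt N62632 (iv2 F182883)) (tt N74062 (iv3 F226767)) (tt N74073 D144064) (tt N20797 (iv5 D67496)) (tt N74066 (iv6 F226771)) (tt N74074 D144065))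
theorem Q41113 : ∀ i, i < 41113 → P i := stepQ 41112 Q41112 (allL N41112 (tt N62631 (iv1 F182879)) (tt N62630 F182878) (tt N62633 (iv2 F182885)) (tt N74063 (iv3 F226768)) (tt N20800 F103357) (tt N74074 (iv5 F226775)) (tt N38186 (iv6 F103408)) (tt N20797 (iv7 D67497)))
theorem Q41114 : ∀ i, i < 41114 → P i := stepQ 41113 Q41113 (allL N41113 (tt N62650 (iv1 F182931)) (tt N20810 F169268) (tt N60121 (iv2 F175707)) (tt N74075 D144066) (tt N20798 (iv4 D67499)) (tt N74076 D144067) (tt N74077 D144068) (tt N62634 (iv7 F182891)))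
theorem Q41115 : ∀ i, i < 41115 → P i := stepQ 41114 Q41114 (allL N41114 (tt N60134 F175767) (tt N35874 (iv0 F103360)) (tt N35824 F103358) (tt N57182 F168143) (tt N60536 (iv4 F176552)) (tt N20798 (iv5 D67500)) (tt N29851 F103359) (tt N62635 (iv7 F182897)))
theorem Q41116 : ∀ i, i < 41116 → P i := stepQ 41115 Q41115 (allL N41115 (tt N20832 F103384) (tt N60129 (iv0 F175732)) (tt N36240 (iv2 F168077)) (tt N41453 (iv3 F168135)) (tt N74077 (iv4 F226778)) (tt N32117 F103385) (tt N20798 (iv6 D67501)) (tt N41087 (iv7 F103386)))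
theorem Q41117 : ∀ i, i < 41117 → P i := stepQ 41116 Q41116 (allL N41116 (tt N20810 F103387) (tt N62650 F182930) (tt N62634 (iv2 F182890)) (tt N72689 (iv3 F222898)) (tt N20799 (iv4 D67503)) (tt N74078 D144069) (tt N67769 (iv6 F207790)) (tt N60121 (iv7 F175708)))
theorem Q41118 : ∀ i, i < 41118 → P i := stepQ 41117 Q41117 (allL N41117 (tt N74079 D144070) (tt N74080 D144071) (tt N74081 D144072) (tt N20801 (iv3 D67505)) (tt N20803 F103394) (tt N61975 (iv5 F365076)) (tt N74082 D144073) (tt N33076 F103395))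
theorem Q41119 : ∀ i, i < 41119 → P i := stepQ 41118 Q41118 (allL N41118 (tt N22620 F111093) (tt N74083 D144074) (tt N33081 F103396) (tt N74082 (iv3 F226790)) (tt N20802 F103397) (tt N74084 D144075) (tt N20801 (iv6 D67506)) (tt N74085 D144076))
theorem Q41120 : ∀ i, i < 41120 → P i := stepQ 41119 Q41119 (allL N41119 (tt N20802 (iv1 D67507)) (tt N66263 F203864) (tt N66262 (iv2 F203859)) (tt N44482 F112241) (tt N61846 F179614) (tt N62871 (iv5 F326746)) (tt N57322 (iv6 F166219)) (tt N30598 F103398))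
theorem Q41121 : ∀ i, i < 41121 → P i := stepQ 41120 Q41120 (allL N41120 (tt N66262 (iv1 F203856)) (tt N30598 (iv0 F166012)) (tt N66263 (iv2 F203861)) (tt N20807 F103399) (tt N74085 (iv4 F226799)) (tt N66067 (iv5 F203287)) (tt N62623 (iv6 F182861)) (tt N20802 (iv7 D67508)))
theorem Q41122 : ∀ i, i < 41122 → P i := stepQ 41121 Q41121 (allL N41121 (tt N62626 (iv1 F182867)) (tt N20803 (iv0 D67509)) (tt N62625 (iv2 F182997)) (tt N74086 D144077) (tt N74087 D144078) (tt N67157 (iv5 F365099)) (tt N74088 D144080) (tt N62624 (iv7 F182999)))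
theorem Q41123 : ∀ i, i < 41123 → P i := stepQ 41122 Q41122 (allL N41122 (tt N20803 (iv1 D67510)) (tt N62626 F182869) (tt N62624 F182998) (tt N62675 (iv3 F182995)) (tt N72643 (iv4 F222799)) (tt N67158 (iv5 F365103)) (tt N74089 D144082) (tt N62625 F182996))
theorem Q41124 : ∀ i, i < 41124 → P i := stepQ 41123 Q41123 (allL N41123 (tt N62625 (iv1 F182868)) (tt N62624 F182862) (tt N20803 (iv2 D67511)) (tt N62616 (iv3 F182836)) (tt N74081 (iv4 F226785)) (tt N74090 D144083) (tt N74091 D144084) (tt N62626 (iv7 F182866)))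
theorem Q41125 : ∀ i, i < 41125 → P i := stepQ 41124 Q41124 (allL N41124 (tt N74092 D144085) (tt N74093 D144086) (tt N74090 (iv2 F226804)) (tt N20804 F103400) (tt N74094 D144087) (tt N20803 (iv5 D67512)) (tt N74095 D144088) (tt N62627 (iv7 F182871)))
theorem Q41126 : ∀ i, i < 41126 → P i := stepQ 41125 Q41125 (allL N41125 (tt N74096 D144089) (tt N74097 D144090) (tt N74091 (iv2 F226805)) (tt N20805 F103401) (tt N74082 (iv4 F226791)) (tt N74098 D144091) (tt N20803 (iv6 D67513)) (tt N74099 D144092))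
theorem Q41127 : ∀ i, i < 41127 → P i := stepQ 41126 Q41126 (allL N41126 (tt N74100 D144093) (tt N74101 D144094) (tt N62619 (iv2 F182846)) (tt N74095 (iv3 F226806)) (tt N41137 (iv4 F103419)) (tt N74102 D144095) (tt N20804 (iv6 D67514)) (tt N74103 D144096))
theorem Q41128 : ∀ i, i < 41128 → P i := stepQ 41127 Q41127 (allL N41127 (tt N20805 (iv1 D67515)) (tt N38186 F103405) (tt N38188 (iv2 F103403)) (tt N28915 F329594) (tt N32168 (iv4 F103404)) (tt N74104 D144098) (tt N28914 F329595) (tt N32165 F103402))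
theorem Q41129 : ∀ i, i < 41129 → P i := stepQ 41128 Q41128 (allL N41128 (tt N74105 D144099) (tt N74106 D144100) (tt N62620 (iv2 F182847)) (tt N74098 (iv3 F226807)) (tt N74107 D144101) (tt N20805 (iv5 D67516)) (tt N74102 (iv6 F226809)) (tt N74108 D144102))
theorem Q41130 : ∀ i, i < 41130 → P i := stepQ 41129 Q41129 (allL N41129 (tt N38188 (iv1 F103411)) (tt N32165 F103412) (tt N38186 F103409) (tt N74099 (iv3 F226808)) (tt N20807 F103410) (tt N74108 (iv5 F226819)) (tt N62633 (iv6 F182887)) (tt N20805 (iv7 D67517)))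
theorem Q41131 : ∀ i, i < 41131 → P i := stepQ 41130 Q41130 (allL N41130 (tt N20813 (iv1 F103414)) (tt N44473 F112215) (tt N44475 (iv2 F112216)) (tt N74109 D144103) (tt N20806 (iv4 D67518)) (tt N74110 D144104) (tt N60126 (iv6 F175717)) (tt N32154 F103413))
theorem Q41132 : ∀ i, i < 41132 → P i := stepQ 41131 Q41131 (allL N41131 (tt N62638 (iv1 F182903)) (tt N20808 (iv0 D67519)) (tt N62637 (iv2 F340508)) (tt N74111 D144106) (tt N74112 D144107) (tt N74113 D144108) (tt N74114 D144109) (tt N62636 (iv7 F340489)))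
theorem Q41133 : ∀ i, i < 41133 → P i := stepQ 41132 Q41132 (allL N41132 (tt N20808 (iv1 D67520)) (tt N62638 F182905) (tt N62636 (iv2 F340488)) (tt N52640 (iv3 F367028)) (tt N74115 D144112) (tt N52632 (iv5 F367029)) (tt N52635 (iv6 F367030)) (tt N62637 (iv7 F340509)))
theorem Q41134 : ∀ i, i < 41134 → P i := stepQ 41133 Q41133 (allL N41133 (tt N62637 (iv1 F182904)) (tt N62636 F182900) (tt N20808 (iv2 D67521)) (tt N62645 (iv3 F182913)) (tt N74116 D144115) (tt N74117 D144116) (tt N74118 D144117) (tt N62638 (iv7 F182902)))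
theorem Q41135 : ∀ i, i < 41135 → P i := stepQ 41134 Q41134 (allL N41134 (tt N74119 D144118) (tt N74120 D144119) (tt N74116 (iv2 F226826)) (tt N31023 F103416) (tt N20808 (iv4 D67522)) (tt N74121 D144120) (tt N74122 D144121) (tt N55892 (iv7 F162062)))
theorem Q41136 : ∀ i, i < 41136 → P i := stepQ 41135 Q41135 (allL N41135 (tt N74123 D144122) (tt N74124 D144123) (tt N74117 (iv2 F226828)) (tt N20809 F103417) (tt N74125 D144124) (tt N20808 (iv5 D67523)) (tt N74126 D144125) (tt N62639 (iv7 F182907)))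
theorem Q41137 : ∀ i, i < 41137 → P i := stepQ 41136 Q41136 (allL N41136 (tt N74127 D144126) (tt N59783 (iv0 F365095)) (tt N74118 (iv2 F226829)) (tt N20810 F103418) (tt N74122 (iv4 F226836)) (tt N74128 D144128) (tt N20808 (iv6 D67524)) (tt N74129 D144129))
theorem Q41138 : ∀ i, i < 41138 → P i := stepQ 41137 Q41137 (allL N41137 (tt N74130 D144130) (tt N74131 D144131) (tt N62648 (iv2 F182923)) (tt N74126 (iv3 F226842)) (tt N41126 F103419) (tt N74132 D144132) (tt N20809 (iv6 D67525)) (tt N74133 D144133))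
theorem Q41139 : ∀ i, i < 41139 → P i := stepQ 41138 Q41138 (allL N41138 (tt N74134 D144134) (tt N57660 (iv0 F167333)) (tt N62649 (iv2 F182925)) (tt N74128 (iv3 F226843)) (tt N74135 D144135) (tt N20810 (iv5 D67527)) (tt N74132 (iv6 F226845)) (tt N74136 D144136))
theorem Q41140 : ∀ i, i < 41140 → P i := stepQ 41139 Q41139 (allL N41139 (tt N62634 F182893) (tt N60121 (iv0 F175998)) (tt N62650 (iv2 F182927)) (tt N74129 (iv3 F226844)) (tt N60249 (iv4 F175992)) (tt N74136 (iv5 F226849)) (tt N44473 F112214) (tt N20810 (iv7 D67528)))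
theorem Q41141 : ∀ i, i < 41141 → P i := stepQ 41140 Q41140 (allL N41140 (tt N62645 (iv1 F182916)) (tt N20811 (iv0 D67529)) (tt N62644 (iv2 F357474)) (tt N74137 D144138) (tt N72575 (iv4 F222679)) (tt N74138 D144139) (tt N74139 D144140) (tt N62643 (iv7 F357480)))
theorem Q41142 : ∀ i, i < 41142 → P i := stepQ 41141 Q41141 (allL N41141 (tt N20811 (iv1 D67530)) (tt N62645 F182918) (tt N62643 (iv2 F357477)) (tt N71622 (iv3 F390837)) (tt N72525 (iv4 F222635)) (tt N29095 (iv5 F356123)) (tt N74140 D144144) (tt N62644 (iv7 F357476)))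
theorem Q41143 : ∀ i, i < 41143 → P i := stepQ 41142 Q41142 (allL N41142 (tt N62644 (iv1 F182917)) (tt N62643 F182912) (tt N20811 (iv2 D67531)) (tt N62638 (iv3 F182901)) (tt N62257 (iv4 F180494)) (tt N74141 D144145) (tt N74142 D144146) (tt N62645 (iv7 F182915)))
theorem Q41144 : ∀ i, i < 41144 → P i := stepQ 41143 Q41143 (allL N41143 (tt N74143 D144147) (tt N74144 D144148) (tt N74141 (iv2 F226854)) (tt N20812 F103420) (tt N74145 D144149) (tt N20811 (iv5 D67532)) (tt N74146 D144150) (tt N62646 (iv7 F182920)))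
theorem Q41145 : ∀ i, i < 41145 → P i := stepQ 41144 Q41144 (allL N41144 (tt N74147 D144151) (tt N54554 (iv0 F385935)) (tt N74142 (iv2 F226855)) (tt N20813 F103421) (tt N62259 (iv4 F180502)) (tt N74148 D144153) (tt N20811 (iv6 D67533)) (tt N69466 (iv7 F214440)))
theorem Q41146 : ∀ i, i < 41146 → P i := stepQ 41145 Q41145 (allL N41145 (tt N74149 D144154) (tt N74150 D144155) (tt N62641 (iv2 F182909)) (tt N74146 (iv3 F226857)) (tt N41108 F103422) (tt N74151 D144156) (tt N20812 (iv6 D67534)) (tt N74152 D144157))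
theorem Q41147 : ∀ i, i < 41147 → P i := stepQ 41146 Q41146 (allL N41146 (tt N74153 D144158) (tt N74154 D144159) (tt N62642 (iv2 F182911)) (tt N74148 (iv3 F226858)) (tt N74155 D144160) (tt N20813 (iv5 D67535)) (tt N74151 (iv6 F226859)) (tt N69467 (iv7 F214441)))
theorem Q41148 : ∀ i, i < 41148 → P i := stepQ 41147 Q41147 (allL N41147 (tt N40431 (iv1 F103429)) (tt N40217 (iv0 F180643)) (tt N33243 F180256) (tt N40444 (iv3 F103426)) (tt N20814 (iv4 D67537)) (tt N73582 (iv5 F225094)) (tt N74156 D144161) (tt N40432 (iv7 F103427)))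
theorem Q41149 : ∀ i, i < 41149 → P i := stepQ 41148 Q41148 (allL N41148 (tt N40783 (iv1 F181566)) (tt N33402 F181567) (tt N40796 (iv2 F181602)) (tt N71628 (iv3 F220329)) (tt N60183 (iv4 F359848)) (tt N20814 (iv5 D67538)) (tt N70471 (iv6 F357487)) (tt N40795 F181605))
theorem Q41150 : ∀ i, i < 41150 → P i := stepQ 41149 Q41149 (allL N41149 (tt N74157 D144164) (tt N72689 (iv0 F352561)) (tt N62654 (iv2 F182942)) (tt N71629 (iv3 F220330)) (tt N74156 (iv4 F226865)) (tt N74158 D144166) (tt N20814 (iv6 D67539)) (tt N74159 D144167))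
theorem Q41151 : ∀ i, i < 41151 → P i := stepQ 41150 Q41150 (allL N41150 (tt N55038 (iv1 F367001)) (tt N74111 (iv0 F340473)) (tt N71623 (iv2 F220324)) (tt N20815 (iv3 D67541)) (tt N40437 F103434) (tt N74160 D144170) (tt N74161 D144171) (tt N62653 (iv7 F182941)))
theorem Q41152 : ∀ i, i < 41152 → P i := stepQ 41151 Q41151 (allL N41151 (tt N33402 F181565) (tt N40783 F181607) (tt N40795 F181604) (tt N74160 (iv3 F226870)) (tt N60184 (iv4 F330359)) (tt N20815 (iv5 D67542)) (tt N74162 D144173) (tt N40796 (iv7 F181603)))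
theorem Q41153 : ∀ i, i < 41153 → P i := stepQ 41152 Q41152 (allL N41152 (tt N44471 F340800) (tt N74163 D144175) (tt N62652 (iv2 F182939)) (tt N74161 (iv3 F226872)) (tt N40434 F103435) (tt N74164 D144176) (tt N20815 (iv6 D67543)) (tt N74165 D144177))
theorem Q41154 : ∀ i, i < 41154 → P i := stepQ 41153 Q41153 (allL N41153 (tt N61255 (iv1 F355186)) (tt N62487 (iv0 F181794)) (tt N20817 F103436) (tt N27521 F306966) (tt N74166 D144178) (tt N20816 (iv5 D67544)) (tt N27517 (iv6 F308760)) (tt N62655 (iv7 F182945)))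
theorem Q41155 : ∀ i, i < 41155 → P i := stepQ 41154 Q41154 (allL N41154 (tt N73631 (iv1 F225291)) (tt N73643 (iv0 F225320)) (tt N74166 (iv2 F226878)) (tt N73756 (iv3 F225678)) (tt N20817 (iv4 D67548)) (tt N73755 F225676) (tt N74167 D144184) (tt N62656 (iv7 F182950)))
theorem Q41156 : ∀ i, i < 41156 → P i := stepQ 41155 Q41155 (allL N41155 (tt N74168 D144185) (tt N74169 D144186) (tt N27517 (iv2 F308759)) (tt N20822 F103439) (tt N74167 (iv4 F226890)) (tt N27516 F306977) (tt N20817 (iv6 D67549)) (tt N74170 D144188))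
theorem Q41157 : ∀ i, i < 41157 → P i := stepQ 41156 Q41156 (allL N41156 (tt N29288 F306956) (tt N20818 (iv0 D67550)) (tt N54938 (iv2 F308757)) (tt N49735 (iv3 F339162)) (tt N44984 (iv4 F323190)) (tt N29238 (iv5 F308758)) (tt N49733 (iv6 F335759)) (tt N63380 (iv7 F323194)))
theorem Q41158 : ∀ i, i < 41158 → P i := stepQ 41157 Q41157 (allL N41157 (tt N20818 (iv1 D67551)) (tt N29288 F306955) (tt N63380 (iv2 F323193)) (tt N55011 (iv3 F313128)) (tt N61379 (iv4 F322550)) (tt N29277 (iv5 F313129)) (tt N74171 D144198) (tt N54938 F310918))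
theorem Q41159 : ∀ i, i < 41159 → P i := stepQ 41158 Q41158 (allL N41158 (tt N52513 (iv1 F365311)) (tt N74172 D144200) (tt N27518 F306953) (tt N20825 F103440) (tt N48780 (iv4 F308756)) (tt N20818 (iv5 D67552)) (tt N27516 F306954) (tt N63381 (iv7 F322246)))
theorem Q41160 : ∀ i, i < 41160 → P i := stepQ 41159 Q41159 (allL N41159 (tt N74113 (iv1 F340511)) (tt N52632 (iv0 F340026)) (tt N74173 D144205) (tt N20819 (iv3 D67554)) (tt N67153 (iv4 F206799)) (tt N41077 F103443) (tt N74174 D144206) (tt N60326 (iv7 F176212)))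
theorem Q41161 : ∀ i, i < 41161 → P i := stepQ 41160 Q41160 (allL N41160 (tt N74175 D144207) (tt N74176 D144208) (tt N62660 (iv2 F182958)) (tt N74174 (iv3 F226900)) (tt N36693 F103444) (tt N74177 D144209) (tt N20819 (iv6 D67555)) (tt N74178 D144210))
theorem Q41162 : ∀ i, i < 41162 → P i := stepQ 41161 Q41161 (allL N41161 (tt N74138 (iv1 F357463)) (tt N29095 (iv0 F355624)) (tt N74179 D144213) (tt N20820 (iv3 D67556)) (tt N32179 F331472) (tt N32189 F103445) (tt N32178 (iv6 F331477)) (tt N62659 (iv7 F182957)))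
theorem Q41163 : ∀ i, i < 41163 → P i := stepQ 41162 Q41162 (allL N41162 (tt N74180 D144216) (tt N74181 D144217) (tt N60327 (iv2 F176213)) (tt N32178 F331488) (tt N32183 F331489) (tt N32201 F103447) (tt N20820 (iv6 D67557)) (tt N60154 (iv7 F331507)))
theorem Q41164 : ∀ i, i < 41164 → P i := stepQ 41163 Q41163 (allL N41163 (tt N52055 (iv1 F306962)) (tt N52054 (iv0 F306958)) (tt N52056 (iv2 F306973)) (tt N20821 (iv3 D67558)) (tt N73756 (iv4 F225679)) (tt N30381 F103448) (tt N52069 (iv6 F346851)) (tt N41092 F103449))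
theorem Q41165 : ∀ i, i < 41165 → P i := stepQ 41164 Q41164 (allL N41164 (tt N47665 (iv1 F350480)) (tt N74182 D144223) (tt N33533 F103450) (tt N52069 (iv3 F346850)) (tt N20822 F103451) (tt N47645 (iv5 F346852)) (tt N20821 (iv6 D67559)) (tt N52060 (iv7 F306990)))
theorem Q41166 : ∀ i, i < 41166 → P i := stepQ 41165 Q41165 (allL N41165 (tt N27525 F306981) (tt N20822 (iv0 D67560)) (tt N74046 (iv2 F350524)) (tt N52629 (iv3 F357385)) (tt N71595 (iv4 F350535)) (tt N54877 (iv5 F350471)) (tt N74183 D144230) (tt N74047 (iv7 F350521)))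
theorem Q41167 : ∀ i, i < 41167 → P i := stepQ 41166 Q41166 (allL N41166 (tt N20822 (iv1 D67561)) (tt N27525 F306980) (tt N74047 (iv2 F350520)) (tt N74184 D144232) (tt N71596 (iv4 F365052)) (tt N54876 (iv5 F350496)) (tt N74185 D144235) (tt N74046 (iv7 F350526)))
theorem Q41168 : ∀ i, i < 41168 → P i := stepQ 41167 Q41167 (allL N41167 (tt N27523 (iv1 F305032)) (tt N27466 (iv0 F305033)) (tt N27160 F302690) (tt N27516 (iv3 F305034)) (tt N27165 (iv4 F305030)) (tt N20822 (iv5 D67562)) (tt N20825 F103452) (tt N27524 (iv7 F305035)))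
theorem Q41169 : ∀ i, i < 41169 → P i := stepQ 41168 Q41168 (allL N41168 (tt N74047 (iv1 F226697)) (tt N74046 F226702) (tt N27525 F306978) (tt N74170 (iv3 F226893)) (tt N52060 (iv4 F306989)) (tt N27524 F306979) (tt N52059 (iv6 F306985)) (tt N20822 (iv7 D67563)))
theorem Q41170 : ∀ i, i < 41170 → P i := stepQ 41169 Q41169 (allL N41169 (tt N55027 (iv1 F296437)) (tt N52635 (iv0 F296438)) (tt N54939 (iv2 F296439)) (tt N20823 (iv3 D67564)) (tt N74186 D144243) (tt N29236 F296080) (tt N74187 D144245) (tt N54995 (iv7 F296436)))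
theorem Q41171 : ∀ i, i < 41171 → P i := stepQ 41170 Q41170 (allL N41170 (tt N60126 (iv1 F175719)) (tt N30636 (iv0 F167022)) (tt N37274 (iv2 F111340)) (tt N74187 (iv3 F226933)) (tt N32120 F111188) (tt N46068 (iv5 F296440)) (tt N20823 (iv6 D67566)) (tt N37276 (iv7 F111332)))
theorem Q41172 : ∀ i, i < 41172 → P i := stepQ 41171 Q41171 (allL N41171 (tt N74139 (iv1 F368780)) (tt N74188 D144251) (tt N74189 D144252) (tt N20824 (iv3 D67567)) (tt N28606 F329867) (tt N53905 (iv5 F295948)) (tt N54421 (iv6 F357159)) (tt N72604 (iv7 F222720)))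
theorem Q41173 : ∀ i, i < 41173 → P i := stepQ 41172 Q41172 (allL N41172 (tt N29283 (iv1 F295945)) (tt N26976 F295844) (tt N29282 (iv2 F295946)) (tt N53905 (iv3 F295947)) (tt N42657 (iv4 F295949)) (tt N20824 (iv5 D67568)) (tt N50397 (iv6 F295950)) (tt N29246 (iv7 F295951)))
theorem Q41174 : ∀ i, i < 41174 → P i := stepQ 41173 Q41173 (allL N41173 (tt N74190 D144257) (tt N74077 (iv0 F226781)) (tt N74048 (iv2 F226709)) (tt N54421 (iv3 F357158)) (tt N65924 (iv4 F202878)) (tt N54417 (iv5 F357170)) (tt N20824 (iv6 D67569)) (tt N54416 (iv7 F357167)))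
theorem Q41175 : ∀ i, i < 41175 → P i := stepQ 41174 Q41174 (allL N41174 (tt N50662 (iv1 F299849)) (tt N20825 (iv0 D67570)) (tt N74049 F226714) (tt N52633 (iv3 F349228)) (tt N51503 (iv4 F340049)) (tt N55240 (iv5 F295855)) (tt N27475 (iv6 F340050)) (tt N74050 (iv7 F226718)))
theorem Q41176 : ∀ i, i < 41176 → P i := stepQ 41175 Q41175 (allL N41175 (tt N20825 (iv1 D67571)) (tt N50662 (iv0 F299848)) (tt N74050 F226720) (tt N74191 D144263) (tt N74192 D144264) (tt N55239 (iv5 F295849)) (tt N52648 (iv6 F350466)) (tt N74049 F226715))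
theorem Q41177 : ∀ i, i < 41177 → P i := stepQ 41176 Q41176 (allL N41176 (tt N50015 (iv1 F350544)) (tt N74193 D144267) (tt N27167 F302689) (tt N53831 (iv3 F345032)) (tt N20825 (iv4 D67572)) (tt N61216 (iv5 F305029)) (tt N27165 (iv6 F305031)) (tt N74194 D144270))
theorem Q41178 : ∀ i, i < 41178 → P i := stepQ 41177 Q41177 (allL N41177 (tt N74050 (iv1 F226717)) (tt N74049 F226716) (tt N50662 (iv2 F299850)) (tt N63381 (iv3 F322245)) (tt N74194 (iv4 F226957)) (tt N20826 F103453) (tt N74195 D144271) (tt N20825 (iv7 D67573)))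
theorem Q41179 : ∀ i, i < 41179 → P i := stepQ 41178 Q41178 (allL N41178 (tt N33234 F103462) (tt N30138 F103461) (tt N33231 F103522) (tt N74196 D144272) (tt N20827 (iv4 D67582)) (tt N72303 (iv5 F221912)) (tt N57734 F167647) (tt N33232 F103521))
theorem Q41180 : ∀ i, i < 41180 → P i := stepQ 41179 Q41179 (allL N41179 (tt N38696 (iv1 F171764)) (tt N31434 (iv0 F111421)) (tt N38694 F112155) (tt N20829 F103463) (tt N57734 (iv4 F167648)) (tt N38439 F111422) (tt N20827 (iv6 D67583)) (tt N38695 (iv7 F112154)))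
theorem Q41181 : ∀ i, i < 41181 → P i := stepQ 41180 Q41180 (allL N41180 (tt N20831 (iv1 F103470)) (tt N20828 (iv0 D67585)) (tt N71348 (iv2 F219901)) (tt N74197 D144273) (tt N39115 (iv4 F111212)) (tt N74198 D144274) (tt N39525 (iv6 F111246)) (tt N39114 F111244))
theorem Q41182 : ∀ i, i < 41182 → P i := stepQ 41181 Q41181 (allL N41181 (tt N53924 (iv1 F365240)) (tt N52116 (iv0 F331281)) (tt N52193 (iv2 F331282)) (tt N20828 (iv3 D67587)) (tt N74196 (iv4 F226958)) (tt N27298 (iv5 F331283)) (tt N56186 (iv6 F331285)) (tt N55272 (iv7 F331288)))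
theorem Q41183 : ∀ i, i < 41183 → P i := stepQ 41182 Q41182 (allL N41182 (tt N30212 F111355) (tt N33093 (iv0 F111232)) (tt N33091 F165008) (tt N74199 D144282) (tt N20830 (iv4 D67596)) (tt N71554 (iv5 F220173)) (tt N74200 D144283) (tt N33090 F111435))
theorem Q41184 : ∀ i, i < 41184 → P i := stepQ 41183 Q41183 (allL N41183 (tt N74201 D144284) (tt N74202 D144285) (tt N66269 (iv2 F203872)) (tt N20832 F103474) (tt N74200 (iv4 F226971)) (tt N74203 D144286) (tt N20830 (iv6 D67597)) (tt N74203 F226985))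
theorem Q41185 : ∀ i, i < 41185 → P i := stepQ 41184 Q41184 (allL N41184 (tt N74088 (iv1 F380208)) (tt N63495 (iv0 F366190)) (tt N74204 D144289) (tt N20831 (iv3 D67598)) (tt N74199 (iv4 F226968)) (tt N74205 D144290) (tt N74206 D144291) (tt N74051 (iv7 F226727)))
theorem Q41186 : ∀ i, i < 41186 → P i := stepQ 41185 Q41185 (allL N41185 (tt N26582 F331296) (tt N29183 F331297) (tt N29182 F331298) (tt N74205 (iv3 F226989)) (tt N26980 (iv4 F331316)) (tt N20831 (iv5 D67599)) (tt N50408 (iv6 F331317)) (tt N27301 F331299))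
theorem Q41187 : ∀ i, i < 41187 → P i := stepQ 41186 Q41186 (allL N41186 (tt N74207 D144294) (tt N72141 (iv0 F226995)) (tt N74052 (iv2 F226736)) (tt N74206 (iv3 F226990)) (tt N20832 F103475) (tt N74208 D144296) (tt N20831 (iv6 D67600)) (tt N68116 (iv7 F209160)))
theorem Q41188 : ∀ i, i < 41188 → P i := stepQ 41187 Q41187 (allL N41187 (tt N60129 F175733) (tt N20832 (iv0 D67601)) (tt N41087 (iv2 F103477)) (tt N20891 F168081) (tt N74190 (iv4 F226944)) (tt N29703 (iv5 F168089)) (tt N37705 (iv6 F103481)) (tt N36240 F168082))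
theorem Q41189 : ∀ i, i < 41189 → P i := stepQ 41188 Q41188 (allL N41188 (tt N36240 (iv1 F168076)) (tt N41087 (iv0 F103483)) (tt N60129 (iv2 F175729)) (tt N74203 (iv3 F226981)) (tt N68116 (iv4 F209159)) (tt N20832 (iv5 D67602)) (tt N30637 F103482) (tt N20832 (iv7 F103485)))
theorem Q41190 : ∀ i, i < 41190 → P i := stepQ 41189 Q41189 (allL N41189 (tt N57377 F167839) (tt N31400 (iv0 F167840)) (tt N53530 (iv2 F329705)) (tt N20833 (iv3 D67604)) (tt N53516 (iv4 F329240)) (tt N38707 (iv5 F167836)) (tt N74209 D144297) (tt N53524 (iv7 F329699)))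
theorem Q41191 : ∀ i, i < 41191 → P i := stepQ 41190 Q41190 (allL N41190 (tt N65477 (iv1 F201848)) (tt N30189 F165807) (tt N65468 (iv2 F201796)) (tt N74210 D144298) (tt N20833 (iv4 D67605)) (tt N65921 (iv5 F202863)) (tt N74211 D144299) (tt N65470 (iv7 F201808)))
theorem Q41192 : ∀ i, i < 41192 → P i := stepQ 41191 Q41191 (allL N41191 (tt N31533 F103526) (tt N37082 (iv0 F103527)) (tt N65469 (iv2 F201801)) (tt N74209 (iv3 F226996)) (tt N74211 (iv4 F227004)) (tt N36738 F103525) (tt N20833 (iv6 D67606)) (tt N31502 F103531))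
theorem Q41193 : ∀ i, i < 41193 → P i := stepQ 41192 Q41192 (allL N41192 (tt N38706 F165799) (tt N65456 F201778) (tt N62956 (iv2 F328406)) (tt N20834 (iv3 D67608)) (tt N39317 (iv4 F172079)) (tt N57208 (iv5 F165795)) (tt N31499 F103617) (tt N65455 F201764))
theorem Q41194 : ∀ i, i < 41194 → P i := stepQ 41193 Q41193 (allL N41193 (tt N30189 F111245) (tt N65477 F201847) (tt N65470 (iv2 F201806)) (tt N74212 D144300) (tt N20834 (iv4 D67609)) (tt N65922 (iv5 F202869)) (tt N30276 F103619) (tt N65468 (iv7 F201797)))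
theorem Q41195 : ∀ i, i < 41195 → P i := stepQ 41194 Q41194 (allL N41194 (tt N55244 (iv1 F345172)) (tt N20835 (iv0 D67610)) (tt N56848 (iv2 F164913)) (tt N74213 D144301) (tt N44232 F164914) (tt N57199 (iv5 F165775)) (tt N74214 D144302) (tt N56851 (iv7 F164932)))
theorem Q41196 : ∀ i, i < 41196 → P i := stepQ 41195 Q41195 (allL N41195 (tt N20835 (iv1 D67611)) (tt N55244 (iv0 F345171)) (tt N56851 (iv2 F164930)) (tt N74215 D144303) (tt N44233 (iv4 F111176)) (tt N57200 (iv5 F165776)) (tt N31495 F111177) (tt N56848 (iv7 F164911)))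
theorem Q41197 : ∀ i, i < 41197 → P i := stepQ 41196 Q41196 (allL N41196 (tt N59105 (iv1 F172032)) (tt N59103 (iv0 F172028)) (tt N56861 (iv2 F164953)) (tt N42934 F319665) (tt N61215 (iv4 F339945)) (tt N20835 (iv5 D67612)) (tt N74216 D144305) (tt N74217 D144306))
theorem Q41198 : ∀ i, i < 41198 → P i := stepQ 41197 Q41197 (allL N41197 (tt N56851 (iv1 F164934)) (tt N56848 (iv0 F164912)) (tt N55244 (iv2 F345173)) (tt N33920 F319666) (tt N20836 F103620) (tt N74217 (iv5 F227014)) (tt N56856 (iv6 F164947)) (tt N20835 (iv7 D67613)))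
theorem Q41199 : ∀ i, i < 41199 → P i := stepQ 41198 Q41198 (allL N41198 (tt N74218 D144307) (tt N72922 F223604) (tt N38435 F103621) (tt N20839 F103622) (tt N40577 F329406) (tt N30694 F103623) (tt N20837 (iv6 D67614)) (tt N41505 (iv7 F104327)))
theorem Q41200 : ∀ i, i < 41200 → P i := stepQ 41199 Q41199 (allL N41199 (tt N74219 D144308) (tt N74220 D144309) (tt N74221 D144310) (tt N20838 (iv3 D67615)) (tt N44330 (iv4 F111669)) (tt N74222 D144311) (tt N74223 D144312) (tt N56800 (iv7 F164825)))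
theorem Q41201 : ∀ i, i < 41201 → P i := stepQ 41200 Q41200 (allL N41200 (tt N30182 F103625) (tt N30188 F103626) (tt N36783 F103624) (tt N74222 (iv3 F227025)) (tt N41206 (iv4 F103642)) (tt N20838 (iv5 D67616)) (tt N74224 D144313) (tt N56801 (iv7 F164827)))
theorem Q41202 : ∀ i, i < 41202 → P i := stepQ 41201 Q41201 (allL N41201 (tt N74225 D144314) (tt N74226 D144315) (tt N36781 F103627) (tt N74223 (iv3 F227026)) (tt N20839 F103628) (tt N74227 D144316) (tt N20838 (iv6 D67617)) (tt N41508 (iv7 F104329)))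
theorem Q41203 : ∀ i, i < 41203 → P i := stepQ 41202 Q41202 (allL N41202 (tt N30394 (iv1 F103631)) (tt N20839 (iv0 D67618)) (tt N36779 (iv2 F103630)) (tt N56504 F168134) (tt N74228 D144317) (tt N56519 (iv5 F164167)) (tt N31532 F103629) (tt N36780 F103632))
theorem Q41204 : ∀ i, i < 41204 → P i := stepQ 41203 Q41203 (allL N41203 (tt N74229 D144318) (tt N74230 D144319) (tt N74231 D144320) (tt N20842 (iv3 D67619)) (tt N68867 (iv4 F211764)) (tt N74232 D144321) (tt N41509 (iv6 F104331)) (tt N36782 F103633))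
theorem Q41205 : ∀ i, i < 41205 → P i := stepQ 41204 Q41204 (allL N41204 (tt N30188 F103635) (tt N30182 F103636) (tt N56801 (iv2 F164826)) (tt N74232 (iv3 F227052)) (tt N41205 (iv4 F103638)) (tt N20842 (iv5 D67620)) (tt N74233 D144322) (tt N36783 F103634))
theorem Q41206 : ∀ i, i < 41206 → P i := stepQ 41205 Q41205 (allL N41205 (tt N31458 F103639) (tt N20843 (iv0 D67621)) (tt N56853 F164945) (tt N74234 D144323) (tt N41204 F103638) (tt N22749 F103637) (tt N74235 D144324) (tt N56852 F164940))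
theorem Q41207 : ∀ i, i < 41207 → P i := stepQ 41206 Q41206 (allL N41206 (tt N20843 (iv1 D67622)) (tt N31458 F103640) (tt N56852 F164939) (tt N74236 D144325) (tt N41200 F103642) (tt N22750 F103641) (tt N74237 D144326) (tt N56853 (iv7 F164942)))
theorem Q41208 : ∀ i, i < 41208 → P i := stepQ 41207 Q41207 (allL N41207 (tt N74238 D144327) (tt N74239 D144328) (tt N56860 (iv2 F164951)) (tt N57905 (iv3 F348800)) (tt N59071 (iv4 F171975)) (tt N74216 (iv5 F227013)) (tt N20843 (iv6 D67623)) (tt N58151 (iv7 F348803)))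
theorem Q41209 : ∀ i, i < 41209 → P i := stepQ 41208 Q41208 (allL N41208 (tt N45787 (iv1 F322545)) (tt N60095 (iv0 F322546)) (tt N66763 (iv2 F320921)) (tt N20846 F103651) (tt N20853 F103652) (tt N48129 (iv5 F322547)) (tt N20844 (iv6 D67628)) (tt N66762 F320748))
theorem Q41210 : ∀ i, i < 41210 → P i := stepQ 41209 Q41209 (allL N41209 (tt N74240 D144342) (tt N74241 D144343) (tt N66284 (iv2 F203905)) (tt N37342 F324797) (tt N39721 F103653) (tt N69134 (iv5 F325881)) (tt N20845 (iv6 D67629)) (tt N37339 (iv7 F325883)))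
theorem Q41211 : ∀ i, i < 41211 → P i := stepQ 41210 Q41210 (allL N41210 (tt N66288 (iv1 F203920)) (tt N20846 (iv0 D67630)) (tt N66285 F203908) (tt N74242 D144346) (tt N39368 F176376) (tt N74243 D144347) (tt N74244 D144348) (tt N66286 (iv7 F203912)))
theorem Q41212 : ∀ i, i < 41212 → P i := stepQ 41211 Q41211 (allL N41211 (tt N20846 (iv1 D67631)) (tt N66288 F203919) (tt N66286 F203914) (tt N74245 D144349) (tt N39369 F103654) (tt N74246 D144350) (tt N67737 (iv6 F214327)) (tt N66285 F203909))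
theorem Q41213 : ∀ i, i < 41213 → P i := stepQ 41212 Q41212 (allL N41212 (tt N74247 D144351) (tt N71155 (iv0 F219558)) (tt N66287 (iv2 F203915)) (tt N48129 F324028) (tt N45293 (iv4 F325307)) (tt N20846 (iv5 D67632)) (tt N69134 (iv6 F325882)) (tt N45292 (iv7 F325308)))
theorem Q41214 : ∀ i, i < 41214 → P i := stepQ 41213 Q41213 (allL N41213 (tt N66286 (iv1 F203911)) (tt N66285 F203910) (tt N66288 (iv2 F203917)) (tt N66762 (iv3 F318610)) (tt N20849 F103656) (tt N45292 F326213) (tt N44484 (iv6 F112249)) (tt N20846 (iv7 D67633)))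
theorem Q41215 : ∀ i, i < 41215 → P i := stepQ 41214 Q41214 (allL N41214 (tt N62623 F203925) (tt N57962 (iv0 F179581)) (tt N62621 (iv2 F182850)) (tt N20847 (iv3 D67635)) (tt N61833 F179580) (tt N74248 D144354) (tt N74202 F226980) (tt N62622 (iv7 F182855)))
theorem Q41216 : ∀ i, i < 41216 → P i := stepQ 41215 Q41215 (allL N41215 (tt N66297 (iv1 F203937)) (tt N39393 F203924) (tt N42127 (iv2 F332101)) (tt N74249 D144355) (tt N20847 (iv4 D67636)) (tt N42121 (iv5 F332102)) (tt N74250 D144357) (tt N66289 (iv7 F203927)))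
theorem Q41217 : ∀ i, i < 41217 → P i := stepQ 41216 Q41216 (allL N41216 (tt N57374 F166315) (tt N35915 (iv0 F166194)) (tt N35891 F171870) (tt N74248 (iv3 F227090)) (tt N74251 D144358) (tt N20847 (iv5 D67637)) (tt N35879 F103658) (tt N35899 F171868))
theorem Q41218 : ∀ i, i < 41218 → P i := stepQ 41217 Q41217 (allL N41217 (tt N62592 F182648) (tt N44466 (iv0 F112195)) (tt N36174 (iv2 F171855)) (tt N74202 F226978) (tt N74250 (iv4 F227096)) (tt N30493 F103659) (tt N20847 (iv6 D67638)) (tt N36170 (iv7 F171858)))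
theorem Q41219 : ∀ i, i < 41219 → P i := stepQ 41218 Q41218 (allL N41218 (tt N31406 (iv1 F165729)) (tt N40342 (iv0 F165728)) (tt N40341 F171925) (tt N20848 (iv3 D67640)) (tt N58124 (iv4 F168890)) (tt N74252 D144359) (tt N67734 (iv6 F207643)) (tt N40340 F171864))
theorem Q41220 : ∀ i, i < 41220 → P i := stepQ 41219 Q41219 (allL N41219 (tt N39393 F103661) (tt N66297 F203936) (tt N66289 (iv2 F203926)) (tt N42148 (iv3 F332110)) (tt N20848 (iv4 D67641)) (tt N42128 (iv5 F332111)) (tt N67735 (iv6 F207644)) (tt N42127 F332109))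
theorem Q41221 : ∀ i, i < 41221 → P i := stepQ 41220 Q41220 (allL N41220 (tt N35915 F166154) (tt N57374 (iv0 F166322)) (tt N35899 (iv2 F171869)) (tt N74252 (iv3 F227103)) (tt N74253 D144362) (tt N20848 (iv5 D67642)) (tt N23624 F326789) (tt N35891 F171865))
theorem Q41222 : ∀ i, i < 41222 → P i := stepQ 41221 Q41221 (allL N41221 (tt N33246 (iv1 F180294)) (tt N40444 (iv0 F103665)) (tt N40443 F177226) (tt N20850 (iv3 D67645)) (tt N39429 F103664) (tt N33286 (iv5 F320908)) (tt N33289 F318780) (tt N40236 (iv7 F177230)))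
theorem Q41223 : ∀ i, i < 41223 → P i := stepQ 41222 Q41222 (allL N41222 (tt N40251 (iv1 F180664)) (tt N33275 F180602) (tt N40250 F180281) (tt N20851 (iv3 D67650)) (tt N41528 (iv4 F104381)) (tt N23385 F321030) (tt N21862 (iv6 F322548)) (tt N40238 (iv7 F177241)))
theorem Q41224 : ∀ i, i < 41224 → P i := stepQ 41223 Q41223 (allL N41223 (tt N56084 F320627) (tt N20853 (iv0 D67655)) (tt N42651 (iv2 F322410)) (tt N74254 D144379) (tt N47815 (iv4 F322415)) (tt N33828 (iv5 F322416)) (tt N22575 (iv6 F322417)) (tt N41675 (iv7 F322400)))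
theorem Q41225 : ∀ i, i < 41225 → P i := stepQ 41224 Q41224 (allL N41224 (tt N20853 (iv1 D67656)) (tt N56084 F320626) (tt N41675 (iv2 F322399)) (tt N47719 (iv3 F322401)) (tt N74255 D144385) (tt N33579 (iv5 F322408)) (tt N25214 (iv6 F322409)) (tt N42651 (iv7 F322411)))
theorem Q41226 : ∀ i, i < 41226 → P i := stepQ 41225 Q41225 (allL N41225 (tt N40263 (iv1 F341087)) (tt N33280 F341082) (tt N40261 F335040) (tt N20854 (iv3 D67659)) (tt N74256 D144394) (tt N74257 D144395) (tt N62573 (iv6 F182446)) (tt N40196 F103672))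
theorem Q41227 : ∀ i, i < 41227 → P i := stepQ 41226 Q41226 (allL N41226 (tt N35493 F318729) (tt N39951 F103676) (tt N40195 F103673) (tt N74257 (iv3 F227160)) (tt N34715 (iv4 F320551)) (tt N20854 (iv5 D67660)) (tt N42648 F318730) (tt N40197 F103674))
theorem Q41228 : ∀ i, i < 41228 → P i := stepQ 41227 Q41227 (allL N41227 (tt N33245 (iv1 F350165)) (tt N40455 F350160) (tt N40453 (iv2 F337759)) (tt N20855 (iv3 D67661)) (tt N74258 D144401) (tt N74259 D144402) (tt N41432 F318727) (tt N40194 F103677))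
theorem Q41229 : ∀ i, i < 41229 → P i := stepQ 41228 Q41228 (allL N41228 (tt N39951 F103680) (tt N35493 F318728) (tt N40197 F103678) (tt N74259 (iv3 F227177)) (tt N34728 (iv4 F320550)) (tt N20855 (iv5 D67662)) (tt N33573 (iv6 F319226)) (tt N40195 F103679))
theorem Q41230 : ∀ i, i < 41230 → P i := stepQ 41229 Q41229 (allL N41229 (tt N56904 (iv1 F165040)) (tt N21021 F164023) (tt N56901 F165029) (tt N72688 (iv3 F222889)) (tt N20858 (iv4 D67664)) (tt N74260 D144406) (tt N59211 (iv6 F172337)) (tt N56902 F165028))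
theorem Q41231 : ∀ i, i < 41231 → P i := stepQ 41230 Q41230 (allL N41230 (tt N74261 D144407) (tt N74262 D144408) (tt N73423 (iv2 F323665)) (tt N20860 (iv3 D67669)) (tt N39371 F103685) (tt N74263 D144410) (tt N74264 D144411) (tt N55883 (iv7 F162033)))
theorem Q41232 : ∀ i, i < 41232 → P i := stepQ 41231 Q41231 (allL N41231 (tt N29666 F103688) (tt N29663 F103689) (tt N20864 F103686) (tt N74263 (iv3 F227192)) (tt N31853 F103687) (tt N20860 (iv5 D67670)) (tt N74265 D144412) (tt N55884 (iv7 F162036)))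
theorem Q41233 : ∀ i, i < 41233 → P i := stepQ 41232 Q41232 (allL N41232 (tt N44206 F111117) (tt N74266 D144413) (tt N20865 F103690) (tt N74264 (iv3 F227193)) (tt N20861 F103691) (tt N74267 D144414) (tt N20860 (iv6 D67671)) (tt N74268 D144415))
theorem Q41234 : ∀ i, i < 41234 → P i := stepQ 41233 Q41233 (allL N41233 (tt N20861 (iv1 D67672)) (tt N20868 F103692) (tt N20867 F103695) (tt N57183 F165739) (tt N72495 (iv4 F222613)) (tt N36884 (iv5 F103694)) (tt N30593 F103696) (tt N20866 F103693))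
theorem Q41235 : ∀ i, i < 41235 → P i := stepQ 41234 Q41234 (allL N41234 (tt N20867 (iv1 F103700)) (tt N20866 F103701) (tt N20868 F103698) (tt N44483 (iv3 F112243)) (tt N74268 (iv4 F227203)) (tt N37919 F103699) (tt N55888 (iv6 F162051)) (tt N20861 (iv7 D67673)))
theorem Q41236 : ∀ i, i < 41236 → P i := stepQ 41235 Q41235 (allL N41235 (tt N74269 D144416) (tt N74270 D144417) (tt N74271 D144418) (tt N20862 (iv3 D67674)) (tt N33038 F103702) (tt N55985 (iv5 F162237)) (tt N74272 D144419) (tt N33062 F103703))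
theorem Q41237 : ∀ i, i < 41237 → P i := stepQ 41236 Q41236 (allL N41236 (tt N21059 F103706) (tt N55924 F162160) (tt N30245 F103704) (tt N74272 (iv3 F227213)) (tt N30240 F103705) (tt N74273 D144420) (tt N20862 (iv6 D67675)) (tt N62698 (iv7 F183135)))
theorem Q41238 : ∀ i, i < 41238 → P i := stepQ 41237 Q41237 (allL N41237 (tt N40219 (iv1 F103707)) (tt N20863 (iv0 D67676)) (tt N40223 (iv2 F205130)) (tt N74274 D144421) (tt N62583 (iv4 F182487)) (tt N55980 (iv5 F205122)) (tt N63123 (iv6 F321291)) (tt N40222 (iv7 F205126)))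
theorem Q41239 : ∀ i, i < 41239 → P i := stepQ 41238 Q41238 (allL N41238 (tt N20863 (iv1 D67677)) (tt N40219 F103711) (tt N40222 F205131) (tt N74275 D144423) (tt N58550 (iv4 F169673)) (tt N55981 F162345) (tt N74276 D144424) (tt N40223 F205129))
theorem Q41240 : ∀ i, i < 41240 → P i := stepQ 41239 Q41239 (allL N41239 (tt N40223 (iv1 F103712)) (tt N40222 F103710) (tt N20863 (iv2 D67678)) (tt N73423 (iv3 F323666)) (tt N20871 F103708) (tt N74277 D144425) (tt N74278 D144426) (tt N40219 F103709))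
theorem Q41241 : ∀ i, i < 41241 → P i := stepQ 41240 Q41240 (allL N41240 (tt N73326 (iv1 F224402)) (tt N40901 F173692) (tt N74277 (iv2 F227222)) (tt N20864 F103713) (tt N74279 D144427) (tt N20863 (iv5 D67679)) (tt N74280 D144428) (tt N40224 F103714))
theorem Q41242 : ∀ i, i < 41242 → P i := stepQ 41241 Q41241 (allL N41241 (tt N74281 D144429) (tt N74282 D144430) (tt N74278 (iv2 F227226)) (tt N20865 F103715) (tt N20872 F103716) (tt N74283 D144431) (tt N20863 (iv6 D67680)) (tt N74284 D144432))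
theorem Q41243 : ∀ i, i < 41243 → P i := stepQ 41242 Q41242 (allL N41242 (tt N74285 D144433) (tt N74286 D144434) (tt N74265 (iv2 F227195)) (tt N74280 (iv3 F227230)) (tt N58408 (iv4 F169307)) (tt N74287 D144435) (tt N20864 (iv6 D67681)) (tt N74288 D144436))
theorem Q41244 : ∀ i, i < 41244 → P i := stepQ 41243 Q41243 (allL N41243 (tt N74268 (iv1 F227205)) (tt N20865 (iv0 D67682)) (tt N44206 (iv2 F111120)) (tt N74289 D144437) (tt N30173 F111121) (tt N74290 D144438) (tt N30172 F111122) (tt N74266 (iv7 F227198)))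
theorem Q41245 : ∀ i, i < 41245 → P i := stepQ 41244 Q41244 (allL N41244 (tt N20865 (iv1 D67683)) (tt N74268 F227204) (tt N74266 F227200) (tt N74291 D144439) (tt N40086 (iv4 F110995)) (tt N74292 D144440) (tt N74293 D144441) (tt N44206 F111118))
theorem Q41246 : ∀ i, i < 41246 → P i := stepQ 41245 Q41245 (allL N41245 (tt N74294 D144442) (tt N74295 D144443) (tt N74267 (iv2 F227201)) (tt N74283 (iv3 F227231)) (tt N74296 D144444) (tt N20865 (iv5 D67684)) (tt N74287 (iv6 F227235)) (tt N74297 D144445))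
theorem Q41247 : ∀ i, i < 41247 → P i := stepQ 41246 Q41246 (allL N41246 (tt N74266 (iv1 F227197)) (tt N44206 (iv0 F111119)) (tt N74268 (iv2 F227202)) (tt N74284 (iv3 F227232)) (tt N20868 F103717) (tt N74297 (iv5 F227242)) (tt N60115 (iv6 F175592)) (tt N20865 (iv7 D67685)))
theorem Q41248 : ∀ i, i < 41248 → P i := stepQ 41247 Q41247 (allL N41247 (tt N72497 (iv1 F222619)) (tt N55894 F162071) (tt N30601 F103718) (tt N74298 D144446) (tt N20866 (iv4 D67686)) (tt N74299 D144447) (tt N30569 F103719) (tt N72495 (iv7 F222612)))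
theorem Q41249 : ∀ i, i < 41249 → P i := stepQ 41248 Q41248 (allL N41248 (tt N38701 (iv1 F103723)) (tt N38700 F103724) (tt N38702 (iv2 F103722)) (tt N20867 (iv3 D67687)) (tt N62183 F180096) (tt N68596 (iv5 F211157)) (tt N38696 F103720) (tt N30596 F103721))
theorem Q41250 : ∀ i, i < 41250 → P i := stepQ 41249 Q41249 (allL N41249 (tt N55894 F162069) (tt N72497 F222618) (tt N72495 F222614) (tt N74300 D144448) (tt N20867 (iv4 D67688)) (tt N74301 D144449) (tt N66442 (iv6 F204177)) (tt N30601 F103725))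
theorem Q41251 : ∀ i, i < 41251 → P i := stepQ 41250 Q41250 (allL N41250 (tt N33278 (iv1 F180698)) (tt N40265 (iv0 F104309)) (tt N40264 (iv2 F179599)) (tt N20869 (iv3 D67690)) (tt N40159 F103727) (tt N42119 (iv5 F162354)) (tt N41418 (iv6 F321624)) (tt N40214 F162350))
theorem Q41252 : ∀ i, i < 41252 → P i := stepQ 41251 Q41251 (allL N41251 (tt N41540 F104393) (tt N74302 D144451) (tt N40218 (iv2 F162352)) (tt N74303 D144452) (tt N20869 (iv4 D67691)) (tt N74304 D144453) (tt N41420 (iv6 F321626)) (tt N40215 F162351))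
theorem Q41253 : ∀ i, i < 41253 → P i := stepQ 41252 Q41252 (allL N41252 (tt N40432 F180262) (tt N33243 F180263) (tt N40431 (iv2 F180636)) (tt N20870 (iv3 D67695)) (tt N41268 (iv4 F103764)) (tt N56027 (iv5 F162358)) (tt N74305 D144459) (tt N40217 (iv7 F162346)))
theorem Q41254 : ∀ i, i < 41254 → P i := stepQ 41253 Q41253 (allL N41253 (tt N74302 (iv1 F227250)) (tt N41540 F162353) (tt N40215 (iv2 F162348)) (tt N74119 (iv3 F226830)) (tt N20870 (iv4 D67696)) (tt N74306 D144460) (tt N74307 D144461) (tt N40218 (iv7 F162347)))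
theorem Q41255 : ∀ i, i < 41255 → P i := stepQ 41254 Q41254 (allL N41254 (tt N21061 F167388) (tt N25257 F318700) (tt N40216 (iv2 F162349)) (tt N74305 (iv3 F227271)) (tt N74307 (iv4 F227280)) (tt N40216 (iv5 F320849)) (tt N20870 (iv6 D67698)) (tt N40486 (iv7 F167398)))
theorem Q41256 : ∀ i, i < 41256 → P i := stepQ 41255 Q41255 (allL N41255 (tt N65375 (iv1 F312681)) (tt N63150 (iv0 F317340)) (tt N20872 F103729) (tt N40240 F103730) (tt N74278 (iv4 F227227)) (tt N74308 D144465) (tt N20871 (iv6 D67699)) (tt N74309 D144466))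
theorem Q41257 : ∀ i, i < 41257 → P i := stepQ 41256 Q41256 (allL N41256 (tt N74309 (iv1 F227297)) (tt N20872 (iv0 D67700)) (tt N65375 F315133) (tt N74310 D144467) (tt N74311 D144468) (tt N41447 (iv5 F317339)) (tt N25255 F315134) (tt N63150 (iv7 F317343)))
theorem Q41258 : ∀ i, i < 41258 → P i := stepQ 41257 Q41257 (allL N41257 (tt N20872 (iv1 D67701)) (tt N74309 F227296) (tt N63150 (iv2 F317342)) (tt N74312 D144470) (tt N74313 D144471) (tt N41448 (iv5 F317344)) (tt N63119 (iv6 F317329)) (tt N65375 F315135))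
theorem Q41259 : ∀ i, i < 41259 → P i := stepQ 41258 Q41258 (allL N41258 (tt N74314 D144474) (tt N74315 D144475) (tt N74308 (iv2 F227291)) (tt N20874 F103731) (tt N74316 D144476) (tt N20872 (iv5 D67702)) (tt N42864 (iv6 F318066)) (tt N74317 D144477))
theorem Q41260 : ∀ i, i < 41260 → P i := stepQ 41259 Q41259 (allL N41259 (tt N63150 (iv1 F317341)) (tt N65375 (iv0 F312680)) (tt N74309 (iv2 F227293)) (tt N20875 F103732) (tt N74284 (iv4 F227233)) (tt N74317 (iv5 F227302)) (tt N40231 F103733) (tt N20872 (iv7 D67703)))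
theorem Q41261 : ∀ i, i < 41261 → P i := stepQ 41260 Q41260 (allL N41260 (tt N33277 F332413) (tt N40276 (iv0 F332414)) (tt N40274 F341102) (tt N20873 (iv3 D67704)) (tt N74318 D144481) (tt N41452 (iv5 F312216)) (tt N21876 (iv6 F313394)) (tt N22686 F103735))
theorem Q41262 : ∀ i, i < 41262 → P i := stepQ 41261 Q41261 (allL N41261 (tt N39920 (iv1 F103743)) (tt N20874 (iv0 D67706)) (tt N40247 (iv2 F103741)) (tt N44907 (iv3 F316859)) (tt N36370 F314533) (tt N38587 F103740) (tt N30683 (iv6 F316860)) (tt N40248 F103742))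
theorem Q41263 : ∀ i, i < 41263 → P i := stepQ 41262 Q41262 (allL N41262 (tt N63730 (iv1 F315888)) (tt N63109 (iv0 F315785)) (tt N40249 F103744) (tt N42313 (iv3 F317153)) (tt N20874 (iv4 D67707)) (tt N63654 F314910) (tt N34125 F314911) (tt N44439 F314912))
theorem Q41264 : ∀ i, i < 41264 → P i := stepQ 41263 Q41263 (allL N41263 (tt N40248 (iv1 F103747)) (tt N40247 F103748) (tt N39920 F103745) (tt N74317 (iv3 F227301)) (tt N44439 F313989) (tt N20875 F103746) (tt N30690 (iv6 F316491)) (tt N20874 (iv7 D67708)))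
theorem Q41265 : ∀ i, i < 41265 → P i := stepQ 41264 Q41264 (allL N41264 (tt N21019 (iv1 F103750)) (tt N56824 (iv0 F164877)) (tt N56911 F165058) (tt N72706 (iv3 F222969)) (tt N20876 (iv4 D67709)) (tt N74319 D144490) (tt N44452 (iv6 F112145)) (tt N30643 F103749))
theorem Q41266 : ∀ i, i < 41266 → P i := stepQ 41265 Q41265 (allL N41265 (tt N20877 (iv1 D67717)) (tt N62275 F180550) (tt N45267 F321508) (tt N62583 (iv3 F182488)) (tt N40255 F182489) (tt N45253 F321509) (tt N22531 (iv6 F323201)) (tt N62672 (iv7 F205125)))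
theorem Q41267 : ∀ i, i < 41267 → P i := stepQ 41266 Q41266 (allL N41266 (tt N40888 (iv1 F223171)) (tt N40947 F181559) (tt N40839 F323722) (tt N20879 F103761) (tt N40620 (iv4 F181560)) (tt N20877 (iv5 D67719)) (tt N40939 (iv6 F324901)) (tt N40803 (iv7 F183047)))
theorem Q41268 : ∀ i, i < 41268 → P i := stepQ 41267 Q41267 (allL N41267 (tt N74320 D144493) (tt N74321 D144494) (tt N63072 (iv2 F320789)) (tt N20880 F103762) (tt N62278 (iv4 F180555)) (tt N62790 (iv5 F322278)) (tt N20877 (iv6 D67720)) (tt N74322 D144496))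
theorem Q41269 : ∀ i, i < 41269 → P i := stepQ 41268 Q41268 (allL N41268 (tt N20882 (iv1 F103769)) (tt N20878 (iv0 D67722)) (tt N62675 (iv2 F182994)) (tt N74323 D144497) (tt N41252 F103764) (tt N73629 (iv5 F225287)) (tt N59860 (iv6 F348113)) (tt N62674 F182990))
theorem Q41270 : ∀ i, i < 41270 → P i := stepQ 41269 Q41269 (allL N41269 (tt N20878 (iv1 D67723)) (tt N20882 F103765) (tt N62674 F182989) (tt N62625 F182863) (tt N62222 F180704) (tt N73630 (iv5 F225290)) (tt N63458 (iv6 F330005)) (tt N62675 (iv7 F182992)))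
theorem Q41271 : ∀ i, i < 41271 → P i := stepQ 41270 Q41270 (allL N41270 (tt N74055 F226758) (tt N74324 D144500) (tt N74325 D144501) (tt N20878 (iv3 D67724)) (tt N62277 (iv4 F180554)) (tt N74326 D144502) (tt N74327 D144503) (tt N62676 F183043))
theorem Q41272 : ∀ i, i < 41272 → P i := stepQ 41271 Q41271 (allL N41271 (tt N74328 D144504) (tt N74329 D144505) (tt N62681 (iv2 F183080)) (tt N74326 (iv3 F227345)) (tt N74330 D144506) (tt N20878 (iv5 D67725)) (tt N74331 D144507) (tt N62677 (iv7 F183054)))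
theorem Q41273 : ∀ i, i < 41273 → P i := stepQ 41272 Q41272 (allL N41272 (tt N74332 D144508) (tt N74333 D144509) (tt N62682 (iv2 F183082)) (tt N74327 (iv3 F227346)) (tt N20880 F103766) (tt N74334 D144510) (tt N20878 (iv6 D67726)) (tt N74335 D144511))
theorem Q41274 : ∀ i, i < 41274 → P i := stepQ 41273 Q41273 (allL N41273 (tt N74336 D144512) (tt N74337 D144513) (tt N40806 (iv2 F183052)) (tt N74338 D144514) (tt N20879 (iv4 D67730)) (tt N74339 D144515) (tt N74340 D144516) (tt N40804 (iv7 F183051)))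
theorem Q41275 : ∀ i, i < 41275 → P i := stepQ 41274 Q41274 (allL N41274 (tt N41925 (iv1 F322009)) (tt N33421 (iv0 F323540)) (tt N40807 (iv2 F183053)) (tt N40939 F325921) (tt N74340 (iv4 F227375)) (tt N74341 D144519) (tt N20879 (iv6 D67731)) (tt N74342 D144520))
theorem Q41276 : ∀ i, i < 41276 → P i := stepQ 41275 Q41275 (allL N41275 (tt N62684 (iv1 F183090)) (tt N20880 (iv0 D67733)) (tt N58543 (iv2 F323203)) (tt N62581 (iv3 F342456)) (tt N74157 (iv4 F393594)) (tt N64637 (iv5 F340936)) (tt N63501 (iv6 F340938)) (tt N62683 (iv7 F323202)))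
theorem Q41277 : ∀ i, i < 41277 → P i := stepQ 41276 Q41276 (allL N41276 (tt N21237 (iv1 F322275)) (tt N39988 (iv0 F322276)) (tt N21466 (iv2 F322013)) (tt N62790 (iv3 F322277)) (tt N74343 D144533) (tt N20880 (iv5 D67735)) (tt N74341 (iv6 F227378)) (tt N62741 (iv7 F322281)))
theorem Q41278 : ∀ i, i < 41278 → P i := stepQ 41277 Q41277 (allL N41277 (tt N62683 (iv1 F183084)) (tt N58543 (iv0 F322270)) (tt N62684 (iv2 F183086)) (tt N74322 (iv3 F227339)) (tt N74335 (iv4 F227360)) (tt N62741 (iv5 F322280)) (tt N44479 F323786) (tt N20880 (iv7 D67736)))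
theorem Q41279 : ∀ i, i < 41279 → P i := stepQ 41278 Q41278 (allL N41278 (tt N40838 F320890) (tt N33414 F204419) (tt N40841 F320891) (tt N20883 F103777) (tt N33390 (iv4 F321563)) (tt N20881 (iv5 D67742)) (tt N34345 (iv6 F322637)) (tt N33389 F320892))
theorem Q41280 : ∀ i, i < 41280 → P i := stepQ 41279 Q41279 (allL N41279 (tt N25137 (iv1 F322115)) (tt N63772 (iv0 F322116)) (tt N65299 (iv2 F321839)) (tt N20884 F103778) (tt N47308 F323787) (tt N69421 (iv5 F322118)) (tt N20881 (iv6 D67743)) (tt N63070 (iv7 F322120)))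
theorem Q41281 : ∀ i, i < 41281 → P i := stepQ 41280 Q41280 (allL N41280 (tt N48963 F331271) (tt N39514 (iv0 F103779)) (tt N71347 F220245) (tt N20882 (iv3 D67744)) (tt N67602 (iv4 F322567)) (tt N74344 D144546) (tt N74345 D144547) (tt N62680 (iv7 F183078)))
theorem Q41282 : ∀ i, i < 41282 → P i := stepQ 41281 Q41281 (allL N41281 (tt N74329 (iv1 F227351)) (tt N74328 F227348) (tt N62677 F183066) (tt N74344 (iv3 F227407)) (tt N74346 D144548) (tt N20882 (iv5 D67745)) (tt N74347 D144549) (tt N62681 (iv7 F183081)))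
theorem Q41283 : ∀ i, i < 41283 → P i := stepQ 41282 Q41282 (allL N41282 (tt N74348 D144550) (tt N74349 D144551) (tt N62678 F183058) (tt N74345 (iv3 F227408)) (tt N20884 F103780) (tt N74350 D144552) (tt N20882 (iv6 D67746)) (tt N74351 D144553))
theorem Q41284 : ∀ i, i < 41284 → P i := stepQ 41283 Q41283 (allL N41283 (tt N74337 (iv1 F227365)) (tt N74336 F227362) (tt N40804 (iv2 F183057)) (tt N74352 D144554) (tt N20883 (iv4 D67747)) (tt N74353 D144555) (tt N74354 D144556) (tt N40806 F183056))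
theorem Q41285 : ∀ i, i < 41285 → P i := stepQ 41284 Q41284 (allL N41284 (tt N45293 (iv1 F322638)) (tt N34588 (iv0 F322639)) (tt N40805 F183065) (tt N34345 (iv3 F322636)) (tt N74354 (iv4 F227421)) (tt N74355 D144559) (tt N20883 (iv6 D67748)) (tt N44016 (iv7 F322642)))
theorem Q41286 : ∀ i, i < 41286 → P i := stepQ 41285 Q41285 (allL N41285 (tt N20884 (iv1 D67750)) (tt N44479 (iv0 F322109)) (tt N44481 (iv2 F322113)) (tt N62588 (iv3 F340809)) (tt N74163 (iv4 F340807)) (tt N63832 (iv5 F348141)) (tt N63379 (iv6 F348139)) (tt N44478 (iv7 F322112)))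
theorem Q41287 : ∀ i, i < 41287 → P i := stepQ 41286 Q41286 (allL N41286 (tt N72707 (iv1 F348138)) (tt N67758 (iv0 F340819)) (tt N62679 F183059) (tt N69421 (iv3 F322117)) (tt N74356 D144573) (tt N20884 (iv5 D67751)) (tt N74355 (iv6 F227424)) (tt N69420 (iv7 F340943)))
theorem Q41288 : ∀ i, i < 41288 → P i := stepQ 41287 Q41287 (allL N41287 (tt N44481 (iv1 F340949)) (tt N44478 F340946) (tt N44479 (iv2 F322110)) (tt N63070 (iv3 F322119)) (tt N74351 (iv4 F227414)) (tt N69420 (iv5 F340942)) (tt N62684 (iv6 F183087)) (tt N20884 (iv7 D67752)))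
theorem Q41289 : ∀ i, i < 41289 → P i := stepQ 41288 Q41288 (allL N41288 (tt N68062 F209092) (tt N39255 (iv0 F111448)) (tt N57345 (iv2 F166259)) (tt N21857 F319576) (tt N20886 F103808) (tt N67766 (iv5 F320674)) (tt N20885 (iv6 D67795)) (tt N44465 (iv7 F112191)))
theorem Q41290 : ∀ i, i < 41290 → P i := stepQ 41289 Q41289 (allL N41289 (tt N55903 (iv1 F162080)) (tt N55902 F162084) (tt N55905 (iv2 F162085)) (tt N74357 D144708) (tt N20887 (iv4 D67812)) (tt N74358 D144709) (tt N55923 (iv6 F162147)) (tt N55856 F161958))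
theorem Q41291 : ∀ i, i < 41291 → P i := stepQ 41290 Q41290 (allL N41290 (tt N33063 F162030) (tt N58400 F169288) (tt N20889 F103827) (tt N74359 D144710) (tt N20888 (iv4 D67815)) (tt N74360 D144711) (tt N74361 D144712) (tt N55906 (iv7 F162091)))
theorem Q41292 : ∀ i, i < 41292 → P i := stepQ 41291 Q41291 (allL N41291 (tt N57635 F167262) (tt N57632 F167255) (tt N20890 F103828) (tt N62592 (iv3 F182646)) (tt N74361 (iv4 F227546)) (tt N66437 (iv5 F204160)) (tt N20888 (iv6 D67816)) (tt N66437 (iv7 F204161)))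
theorem Q41293 : ∀ i, i < 41293 → P i := stepQ 41292 Q41292 (allL N41292 (tt N20889 (iv1 D67818)) (tt N55906 (iv0 F162093)) (tt N58400 (iv2 F169285)) (tt N74362 D144713) (tt N33066 (iv4 F111231)) (tt N74363 D144714) (tt N62698 F183138) (tt N33063 F111446))
theorem Q41294 : ∀ i, i < 41294 → P i := stepQ 41293 Q41293 (allL N41293 (tt N74364 D144720) (tt N57604 (iv0 F167214)) (tt N74360 (iv2 F227543)) (tt N63177 F323331) (tt N74365 D144721) (tt N20889 (iv5 D67820)) (tt N63165 (iv6 F351849)) (tt N62591 (iv7 F182639)))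
theorem Q41295 : ∀ i, i < 41295 → P i := stepQ 41294 Q41294 (allL N41294 (tt N74366 D144723) (tt N74367 D144724) (tt N74361 (iv2 F227545)) (tt N63178 (iv3 F321535)) (tt N20890 F103832) (tt N63166 (iv5 F351847)) (tt N20889 (iv6 D67821)) (tt N74368 D144726))
theorem Q41296 : ∀ i, i < 41296 → P i := stepQ 41295 Q41295 (allL N41295 (tt N66437 (iv1 F204163)) (tt N20890 (iv0 D67822)) (tt N57635 F202561) (tt N74369 D144727) (tt N74370 D144728) (tt N29678 F111409) (tt N37892 (iv6 F111410)) (tt N57632 F202557))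
theorem Q41297 : ∀ i, i < 41297 → P i := stepQ 41296 Q41296 (allL N41296 (tt N20890 (iv1 D67823)) (tt N66437 (iv0 F204162)) (tt N57632 (iv2 F202564)) (tt N70242 (iv3 F217051)) (tt N74371 D144729) (tt N29679 (iv5 F111407)) (tt N55886 (iv6 F162042)) (tt N57635 F202563))
theorem Q41298 : ∀ i, i < 41298 → P i := stepQ 41297 Q41297 (allL N41297 (tt N57632 F167254) (tt N57635 (iv0 F167261)) (tt N66437 (iv2 F204159)) (tt N20892 F103833) (tt N74368 (iv4 F227566)) (tt N20890 (iv5 D67824)) (tt N30592 (iv6 F111402)) (tt N20890 (iv7 F103835)))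
theorem Q41299 : ∀ i, i < 41299 → P i := stepQ 41298 Q41298 (allL N41298 (tt N71375 (iv1 F219996)) (tt N30620 (iv0 F103855)) (tt N66333 (iv2 F203981)) (tt N41430 F319661) (tt N20893 (iv4 D67834)) (tt N74372 D144754) (tt N74373 D144755) (tt N41428 (iv7 F321597)))
theorem Q41300 : ∀ i, i < 41300 → P i := stepQ 41299 Q41299 (allL N41299 (tt N55998 F162249) (tt N69074 (iv0 F212736)) (tt N66334 (iv2 F203985)) (tt N20894 F103856) (tt N74373 (iv4 F227609)) (tt N36883 F103857) (tt N20893 (iv6 D67835)) (tt N55941 (iv7 F162200)))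
theorem Q41301 : ∀ i, i < 41301 → P i := stepQ 41300 Q41300 (allL N41300 (tt N57313 (iv1 F166034)) (tt N38855 F103878) (tt N57390 F166351) (tt N34562 F318349) (tt N37302 F103877) (tt N20898 (iv5 D67842)) (tt N74374 D144764) (tt N37009 F103876))
theorem Q41302 : ∀ i, i < 41302 → P i := stepQ 41301 Q41301 (allL N41301 (tt N56153 F163115) (tt N74375 D144765) (tt N56623 (iv2 F164469)) (tt N20899 (iv3 D67843)) (tt N36242 F103879) (tt N60871 (iv5 F177094)) (tt N31363 F103880) (tt N57257 (iv7 F165914)))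
theorem Q41303 : ∀ i, i < 41303 → P i := stepQ 41302 Q41302 (allL N41302 (tt N21483 F103883) (tt N21477 (iv0 F103884)) (tt N21480 (iv2 F103885)) (tt N20900 (iv3 D67844)) (tt N20944 F103881) (tt N60870 (iv5 F177086)) (tt N45157 (iv6 F114653)) (tt N21481 F103882))
theorem Q41304 : ∀ i, i < 41304 → P i := stepQ 41303 Q41303 (allL N41303 (tt N20997 F103887) (tt N60752 F176822) (tt N60717 (iv2 F176766)) (tt N45157 F114655) (tt N62593 (iv4 F182654)) (tt N61230 (iv5 F178394)) (tt N20900 (iv6 D67845)) (tt N31367 F103886))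
theorem Q41305 : ∀ i, i < 41305 → P i := stepQ 41304 Q41304 (allL N41304 (tt N37328 (iv1 F328437)) (tt N37327 (iv0 F328438)) (tt N71816 F328038) (tt N20904 F103894) (tt N65701 F328039) (tt N37294 F103895) (tt N20902 (iv6 D67848)) (tt N65700 (iv7 F328441)))
theorem Q41306 : ∀ i, i < 41306 → P i := stepQ 41305 Q41305 (allL N41305 (tt N74376 D144778) (tt N74377 D144779) (tt N60052 (iv2 F175389)) (tt N60714 (iv3 F332780)) (tt N20904 F103897) (tt N74378 D144780) (tt N20903 (iv6 D67850)) (tt N65717 (iv7 F364799)))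
theorem Q41307 : ∀ i, i < 41307 → P i := stepQ 41306 Q41306 (allL N41306 (tt N60054 (iv1 F175397)) (tt N20904 (iv0 D67851)) (tt N32944 (iv2 F161790)) (tt N74379 D144782) (tt N74380 D144783) (tt N74381 D144784) (tt N29603 F103898) (tt N60053 (iv7 F175392)))
theorem Q41308 : ∀ i, i < 41308 → P i := stepQ 41307 Q41307 (allL N41307 (tt N20904 (iv1 D67852)) (tt N60054 F175396) (tt N60053 F175393) (tt N74382 D144785) (tt N74383 D144786) (tt N74384 D144787) (tt N74385 D144788) (tt N32944 F161791))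
theorem Q41309 : ∀ i, i < 41309 → P i := stepQ 41308 Q41308 (allL N41308 (tt N60053 (iv1 F175391)) (tt N32944 F175394) (tt N60054 (iv2 F175395)) (tt N65700 (iv3 F328439)) (tt N65717 (iv4 F364798)) (tt N37299 F103899) (tt N60720 (iv6 F176779)) (tt N20904 (iv7 D67853)))
theorem Q41310 : ∀ i, i < 41310 → P i := stepQ 41309 Q41309 (allL N41309 (tt N41620 (iv1 F104578)) (tt N60780 F176874) (tt N44594 (iv2 F112650)) (tt N61035 (iv3 F177710)) (tt N60874 (iv4 F177107)) (tt N20905 (iv5 D67854)) (tt N38857 (iv6 F327482)) (tt N60890 (iv7 F177147)))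
theorem Q41311 : ∀ i, i < 41311 → P i := stepQ 41310 Q41310 (allL N41310 (tt N60780 (iv1 F176875)) (tt N41620 (iv0 F104577)) (tt N60890 (iv2 F177146)) (tt N21496 F103900) (tt N60873 (iv4 F177101)) (tt N20906 (iv5 D67855)) (tt N38841 (iv6 F327483)) (tt N44594 (iv7 F112652)))
theorem Q41312 : ∀ i, i < 41312 → P i := stepQ 41311 Q41311 (allL N41311 (tt N34259 F103906) (tt N45302 F314861) (tt N20909 F103904) (tt N41818 (iv3 F104933)) (tt N71810 (iv4 F328581)) (tt N34116 F103905) (tt N20907 (iv6 D67857)) (tt N74386 D144794))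
theorem Q41313 : ∀ i, i < 41313 → P i := stepQ 41312 Q41312 (allL N41312 (tt N62899 (iv1 F184077)) (tt N62896 (iv0 F184069)) (tt N39268 F328189) (tt N72698 (iv3 F222938)) (tt N58828 F328190) (tt N20908 (iv5 D67860)) (tt N37803 (iv6 F328575)) (tt N39566 F328191))
theorem Q41314 : ∀ i, i < 41314 → P i := stepQ 41313 Q41313 (allL N41313 (tt N74387 D144801) (tt N74388 D144802) (tt N71810 (iv2 F328580)) (tt N72699 (iv3 F222941)) (tt N20909 F103915) (tt N71182 (iv5 F365607)) (tt N20908 (iv6 D67861)) (tt N74389 D144804))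
theorem Q41315 : ∀ i, i < 41315 → P i := stepQ 41314 Q41314 (allL N41314 (tt N74386 (iv1 F227688)) (tt N20909 (iv0 D67862)) (tt N34259 (iv2 F162731)) (tt N56142 (iv3 F340870)) (tt N74390 D144806) (tt N48442 F305758) (tt N34169 F103916) (tt N45302 F314866))
theorem Q41316 : ∀ i, i < 41316 → P i := stepQ 41315 Q41315 (allL N41315 (tt N20909 (iv1 D67863)) (tt N74386 F227687) (tt N45302 (iv2 F312419)) (tt N41845 F188585) (tt N74391 D144808) (tt N63082 (iv5 F306196)) (tt N45299 F310167) (tt N34259 F162732))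
theorem Q41317 : ∀ i, i < 41317 → P i := stepQ 41316 Q41316 (allL N41316 (tt N45302 F314862) (tt N34259 (iv0 F104923)) (tt N74386 (iv2 F227684)) (tt N20911 F103917) (tt N74389 (iv4 F227699)) (tt N37384 F103918) (tt N41813 (iv6 F104922)) (tt N20909 (iv7 D67864)))
theorem Q41318 : ∀ i, i < 41318 → P i := stepQ 41317 Q41317 (allL N41317 (tt N33644 F232494) (tt N41782 F232495) (tt N41780 (iv2 F232552)) (tt N20910 (iv3 D67865)) (tt N42450 (iv4 F314748)) (tt N43913 F308176) (tt N21662 F312359) (tt N34353 F103919))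
theorem Q41319 : ∀ i, i < 41319 → P i := stepQ 41318 Q41318 (allL N41318 (tt N41817 (iv1 F104931)) (tt N20915 (iv0 D67866)) (tt N36308 (iv2 F103921)) (tt N74392 D144815) (tt N21524 F103920) (tt N42049 (iv5 F105391)) (tt N74393 D144816) (tt N36290 (iv7 F103922)))
theorem Q41320 : ∀ i, i < 41320 → P i := stepQ 41319 Q41319 (allL N41319 (tt N20915 (iv1 D67867)) (tt N41817 (iv0 F104930)) (tt N36290 F103925) (tt N59937 (iv3 F174741)) (tt N21525 (iv4 F103924)) (tt N42048 (iv5 F105342)) (tt N74394 D144817) (tt N36308 F103923))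
theorem Q41321 : ∀ i, i < 41321 → P i := stepQ 41320 Q41320 (allL N41320 (tt N21359 F103926) (tt N21363 F103927) (tt N41968 (iv2 F105194)) (tt N59980 (iv3 F175070)) (tt N51976 (iv4 F317122)) (tt N20915 (iv5 D67868)) (tt N74395 D144818) (tt N41819 (iv7 F104936)))
theorem Q41322 : ∀ i, i < 41322 → P i := stepQ 41321 Q41321 (allL N41321 (tt N74396 D144819) (tt N66840 (iv0 F340249)) (tt N41969 (iv2 F105196)) (tt N72681 (iv3 F222866)) (tt N20916 F103928) (tt N67995 (iv5 F333943)) (tt N20915 (iv6 D67869)) (tt N67994 (iv7 F333921)))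
theorem Q41323 : ∀ i, i < 41323 → P i := stepQ 41322 Q41322 (allL N41322 (tt N41972 (iv1 F105202)) (tt N20916 (iv0 D67870)) (tt N41970 F200425) (tt N34548 F200426) (tt N74397 D144823) (tt N65224 (iv5 F200441)) (tt N55201 (iv6 F308700)) (tt N41971 F200427))
theorem Q41324 : ∀ i, i < 41324 → P i := stepQ 41323 Q41323 (allL N41323 (tt N20916 (iv1 D67871)) (tt N41972 F105201) (tt N41971 F200423) (tt N74398 D144825) (tt N42429 (iv4 F333934)) (tt N65221 (iv5 F200420)) (tt N74399 D144827) (tt N41970 (iv7 F200424)))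
theorem Q41325 : ∀ i, i < 41325 → P i := stepQ 41324 Q41324 (allL N41324 (tt N41971 (iv1 F105198)) (tt N41970 F105200) (tt N41972 (iv2 F105199)) (tt N20919 F103929) (tt N67994 (iv4 F333920)) (tt N43413 (iv5 F108785)) (tt N41823 (iv6 F104941)) (tt N20916 (iv7 D67872)))
theorem Q41326 : ∀ i, i < 41326 → P i := stepQ 41325 Q41325 (allL N41325 (tt N41774 (iv1 F233148)) (tt N33646 F233145) (tt N38322 (iv2 F311693)) (tt N20917 (iv3 D67874)) (tt N68437 (iv4 F312071)) (tt N38313 F309868) (tt N74400 D144832) (tt N41773 F232598))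
theorem Q41327 : ∀ i, i < 41327 → P i := stepQ 41326 Q41326 (allL N41326 (tt N42257 F105751) (tt N41043 F308978) (tt N41815 F200209) (tt N38313 F308979) (tt N37491 F308980) (tt N20917 (iv5 D67876)) (tt N63734 F189102) (tt N37490 F308981))
theorem Q41328 : ∀ i, i < 41328 → P i := stepQ 41327 Q41327 (allL N41327 (tt N33622 (iv1 F105973)) (tt N34600 F310814) (tt N41816 F200103) (tt N74400 (iv3 F227743)) (tt N21674 (iv4 F312652)) (tt N33812 F103931) (tt N20917 (iv6 D67877)) (tt N40837 F318136))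
theorem Q41329 : ∀ i, i < 41329 → P i := stepQ 41328 Q41328 (allL N41328 (tt N41958 (iv1 F105167)) (tt N21084 F103936) (tt N21362 F103934) (tt N56063 (iv3 F162482)) (tt N21331 F103937) (tt N20921 (iv5 D67883)) (tt N68412 (iv6 F210318)) (tt N21358 F103935))
theorem Q41330 : ∀ i, i < 41330 → P i := stepQ 41329 Q41329 (allL N41329 (tt N21282 F103940) (tt N41656 F104654) (tt N20925 F103938) (tt N52545 (iv3 F340696)) (tt N20924 (iv4 D67884)) (tt N51976 F319397) (tt N27478 (iv6 F320369)) (tt N36292 F103939))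
theorem Q41331 : ∀ i, i < 41331 → P i := stepQ 41330 Q41330 (allL N41330 (tt N36610 F103943) (tt N24292 F315254) (tt N20926 F103941) (tt N41664 (iv3 F104670)) (tt N27478 F322039) (tt N36460 F103942) (tt N20924 (iv6 D67885)) (tt N47708 (iv7 F319341)))
theorem Q41332 : ∀ i, i < 41332 → P i := stepQ 41331 Q41331 (allL N41331 (tt N27849 F318871) (tt N31795 F103944) (tt N51976 (iv2 F317121)) (tt N73400 (iv3 F224602)) (tt N41968 (iv4 F105195)) (tt N20925 (iv5 D67886)) (tt N74401 D144839) (tt N41657 (iv7 F104656)))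
theorem Q41333 : ∀ i, i < 41333 → P i := stepQ 41332 Q41332 (allL N41332 (tt N47708 F315258) (tt N20926 (iv0 D67888)) (tt N36610 (iv2 F185357)) (tt N74402 D144844) (tt N27430 (iv4 F317478)) (tt N74403 D144846) (tt N36520 F103946) (tt N24292 F315259))
theorem Q41334 : ∀ i, i < 41334 → P i := stepQ 41333 Q41333 (allL N41333 (tt N24292 F315256) (tt N36610 (iv0 F205239)) (tt N47708 (iv2 F319340)) (tt N20929 F103947) (tt N27479 F324997) (tt N37620 F103948) (tt N41661 (iv6 F104661)) (tt N20926 (iv7 D67890)))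
theorem Q41335 : ∀ i, i < 41335 → P i := stepQ 41334 Q41334 (allL N41334 (tt N41689 F109836) (tt N21078 F109837) (tt N41688 F110535) (tt N20927 (iv3 D67891)) (tt N48129 (iv4 F130731)) (tt N33819 F305139) (tt N29818 F103949) (tt N41668 (iv7 F104681)))
theorem Q41336 : ∀ i, i < 41336 → P i := stepQ 41335 Q41335 (allL N41335 (tt N41434 F104181) (tt N68420 (iv0 F210358)) (tt N35000 (iv2 F301129)) (tt N33819 F305138) (tt N24714 (iv4 F302786)) (tt N20927 (iv5 D67892)) (tt N21815 F103951) (tt N38337 F103952))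
theorem Q41337 : ∀ i, i < 41337 → P i := stepQ 41336 Q41336 (allL N41336 (tt N56037 (iv1 F162399)) (tt N56038 (iv0 F162404)) (tt N56252 (iv2 F163278)) (tt N45188 (iv3 F114734)) (tt N55725 (iv4 F161519)) (tt N20930 (iv5 D67895)) (tt N74404 D144853) (tt N57437 (iv7 F166734)))
theorem Q41338 : ∀ i, i < 41338 → P i := stepQ 41337 Q41337 (allL N41337 (tt N23340 F103963) (tt N57447 F166772) (tt N45319 (iv2 F115169)) (tt N45189 (iv3 F114739)) (tt N20931 F103962) (tt N63269 (iv5 F186663)) (tt N20930 (iv6 D67896)) (tt N45317 (iv7 F115155)))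
theorem Q41339 : ∀ i, i < 41339 → P i := stepQ 41338 Q41338 (allL N41338 (tt N56038 (iv1 F162405)) (tt N56037 (iv0 F162398)) (tt N57437 (iv2 F166732)) (tt N56249 (iv3 F163273)) (tt N55726 F162400) (tt N20933 (iv5 D67897)) (tt N74405 D144854) (tt N56252 (iv7 F163280)))
theorem Q41340 : ∀ i, i < 41340 → P i := stepQ 41339 Q41339 (allL N41339 (tt N74406 D144858) (tt N73397 (iv0 F323409)) (tt N20940 F103966) (tt N36293 F103967) (tt N41708 F322914) (tt N36468 F103968) (tt N20934 (iv6 D67899)) (tt N74407 D144860))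
theorem Q41341 : ∀ i, i < 41341 → P i := stepQ 41340 Q41340 (allL N41340 (tt N45106 F114556) (tt N20993 (iv0 F103972)) (tt N45093 (iv2 F114517)) (tt N21489 F103969) (tt N22880 F103970) (tt N43028 (iv5 F107974)) (tt N20935 (iv6 D67900)) (tt N36662 F103971))
theorem Q41342 : ∀ i, i < 41342 → P i := stepQ 41341 Q41341 (allL N41341 (tt N29890 F103976) (tt N45024 F114389) (tt N21490 F103973) (tt N20936 (iv3 D67901)) (tt N32621 F103974) (tt N55722 (iv5 F161516)) (tt N37286 F103975) (tt N45022 (iv7 F114378)))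
theorem Q41343 : ∀ i, i < 41343 → P i := stepQ 41342 Q41342 (allL N41342 (tt N45095 (iv1 F114529)) (tt N20937 (iv0 D67902)) (tt N29535 (iv2 F103978)) (tt N21492 F103979) (tt N74408 D144861) (tt N21188 F103977) (tt N50932 (iv6 F143094)) (tt N21187 F103980))
theorem Q41344 : ∀ i, i < 41344 → P i := stepQ 41343 Q41343 (allL N41343 (tt N73270 (iv1 F324059)) (tt N73269 (iv0 F324055)) (tt N45094 (iv2 F114524)) (tt N74409 D144864) (tt N20937 (iv4 D67903)) (tt N73255 (iv5 F320816)) (tt N74410 D144866) (tt N60049 (iv7 F175383)))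
theorem Q41345 : ∀ i, i < 41345 → P i := stepQ 41344 Q41344 (allL N41344 (tt N74411 D144867) (tt N69550 (iv0 F329171)) (tt N45090 (iv2 F114506)) (tt N32487 F103981) (tt N74410 (iv4 F227810)) (tt N21960 F103982) (tt N20937 (iv6 D67904)) (tt N74412 D144869))
theorem Q41346 : ∀ i, i < 41346 → P i := stepQ 41345 Q41345 (allL N41345 (tt N41775 (iv1 F104890)) (tt N23303 F103985) (tt N29725 F103983) (tt N23077 F321486) (tt N20938 (iv4 D67905)) (tt N35421 F321487) (tt N23075 (iv6 F323168)) (tt N29715 F103984))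
theorem Q41347 : ∀ i, i < 41347 → P i := stepQ 41346 Q41346 (allL N41346 (tt N41708 F191360) (tt N33595 F191361) (tt N29726 F103986) (tt N36309 F103987) (tt N23075 (iv4 F323167)) (tt N45314 (iv5 F115141)) (tt N20938 (iv6 D67906)) (tt N41707 F243392))
theorem Q41348 : ∀ i, i < 41348 → P i := stepQ 41347 Q41347 (allL N41347 (tt N41627 (iv1 F104598)) (tt N20946 F104023) (tt N36288 F103988) (tt N20939 (iv3 D67907)) (tt N41898 (iv4 F105051)) (tt N29707 F103989) (tt N74413 D144874) (tt N29720 F103990))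
theorem Q41349 : ∀ i, i < 41349 → P i := stepQ 41348 Q41348 (allL N41348 (tt N23303 F103993) (tt N41775 (iv0 F104889)) (tt N29715 F103991) (tt N73660 (iv3 F325091)) (tt N20939 (iv4 D67908)) (tt N74414 D144876) (tt N74415 D144877) (tt N29725 F103992))
theorem Q41350 : ∀ i, i < 41350 → P i := stepQ 41349 Q41349 (allL N41349 (tt N33575 (iv1 F243195)) (tt N41671 F243192) (tt N29716 F103994) (tt N74413 (iv3 F227826)) (tt N74415 (iv4 F227832)) (tt N45194 (iv5 F114765)) (tt N20939 (iv6 D67909)) (tt N41670 (iv7 F243115)))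
theorem Q41351 : ∀ i, i < 41351 → P i := stepQ 41350 Q41350 (allL N41350 (tt N74407 (iv1 F227799)) (tt N20940 (iv0 D67913)) (tt N74406 (iv2 F230320)) (tt N74416 D144890) (tt N74417 D144891) (tt N42977 F307632) (tt N74418 D144893) (tt N73397 (iv7 F323414)))
theorem Q41352 : ∀ i, i < 41352 → P i := stepQ 41351 Q41351 (allL N41351 (tt N20940 (iv1 D67914)) (tt N74407 F227798) (tt N73397 (iv2 F323411)) (tt N74419 D144895) (tt N45222 (iv4 F323529)) (tt N42976 F306254) (tt N41665 F321840) (tt N74406 (iv7 F230321)))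
theorem Q41353 : ∀ i, i < 41353 → P i := stepQ 41352 Q41352 (allL N41352 (tt N73397 (iv1 F323410)) (tt N74406 F227797) (tt N74407 (iv2 F227794)) (tt N20943 F103998) (tt N33595 (iv4 F323336)) (tt N42852 (iv5 F107332)) (tt N41667 (iv6 F104680)) (tt N20940 (iv7 D67915)))
theorem Q41354 : ∀ i, i < 41354 → P i := stepQ 41353 Q41353 (allL N41353 (tt N41634 F199847) (tt N20959 F199848) (tt N35492 F199849) (tt N20941 (iv3 D67917)) (tt N61447 (iv4 F335147)) (tt N35491 F199850) (tt N61445 (iv6 F315697)) (tt N41633 F199851))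
theorem Q41355 : ∀ i, i < 41355 → P i := stepQ 41354 Q41354 (allL N41354 (tt N33579 (iv1 F131504)) (tt N33828 F313292) (tt N41662 (iv2 F199979)) (tt N61445 (iv3 F315696)) (tt N34601 F313293) (tt N36384 F104000) (tt N20941 (iv6 D67920)) (tt N41674 F199978))
theorem Q41356 : ∀ i, i < 41356 → P i := stepQ 41355 Q41355 (allL N41355 (tt N20964 F104004) (tt N41879 (iv0 F105035)) (tt N56054 (iv2 F162429)) (tt N21358 F104003) (tt N62737 (iv4 F183418)) (tt N20944 (iv5 D67926)) (tt N74420 D144901) (tt N56063 (iv7 F162484)))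
theorem Q41357 : ∀ i, i < 41357 → P i := stepQ 41356 Q41356 (allL N41356 (tt N20977 F104006) (tt N57443 F166759) (tt N45318 (iv2 F115159)) (tt N21523 F104005) (tt N45157 F114652) (tt N63110 (iv5 F185670)) (tt N20944 (iv6 D67927)) (tt N45326 (iv7 F115247)))
theorem Q41358 : ∀ i, i < 41358 → P i := stepQ 41357 Q41357 (allL N41357 (tt N36288 (iv1 F104012)) (tt N29720 F104009) (tt N20946 F104007) (tt N36285 F104008) (tt N21257 F104010) (tt N20945 (iv5 D67928)) (tt N74421 D144902) (tt N41627 (iv7 F104597)))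
theorem Q41359 : ∀ i, i < 41359 → P i := stepQ 41358 Q41358 (allL N41358 (tt N21572 F104016) (tt N21571 F104018) (tt N20947 F104013) (tt N44488 (iv3 F112259)) (tt N32417 F104014) (tt N37573 (iv5 F104017)) (tt N20945 (iv6 D67929)) (tt N21567 F104015))
theorem Q41360 : ∀ i, i < 41360 → P i := stepQ 41359 Q41359 (allL N41359 (tt N20946 (iv1 D67931)) (tt N41627 F104599) (tt N29720 F104021) (tt N21524 (iv3 F104020)) (tt N41899 (iv4 F105054)) (tt N29718 F104019) (tt N74422 D144903) (tt N36288 F104022))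
theorem Q41361 : ∀ i, i < 41361 → P i := stepQ 41360 Q41360 (allL N41360 (tt N74423 D144904) (tt N74424 D144905) (tt N74421 (iv2 F227866)) (tt N20953 F104024) (tt N62758 (iv4 F183483)) (tt N37575 F104025) (tt N20946 (iv6 D67932)) (tt N74425 D144906))
theorem Q41362 : ∀ i, i < 41362 → P i := stepQ 41361 Q41361 (allL N41361 (tt N20978 (iv1 F104028)) (tt N20981 F104029) (tt N42675 (iv2 F106797)) (tt N22813 F104026) (tt N42675 (iv4 F106798)) (tt N42932 (iv5 F107736)) (tt N20949 (iv6 D67933)) (tt N22809 F104027))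
theorem Q41363 : ∀ i, i < 41363 → P i := stepQ 41362 Q41362 (allL N41362 (tt N74426 D144907) (tt N32859 F312738) (tt N62700 (iv2 F183140)) (tt N45224 (iv3 F114844)) (tt N32846 (iv4 F315223)) (tt N68531 (iv5 F210778)) (tt N20950 (iv6 D67934)) (tt N74427 D144909))
theorem Q41364 : ∀ i, i < 41364 → P i := stepQ 41363 Q41363 (allL N41363 (tt N20958 (iv1 F104031)) (tt N20952 (iv0 D67935)) (tt N41629 F104605) (tt N74428 D144910) (tt N21279 F104030) (tt N74429 D144911) (tt N74430 D144912) (tt N21307 (iv7 F104032)))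
theorem Q41365 : ∀ i, i < 41365 → P i := stepQ 41364 Q41364 (allL N41364 (tt N20952 (iv1 D67936)) (tt N20958 F104033) (tt N21307 (iv2 F104035)) (tt N74431 D144913) (tt N21305 F104034) (tt N74432 D144914) (tt N74433 D144915) (tt N41629 (iv7 F104603)))
theorem Q41366 : ∀ i, i < 41366 → P i := stepQ 41365 Q41365 (allL N41365 (tt N56205 (iv1 F340909)) (tt N74434 D144917) (tt N50033 (iv2 F322604)) (tt N20952 (iv3 D67937)) (tt N62757 (iv4 F183480)) (tt N49319 (iv5 F322607)) (tt N26826 F320840) (tt N41630 (iv7 F104606)))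
theorem Q41367 : ∀ i, i < 41367 → P i := stepQ 41366 Q41366 (allL N41366 (tt N34086 F317675) (tt N74435 D144921) (tt N41638 (iv2 F104624)) (tt N49319 F324133) (tt N41404 F104097) (tt N20952 (iv5 D67938)) (tt N49317 (iv6 F325365)) (tt N41631 (iv7 F104608)))
theorem Q41368 : ∀ i, i < 41368 → P i := stepQ 41367 Q41367 (allL N41367 (tt N50071 F316437) (tt N42393 F316438) (tt N41639 (iv2 F104626)) (tt N26826 (iv3 F318686)) (tt N20953 F104036) (tt N49318 (iv5 F318687)) (tt N20952 (iv6 D67939)) (tt N50034 F316439))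
theorem Q41369 : ∀ i, i < 41369 → P i := stepQ 41368 Q41368 (allL N41368 (tt N41641 (iv1 F104633)) (tt N20953 (iv0 D67940)) (tt N36645 F184659) (tt N41688 F184660) (tt N45135 F316454) (tt N73974 (iv5 F226409)) (tt N36641 (iv6 F184618)) (tt N41640 (iv7 F184742)))
theorem Q41370 : ∀ i, i < 41370 → P i := stepQ 41369 Q41369 (allL N41369 (tt N41640 (iv1 F104628)) (tt N36645 (iv0 F184740)) (tt N41641 (iv2 F104629)) (tt N74425 (iv3 F227872)) (tt N50034 (iv4 F315228)) (tt N37583 F104037) (tt N41634 (iv6 F104614)) (tt N20953 (iv7 D67942)))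
theorem Q41371 : ∀ i, i < 41371 → P i := stepQ 41370 Q41370 (allL N41370 (tt N74436 D144928) (tt N20980 F106662) (tt N62593 (iv2 F182652)) (tt N21656 F104038) (tt N60717 (iv4 F176768)) (tt N44989 (iv5 F114296)) (tt N20954 (iv6 D67943)) (tt N66063 (iv7 F203257)))
theorem Q41372 : ∀ i, i < 41372 → P i := stepQ 41371 Q41371 (allL N41371 (tt N32515 F104041) (tt N32508 F104042) (tt N20956 F104039) (tt N41627 (iv3 F104594)) (tt N62773 (iv4 F183519)) (tt N20955 (iv5 D67944)) (tt N74437 D144929) (tt N36285 F104040))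
theorem Q41373 : ∀ i, i < 41373 → P i := stepQ 41372 Q41372 (allL N41372 (tt N74438 D144931) (tt N74439 D144932) (tt N74437 (iv2 F227904)) (tt N20959 F104048) (tt N62857 (iv4 F183938)) (tt N21560 F104049) (tt N20956 (iv6 D67946)) (tt N74440 D144933))
theorem Q41374 : ∀ i, i < 41374 → P i := stepQ 41373 Q41373 (allL N41373 (tt N74441 D144934) (tt N64004 (iv0 F232611)) (tt N45201 (iv2 F114770)) (tt N21190 F104050) (tt N62722 (iv4 F183354)) (tt N21562 F104051) (tt N20957 (iv6 D67947)) (tt N74442 D144936))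
theorem Q41375 : ∀ i, i < 41375 → P i := stepQ 41374 Q41374 (allL N41374 (tt N73851 (iv1 F341545)) (tt N74443 D144938) (tt N74444 D144939) (tt N20958 (iv3 D67948)) (tt N62856 (iv4 F183937)) (tt N74445 D144940) (tt N74446 D144941) (tt N41637 (iv7 F104623)))
theorem Q41376 : ∀ i, i < 41376 → P i := stepQ 41375 Q41375 (allL N41375 (tt N74435 (iv1 F227890)) (tt N34086 F317674) (tt N41631 (iv2 F104607)) (tt N74445 (iv3 F227914)) (tt N41403 F104095) (tt N20958 (iv5 D67949)) (tt N74447 D144942) (tt N41638 (iv7 F104625)))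
theorem Q41377 : ∀ i, i < 41377 → P i := stepQ 41376 Q41376 (allL N41376 (tt N74448 D144943) (tt N74449 D144944) (tt N41632 (iv2 F104609)) (tt N74446 (iv3 F227915)) (tt N20959 F104052) (tt N74450 D144945) (tt N20958 (iv6 D67950)) (tt N74451 D144946))
theorem Q41378 : ∀ i, i < 41378 → P i := stepQ 41377 Q41377 (allL N41377 (tt N41633 (iv1 F104611)) (tt N35492 (iv0 F155201)) (tt N41634 (iv2 F104612)) (tt N74440 (iv3 F227909)) (tt N74451 (iv4 F227916)) (tt N21564 F104053) (tt N41641 (iv6 F104630)) (tt N20959 (iv7 D67953)))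
theorem Q41379 : ∀ i, i < 41379 → P i := stepQ 41378 Q41378 (allL N41378 (tt N74452 D144947) (tt N43049 F338526) (tt N73678 (iv2 F225398)) (tt N20960 (iv3 D67954)) (tt N44602 (iv4 F112673)) (tt N73648 (iv5 F225337)) (tt N61370 F316734) (tt N46076 F316735))
theorem Q41380 : ∀ i, i < 41380 → P i := stepQ 41379 Q41379 (allL N41379 (tt N41646 F104643) (tt N41643 (iv0 F104637)) (tt N20972 F104054) (tt N73648 (iv3 F225336)) (tt N32808 F318226) (tt N20960 (iv5 D67955)) (tt N32812 (iv6 F320379)) (tt N41405 (iv7 F104099)))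
theorem Q41381 : ∀ i, i < 41381 → P i := stepQ 41380 Q41380 (allL N41380 (tt N20976 (iv1 F104060)) (tt N20961 (iv0 D67957)) (tt N20974 (iv2 F264339)) (tt N66683 (iv3 F348009)) (tt N34130 F319720) (tt N69062 (iv5 F316355)) (tt N66761 F205357) (tt N20975 (iv7 F264345)))
theorem Q41382 : ∀ i, i < 41382 → P i := stepQ 41381 Q41381 (allL N41381 (tt N20961 (iv1 D67958)) (tt N20976 F104058) (tt N20975 F264346) (tt N74453 D144960) (tt N34129 (iv4 F316464)) (tt N69061 (iv5 F316351)) (tt N74454 D144963) (tt N20974 F264347))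
theorem Q41383 : ∀ i, i < 41383 → P i := stepQ 41382 Q41382 (allL N41382 (tt N66063 F203260) (tt N62593 (iv0 F182656)) (tt N74436 F227900) (tt N20962 (iv3 D67960)) (tt N32603 F104063) (tt N33897 F104064) (tt N21588 F104065) (tt N20980 F104066))
theorem Q41384 : ∀ i, i < 41384 → P i := stepQ 41383 Q41383 (allL N41383 (tt N45318 F115164) (tt N45326 (iv0 F115248)) (tt N57443 F166758) (tt N20963 (iv3 D67961)) (tt N32425 F104070) (tt N33894 F104067) (tt N20980 F104068) (tt N20977 F104069))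
theorem Q41385 : ∀ i, i < 41385 → P i := stepQ 41384 Q41384 (allL N41384 (tt N42675 (iv1 F106803)) (tt N22809 (iv0 F104075)) (tt N20981 F104071) (tt N36663 (iv3 F104076)) (tt N20963 (iv4 D67962)) (tt N22243 F104074) (tt N20981 F104072) (tt N20978 F104073))
theorem Q41386 : ∀ i, i < 41386 → P i := stepQ 41385 Q41385 (allL N41385 (tt N56063 (iv1 F162485)) (tt N56054 F162434) (tt N20964 (iv2 D67964)) (tt N60862 (iv3 F177056)) (tt N33755 F104077) (tt N21097 F104078) (tt N74455 D144964) (tt N41879 (iv7 F105032)))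
theorem Q41387 : ∀ i, i < 41387 → P i := stepQ 41386 Q41386 (allL N41386 (tt N74456 D144965) (tt N74457 D144966) (tt N74455 (iv2 F227934)) (tt N20966 F104079) (tt N42241 (iv4 F105681)) (tt N63159 (iv5 F185792)) (tt N20964 (iv6 D67965)) (tt N74458 D144967))
theorem Q41388 : ∀ i, i < 41388 → P i := stepQ 41387 Q41387 (allL N41387 (tt N20965 (iv1 D67966)) (tt N20968 F104080) (tt N34087 F316856) (tt N56179 (iv3 F319198)) (tt N41715 F104811) (tt N74435 (iv5 F227891)) (tt N34132 (iv6 F317129)) (tt N34057 F316857))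
theorem Q41389 : ∀ i, i < 41389 → P i := stepQ 41388 Q41388 (allL N41388 (tt N29564 F331478) (tt N74459 D144970) (tt N74460 D144971) (tt N20965 (iv3 D67967)) (tt N42240 (iv4 F105680)) (tt N74461 D144972) (tt N74462 D144973) (tt N62702 (iv7 F183162)))
theorem Q41390 : ∀ i, i < 41390 → P i := stepQ 41389 Q41389 (allL N41389 (tt N41995 (iv1 F105238)) (tt N74463 D144974) (tt N62707 (iv2 F183169)) (tt N74461 (iv3 F227938)) (tt N41401 (iv4 F104092)) (tt N20965 (iv5 D67968)) (tt N74464 D144975) (tt N62703 (iv7 F183164)))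
theorem Q41391 : ∀ i, i < 41391 → P i := stepQ 41390 Q41390 (allL N41390 (tt N74465 D144976) (tt N74466 D144977) (tt N62708 (iv2 F183171)) (tt N74462 (iv3 F227939)) (tt N20966 F104081) (tt N74467 D144978) (tt N20965 (iv6 D67969)) (tt N74468 D144979))
theorem Q41392 : ∀ i, i < 41392 → P i := stepQ 41391 Q41391 (allL N41391 (tt N57680 F317363) (tt N20966 (iv0 D67970)) (tt N56083 (iv2 F278606)) (tt N40235 F317364) (tt N74469 D144982) (tt N40231 F317365) (tt N74470 D144984) (tt N40230 (iv7 F317916)))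
theorem Q41393 : ∀ i, i < 41393 → P i := stepQ 41392 Q41392 (allL N41392 (tt N40230 (iv1 F319610)) (tt N56083 (iv0 F325095)) (tt N57680 F317346) (tt N74458 (iv3 F227936)) (tt N74468 (iv4 F227945)) (tt N57673 F317347) (tt N56081 F162542) (tt N20966 (iv7 D67972)))
theorem Q41394 : ∀ i, i < 41394 → P i := stepQ 41393 Q41393 (allL N41393 (tt N33692 F104084) (tt N33695 F104085) (tt N33707 F104082) (tt N43045 F347770) (tt N20967 (iv4 D67973)) (tt N33332 F329154) (tt N74471 D144992) (tt N33706 F104083))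
theorem Q41395 : ∀ i, i < 41395 → P i := stepQ 41394 Q41394 (allL N41394 (tt N62957 F184631) (tt N62959 (iv0 F233836)) (tt N66641 (iv2 F204820)) (tt N20969 F104086) (tt N74471 (iv4 F227957)) (tt N21592 F104087) (tt N20967 (iv6 D67974)) (tt N66711 (iv7 F205209)))
theorem Q41396 : ∀ i, i < 41396 → P i := stepQ 41395 Q41395 (allL N41395 (tt N74472 D144994) (tt N42961 F323600) (tt N74473 D144995) (tt N20968 (iv3 D67975)) (tt N43045 (iv4 F347767)) (tt N74474 D144996) (tt N74475 D144997) (tt N62706 (iv7 F183168)))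
theorem Q41397 : ∀ i, i < 41397 → P i := stepQ 41396 Q41396 (allL N41396 (tt N74463 (iv1 F227940)) (tt N41995 (iv0 F105237)) (tt N62703 (iv2 F183163)) (tt N74474 (iv3 F227961)) (tt N41399 (iv4 F104090)) (tt N20968 (iv5 D67976)) (tt N74476 D144998) (tt N62707 (iv7 F183170)))
theorem Q41398 : ∀ i, i < 41398 → P i := stepQ 41397 Q41397 (allL N41397 (tt N74477 D144999) (tt N42170 (iv0 F184632)) (tt N62704 (iv2 F183165)) (tt N74475 (iv3 F227962)) (tt N20969 F104088) (tt N23850 (iv5 F319883)) (tt N20968 (iv6 D67977)) (tt N66756 (iv7 F205347)))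
theorem Q41399 : ∀ i, i < 41399 → P i := stepQ 41398 Q41398 (allL N41398 (tt N34065 (iv1 F321491)) (tt N55795 (iv0 F321492)) (tt N42220 (iv2 F321493)) (tt N20970 (iv3 D67981)) (tt N42205 F319484) (tt N74478 D145005) (tt N74479 D145006) (tt N42224 F319485))
theorem Q41400 : ∀ i, i < 41400 → P i := stepQ 41399 Q41399 (allL N41399 (tt N41648 (iv1 F104648)) (tt N21111 F104091) (tt N61246 (iv2 F318219)) (tt N74478 (iv3 F227964)) (tt N41396 F104090) (tt N20970 (iv5 D67982)) (tt N74480 D145007) (tt N61352 (iv7 F318210)))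
theorem Q41401 : ∀ i, i < 41401 → P i := stepQ 41400 Q41400 (allL N41400 (tt N74469 (iv1 F334953)) (tt N63809 (iv0 F349973)) (tt N61247 (iv2 F318222)) (tt N74479 (iv3 F227965)) (tt N41619 (iv4 F104573)) (tt N74481 D145010) (tt N20970 (iv6 D67983)) (tt N74482 D145011))
theorem Q41402 : ∀ i, i < 41402 → P i := stepQ 41401 Q41401 (allL N41401 (tt N21111 F104093) (tt N41648 (iv0 F104647)) (tt N61352 (iv2 F318208)) (tt N55786 (iv3 F321213)) (tt N41389 F104092) (tt N20971 (iv5 D67985)) (tt N74483 D145017) (tt N61246 (iv7 F318221)))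
theorem Q41403 : ∀ i, i < 41403 → P i := stepQ 41402 Q41402 (allL N41402 (tt N56082 (iv1 F233217)) (tt N66757 (iv0 F233173)) (tt N61353 (iv2 F318213)) (tt N55787 (iv3 F321215)) (tt N41621 (iv4 F104580)) (tt N64193 (iv5 F338602)) (tt N20971 (iv6 D67986)) (tt N66759 (iv7 F232259)))
theorem Q41404 : ∀ i, i < 41404 → P i := stepQ 41403 Q41403 (allL N41403 (tt N41405 (iv1 F104102)) (tt N20972 (iv0 D67987)) (tt N41646 (iv2 F104639)) (tt N74484 D145022) (tt N41375 (iv4 F104095)) (tt N33585 F104094) (tt N74485 D145023) (tt N41643 (iv7 F104635)))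
theorem Q41405 : ∀ i, i < 41405 → P i := stepQ 41404 Q41404 (allL N41404 (tt N20972 (iv1 D67988)) (tt N41405 (iv0 F104101)) (tt N41643 (iv2 F104634)) (tt N55790 (iv3 F324700)) (tt N41366 (iv4 F104097)) (tt N33586 F104096) (tt N74486 D145025) (tt N41646 (iv7 F104641)))
theorem Q41406 : ∀ i, i < 41406 → P i := stepQ 41405 Q41405 (allL N41405 (tt N41404 F104101) (tt N41403 F104102) (tt N32808 (iv2 F316011)) (tt N74487 D145026) (tt N20972 (iv4 D67989)) (tt N32791 F314386) (tt N32792 (iv6 F316736)) (tt N41379 F104099))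
theorem Q41407 : ∀ i, i < 41407 → P i := stepQ 41406 Q41406 (allL N41406 (tt N63421 (iv1 F321168)) (tt N46004 (iv0 F321169)) (tt N32812 (iv2 F320378)) (tt N73966 (iv3 F226349)) (tt N32792 F319095) (tt N74488 D145030) (tt N20972 (iv6 D67990)) (tt N61363 (iv7 F356881)))
theorem Q41408 : ∀ i, i < 41408 → P i := stepQ 41407 Q41407 (allL N41407 (tt N61385 (iv1 F360659)) (tt N61308 (iv0 F349968)) (tt N61387 (iv2 F316468)) (tt N73967 (iv3 F226350)) (tt N69716 (iv4 F353542)) (tt N20973 (iv5 D67993)) (tt N74488 (iv6 F227984)) (tt N61354 (iv7 F316459)))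
theorem Q41409 : ∀ i, i < 41409 → P i := stepQ 41408 Q41408 (allL N41408 (tt N56066 (iv1 F349448)) (tt N74420 (iv0 F243209)) (tt N74489 D145054) (tt N20974 (iv3 D67996)) (tt N74490 D145055) (tt N74491 D145056) (tt N74492 D145057) (tt N74453 (iv7 F264348)))
theorem Q41410 : ∀ i, i < 41410 → P i := stepQ 41409 Q41409 (allL N41409 (tt N34088 F315232) (tt N34132 (iv0 F317127)) (tt N34130 F318691) (tt N32681 (iv3 F320841)) (tt N20974 (iv4 D67997)) (tt N72507 (iv5 F357966)) (tt N74493 D145063) (tt N34129 F318692))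
theorem Q41411 : ∀ i, i < 41411 → P i := stepQ 41410 Q41410 (allL N41410 (tt N35481 F155291) (tt N41578 F317331) (tt N69062 (iv2 F316354)) (tt N74491 (iv3 F228001)) (tt N74494 D145066) (tt N20974 (iv5 D67998)) (tt N72720 (iv6 F318732)) (tt N69061 (iv7 F316353)))
theorem Q41412 : ∀ i, i < 41412 → P i := stepQ 41411 Q41411 (allL N41411 (tt N66758 (iv1 F205367)) (tt N43939 F313150) (tt N66761 (iv2 F264328)) (tt N74492 (iv3 F228002)) (tt N74493 (iv4 F228006)) (tt N21114 F104105) (tt N20974 (iv6 D67999)) (tt N66760 (iv7 F264337)))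
theorem Q41413 : ∀ i, i < 41413 → P i := stepQ 41412 Q41412 (allL N41412 (tt N62940 (iv1 F251051)) (tt N46608 F317481) (tt N66684 (iv2 F348014)) (tt N20975 (iv3 D68001)) (tt N74495 D145074) (tt N74496 D145075) (tt N74497 D145076) (tt N66683 (iv7 F348011)))
theorem Q41414 : ∀ i, i < 41414 → P i := stepQ 41413 Q41413 (allL N41413 (tt N34132 (iv1 F317128)) (tt N34088 F315231) (tt N34129 F318689) (tt N74498 D145077) (tt N20975 (iv4 D68002)) (tt N74499 D145078) (tt N74500 D145079) (tt N34130 F318690))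
theorem Q41415 : ∀ i, i < 41415 → P i := stepQ 41414 Q41414 (allL N41414 (tt N41578 F317330) (tt N35481 (iv0 F155431)) (tt N69061 (iv2 F316350)) (tt N74496 (iv3 F228026)) (tt N72492 (iv4 F347169)) (tt N20975 (iv5 D68003)) (tt N44128 (iv6 F110865)) (tt N69062 (iv7 F316356)))
theorem Q41416 : ∀ i, i < 41416 → P i := stepQ 41415 Q41415 (allL N41415 (tt N69667 (iv1 F278616)) (tt N74470 (iv0 F264364)) (tt N74454 (iv2 F264354)) (tt N74497 (iv3 F228027)) (tt N74500 (iv4 F228028)) (tt N74501 D145083) (tt N20975 (iv6 D68004)) (tt N74502 D145084))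
theorem Q41417 : ∀ i, i < 41417 → P i := stepQ 41416 Q41416 (allL N41416 (tt N45326 F115251) (tt N45318 (iv0 F115165)) (tt N20977 (iv2 D68010)) (tt N74436 (iv3 F227899)) (tt N32424 (iv4 F104111)) (tt N72777 (iv5 F323310)) (tt N21614 F104110) (tt N57443 (iv7 F166760)))
theorem Q41418 : ∀ i, i < 41418 → P i := stepQ 41417 Q41417 (allL N41417 (tt N22796 F104115) (tt N32419 (iv0 F104116)) (tt N32424 F104112) (tt N45252 (iv3 F114923)) (tt N20977 (iv4 D68011)) (tt N22098 F104117) (tt N21615 F104113) (tt N32425 F104114))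
theorem Q41419 : ∀ i, i < 41419 → P i := stepQ 41418 Q41418 (allL N41418 (tt N29768 F104122) (tt N36621 F104120) (tt N72777 (iv2 F323307)) (tt N20979 F104118) (tt N22144 F104121) (tt N20977 (iv5 D68012)) (tt N41250 F321624) (tt N33894 F104119))
theorem Q41420 : ∀ i, i < 41420 → P i := stepQ 41419 Q41419 (allL N41419 (tt N22234 F104127) (tt N22246 F104126) (tt N22244 F104123) (tt N22531 F104124) (tt N63123 (iv4 F185723)) (tt N20978 (iv5 D68013)) (tt N62583 (iv6 F321293)) (tt N22243 F104125))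
theorem Q41421 : ∀ i, i < 41421 → P i := stepQ 41420 Q41420 (allL N41420 (tt N22245 F104130) (tt N74503 D145101) (tt N33898 F104128) (tt N74504 D145102) (tt N20979 (iv4 D68014)) (tt N74505 D145103) (tt N41251 F321626) (tt N33895 F104129))
theorem Q41422 : ∀ i, i < 41422 → P i := stepQ 41421 Q41421 (allL N41421 (tt N20980 (iv1 D68017)) (tt N74436 F227901) (tt N66063 (iv2 F203254)) (tt N20990 (iv3 F104136)) (tt N31367 (iv4 F104138)) (tt N63158 (iv5 F185787)) (tt N21572 F104137) (tt N62593 (iv7 F182655)))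
theorem Q41423 : ∀ i, i < 41423 → P i := stepQ 41422 Q41422 (allL N41422 (tt N62593 F182658) (tt N66063 (iv0 F203258)) (tt N20980 (iv2 D68018)) (tt N57443 (iv3 F166761)) (tt N61661 (iv4 F179188)) (tt N63496 (iv5 F187726)) (tt N57443 (iv6 F166762)) (tt N74436 (iv7 F227902)))
theorem Q41424 : ∀ i, i < 41424 → P i := stepQ 41423 Q41423 (allL N41423 (tt N36668 F104135) (tt N41442 (iv0 F104227)) (tt N61661 F179191) (tt N45258 (iv3 F114955)) (tt N20980 (iv4 D68019)) (tt N61654 (iv5 F179178)) (tt N32425 F104133) (tt N32603 F104134))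
theorem Q41425 : ∀ i, i < 41425 → P i := stepQ 41424 Q41424 (allL N41424 (tt N42743 F115249) (tt N32820 (iv0 F115167)) (tt N63496 (iv2 F187724)) (tt N20982 F104141) (tt N63457 (iv4 F187540)) (tt N20980 (iv5 D68020)) (tt N73165 (iv6 F348060)) (tt N33897 F104142))
theorem Q41426 : ∀ i, i < 41426 → P i := stepQ 41425 Q41425 (allL N41425 (tt N74503 (iv1 F228063)) (tt N22245 F104145) (tt N33895 F104143) (tt N74506 D145109) (tt N20982 (iv4 D68021)) (tt N74507 D145110) (tt N73186 (iv6 F318711)) (tt N33898 F104144))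
theorem Q41427 : ∀ i, i < 41427 → P i := stepQ 41426 Q41426 (allL N41426 (tt N44136 (iv1 F110887)) (tt N20983 (iv0 D68023)) (tt N42749 (iv2 F107056)) (tt N74508 D145112) (tt N21912 F104148) (tt N63174 (iv5 F185821)) (tt N57610 (iv6 F315143)) (tt N67103 (iv7 F206649)))
theorem Q41428 : ∀ i, i < 41428 → P i := stepQ 41427 Q41427 (allL N41427 (tt N20983 (iv1 D68024)) (tt N44136 (iv0 F110886)) (tt N67103 F206651) (tt N74509 D145114) (tt N22242 (iv4 F104149)) (tt N63175 (iv5 F185825)) (tt N74510 D145115) (tt N42749 (iv7 F107057)))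
theorem Q41429 : ∀ i, i < 41429 → P i := stepQ 41428 Q41428 (allL N41428 (tt N39412 (iv1 F323286)) (tt N57605 (iv0 F323287)) (tt N57594 (iv2 F323288)) (tt N20983 (iv3 D68025)) (tt N20995 F104150) (tt N74511 D145119) (tt N36181 F321596) (tt N41298 F321597))
theorem Q41430 : ∀ i, i < 41430 → P i := stepQ 41429 Q41429 (allL N41429 (tt N74512 D145121) (tt N74513 D145122) (tt N67104 (iv2 F206652)) (tt N74511 (iv3 F228092)) (tt N74514 D145123) (tt N20983 (iv5 D68026)) (tt N74515 D145124) (tt N74516 D145125))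
theorem Q41431 : ∀ i, i < 41431 → P i := stepQ 41430 Q41430 (allL N41430 (tt N67103 (iv1 F206648)) (tt N42749 (iv0 F107058)) (tt N44136 (iv2 F110883)) (tt N41298 (iv3 F319661)) (tt N20984 F104151) (tt N74516 (iv5 F228109)) (tt N74517 D145126) (tt N20983 (iv7 D68027)))
theorem Q41432 : ∀ i, i < 41432 → P i := stepQ 41431 Q41431 (allL N41431 (tt N73335 (iv1 F359897)) (tt N74518 D145128) (tt N44137 (iv2 F110888)) (tt N20996 F104152) (tt N74517 (iv4 F228112)) (tt N21003 F104153) (tt N20984 (iv6 D68028)) (tt N62394 F313282))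
theorem Q41433 : ∀ i, i < 41433 → P i := stepQ 41432 Q41432 (allL N41432 (tt N44316 F341073) (tt N72233 (iv0 F341074)) (tt N66686 (iv2 F243165)) (tt N20986 F104162) (tt N74519 D145149) (tt N20985 (iv5 D68039)) (tt N41227 (iv6 F318727)) (tt N62606 (iv7 F182784)))
theorem Q41434 : ∀ i, i < 41434 → P i := stepQ 41433 Q41433 (allL N41433 (tt N66682 (iv1 F243337)) (tt N51998 (iv0 F308815)) (tt N66687 (iv2 F243157)) (tt N20987 F104163) (tt N51986 (iv4 F315538)) (tt N62711 (iv5 F183275)) (tt N20985 (iv6 D68040)) (tt N66727 (iv7 F243097)))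
theorem Q41435 : ∀ i, i < 41435 → P i := stepQ 41434 Q41434 (allL N41434 (tt N37527 F104180) (tt N41335 (iv0 F104181)) (tt N45592 (iv2 F307874)) (tt N34238 F308009) (tt N34242 (iv4 F308712)) (tt N20989 (iv5 D68068)) (tt N36234 F315955) (tt N45593 F305992))
theorem Q41436 : ∀ i, i < 41436 → P i := stepQ 41435 Q41435 (allL N41435 (tt N37623 F162554) (tt N37621 (iv0 F162553)) (tt N62608 (iv2 F182791)) (tt N56071 (iv3 F318802)) (tt N42296 F316537) (tt N45593 F305989) (tt N42601 F313163) (tt N20989 (iv7 D68069)))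
theorem Q41437 : ∀ i, i < 41437 → P i := stepQ 41436 Q41436 (allL N41436 (tt N45093 F114523) (tt N36662 (iv0 F104202)) (tt N20993 F104201) (tt N60752 (iv3 F176817)) (tt N20992 (iv4 D68082)) (tt N63766 (iv5 F189430)) (tt N45124 (iv6 F114577)) (tt N45106 (iv7 F114557)))
theorem Q41438 : ∀ i, i < 41438 → P i := stepQ 41437 Q41437 (allL N41437 (tt N21656 F104205) (tt N21655 (iv0 F104207)) (tt N20994 F104203) (tt N44135 (iv3 F110876)) (tt N45124 (iv4 F114576)) (tt N36475 (iv5 F104206)) (tt N20992 (iv6 D68083)) (tt N21649 F104204))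
theorem Q41439 : ∀ i, i < 41439 → P i := stepQ 41438 Q41438 (allL N41438 (tt N22530 F104210) (tt N29586 F104211) (tt N63766 F189431) (tt N22893 F104208) (tt N50405 (iv4 F329565)) (tt N20993 (iv5 D68084)) (tt N74520 D145233) (tt N32778 F104209))
theorem Q41440 : ∀ i, i < 41440 → P i := stepQ 41439 Q41439 (allL N41439 (tt N60752 (iv1 F176821)) (tt N20997 (iv0 D68092)) (tt N31367 (iv2 F104215)) (tt N50290 F139429) (tt N66063 (iv4 F203256)) (tt N61229 (iv5 F178388)) (tt N31365 F104216) (tt N60717 (iv7 F176769)))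
theorem Q41441 : ∀ i, i < 41441 → P i := stepQ 41440 Q41440 (allL N41440 (tt N32814 F104221) (tt N32831 F104220) (tt N32829 F104217) (tt N20998 F104218) (tt N28533 F330001) (tt N20997 (iv5 D68093)) (tt N74521 D145257) (tt N32776 F104219))
theorem Q41442 : ∀ i, i < 41442 → P i := stepQ 41441 Q41441 (allL N41441 (tt N74522 D145258) (tt N26595 F157293) (tt N32779 F104222) (tt N74521 (iv3 F228239)) (tt N56931 (iv4 F339959)) (tt N21678 F104223) (tt N20998 (iv6 D68094)) (tt N74523 D145259))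
theorem Q41443 : ∀ i, i < 41443 → P i := stepQ 41442 Q41442 (allL N41442 (tt N41423 F104227) (tt N50744 F142212) (tt N32978 F104224) (tt N26938 F104225) (tt N20999 (iv4 D68095)) (tt N61090 (iv5 F177972)) (tt N34409 F104226) (tt N60995 (iv7 F177545)))
theorem Q41444 : ∀ i, i < 41444 → P i := stepQ 41443 Q41443 (allL N41443 (tt N24751 F313247) (tt N21002 (iv0 D68096)) (tt N37541 (iv2 F104230)) (tt N24775 (iv3 F315644)) (tt N21997 F104228) (tt N68496 (iv5 F210680)) (tt N74524 D145261) (tt N37557 (iv7 F104231)))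
theorem Q41445 : ∀ i, i < 41445 → P i := stepQ 41444 Q41444 (allL N41444 (tt N21002 (iv1 D68097)) (tt N24751 F313248) (tt N37557 (iv2 F104235)) (tt N74525 D145262) (tt N37543 F104234) (tt N68497 (iv5 F210687)) (tt N74526 D145263) (tt N37541 F104233))
theorem Q41446 : ∀ i, i < 41446 → P i := stepQ 41445 Q41445 (allL N41445 (tt N37595 F104236) (tt N37592 F104237) (tt N68421 (iv2 F210360)) (tt N48032 (iv3 F315643)) (tt N47376 F315656) (tt N21002 (iv5 D68098)) (tt N74527 D145264) (tt N44489 (iv7 F112266)))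
theorem Q41447 : ∀ i, i < 41447 → P i := stepQ 41446 Q41446 (allL N41446 (tt N63596 (iv1 F311006)) (tt N63595 (iv0 F311007)) (tt N63598 F308843) (tt N34331 (iv3 F311008)) (tt N21003 F104238) (tt N74528 D145267) (tt N21002 (iv6 D68099)) (tt N24753 (iv7 F311012)))
theorem Q41448 : ∀ i, i < 41448 → P i := stepQ 41447 Q41447 (allL N41447 (tt N61380 (iv1 F307723)) (tt N21003 (iv0 D68100)) (tt N68422 F210367) (tt N74529 D145269) (tt N45564 (iv4 F307995)) (tt N41256 F317339) (tt N21793 F104239) (tt N68423 (iv7 F210370)))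
theorem Q41449 : ∀ i, i < 41449 → P i := stepQ 41448 Q41448 (allL N41448 (tt N21003 (iv1 D68101)) (tt N61380 (iv0 F307722)) (tt N68423 F210372) (tt N47693 (iv3 F343979)) (tt N74530 D145272) (tt N41257 F317344) (tt N74531 D145274) (tt N68422 F210368))
theorem Q41450 : ∀ i, i < 41450 → P i := stepQ 41449 Q41449 (allL N41449 (tt N68423 (iv1 F210369)) (tt N68422 F210373) (tt N61380 F308885) (tt N21006 F104240) (tt N24753 (iv4 F311011)) (tt N62394 F312217) (tt N24752 F308886) (tt N21003 (iv7 D68102)))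
theorem Q41451 : ∀ i, i < 41451 → P i := stepQ 41450 Q41450 (allL N41450 (tt N21004 (iv1 D68106)) (tt N38344 F104250) (tt N38330 (iv2 F109906)) (tt N66745 (iv3 F318800)) (tt N34325 (iv4 F309255)) (tt N40482 F316533) (tt N33858 (iv6 F309207)) (tt N38343 F104251))
theorem Q41452 : ∀ i, i < 41452 → P i := stepQ 41451 Q41451 (allL N41451 (tt N38330 (iv1 F109905)) (tt N38343 F104257) (tt N38344 F104253) (tt N25195 (iv3 F309005)) (tt N25226 (iv4 F309007)) (tt N21664 F104254) (tt N25193 F307137) (tt N21004 (iv7 D68107)))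
theorem Q41453 : ∀ i, i < 41453 → P i := stepQ 41452 Q41452 (allL N41452 (tt N48457 (iv1 F311025)) (tt N47673 F313268) (tt N46532 (iv2 F311024)) (tt N21005 (iv3 D68111)) (tt N74532 D145288) (tt N41260 F312216) (tt N64065 (iv6 F305008)) (tt N43082 F308878))
theorem Q41454 : ∀ i, i < 41454 → P i := stepQ 41453 Q41453 (allL N41453 (tt N30373 (iv1 F104271)) (tt N59065 (iv0 F171963)) (tt N31534 F104268) (tt N41115 F168135) (tt N74533 D145292) (tt N21008 (iv5 D68116)) (tt N30355 F104270) (tt N31532 F104269))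
theorem Q41455 : ∀ i, i < 41455 → P i := stepQ 41454 Q41454 (allL N41454 (tt N57246 F165890) (tt N31510 (iv0 F104275)) (tt N31535 F104272) (tt N56215 F168132) (tt N57157 (iv4 F165451)) (tt N35581 F104274) (tt N21008 (iv6 D68117)) (tt N35671 F104273))
theorem Q41456 : ∀ i, i < 41456 → P i := stepQ 41455 Q41455 (allL N41455 (tt N57176 (iv1 F165706)) (tt N21010 (iv0 D68118)) (tt N57175 (iv2 F220818)) (tt N74534 D145293) (tt N72755 F223164) (tt N31524 F177271) (tt N74535 D145294) (tt N57174 (iv7 F220817)))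
theorem Q41457 : ∀ i, i < 41457 → P i := stepQ 41456 Q41456 (allL N41456 (tt N21010 (iv1 D68119)) (tt N57176 F165708) (tt N57174 (iv2 F220815)) (tt N74536 D145295) (tt N72463 (iv4 F222578)) (tt N31525 F177274) (tt N74537 D145296) (tt N57175 (iv7 F220820)))
theorem Q41458 : ∀ i, i < 41458 → P i := stepQ 41457 Q41457 (allL N41457 (tt N57175 (iv1 F165707)) (tt N57174 F165702) (tt N21010 (iv2 D68120)) (tt N57187 (iv3 F165746)) (tt N40108 F104276) (tt N57187 (iv5 F165747)) (tt N74538 D145297) (tt N57176 (iv7 F165705)))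
theorem Q41459 : ∀ i, i < 41459 → P i := stepQ 41458 Q41458 (allL N41458 (tt N74539 D145298) (tt N74540 D145299) (tt N74538 (iv2 F228327)) (tt N21011 F104277) (tt N40110 F104278) (tt N74541 D145300) (tt N21010 (iv6 D68121)) (tt N74542 D145301))
theorem Q41460 : ∀ i, i < 41460 → P i := stepQ 41459 Q41459 (allL N41459 (tt N57191 (iv1 F165764)) (tt N21011 (iv0 D68122)) (tt N30176 (iv2 F104281)) (tt N74543 D145302) (tt N22615 F104279) (tt N74544 D145303) (tt N22614 F104280) (tt N57189 (iv7 F165754)))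
theorem Q41461 : ∀ i, i < 41461 → P i := stepQ 41460 Q41460 (allL N41460 (tt N21011 (iv1 D68123)) (tt N57191 F165763) (tt N57189 F165756) (tt N74545 D145304) (tt N30179 (iv4 F104283)) (tt N74546 D145305) (tt N74547 D145306) (tt N30176 F104282))
theorem Q41462 : ∀ i, i < 41462 → P i := stepQ 41461 Q41461 (allL N41461 (tt N74548 D145307) (tt N74549 D145308) (tt N57190 (iv2 F165758)) (tt N74541 (iv3 F228329)) (tt N74550 D145309) (tt N21011 (iv5 D68124)) (tt N57190 (iv6 F165759)) (tt N74551 D145310))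
theorem Q41463 : ∀ i, i < 41463 → P i := stepQ 41462 Q41462 (allL N41462 (tt N57189 (iv1 F165753)) (tt N30176 F165535) (tt N57191 (iv2 F165760)) (tt N74542 (iv3 F228330)) (tt N21012 F104285) (tt N74551 (iv5 F228343)) (tt N57181 (iv6 F165725)) (tt N21011 (iv7 D68125)))
theorem Q41464 : ∀ i, i < 41464 → P i := stepQ 41463 Q41463 (allL N41463 (tt N66271 (iv1 F203886)) (tt N21013 (iv0 D68126)) (tt N60107 F202607) (tt N57963 F169649) (tt N58530 (iv4 F169568)) (tt N74552 D145311) (tt N74553 D145312) (tt N66270 (iv7 F203875)))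
theorem Q41465 : ∀ i, i < 41465 → P i := stepQ 41464 Q41464 (allL N41464 (tt N21013 (iv1 D68127)) (tt N66271 F203885) (tt N66270 (iv2 F203878)) (tt N55887 (iv3 F202610)) (tt N58531 F202611) (tt N65880 (iv5 F202714)) (tt N60893 (iv6 F328271)) (tt N60107 F202609))
theorem Q41466 : ∀ i, i < 41466 → P i := stepQ 41465 Q41465 (allL N41465 (tt N66270 (iv1 F203874)) (tt N60107 F203880) (tt N66271 (iv2 F203882)) (tt N21017 F104286) (tt N39444 F104287) (tt N32440 F104288) (tt N57184 (iv6 F165743)) (tt N21013 (iv7 D68128)))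
theorem Q41467 : ∀ i, i < 41467 → P i := stepQ 41466 Q41466 (allL N41466 (tt N57186 (iv1 F165750)) (tt N57185 F165745) (tt N21014 (iv2 D68131)) (tt N57176 (iv3 F165703)) (tt N39439 F104289) (tt N57176 (iv5 F165704)) (tt N74554 D145313) (tt N57187 (iv7 F165748)))
theorem Q41468 : ∀ i, i < 41468 → P i := stepQ 41467 Q41467 (allL N41467 (tt N74555 D145314) (tt N74556 D145315) (tt N74554 (iv2 F228353)) (tt N21015 F104290) (tt N39441 F104291) (tt N74557 D145316) (tt N21014 (iv6 D68132)) (tt N74558 D145317))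
theorem Q41469 : ∀ i, i < 41469 → P i := stepQ 41468 Q41468 (allL N41468 (tt N57181 (iv1 F165727)) (tt N21015 (iv0 D68133)) (tt N57178 F165714) (tt N74559 D145318) (tt N30217 F165715) (tt N74560 D145319) (tt N57173 F165716) (tt N57179 (iv7 F165718)))
theorem Q41470 : ∀ i, i < 41470 → P i := stepQ 41469 Q41469 (allL N41469 (tt N21015 (iv1 D68134)) (tt N57181 F165726) (tt N57179 F165720) (tt N74561 D145320) (tt N30218 F104292) (tt N74562 D145321) (tt N67310 F207059) (tt N57178 F165712))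
theorem Q41471 : ∀ i, i < 41471 → P i := stepQ 41470 Q41470 (allL N41470 (tt N74563 D145322) (tt N56833 (iv0 F164892)) (tt N57180 (iv2 F165721)) (tt N74557 (iv3 F228355)) (tt N74564 D145323) (tt N21015 (iv5 D68135)) (tt N57180 (iv6 F165722)) (tt N74565 D145324))
theorem Q41472 : ∀ i, i < 41472 → P i := stepQ 41471 Q41471 (allL N41471 (tt N57179 (iv1 F165717)) (tt N57178 F165713) (tt N57181 (iv2 F165723)) (tt N74558 (iv3 F228356)) (tt N21017 F104293) (tt N74565 (iv5 F228361)) (tt N57191 (iv6 F165762)) (tt N21015 (iv7 D68136)))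
theorem Q41473 : ∀ i, i < 41473 → P i := stepQ 41472 Q41472 (allL N41472 (tt N21021 F104294) (tt N56904 F165039) (tt N56902 F165027) (tt N74566 D145325) (tt N21016 (iv4 D68137)) (tt N74567 D145326) (tt N67308 (iv6 F207052)) (tt N56901 (iv7 F165031)))
theorem Q41474 : ∀ i, i < 41474 → P i := stepQ 41473 Q41473 (allL N41473 (tt N35877 F104297) (tt N57414 (iv0 F166505)) (tt N35833 F104295) (tt N62635 (iv3 F182895)) (tt N60571 (iv4 F176595)) (tt N21016 (iv5 D68138)) (tt N29854 F104296) (tt N57182 (iv7 F165736)))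
theorem Q41475 : ∀ i, i < 41475 → P i := stepQ 41474 Q41474 (allL N41474 (tt N56899 (iv1 F165021)) (tt N21018 (iv0 D68139)) (tt N30332 F336116) (tt N74568 D145328) (tt N74569 D145329) (tt N30329 (iv5 F336126)) (tt N74570 D145330) (tt N30327 F336117))
theorem Q41476 : ∀ i, i < 41476 → P i := stepQ 41475 Q41475 (allL N41475 (tt N21018 (iv1 D68140)) (tt N56899 F165023) (tt N30327 (iv2 F336113)) (tt N73066 (iv3 F386485)) (tt N74571 D145333) (tt N30324 (iv5 F336114)) (tt N73061 (iv6 F386483)) (tt N30332 (iv7 F336115)))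
theorem Q41477 : ∀ i, i < 41477 → P i := stepQ 41476 Q41476 (allL N41476 (tt N30332 (iv1 F180533)) (tt N30327 F180530) (tt N21018 (iv2 D68141)) (tt N56909 (iv3 F165046)) (tt N65143 (iv4 F330922)) (tt N56909 (iv5 F165048)) (tt N65142 (iv6 F330948)) (tt N56899 (iv7 F165020)))
theorem Q41478 : ∀ i, i < 41478 → P i := stepQ 41477 Q41477 (allL N41477 (tt N74572 D145336) (tt N74573 D145337) (tt N65142 (iv2 F330947)) (tt N21019 F104298) (tt N24678 F330932) (tt N74574 D145338) (tt N21018 (iv6 D68142)) (tt N74575 D145339))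
theorem Q41479 : ∀ i, i < 41479 → P i := stepQ 41478 Q41478 (allL N41478 (tt N74576 D145340) (tt N74577 D145341) (tt N56912 (iv2 F165059)) (tt N74574 (iv3 F228382)) (tt N74578 D145342) (tt N21019 (iv5 D68143)) (tt N56912 (iv6 F165060)) (tt N74579 D145343))
theorem Q41480 : ∀ i, i < 41480 → P i := stepQ 41479 Q41479 (allL N41479 (tt N56911 (iv1 F165055)) (tt N30643 F164008) (tt N56824 (iv2 F164873)) (tt N74575 (iv3 F228383)) (tt N32035 F104299) (tt N74579 (iv5 F228386)) (tt N56904 (iv6 F165038)) (tt N21019 (iv7 D68144)))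
theorem Q41481 : ∀ i, i < 41481 → P i := stepQ 41480 Q41480 (allL N41480 (tt N56909 (iv1 F165050)) (tt N21020 (iv0 D68145)) (tt N56908 (iv2 F359120)) (tt N74580 D145345) (tt N72986 (iv4 F223696)) (tt N29949 F228319) (tt N74581 D145346) (tt N56907 (iv7 F359117)))
theorem Q41482 : ∀ i, i < 41482 → P i := stepQ 41481 Q41481 (allL N41481 (tt N21020 (iv1 D68146)) (tt N56909 F165052) (tt N56907 (iv2 F359116)) (tt N74582 D145348) (tt N72955 (iv4 F223655)) (tt N29950 F228389) (tt N74583 D145349) (tt N56908 (iv7 F359121)))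
theorem Q41483 : ∀ i, i < 41483 → P i := stepQ 41482 Q41482 (allL N41482 (tt N56908 (iv1 F165051)) (tt N56907 F165045) (tt N21020 (iv2 D68147)) (tt N56899 (iv3 F165018)) (tt N62171 (iv4 F180054)) (tt N56899 (iv5 F165019)) (tt N74584 D145350) (tt N56909 (iv7 F165049)))
theorem Q41484 : ∀ i, i < 41484 → P i := stepQ 41483 Q41483 (allL N41483 (tt N74585 D145351) (tt N74586 D145352) (tt N74584 (iv2 F228396)) (tt N21021 F104300) (tt N62173 (iv4 F180062)) (tt N74587 D145353) (tt N21020 (iv6 D68148)) (tt N74588 D145354))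
theorem Q41485 : ∀ i, i < 41485 → P i := stepQ 41484 Q41484 (allL N41484 (tt N74589 D145355) (tt N59074 (iv0 F171986)) (tt N56903 (iv2 F165033)) (tt N74587 (iv3 F228397)) (tt N74590 D145356) (tt N21021 (iv5 D68150)) (tt N56903 (iv6 F165034)) (tt N74591 D145357))
theorem Q41486 : ∀ i, i < 41486 → P i := stepQ 41485 Q41485 (allL N41485 (tt N56902 (iv1 F165025)) (tt N56901 F165032) (tt N56904 (iv2 F165036)) (tt N74588 (iv3 F228398)) (tt N32038 F104301) (tt N74591 (iv5 F228401)) (tt N56824 (iv6 F164874)) (tt N21021 (iv7 D68151)))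
theorem Q41487 : ∀ i, i < 41487 → P i := stepQ 41486 Q41486 (allL N41486 (tt N74582 (iv1 F387844)) (tt N74592 D145359) (tt N61916 (iv2 F180679)) (tt N21022 (iv3 D68153)) (tt N56890 F164989) (tt N57221 F166891) (tt N74593 D145360) (tt N57192 F180674))
theorem Q41488 : ∀ i, i < 41488 → P i := stepQ 41487 Q41487 (allL N41487 (tt N40250 (iv1 F104308)) (tt N40238 (iv0 F180284)) (tt N33275 F180662) (tt N40265 (iv3 F104305)) (tt N21022 (iv4 D68154)) (tt N73361 (iv5 F224492)) (tt N74594 D145361) (tt N40251 (iv7 F104306)))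
theorem Q41489 : ∀ i, i < 41489 → P i := stepQ 41488 Q41488 (allL N41488 (tt N74595 D145362) (tt N72706 (iv0 F366108)) (tt N57195 (iv2 F180681)) (tt N74593 (iv3 F228404)) (tt N74594 (iv4 F228407)) (tt N74596 D145364) (tt N21022 (iv6 D68156)) (tt N74597 D145365))
theorem Q41490 : ∀ i, i < 41490 → P i := stepQ 41489 Q41489 (allL N41489 (tt N74598 D145366) (tt N74568 (iv0 F228375)) (tt N74599 D145367) (tt N21023 (iv3 D68158)) (tt N40256 F104312) (tt N57224 (iv5 F166901)) (tt N74600 D145368) (tt N57194 (iv7 F180682)))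
theorem Q41491 : ∀ i, i < 41491 → P i := stepQ 41490 Q41490 (allL N41490 (tt N72688 (iv1 F361890)) (tt N74601 D145370) (tt N57193 F180680) (tt N74600 (iv3 F228412)) (tt N40253 F104313) (tt N74602 D145371) (tt N21023 (iv6 D68160)) (tt N74603 D145372))
theorem Q41492 : ∀ i, i < 41492 → P i := stepQ 41491 Q41491 (allL N41491 (tt N74604 D145373) (tt N74605 D145374) (tt N21025 F104314) (tt N57227 (iv3 F165847)) (tt N21049 F104315) (tt N73148 (iv5 F331031)) (tt N21024 (iv6 D68161)) (tt N73176 (iv7 F331041)))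
theorem Q41493 : ∀ i, i < 41493 → P i := stepQ 41492 Q41492 (allL N41492 (tt N73176 (iv1 F331037)) (tt N21025 (iv0 D68162)) (tt N74604 (iv2 F348821)) (tt N74606 D145378) (tt N40478 (iv4 F348826)) (tt N74607 D145380) (tt N74608 D145381) (tt N74605 (iv7 F348819)))
theorem Q41494 : ∀ i, i < 41494 → P i := stepQ 41493 Q41493 (allL N41493 (tt N21025 (iv1 D68163)) (tt N73176 (iv0 F331036)) (tt N74605 (iv2 F348818)) (tt N74609 D145383) (tt N40479 F322618) (tt N74610 D145385) (tt N44444 (iv6 F324139)) (tt N74604 (iv7 F348822)))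
theorem Q41495 : ∀ i, i < 41495 → P i := stepQ 41494 Q41494 (allL N41494 (tt N74605 (iv1 F228417)) (tt N74604 (iv0 F228416)) (tt N73176 (iv2 F331038)) (tt N21029 F104317) (tt N21053 F104318) (tt N72226 (iv5 F331035)) (tt N22161 (iv6 F318464)) (tt N21025 (iv7 D68165)))
theorem Q41496 : ∀ i, i < 41496 → P i := stepQ 41495 Q41495 (allL N41495 (tt N74611 D145391) (tt N73061 (iv0 F386495)) (tt N74612 D145393) (tt N21026 (iv3 D68166)) (tt N66367 (iv4 F204056)) (tt N74613 D145394) (tt N74614 D145395) (tt N56973 (iv7 F165138)))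
theorem Q41497 : ∀ i, i < 41497 → P i := stepQ 41496 Q41496 (allL N41496 (tt N74615 D145396) (tt N74616 D145397) (tt N56970 (iv2 F165129)) (tt N74613 (iv3 F228428)) (tt N74617 D145398) (tt N21026 (iv5 D68167)) (tt N74618 D145399) (tt N56974 (iv7 F165140)))
theorem Q41498 : ∀ i, i < 41498 → P i := stepQ 41497 Q41497 (allL N41497 (tt N67308 (iv1 F207054)) (tt N67307 (iv0 F207050)) (tt N56971 (iv2 F165131)) (tt N74614 (iv3 F228429)) (tt N32047 F104319) (tt N59146 F172199) (tt N21026 (iv6 D68168)) (tt N44441 (iv7 F112135)))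
theorem Q41499 : ∀ i, i < 41499 → P i := stepQ 41498 Q41498 (allL N41498 (tt N74581 (iv1 F358646)) (tt N74619 D145401) (tt N74620 D145402) (tt N21027 (iv3 D68169)) (tt N58183 (iv4 F168964)) (tt N74621 D145403) (tt N44442 (iv6 F112137)) (tt N56969 (iv7 F165128)))
theorem Q41500 : ∀ i, i < 41500 → P i := stepQ 41499 Q41499 (allL N41499 (tt N74616 (iv1 F228432)) (tt N74615 F228431) (tt N56974 (iv2 F165139)) (tt N74621 (iv3 F228434)) (tt N74622 D145404) (tt N21027 (iv5 D68170)) (tt N74623 D145405) (tt N56970 (iv7 F165130)))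
theorem Q41501 : ∀ i, i < 41501 → P i := stepQ 41500 Q41500 (allL N41500 (tt N57234 (iv1 F165858)) (tt N21028 (iv0 D68171)) (tt N53957 (iv2 F331779)) (tt N73059 (iv3 F362760)) (tt N74624 D145407) (tt N74625 D145408) (tt N53971 (iv6 F364960)) (tt N57232 F172226))
theorem Q41502 : ∀ i, i < 41502 → P i := stepQ 41501 Q41501 (allL N41501 (tt N21028 (iv1 D68172)) (tt N57234 F165857) (tt N57232 (iv2 F172225)) (tt N53959 (iv3 F331781)) (tt N74056 (iv4 F332886)) (tt N57063 (iv5 F165316)) (tt N73110 (iv6 F339975)) (tt N53957 (iv7 F331780)))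
theorem Q41503 : ∀ i, i < 41503 → P i := stepQ 41502 Q41502 (allL N41502 (tt N74626 D145413) (tt N74627 D145414) (tt N57233 (iv2 F165852)) (tt N73167 (iv3 F331784)) (tt N21028 (iv4 D68173)) (tt N74628 D145416) (tt N59147 (iv6 F172202)) (tt N74629 D145417))
theorem Q41504 : ∀ i, i < 41504 → P i := stepQ 41503 Q41503 (allL N41503 (tt N57232 (iv1 F165851)) (tt N53957 (iv0 F331777)) (tt N57234 (iv2 F165854)) (tt N72226 (iv3 F331034)) (tt N74629 (iv4 F228444)) (tt N21029 F104320) (tt N72224 (iv6 F363392)) (tt N21028 (iv7 D68174)))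
theorem Q41505 : ∀ i, i < 41505 → P i := stepQ 41504 Q41504 (allL N41504 (tt N24396 F328061) (tt N31675 (iv0 F104323)) (tt N33271 F104324) (tt N74630 D145419) (tt N21030 (iv4 D68175)) (tt N34894 (iv5 F328499)) (tt N69556 (iv6 F328658)) (tt N33272 F104321))
theorem Q41506 : ∀ i, i < 41506 → P i := stepQ 41505 Q41505 (allL N41505 (tt N67734 F209079) (tt N69777 F216110) (tt N66348 (iv2 F204033)) (tt N21032 F104326) (tt N69556 (iv4 F328657)) (tt N57716 (iv5 F167613)) (tt N21030 (iv6 D68176)) (tt N41198 F104327))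
theorem Q41507 : ∀ i, i < 41507 → P i := stepQ 41506 Q41506 (allL N41506 (tt N74631 D145421) (tt N74537 (iv0 F357675)) (tt N74632 D145423) (tt N21031 (iv3 D68177)) (tt N74630 (iv4 F228445)) (tt N74633 D145424) (tt N74634 D145425) (tt N57242 (iv7 F165883)))
theorem Q41508 : ∀ i, i < 41508 → P i := stepQ 41507 Q41507 (allL N41507 (tt N74635 D145426) (tt N74636 D145427) (tt N57239 (iv2 F165872)) (tt N74633 (iv3 F228449)) (tt N74637 D145428) (tt N21031 (iv5 D68178)) (tt N74638 D145429) (tt N57243 (iv7 F165885)))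
theorem Q41509 : ∀ i, i < 41509 → P i := stepQ 41508 Q41508 (allL N41508 (tt N67310 (iv1 F207057)) (tt N67309 F207055) (tt N57240 (iv2 F165874)) (tt N74634 (iv3 F228450)) (tt N21032 F104328) (tt N57014 F165222) (tt N21031 (iv6 D68179)) (tt N41201 F104329))
theorem Q41510 : ∀ i, i < 41510 → P i := stepQ 41509 Q41509 (allL N41509 (tt N59174 (iv1 F402235)) (tt N74639 D145431) (tt N74640 D145432) (tt N21034 (iv3 D68180)) (tt N39567 F104330) (tt N74641 D145433) (tt N41203 F104331) (tt N57238 (iv7 F165871)))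
theorem Q41511 : ∀ i, i < 41511 → P i := stepQ 41510 Q41510 (allL N41510 (tt N74636 (iv1 F228454)) (tt N74635 F228453) (tt N57243 (iv2 F165884)) (tt N74641 (iv3 F228457)) (tt N74642 D145434) (tt N21034 (iv5 D68181)) (tt N74643 D145435) (tt N57239 (iv7 F165873)))
theorem Q41512 : ∀ i, i < 41512 → P i := stepQ 41511 Q41511 (allL N41511 (tt N60045 (iv1 F175376)) (tt N30262 F166491) (tt N57245 (iv2 F166486)) (tt N74644 D145436) (tt N21035 (iv4 D68184)) (tt N74645 D145437) (tt N65826 (iv6 F202437)) (tt N57248 (iv7 F166485)))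
theorem Q41513 : ∀ i, i < 41513 → P i := stepQ 41512 Q41512 (allL N41512 (tt N35671 F104334) (tt N31535 F104335) (tt N57246 (iv2 F166400)) (tt N72900 (iv3 F223555)) (tt N74646 D145438) (tt N21035 (iv5 D68185)) (tt N31461 F104333) (tt N31510 (iv7 F166416)))
theorem Q41514 : ∀ i, i < 41514 → P i := stepQ 41513 Q41513 (allL N41513 (tt N55686 (iv1 F173560)) (tt N58769 F173559) (tt N58768 (iv2 F173023)) (tt N21036 (iv3 D68187)) (tt N39582 (iv4 F173557)) (tt N71957 (iv5 F221062)) (tt N58840 (iv6 F170882)) (tt N57244 F166488))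
theorem Q41515 : ∀ i, i < 41515 → P i := stepQ 41514 Q41514 (allL N41514 (tt N30262 F104337) (tt N60045 F175375) (tt N57248 (iv2 F166490)) (tt N74647 D145439) (tt N21036 (iv4 D68188)) (tt N74648 D145440) (tt N58841 (iv6 F170883)) (tt N57245 F166489))
theorem Q41516 : ∀ i, i < 41516 → P i := stepQ 41515 Q41515 (allL N41515 (tt N31535 (iv1 F104341)) (tt N35671 (iv0 F104339)) (tt N31510 F166401) (tt N71957 (iv3 F221060)) (tt N74649 D145441) (tt N21036 (iv5 D68189)) (tt N30403 F104338) (tt N57246 F166395))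
theorem Q41517 : ∀ i, i < 41517 → P i := stepQ 41516 Q41516 (allL N41516 (tt N57251 (iv1 F165900)) (tt N21037 (iv0 D68190)) (tt N56975 (iv2 F165143)) (tt N74650 D145442) (tt N32048 F165144) (tt N74651 D145443) (tt N60693 (iv6 F176716)) (tt N56976 (iv7 F165147)))
theorem Q41518 : ∀ i, i < 41518 → P i := stepQ 41517 Q41517 (allL N41517 (tt N21037 (iv1 D68191)) (tt N57251 F165899) (tt N56976 (iv2 F165146)) (tt N74652 D145444) (tt N32049 F104342) (tt N74653 D145445) (tt N58835 F170873) (tt N56975 (iv7 F165141)))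
theorem Q41519 : ∀ i, i < 41519 → P i := stepQ 41518 Q41518 (allL N41518 (tt N74654 D145446) (tt N74655 D145447) (tt N24962 F325656) (tt N21037 (iv3 D68192)) (tt N21071 F104363) (tt N74656 D145449) (tt N21039 F104364) (tt N24956 (iv7 F325924)))
theorem Q41520 : ∀ i, i < 41520 → P i := stepQ 41519 Q41519 (allL N41519 (tt N65735 F202331) (tt N58140 (iv0 F168927)) (tt N57250 (iv2 F165895)) (tt N74656 (iv3 F228483)) (tt N74657 D145451) (tt N21037 (iv5 D68193)) (tt N74658 D145452) (tt N65733 (iv7 F202328)))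
theorem Q41521 : ∀ i, i < 41521 → P i := stepQ 41520 Q41520 (allL N41520 (tt N56976 (iv1 F165149)) (tt N56975 (iv0 F165142)) (tt N57251 (iv2 F165897)) (tt N24956 (iv3 F325923)) (tt N21038 F104365) (tt N65733 (iv5 F202329)) (tt N32093 F104366) (tt N21037 (iv7 D68194)))
theorem Q41522 : ∀ i, i < 41522 → P i := stepQ 41521 Q41521 (allL N41521 (tt N55598 (iv1 F324556)) (tt N21039 (iv0 D68195)) (tt N58843 (iv2 F170978)) (tt N74659 D145453) (tt N48485 F324445) (tt N56268 F170985) (tt N48484 (iv6 F325563)) (tt N51615 F324446))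
theorem Q41523 : ∀ i, i < 41523 → P i := stepQ 41522 Q41522 (allL N41522 (tt N21039 (iv1 D68196)) (tt N55598 (iv0 F324555)) (tt N51615 F324448) (tt N74660 D145455) (tt N27634 F324449) (tt N56269 (iv5 F170286)) (tt N27633 (iv6 F325567)) (tt N58843 (iv7 F170975)))
theorem Q41524 : ∀ i, i < 41524 → P i := stepQ 41523 Q41523 (allL N41523 (tt N58843 (iv1 F170923)) (tt N51615 F324012) (tt N21039 (iv2 D68197)) (tt N57254 (iv3 F165901)) (tt N21074 F104367) (tt N74661 D145457) (tt N24962 (iv6 F325290)) (tt N55598 (iv7 F324560)))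
theorem Q41525 : ∀ i, i < 41525 → P i := stepQ 41524 Q41524 (allL N41524 (tt N35853 (iv1 F170958)) (tt N35856 F170953) (tt N74661 (iv2 F228490)) (tt N21040 F104368) (tt N74662 D145458) (tt N21039 (iv5 D68198)) (tt N74663 D145459) (tt N57260 (iv7 F165920)))
theorem Q41526 : ∀ i, i < 41526 → P i := stepQ 41525 Q41525 (allL N41525 (tt N74664 D145460) (tt N74665 D145461) (tt N57256 (iv2 F165904)) (tt N74663 (iv3 F228499)) (tt N32469 F104369) (tt N74658 (iv5 F228487)) (tt N21040 (iv6 D68199)) (tt N74666 D145462))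
theorem Q41527 : ∀ i, i < 41527 → P i := stepQ 41526 Q41526 (allL N41526 (tt N33429 F181995) (tt N73408 (iv0 F322868)) (tt N72981 (iv2 F223688)) (tt N21043 F104378) (tt N40746 F166903) (tt N21041 (iv5 D68209)) (tt N24329 (iv6 F322645)) (tt N40870 F182558))
theorem Q41528 : ∀ i, i < 41528 → P i := stepQ 41527 Q41527 (allL N41527 (tt N25428 (iv1 F324140)) (tt N46176 (iv0 F324141)) (tt N72982 (iv2 F223694)) (tt N21044 F104379) (tt N62196 (iv4 F180135)) (tt N24330 (iv5 F324150)) (tt N21041 (iv6 D68210)) (tt N74667 D145469))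
theorem Q41529 : ∀ i, i < 41529 → P i := stepQ 41528 Q41528 (allL N41528 (tt N21046 (iv1 F104386)) (tt N21042 (iv0 D68212)) (tt N59182 (iv2 F180283)) (tt N74668 D145470) (tt N41222 F104381) (tt N59180 F180286) (tt N22274 (iv6 F324033)) (tt N62577 (iv7 F182478)))
theorem Q41530 : ∀ i, i < 41530 → P i := stepQ 41529 Q41529 (allL N41529 (tt N21042 (iv1 D68213)) (tt N21046 F104382) (tt N62577 F182477) (tt N57186 (iv3 F180605)) (tt N62292 (iv4 F180601)) (tt N59163 (iv5 F180289)) (tt N73013 (iv6 F348358)) (tt N59182 F180287))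
theorem Q41531 : ∀ i, i < 41531 → P i := stepQ 41530 Q41530 (allL N41530 (tt N74534 F228315) (tt N74669 D145473) (tt N65914 (iv2 F202851)) (tt N21042 (iv3 D68214)) (tt N62195 (iv4 F180134)) (tt N74670 D145474) (tt N74671 D145475) (tt N62578 F182555))
theorem Q41532 : ∀ i, i < 41532 → P i := stepQ 41531 Q41531 (allL N41531 (tt N66559 (iv1 F204482)) (tt N74536 (iv0 F228324)) (tt N60026 F182548) (tt N74670 (iv3 F228523)) (tt N57213 (iv4 F166902)) (tt N21042 (iv5 D68215)) (tt N74672 D145476) (tt N62579 (iv7 F182550)))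
theorem Q41533 : ∀ i, i < 41533 → P i := stepQ 41532 Q41532 (allL N41532 (tt N74673 D145477) (tt N74674 D145478) (tt N62587 (iv2 F182597)) (tt N74671 (iv3 F228528)) (tt N21044 F104383) (tt N74675 D145479) (tt N21042 (iv6 D68216)) (tt N74676 D145480))
theorem Q41534 : ∀ i, i < 41534 → P i := stepQ 41533 Q41533 (allL N41533 (tt N66562 (iv1 F204489)) (tt N74677 D145481) (tt N40874 (iv2 F182563)) (tt N32606 (iv3 F325367)) (tt N21043 (iv4 D68220)) (tt N60285 (iv5 F325372)) (tt N32604 F324169) (tt N40871 (iv7 F182562)))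
theorem Q41535 : ∀ i, i < 41535 → P i := stepQ 41534 Q41534 (allL N41534 (tt N68416 (iv1 F322646)) (tt N34593 (iv0 F322647)) (tt N40875 (iv2 F182564)) (tt N24329 (iv3 F322644)) (tt N32604 (iv4 F322648)) (tt N24328 (iv5 F322649)) (tt N21043 (iv6 D68221)) (tt N74678 D145488))
theorem Q41536 : ∀ i, i < 41536 → P i := stepQ 41535 Q41535 (allL N41535 (tt N62590 (iv1 F182606)) (tt N21044 (iv0 D68223)) (tt N30647 (iv2 F324904)) (tt N44478 (iv3 F324905)) (tt N74595 (iv4 F366101)) (tt N74679 D145492) (tt N30646 (iv6 F324906)) (tt N62588 (iv7 F340812)))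
theorem Q41537 : ∀ i, i < 41537 → P i := stepQ 41536 Q41536 (allL N41536 (tt N68564 (iv1 F324908)) (tt N66853 (iv0 F323805)) (tt N62589 (iv2 F182601)) (tt N24330 (iv3 F324149)) (tt N44535 (iv4 F324909)) (tt N21044 (iv5 D68225)) (tt N24328 F323605) (tt N68562 (iv7 F324911)))
theorem Q41538 : ∀ i, i < 41538 → P i := stepQ 41537 Q41537 (allL N41537 (tt N62588 (iv1 F182600)) (tt N30647 (iv0 F340813)) (tt N62590 (iv2 F182602)) (tt N74667 (iv3 F228511)) (tt N74676 (iv4 F228529)) (tt N68562 (iv5 F324910)) (tt N62582 (iv6 F182576)) (tt N21044 (iv7 D68226)))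
theorem Q41539 : ∀ i, i < 41539 → P i := stepQ 41538 Q41538 (allL N41538 (tt N62584 (iv1 F182580)) (tt N21045 (iv0 D68228)) (tt N58550 F205127) (tt N62672 F182975) (tt N40222 F104392) (tt N63022 (iv5 F205106)) (tt N74680 D145503) (tt N62583 (iv7 F205124)))
theorem Q41540 : ∀ i, i < 41540 → P i := stepQ 41539 Q41539 (allL N41539 (tt N58550 F180129) (tt N62583 (iv0 F182490)) (tt N21045 (iv2 D68230)) (tt N62193 F180125) (tt N72709 (iv4 F222994)) (tt N40903 (iv5 F180130)) (tt N74681 D145504) (tt N62584 (iv7 F182579)))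
theorem Q41541 : ∀ i, i < 41541 → P i := stepQ 41540 Q41540 (allL N41540 (tt N41253 (iv1 F162353)) (tt N41251 (iv0 F104393)) (tt N72709 F222995) (tt N65912 (iv3 F202847)) (tt N21045 (iv4 D68231)) (tt N74682 D145505) (tt N74683 D145506) (tt N62585 (iv7 F182593)))
theorem Q41542 : ∀ i, i < 41542 → P i := stepQ 41541 Q41541 (allL N41541 (tt N40898 F182590) (tt N40906 F182591) (tt N40903 F180131) (tt N21047 F104394) (tt N74684 D145507) (tt N21045 (iv5 D68232)) (tt N74685 D145508) (tt N40873 F182565))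
theorem Q41543 : ∀ i, i < 41543 → P i := stepQ 41542 Q41542 (allL N41542 (tt N61432 (iv1 F334441)) (tt N74686 D145510) (tt N74681 (iv2 F228553)) (tt N21048 F104395) (tt N74683 (iv4 F228557)) (tt N74687 D145511) (tt N21045 (iv6 D68233)) (tt N74688 D145512))
theorem Q41544 : ∀ i, i < 41544 → P i := stepQ 41543 Q41543 (allL N41543 (tt N74536 (iv1 F228325)) (tt N66559 (iv0 F204481)) (tt N62579 F182551) (tt N30222 F166897) (tt N57214 F166898) (tt N21046 (iv5 D68234)) (tt N74689 D145513) (tt N60026 F182542))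
theorem Q41545 : ∀ i, i < 41545 → P i := stepQ 41544 Q41544 (allL N41544 (tt N55194 (iv1 F363401)) (tt N74690 D145515) (tt N62580 F182568) (tt N65913 (iv3 F202850)) (tt N21048 F104396) (tt N74691 D145516) (tt N21046 (iv6 D68235)) (tt N74692 D145517))
theorem Q41546 : ∀ i, i < 41546 → P i := stepQ 41545 Q41545 (allL N41545 (tt N74677 (iv1 F228530)) (tt N66562 (iv0 F204488)) (tt N40871 (iv2 F182567)) (tt N74693 D145518) (tt N21047 (iv4 D68236)) (tt N74694 D145519) (tt N74695 D145520) (tt N40874 F182566))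
theorem Q41547 : ∀ i, i < 41547 → P i := stepQ 41546 Q41546 (allL N41546 (tt N72686 (iv1 F335138)) (tt N74696 D145522) (tt N40872 F182575) (tt N74685 (iv3 F228568)) (tt N74695 (iv4 F228577)) (tt N52339 (iv5 F334479)) (tt N21047 (iv6 D68237)) (tt N52606 (iv7 F334478)))
theorem Q41548 : ∀ i, i < 41548 → P i := stepQ 41547 Q41547 (allL N41547 (tt N21048 (iv1 D68239)) (tt N62582 F182571) (tt N58544 (iv2 F326750)) (tt N62683 (iv3 F324914)) (tt N74601 (iv4 F357271)) (tt N55200 (iv5 F324915)) (tt N42078 (iv6 F324916)) (tt N62581 (iv7 F342459)))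
theorem Q41549 : ∀ i, i < 41549 → P i := stepQ 41548 Q41548 (allL N41548 (tt N41957 (iv1 F324918)) (tt N74697 D145536) (tt N52593 (iv2 F334484)) (tt N74687 (iv3 F228569)) (tt N52341 (iv4 F334494)) (tt N21048 (iv5 D68240)) (tt N52339 (iv6 F334480)) (tt N74698 D145538))
theorem Q41550 : ∀ i, i < 41550 → P i := stepQ 41549 Q41549 (allL N41549 (tt N58544 (iv1 F342462)) (tt N62581 F182574) (tt N62582 F182570) (tt N74688 (iv3 F228570)) (tt N74692 (iv4 F228572)) (tt N74698 (iv5 F228589)) (tt N62590 (iv6 F182603)) (tt N21048 (iv7 D68241)))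
theorem Q41551 : ∀ i, i < 41551 → P i := stepQ 41550 Q41550 (allL N41550 (tt N21053 (iv1 F104400)) (tt N21049 (iv0 D68242)) (tt N21050 F319073) (tt N74699 D145540) (tt N73182 (iv4 F342415)) (tt N74700 D145542) (tt N74701 D145543) (tt N21051 F319074))
theorem Q41552 : ∀ i, i < 41552 → P i := stepQ 41551 Q41551 (allL N41551 (tt N21049 (iv1 D68243)) (tt N21053 F104397) (tt N21051 F319071) (tt N65216 (iv3 F318450)) (tt N73183 (iv4 F322616)) (tt N73788 (iv5 F320592)) (tt N30644 (iv6 F318455)) (tt N21050 F319072))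
theorem Q41553 : ∀ i, i < 41553 → P i := stepQ 41552 Q41552 (allL N41552 (tt N65260 F320487) (tt N65216 F320488) (tt N21052 F104398) (tt N62217 F320489) (tt N74702 D145549) (tt N21049 (iv5 D68244)) (tt N62215 (iv6 F320538)) (tt N43544 F320490))
theorem Q41554 : ∀ i, i < 41554 → P i := stepQ 41553 Q41553 (allL N41553 (tt N21051 (iv1 F104401)) (tt N21050 F104402) (tt N21053 F104399) (tt N62686 (iv3 F183095)) (tt N73176 (iv4 F331039)) (tt N43544 (iv5 F318462)) (tt N22160 (iv6 F318463)) (tt N21049 (iv7 D68245)))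
theorem Q41555 : ∀ i, i < 41555 → P i := stepQ 41554 Q41554 (allL N41554 (tt N43544 (iv1 F322221)) (tt N21052 (iv0 F322229)) (tt N65260 (iv2 F322222)) (tt N21050 (iv3 D68247)) (tt N72996 F223708) (tt N73791 (iv5 F342443)) (tt N65238 (iv6 F322224)) (tt N65216 (iv7 F321162)))
theorem Q41556 : ∀ i, i < 41556 → P i := stepQ 41555 Q41555 (allL N41555 (tt N73016 (iv1 F342432)) (tt N73013 (iv0 F342426)) (tt N73182 (iv2 F342413)) (tt N74703 D145565) (tt N21050 (iv4 D68248)) (tt N74704 D145566) (tt N74705 D145567) (tt N73183 (iv7 F321164)))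
theorem Q41557 : ∀ i, i < 41557 → P i := stepQ 41556 Q41556 (allL N41556 (tt N74706 D145569) (tt N73199 (iv0 F350131)) (tt N74700 (iv2 F320595)) (tt N73791 (iv3 F342442)) (tt N74707 D145571) (tt N21050 (iv5 D68249)) (tt N42188 (iv6 F322225)) (tt N73788 (iv7 F320594)))
theorem Q41558 : ∀ i, i < 41558 → P i := stepQ 41557 Q41557 (allL N41557 (tt N42078 (iv1 F322226)) (tt N42081 (iv0 F322227)) (tt N74701 (iv2 F320597)) (tt N65238 (iv3 F322223)) (tt N74705 (iv4 F228612)) (tt N74708 D145576) (tt N21050 (iv6 D68250)) (tt N44459 (iv7 F322228)))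
theorem Q41559 : ∀ i, i < 41559 → P i := stepQ 41558 Q41558 (allL N41558 (tt N74680 (iv1 F245708)) (tt N63353 (iv0 F351592)) (tt N65246 (iv2 F342425)) (tt N21051 (iv3 D68252)) (tt N74709 D145582) (tt N74710 D145583) (tt N44460 (iv6 F321160)) (tt N74699 (iv7 F321165)))
theorem Q41560 : ∀ i, i < 41560 → P i := stepQ 41559 Q41559 (allL N41559 (tt N73013 (iv1 F342427)) (tt N73016 (iv0 F342431)) (tt N73183 (iv2 F321163)) (tt N73041 (iv3 F331808)) (tt N21051 (iv4 D68253)) (tt N74711 D145586) (tt N44461 (iv6 F321161)) (tt N73182 (iv7 F342416)))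
theorem Q41561 : ∀ i, i < 41561 → P i := stepQ 41560 Q41560 (allL N41560 (tt N73199 (iv1 F350132)) (tt N74706 F228620) (tt N73788 (iv2 F320593)) (tt N74710 (iv3 F228624)) (tt N73498 (iv4 F351590)) (tt N21051 (iv5 D68254)) (tt N62523 (iv6 F351580)) (tt N74700 (iv7 F320596)))
theorem Q41562 : ∀ i, i < 41562 → P i := stepQ 41561 Q41561 (allL N41561 (tt N40472 (iv1 F342440)) (tt N40476 (iv0 F342441)) (tt N74702 (iv2 F228594)) (tt N74712 D145605) (tt N21052 (iv4 D68258)) (tt N73177 (iv5 F348829)) (tt N40436 F323822) (tt N66894 (iv7 F318468)))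
theorem Q41563 : ∀ i, i < 41563 → P i := stepQ 41562 Q41562 (allL N41562 (tt N65216 (iv1 F318465)) (tt N65260 (iv0 F318466)) (tt N43544 (iv2 F318461)) (tt N21056 F104405) (tt N66894 (iv4 F318467)) (tt N21053 F104406) (tt N22408 (iv6 F318469)) (tt N21052 (iv7 D68259)))
theorem Q41564 : ∀ i, i < 41564 → P i := stepQ 41563 Q41563 (allL N41563 (tt N63357 (iv1 F322230)) (tt N72695 (iv0 F322231)) (tt N62687 (iv2 F352797)) (tt N21054 (iv3 D68260)) (tt N62285 (iv4 F322236)) (tt N72286 F221890) (tt N56042 (iv6 F322237)) (tt N25159 F320497))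
theorem Q41565 : ∀ i, i < 41565 → P i := stepQ 41564 Q41564 (allL N41564 (tt N23592 (iv1 F324086)) (tt N21055 (iv0 D68264)) (tt N40483 F320591) (tt N63867 (iv3 F323320)) (tt N25265 F319655) (tt N24103 F322589) (tt N45785 (iv6 F321633)) (tt N25263 F319656))
theorem Q41566 : ∀ i, i < 41566 → P i := stepQ 41565 Q41565 (allL N41565 (tt N68527 (iv1 F342405)) (tt N74713 D145632) (tt N74714 D145633) (tt N21055 (iv3 D68266)) (tt N74712 (iv4 F228632)) (tt N23588 (iv5 F325025)) (tt N73426 F323779) (tt N74715 D145635))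
theorem Q41567 : ∀ i, i < 41567 → P i := stepQ 41566 Q41566 (allL N41566 (tt N25263 (iv1 F318449)) (tt N40483 F320623) (tt N23592 (iv2 F324087)) (tt N74715 (iv3 F228654)) (tt N21056 F104415) (tt N23538 (iv5 F324096)) (tt N21864 (iv6 F318471)) (tt N21055 (iv7 D68268)))
theorem Q41568 : ∀ i, i < 41568 → P i := stepQ 41567 Q41567 (allL N41567 (tt N55921 (iv1 F162142)) (tt N55920 F162148) (tt N55923 (iv2 F162145)) (tt N74716 D145640) (tt N21057 (iv4 D68270)) (tt N74717 D145641) (tt N55905 (iv6 F162087)) (tt N55859 F161967))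
theorem Q41569 : ∀ i, i < 41569 → P i := stepQ 41568 Q41568 (allL N41568 (tt N62698 (iv1 F183134)) (tt N30245 (iv0 F104419)) (tt N21059 F104418) (tt N74718 D145642) (tt N21058 (iv4 D68271)) (tt N74719 D145643) (tt N74720 D145644) (tt N55924 (iv7 F162158)))
theorem Q41570 : ∀ i, i < 41570 → P i := stepQ 41569 Q41569 (allL N41569 (tt N37893 (iv1 F104423)) (tt N37892 F104424) (tt N21060 F104420) (tt N57332 (iv3 F166236)) (tt N74720 (iv4 F228659)) (tt N35971 F104421) (tt N21058 (iv6 D68272)) (tt N30584 F104422))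
theorem Q41571 : ∀ i, i < 41571 → P i := stepQ 41570 Q41570 (allL N41570 (tt N55924 F162159) (tt N21059 (iv0 D68273)) (tt N62698 F183137) (tt N73043 (iv3 F331812)) (tt N30249 F104425) (tt N74721 D145646) (tt N58400 (iv6 F169287)) (tt N30245 (iv7 F104426)))
theorem Q41572 : ∀ i, i < 41572 → P i := stepQ 41571 Q41571 (allL N41571 (tt N63171 (iv1 F320844)) (tt N74276 (iv0 F343136)) (tt N74722 D145649) (tt N21059 (iv3 D68274)) (tt N21061 F104427) (tt N57634 (iv5 F351842)) (tt N74723 D145651) (tt N40487 F104428))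
theorem Q41573 : ∀ i, i < 41573 → P i := stepQ 41572 Q41572 (allL N41572 (tt N74724 D145652) (tt N74725 D145653) (tt N74719 (iv2 F228657)) (tt N57634 (iv3 F351841)) (tt N74726 D145654) (tt N21059 (iv5 D68275)) (tt N74727 D145655) (tt N62699 (iv7 F183139)))
theorem Q41574 : ∀ i, i < 41574 → P i := stepQ 41573 Q41573 (allL N41573 (tt N74728 D145656) (tt N74729 D145657) (tt N74720 (iv2 F228658)) (tt N74723 (iv3 F228674)) (tt N21060 F104429) (tt N74730 D145658) (tt N21059 (iv6 D68276)) (tt N37894 F104430))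
theorem Q41575 : ∀ i, i < 41575 → P i := stepQ 41574 Q41574 (allL N41574 (tt N30584 (iv1 F104432)) (tt N21060 (iv0 D68277)) (tt N37893 (iv2 F202566)) (tt N60893 (iv3 F328270)) (tt N71941 (iv4 F347234)) (tt N37977 F104431) (tt N55887 (iv6 F162046)) (tt N37892 F202560))
theorem Q41576 : ∀ i, i < 41576 → P i := stepQ 41575 Q41575 (allL N41575 (tt N21060 (iv1 D68278)) (tt N30584 F104433) (tt N37892 F202562) (tt N74731 D145660) (tt N71942 (iv4 F344616)) (tt N37938 (iv5 F104434)) (tt N57635 (iv6 F167260)) (tt N37893 F202565))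
theorem Q41577 : ∀ i, i < 41577 → P i := stepQ 41576 Q41576 (allL N41576 (tt N40486 (iv1 F104440)) (tt N40216 (iv0 F167396)) (tt N21061 (iv2 D68281)) (tt N25265 F318705) (tt N74722 (iv4 F228667)) (tt N74732 D145665) (tt N65382 F318706) (tt N25257 F318707))
theorem Q41578 : ∀ i, i < 41578 → P i := stepQ 41577 Q41577 (allL N41577 (tt N74733 D145667) (tt N74734 D145668) (tt N74732 (iv2 F228710)) (tt N21062 F104441) (tt N74735 D145669) (tt N21061 (iv5 D68282)) (tt N74736 D145670) (tt N40488 F104442))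
theorem Q41579 : ∀ i, i < 41579 → P i := stepQ 41578 Q41578 (allL N41578 (tt N41410 (iv1 F317331)) (tt N41414 (iv0 F317330)) (tt N65382 (iv2 F317334)) (tt N21063 F104443) (tt N74723 (iv4 F228675)) (tt N62395 (iv5 F181095)) (tt N21061 (iv6 D68283)) (tt N37913 F104444))
theorem Q41580 : ∀ i, i < 41580 → P i := stepQ 41579 Q41579 (allL N41579 (tt N21062 (iv1 D68284)) (tt N21065 F104445) (tt N40485 (iv2 F104448)) (tt N74737 D145673) (tt N46390 (iv4 F324235)) (tt N31152 F104447) (tt N44486 (iv6 F316867)) (tt N40484 F104446))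
theorem Q41581 : ∀ i, i < 41581 → P i := stepQ 41580 Q41580 (allL N41580 (tt N23594 F322788) (tt N23593 F322789) (tt N23595 F322790) (tt N63750 (iv3 F324264)) (tt N21062 (iv4 D68285)) (tt N23540 (iv5 F323521)) (tt N42340 (iv6 F318626)) (tt N23539 F322791))
theorem Q41582 : ∀ i, i < 41582 → P i := stepQ 41581 Q41581 (allL N41581 (tt N35476 F316358) (tt N23156 F316359) (tt N36383 F316360) (tt N74736 (iv3 F228723)) (tt N42340 (iv4 F318625)) (tt N41674 F316361) (tt N21062 (iv6 D68286)) (tt N36384 F316362))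
theorem Q41583 : ∀ i, i < 41583 → P i := stepQ 41582 Q41582 (allL N41582 (tt N63219 (iv1 F324075)) (tt N74738 D145686) (tt N66374 (iv2 F204060)) (tt N24104 F322586) (tt N43984 (iv4 F324082)) (tt N21064 (iv5 D68288)) (tt N63052 (iv6 F324084)) (tt N45515 (iv7 F324030)))
theorem Q41584 : ∀ i, i < 41584 → P i := stepQ 41583 Q41583 (allL N41583 (tt N58797 F170768) (tt N32079 (iv0 F161387)) (tt N58780 (iv2 F170732)) (tt N23665 (iv3 F321754)) (tt N21066 (iv4 D68298)) (tt N74739 D145703) (tt N64137 F319907) (tt N58783 (iv7 F170742)))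
theorem Q41585 : ∀ i, i < 41585 → P i := stepQ 41584 Q41584 (allL N41584 (tt N35760 F166178) (tt N35764 (iv0 F170642)) (tt N58781 (iv2 F170733)) (tt N21068 F104469) (tt N74740 D145704) (tt N21066 (iv5 D68299)) (tt N30608 (iv6 F166174)) (tt N55954 (iv7 F166109)))
theorem Q41586 : ∀ i, i < 41586 → P i := stepQ 41585 Q41585 (allL N41585 (tt N31916 F104480) (tt N31918 F104481) (tt N39952 F104476) (tt N74732 F320624) (tt N21068 (iv4 D68302)) (tt N25265 (iv5 F317402)) (tt N22703 F104477) (tt N25264 F315178))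
theorem Q41587 : ∀ i, i < 41587 → P i := stepQ 41586 Q41586 (allL N41586 (tt N32008 F166126) (tt N58882 F171224) (tt N58872 (iv2 F171200)) (tt N24168 (iv3 F317709)) (tt N21069 (iv4 D68306)) (tt N25077 (iv5 F316586)) (tt N58783 (iv6 F170741)) (tt N25076 F314136))
theorem Q41588 : ∀ i, i < 41588 → P i := stepQ 41587 Q41587 (allL N41587 (tt N24921 F325657) (tt N21071 (iv0 D68309)) (tt N24955 (iv2 F326478)) (tt N45339 (iv3 F326479)) (tt N74741 D145720) (tt N24274 (iv5 F326486)) (tt N44627 F325658) (tt N24954 (iv7 F326487)))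
theorem Q41589 : ∀ i, i < 41589 → P i := stepQ 41588 Q41588 (allL N41588 (tt N21525 F104498) (tt N21524 F104499) (tt N21076 F104495) (tt N36305 F104496) (tt N21295 F104500) (tt N21075 (iv5 D68325)) (tt N48480 F312108) (tt N21516 F104497))
theorem Q41590 : ∀ i, i < 41590 → P i := stepQ 41589 Q41589 (allL N41589 (tt N21280 F104503) (tt N21299 F104504) (tt N21295 F104501) (tt N74742 D145733) (tt N21076 (iv4 D68326)) (tt N42071 (iv5 F105416)) (tt N74743 D145734) (tt N21294 F104502))
theorem Q41591 : ∀ i, i < 41591 → P i := stepQ 41590 Q41590 (allL N41590 (tt N35298 F310876) (tt N35299 F310877) (tt N48480 F310878) (tt N21078 F104505) (tt N74743 (iv4 F228840)) (tt N30680 F104506) (tt N21076 (iv6 D68327)) (tt N48479 F310879))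
theorem Q41592 : ∀ i, i < 41592 → P i := stepQ 41591 Q41591 (allL N41591 (tt N74744 D145738) (tt N61284 (iv0 F322759)) (tt N74745 D145740) (tt N21077 (iv3 D68328)) (tt N74742 (iv4 F228837)) (tt N23284 F104507) (tt N74746 D145741) (tt N21528 F104508))
theorem Q41593 : ∀ i, i < 41593 → P i := stepQ 41592 Q41592 (allL N41592 (tt N67927 (iv1 F317157)) (tt N74747 D145743) (tt N41687 (iv2 F104732)) (tt N74746 (iv3 F228858)) (tt N21078 F104509) (tt N48092 (iv5 F130687)) (tt N21077 (iv6 D68329)) (tt N48514 (iv7 F133114)))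
theorem Q41594 : ∀ i, i < 41594 → P i := stepQ 41593 Q41593 (allL N41593 (tt N21078 (iv1 D68331)) (tt N41689 F104739) (tt N41668 (iv2 F109838)) (tt N41640 F184744) (tt N48128 (iv4 F130728)) (tt N33820 F308871) (tt N42649 F307292) (tt N41688 (iv7 F110534)))
theorem Q41595 : ∀ i, i < 41595 → P i := stepQ 41594 Q41594 (allL N41594 (tt N41668 (iv1 F110532)) (tt N41688 F104738) (tt N41689 (iv2 F104735)) (tt N48479 F311261) (tt N48514 (iv4 F133112)) (tt N30688 F104510) (tt N21527 F104511) (tt N21078 (iv7 D68332)))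
theorem Q41596 : ∀ i, i < 41596 → P i := stepQ 41595 Q41595 (allL N41595 (tt N74748 D145744) (tt N74749 D145745) (tt N21090 F104512) (tt N43244 (iv3 F309786)) (tt N21080 F104513) (tt N45574 (iv5 F309788)) (tt N21079 (iv6 D68333)) (tt N61365 F307772))
theorem Q41597 : ∀ i, i < 41597 → P i := stepQ 41596 Q41596 (allL N41596 (tt N21093 (iv1 F104517)) (tt N21080 (iv0 D68334)) (tt N21091 (iv2 F104514)) (tt N74750 D145748) (tt N45411 (iv4 F307307)) (tt N37646 F104515) (tt N42302 F313181) (tt N21092 F104516))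
theorem Q41598 : ∀ i, i < 41598 → P i := stepQ 41597 Q41597 (allL N41597 (tt N66678 (iv1 F233828)) (tt N66719 (iv0 F233829)) (tt N43916 (iv2 F307100)) (tt N21083 F104524) (tt N42210 (iv4 F105593)) (tt N21710 F104525) (tt N21081 (iv6 D68336)) (tt N43921 (iv7 F307102)))
theorem Q41599 : ∀ i, i < 41599 → P i := stepQ 41598 Q41598 (allL N41598 (tt N74751 D145753) (tt N32757 (iv0 F321002)) (tt N74752 D145755) (tt N21082 (iv3 D68337)) (tt N42209 (iv4 F105592)) (tt N62598 (iv5 F182677)) (tt N49807 (iv6 F321004)) (tt N62595 (iv7 F182662)))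
theorem Q41600 : ∀ i, i < 41600 → P i := stepQ 41599 Q41599 (allL N41599 (tt N37962 F321651) (tt N37959 F321652) (tt N62599 (iv2 F182679)) (tt N49807 (iv3 F321003)) (tt N21083 F104526) (tt N37847 (iv5 F323340)) (tt N21082 (iv6 D68338)) (tt N66754 (iv7 F205330)))
theorem Q41601 : ∀ i, i < 41601 → P i := stepQ 41600 Q41600 (allL N41600 (tt N65108 (iv1 F335055)) (tt N40454 F339605) (tt N66646 (iv2 F204833)) (tt N21086 F104529) (tt N42067 (iv4 F105414)) (tt N21889 F104530) (tt N21084 (iv6 D68341)) (tt N44374 F317008))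
theorem Q41602 : ∀ i, i < 41602 → P i := stepQ 41601 Q41601 (allL N41601 (tt N64344 (iv1 F325856)) (tt N74753 D145763) (tt N74754 D145764) (tt N21085 (iv3 D68342)) (tt N42066 (iv4 F105413)) (tt N62595 (iv5 F182661)) (tt N74755 D145765) (tt N62598 (iv7 F182678)))
theorem Q41603 : ∀ i, i < 41603 → P i := stepQ 41602 Q41602 (allL N41602 (tt N45543 (iv1 F323545)) (tt N24646 (iv0 F323542)) (tt N62596 (iv2 F182663)) (tt N74755 (iv3 F228899)) (tt N21086 F104531) (tt N59755 (iv5 F319657)) (tt N21085 (iv6 D68343)) (tt N44379 F317406))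
theorem Q41604 : ∀ i, i < 41604 → P i := stepQ 41603 Q41603 (allL N41603 (tt N58878 (iv1 F354584)) (tt N52556 (iv0 F354582)) (tt N74756 D145778) (tt N21087 (iv3 D68347)) (tt N51651 (iv4 F318882)) (tt N62601 (iv5 F182687)) (tt N74757 D145779) (tt N62600 (iv7 F182683)))
theorem Q41605 : ∀ i, i < 41605 → P i := stepQ 41604 Q41604 (allL N41604 (tt N37077 F321250) (tt N37076 F321251) (tt N62602 (iv2 F182689)) (tt N74757 (iv3 F228910)) (tt N21143 F104533) (tt N36929 (iv5 F322908)) (tt N21087 (iv6 D68348)) (tt N66755 F205336))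
theorem Q41606 : ∀ i, i < 41606 → P i := stepQ 41605 Q41605 (allL N41605 (tt N74758 D145781) (tt N74759 D145782) (tt N74760 D145783) (tt N21088 (iv3 D68349)) (tt N62738 (iv4 F183421)) (tt N62600 (iv5 F182682)) (tt N74761 D145784) (tt N62601 (iv7 F182688)))
theorem Q41607 : ∀ i, i < 41607 → P i := stepQ 41606 Q41606 (allL N41606 (tt N34726 (iv1 F321812)) (tt N34714 F320080) (tt N34724 (iv2 F321807)) (tt N74761 (iv3 F228911)) (tt N21141 F104534) (tt N58477 (iv5 F319959)) (tt N21088 (iv6 D68350)) (tt N34725 (iv7 F321810)))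
theorem Q41608 : ∀ i, i < 41608 → P i := stepQ 41607 Q41607 (allL N41607 (tt N64222 (iv1 F314983)) (tt N37949 (iv0 F314985)) (tt N21144 F104535) (tt N73960 (iv3 F226294)) (tt N21139 F104536) (tt N70559 F312526) (tt N21089 (iv6 D68351)) (tt N64250 (iv7 F319113)))
theorem Q41609 : ∀ i, i < 41609 → P i := stepQ 41608 Q41608 (allL N41608 (tt N61365 F308144) (tt N21090 (iv0 D68352)) (tt N74748 F228866) (tt N48756 (iv3 F310174)) (tt N44597 F215670) (tt N67835 (iv5 F310175)) (tt N70560 (iv6 F313443)) (tt N74749 (iv7 F228870)))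
theorem Q41610 : ∀ i, i < 41610 → P i := stepQ 41609 Q41609 (allL N41609 (tt N21090 (iv1 D68353)) (tt N61365 (iv0 F306218)) (tt N74749 (iv2 F228873)) (tt N66911 (iv3 F306220)) (tt N43153 F113803) (tt N66910 (iv5 F306222)) (tt N44877 (iv6 F113802)) (tt N74748 F228867))
theorem Q41611 : ∀ i, i < 41611 → P i := stepQ 41610 Q41610 (allL N41610 (tt N34102 (iv1 F310240)) (tt N45576 (iv0 F310241)) (tt N45574 (iv2 F309787)) (tt N42664 (iv3 F310238)) (tt N43152 (iv4 F310243)) (tt N21090 (iv5 D68354)) (tt N70559 (iv6 F310244)) (tt N45573 (iv7 F309791)))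
theorem Q41612 : ∀ i, i < 41612 → P i := stepQ 41611 Q41611 (allL N41611 (tt N74749 (iv1 F228869)) (tt N74748 F228868) (tt N61365 F307773) (tt N33836 (iv3 F309789)) (tt N21093 F104537) (tt N45573 (iv5 F309790)) (tt N48359 F316336) (tt N21090 (iv7 D68355)))
theorem Q41613 : ∀ i, i < 41613 → P i := stepQ 41612 Q41612 (allL N41612 (tt N27611 (iv1 F307972)) (tt N29584 (iv0 F307973)) (tt N46006 (iv2 F307974)) (tt N21091 (iv3 D68356)) (tt N34704 (iv4 F307976)) (tt N27738 F306028) (tt N74762 D145804) (tt N45225 F306029))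
theorem Q41614 : ∀ i, i < 41614 → P i := stepQ 41613 Q41613 (allL N41613 (tt N66938 (iv1 F307299)) (tt N42404 (iv0 F215799)) (tt N45411 (iv2 F307306)) (tt N24828 F319794) (tt N21091 (iv4 D68357)) (tt N45410 (iv5 F307978)) (tt N24826 (iv6 F321687)) (tt N69679 (iv7 F215802)))
theorem Q41615 : ∀ i, i < 41615 → P i := stepQ 41614 Q41614 (allL N41614 (tt N40233 (iv1 F313217)) (tt N73402 (iv0 F313212)) (tt N42302 F310970) (tt N74762 (iv3 F228940)) (tt N24826 F323369) (tt N33794 F310971) (tt N21091 (iv6 D68358)) (tt N42613 F106514))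
theorem Q41616 : ∀ i, i < 41616 → P i := stepQ 41615 Q41615 (allL N41615 (tt N68412 (iv1 F210319)) (tt N51993 (iv0 F307295)) (tt N74763 D145811) (tt N21092 (iv3 D68359)) (tt N42092 F228950) (tt N37644 F104538) (tt N44912 (iv6 F113915)) (tt N74750 (iv7 F228882)))
theorem Q41617 : ∀ i, i < 41617 → P i := stepQ 41616 Q41616 (allL N41616 (tt N42404 F113957) (tt N66938 (iv0 F307298)) (tt N69679 (iv2 F215800)) (tt N25361 (iv3 F307303)) (tt N21092 (iv4 D68360)) (tt N25360 (iv5 F307304)) (tt N44913 (iv6 F113918)) (tt N45411 (iv7 F307308)))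
theorem Q41618 : ∀ i, i < 41618 → P i := stepQ 41617 Q41617 (allL N41617 (tt N64012 (iv1 F334912)) (tt N73389 (iv0 F334922)) (tt N27852 (iv2 F311487)) (tt N21095 F104548) (tt N51994 (iv4 F311493)) (tt N62735 (iv5 F183405)) (tt N21094 (iv6 D68372)) (tt N74764 D145827))
theorem Q41619 : ∀ i, i < 41619 → P i := stepQ 41618 Q41618 (allL N41618 (tt N41713 (iv1 F315575)) (tt N41709 (iv0 F317438)) (tt N42863 (iv2 F308802)) (tt N74764 (iv3 F228972)) (tt N21156 (iv4 F310942)) (tt N21154 F131077) (tt N44911 F131078) (tt N21095 (iv7 D68386)))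
theorem Q41620 : ∀ i, i < 41620 → P i := stepQ 41619 Q41619 (allL N41619 (tt N74765 D145889) (tt N42184 F334977) (tt N41716 (iv2 F104812)) (tt N41807 (iv3 F104908)) (tt N41400 F104573) (tt N43523 (iv5 F109141)) (tt N21098 (iv6 D68409)) (tt N72355 (iv7 F314678)))
theorem Q41621 : ∀ i, i < 41621 → P i := stepQ 41620 Q41620 (allL N41620 (tt N41310 F104577) (tt N41309 F104578) (tt N33669 F104574) (tt N33627 F104575) (tt N39012 F327472) (tt N21099 (iv5 D68410)) (tt N39010 (iv6 F327969)) (tt N33668 F104576))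
theorem Q41622 : ∀ i, i < 41622 → P i := stepQ 41621 Q41621 (allL N41621 (tt N42055 (iv1 F232284)) (tt N42169 (iv0 F232281)) (tt N41991 (iv2 F105227)) (tt N33629 F104579) (tt N41402 F104580) (tt N21764 F104581) (tt N21100 (iv6 D68411)) (tt N42168 F232261))
theorem Q41623 : ∀ i, i < 41623 → P i := stepQ 41622 Q41622 (allL N41622 (tt N61741 (iv1 F331691)) (tt N74766 D145897) (tt N73755 (iv2 F225674)) (tt N21101 (iv3 D68412)) (tt N21138 F104582) (tt N74166 (iv5 F226880)) (tt N32873 F321736) (tt N62716 (iv7 F183337)))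
theorem Q41624 : ∀ i, i < 41624 → P i := stepQ 41623 Q41623 (allL N41623 (tt N61246 (iv1 F318218)) (tt N61352 F320377) (tt N21111 F104583) (tt N74166 (iv3 F226879)) (tt N33587 F104584) (tt N21101 (iv5 D68413)) (tt N70679 (iv6 F329186)) (tt N41648 (iv7 F104645)))
theorem Q41625 : ∀ i, i < 41625 → P i := stepQ 41624 Q41624 (allL N41624 (tt N21115 (iv1 F104591)) (tt N21102 (iv0 D68415)) (tt N21113 F264331) (tt N66643 (iv3 F337243)) (tt N42754 (iv4 F314717)) (tt N66760 F205363) (tt N32844 F312332) (tt N21114 F264332))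
theorem Q41626 : ∀ i, i < 41626 → P i := stepQ 41625 Q41625 (allL N41625 (tt N21102 (iv1 D68416)) (tt N21115 F104587) (tt N21114 (iv2 F264324)) (tt N74767 D145909) (tt N63398 (iv4 F316453)) (tt N66761 (iv5 F205356)) (tt N72742 (iv6 F333640)) (tt N21113 (iv7 F264330)))
theorem Q41627 : ∀ i, i < 41627 → P i := stepQ 41626 Q41626 (allL N41626 (tt N21114 (iv1 F104592)) (tt N21113 F104593) (tt N21115 F104588) (tt N21133 F104589) (tt N32839 (iv4 F319877)) (tt N21115 F104590) (tt N62720 (iv6 F183344)) (tt N21102 (iv7 D68417)))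
theorem Q41628 : ∀ i, i < 41628 → P i := stepQ 41627 Q41627 (allL N41627 (tt N41359 (iv1 F104599)) (tt N41347 F104598) (tt N21103 (iv2 D68418)) (tt N41371 F104594) (tt N33609 F104595) (tt N33561 F104596) (tt N66820 (iv6 F205683)) (tt N41357 F104597))
theorem Q41629 : ∀ i, i < 41629 → P i := stepQ 41628 Q41628 (allL N41628 (tt N74768 D145912) (tt N74769 D145913) (tt N66820 (iv2 F205682)) (tt N21105 F104600) (tt N41914 (iv4 F105067)) (tt N21777 F104601) (tt N21103 (iv6 D68419)) (tt N74770 D145914))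
theorem Q41630 : ∀ i, i < 41630 → P i := stepQ 41629 Q41629 (allL N41629 (tt N21104 (iv1 D68420)) (tt N21107 F104602) (tt N41363 (iv2 F104605)) (tt N74771 D145915) (tt N21287 F104604) (tt N74463 (iv5 F227942)) (tt N61426 (iv6 F316452)) (tt N41364 F104603))
theorem Q41631 : ∀ i, i < 41631 → P i := stepQ 41630 Q41630 (allL N41630 (tt N74772 D145917) (tt N74773 D145918) (tt N74774 D145919) (tt N21104 (iv3 D68421)) (tt N41912 (iv4 F105065)) (tt N74775 D145920) (tt N74776 D145921) (tt N41365 F104606))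
theorem Q41632 : ∀ i, i < 41632 → P i := stepQ 41631 Q41631 (allL N41631 (tt N63414 (iv1 F317677)) (tt N56458 (iv0 F316852)) (tt N41375 F104607) (tt N74775 (iv3 F229113)) (tt N41646 (iv4 F104640)) (tt N21104 (iv5 D68422)) (tt N74777 D145924) (tt N41366 F104608))
theorem Q41633 : ∀ i, i < 41633 → P i := stepQ 41632 Q41632 (allL N41632 (tt N74778 D145925) (tt N74779 D145926) (tt N41376 F104609) (tt N74776 (iv3 F229115)) (tt N21105 F104610) (tt N74780 D145927) (tt N21104 (iv6 D68423)) (tt N74781 D145928))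
theorem Q41634 : ∀ i, i < 41634 → P i := stepQ 41633 Q41633 (allL N41633 (tt N21105 (iv1 D68425)) (tt N41377 F104611) (tt N25269 F155145) (tt N21119 F199807) (tt N74782 D145929) (tt N25268 F155147) (tt N40643 (iv6 F313476)) (tt N41353 (iv7 F199851)))
theorem Q41635 : ∀ i, i < 41635 → P i := stepQ 41634 Q41634 (allL N41634 (tt N25269 F155282) (tt N41353 (iv0 F199847)) (tt N41377 F104612) (tt N74770 (iv3 F229098)) (tt N74781 (iv4 F229131)) (tt N21781 F104613) (tt N41369 F104614) (tt N21105 (iv7 D68426)))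
theorem Q41636 : ∀ i, i < 41636 → P i := stepQ 41635 Q41635 (allL N41635 (tt N33617 F104620) (tt N33679 F104621) (tt N33675 F104618) (tt N74783 D145931) (tt N21106 (iv4 D68427)) (tt N38240 F328431) (tt N74784 D145932) (tt N33674 F104619))
theorem Q41637 : ∀ i, i < 41637 → P i := stepQ 41636 Q41636 (allL N41636 (tt N74785 D145933) (tt N46596 F359375) (tt N66642 (iv2 F204826)) (tt N21108 F104622) (tt N74784 (iv4 F229155)) (tt N66826 (iv5 F205733)) (tt N21106 (iv6 D68428)) (tt N74786 D145935))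
theorem Q41638 : ∀ i, i < 41638 → P i := stepQ 41637 Q41637 (allL N41637 (tt N74787 D145936) (tt N74788 D145937) (tt N74789 D145938) (tt N21107 (iv3 D68429)) (tt N74783 (iv4 F229152)) (tt N74790 D145939) (tt N74791 D145940) (tt N41374 F104623))
theorem Q41639 : ∀ i, i < 41639 → P i := stepQ 41638 Q41638 (allL N41638 (tt N56458 (iv1 F316853)) (tt N63414 (iv0 F317676)) (tt N41366 F104624) (tt N74790 (iv3 F229170)) (tt N41643 (iv4 F104636)) (tt N21107 (iv5 D68430)) (tt N51428 (iv6 F326238)) (tt N41375 F104625))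
theorem Q41640 : ∀ i, i < 41640 → P i := stepQ 41639 Q41639 (allL N41639 (tt N74792 D145942) (tt N26419 F315227) (tt N41367 F104626) (tt N74791 (iv3 F229172)) (tt N21108 F104627) (tt N51083 (iv5 F317465)) (tt N21107 (iv6 D68431)) (tt N74793 D145945))
theorem Q41641 : ∀ i, i < 41641 → P i := stepQ 41640 Q41640 (allL N41640 (tt N21108 (iv1 D68433)) (tt N41369 F104628) (tt N32845 (iv2 F311525)) (tt N41593 (iv3 F184744)) (tt N32834 (iv4 F311529)) (tt N47388 F317472) (tt N32833 F309314) (tt N41368 F184742))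
theorem Q41642 : ∀ i, i < 41642 → P i := stepQ 41641 Q41641 (allL N41641 (tt N32845 F313957) (tt N41368 F104633) (tt N41369 F104629) (tt N74786 (iv3 F229157)) (tt N74793 (iv4 F229177)) (tt N68489 (iv5 F210652)) (tt N41377 F104630) (tt N21108 (iv7 D68434)))
theorem Q41643 : ∀ i, i < 41643 → P i := stepQ 41642 Q41642 (allL N41642 (tt N74794 D145949) (tt N74795 D145950) (tt N40943 F324990) (tt N21109 (iv3 D68435)) (tt N40895 F324991) (tt N74796 D145952) (tt N74797 D145953) (tt N62721 (iv7 F183348)))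
theorem Q41644 : ∀ i, i < 41644 → P i := stepQ 41643 Q41643 (allL N41643 (tt N41379 F104637) (tt N32808 F318224) (tt N41404 F104634) (tt N74796 (iv3 F229193)) (tt N41638 F104636) (tt N21109 (iv5 D68436)) (tt N74798 D145954) (tt N41403 F104635))
theorem Q41645 : ∀ i, i < 41645 → P i := stepQ 41644 Q41644 (allL N41644 (tt N65393 (iv1 F233096)) (tt N74782 (iv0 F233097)) (tt N62722 (iv2 F183353)) (tt N74797 (iv3 F229195)) (tt N45201 F114773) (tt N33006 (iv5 F338624)) (tt N21109 (iv6 D68437)) (tt N74799 D145958))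
theorem Q41646 : ∀ i, i < 41646 → P i := stepQ 41645 Q41645 (allL N41645 (tt N29604 (iv1 F323341)) (tt N32947 (iv0 F323342)) (tt N23239 (iv2 F323343)) (tt N21110 (iv3 D68438)) (tt N34692 (iv4 F322800)) (tt N32731 (iv5 F323345)) (tt N23178 F321659) (tt N32945 (iv7 F323347)))
theorem Q41647 : ∀ i, i < 41647 → P i := stepQ 41646 Q41646 (allL N41646 (tt N32808 F318225) (tt N41379 (iv0 F104643)) (tt N41403 F104639) (tt N32731 (iv3 F323344)) (tt N41631 F104640) (tt N21110 (iv5 D68439)) (tt N74800 D145964) (tt N41404 F104641))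
theorem Q41648 : ∀ i, i < 41648 → P i := stepQ 41647 Q41647 (allL N41647 (tt N32848 (iv1 F316444)) (tt N32834 F313960) (tt N32846 F317460) (tt N23178 (iv3 F319716)) (tt N62700 (iv4 F183142)) (tt N74801 D145967) (tt N21110 (iv6 D68440)) (tt N23240 F317461))
theorem Q41649 : ∀ i, i < 41649 → P i := stepQ 41648 Q41648 (allL N41648 (tt N41401 F104647) (tt N41399 F104648) (tt N33587 F104644) (tt N74802 D145969) (tt N21111 (iv4 D68441)) (tt N33583 F104646) (tt N69589 (iv6 F333579)) (tt N41623 F104645))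
theorem Q41650 : ∀ i, i < 41650 → P i := stepQ 41649 Q41649 (allL N41649 (tt N70682 (iv1 F329182)) (tt N39066 (iv0 F329183)) (tt N70679 (iv2 F329184)) (tt N73784 (iv3 F225747)) (tt N69589 (iv4 F333578)) (tt N37328 F328843) (tt N21111 (iv6 D68442)) (tt N70680 (iv7 F329187)))
theorem Q41651 : ∀ i, i < 41651 → P i := stepQ 41650 Q41650 (allL N41650 (tt N74803 D145985) (tt N74804 D145986) (tt N32874 F320194) (tt N73787 (iv3 F225748)) (tt N37329 (iv4 F329188)) (tt N21112 (iv5 D68445)) (tt N37328 F328844) (tt N32871 F320195))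
theorem Q41652 : ∀ i, i < 41652 → P i := stepQ 41651 Q41651 (allL N41651 (tt N74805 D145994) (tt N66645 (iv0 F243222)) (tt N64748 (iv2 F356477)) (tt N21113 (iv3 D68448)) (tt N64746 (iv4 F356475)) (tt N74806 D145998) (tt N63397 (iv6 F311527)) (tt N74767 (iv7 F264325)))
theorem Q41653 : ∀ i, i < 41653 → P i := stepQ 41652 Q41652 (allL N41652 (tt N43939 F313151) (tt N66758 F205371) (tt N66760 (iv2 F264336)) (tt N74806 (iv3 F229225)) (tt N74807 D146007) (tt N21113 (iv5 D68450)) (tt N74502 (iv6 F228031)) (tt N66761 (iv7 F264329)))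
theorem Q41654 : ∀ i, i < 41654 → P i := stepQ 41653 Q41653 (allL N41653 (tt N60863 (iv1 F243207)) (tt N65096 (iv0 F315632)) (tt N66644 (iv2 F356976)) (tt N21114 (iv3 D68453)) (tt N74808 D146013) (tt N74492 F228003) (tt N74809 D146014) (tt N66643 (iv7 F337246)))
theorem Q41655 : ∀ i, i < 41655 → P i := stepQ 41654 Q41654 (allL N41654 (tt N61426 (iv1 F316450)) (tt N61425 (iv0 F316447)) (tt N63398 F317023) (tt N63261 (iv3 F319323)) (tt N21114 (iv4 D68454)) (tt N39087 (iv5 F329138)) (tt N63395 (iv6 F319325)) (tt N42754 F317024))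
theorem Q41656 : ∀ i, i < 41656 → P i := stepQ 41655 Q41655 (allL N41655 (tt N74810 D146018) (tt N65394 (iv0 F205368)) (tt N72742 (iv2 F333639)) (tt N74809 (iv3 F229236)) (tt N63395 (iv4 F319324)) (tt N72720 (iv5 F318731)) (tt N21114 (iv6 D68455)) (tt N63391 (iv7 F333628)))
theorem Q41657 : ∀ i, i < 41657 → P i := stepQ 41656 Q41656 (allL N41656 (tt N41329 (iv1 F104654)) (tt N21116 (iv0 D68456)) (tt N21311 (iv2 F104653)) (tt N74811 D146020) (tt N21291 F104652) (tt N59679 (iv5 F173478)) (tt N74812 D146021) (tt N21289 F104655))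
theorem Q41658 : ∀ i, i < 41658 → P i := stepQ 41657 Q41657 (allL N41657 (tt N36328 F104657) (tt N27489 F317120) (tt N52572 (iv2 F318869)) (tt N72734 (iv3 F223043)) (tt N42104 (iv4 F105463)) (tt N21116 (iv5 D68457)) (tt N74813 D146022) (tt N41331 F104656))
theorem Q41659 : ∀ i, i < 41659 → P i := stepQ 41658 Q41658 (allL N41658 (tt N52032 (iv1 F335090)) (tt N52028 (iv0 F335097)) (tt N55206 (iv2 F317727)) (tt N72735 (iv3 F223047)) (tt N21117 F104659) (tt N74814 D146024) (tt N21116 (iv6 D68458)) (tt N51959 (iv7 F325001)))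
theorem Q41660 : ∀ i, i < 41660 → P i := stepQ 41659 Q41659 (allL N41659 (tt N66651 (iv1 F204854)) (tt N21117 (iv0 D68459)) (tt N55188 (iv2 F307162)) (tt N74815 D146026) (tt N64007 (iv4 F259443)) (tt N48470 F302873) (tt N24938 (iv6 F307167)) (tt N66650 F204853))
theorem Q41661 : ∀ i, i < 41661 → P i := stepQ 41660 Q41660 (allL N41660 (tt N21117 (iv1 D68460)) (tt N66651 F204849) (tt N66650 (iv2 F204845)) (tt N48498 F200381) (tt N64008 F200382) (tt N48469 F305229) (tt N72232 (iv6 F312814)) (tt N55188 (iv7 F307164)))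
theorem Q41662 : ∀ i, i < 41662 → P i := stepQ 41661 Q41661 (allL N41661 (tt N66650 (iv1 F204843)) (tt N55188 (iv0 F307160)) (tt N66651 (iv2 F204847)) (tt N21120 F104660) (tt N51959 (iv4 F325000)) (tt N42691 (iv5 F106863)) (tt N41333 F104661) (tt N21117 (iv7 D68461)))
theorem Q41663 : ∀ i, i < 41663 → P i := stepQ 41662 Q41662 (allL N41662 (tt N21129 F114315) (tt N21673 F311436) (tt N41354 F199979) (tt N25227 F199877) (tt N23370 F311437) (tt N44376 F317393) (tt N21118 (iv6 D68466)) (tt N40647 (iv7 F316367)))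
theorem Q41664 : ∀ i, i < 41664 → P i := stepQ 41663 Q41663 (allL N41663 (tt N33666 F104667) (tt N40630 (iv0 F322577)) (tt N21122 F104665) (tt N67051 (iv3 F340694)) (tt N21121 (iv4 D68472)) (tt N40612 F320817) (tt N56137 (iv6 F321846)) (tt N40611 F320818))
theorem Q41665 : ∀ i, i < 41665 → P i := stepQ 41664 Q41664 (allL N41664 (tt N56110 (iv1 F306062)) (tt N55181 (iv0 F337015)) (tt N21123 F104669) (tt N41330 F104670) (tt N56137 (iv4 F321845)) (tt N38351 F104671) (tt N21121 (iv6 D68473)) (tt N56130 (iv7 F307926)))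
theorem Q41666 : ∀ i, i < 41666 → P i := stepQ 41665 Q41665 (allL N41665 (tt N21122 (iv1 D68474)) (tt N40611 F320312) (tt N40630 F324051) (tt N74816 D146036) (tt N23302 F104674) (tt N44345 (iv5 F320779)) (tt N41351 (iv6 F321840)) (tt N33666 F104673))
theorem Q41667 : ∀ i, i < 41667 → P i := stepQ 41666 Q41666 (allL N41666 (tt N21123 (iv1 D68478)) (tt N56130 (iv0 F307922)) (tt N55181 F337020) (tt N74817 D146048) (tt N34239 (iv4 F323391)) (tt N56111 (iv5 F306066)) (tt N29138 (iv6 F337021)) (tt N56110 (iv7 F306065)))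
theorem Q41668 : ∀ i, i < 41668 → P i := stepQ 41667 Q41667 (allL N41667 (tt N55181 (iv1 F337016)) (tt N56110 (iv0 F306061)) (tt N56130 (iv2 F307923)) (tt N21125 F104678) (tt N56138 (iv4 F321847)) (tt N38356 F104679) (tt N41352 F104680) (tt N21123 (iv7 D68479)))
theorem Q41669 : ∀ i, i < 41669 → P i := stepQ 41668 Q41668 (allL N41668 (tt N21136 F110531) (tt N41594 F110532) (tt N41593 F109838) (tt N21124 (iv3 D68480)) (tt N65352 (iv4 F200973)) (tt N41042 F110533) (tt N21671 F307846) (tt N41334 F104681))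
theorem Q41670 : ∀ i, i < 41670 → P i := stepQ 41669 Q41669 (allL N41669 (tt N21126 (iv1 D68500)) (tt N21128 F104701) (tt N43938 F315591) (tt N66758 (iv3 F205350)) (tt N24019 (iv4 F313164)) (tt N22449 F310933) (tt N44927 (iv6 F114116)) (tt N34574 F104702))
theorem Q41671 : ∀ i, i < 41671 → P i := stepQ 41670 Q41670 (allL N41670 (tt N21127 (iv1 D68507)) (tt N29140 F317657) (tt N56045 F243114) (tt N74805 (iv3 F353433)) (tt N72376 (iv4 F332528)) (tt N74818 D146097) (tt N56053 (iv6 F243116)) (tt N41349 F243115))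
theorem Q41672 : ∀ i, i < 41672 → P i := stepQ 41671 Q41671 (allL N41671 (tt N41349 (iv1 F243192)) (tt N56045 (iv0 F243193)) (tt N21127 (iv2 D68508)) (tt N29143 F317655) (tt N55185 (iv4 F319863)) (tt N74819 D146100) (tt N55185 (iv6 F319865)) (tt N29140 F317656))
theorem Q41673 : ∀ i, i < 41673 → P i := stepQ 41672 Q41672 (allL N41672 (tt N41803 F183263) (tt N55183 (iv0 F319866)) (tt N55185 (iv2 F319862)) (tt N21129 (iv3 F317960)) (tt N21127 (iv4 D68509)) (tt N73127 (iv5 F334905)) (tt N21127 (iv6 F319873)) (tt N55182 F317661))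
theorem Q41674 : ∀ i, i < 41674 → P i := stepQ 41673 Q41673 (allL N41673 (tt N66722 (iv1 F360236)) (tt N74820 D146107) (tt N74819 (iv2 F229337)) (tt N21128 F104710) (tt N74821 D146108) (tt N21127 (iv5 D68510)) (tt N62603 (iv6 F182695)) (tt N62712 (iv7 F183290)))
theorem Q41675 : ∀ i, i < 41675 → P i := stepQ 41674 Q41674 (allL N41674 (tt N21673 F311438) (tt N21129 (iv0 D68516)) (tt N40647 (iv2 F316365)) (tt N74810 (iv3 F251070)) (tt N23371 F311439) (tt N41581 (iv5 F316361)) (tt N33329 F315943) (tt N41354 (iv7 F199978)))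
theorem Q41676 : ∀ i, i < 41676 → P i := stepQ 41675 Q41675 (allL N41675 (tt N36381 F104715) (tt N36378 (iv0 F104714)) (tt N41224 F322399) (tt N73127 (iv3 F334904)) (tt N74822 D146125) (tt N21129 (iv5 D68518)) (tt N35488 F104713) (tt N41223 F322400))
theorem Q41677 : ∀ i, i < 41677 → P i := stepQ 41676 Q41676 (allL N41676 (tt N65097 (iv1 F315636)) (tt N42443 (iv0 F243094)) (tt N66649 (iv2 F243300)) (tt N21130 (iv3 D68521)) (tt N41983 F243033) (tt N66727 (iv5 F243096)) (tt N46892 F310742) (tt N62711 (iv7 F183276)))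
theorem Q41678 : ∀ i, i < 41678 → P i := stepQ 41677 Q41677 (allL N41677 (tt N25049 (iv1 F317180)) (tt N25046 (iv0 F317216)) (tt N41839 F182753) (tt N46351 (iv3 F312989)) (tt N21130 (iv4 D68522)) (tt N23972 (iv5 F316307)) (tt N46350 F312055) (tt N41840 F182751))
theorem Q41679 : ∀ i, i < 41679 → P i := stepQ 41678 Q41678 (allL N41678 (tt N21671 F307840) (tt N32852 F307841) (tt N62710 (iv2 F183268)) (tt N46892 (iv3 F308640)) (tt N46350 (iv4 F309858)) (tt N37502 F104720) (tt N21130 (iv6 D68523)) (tt N53066 F307842))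
theorem Q41680 : ∀ i, i < 41680 → P i := stepQ 41679 Q41679 (allL N41679 (tt N56044 (iv1 F243112)) (tt N74818 (iv0 F229335)) (tt N74823 D146135) (tt N21131 (iv3 D68525)) (tt N41794 F104982) (tt N56072 (iv5 F316394)) (tt N72694 (iv6 F319650)) (tt N62709 (iv7 F183267)))
theorem Q41681 : ∀ i, i < 41681 → P i := stepQ 41680 Q41680 (allL N41680 (tt N25046 (iv1 F317217)) (tt N25049 (iv0 F317179)) (tt N41840 (iv2 F182752)) (tt N47468 (iv3 F318962)) (tt N21131 (iv4 D68526)) (tt N23971 (iv5 F316308)) (tt N47170 F318679) (tt N41839 (iv7 F182755)))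
theorem Q41682 : ∀ i, i < 41682 → P i := stepQ 41681 Q41681 (allL N41681 (tt N24012 (iv1 F317875)) (tt N21132 (iv0 D68528)) (tt N46202 (iv2 F317445)) (tt N74824 D146140) (tt N21221 F183266) (tt N34735 (iv5 F318788)) (tt N74825 D146142) (tt N46200 (iv7 F317444)))
theorem Q41683 : ∀ i, i < 41683 → P i := stepQ 41682 Q41682 (allL N41682 (tt N21132 (iv1 D68529)) (tt N24012 (iv0 F317874)) (tt N46200 (iv2 F317442)) (tt N74826 D146143) (tt N21222 F104983) (tt N34734 (iv5 F318785)) (tt N64218 (iv6 F320935)) (tt N46202 (iv7 F317447)))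
theorem Q41684 : ∀ i, i < 41684 → P i := stepQ 41683 Q41683 (allL N41683 (tt N61004 (iv1 F340169)) (tt N74827 D146147) (tt N74828 D146148) (tt N21132 (iv3 D68530)) (tt N32873 (iv4 F323418)) (tt N24009 (iv5 F321410)) (tt N21138 F104722) (tt N64248 F320067))
theorem Q41685 : ∀ i, i < 41685 → P i := stepQ 41684 Q41684 (allL N41684 (tt N21146 (iv1 F104726)) (tt N21145 F104727) (tt N21148 F104724) (tt N62720 (iv3 F183343)) (tt N64250 (iv4 F319111)) (tt N42301 F310979) (tt N21133 (iv6 D68533)) (tt N21139 F104725))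
theorem Q41686 : ∀ i, i < 41686 → P i := stepQ 41685 Q41685 (allL N41685 (tt N67055 F206439) (tt N55805 (iv0 F337885)) (tt N66658 (iv2 F204901)) (tt N21136 F104728) (tt N41788 (iv4 F104898)) (tt N30554 F104729) (tt N21134 (iv6 D68534)) (tt N74829 D146156))
theorem Q41687 : ∀ i, i < 41687 → P i := stepQ 41686 Q41686 (allL N41686 (tt N74830 D146157) (tt N47502 F334744) (tt N74831 D146159) (tt N21135 (iv3 D68535)) (tt N41786 (iv4 F104896)) (tt N21528 F104730) (tt N61471 (iv6 F353782)) (tt N23284 F104731))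
theorem Q41688 : ∀ i, i < 41688 → P i := stepQ 41687 Q41687 (allL N41687 (tt N69211 (iv1 F314914)) (tt N74832 D146162) (tt N41592 F104732) (tt N61471 (iv3 F353780)) (tt N21136 F104733) (tt N48141 (iv5 F131411)) (tt N21135 (iv6 D68536)) (tt N67100 (iv7 F206641)))
theorem Q41689 : ∀ i, i < 41689 → P i := stepQ 41688 Q41688 (allL N41688 (tt N41594 (iv1 F104738)) (tt N21136 (iv0 D68537)) (tt N41334 (iv2 F110535)) (tt N41368 (iv3 F184660)) (tt N65353 (iv4 F200979)) (tt N41033 (iv5 F104783)) (tt N56151 (iv6 F163090)) (tt N41593 F110534))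
theorem Q41690 : ∀ i, i < 41690 → P i := stepQ 41689 Q41689 (allL N41689 (tt N41593 (iv1 F104739)) (tt N41334 (iv0 F109836)) (tt N41594 F104735) (tt N74829 (iv3 F229407)) (tt N67100 (iv4 F206639)) (tt N30559 F104736) (tt N21812 F104737) (tt N21136 (iv7 D68539)))
theorem Q41691 : ∀ i, i < 41691 → P i := stepQ 41690 Q41690 (allL N41690 (tt N74833 D146163) (tt N74834 D146164) (tt N74835 D146165) (tt N21137 (iv3 D68540)) (tt N66653 (iv4 F204859)) (tt N21510 F104741) (tt N74836 D146166) (tt N22886 F104742))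
theorem Q41692 : ∀ i, i < 41692 → P i := stepQ 41691 Q41691 (allL N41691 (tt N65353 (iv1 F200977)) (tt N65352 F200974) (tt N42416 (iv2 F106154)) (tt N74836 (iv3 F229435)) (tt N21226 F104743) (tt N35462 F104744) (tt N21137 (iv6 D68541)) (tt N25185 F104745))
theorem Q41693 : ∀ i, i < 41693 → P i := stepQ 41692 Q41692 (allL N41692 (tt N73654 (iv1 F225358)) (tt N21138 (iv0 D68542)) (tt N70465 (iv2 F330327)) (tt N74837 D146167) (tt N61728 (iv4 F330330)) (tt N40808 F223810) (tt N30482 (iv6 F330332)) (tt N73959 F226289))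
theorem Q41694 : ∀ i, i < 41694 → P i := stepQ 41693 Q41693 (allL N41693 (tt N21138 (iv1 D68543)) (tt N73654 F225357) (tt N73959 F226288) (tt N74838 D146170) (tt N61011 (iv4 F330317)) (tt N40809 F181775) (tt N61010 (iv6 F355106)) (tt N70465 (iv7 F330329)))
theorem Q41695 : ∀ i, i < 41695 → P i := stepQ 41694 Q41694 (allL N41694 (tt N70465 (iv1 F330326)) (tt N73959 F226287) (tt N21138 (iv2 D68544)) (tt N62485 F181776) (tt N73755 (iv4 F225675)) (tt N62540 (iv5 F320154)) (tt N74828 (iv6 F229395)) (tt N73654 (iv7 F225355)))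
theorem Q41696 : ∀ i, i < 41696 → P i := stepQ 41695 Q41695 (allL N41695 (tt N21148 (iv1 F104746)) (tt N21139 (iv0 D68545)) (tt N21145 F131556) (tt N66665 (iv3 F230933)) (tt N47511 F318696) (tt N40635 (iv5 F313221)) (tt N48156 (iv6 F131555)) (tt N21146 F131557))
theorem Q41697 : ∀ i, i < 41697 → P i := stepQ 41696 Q41696 (allL N41696 (tt N21139 (iv1 D68546)) (tt N21148 F104747) (tt N21146 F131558) (tt N66663 (iv3 F339435)) (tt N37148 (iv4 F316471)) (tt N40634 (iv5 F312711)) (tt N37151 F315524) (tt N21145 F131559))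
theorem Q41698 : ∀ i, i < 41698 → P i := stepQ 41697 Q41697 (allL N41697 (tt N45183 (iv1 F114712)) (tt N45181 (iv0 F114706)) (tt N60820 (iv2 F176964)) (tt N74839 D146178) (tt N21140 (iv4 D68547)) (tt N60820 (iv5 F176965)) (tt N74840 D146179) (tt N60822 (iv7 F176970)))
theorem Q41699 : ∀ i, i < 41699 → P i := stepQ 41698 Q41698 (allL N41698 (tt N74841 D146180) (tt N74842 D146181) (tt N60821 (iv2 F176968)) (tt N62736 (iv3 F183414)) (tt N74840 (iv4 F229454)) (tt N21904 F104748) (tt N21140 (iv6 D68548)) (tt N74843 D146182))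
theorem Q41700 : ∀ i, i < 41700 → P i := stepQ 41699 Q41699 (allL N41699 (tt N21380 F130786) (tt N74844 D146189) (tt N41959 (iv2 F105173)) (tt N21143 F104750) (tt N51653 (iv4 F318895)) (tt N22170 F104751) (tt N21142 (iv6 D68552)) (tt N74845 D146190))
theorem Q41701 : ∀ i, i < 41701 → P i := stepQ 41700 Q41700 (allL N41700 (tt N44884 (iv1 F113832)) (tt N34559 F113826) (tt N39989 (iv2 F310923)) (tt N74845 (iv3 F229481)) (tt N66755 (iv4 F205335)) (tt N22728 F309969) (tt N22729 (iv6 F312203)) (tt N21143 (iv7 D68554)))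
theorem Q41702 : ∀ i, i < 41702 → P i := stepQ 41701 Q41701 (allL N41701 (tt N64250 F319506) (tt N21144 (iv0 D68555)) (tt N64222 F316739) (tt N31346 (iv3 F325920)) (tt N42409 F228929) (tt N37950 (iv5 F319100)) (tt N31343 F324892) (tt N37949 F316740))
theorem Q41703 : ∀ i, i < 41703 → P i := stepQ 41702 Q41702 (allL N41702 (tt N70561 (iv1 F314391)) (tt N38645 (iv0 F314393)) (tt N70559 F311997) (tt N46787 (iv3 F314394)) (tt N69578 (iv4 F314395)) (tt N21144 (iv5 D68557)) (tt N45574 F311998) (tt N67644 (iv7 F314396)))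
theorem Q41704 : ∀ i, i < 41704 → P i := stepQ 41703 Q41703 (allL N41703 (tt N37949 F315686) (tt N64222 F315687) (tt N64250 (iv2 F319110)) (tt N73703 (iv3 F225426)) (tt N21148 F104754) (tt N67644 F315689) (tt N24012 (iv6 F317877)) (tt N21144 (iv7 D68558)))
theorem Q41705 : ∀ i, i < 41705 → P i := stepQ 41704 Q41704 (allL N41704 (tt N66664 (iv1 F230866)) (tt N66655 (iv0 F252891)) (tt N66662 (iv2 F339799)) (tt N21145 (iv3 D68560)) (tt N47513 (iv4 F321781)) (tt N66547 (iv5 F321568)) (tt N66550 (iv6 F321281)) (tt N66663 (iv7 F339439)))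
theorem Q41706 : ∀ i, i < 41706 → P i := stepQ 41705 Q41705 (allL N41705 (tt N42442 (iv1 F229514)) (tt N66667 (iv0 F229515)) (tt N66666 (iv2 F230936)) (tt N21146 (iv3 D68565)) (tt N42015 (iv4 F230409)) (tt N72744 (iv5 F315568)) (tt N67091 (iv6 F206537)) (tt N66665 (iv7 F230935)))
theorem Q41707 : ∀ i, i < 41707 → P i := stepQ 41706 Q41706 (allL N41706 (tt N33794 (iv1 F308788)) (tt N23992 (iv0 F104765)) (tt N42301 (iv2 F308792)) (tt N21156 F104762) (tt N44911 F308778) (tt N21148 F104763) (tt N21156 F104764) (tt N21147 (iv7 D68571)))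
theorem Q41708 : ∀ i, i < 41708 → P i := stepQ 41707 Q41707 (allL N41707 (tt N56052 (iv1 F243385)) (tt N21149 (iv0 D68572)) (tt N56053 (iv2 F243389)) (tt N66667 (iv3 F243390)) (tt N25154 (iv4 F324591)) (tt N74846 D146229) (tt N56045 (iv6 F243391)) (tt N41346 (iv7 F243392)))
theorem Q41709 : ∀ i, i < 41709 → P i := stepQ 41708 Q41708 (allL N41708 (tt N56053 (iv1 F191366)) (tt N41346 (iv0 F191360)) (tt N21149 (iv2 D68574)) (tt N62733 (iv3 F183364)) (tt N41339 (iv4 F322914)) (tt N40608 (iv5 F321516)) (tt N40611 F320092) (tt N56052 (iv7 F243388)))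
theorem Q41710 : ∀ i, i < 41710 → P i := stepQ 41709 Q41709 (allL N41709 (tt N41618 F317438) (tt N21842 F317439) (tt N36382 (iv2 F317825)) (tt N40636 (iv3 F317838)) (tt N33457 F317440) (tt N21150 (iv5 D68581)) (tt N29750 (iv6 F317839)) (tt N40639 (iv7 F105871)))
theorem Q41711 : ∀ i, i < 41711 → P i := stepQ 41710 Q41710 (allL N41710 (tt N74812 (iv1 F229594)) (tt N29147 F319857) (tt N51926 (iv2 F317109)) (tt N74847 D146271) (tt N21151 (iv4 D68592)) (tt N52594 (iv5 F321371)) (tt N27835 F319356) (tt N62734 (iv7 F183369)))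
theorem Q41712 : ∀ i, i < 41712 → P i := stepQ 41711 Q41711 (allL N41711 (tt N52582 (iv1 F348984)) (tt N52580 (iv0 F330072)) (tt N66677 (iv2 F204930)) (tt N21153 F104797) (tt N74848 D146275) (tt N21151 (iv5 D68593)) (tt N21636 (iv6 F104798)) (tt N33321 F319669))
theorem Q41713 : ∀ i, i < 41713 → P i := stepQ 41712 Q41712 (allL N41712 (tt N56019 (iv1 F333617)) (tt N62729 (iv0 F363629)) (tt N72737 (iv2 F319827)) (tt N21152 (iv3 D68594)) (tt N74847 (iv4 F229595)) (tt N74849 D146279) (tt N44017 (iv6 F110671)) (tt N40638 F105867))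
theorem Q41714 : ∀ i, i < 41714 → P i := stepQ 41713 Q41713 (allL N41713 (tt N21842 (iv1 F315626)) (tt N41618 F315575) (tt N40639 F105872) (tt N74849 (iv3 F229605)) (tt N33658 F315576) (tt N21152 (iv5 D68595)) (tt N38358 (iv6 F315577)) (tt N36382 (iv7 F317827)))
theorem Q41715 : ∀ i, i < 41715 → P i := stepQ 41714 Q41714 (allL N41714 (tt N74846 (iv1 F243380)) (tt N42630 (iv0 F229618)) (tt N74850 D146286) (tt N21154 (iv3 D68598)) (tt N74851 D146287) (tt N74764 (iv5 F228973)) (tt N42333 F315208) (tt N62735 (iv7 F183406)))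
theorem Q41716 : ∀ i, i < 41716 → P i := stepQ 41715 Q41715 (allL N41715 (tt N21160 (iv1 D68611)) (tt N21304 F104806) (tt N21324 F104810) (tt N21338 (iv3 F104809)) (tt N41387 (iv4 F104811)) (tt N23286 F104808) (tt N63461 (iv6 F314860)) (tt N21350 F104807))
theorem Q41717 : ∀ i, i < 41717 → P i := stepQ 41716 Q41716 (allL N41716 (tt N74852 D146313) (tt N74687 (iv0 F334439)) (tt N41619 F104812) (tt N21166 F104813) (tt N61247 (iv4 F318223)) (tt N74853 D146315) (tt N21160 (iv6 D68612)) (tt N74854 D146316))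
theorem Q41718 : ∀ i, i < 41718 → P i := stepQ 41717 Q41717 (allL N41717 (tt N22415 (iv1 F106805)) (tt N42748 F107054) (tt N22242 F104814) (tt N21167 F104815) (tt N67103 (iv4 F206650)) (tt N21161 (iv5 D68613)) (tt N74853 (iv6 F229647)) (tt N21912 F104816))
theorem Q41719 : ∀ i, i < 41719 → P i := stepQ 41718 Q41718 (allL N41718 (tt N46008 (iv1 F120083)) (tt N56034 (iv0 F162386)) (tt N56039 (iv2 F162406)) (tt N56240 (iv3 F163247)) (tt N74855 D146317) (tt N21162 (iv5 D68614)) (tt N38951 F335893) (tt N56244 (iv7 F163256)))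
theorem Q41720 : ∀ i, i < 41720 → P i := stepQ 41719 Q41719 (allL N41719 (tt N21170 (iv1 F104818)) (tt N21163 (iv0 D68615)) (tt N45193 (iv2 F114754)) (tt N57437 (iv3 F166733)) (tt N74856 D146319) (tt N36248 F104817) (tt N74857 D146320) (tt N45188 (iv7 F114735)))
theorem Q41721 : ∀ i, i < 41721 → P i := stepQ 41720 Q41720 (allL N41720 (tt N21163 (iv1 D68616)) (tt N21170 F104819) (tt N45188 (iv2 F114733)) (tt N56248 (iv3 F163267)) (tt N74858 D146321) (tt N36249 F104820) (tt N70626 (iv6 F349103)) (tt N45193 (iv7 F114756)))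
theorem Q41722 : ∀ i, i < 41722 → P i := stepQ 41721 Q41721 (allL N41721 (tt N74859 D146323) (tt N32541 F104821) (tt N62787 (iv2 F183673)) (tt N61995 (iv3 F335898)) (tt N21163 (iv4 D68617)) (tt N74860 D146325) (tt N21163 (iv6 F335899)) (tt N62782 (iv7 F183651)))
theorem Q41723 : ∀ i, i < 41723 → P i := stepQ 41722 Q41722 (allL N41722 (tt N63269 (iv1 F186661)) (tt N57448 (iv0 F166777)) (tt N56099 (iv2 F162648)) (tt N22096 F104822) (tt N74861 D146331) (tt N21164 (iv5 D68619)) (tt N74860 (iv6 F335901)) (tt N21919 F104823))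
theorem Q41724 : ∀ i, i < 41724 → P i := stepQ 41723 Q41723 (allL N41723 (tt N21165 (iv1 D68620)) (tt N21171 F104824) (tt N45190 (iv2 F114743)) (tt N62937 (iv3 F184183)) (tt N45187 (iv4 F114732)) (tt N74862 D146332) (tt N63389 (iv6 F316813)) (tt N29585 F314512))
theorem Q41725 : ∀ i, i < 41725 → P i := stepQ 41724 Q41724 (allL N41724 (tt N66660 (iv1 F204906)) (tt N74863 D146339) (tt N62788 (iv2 F183679)) (tt N32770 (iv3 F318941)) (tt N74864 D146340) (tt N21165 (iv5 D68622)) (tt N74865 D146341) (tt N62784 (iv7 F183659)))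
theorem Q41726 : ∀ i, i < 41726 → P i := stepQ 41725 Q41725 (allL N41725 (tt N74866 D146342) (tt N74867 D146343) (tt N62789 (iv2 F183681)) (tt N32771 (iv3 F318942)) (tt N21166 F104825) (tt N61565 (iv5 F318943)) (tt N21165 (iv6 D68623)) (tt N74868 D146345))
theorem Q41727 : ∀ i, i < 41727 → P i := stepQ 41726 Q41726 (allL N41726 (tt N62792 (iv1 F183691)) (tt N21166 (iv0 D68624)) (tt N21462 F327180) (tt N62741 (iv3 F327712)) (tt N74869 D146348) (tt N74322 (iv5 F363469)) (tt N74870 D146350) (tt N62790 F327181))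
theorem Q41728 : ∀ i, i < 41728 → P i := stepQ 41727 Q41727 (allL N41727 (tt N74871 D146356) (tt N63076 (iv0 F233151)) (tt N62791 (iv2 F183684)) (tt N74853 (iv3 F229646)) (tt N74872 D146358) (tt N21166 (iv5 D68626)) (tt N21167 F104826) (tt N65287 (iv7 F232268)))
theorem Q41729 : ∀ i, i < 41729 → P i := stepQ 41728 Q41728 (allL N41728 (tt N62790 (iv1 F183683)) (tt N21462 F247752) (tt N62792 (iv2 F183687)) (tt N74854 (iv3 F229649)) (tt N74868 (iv4 F229682)) (tt N65287 (iv5 F232267)) (tt N21439 F232236) (tt N21166 (iv7 D68627)))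
theorem Q41730 : ∀ i, i < 41730 → P i := stepQ 41729 Q41729 (allL N41729 (tt N63186 (iv1 F185936)) (tt N57453 (iv0 F166784)) (tt N62793 (iv2 F183692)) (tt N74873 D146360) (tt N21167 (iv4 D68628)) (tt N74874 D146361) (tt N74872 (iv6 F229685)) (tt N21926 F104827))
theorem Q41731 : ∀ i, i < 41731 → P i := stepQ 41730 Q41730 (allL N41730 (tt N56252 F163281) (tt N57437 (iv0 F166735)) (tt N56038 (iv2 F162401)) (tt N50181 (iv3 F139178)) (tt N74875 D146362) (tt N21168 (iv5 D68629)) (tt N74876 D146363) (tt N56037 (iv7 F162397)))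
theorem Q41732 : ∀ i, i < 41732 → P i := stepQ 41731 Q41731 (allL N41731 (tt N33705 (iv1 F317200)) (tt N56055 (iv0 F162444)) (tt N42223 (iv2 F317205)) (tt N74877 D146364) (tt N21169 (iv4 D68630)) (tt N65294 (iv5 F317208)) (tt N74878 D146366) (tt N56062 F162470))
theorem Q41733 : ∀ i, i < 41733 → P i := stepQ 41732 Q41732 (allL N41732 (tt N44882 (iv1 F232270)) (tt N62911 (iv0 F232271)) (tt N62847 (iv2 F183889)) (tt N21172 F104828) (tt N74878 (iv4 F229698)) (tt N21929 F104829) (tt N21169 (iv6 D68631)) (tt N62968 (iv7 F240208)))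
theorem Q41734 : ∀ i, i < 41734 → P i := stepQ 41733 Q41733 (allL N41733 (tt N32541 F104830) (tt N74859 F229662) (tt N62782 (iv2 F183650)) (tt N74879 D146370) (tt N21170 (iv4 D68632)) (tt N74864 (iv5 F229679)) (tt N74880 D146371) (tt N62787 (iv7 F183674)))
theorem Q41735 : ∀ i, i < 41735 → P i := stepQ 41734 Q41734 (allL N41734 (tt N74881 D146372) (tt N70617 (iv0 F335888)) (tt N62783 (iv2 F183654)) (tt N60779 (iv3 F176869)) (tt N74880 (iv4 F229702)) (tt N21931 F104831) (tt N21170 (iv6 D68633)) (tt N74880 (iv7 F337570)))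
theorem Q41736 : ∀ i, i < 41736 → P i := stepQ 41735 Q41735 (allL N41735 (tt N32827 (iv1 F319125)) (tt N32809 (iv0 F319126)) (tt N32767 (iv2 F319127)) (tt N21171 (iv3 D68634)) (tt N74877 (iv4 F229695)) (tt N74882 D146378) (tt N74883 D146379) (tt N32825 (iv7 F316823)))
theorem Q41737 : ∀ i, i < 41737 → P i := stepQ 41736 Q41736 (allL N41736 (tt N74863 (iv1 F229677)) (tt N66660 (iv0 F204905)) (tt N62784 (iv2 F183658)) (tt N74882 (iv3 F229705)) (tt N74860 (iv4 F229665)) (tt N21171 (iv5 D68635)) (tt N74861 (iv6 F335902)) (tt N62788 (iv7 F183680)))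
theorem Q41738 : ∀ i, i < 41738 → P i := stepQ 41737 Q41737 (allL N41737 (tt N54835 F316757) (tt N66720 (iv0 F232274)) (tt N62785 (iv2 F183660)) (tt N74883 (iv3 F229706)) (tt N21172 F104832) (tt N27215 (iv5 F319128)) (tt N21171 (iv6 D68636)) (tt N63056 (iv7 F232248)))
theorem Q41739 : ∀ i, i < 41739 → P i := stepQ 41738 Q41738 (allL N41738 (tt N32498 F104837) (tt N32497 F104838) (tt N29532 F104834) (tt N21174 F104835) (tt N72000 (iv4 F221204)) (tt N21173 (iv5 D68640)) (tt N69397 (iv6 F319941)) (tt N26533 F104836))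
theorem Q41740 : ∀ i, i < 41740 → P i := stepQ 41739 Q41739 (allL N41739 (tt N62806 (iv1 F183737)) (tt N62805 F183734) (tt N21184 F104839) (tt N74884 D146394) (tt N21174 (iv4 D68641)) (tt N62822 (iv5 F183800)) (tt N61720 (iv6 F339421)) (tt N62794 (iv7 F183698)))
theorem Q41741 : ∀ i, i < 41741 → P i := stepQ 41740 Q41740 (allL N41740 (tt N70667 (iv1 F339423)) (tt N39056 (iv0 F339424)) (tt N21185 F104840) (tt N69397 (iv3 F319940)) (tt N61720 F339422) (tt N62849 (iv5 F183895)) (tt N21174 (iv6 D68642)) (tt N70669 (iv7 F319936)))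
theorem Q41742 : ∀ i, i < 41742 → P i := stepQ 41741 Q41741 (allL N41741 (tt N74885 D146399) (tt N74886 D146400) (tt N73578 (iv2 F225070)) (tt N21175 (iv3 D68643)) (tt N62745 (iv4 F183443)) (tt N74887 D146401) (tt N63266 (iv6 F348657)) (tt N62795 (iv7 F183703)))
theorem Q41743 : ∀ i, i < 41743 → P i := stepQ 41742 Q41742 (allL N41742 (tt N62821 (iv1 F183795)) (tt N62820 F183792) (tt N21196 F104841) (tt N74887 (iv3 F229723)) (tt N62808 (iv4 F183745)) (tt N21175 (iv5 D68644)) (tt N74888 D146403) (tt N62796 (iv7 F183706)))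
theorem Q41744 : ∀ i, i < 41744 → P i := stepQ 41743 Q41743 (allL N41743 (tt N56085 (iv1 F338199)) (tt N74889 D146405) (tt N21197 F104842) (tt N63266 (iv3 F348655)) (tt N21176 F104843) (tt N74890 D146406) (tt N21175 (iv6 D68645)) (tt N74891 D146407))
theorem Q41745 : ∀ i, i < 41745 → P i := stepQ 41744 Q41744 (allL N41744 (tt N21201 (iv1 F104846)) (tt N21176 (iv0 D68646)) (tt N21198 F247773) (tt N62853 (iv3 F247775)) (tt N32906 (iv4 F314939)) (tt N72378 (iv5 F339612)) (tt N32862 F312491) (tt N21199 F247774))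
theorem Q41746 : ∀ i, i < 41746 → P i := stepQ 41745 Q41745 (allL N41745 (tt N21176 (iv1 D68647)) (tt N21201 F104844) (tt N21199 (iv2 F247765)) (tt N32868 (iv3 F315425)) (tt N32910 (iv4 F317597)) (tt N74892 D146415) (tt N55812 (iv6 F315498)) (tt N21198 (iv7 F247772)))
theorem Q41747 : ∀ i, i < 41747 → P i := stepQ 41746 Q41746 (allL N41746 (tt N21199 (iv1 F104847)) (tt N21198 F104848) (tt N21201 F104845) (tt N62750 (iv3 F183457)) (tt N74891 (iv4 F229736)) (tt N62855 (iv5 F183908)) (tt N62800 (iv6 F183715)) (tt N21176 (iv7 D68648)))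
theorem Q41748 : ∀ i, i < 41748 → P i := stepQ 41747 Q41747 (allL N41747 (tt N23281 F104854) (tt N23277 F104852) (tt N33490 F104849) (tt N36289 F104850) (tt N21399 F104853) (tt N21177 (iv5 D68649)) (tt N72774 (iv6 F359202)) (tt N36301 F104851))
theorem Q41749 : ∀ i, i < 41749 → P i := stepQ 41748 Q41748 (allL N41748 (tt N21181 (iv1 F104857)) (tt N21178 (iv0 D68650)) (tt N29544 (iv2 F104856)) (tt N32547 F104859) (tt N74859 (iv4 F229660)) (tt N23207 F104855) (tt N74893 D146418) (tt N32540 F104858))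
theorem Q41750 : ∀ i, i < 41750 → P i := stepQ 41749 Q41749 (allL N41749 (tt N60970 (iv1 F335961)) (tt N74894 D146420) (tt N41750 F335944) (tt N60821 (iv3 F335947)) (tt N21178 (iv4 D68651)) (tt N61235 (iv5 F335950)) (tt N33639 (iv6 F335946)) (tt N62801 (iv7 F183720)))
theorem Q41751 : ∀ i, i < 41751 → P i := stepQ 41750 Q41750 (allL N41750 (tt N74856 (iv1 F335942)) (tt N74858 (iv0 F335943)) (tt N41749 (iv2 F335944)) (tt N41864 (iv3 F105015)) (tt N33639 (iv4 F335945)) (tt N74895 D146426) (tt N21178 (iv6 D68652)) (tt N41753 F335941))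
theorem Q41752 : ∀ i, i < 41752 → P i := stepQ 41751 Q41751 (allL N41751 (tt N42909 (iv1 F107619)) (tt N32965 F104863) (tt N32721 F104860) (tt N32828 F104861) (tt N74896 D146428) (tt N21179 (iv5 D68653)) (tt N74895 (iv6 F229761)) (tt N21954 F104862))
theorem Q41753 : ∀ i, i < 41753 → P i := stepQ 41752 Q41752 (allL N41752 (tt N23192 F104867) (tt N23195 F104868) (tt N32478 F104864) (tt N21181 F104865) (tt N74897 D146429) (tt N21180 (iv5 D68654)) (tt N64198 (iv6 F193574)) (tt N32477 F104866))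
theorem Q41754 : ∀ i, i < 41754 → P i := stepQ 41753 Q41753 (allL N41753 (tt N74894 (iv1 F229753)) (tt N60970 (iv0 F335960)) (tt N62801 (iv2 F183719)) (tt N70710 (iv3 F335972)) (tt N21181 (iv4 D68655)) (tt N74898 D146431) (tt N60950 (iv6 F336816)) (tt N41750 (iv7 F335941)))
theorem Q41755 : ∀ i, i < 41755 → P i := stepQ 41754 Q41754 (allL N41754 (tt N32561 F336818) (tt N74899 D146434) (tt N62802 (iv2 F183721)) (tt N64198 (iv3 F193573)) (tt N60950 (iv4 F336814)) (tt N21956 F104869) (tt N21181 (iv6 D68656)) (tt N74900 D146435))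
theorem Q41756 : ∀ i, i < 41756 → P i := stepQ 41755 Q41755 (allL N41755 (tt N32513 (iv1 F104874)) (tt N32511 (iv0 F104873)) (tt N21482 F104870) (tt N21182 (iv3 D68657)) (tt N41890 (iv4 F105041)) (tt N21477 F104871) (tt N69509 (iv6 F338616)) (tt N36274 F104872))
theorem Q41757 : ∀ i, i < 41757 → P i := stepQ 41756 Q41756 (allL N41756 (tt N74901 D146437) (tt N74902 D146438) (tt N45078 (iv2 F114485)) (tt N74903 D146439) (tt N21182 (iv4 D68658)) (tt N74904 D146440) (tt N41764 F333182) (tt N62803 (iv7 F183730)))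
theorem Q41758 : ∀ i, i < 41758 → P i := stepQ 41757 Q41757 (allL N41757 (tt N70728 (iv1 F333180)) (tt N70730 (iv0 F355830)) (tt N45076 (iv2 F114480)) (tt N69509 (iv3 F338613)) (tt N41764 F333181) (tt N45072 (iv5 F114477)) (tt N21182 (iv6 D68659)) (tt N74905 D146444))
theorem Q41759 : ∀ i, i < 41759 → P i := stepQ 41758 Q41758 (allL N41758 (tt N74902 (iv1 F229779)) (tt N74901 F229776) (tt N62803 (iv2 F183729)) (tt N70781 (iv3 F333185)) (tt N21183 (iv4 D68660)) (tt N74906 D146446) (tt N74907 D146447) (tt N45078 (iv7 F114486)))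
theorem Q41760 : ∀ i, i < 41760 → P i := stepQ 41759 Q41759 (allL N41759 (tt N74379 (iv1 F258994)) (tt N74908 D146449) (tt N62804 (iv2 F183731)) (tt N45089 (iv3 F114503)) (tt N74907 (iv4 F229787)) (tt N57278 (iv5 F165949)) (tt N21183 (iv6 D68661)) (tt N74909 D146450))
theorem Q41761 : ∀ i, i < 41761 → P i := stepQ 41760 Q41760 (allL N41760 (tt N21184 (iv1 D68663)) (tt N62794 (iv0 F183700)) (tt N62805 F183735) (tt N74910 D146454) (tt N56034 F162388) (tt N74911 D146455) (tt N74912 D146456) (tt N62806 (iv7 F183738)))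
theorem Q41762 : ∀ i, i < 41762 → P i := stepQ 41761 Q41761 (allL N41761 (tt N74913 D146457) (tt N74914 D146458) (tt N74915 D146459) (tt N21184 (iv3 D68664)) (tt N32335 F104875) (tt N74916 D146460) (tt N74917 D146461) (tt N62807 (iv7 F183742)))
theorem Q41763 : ∀ i, i < 41763 → P i := stepQ 41762 Q41762 (allL N41762 (tt N74860 (iv1 F229667)) (tt N74864 (iv0 F229680)) (tt N62822 (iv2 F183799)) (tt N74916 (iv3 F229793)) (tt N62796 (iv4 F183705)) (tt N21184 (iv5 D68665)) (tt N33648 F335880) (tt N62808 (iv7 F183744)))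
theorem Q41764 : ∀ i, i < 41764 → P i := stepQ 41763 Q41763 (allL N41763 (tt N32989 (iv1 F325874)) (tt N61722 (iv0 F325875)) (tt N61720 (iv2 F339419)) (tt N74917 (iv3 F229794)) (tt N21185 F104876) (tt N33649 (iv5 F335877)) (tt N21184 (iv6 D68666)) (tt N61721 (iv7 F339429)))
theorem Q41765 : ∀ i, i < 41765 → P i := stepQ 41764 Q41764 (allL N41764 (tt N21185 (iv1 D68668)) (tt N70669 F321769) (tt N39056 (iv2 F323479)) (tt N70652 (iv3 F323480)) (tt N41757 (iv4 F333181)) (tt N39055 (iv5 F323481)) (tt N41756 (iv6 F333182)) (tt N70667 (iv7 F323482)))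
theorem Q41766 : ∀ i, i < 41766 → P i := stepQ 41765 Q41765 (allL N41765 (tt N66073 (iv1 F319932)) (tt N74918 D146478) (tt N62849 (iv2 F183894)) (tt N32490 F104877) (tt N69820 (iv4 F366215)) (tt N21185 (iv5 D68669)) (tt N21187 F104878) (tt N74919 D146480))
theorem Q41767 : ∀ i, i < 41767 → P i := stepQ 41766 Q41766 (allL N41766 (tt N39056 F339425) (tt N70667 F339426) (tt N70669 (iv2 F319933)) (tt N32491 F104879) (tt N61721 (iv4 F339427)) (tt N74919 (iv5 F229801)) (tt N62812 (iv6 F183753)) (tt N21185 (iv7 D68670)))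
theorem Q41768 : ∀ i, i < 41768 → P i := stepQ 41767 Q41767 (allL N41767 (tt N29538 F104883) (tt N29537 F104884) (tt N29541 F104880) (tt N32503 F104881) (tt N74920 D146481) (tt N21186 (iv5 D68671)) (tt N74921 D146482) (tt N29536 F104882))
theorem Q41769 : ∀ i, i < 41769 → P i := stepQ 41768 Q41768 (allL N41768 (tt N45214 (iv1 F114805)) (tt N72005 F221222) (tt N62848 (iv2 F183892)) (tt N69823 (iv3 F366220)) (tt N21187 (iv4 D68672)) (tt N74922 D146484) (tt N69820 (iv6 F366216)) (tt N74408 (iv7 F227801)))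
theorem Q41770 : ∀ i, i < 41770 → P i := stepQ 41769 Q41769 (allL N41769 (tt N21189 (iv1 D68673)) (tt N21192 F104885) (tt N56046 (iv2 F162416)) (tt N74923 D146485) (tt N23282 F104886) (tt N74863 (iv5 F229678)) (tt N32908 F319824) (tt N62813 (iv7 F183758)))
theorem Q41771 : ∀ i, i < 41771 → P i := stepQ 41770 Q41770 (allL N41770 (tt N61488 (iv1 F325416)) (tt N32916 (iv0 F325417)) (tt N61309 (iv2 F325418)) (tt N21189 (iv3 D68674)) (tt N32945 F324271) (tt N44612 (iv5 F325420)) (tt N55828 (iv6 F325422)) (tt N34692 F324272))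
theorem Q41772 : ∀ i, i < 41772 → P i := stepQ 41771 Q41771 (allL N41771 (tt N74924 D146492) (tt N55799 (iv0 F314509)) (tt N62816 (iv2 F183776)) (tt N44612 (iv3 F325419)) (tt N74911 (iv4 F229790)) (tt N21189 (iv5 D68675)) (tt N74925 D146494) (tt N61311 F324273))
theorem Q41773 : ∀ i, i < 41773 → P i := stepQ 41772 Q41772 (allL N41772 (tt N55815 (iv1 F353421)) (tt N74926 D146496) (tt N62817 (iv2 F183778)) (tt N55828 (iv3 F325421)) (tt N21190 F104887) (tt N56422 (iv5 F355704)) (tt N21189 (iv6 D68676)) (tt N61491 (iv7 F340678)))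
theorem Q41774 : ∀ i, i < 41774 → P i := stepQ 41773 Q41773 (allL N41773 (tt N21190 (iv1 D68678)) (tt N57422 F311143) (tt N37522 F311144) (tt N21209 (iv3 F232594)) (tt N69633 (iv4 F313462)) (tt N37514 F311145) (tt N62470 (iv6 F313463)) (tt N41325 (iv7 F232598)))
theorem Q41775 : ∀ i, i < 41775 → P i := stepQ 41774 Q41774 (allL N41774 (tt N37522 F311694) (tt N41325 F233148) (tt N57422 F311695) (tt N74442 (iv3 F227911)) (tt N61491 (iv4 F340676)) (tt N37627 F311696) (tt N61489 (iv6 F314146)) (tt N21190 (iv7 D68679)))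
theorem Q41776 : ∀ i, i < 41776 → P i := stepQ 41775 Q41775 (allL N41775 (tt N41348 F104889) (tt N41345 F104890) (tt N45223 (iv2 F114839)) (tt N74927 D146509) (tt N21191 (iv4 D68680)) (tt N63781 (iv5 F319490)) (tt N74928 D146511) (tt N34708 F104888))
theorem Q41777 : ∀ i, i < 41777 → P i := stepQ 41776 Q41776 (allL N41776 (tt N74929 D146512) (tt N74930 D146513) (tt N45224 (iv2 F114843)) (tt N21193 F104891) (tt N74928 (iv4 F229834)) (tt N45251 (iv5 F114918)) (tt N21191 (iv6 D68681)) (tt N74931 D146514))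
theorem Q41778 : ∀ i, i < 41778 → P i := stepQ 41777 Q41777 (allL N41777 (tt N61451 (iv1 F360658)) (tt N73407 (iv0 F360651)) (tt N61418 (iv2 F360655)) (tt N21192 (iv3 D68682)) (tt N74927 (iv4 F229829)) (tt N61385 (iv5 F360662)) (tt N61398 (iv6 F337869)) (tt N62815 (iv7 F183775)))
theorem Q41779 : ∀ i, i < 41779 → P i := stepQ 41778 Q41778 (allL N41778 (tt N55799 (iv1 F314510)) (tt N74924 F229818) (tt N61311 (iv2 F322803)) (tt N61385 (iv3 F360661)) (tt N70736 (iv4 F327879)) (tt N21192 (iv5 D68683)) (tt N74932 D146520) (tt N62816 (iv7 F183777)))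
theorem Q41780 : ∀ i, i < 41780 → P i := stepQ 41779 Q41779 (allL N41779 (tt N55807 (iv1 F321365)) (tt N32904 F319342) (tt N34690 F321025) (tt N61398 (iv3 F337868)) (tt N21193 F104892) (tt N74933 D146523) (tt N21192 (iv6 D68684)) (tt N55806 (iv7 F335468)))
theorem Q41781 : ∀ i, i < 41781 → P i := stepQ 41780 Q41780 (allL N41780 (tt N21193 (iv1 D68686)) (tt N61489 (iv0 F314143)) (tt N41317 F232552) (tt N62754 (iv3 F232586)) (tt N45185 (iv4 F314147)) (tt N74934 D146532) (tt N32861 F311690) (tt N62814 F232553))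
theorem Q41782 : ∀ i, i < 41782 → P i := stepQ 41781 Q41781 (allL N41781 (tt N38158 (iv1 F329020)) (tt N68294 F328584) (tt N22013 F104893) (tt N45251 (iv3 F114917)) (tt N74935 D146536) (tt N21193 (iv5 D68687)) (tt N21947 F104894) (tt N68293 (iv7 F247745)))
theorem Q41783 : ∀ i, i < 41783 → P i := stepQ 41782 Q41782 (allL N41782 (tt N41317 (iv1 F232495)) (tt N62814 F183772) (tt N61489 (iv2 F314144)) (tt N74931 (iv3 F229835)) (tt N55806 (iv4 F335467)) (tt N68293 (iv5 F247743)) (tt N57422 (iv6 F309950)) (tt N21193 (iv7 D68688)))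
theorem Q41784 : ∀ i, i < 41784 → P i := stepQ 41783 Q41783 (allL N41783 (tt N68191 (iv1 F353827)) (tt N74936 D146539) (tt N74937 D146540) (tt N21194 (iv3 D68689)) (tt N74938 D146541) (tt N74939 D146542) (tt N74940 D146543) (tt N62818 (iv7 F183789)))
theorem Q41785 : ∀ i, i < 41785 → P i := stepQ 41784 Q41784 (allL N41784 (tt N42203 (iv1 F105582)) (tt N33771 F104895) (tt N42212 F105600) (tt N74939 (iv3 F229855)) (tt N74906 (iv4 F229786)) (tt N21194 (iv5 D68690)) (tt N74941 D146544) (tt N42211 F105596))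
theorem Q41786 : ∀ i, i < 41786 → P i := stepQ 41785 Q41785 (allL N41785 (tt N69639 (iv1 F314149)) (tt N69633 (iv0 F313460)) (tt N42832 (iv2 F107255)) (tt N74940 (iv3 F229856)) (tt N42823 F107232) (tt N69622 (iv5 F335870)) (tt N21194 (iv6 D68691)) (tt N74942 D146548))
theorem Q41787 : ∀ i, i < 41787 → P i := stepQ 41786 Q41786 (allL N41786 (tt N74943 D146549) (tt N74944 D146550) (tt N74945 D146551) (tt N21195 (iv3 D68692)) (tt N41686 F104896) (tt N74946 D146552) (tt N61061 (iv6 F353779)) (tt N45195 (iv7 F114767)))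
theorem Q41788 : ∀ i, i < 41788 → P i := stepQ 41787 Q41787 (allL N41787 (tt N33771 F104897) (tt N42203 F105597) (tt N42211 F105595) (tt N74946 (iv3 F229858)) (tt N74904 (iv4 F229783)) (tt N21195 (iv5 D68693)) (tt N74947 D146554) (tt N42212 (iv7 F105598)))
theorem Q41789 : ∀ i, i < 41789 → P i := stepQ 41788 Q41788 (allL N41788 (tt N63761 F189375) (tt N45185 F316588) (tt N62819 (iv2 F183790)) (tt N61061 (iv3 F353778)) (tt N41685 F104898) (tt N74948 D146556) (tt N21195 (iv6 D68694)) (tt N74949 D146557))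
theorem Q41790 : ∀ i, i < 41790 → P i := stepQ 41789 Q41789 (allL N41789 (tt N62796 (iv1 F183708)) (tt N21196 (iv0 D68695)) (tt N62821 F183798) (tt N43269 (iv3 F318933)) (tt N74898 (iv4 F229769)) (tt N21399 F104899) (tt N74950 D146559) (tt N62820 F183794))
theorem Q41791 : ∀ i, i < 41791 → P i := stepQ 41790 Q41790 (allL N41790 (tt N21196 (iv1 D68696)) (tt N62796 (iv0 F183707)) (tt N62820 F183793) (tt N50420 (iv3 F318924)) (tt N61235 (iv4 F335949)) (tt N21400 F104900) (tt N50418 (iv6 F360975)) (tt N62821 (iv7 F183796)))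
theorem Q41792 : ∀ i, i < 41792 → P i := stepQ 41791 Q41791 (allL N41791 (tt N74864 (iv1 F229681)) (tt N74860 (iv0 F229666)) (tt N62808 (iv2 F183743)) (tt N74951 D146562) (tt N21196 (iv4 D68697)) (tt N62794 (iv5 F183699)) (tt N74952 D146563) (tt N62822 (iv7 F183801)))
theorem Q41793 : ∀ i, i < 41793 → P i := stepQ 41792 Q41792 (allL N41792 (tt N74953 D146564) (tt N74954 D146565) (tt N74888 (iv2 F229725)) (tt N50575 (iv3 F356651)) (tt N74952 (iv4 F229868)) (tt N51164 (iv5 F356645)) (tt N21196 (iv6 D68698)) (tt N74955 D146567))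
theorem Q41794 : ∀ i, i < 41794 → P i := stepQ 41793 Q41793 (allL N41793 (tt N74891 (iv1 F229738)) (tt N21197 (iv0 D68699)) (tt N56085 F338202) (tt N22077 (iv3 F338203)) (tt N74956 D146569) (tt N63343 (iv5 F338204)) (tt N22075 (iv6 F338205)) (tt N74889 (iv7 F229731)))
theorem Q41795 : ∀ i, i < 41795 → P i := stepQ 41794 Q41794 (allL N41794 (tt N21197 (iv1 D68700)) (tt N74891 F229737) (tt N74889 F229732) (tt N74957 D146572) (tt N41679 (iv4 F104982)) (tt N74958 D146573) (tt N74959 D146574) (tt N56085 (iv7 F338201)))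
theorem Q41796 : ∀ i, i < 41796 → P i := stepQ 41795 Q41795 (allL N41795 (tt N74960 D146575) (tt N74961 D146576) (tt N74890 (iv2 F229734)) (tt N51165 (iv3 F356647)) (tt N51172 (iv4 F356649)) (tt N21197 (iv5 D68701)) (tt N51164 (iv6 F356646)) (tt N74962 D146578))
theorem Q41797 : ∀ i, i < 41797 → P i := stepQ 41796 Q41796 (allL N41796 (tt N74889 (iv1 F229730)) (tt N56085 (iv0 F338198)) (tt N74891 (iv2 F229735)) (tt N42615 (iv3 F319419)) (tt N21201 F104901) (tt N74962 (iv5 F229877)) (tt N62824 (iv6 F183803)) (tt N21197 (iv7 D68702)))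
theorem Q41798 : ∀ i, i < 41798 → P i := stepQ 41797 Q41797 (allL N41797 (tt N74963 D146597) (tt N74964 D146598) (tt N72378 (iv2 F339611)) (tt N32867 (iv3 F315424)) (tt N72347 (iv4 F334962)) (tt N21198 (iv5 D68706)) (tt N56141 (iv6 F355218)) (tt N74892 (iv7 F247771)))
theorem Q41799 : ∀ i, i < 41799 → P i := stepQ 41798 Q41798 (allL N41798 (tt N21200 (iv1 F247807)) (tt N62855 (iv0 F247808)) (tt N62854 (iv2 F243226)) (tt N21199 (iv3 D68709)) (tt N74965 D146610) (tt N63063 (iv5 F250242)) (tt N74966 D146612) (tt N62853 (iv7 F243237)))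
theorem Q41800 : ∀ i, i < 41800 → P i := stepQ 41799 Q41799 (allL N41799 (tt N32908 (iv1 F317595)) (tt N32907 (iv0 F317594)) (tt N32910 (iv2 F317596)) (tt N61333 (iv3 F319421)) (tt N21199 (iv4 D68710)) (tt N74967 D146614) (tt N55803 (iv6 F319423)) (tt N32906 F317170))
theorem Q41801 : ∀ i, i < 41801 → P i := stepQ 41800 Q41800 (allL N41800 (tt N74964 (iv1 F229897)) (tt N74963 (iv0 F229896)) (tt N74892 (iv2 F247770)) (tt N63063 (iv3 F250241)) (tt N41807 (iv4 F319486)) (tt N21199 (iv5 D68711)) (tt N41806 F317213) (tt N72378 (iv7 F339613)))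
theorem Q41802 : ∀ i, i < 41802 → P i := stepQ 41801 Q41801 (allL N41801 (tt N55810 (iv1 F315198)) (tt N55809 (iv0 F314150)) (tt N55812 (iv2 F315496)) (tt N74966 (iv3 F229905)) (tt N55803 (iv4 F319422)) (tt N74968 D146619) (tt N21199 (iv6 D68712)) (tt N55800 (iv7 F312979)))
theorem Q41803 : ∀ i, i < 41803 → P i := stepQ 41802 Q41802 (allL N41802 (tt N62855 (iv1 F183911)) (tt N21200 (iv0 D68713)) (tt N62853 (iv2 F247810)) (tt N32838 (iv3 F315423)) (tt N74969 D146622) (tt N63062 (iv5 F232923)) (tt N32837 F314971) (tt N62854 (iv7 F247806)))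
theorem Q41804 : ∀ i, i < 41804 → P i := stepQ 41803 Q41803 (allL N41803 (tt N29260 F319869) (tt N41672 (iv0 F183263)) (tt N62852 (iv2 F183901)) (tt N74970 D146631) (tt N21200 (iv4 D68715)) (tt N74971 D146632) (tt N21204 F104904) (tt N74418 (iv7 F317660)))
theorem Q41805 : ∀ i, i < 41805 → P i := stepQ 41804 Q41804 (allL N41804 (tt N62854 (iv1 F183904)) (tt N62853 F183909) (tt N62855 (iv2 F183906)) (tt N21224 F104905) (tt N74418 (iv4 F317659)) (tt N21201 F104906) (tt N74417 (iv6 F321735)) (tt N21200 (iv7 D68716)))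
theorem Q41806 : ∀ i, i < 41806 → P i := stepQ 41805 Q41805 (allL N41805 (tt N57437 (iv1 F166736)) (tt N56252 F163282) (tt N56037 (iv2 F162395)) (tt N21245 F104907) (tt N74972 D146635) (tt N21202 (iv5 D68717)) (tt N74973 D146636) (tt N56038 (iv7 F162403)))
theorem Q41807 : ∀ i, i < 41807 → P i := stepQ 41806 Q41806 (allL N41806 (tt N56055 (iv1 F162445)) (tt N33705 (iv0 F317199)) (tt N56062 F162469) (tt N42205 (iv3 F317210)) (tt N21203 (iv4 D68718)) (tt N65295 (iv5 F317212)) (tt N41800 (iv6 F317213)) (tt N42223 (iv7 F317206)))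
theorem Q41808 : ∀ i, i < 41808 → P i := stepQ 41807 Q41807 (allL N41807 (tt N62979 (iv1 F334957)) (tt N58548 (iv0 F334952)) (tt N62786 (iv2 F183670)) (tt N41619 F104908) (tt N41800 F319486) (tt N40019 (iv5 F316917)) (tt N21203 (iv6 D68719)) (tt N40018 F314679))
theorem Q41809 : ∀ i, i < 41809 → P i := stepQ 41808 Q41808 (allL N41808 (tt N74974 D146642) (tt N74975 D146643) (tt N74976 D146644) (tt N21204 (iv3 D68720)) (tt N21227 F104909) (tt N74977 D146645) (tt N74970 (iv6 F229919)) (tt N73396 (iv7 F324053)))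
theorem Q41810 : ∀ i, i < 41810 → P i := stepQ 41809 Q41809 (allL N41809 (tt N74978 D146646) (tt N29737 F104910) (tt N62851 (iv2 F183897)) (tt N74977 (iv3 F229938)) (tt N74979 D146647) (tt N21204 (iv5 D68721)) (tt N33287 (iv6 F324373)) (tt N39885 (iv7 F322556)))
theorem Q41811 : ∀ i, i < 41811 → P i := stepQ 41810 Q41810 (allL N41810 (tt N43087 (iv1 F324746)) (tt N62827 (iv0 F259463)) (tt N45222 (iv2 F114836)) (tt N21230 F104911) (tt N73397 F323407) (tt N42666 (iv5 F106752)) (tt N21205 (iv6 D68722)) (tt N74417 F323408))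
theorem Q41812 : ∀ i, i < 41812 → P i := stepQ 41811 Q41811 (allL N41811 (tt N74980 D146655) (tt N74981 D146656) (tt N46099 (iv2 F120252)) (tt N72274 (iv3 F330626)) (tt N21207 F104919) (tt N71674 (iv5 F329017)) (tt N21206 (iv6 D68725)) (tt N74982 D146658))
theorem Q41813 : ∀ i, i < 41813 → P i := stepQ 41812 Q41812 (allL N41812 (tt N46100 (iv1 F120259)) (tt N21207 (iv0 D68726)) (tt N23072 F199956) (tt N45219 (iv3 F232459)) (tt N74983 D146659) (tt N48036 F199958) (tt N74984 D146660) (tt N46098 F199959))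
theorem Q41814 : ∀ i, i < 41814 → P i := stepQ 41813 Q41813 (allL N41813 (tt N46098 (iv1 F120251)) (tt N23072 (iv0 F199950)) (tt N46100 (iv2 F120254)) (tt N21210 F104920) (tt N74982 (iv4 F229953)) (tt N22105 F104921) (tt N41316 F104922) (tt N21207 (iv7 D68728)))
theorem Q41815 : ∀ i, i < 41815 → P i := stepQ 41814 Q41814 (allL N41814 (tt N23064 F200222) (tt N21256 F200223) (tt N23061 F200224) (tt N21208 (iv3 D68730)) (tt N74985 D146661) (tt N46139 F304110) (tt N74986 D146662) (tt N23062 F200226))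
theorem Q41816 : ∀ i, i < 41816 → P i := stepQ 41815 Q41815 (allL N41815 (tt N63020 F184448) (tt N46110 (iv0 F120332)) (tt N41326 (iv2 F200209)) (tt N46139 F304103) (tt N38307 F307133) (tt N21208 (iv5 D68732)) (tt N43989 F110415) (tt N37439 (iv7 F308977)))
theorem Q41817 : ∀ i, i < 41817 → P i := stepQ 41816 Q41816 (allL N41816 (tt N21220 F104974) (tt N23369 F312708) (tt N41327 (iv2 F200103)) (tt N74986 (iv3 F229963)) (tt N33826 F312709) (tt N21471 F104925) (tt N21208 (iv6 D68733)) (tt N42654 F312710))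
theorem Q41818 : ∀ i, i < 41818 → P i := stepQ 41817 Q41817 (allL N41817 (tt N41319 F104930) (tt N41318 F104931) (tt N21212 F104928) (tt N74987 D146669) (tt N21211 (iv4 D68739)) (tt N42104 (iv5 F105462)) (tt N74988 D146670) (tt N21292 F104929))
theorem Q41819 : ∀ i, i < 41819 → P i := stepQ 41818 Q41818 (allL N41818 (tt N22406 F104935) (tt N35308 (iv0 F309609)) (tt N21213 F104932) (tt N41311 F104933) (tt N74988 (iv4 F229982)) (tt N22227 F104934) (tt N21211 (iv6 D68740)) (tt N74989 D146672))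
theorem Q41820 : ∀ i, i < 41820 → P i := stepQ 41819 Q41819 (allL N41819 (tt N42041 (iv1 F105337)) (tt N42038 (iv0 F105330)) (tt N42104 F105464) (tt N58859 F171173) (tt N52572 (iv4 F318870)) (tt N21212 (iv5 D68741)) (tt N64070 (iv6 F334279)) (tt N41320 F104936))
theorem Q41821 : ∀ i, i < 41821 → P i := stepQ 41820 Q41820 (allL N41820 (tt N65104 (iv1 F337903)) (tt N65105 (iv0 F312109)) (tt N74988 (iv2 F229981)) (tt N73713 (iv3 F225470)) (tt N21213 F104937) (tt N37194 (iv5 F333914)) (tt N21212 (iv6 D68742)) (tt N37193 (iv7 F333915)))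
theorem Q41822 : ∀ i, i < 41822 → P i := stepQ 41821 Q41821 (allL N41821 (tt N74989 (iv1 F229993)) (tt N21213 (iv0 D68743)) (tt N22406 F109982) (tt N52377 (iv3 F310783)) (tt N74990 D146679) (tt N25405 F308244) (tt N22291 F104938) (tt N35308 (iv7 F309612)))
theorem Q41823 : ∀ i, i < 41823 → P i := stepQ 41822 Q41822 (allL N41822 (tt N21213 (iv1 D68744)) (tt N74989 F229992) (tt N35308 (iv2 F309611)) (tt N32859 (iv3 F310538)) (tt N50078 (iv4 F310540)) (tt N35291 F308536) (tt N32858 F308396) (tt N22406 F110045))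
theorem Q41824 : ∀ i, i < 41824 → P i := stepQ 41823 Q41823 (allL N41823 (tt N35308 (iv1 F309610)) (tt N22406 (iv0 F108788)) (tt N74989 (iv2 F229988)) (tt N21215 F104939) (tt N37193 F333917) (tt N38157 F104940) (tt N41324 F104941) (tt N21213 (iv7 D68745)))
theorem Q41825 : ∀ i, i < 41825 → P i := stepQ 41824 Q41824 (allL N41824 (tt N21253 F130732) (tt N62756 F183476) (tt N62754 F183470) (tt N21214 (iv3 D68746)) (tt N74991 D146685) (tt N69621 (iv5 F215129)) (tt N23362 F308203) (tt N22522 F104942))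
theorem Q41826 : ∀ i, i < 41826 → P i := stepQ 41825 Q41825 (allL N41825 (tt N74992 D146686) (tt N26216 F329751) (tt N62869 (iv2 F183954)) (tt N22442 (iv3 F314945)) (tt N21216 (iv4 D68756)) (tt N26134 (iv5 F314946)) (tt N23352 F312493) (tt N62777 (iv7 F183545)))
theorem Q41827 : ∀ i, i < 41827 → P i := stepQ 41826 Q41826 (allL N41826 (tt N44862 F181021) (tt N21457 F181022) (tt N62870 (iv2 F183955)) (tt N21217 F104952) (tt N74993 D146690) (tt N21216 (iv5 D68757)) (tt N74994 D146691) (tt N62778 (iv7 F183548)))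
theorem Q41828 : ∀ i, i < 41828 → P i := stepQ 41827 Q41827 (allL N41827 (tt N21217 (iv1 D68766)) (tt N21219 F104960) (tt N42321 (iv2 F105901)) (tt N74964 (iv3 F233212)) (tt N23974 (iv4 F315210)) (tt N23991 F312720) (tt N44884 (iv6 F113830)) (tt N33804 F104961))
theorem Q41829 : ∀ i, i < 41829 → P i := stepQ 41828 Q41828 (allL N41828 (tt N44555 F112529) (tt N44554 (iv0 F112525)) (tt N62776 (iv2 F183541)) (tt N74994 (iv3 F230022)) (tt N64256 (iv4 F312484)) (tt N23368 F310198) (tt N21217 (iv6 D68768)) (tt N74995 D146696))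
theorem Q41830 : ∀ i, i < 41830 → P i := stepQ 41829 Q41829 (allL N41829 (tt N21218 (iv1 D68773)) (tt N21300 F242965) (tt N21301 F242966) (tt N32865 (iv3 F315409)) (tt N74996 D146704) (tt N41965 (iv5 F242986)) (tt N21319 (iv6 F242987)) (tt N21281 F242967))
theorem Q41831 : ∀ i, i < 41831 → P i := stepQ 41830 Q41830 (allL N41830 (tt N21281 (iv1 F242991)) (tt N21301 (iv0 F242988)) (tt N21218 (iv2 D68774)) (tt N62771 (iv3 F183508)) (tt N74997 D146707) (tt N74998 D146708) (tt N74999 D146709) (tt N21300 F242970))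
theorem Q41832 : ∀ i, i < 41832 → P i := stepQ 41831 Q41831 (allL N41831 (tt N66648 (iv1 F243008)) (tt N75000 D146711) (tt N74997 (iv2 F230041)) (tt N63707 (iv3 F339387)) (tt N21218 (iv4 D68775)) (tt N63706 (iv5 F342755)) (tt N75001 D146713) (tt N62774 (iv7 F183533)))
theorem Q41833 : ∀ i, i < 41833 → P i := stepQ 41832 Q41832 (allL N41832 (tt N75002 D146714) (tt N42178 (iv0 F243019)) (tt N74998 (iv2 F230042)) (tt N21219 F104967) (tt N51724 (iv4 F339837)) (tt N21218 (iv5 D68776)) (tt N51723 (iv6 F337318)) (tt N62775 (iv7 F183535)))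
theorem Q41834 : ∀ i, i < 41834 → P i := stepQ 41833 Q41833 (allL N41833 (tt N75003 D146718) (tt N75004 D146719) (tt N74999 (iv2 F230044)) (tt N21220 F104968) (tt N75001 (iv4 F230045)) (tt N75005 D146720) (tt N21218 (iv6 D68777)) (tt N64055 (iv7 F306849)))
theorem Q41835 : ∀ i, i < 41835 → P i := stepQ 41834 Q41834 (allL N41834 (tt N42109 F312516) (tt N21503 (iv0 F104971)) (tt N44592 F112636) (tt N51723 (iv3 F337316)) (tt N23792 (iv4 F318608)) (tt N35429 F104970) (tt N21219 (iv6 D68782)) (tt N44593 (iv7 F112639)))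
theorem Q41836 : ∀ i, i < 41836 → P i := stepQ 41835 Q41835 (allL N41835 (tt N33809 F104984) (tt N33806 (iv0 F104975)) (tt N42327 F105972) (tt N75005 (iv3 F230048)) (tt N75006 D146724) (tt N21220 (iv5 D68785)) (tt N35429 F104973) (tt N42328 F105970))
theorem Q41837 : ∀ i, i < 41837 → P i := stepQ 41836 Q41836 (allL N41836 (tt N75007 D146725) (tt N69579 (iv0 F214954)) (tt N46521 F308130) (tt N42646 (iv3 F309773)) (tt N74825 (iv4 F229392)) (tt N37476 F104989) (tt N21221 (iv6 D68790)) (tt N68268 (iv7 F209444)))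
theorem Q41838 : ∀ i, i < 41838 → P i := stepQ 41837 Q41837 (allL N41837 (tt N21283 (iv1 F242954)) (tt N41965 (iv0 F242955)) (tt N41964 (iv2 F242956)) (tt N21222 (iv3 D68792)) (tt N51808 (iv4 F314952)) (tt N63011 F184335) (tt N75008 D146728) (tt N41963 (iv7 F242953)))
theorem Q41839 : ∀ i, i < 41839 → P i := stepQ 41838 Q41838 (allL N41838 (tt N39958 F318277) (tt N23074 (iv0 F104991)) (tt N40191 F318278) (tt N75008 (iv3 F230062)) (tt N64218 (iv4 F320934)) (tt N31110 F318279) (tt N21222 (iv6 D68793)) (tt N40189 F318280))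
theorem Q41840 : ∀ i, i < 41840 → P i := stepQ 41839 Q41839 (allL N41839 (tt N24007 (iv1 F317585)) (tt N21223 (iv0 D68794)) (tt N41677 (iv2 F182753)) (tt N75009 D146729) (tt N33572 F182754) (tt N25040 (iv5 F317774)) (tt N75010 D146731) (tt N41680 F182755))
theorem Q41841 : ∀ i, i < 41841 → P i := stepQ 41840 Q41840 (allL N41840 (tt N21223 (iv1 D68795)) (tt N24007 (iv0 F317584)) (tt N41680 F182752) (tt N75011 D146732) (tt N33573 F181016) (tt N25039 (iv5 F317772)) (tt N34728 (iv6 F318685)) (tt N41677 (iv7 F182751)))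
theorem Q41842 : ∀ i, i < 41842 → P i := stepQ 41841 Q41841 (allL N41841 (tt N47981 F334037) (tt N75012 D146736) (tt N75013 D146737) (tt N21223 (iv3 D68796)) (tt N74970 (iv4 F229918)) (tt N24001 F319815) (tt N21227 F104992) (tt N47919 F319816))
theorem Q41843 : ∀ i, i < 41843 → P i := stepQ 41842 Q41842 (allL N41842 (tt N42410 (iv1 F106143)) (tt N42409 F106148) (tt N42411 (iv2 F106144)) (tt N74417 (iv3 F321733)) (tt N47921 F317178) (tt N42667 (iv5 F106761)) (tt N21224 (iv6 D68799)) (tt N21230 F104994))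
theorem Q41844 : ∀ i, i < 41844 → P i := stepQ 41843 Q41843 (allL N41843 (tt N52377 F313016) (tt N24269 F313017) (tt N41961 (iv2 F105183)) (tt N21226 F104995) (tt N27765 F319343) (tt N22826 F104996) (tt N21225 (iv6 D68800)) (tt N51864 (iv7 F338158)))
theorem Q41845 : ∀ i, i < 41845 → P i := stepQ 41844 Q41844 (allL N41844 (tt N23081 (iv1 F104997)) (tt N21226 (iv0 D68801)) (tt N42417 F188581) (tt N74929 (iv3 F232872)) (tt N67927 (iv4 F317158)) (tt N33823 F310199) (tt N63652 (iv6 F188580)) (tt N42418 (iv7 F188582)))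
theorem Q41846 : ∀ i, i < 41846 → P i := stepQ 41845 Q41845 (allL N41845 (tt N21226 (iv1 D68802)) (tt N23081 F104998) (tt N42418 (iv2 F188584)) (tt N41315 (iv3 F188585)) (tt N74747 (iv4 F228863)) (tt N33825 F310200) (tt N75007 (iv6 F230058)) (tt N42417 F188583))
theorem Q41847 : ∀ i, i < 41847 → P i := stepQ 41846 Q41846 (allL N41846 (tt N75014 D146748) (tt N21227 (iv0 D68803)) (tt N75015 D146749) (tt N40806 F104999) (tt N33382 F322861) (tt N75016 D146751) (tt N41936 (iv6 F323538)) (tt N74352 (iv7 F227415)))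
theorem Q41848 : ∀ i, i < 41848 → P i := stepQ 41847 Q41847 (allL N41847 (tt N21227 (iv1 D68804)) (tt N75014 F230096) (tt N74352 (iv2 F230097)) (tt N75017 D146753) (tt N43831 (iv4 F350769)) (tt N75018 D146755) (tt N43830 (iv6 F350772)) (tt N75015 (iv7 F230098)))
theorem Q41849 : ∀ i, i < 41849 → P i := stepQ 41848 Q41848 (allL N41848 (tt N75015 (iv1 F230099)) (tt N74352 F227417) (tt N21227 (iv2 D68805)) (tt N42105 F319426) (tt N74976 (iv4 F229937)) (tt N42102 F319427) (tt N75013 (iv6 F230073)) (tt N75014 (iv7 F230095)))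
theorem Q41850 : ∀ i, i < 41850 → P i := stepQ 41849 Q41849 (allL N41849 (tt N75019 D146758) (tt N75020 D146759) (tt N42102 F317196) (tt N21228 F105000) (tt N62889 (iv4 F184025)) (tt N21227 (iv5 D68806)) (tt N42099 F317197) (tt N44595 (iv7 F112658)))
theorem Q41851 : ∀ i, i < 41851 → P i := stepQ 41850 Q41850 (allL N41850 (tt N74352 F227416) (tt N75015 F230100) (tt N75014 F230094) (tt N21229 F105001) (tt N73396 (iv4 F324052)) (tt N44595 (iv5 F112657)) (tt N66840 (iv6 F340255)) (tt N21227 (iv7 D68807)))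
theorem Q41852 : ∀ i, i < 41852 → P i := stepQ 41851 Q41851 (allL N41851 (tt N25335 F313886) (tt N42107 F312512) (tt N42037 F312513) (tt N42099 (iv3 F314977)) (tt N21503 F105002) (tt N24002 (iv5 F314978)) (tt N21228 (iv6 D68808)) (tt N42108 F312514))
theorem Q41853 : ∀ i, i < 41853 → P i := stepQ 41852 Q41852 (allL N41852 (tt N24815 (iv1 F315781)) (tt N38013 (iv0 F314967)) (tt N42408 (iv2 F106141)) (tt N66840 (iv3 F340254)) (tt N21230 F105003) (tt N53063 F312505) (tt N21229 (iv6 D68809)) (tt N47921 F317182))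
theorem Q41854 : ∀ i, i < 41854 → P i := stepQ 41853 Q41853 (allL N41853 (tt N42411 (iv1 F106150)) (tt N21230 (iv0 D68810)) (tt N42409 (iv2 F185094)) (tt N21261 F184375) (tt N64222 (iv4 F314984)) (tt N40185 (iv5 F314032)) (tt N44100 F110841) (tt N42410 (iv7 F185096)))
theorem Q41855 : ∀ i, i < 41855 → P i := stepQ 41854 Q41854 (allL N41854 (tt N21230 (iv1 D68811)) (tt N42411 F106149) (tt N42410 F185097) (tt N42005 F228916) (tt N37949 (iv4 F314986)) (tt N40184 (iv5 F313294)) (tt N37954 F313400) (tt N42409 F185095))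
theorem Q41856 : ∀ i, i < 41856 → P i := stepQ 41855 Q41855 (allL N41855 (tt N21235 (iv1 F105004)) (tt N21231 (iv0 D68812)) (tt N60870 (iv2 F177088)) (tt N60877 (iv3 F177120)) (tt N75021 D146767) (tt N21480 F105005) (tt N70702 (iv6 F363818)) (tt N60882 (iv7 F177136)))
theorem Q41857 : ∀ i, i < 41857 → P i := stepQ 41856 Q41856 (allL N41856 (tt N60724 (iv1 F176785)) (tt N36267 F105006) (tt N60732 (iv2 F176803)) (tt N75022 D146769) (tt N21231 (iv4 D68813)) (tt N75023 D146770) (tt N70708 (iv6 F329784)) (tt N60731 F176800))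
theorem Q41858 : ∀ i, i < 41858 → P i := stepQ 41857 Q41857 (allL N41857 (tt N21236 (iv1 F105008)) (tt N21232 (iv0 D68815)) (tt N62737 F183419) (tt N33710 (iv3 F347736)) (tt N56054 (iv4 F162432)) (tt N75024 D146776) (tt N33708 (iv6 F347737)) (tt N56064 (iv7 F162489)))
theorem Q41859 : ∀ i, i < 41859 → P i := stepQ 41858 Q41858 (allL N41858 (tt N21232 (iv1 D68816)) (tt N21236 F105009) (tt N56064 (iv2 F162488)) (tt N43660 F314297) (tt N56063 F162487) (tt N75025 D146779) (tt N43659 (iv6 F316667)) (tt N62737 (iv7 F183417)))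
theorem Q41860 : ∀ i, i < 41860 → P i := stepQ 41859 Q41859 (allL N41859 (tt N75026 D146781) (tt N75027 D146782) (tt N75028 D146783) (tt N21232 (iv3 D68817)) (tt N62601 (iv4 F182686)) (tt N75029 D146784) (tt N75030 D146785) (tt N62738 (iv7 F183422)))
theorem Q41861 : ∀ i, i < 41861 → P i := stepQ 41860 Q41860 (allL N41860 (tt N75031 D146786) (tt N75032 D146787) (tt N62743 (iv2 F183438)) (tt N75029 (iv3 F230144)) (tt N75033 D146788) (tt N21232 (iv5 D68818)) (tt N75034 D146789) (tt N62739 (iv7 F183424)))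
theorem Q41862 : ∀ i, i < 41862 → P i := stepQ 41861 Q41861 (allL N41861 (tt N75035 D146790) (tt N75036 D146791) (tt N62744 (iv2 F183440)) (tt N75030 (iv3 F230145)) (tt N21233 F105010) (tt N75037 D146792) (tt N21232 (iv6 D68819)) (tt N63046 (iv7 F184562)))
theorem Q41863 : ∀ i, i < 41863 → P i := stepQ 41862 Q41862 (allL N41862 (tt N74698 (iv1 F324926)) (tt N52593 (iv0 F334482)) (tt N41957 (iv2 F105160)) (tt N21237 F105012) (tt N51656 (iv4 F318904)) (tt N22270 F105013) (tt N21234 (iv6 D68823)) (tt N74697 (iv7 F323821)))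
theorem Q41864 : ∀ i, i < 41864 → P i := stepQ 41863 Q41863 (allL N41863 (tt N36267 F105014) (tt N60724 (iv0 F176784)) (tt N60731 F176799) (tt N75038 D146796) (tt N21235 (iv4 D68824)) (tt N75033 (iv5 F230150)) (tt N75039 D146797) (tt N60732 (iv7 F176801)))
theorem Q41865 : ∀ i, i < 41865 → P i := stepQ 41864 Q41864 (allL N41864 (tt N75040 D146798) (tt N75041 D146799) (tt N62736 (iv2 F183413)) (tt N41750 F105015) (tt N75039 (iv4 F230159)) (tt N61388 (iv5 F178742)) (tt N21235 (iv6 D68825)) (tt N70710 (iv7 F335973)))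
theorem Q41866 : ∀ i, i < 41866 → P i := stepQ 41865 Q41865 (allL N41865 (tt N64374 (iv1 F346309)) (tt N75042 D146802) (tt N54728 (iv2 F346310)) (tt N21236 (iv3 D68826)) (tt N51654 (iv4 F318896)) (tt N28190 (iv5 F346311)) (tt N26251 F346308) (tt N62742 (iv7 F183437)))
theorem Q41867 : ∀ i, i < 41867 → P i := stepQ 41866 Q41866 (allL N41866 (tt N75032 (iv1 F230148)) (tt N75031 F230147) (tt N62739 (iv2 F183423)) (tt N28190 F346312) (tt N75023 (iv4 F230133)) (tt N21236 (iv5 D68827)) (tt N28189 (iv6 F346313)) (tt N62743 (iv7 F183439)))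
theorem Q41868 : ∀ i, i < 41868 → P i := stepQ 41867 Q41867 (allL N41867 (tt N75043 D146807) (tt N75044 D146808) (tt N62740 (iv2 F183425)) (tt N26251 (iv3 F346303)) (tt N21237 F105016) (tt N28994 (iv5 F346304)) (tt N21236 (iv6 D68828)) (tt N54731 (iv7 F346307)))
theorem Q41869 : ∀ i, i < 41869 → P i := stepQ 41868 Q41868 (allL N41868 (tt N21466 F237515) (tt N62741 F183432) (tt N39988 F317025) (tt N74697 (iv3 F323818)) (tt N54731 (iv4 F346305)) (tt N39981 F317026) (tt N21453 F131040) (tt N21237 (iv7 D68831)))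
theorem Q41870 : ∀ i, i < 41870 → P i := stepQ 41869 Q41869 (allL N41869 (tt N60800 (iv1 F176918)) (tt N42358 (iv0 F106056)) (tt N21248 F105017) (tt N67762 (iv3 F354210)) (tt N21238 (iv4 D68832)) (tt N62761 (iv5 F183493)) (tt N50225 (iv6 F139264)) (tt N60795 (iv7 F176905)))
theorem Q41871 : ∀ i, i < 41871 → P i := stepQ 41870 Q41870 (allL N41870 (tt N75045 D146822) (tt N75046 D146823) (tt N73351 (iv2 F224468)) (tt N21239 (iv3 D68833)) (tt N62795 (iv4 F183702)) (tt N75047 D146824) (tt N75048 D146825) (tt N62745 (iv7 F183444)))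
theorem Q41872 : ∀ i, i < 41872 → P i := stepQ 41871 Q41871 (allL N41871 (tt N62760 (iv1 F183488)) (tt N62759 F183485) (tt N21259 F105018) (tt N75047 (iv3 F230171)) (tt N60801 (iv4 F176924)) (tt N21239 (iv5 D68834)) (tt N75049 D146826) (tt N62746 (iv7 F183447)))
theorem Q41873 : ∀ i, i < 41873 → P i := stepQ 41872 Q41872 (allL N41872 (tt N69987 F331635) (tt N31586 F331636) (tt N21260 F105019) (tt N75048 (iv3 F230172)) (tt N21240 F105020) (tt N72152 (iv5 F356561)) (tt N21239 (iv6 D68835)) (tt N69986 (iv7 F331627)))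
theorem Q41874 : ∀ i, i < 41874 → P i := stepQ 41873 Q41873 (allL N41873 (tt N21264 (iv1 F105025)) (tt N21240 (iv0 D68836)) (tt N21261 F188604) (tt N42004 (iv3 F230693)) (tt N75050 D146832) (tt N62499 (iv5 F318629)) (tt N62500 (iv6 F316207)) (tt N21262 F188605))
theorem Q41875 : ∀ i, i < 41875 → P i := stepQ 41874 Q41874 (allL N41874 (tt N21240 (iv1 D68837)) (tt N21264 F105021) (tt N21262 F188601) (tt N42410 F188602) (tt N75051 D146835) (tt N62512 (iv5 F321864)) (tt N22519 F131181) (tt N21261 F188603))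
theorem Q41876 : ∀ i, i < 41876 → P i := stepQ 41875 Q41875 (allL N41875 (tt N47976 F130228) (tt N63043 (iv0 F310935)) (tt N21263 F105022) (tt N45260 (iv3 F114963)) (tt N75052 D146837) (tt N21240 (iv5 D68838)) (tt N21241 F105023) (tt N75053 D146838))
theorem Q41877 : ∀ i, i < 41877 → P i := stepQ 41876 Q41876 (allL N41876 (tt N21262 (iv1 F105026)) (tt N21261 F105027) (tt N21264 F105024) (tt N62800 (iv3 F183714)) (tt N69986 (iv4 F331626)) (tt N75053 (iv5 F230202)) (tt N62750 (iv6 F183459)) (tt N21240 (iv7 D68839)))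
theorem Q41878 : ∀ i, i < 41878 → P i := stepQ 41877 Q41877 (allL N41877 (tt N48977 (iv1 F134983)) (tt N62543 (iv0 F323293)) (tt N21267 F105028) (tt N75054 D146839) (tt N21241 (iv4 D68840)) (tt N46684 (iv5 F125801)) (tt N75052 (iv6 F230200)) (tt N42660 (iv7 F106734)))
theorem Q41879 : ∀ i, i < 41879 → P i := stepQ 41878 Q41878 (allL N41878 (tt N45180 F114702) (tt N61035 (iv0 F177711)) (tt N50181 (iv2 F139177)) (tt N21244 F105029) (tt N75055 D146840) (tt N21242 (iv5 D68841)) (tt N75056 D146841) (tt N50182 (iv7 F139181)))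
theorem Q41880 : ∀ i, i < 41880 → P i := stepQ 41879 Q41879 (allL N41879 (tt N41355 F105035) (tt N29734 F105033) (tt N33564 F105030) (tt N36284 F105031) (tt N21414 F105034) (tt N21243 (iv5 D68842)) (tt N75057 D146842) (tt N41385 F105032))
theorem Q41881 : ∀ i, i < 41881 → P i := stepQ 41880 Q41880 (allL N41880 (tt N75058 D146843) (tt N75059 D146844) (tt N60729 (iv2 F176794)) (tt N75060 D146845) (tt N21244 (iv4 D68843)) (tt N75061 D146846) (tt N70826 (iv6 F336466)) (tt N60727 (iv7 F176792)))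
theorem Q41882 : ∀ i, i < 41882 → P i := stepQ 41881 Q41881 (allL N41881 (tt N75062 D146848) (tt N56277 (iv0 F332589)) (tt N60730 (iv2 F176796)) (tt N75056 (iv3 F230216)) (tt N70826 (iv4 F336465)) (tt N22074 F105037) (tt N21244 (iv6 D68844)) (tt N75063 D146850))
theorem Q41883 : ∀ i, i < 41883 → P i := stepQ 41882 Q41882 (allL N41882 (tt N75059 (iv1 F230233)) (tt N75058 F230230) (tt N60727 (iv2 F176791)) (tt N75064 D146851) (tt N21245 (iv4 D68845)) (tt N75065 D146852) (tt N75066 D146853) (tt N60729 (iv7 F176795)))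
theorem Q41884 : ∀ i, i < 41884 → P i := stepQ 41883 Q41883 (allL N41883 (tt N75067 D146854) (tt N75068 D146855) (tt N60728 (iv2 F176793)) (tt N74973 (iv3 F229932)) (tt N75066 (iv4 F230243)) (tt N63471 (iv5 F187583)) (tt N21245 (iv6 D68846)) (tt N75069 D146856))
theorem Q41885 : ∀ i, i < 41885 → P i := stepQ 41884 Q41884 (allL N41884 (tt N45049 (iv1 F114433)) (tt N26896 (iv0 F105040)) (tt N50183 F139185) (tt N21246 (iv3 D68847)) (tt N71998 (iv4 F221196)) (tt N32416 F105038) (tt N75070 D146857) (tt N32622 F105039))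
theorem Q41886 : ∀ i, i < 41886 → P i := stepQ 41885 Q41885 (allL N41885 (tt N67535 (iv1 F327586)) (tt N75071 D146859) (tt N60798 (iv2 F176915)) (tt N75072 D146860) (tt N21246 (iv4 D68848)) (tt N75073 D146861) (tt N75074 D146862) (tt N60796 (iv7 F176912)))
theorem Q41887 : ∀ i, i < 41887 → P i := stepQ 41886 Q41886 (allL N41886 (tt N75075 D146863) (tt N75076 D146864) (tt N60799 (iv2 F176917)) (tt N75070 (iv3 F230246)) (tt N75074 (iv4 F230256)) (tt N60178 (iv5 F175870)) (tt N21246 (iv6 D68849)) (tt N75077 D146865))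
theorem Q41888 : ∀ i, i < 41888 → P i := stepQ 41887 Q41887 (allL N41887 (tt N75071 (iv1 F230251)) (tt N67535 (iv0 F327585)) (tt N60796 (iv2 F176911)) (tt N75078 D146866) (tt N21247 (iv4 D68850)) (tt N75079 D146867) (tt N67696 (iv6 F355267)) (tt N60798 (iv7 F176916)))
theorem Q41889 : ∀ i, i < 41889 → P i := stepQ 41888 Q41888 (allL N41888 (tt N75080 D146869) (tt N69532 (iv0 F355401)) (tt N60797 (iv2 F176913)) (tt N45210 (iv3 F114795)) (tt N67696 (iv4 F355265)) (tt N45203 (iv5 F114783)) (tt N21247 (iv6 D68851)) (tt N75081 D146871))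
theorem Q41890 : ∀ i, i < 41890 → P i := stepQ 41889 Q41889 (allL N41889 (tt N60795 (iv1 F176908)) (tt N21248 (iv0 D68852)) (tt N60800 F176921) (tt N75082 D146872) (tt N42359 F106063) (tt N75083 D146873) (tt N75084 D146874) (tt N42358 (iv7 F106064)))
theorem Q41891 : ∀ i, i < 41891 → P i := stepQ 41890 Q41890 (allL N41890 (tt N21248 (iv1 D68853)) (tt N60795 (iv0 F176907)) (tt N42358 (iv2 F106055)) (tt N75085 D146875) (tt N41755 F105041) (tt N75086 D146876) (tt N75087 D146877) (tt N60800 (iv7 F176919)))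
theorem Q41892 : ∀ i, i < 41892 → P i := stepQ 41891 Q41891 (allL N41891 (tt N75088 D146878) (tt N75089 D146879) (tt N75090 D146880) (tt N21248 (iv3 D68854)) (tt N36275 F105042) (tt N75091 D146881) (tt N75092 D146882) (tt N60615 (iv7 F176644)))
theorem Q41893 : ∀ i, i < 41893 → P i := stepQ 41892 Q41892 (allL N41892 (tt N75023 (iv1 F230135)) (tt N75033 (iv0 F230151)) (tt N62761 (iv2 F183492)) (tt N75091 (iv3 F230268)) (tt N62746 (iv4 F183446)) (tt N21248 (iv5 D68855)) (tt N75093 D146883) (tt N60801 (iv7 F176923)))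
theorem Q41894 : ∀ i, i < 41894 → P i := stepQ 41893 Q41893 (allL N41893 (tt N75094 D146884) (tt N75095 D146885) (tt N50225 (iv2 F139263)) (tt N75092 (iv3 F230269)) (tt N21249 F105043) (tt N75096 D146886) (tt N21248 (iv6 D68856)) (tt N68993 (iv7 F326334)))
theorem Q41895 : ∀ i, i < 41895 → P i := stepQ 41894 Q41894 (allL N41894 (tt N49252 (iv1 F135540)) (tt N21249 (iv0 D68857)) (tt N50224 (iv2 F142374)) (tt N26902 (iv3 F142375)) (tt N75097 D146888) (tt N51439 (iv5 F144897)) (tt N75098 D146889) (tt N50196 F142373))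
theorem Q41896 : ∀ i, i < 41896 → P i := stepQ 41895 Q41895 (allL N41895 (tt N21249 (iv1 D68858)) (tt N49252 F135539) (tt N50196 F142371) (tt N75099 D146890) (tt N75100 D146891) (tt N50768 (iv5 F142370)) (tt N75101 D146892) (tt N50224 (iv7 F142372)))
theorem Q41897 : ∀ i, i < 41897 → P i := stepQ 41896 Q41896 (allL N41896 (tt N50196 (iv1 F139209)) (tt N50224 F139262) (tt N49252 (iv2 F135536)) (tt N36279 F105044) (tt N68993 (iv4 F326333)) (tt N49251 F135535) (tt N37402 F325462) (tt N21249 (iv7 D68859)))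
theorem Q41898 : ∀ i, i < 41898 → P i := stepQ 41897 Q41897 (allL N41897 (tt N32516 F105049) (tt N29721 (iv0 F105050)) (tt N33593 F105045) (tt N37534 F105046) (tt N21250 (iv4 D68860)) (tt N42586 (iv5 F106449)) (tt N32800 F105047) (tt N37534 F105048))
theorem Q41899 : ∀ i, i < 41899 → P i := stepQ 41898 Q41898 (allL N41898 (tt N21255 (iv1 F105052)) (tt N21252 (iv0 D68861)) (tt N42395 F106115) (tt N75102 D146893) (tt N41347 F105051) (tt N75031 (iv5 F230146)) (tt N75103 D146894) (tt N42394 F106111))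
theorem Q41900 : ∀ i, i < 41900 → P i := stepQ 41899 Q41899 (allL N41899 (tt N21252 (iv1 D68862)) (tt N21255 F105053) (tt N42394 F106110) (tt N75104 D146895) (tt N41359 F105054) (tt N75032 (iv5 F230149)) (tt N75105 D146896) (tt N42395 (iv7 F106113)))
theorem Q41901 : ∀ i, i < 41901 → P i := stepQ 41900 Q41900 (allL N41900 (tt N75106 D146897) (tt N75107 D146898) (tt N75108 D146899) (tt N21252 (iv3 D68863)) (tt N42415 (iv4 F106152)) (tt N75109 D146900) (tt N75110 D146901) (tt N42396 (iv7 F106117)))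
theorem Q41902 : ∀ i, i < 41902 → P i := stepQ 41901 Q41901 (allL N41901 (tt N75111 D146902) (tt N75112 D146903) (tt N62752 (iv2 F183464)) (tt N75109 (iv3 F230281)) (tt N75086 (iv4 F230263)) (tt N21252 (iv5 D68864)) (tt N75113 D146904) (tt N42397 (iv7 F106119)))
theorem Q41903 : ∀ i, i < 41903 → P i := stepQ 41902 Q41902 (allL N41902 (tt N75114 D146905) (tt N75115 D146906) (tt N62753 (iv2 F183466)) (tt N75110 (iv3 F230282)) (tt N21253 F105055) (tt N75116 D146907) (tt N21252 (iv6 D68865)) (tt N75117 D146908))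
theorem Q41904 : ∀ i, i < 41904 → P i := stepQ 41903 Q41903 (allL N41903 (tt N62756 (iv1 F183477)) (tt N21253 (iv0 D68866)) (tt N22522 F130733) (tt N62814 (iv3 F232361)) (tt N75118 D146909) (tt N75119 D146910) (tt N22516 F130734) (tt N62754 (iv7 F183469)))
theorem Q41905 : ∀ i, i < 41905 → P i := stepQ 41904 Q41904 (allL N41904 (tt N62754 (iv1 F183468)) (tt N22522 F131041) (tt N62756 (iv2 F183474)) (tt N23081 F105056) (tt N75117 (iv4 F230292)) (tt N63234 (iv5 F186460)) (tt N23064 F105057) (tt N21253 (iv7 D68868)))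
theorem Q41906 : ∀ i, i < 41906 → P i := stepQ 41905 Q41905 (allL N41905 (tt N75120 D146911) (tt N75121 D146912) (tt N75122 D146913) (tt N21255 (iv3 D68869)) (tt N66652 (iv4 F204855)) (tt N75123 D146914) (tt N54738 (iv6 F354738)) (tt N62751 (iv7 F183463)))
theorem Q41907 : ∀ i, i < 41907 → P i := stepQ 41906 Q41906 (allL N41906 (tt N75112 (iv1 F230287)) (tt N75111 F230284) (tt N42397 (iv2 F106118)) (tt N75123 (iv3 F230299)) (tt N75083 (iv4 F230259)) (tt N21255 (iv5 D68870)) (tt N75124 D146916) (tt N62752 (iv7 F183465)))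
theorem Q41908 : ∀ i, i < 41908 → P i := stepQ 41907 Q41907 (allL N41907 (tt N75125 D146917) (tt N75126 D146918) (tt N23063 F105058) (tt N54738 (iv3 F354737)) (tt N21256 F105059) (tt N75127 D146919) (tt N21255 (iv6 D68871)) (tt N75128 D146920))
theorem Q41909 : ∀ i, i < 41909 → P i := stepQ 41908 Q41908 (allL N41908 (tt N23062 (iv1 F105063)) (tt N23061 F105064) (tt N23064 F105060) (tt N63997 (iv3 F192114)) (tt N75128 (iv4 F230306)) (tt N23054 F105061) (tt N62756 (iv6 F183475)) (tt N21256 (iv7 D68873)))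
theorem Q41910 : ∀ i, i < 41910 → P i := stepQ 41909 Q41909 (allL N41909 (tt N75129 D146921) (tt N59269 (iv0 F341461)) (tt N64772 (iv2 F341491)) (tt N21257 (iv3 D68874)) (tt N62858 (iv4 F183940)) (tt N75130 D146924) (tt N35145 (iv6 F341472)) (tt N58950 (iv7 F341451)))
theorem Q41911 : ∀ i, i < 41911 → P i := stepQ 41910 Q41910 (allL N41910 (tt N42234 (iv1 F105671)) (tt N33757 F105672) (tt N42243 F105688) (tt N75130 (iv3 F230326)) (tt N75079 (iv4 F230257)) (tt N21257 (iv5 D68875)) (tt N75131 D146926) (tt N42242 F105684))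
theorem Q41912 : ∀ i, i < 41912 → P i := stepQ 41911 Q41911 (allL N41911 (tt N75118 (iv1 F338164)) (tt N74991 (iv0 F338162)) (tt N62758 (iv2 F183482)) (tt N35145 F341473) (tt N74421 (iv4 F227868)) (tt N75132 D146929) (tt N21257 (iv6 D68876)) (tt N64773 (iv7 F341482)))
theorem Q41913 : ∀ i, i < 41913 → P i := stepQ 41912 Q41912 (allL N41912 (tt N75133 D146931) (tt N75134 D146932) (tt N75135 D146933) (tt N21258 (iv3 D68877)) (tt N41630 F105065) (tt N75136 D146934) (tt N75137 D146935) (tt N62757 (iv7 F183481)))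
theorem Q41914 : ∀ i, i < 41914 → P i := stepQ 41913 Q41913 (allL N41913 (tt N33757 F105066) (tt N42234 F105685) (tt N42242 F105683) (tt N75136 (iv3 F230329)) (tt N75073 (iv4 F230255)) (tt N21258 (iv5 D68878)) (tt N75138 D146936) (tt N42243 (iv7 F105686)))
theorem Q41915 : ∀ i, i < 41915 → P i := stepQ 41914 Q41914 (allL N41914 (tt N74985 F229960) (tt N48009 (iv0 F155240)) (tt N58949 (iv2 F336967)) (tt N75137 (iv3 F230331)) (tt N41628 F105067) (tt N58948 (iv5 F336964)) (tt N21258 (iv6 D68879)) (tt N75139 D146938))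
theorem Q41916 : ∀ i, i < 41916 → P i := stepQ 41915 Q41915 (allL N41915 (tt N62746 (iv1 F183449)) (tt N21259 (iv0 D68880)) (tt N62760 F183491) (tt N63954 (iv3 F353605)) (tt N75065 (iv4 F230242)) (tt N21414 F105068) (tt N75140 D146940) (tt N62759 F183487))
theorem Q41917 : ∀ i, i < 41917 → P i := stepQ 41916 Q41916 (allL N41916 (tt N21259 (iv1 D68881)) (tt N62746 (iv0 F183448)) (tt N62759 F183486) (tt N75141 D146941) (tt N75061 (iv4 F230239)) (tt N21415 F105069) (tt N75142 D146942) (tt N62760 (iv7 F183489)))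
theorem Q41918 : ∀ i, i < 41918 → P i := stepQ 41917 Q41917 (allL N41917 (tt N75033 (iv1 F230152)) (tt N75023 (iv0 F230134)) (tt N60801 (iv2 F176922)) (tt N75143 D146943) (tt N21259 (iv4 D68882)) (tt N60795 (iv5 F176906)) (tt N68998 (iv6 F365821)) (tt N62761 (iv7 F183494)))
theorem Q41919 : ∀ i, i < 41919 → P i := stepQ 41918 Q41918 (allL N41918 (tt N75144 D146945) (tt N75145 D146946) (tt N75049 (iv2 F230173)) (tt N73385 (iv3 F224551)) (tt N68998 (iv4 F365820)) (tt N75146 D146947) (tt N21259 (iv6 D68883)) (tt N75147 D146948))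
theorem Q41920 : ∀ i, i < 41920 → P i := stepQ 41919 Q41919 (allL N41919 (tt N21260 (iv1 D68885)) (tt N69986 F331630) (tt N31586 F331631) (tt N59262 (iv3 F331638)) (tt N75148 D146956) (tt N31585 (iv5 F331639)) (tt N63753 F230351) (tt N69987 F331632))
theorem Q41921 : ∀ i, i < 41921 → P i := stepQ 41920 Q41920 (allL N41920 (tt N38762 (iv1 F356546)) (tt N72154 (iv0 F356547)) (tt N72152 (iv2 F356559)) (tt N48075 F338215) (tt N75149 D146960) (tt N21260 (iv5 D68886)) (tt N75146 (iv6 F230340)) (tt N72153 (iv7 F356555)))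
theorem Q41922 : ∀ i, i < 41922 → P i := stepQ 41921 Q41921 (allL N41921 (tt N31586 F331633) (tt N69987 F331634) (tt N69986 (iv2 F331625)) (tt N73386 (iv3 F224553)) (tt N21264 F105070) (tt N72153 (iv5 F356554)) (tt N62765 (iv6 F183496)) (tt N21260 (iv7 D68887)))
theorem Q41923 : ∀ i, i < 41923 → P i := stepQ 41922 Q41922 (allL N41922 (tt N75150 D146962) (tt N75105 (iv0 F230279)) (tt N75050 (iv2 F230183)) (tt N75151 D146963) (tt N21261 (iv4 D68890)) (tt N75152 D146964) (tt N62513 (iv6 F319163)) (tt N75051 (iv7 F230193)))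
theorem Q41924 : ∀ i, i < 41924 → P i := stepQ 41923 Q41923 (allL N41923 (tt N41966 (iv1 F230366)) (tt N42007 (iv0 F230367)) (tt N42005 (iv2 F228917)) (tt N21262 (iv3 D68894)) (tt N51820 (iv4 F348971)) (tt N73773 (iv5 F348976)) (tt N51818 (iv6 F348966)) (tt N42004 (iv7 F230694)))
theorem Q41925 : ∀ i, i < 41925 → P i := stepQ 41924 Q41924 (allL N41924 (tt N75105 (iv1 F230280)) (tt N75150 F230353) (tt N75051 (iv2 F230191)) (tt N75153 D146975) (tt N21262 (iv4 D68895)) (tt N75154 D146976) (tt N63752 (iv6 F189199)) (tt N75050 (iv7 F230184)))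
theorem Q41926 : ∀ i, i < 41926 → P i := stepQ 41925 Q41925 (allL N41925 (tt N62469 (iv1 F317642)) (tt N41274 F322009) (tt N62512 (iv2 F321861)) (tt N73773 (iv3 F348974)) (tt N75155 D146977) (tt N21262 (iv5 D68896)) (tt N62532 (iv6 F322168)) (tt N62499 (iv7 F318630)))
theorem Q41927 : ∀ i, i < 41927 → P i := stepQ 41926 Q41926 (allL N41926 (tt N75053 (iv1 F230204)) (tt N21263 (iv0 D68898)) (tt N47976 (iv2 F131627)) (tt N34297 (iv3 F131626)) (tt N44914 (iv4 F313192)) (tt N75156 D146979) (tt N34186 F105073) (tt N63043 F310951))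
theorem Q41928 : ∀ i, i < 41928 → P i := stepQ 41927 Q41927 (allL N41927 (tt N21263 (iv1 D68899)) (tt N75053 F230203) (tt N63043 (iv2 F310937)) (tt N75157 D146980) (tt N57314 (iv4 F322419)) (tt N75158 D146982) (tt N63040 (iv6 F315552)) (tt N47976 F131628))
theorem Q41929 : ∀ i, i < 41929 → P i := stepQ 41928 Q41928 (allL N41928 (tt N75159 D146984) (tt N75160 D146985) (tt N75052 (iv2 F230199)) (tt N75161 D146986) (tt N21263 (iv4 D68900)) (tt N75162 D146987) (tt N21267 F105074) (tt N75163 D146988))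
theorem Q41930 : ∀ i, i < 41930 → P i := stepQ 41929 Q41929 (allL N41929 (tt N63043 (iv1 F310936)) (tt N47976 (iv0 F184002)) (tt N75053 (iv2 F230201)) (tt N21272 F105075) (tt N75163 (iv4 F230381)) (tt N21264 F105076) (tt N62884 (iv6 F184001)) (tt N21263 (iv7 D68901)))
theorem Q41931 : ∀ i, i < 41931 → P i := stepQ 41930 Q41930 (allL N41930 (tt N42663 (iv1 F106740)) (tt N42662 F106739) (tt N33836 F105077) (tt N43245 F108405) (tt N21266 (iv4 D68902)) (tt N43438 (iv5 F108874)) (tt N21427 F321868) (tt N34584 F105078))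
theorem Q41932 : ∀ i, i < 41932 → P i := stepQ 41931 Q41931 (allL N41931 (tt N42660 (iv1 F106736)) (tt N21267 (iv0 D68904)) (tt N48977 (iv2 F134979)) (tt N24386 (iv3 F105082)) (tt N75164 D146991) (tt N24385 F105081) (tt N73636 (iv6 F323291)) (tt N62543 (iv7 F323299)))
theorem Q41933 : ∀ i, i < 41933 → P i := stepQ 41932 Q41932 (allL N41932 (tt N21267 (iv1 D68905)) (tt N42660 (iv0 F106735)) (tt N62543 (iv2 F323295)) (tt N59984 (iv3 F323302)) (tt N21616 (iv4 F105083)) (tt N28687 F105084) (tt N21366 F321623) (tt N48977 (iv7 F134980)))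
theorem Q41934 : ∀ i, i < 41934 → P i := stepQ 41933 Q41933 (allL N41933 (tt N66936 F206181) (tt N21364 (iv0 F304914)) (tt N75165 D146995) (tt N21267 (iv3 D68906)) (tt N21273 F105085) (tt N52793 (iv5 F151368)) (tt N75161 (iv6 F230380)) (tt N62887 (iv7 F184020)))
theorem Q41935 : ∀ i, i < 41935 → P i := stepQ 41934 Q41934 (allL N41934 (tt N21317 F190185) (tt N21268 (iv0 D68907)) (tt N21319 F190186) (tt N42007 F190187) (tt N75166 D146996) (tt N73980 (iv5 F315734)) (tt N21301 F190188) (tt N21302 F190189))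
theorem Q41936 : ∀ i, i < 41936 → P i := stepQ 41935 Q41935 (allL N41935 (tt N21319 (iv1 F190197)) (tt N21302 (iv0 F190194)) (tt N21268 (iv2 D68909)) (tt N62836 (iv3 F183814)) (tt N75167 D146998) (tt N62455 (iv5 F318657)) (tt N62456 (iv6 F318124)) (tt N21317 F190191))
theorem Q41937 : ∀ i, i < 41937 → P i := stepQ 41936 Q41936 (allL N41936 (tt N75168 D147001) (tt N44890 F323950) (tt N75167 (iv2 F230423)) (tt N73697 F323537) (tt N21268 (iv4 D68910)) (tt N48093 (iv5 F354244)) (tt N41846 F323538) (tt N62838 (iv7 F183846)))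
theorem Q41938 : ∀ i, i < 41938 → P i := stepQ 41937 Q41937 (allL N41937 (tt N39643 F329194) (tt N75169 D147018) (tt N62879 (iv2 F183992)) (tt N73721 (iv3 F225532)) (tt N21269 (iv4 D68927)) (tt N38605 F330251) (tt N63645 (iv6 F188561)) (tt N62837 (iv7 F183819)))
theorem Q41939 : ∀ i, i < 41939 → P i := stepQ 41938 Q41938 (allL N41938 (tt N42661 F186345) (tt N62884 F186346) (tt N62882 (iv2 F188828)) (tt N21270 (iv3 D68938)) (tt N47560 F334100) (tt N62840 (iv5 F310213)) (tt N21429 F320075) (tt N62559 (iv7 F313429)))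
theorem Q41940 : ∀ i, i < 41940 → P i := stepQ 41939 Q41939 (allL N41939 (tt N21271 (iv1 D68942)) (tt N62560 F314049) (tt N40834 F314050) (tt N75170 D147031) (tt N33597 F105873) (tt N33385 (iv5 F314055)) (tt N37387 (iv6 F314056)) (tt N21469 (iv7 F312725)))
theorem Q41941 : ∀ i, i < 41941 → P i := stepQ 41940 Q41940 (allL N41940 (tt N52592 F150021) (tt N75171 D147034) (tt N75172 D147035) (tt N21271 (iv3 D68943)) (tt N75161 (iv4 F230379)) (tt N62839 (iv5 F309626)) (tt N21273 F105108) (tt N73981 (iv7 F313472)))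
theorem Q41942 : ∀ i, i < 41942 → P i := stepQ 41941 Q41941 (allL N41941 (tt N21435 F310527) (tt N34297 (iv0 F105111)) (tt N42667 (iv2 F106760)) (tt N62884 (iv3 F183999)) (tt N21450 F310528) (tt N42411 (iv5 F106146)) (tt N21272 (iv6 D68946)) (tt N21275 F105110))
theorem Q41943 : ∀ i, i < 41943 → P i := stepQ 41942 Q41942 (allL N41942 (tt N21356 (iv1 F306563)) (tt N21329 (iv0 F306561)) (tt N21273 (iv2 D68947)) (tt N62841 (iv3 F183874)) (tt N75165 (iv4 F230401)) (tt N24276 F105112) (tt N75172 (iv6 F230496)) (tt N21354 F305908))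
theorem Q41944 : ∀ i, i < 41944 → P i := stepQ 41943 Q41943 (allL N41943 (tt N21848 F110803) (tt N21852 F110804) (tt N34123 F105117) (tt N52375 (iv3 F149121)) (tt N21743 F105118) (tt N62558 (iv5 F311059)) (tt N21274 (iv6 D68949)) (tt N44538 F305348))
theorem Q41945 : ∀ i, i < 41945 → P i := stepQ 41944 Q41944 (allL N41944 (tt N75173 D147049) (tt N75174 D147050) (tt N62534 (iv2 F182017)) (tt N21276 (iv3 D68952)) (tt N62842 (iv4 F183877)) (tt N66701 (iv5 F205186)) (tt N75175 D147051) (tt N21332 F105121))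
theorem Q41946 : ∀ i, i < 41946 → P i := stepQ 41945 Q41945 (allL N41945 (tt N46208 (iv1 F338189)) (tt N75176 D147053) (tt N21379 F105122) (tt N75175 (iv3 F230529)) (tt N21277 F105123) (tt N45851 (iv5 F334017)) (tt N21276 (iv6 D68953)) (tt N75177 D147055))
theorem Q41947 : ∀ i, i < 41947 → P i := stepQ 41946 Q41946 (allL N41946 (tt N21388 (iv1 F105130)) (tt N21277 (iv0 D68954)) (tt N21389 F241161) (tt N74852 (iv3 F334436)) (tt N75178 D147058) (tt N75179 D147059) (tt N69414 F214281) (tt N21390 F241162))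
theorem Q41948 : ∀ i, i < 41948 → P i := stepQ 41947 Q41947 (allL N41947 (tt N21277 (iv1 D68955)) (tt N21388 F105124) (tt N21390 (iv2 F241153)) (tt N52593 (iv3 F334485)) (tt N75180 D147062) (tt N62576 (iv5 F322079)) (tt N52592 (iv6 F309624)) (tt N21389 (iv7 F241160)))
theorem Q41949 : ∀ i, i < 41949 → P i := stepQ 41948 Q41948 (allL N41948 (tt N65285 (iv1 F200567)) (tt N65284 F200566) (tt N21391 F105125) (tt N22136 F105126) (tt N75181 D147065) (tt N21277 (iv5 D68956)) (tt N21278 F105127) (tt N65220 (iv7 F200401)))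
theorem Q41950 : ∀ i, i < 41950 → P i := stepQ 41949 Q41949 (allL N41949 (tt N21390 (iv1 F105131)) (tt N21389 F105132) (tt N21388 F105128) (tt N62846 (iv3 F183883)) (tt N75177 (iv4 F230533)) (tt N65220 (iv5 F200400)) (tt N21337 F105129) (tt N21277 (iv7 D68957)))
theorem Q41951 : ∀ i, i < 41951 → P i := stepQ 41950 Q41950 (allL N41950 (tt N22419 (iv1 F105136)) (tt N22418 F105135) (tt N21396 F105133) (tt N75182 D147066) (tt N21278 (iv4 D68958)) (tt N66901 (iv5 F206042)) (tt N75181 (iv6 F230544)) (tt N22164 F105134))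
theorem Q41952 : ∀ i, i < 41952 → P i := stepQ 41951 Q41951 (allL N41951 (tt N32838 F317664) (tt N32868 F317665) (tt N32866 (iv2 F315416)) (tt N21281 F105137) (tt N74430 (iv4 F227880)) (tt N32866 F317653) (tt N21279 (iv6 D68959)) (tt N32865 (iv7 F315410)))
theorem Q41953 : ∀ i, i < 41953 → P i := stepQ 41952 Q41952 (allL N41952 (tt N21299 (iv1 F105140)) (tt N21280 (iv0 D68960)) (tt N21294 (iv2 F105139)) (tt N74938 (iv3 F229853)) (tt N21516 F105138) (tt N42072 (iv5 F105422)) (tt N75183 D147070) (tt N21295 F105141))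
theorem Q41954 : ∀ i, i < 41954 → P i := stepQ 41953 Q41953 (allL N41953 (tt N24869 (iv1 F343354)) (tt N75184 D147072) (tt N59998 (iv2 F175176)) (tt N21280 (iv3 D68961)) (tt N74428 (iv4 F227874)) (tt N65838 (iv5 F202633)) (tt N75185 D147073) (tt N21314 F105142))
theorem Q41955 : ∀ i, i < 41955 → P i := stepQ 41954 Q41954 (allL N41954 (tt N65841 (iv1 F202645)) (tt N65840 F202642) (tt N21297 F105143) (tt N65838 (iv3 F202631)) (tt N59679 (iv4 F173477)) (tt N21280 (iv5 D68962)) (tt N68581 (iv6 F333681)) (tt N21315 F105144))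
theorem Q41956 : ∀ i, i < 41956 → P i := stepQ 41955 Q41955 (allL N41955 (tt N75186 D147075) (tt N75187 D147076) (tt N21298 F105145) (tt N75185 (iv3 F230554)) (tt N21281 F105146) (tt N68582 (iv5 F333685)) (tt N21280 (iv6 D68963)) (tt N74996 (iv7 F242985)))
theorem Q41957 : ∀ i, i < 41957 → P i := stepQ 41956 Q41956 (allL N41956 (tt N41965 (iv1 F105192)) (tt N21283 (iv0 D68968)) (tt N41963 F241125) (tt N62748 (iv3 F242960)) (tt N27295 (iv4 F314846)) (tt N75188 D147094) (tt N24268 F312406) (tt N41964 F241126))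
theorem Q41958 : ∀ i, i < 41958 → P i := stepQ 41957 Q41957 (allL N41957 (tt N42180 F240650) (tt N41548 F324918) (tt N41862 F105160) (tt N33580 F105161) (tt N52269 (iv4 F320042)) (tt N33921 F105162) (tt N21284 (iv6 D68972)) (tt N44409 F314721))
theorem Q41959 : ∀ i, i < 41959 → P i := stepQ 41958 Q41958 (allL N41958 (tt N29731 F105166) (tt N41328 F105167) (tt N33493 F105163) (tt N36301 F105164) (tt N21342 F105168) (tt N21285 (iv5 D68973)) (tt N49042 F310861) (tt N36289 F105165))
theorem Q41960 : ∀ i, i < 41960 → P i := stepQ 41959 Q41959 (allL N41959 (tt N42154 F192078) (tt N42059 F192079) (tt N41699 F105173) (tt N33604 F105174) (tt N52266 (iv4 F320031)) (tt N22186 F105175) (tt N21286 (iv6 D68975)) (tt N42153 (iv7 F229479)))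
theorem Q41961 : ∀ i, i < 41961 → P i := stepQ 41960 Q41960 (allL N41960 (tt N36283 F105181) (tt N36299 F105182) (tt N36295 F105179) (tt N75189 D147114) (tt N21288 (iv4 D68977)) (tt N51657 F320996) (tt N27427 F320997) (tt N36294 F105180))
theorem Q41962 : ∀ i, i < 41962 → P i := stepQ 41961 Q41961 (allL N41961 (tt N46574 (iv1 F313018)) (tt N27726 F313008) (tt N41843 F105183) (tt N33608 F105184) (tt N27427 F321366) (tt N43425 (iv5 F108806)) (tt N21288 (iv6 D68978)) (tt N46573 F315433))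
theorem Q41963 : ∀ i, i < 41963 → P i := stepQ 41962 Q41962 (allL N41962 (tt N71735 (iv1 F359233)) (tt N71732 (iv0 F364559)) (tt N44153 (iv2 F110944)) (tt N21289 (iv3 D68979)) (tt N74771 (iv4 F229102)) (tt N44152 F110943) (tt N29148 F322987) (tt N74811 (iv7 F229241)))
theorem Q41964 : ∀ i, i < 41964 → P i := stepQ 41963 Q41963 (allL N41963 (tt N29145 F315411) (tt N21290 (iv0 D68981)) (tt N41956 (iv2 F241125)) (tt N33623 (iv3 F242962)) (tt N27398 (iv4 F312494)) (tt N42177 (iv5 F105540)) (tt N24226 F310223) (tt N41837 F242953))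
theorem Q41965 : ∀ i, i < 41965 → P i := stepQ 41964 Q41964 (allL N41964 (tt N21290 (iv1 D68982)) (tt N29145 F314948) (tt N41837 F242956) (tt N33614 F242957) (tt N51626 (iv4 F317104)) (tt N42079 (iv5 F105427)) (tt N55200 (iv6 F313062)) (tt N41956 (iv7 F241126)))
theorem Q41966 : ∀ i, i < 41966 → P i := stepQ 41965 Q41965 (allL N41965 (tt N41837 F242955) (tt N41956 F105192) (tt N29145 F315412) (tt N61400 F319380) (tt N29105 F319381) (tt N41829 F242986) (tt N75190 D147134) (tt N21290 (iv7 D68983)))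
theorem Q41967 : ∀ i, i < 41967 → P i := stepQ 41966 Q41966 (allL N41966 (tt N75191 D147135) (tt N41923 F230366) (tt N21312 F105193) (tt N41992 (iv3 F105230)) (tt N74812 (iv4 F229243)) (tt N42026 (iv5 F105287)) (tt N21291 (iv6 D68984)) (tt N75190 (iv7 F230689)))
theorem Q41968 : ∀ i, i < 41968 → P i := stepQ 41967 Q41967 (allL N41967 (tt N75192 D147136) (tt N75193 D147137) (tt N47411 (iv2 F333954)) (tt N21292 (iv3 D68985)) (tt N46101 (iv4 F120260)) (tt N75194 D147139) (tt N47366 F333941) (tt N74987 (iv7 F229980)))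
theorem Q41969 : ∀ i, i < 41969 → P i := stepQ 41968 Q41968 (allL N41968 (tt N42038 (iv1 F105331)) (tt N42041 (iv0 F105336)) (tt N41320 F105194) (tt N75194 (iv3 F230701)) (tt N41331 F105195) (tt N21292 (iv5 D68986)) (tt N75195 D147141) (tt N42104 (iv7 F105466)))
theorem Q41970 : ∀ i, i < 41970 → P i := stepQ 41969 Q41969 (allL N41969 (tt N75196 D147142) (tt N75197 D147143) (tt N41321 F105196) (tt N47366 (iv3 F333932)) (tt N21293 F105197) (tt N47364 (iv5 F333933)) (tt N21292 (iv6 D68987)) (tt N47396 F333931))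
theorem Q41971 : ∀ i, i < 41971 → P i := stepQ 41970 Q41970 (allL N41970 (tt N41324 (iv1 F105200)) (tt N21293 (iv0 D68988)) (tt N41322 (iv2 F200425)) (tt N74441 (iv3 F233064)) (tt N75198 D147147) (tt N75199 D147148) (tt N75004 (iv6 F243028)) (tt N41323 F200424))
theorem Q41972 : ∀ i, i < 41972 → P i := stepQ 41971 Q41971 (allL N41971 (tt N21293 (iv1 D68989)) (tt N41324 F105198) (tt N41323 (iv2 F200423)) (tt N35388 F200294) (tt N75200 D147150) (tt N35380 (iv5 F200293)) (tt N62465 (iv6 F318120)) (tt N41322 (iv7 F200427)))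
theorem Q41973 : ∀ i, i < 41973 → P i := stepQ 41972 Q41972 (allL N41972 (tt N41323 (iv1 F105201)) (tt N41322 F105202) (tt N41324 F105199) (tt N46100 (iv3 F120255)) (tt N47396 F333930) (tt N43437 (iv5 F108869)) (tt N74989 (iv6 F229991)) (tt N21293 (iv7 D68990)))
theorem Q41974 : ∀ i, i < 41974 → P i := stepQ 41973 Q41973 (allL N41973 (tt N75201 D147151) (tt N75202 D147152) (tt N75203 D147153) (tt N21294 (iv3 D68991)) (tt N21528 F105203) (tt N75204 D147154) (tt N75205 D147155) (tt N74742 (iv7 F228838)))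
theorem Q41975 : ∀ i, i < 41975 → P i := stepQ 41974 Q41974 (allL N41974 (tt N42031 (iv1 F105305)) (tt N31337 F105204) (tt N42072 F105423) (tt N75204 (iv3 F230740)) (tt N51657 (iv4 F318907)) (tt N21294 (iv5 D68992)) (tt N75206 D147156) (tt N42071 F105419))
theorem Q41976 : ∀ i, i < 41976 → P i := stepQ 41975 Q41975 (allL N41975 (tt N75198 (iv1 F230738)) (tt N75200 (iv0 F230737)) (tt N75183 (iv2 F230549)) (tt N75205 (iv3 F230742)) (tt N21521 F105205) (tt N52796 (iv5 F334063)) (tt N21294 (iv6 D68993)) (tt N75207 D147158))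
theorem Q41977 : ∀ i, i < 41977 → P i := stepQ 41976 Q41976 (allL N41976 (tt N62529 F182010) (tt N67738 (iv0 F339247)) (tt N75208 D147160) (tt N21295 (iv3 D68994)) (tt N62818 (iv4 F183788)) (tt N75209 D147161) (tt N70497 (iv6 F346130)) (tt N74938 (iv7 F229854)))
theorem Q41978 : ∀ i, i < 41978 → P i := stepQ 41977 Q41977 (allL N41977 (tt N31337 F105206) (tt N42031 (iv0 F105304)) (tt N42071 F105418) (tt N75209 (iv3 F230748)) (tt N44585 (iv4 F112589)) (tt N21295 (iv5 D68995)) (tt N75210 D147163) (tt N42072 (iv7 F105421)))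
theorem Q41979 : ∀ i, i < 41979 → P i := stepQ 41978 Q41978 (allL N41978 (tt N74990 (iv1 F241226)) (tt N50078 (iv0 F310539)) (tt N74743 (iv2 F228839)) (tt N70497 (iv3 F346129)) (tt N48480 F312107) (tt N70482 (iv5 F342196)) (tt N21295 (iv6 D68996)) (tt N70481 (iv7 F337895)))
theorem Q41980 : ∀ i, i < 41980 → P i := stepQ 41979 Q41979 (allL N41979 (tt N63440 (iv1 F346811)) (tt N75211 D147169) (tt N59999 (iv2 F175181)) (tt N21298 F105207) (tt N44148 (iv4 F110938)) (tt N75212 D147170) (tt N21296 (iv6 D68997)) (tt N54973 (iv7 F319851)))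
theorem Q41981 : ∀ i, i < 41981 → P i := stepQ 41980 Q41980 (allL N41980 (tt N21315 (iv1 F105209)) (tt N21297 (iv0 D68998)) (tt N65841 F202648) (tt N75213 D147172) (tt N52265 (iv4 F320028)) (tt N21341 F105208) (tt N75214 D147173) (tt N65840 F202644))
theorem Q41982 : ∀ i, i < 41982 → P i := stepQ 41981 Q41981 (allL N41981 (tt N21297 (iv1 D68999)) (tt N21315 F105210) (tt N65840 F202643) (tt N75215 D147174) (tt N52268 (iv4 F320041)) (tt N21342 F105211) (tt N75216 D147175) (tt N65841 (iv7 F202646)))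
theorem Q41983 : ∀ i, i < 41983 → P i := stepQ 41982 Q41982 (allL N41982 (tt N75217 D147176) (tt N75218 D147177) (tt N68581 (iv2 F333680)) (tt N35896 F105212) (tt N59680 (iv4 F173483)) (tt N38076 F333676) (tt N21297 (iv6 D69000)) (tt N65872 (iv7 F202697)))
theorem Q41984 : ∀ i, i < 41984 → P i := stepQ 41983 Q41983 (allL N41983 (tt N74996 (iv1 F242982)) (tt N21298 (iv0 D69001)) (tt N75186 (iv2 F243154)) (tt N24499 (iv3 F310748)) (tt N41676 (iv4 F243033)) (tt N24493 (iv5 F310749)) (tt N24496 F308643) (tt N75187 (iv7 F243146)))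
theorem Q41985 : ∀ i, i < 41985 → P i := stepQ 41984 Q41984 (allL N41984 (tt N21298 (iv1 D69002)) (tt N74996 (iv0 F242981)) (tt N75187 (iv2 F243145)) (tt N63743 (iv3 F339749)) (tt N75219 D147186) (tt N63742 (iv5 F339750)) (tt N75220 D147188) (tt N75186 (iv7 F243156)))
theorem Q41986 : ∀ i, i < 41986 → P i := stepQ 41985 Q41985 (allL N41985 (tt N75221 D147189) (tt N75222 D147190) (tt N68582 (iv2 F333684)) (tt N75212 (iv3 F230751)) (tt N38077 (iv4 F333686)) (tt N21298 (iv5 D69003)) (tt N38076 F333677) (tt N75223 D147192))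
theorem Q41987 : ∀ i, i < 41987 → P i := stepQ 41986 Q41986 (allL N41986 (tt N75187 (iv1 F230556)) (tt N75186 F230561) (tt N74996 (iv2 F242983)) (tt N54973 (iv3 F319850)) (tt N21301 F105213) (tt N75223 (iv5 F230764)) (tt N75166 (iv6 F230405)) (tt N21298 (iv7 D69004)))
theorem Q41988 : ∀ i, i < 41988 → P i := stepQ 41987 Q41987 (allL N41987 (tt N75224 D147193) (tt N75225 D147194) (tt N21316 F105214) (tt N60000 (iv3 F175184)) (tt N21302 F105215) (tt N68057 (iv5 F355449)) (tt N21299 (iv6 D69005)) (tt N75166 (iv7 F230406)))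
theorem Q41989 : ∀ i, i < 41989 → P i := stepQ 41988 Q41988 (allL N41988 (tt N75000 (iv1 F243009)) (tt N66648 (iv0 F240602)) (tt N62774 (iv2 F242992)) (tt N47386 (iv3 F334573)) (tt N21300 (iv4 D69008)) (tt N47162 (iv5 F334574)) (tt N64050 (iv6 F305669)) (tt N74997 (iv7 F243001)))
theorem Q41990 : ∀ i, i < 41990 → P i := stepQ 41989 Q41989 (allL N41989 (tt N42178 F105541) (tt N75002 (iv0 F243012)) (tt N62775 (iv2 F242995)) (tt N62870 (iv3 F242999)) (tt N75226 D147208) (tt N21300 (iv5 D69009)) (tt N75227 D147209) (tt N74998 (iv7 F243005)))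
theorem Q41991 : ∀ i, i < 41991 → P i := stepQ 41990 Q41990 (allL N41990 (tt N73977 (iv1 F315714)) (tt N62839 (iv0 F190443)) (tt N21318 F105224) (tt N42006 (iv3 F105252)) (tt N23199 (iv4 F105226)) (tt N21302 (iv5 D69019)) (tt N21303 F105225) (tt N73980 (iv7 F315736)))
theorem Q41992 : ∀ i, i < 41992 → P i := stepQ 41991 Q41991 (allL N41991 (tt N75228 D147226) (tt N21384 F232280) (tt N41621 F105227) (tt N62847 (iv3 F183890)) (tt N61353 (iv4 F318214)) (tt N22232 F105228) (tt N21304 (iv6 D69020)) (tt N75229 D147228))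
theorem Q41993 : ∀ i, i < 41993 → P i := stepQ 41992 Q41992 (allL N41992 (tt N62825 (iv1 F242773)) (tt N75230 D147230) (tt N21308 F105229) (tt N41966 F105230) (tt N74433 (iv4 F227886)) (tt N75231 D147231) (tt N21305 (iv6 D69021)) (tt N75232 D147232))
theorem Q41994 : ∀ i, i < 41994 → P i := stepQ 41993 Q41993 (allL N41993 (tt N21617 F105234) (tt N21617 F105235) (tt N21310 F105231) (tt N21323 F105232) (tt N52197 (iv4 F147998)) (tt N21306 (iv5 D69022)) (tt N75231 (iv6 F230816)) (tt N21310 F105233))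
theorem Q41995 : ∀ i, i < 41995 → P i := stepQ 41994 Q41994 (allL N41994 (tt N50077 (iv1 F330316)) (tt N47514 (iv0 F342078)) (tt N75233 D147235) (tt N21307 (iv3 D69023)) (tt N21314 F105236) (tt N75234 D147236) (tt N75235 D147237) (tt N74428 (iv7 F227875)))
theorem Q41996 : ∀ i, i < 41996 → P i := stepQ 41995 Q41995 (allL N41995 (tt N41396 F105237) (tt N41389 F105238) (tt N74432 (iv2 F227882)) (tt N75234 (iv3 F230825)) (tt N74429 (iv4 F227877)) (tt N21307 (iv5 D69024)) (tt N75236 D147238) (tt N74429 (iv7 F227876)))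
theorem Q41997 : ∀ i, i < 41997 → P i := stepQ 41996 Q41996 (allL N41996 (tt N75237 D147239) (tt N75238 D147240) (tt N74433 (iv2 F227885)) (tt N75235 (iv3 F230826)) (tt N21308 F105239) (tt N75239 D147241) (tt N21307 (iv6 D69025)) (tt N75240 D147242))
theorem Q41998 : ∀ i, i < 41998 → P i := stepQ 41997 Q41997 (allL N41997 (tt N75232 (iv1 F230822)) (tt N21308 (iv0 D69026)) (tt N62825 (iv2 F230844)) (tt N43087 F325810) (tt N62723 (iv4 F331610)) (tt N73806 (iv5 F356831)) (tt N64214 (iv6 F326633)) (tt N75230 (iv7 F242769)))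
theorem Q41999 : ∀ i, i < 41999 → P i := stepQ 41998 Q41998 (allL N41998 (tt N21308 (iv1 D69027)) (tt N75232 F230821) (tt N75230 (iv2 F242767)) (tt N62799 (iv3 F230843)) (tt N62724 (iv4 F230846)) (tt N73817 (iv5 F316977)) (tt N63759 (iv6 F232932)) (tt N62825 (iv7 F230845)))
theorem Q42000 : ∀ i, i < 42000 → P i := stepQ 41999 Q41999 (allL N41999 (tt N75241 D147253) (tt N63804 (iv0 F359662)) (tt N75231 (iv2 F230814)) (tt N21318 F105240) (tt N75242 D147255) (tt N21308 (iv5 D69028)) (tt N21310 F105241) (tt N75243 D147256))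
theorem Q42001 : ∀ i, i < 42001 → P i := stepQ 42000 Q42000 (allL N42000 (tt N75230 (iv1 F230813)) (tt N62825 (iv0 F242772)) (tt N75232 (iv2 F230817)) (tt N21319 F105242) (tt N75240 (iv4 F230836)) (tt N75243 (iv5 F230851)) (tt N32865 F317650) (tt N21308 (iv7 D69029)))
theorem Q42002 : ∀ i, i < 42002 → P i := stepQ 42001 Q42001 (allL N42001 (tt N42488 (iv1 F106285)) (tt N42488 (iv0 F106284)) (tt N23345 F105243) (tt N22004 F105244) (tt N21624 F105246) (tt N21309 (iv5 D69030)) (tt N75244 D147257) (tt N23345 F105245))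
theorem Q42003 : ∀ i, i < 42003 → P i := stepQ 42002 Q42002 (allL N42002 (tt N21619 F105248) (tt N21619 F105250) (tt N52197 (iv2 F147997)) (tt N23864 F105247) (tt N21310 (iv4 D69031)) (tt N27391 F105249) (tt N75242 (iv6 F230849)) (tt N52197 (iv7 F148000)))
theorem Q42004 : ∀ i, i < 42004 → P i := stepQ 42003 Q42003 (allL N42003 (tt N62734 F190206) (tt N51926 (iv0 F339501)) (tt N74812 (iv2 F229242)) (tt N59681 (iv3 F173486)) (tt N21312 F105251) (tt N27865 F340399) (tt N21311 (iv6 D69032)) (tt N29147 F319858))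
theorem Q42005 : ∀ i, i < 42005 → P i := stepQ 42004 Q42004 (allL N42004 (tt N75190 F230692) (tt N21312 (iv0 D69033)) (tt N75191 F230695) (tt N41873 F230693) (tt N75245 D147260) (tt N74696 (iv5 F335130)) (tt N75246 D147262) (tt N41923 F230694))
theorem Q42006 : ∀ i, i < 42006 → P i := stepQ 42005 Q42005 (allL N42005 (tt N21312 (iv1 D69034)) (tt N75190 F230690) (tt N41923 F228917) (tt N41854 (iv3 F228916)) (tt N52468 (iv4 F320367)) (tt N72686 (iv5 F315691)) (tt N43815 (iv6 F240549)) (tt N75191 (iv7 F230697)))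
theorem Q42007 : ∀ i, i < 42007 → P i := stepQ 42006 Q42006 (allL N42006 (tt N61755 (iv1 F332560)) (tt N42277 F313206) (tt N42026 (iv2 F105286)) (tt N41990 F105252) (tt N32577 (iv4 F105254)) (tt N21312 (iv5 D69035)) (tt N21313 F105253) (tt N75247 D147267))
theorem Q42008 : ∀ i, i < 42008 → P i := stepQ 42007 Q42007 (allL N42007 (tt N41923 F230367) (tt N75191 F230696) (tt N75190 (iv2 F230688)) (tt N41934 (iv3 F190187)) (tt N29147 (iv4 F317651)) (tt N75247 (iv5 F230881)) (tt N29145 F315414) (tt N21312 (iv7 D69036)))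
theorem Q42009 : ∀ i, i < 42009 → P i := stepQ 42008 Q42008 (allL N42008 (tt N59998 (iv1 F175180)) (tt N21314 (iv0 D69037)) (tt N75184 (iv2 F343349)) (tt N75248 D147269) (tt N49247 (iv4 F330310)) (tt N59993 (iv5 F330314)) (tt N49246 (iv6 F330312)) (tt N24869 F330308))
theorem Q42010 : ∀ i, i < 42010 → P i := stepQ 42009 Q42009 (allL N42009 (tt N21314 (iv1 D69038)) (tt N59998 F175179) (tt N24869 (iv2 F330298)) (tt N62510 F224519) (tt N73780 (iv4 F225735)) (tt N59992 (iv5 F226692)) (tt N24566 (iv6 F330303)) (tt N75184 (iv7 F343352)))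
theorem Q42011 : ∀ i, i < 42011 → P i := stepQ 42010 Q42010 (allL N42010 (tt N75184 (iv1 F230553)) (tt N24869 (iv0 F343353)) (tt N21314 (iv2 D69039)) (tt N31344 F105257) (tt N75233 (iv4 F230824)) (tt N32228 (iv5 F105258)) (tt N75249 D147275) (tt N59998 (iv7 F175178)))
theorem Q42012 : ∀ i, i < 42012 → P i := stepQ 42011 Q42011 (allL N42011 (tt N65837 F202630) (tt N48379 (iv0 F351029)) (tt N32228 F105259) (tt N21315 F105260) (tt N32267 (iv4 F105261)) (tt N21314 (iv5 D69040)) (tt N32247 (iv6 F105262)) (tt N65838 (iv7 F202634)))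
theorem Q42013 : ∀ i, i < 42013 → P i := stepQ 42012 Q42012 (allL N42012 (tt N75250 D147276) (tt N75251 D147277) (tt N75249 (iv2 F230887)) (tt N21316 F105263) (tt N75235 (iv4 F230827)) (tt N75252 D147278) (tt N21314 (iv6 D69041)) (tt N75253 D147279))
theorem Q42014 : ∀ i, i < 42014 → P i := stepQ 42013 Q42013 (allL N42013 (tt N65870 (iv1 F202693)) (tt N65869 F202687) (tt N32227 F105264) (tt N32247 F105265) (tt N39224 F105266) (tt N75254 D147280) (tt N21315 (iv6 D69042)) (tt N65871 (iv7 F202691)))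
theorem Q42015 : ∀ i, i < 42015 → P i := stepQ 42014 Q42014 (allL N42014 (tt N75166 (iv1 F230410)) (tt N21316 (iv0 D69043)) (tt N75224 (iv2 F230768)) (tt N30482 F339807) (tt N75255 D147282) (tt N30481 (iv5 F339808)) (tt N74837 (iv6 F354103)) (tt N75225 (iv7 F230770)))
theorem Q42016 : ∀ i, i < 42016 → P i := stepQ 42015 Q42015 (allL N42015 (tt N21316 (iv1 D69044)) (tt N75166 F230408) (tt N75225 F230771) (tt N75256 D147285) (tt N41705 F230409) (tt N75257 D147286) (tt N75258 D147287) (tt N75224 F230767))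
theorem Q42017 : ∀ i, i < 42017 → P i := stepQ 42016 Q42016 (allL N42016 (tt N38165 (iv1 F335865)) (tt N68059 (iv0 F335866)) (tt N68057 (iv2 F355447)) (tt N75252 (iv3 F230891)) (tt N75259 D147290) (tt N21316 (iv5 D69045)) (tt N75254 (iv6 F230896)) (tt N68058 (iv7 F355457)))
theorem Q42018 : ∀ i, i < 42018 → P i := stepQ 42017 Q42017 (allL N42017 (tt N75225 (iv1 F230769)) (tt N75224 F230766) (tt N75166 (iv2 F230404)) (tt N75253 (iv3 F230893)) (tt N21319 F105267) (tt N68058 (iv5 F355455)) (tt N74996 (iv6 F242984)) (tt N21316 (iv7 D69046)))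
theorem Q42019 : ∀ i, i < 42019 → P i := stepQ 42018 Q42018 (allL N42018 (tt N44890 F323951) (tt N75168 F230434) (tt N62838 F190209) (tt N75260 D147292) (tt N21317 (iv4 D69054)) (tt N48094 (iv5 F350202)) (tt N75261 D147294) (tt N75167 (iv7 F230424)))
theorem Q42020 : ∀ i, i < 42020 → P i := stepQ 42019 Q42019 (allL N42019 (tt N46644 F313101) (tt N62460 (iv0 F318652)) (tt N62461 (iv2 F317989)) (tt N62880 F190207) (tt N75262 D147295) (tt N21317 (iv5 D69055)) (tt N22319 (iv6 F105270)) (tt N62455 (iv7 F318658)))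
theorem Q42021 : ∀ i, i < 42021 → P i := stepQ 42020 Q42020 (allL N42020 (tt N22287 F109428) (tt N22291 F109429) (tt N22392 (iv2 F109427)) (tt N62881 F190155) (tt N75261 (iv4 F230913)) (tt N42162 (iv5 F105529)) (tt N21317 (iv6 D69056)) (tt N22391 (iv7 F109402)))
theorem Q42022 : ∀ i, i < 42022 → P i := stepQ 42021 Q42021 (allL N42021 (tt N21318 (iv1 D69058)) (tt N73980 (iv0 F315730)) (tt N62839 (iv2 F230416)) (tt N62882 F230417) (tt N75263 D147296) (tt N75172 (iv5 F307871)) (tt N75264 D147298) (tt N73977 (iv7 F315717)))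
theorem Q42023 : ∀ i, i < 42023 → P i := stepQ 42022 Q42022 (allL N42022 (tt N75265 D147299) (tt N75266 D147300) (tt N23199 F105271) (tt N23865 (iv3 F105273)) (tt N21318 (iv4 D69059)) (tt N56635 (iv5 F164505)) (tt N21322 F105272) (tt N75267 D147301))
theorem Q42024 : ∀ i, i < 42024 → P i := stepQ 42023 Q42023 (allL N42023 (tt N62839 F190444) (tt N73977 (iv0 F315713)) (tt N73980 (iv2 F315731)) (tt N75243 (iv3 F230850)) (tt N75267 (iv4 F230929)) (tt N21319 F105274) (tt N75268 D147302) (tt N21318 (iv7 D69060)))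
theorem Q42025 : ∀ i, i < 42025 → P i := stepQ 42024 Q42024 (allL N42024 (tt N32793 F105278) (tt N32740 F105279) (tt N23360 F105275) (tt N32849 F105280) (tt N21320 (iv4 D69061)) (tt N32574 F105276) (tt N75269 D147303) (tt N32841 F105277))
theorem Q42026 : ∀ i, i < 42026 → P i := stepQ 42025 Q42025 (allL N42025 (tt N46566 F313068) (tt N46565 F313069) (tt N23361 F105281) (tt N62886 (iv3 F184010)) (tt N75269 (iv4 F230946)) (tt N22225 F105282) (tt N21320 (iv6 D69062)) (tt N46642 F313070))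
theorem Q42027 : ∀ i, i < 42027 → P i := stepQ 42026 Q42026 (allL N42026 (tt N43675 F109393) (tt N75157 F230375) (tt N42006 F105286) (tt N75231 (iv3 F230815)) (tt N60978 (iv4 F177504)) (tt N41966 F105287) (tt N21323 (iv6 D69064)) (tt N75268 (iv7 F230941)))
theorem Q42028 : ∀ i, i < 42028 → P i := stepQ 42027 Q42027 (allL N42027 (tt N61382 (iv1 F316465)) (tt N61300 (iv0 F315235)) (tt N63461 (iv2 F314857)) (tt N21326 F105292) (tt N63415 (iv4 F315233)) (tt N40907 (iv5 F340738)) (tt N21324 (iv6 D69066)) (tt N63413 (iv7 F310543)))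
theorem Q42029 : ∀ i, i < 42029 → P i := stepQ 42028 Q42028 (allL N42028 (tt N21328 (iv1 F105294)) (tt N21325 (iv0 D69067)) (tt N21341 (iv2 F105295)) (tt N43268 F321012) (tt N36289 F105293) (tt N65841 (iv5 F202647)) (tt N75270 D147317) (tt N21342 (iv7 F105296)))
theorem Q42030 : ∀ i, i < 42030 → P i := stepQ 42029 Q42029 (allL N42029 (tt N21325 (iv1 D69068)) (tt N21328 F105297) (tt N21342 (iv2 F105300)) (tt N45439 F347976) (tt N33493 F105299) (tt N65840 (iv5 F202641)) (tt N75271 D147319) (tt N21341 F105298))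
theorem Q42031 : ∀ i, i < 42031 → P i := stepQ 42030 Q42030 (allL N42030 (tt N75272 D147320) (tt N75273 D147321) (tt N58876 (iv2 F171211)) (tt N21325 (iv3 D69069)) (tt N63402 (iv4 F313051)) (tt N58875 F171210) (tt N75274 D147322) (tt N21351 F105301))
theorem Q42032 : ∀ i, i < 42032 → P i := stepQ 42031 Q42031 (allL N42031 (tt N41977 F105304) (tt N41974 F105305) (tt N21344 F105302) (tt N58875 (iv3 F171207)) (tt N27849 F318872) (tt N21325 (iv5 D69070)) (tt N29255 (iv6 F320991)) (tt N21352 F105303))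
theorem Q42033 : ∀ i, i < 42033 → P i := stepQ 42032 Q42032 (allL N42032 (tt N75275 D147324) (tt N75276 D147325) (tt N21345 F105306) (tt N75274 (iv3 F230994)) (tt N21326 F105307) (tt N75277 D147326) (tt N21325 (iv6 D69071)) (tt N75278 D147327))
theorem Q42034 : ∀ i, i < 42034 → P i := stepQ 42033 Q42033 (allL N42033 (tt N21326 (iv1 D69073)) (tt N21349 F105308) (tt N21347 (iv2 F241107)) (tt N62892 (iv3 F242922)) (tt N75279 D147334) (tt N75280 D147335) (tt N75281 D147336) (tt N21346 (iv7 F241113)))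
theorem Q42035 : ∀ i, i < 42035 → P i := stepQ 42034 Q42034 (allL N42034 (tt N33383 F320111) (tt N33378 F320112) (tt N21348 F105309) (tt N40907 F340740) (tt N75282 D147338) (tt N21326 (iv5 D69074)) (tt N21897 F105310) (tt N33381 F321220))
theorem Q42036 : ∀ i, i < 42036 → P i := stepQ 42035 Q42035 (allL N42035 (tt N21347 (iv1 F105314)) (tt N21346 F105315) (tt N21349 F105311) (tt N63413 (iv3 F310542)) (tt N75278 (iv4 F230999)) (tt N33381 F321222) (tt N21356 F105312) (tt N21326 (iv7 D69075)))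
theorem Q42037 : ∀ i, i < 42037 → P i := stepQ 42036 Q42036 (allL N42036 (tt N45435 (iv1 F307675)) (tt N43248 (iv0 F307679)) (tt N21353 F105319) (tt N27486 (iv3 F307684)) (tt N21329 F105320) (tt N45431 F305670) (tt N21328 (iv6 D69077)) (tt N46889 (iv7 F307688)))
theorem Q42038 : ∀ i, i < 42038 → P i := stepQ 42037 Q42037 (allL N42037 (tt N25058 F314972) (tt N48346 F314973) (tt N41851 (iv2 F312513)) (tt N21330 (iv3 D69081)) (tt N22882 (iv4 F312520)) (tt N25047 (iv5 F317184)) (tt N22881 (iv6 F312523)) (tt N21361 F105327))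
theorem Q42039 : ∀ i, i < 42039 → P i := stepQ 42038 Q42038 (allL N42038 (tt N41819 F105330) (tt N41968 F105331) (tt N21359 F105328) (tt N25047 F319433) (tt N27650 (iv4 F321797)) (tt N21330 (iv5 D69082)) (tt N25045 F319435) (tt N21363 F105329))
theorem Q42040 : ∀ i, i < 42040 → P i := stepQ 42039 Q42039 (allL N42039 (tt N63009 (iv1 F243370)) (tt N75279 (iv0 F243367)) (tt N21360 F105332) (tt N22881 F314302) (tt N56061 (iv4 F162465)) (tt N33626 (iv5 F316681)) (tt N21330 (iv6 D69083)) (tt N42403 F314303))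
theorem Q42041 : ∀ i, i < 42041 → P i := stepQ 42040 Q42040 (allL N42040 (tt N65954 F202963) (tt N75283 D147355) (tt N66939 (iv2 F311875)) (tt N21331 (iv3 D69084)) (tt N43660 (iv4 F311879)) (tt N60475 F176498) (tt N36440 F309695) (tt N21357 F105333))
theorem Q42042 : ∀ i, i < 42042 → P i := stepQ 42041 Q42041 (allL N42041 (tt N41968 F105336) (tt N41819 F105337) (tt N21363 F105334) (tt N60475 F176497) (tt N51658 (iv4 F318910)) (tt N21331 (iv5 D69085)) (tt N75284 D147358) (tt N21359 F105335))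
theorem Q42043 : ∀ i, i < 42043 → P i := stepQ 42042 Q42042 (allL N42042 (tt N75165 F305672) (tt N62887 F305673) (tt N21364 F105338) (tt N36440 (iv3 F307690)) (tt N68412 F210320) (tt N36439 F305674) (tt N21331 (iv6 D69086)) (tt N66936 F305675))
theorem Q42044 : ∀ i, i < 42044 → P i := stepQ 42043 Q42043 (allL N42043 (tt N62534 (iv1 F182021)) (tt N21332 (iv0 D69087)) (tt N75174 (iv2 F343338)) (tt N75285 D147362) (tt N75286 D147363) (tt N75287 D147364) (tt N75288 D147365) (tt N75173 (iv7 F343337)))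
theorem Q42045 : ∀ i, i < 42045 → P i := stepQ 42044 Q42044 (allL N42044 (tt N21332 (iv1 D69088)) (tt N62534 F182020) (tt N75173 (iv2 F343334)) (tt N75289 D147367) (tt N75290 D147368) (tt N75291 D147369) (tt N75292 D147370) (tt N75174 (iv7 F343339)))
theorem Q42046 : ∀ i, i < 42046 → P i := stepQ 42045 Q42045 (allL N42045 (tt N75174 (iv1 F230528)) (tt N75173 F230527) (tt N21332 (iv2 D69089)) (tt N21367 F105339) (tt N62903 (iv4 F184081)) (tt N75293 D147371) (tt N75294 D147372) (tt N62534 (iv7 F182019)))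
theorem Q42047 : ∀ i, i < 42047 → P i := stepQ 42046 Q42046 (allL N42046 (tt N68532 (iv1 F352285)) (tt N75295 D147374) (tt N75293 (iv2 F231087)) (tt N21333 F105340) (tt N75296 D147375) (tt N21332 (iv5 D69090)) (tt N75297 D147376) (tt N66701 (iv7 F205187)))
theorem Q42048 : ∀ i, i < 42048 → P i := stepQ 42047 Q42047 (allL N42047 (tt N75298 D147377) (tt N75299 D147378) (tt N75294 (iv2 F231089)) (tt N21334 F105341) (tt N62904 (iv4 F184086)) (tt N75300 D147379) (tt N21332 (iv6 D69091)) (tt N75301 D147380))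
theorem Q42049 : ∀ i, i < 42049 → P i := stepQ 42048 Q42048 (allL N42048 (tt N21374 (iv1 F105343)) (tt N21333 (iv0 D69092)) (tt N21370 (iv2 F105345)) (tt N31948 (iv3 F105344)) (tt N58641 (iv4 F169882)) (tt N41319 F105342) (tt N68537 (iv6 F323067)) (tt N21371 (iv7 F105346)))
theorem Q42050 : ∀ i, i < 42050 → P i := stepQ 42049 Q42049 (allL N42049 (tt N21333 (iv1 D69093)) (tt N21374 F105389) (tt N21371 (iv2 F105392)) (tt N65953 F202960) (tt N66640 (iv4 F204808)) (tt N41318 F105391) (tt N75302 D147382) (tt N21370 F105390))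
theorem Q42051 : ∀ i, i < 42051 → P i := stepQ 42050 Q42050 (allL N42050 (tt N24984 F333961) (tt N45752 (iv0 F333962)) (tt N21373 F105393) (tt N75297 (iv3 F231094)) (tt N66705 (iv4 F205192)) (tt N75303 D147385) (tt N21333 (iv6 D69094)) (tt N45489 (iv7 F334019)))
theorem Q42052 : ∀ i, i < 42052 → P i := stepQ 42051 Q42051 (allL N42051 (tt N21378 (iv1 F105398)) (tt N21334 (iv0 D69095)) (tt N21375 (iv2 F233773)) (tt N75304 D147388) (tt N56073 (iv4 F162526)) (tt N75305 D147389) (tt N75306 D147390) (tt N21376 (iv7 F233779)))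
theorem Q42053 : ∀ i, i < 42053 → P i := stepQ 42052 Q42052 (allL N42052 (tt N21334 (iv1 D69096)) (tt N21378 F105394) (tt N21376 F233780) (tt N75307 D147392) (tt N75308 D147393) (tt N75309 D147394) (tt N75310 D147395) (tt N21375 F233781))
theorem Q42054 : ∀ i, i < 42054 → P i := stepQ 42053 Q42053 (allL N42053 (tt N75311 D147396) (tt N75312 D147397) (tt N21377 F105395) (tt N75300 (iv3 F231095)) (tt N75313 D147398) (tt N21334 (iv5 D69097)) (tt N75303 (iv6 F231102)) (tt N75314 D147399))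
theorem Q42055 : ∀ i, i < 42055 → P i := stepQ 42054 Q42054 (allL N42054 (tt N21376 (iv1 F105399)) (tt N21375 F105400) (tt N21378 F105396) (tt N75301 (iv3 F231096)) (tt N21337 F105397) (tt N75314 (iv5 F231116)) (tt N75177 (iv6 F230534)) (tt N21334 (iv7 D69098)))
theorem Q42056 : ∀ i, i < 42056 → P i := stepQ 42055 Q42055 (allL N42055 (tt N75229 F232283) (tt N41621 F232284) (tt N75228 (iv2 F232253)) (tt N21335 (iv3 D69100)) (tt N75315 D147403) (tt N75316 D147404) (tt N75317 D147405) (tt N21384 F192051))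
theorem Q42057 : ∀ i, i < 42057 → P i := stepQ 42056 Q42056 (allL N42056 (tt N75318 D147406) (tt N75271 F230985) (tt N21381 F192052) (tt N47558 (iv3 F334065)) (tt N21335 (iv4 D69101)) (tt N75319 D147408) (tt N47556 F334062) (tt N21385 F192053))
theorem Q42058 : ∀ i, i < 42058 → P i := stepQ 42057 Q42057 (allL N42057 (tt N43833 (iv1 F109782)) (tt N22265 (iv0 F109207)) (tt N21382 F192048) (tt N75316 (iv3 F231131)) (tt N55339 (iv4 F307368)) (tt N21335 (iv5 D69102)) (tt N48429 F306271) (tt N21386 F192049))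
theorem Q42059 : ∀ i, i < 42059 → P i := stepQ 42058 Q42058 (allL N42058 (tt N63019 F190808) (tt N75320 D147411) (tt N21383 F192054) (tt N75317 (iv3 F231134)) (tt N47556 F334061) (tt N43412 F108783) (tt N21335 (iv6 D69103)) (tt N75321 D147412))
theorem Q42060 : ∀ i, i < 42060 → P i := stepQ 42059 Q42059 (allL N42059 (tt N41959 (iv1 F192079)) (tt N74845 F229483) (tt N74844 F229472) (tt N21336 (iv3 D69105)) (tt N36338 F105403) (tt N63999 (iv5 F192125)) (tt N75002 (iv6 F243017)) (tt N21380 F192058))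
theorem Q42061 : ∀ i, i < 42061 → P i := stepQ 42060 Q42060 (allL N42060 (tt N75271 F230984) (tt N75318 F231137) (tt N21385 F192059) (tt N65843 (iv3 F342266)) (tt N21336 (iv4 D69106)) (tt N75322 D147414) (tt N75323 D147415) (tt N21381 F192060))
theorem Q42062 : ∀ i, i < 42062 → P i := stepQ 42061 Q42061 (allL N42061 (tt N75188 F230591) (tt N63011 (iv0 F242935)) (tt N21387 F192063) (tt N75002 (iv3 F243014)) (tt N75323 (iv4 F231164)) (tt N52007 (iv5 F312759)) (tt N21336 (iv6 D69107)) (tt N75324 D147416))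
theorem Q42063 : ∀ i, i < 42063 → P i := stepQ 42062 Q42062 (allL N42062 (tt N51723 (iv1 F337314)) (tt N51720 (iv0 F337294)) (tt N21340 F105404) (tt N63461 (iv3 F314858)) (tt N27495 (iv4 F314855)) (tt N22417 F105406) (tt N21338 (iv6 D69108)) (tt N24234 F312418))
theorem Q42064 : ∀ i, i < 42064 → P i := stepQ 42063 Q42063 (allL N42063 (tt N24234 F312417) (tt N21340 (iv0 D69110)) (tt N51723 (iv2 F337315)) (tt N62994 (iv3 F243076)) (tt N27614 F321661) (tt N75325 D147425) (tt N74998 (iv6 F243004)) (tt N51720 (iv7 F337299)))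
theorem Q42065 : ∀ i, i < 42065 → P i := stepQ 42064 Q42064 (allL N42064 (tt N21340 (iv1 D69111)) (tt N24234 F312416) (tt N51720 (iv2 F337296)) (tt N44593 (iv3 F243077)) (tt N27613 (iv4 F337320)) (tt N48065 (iv5 F243054)) (tt N75326 D147429) (tt N51723 F337319))
theorem Q42066 : ∀ i, i < 42066 → P i := stepQ 42065 Q42065 (allL N42065 (tt N75327 D147430) (tt N63786 F231205) (tt N22417 F105409) (tt N21348 F105410) (tt N75328 D147431) (tt N21340 (iv5 D69112)) (tt N21394 F105411) (tt N52355 (iv7 F308553)))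
theorem Q42067 : ∀ i, i < 42067 → P i := stepQ 42066 Q42066 (allL N42066 (tt N45422 F353593) (tt N45442 (iv0 F353594)) (tt N45440 (iv2 F347979)) (tt N21341 (iv3 D69114)) (tt N41601 F105413) (tt N75213 (iv5 F230754)) (tt N75329 D147436) (tt N45439 F347978))
theorem Q42068 : ∀ i, i < 42068 → P i := stepQ 42067 Q42067 (allL N42067 (tt N75178 (iv1 F241182)) (tt N75180 (iv0 F237421)) (tt N75270 (iv2 F230978)) (tt N75329 (iv3 F231224)) (tt N41600 F105414) (tt N75330 D147439) (tt N21341 (iv6 D69115)) (tt N75331 D147440))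
theorem Q42069 : ∀ i, i < 42069 → P i := stepQ 42068 Q42068 (allL N42068 (tt N62538 F182065) (tt N61366 (iv0 F334756)) (tt N43265 (iv2 F321179)) (tt N21342 (iv3 D69116)) (tt N43198 F319129) (tt N75215 (iv5 F230756)) (tt N75332 D147443) (tt N43268 F319130))
theorem Q42070 : ∀ i, i < 42070 → P i := stepQ 42069 Q42069 (allL N42069 (tt N21381 F230629) (tt N21385 F230630) (tt N75271 (iv2 F230982)) (tt N75332 (iv3 F231229)) (tt N49042 F310860) (tt N75333 D147444) (tt N21342 (iv6 D69117)) (tt N75318 (iv7 F231138)))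
theorem Q42071 : ∀ i, i < 42071 → P i := stepQ 42070 Q42070 (allL N42070 (tt N62600 (iv1 F347961)) (tt N74756 (iv0 F361639)) (tt N58878 (iv2 F171217)) (tt N21345 F105415) (tt N52560 (iv4 F316665)) (tt N42413 (iv5 F347909)) (tt N21343 (iv6 D69118)) (tt N52556 (iv7 F347937)))
theorem Q42072 : ∀ i, i < 42072 → P i := stepQ 42071 Q42071 (allL N42071 (tt N21352 (iv1 F105417)) (tt N21344 (iv0 D69119)) (tt N41977 (iv2 F105418)) (tt N75334 D147449) (tt N52270 (iv4 F320057)) (tt N41589 F105416) (tt N75335 D147450) (tt N41974 (iv7 F105419)))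
theorem Q42073 : ∀ i, i < 42073 → P i := stepQ 42072 Q42072 (allL N42072 (tt N21344 (iv1 D69120)) (tt N21352 F105420) (tt N41974 (iv2 F105423)) (tt N75336 D147451) (tt N52271 (iv4 F320060)) (tt N41952 F105422) (tt N75337 D147452) (tt N41977 F105421))
theorem Q42074 : ∀ i, i < 42074 → P i := stepQ 42073 Q42073 (allL N42073 (tt N75278 (iv1 F231003)) (tt N21345 (iv0 D69122)) (tt N75275 (iv2 F243357)) (tt N75338 D147458) (tt N75339 D147459) (tt N75340 D147460) (tt N75341 D147461) (tt N75276 (iv7 F243351)))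
theorem Q42075 : ∀ i, i < 42075 → P i := stepQ 42074 Q42074 (allL N42074 (tt N21345 (iv1 D69123)) (tt N75278 F231002) (tt N75276 (iv2 F243350)) (tt N73700 (iv3 F350778)) (tt N75342 D147464) (tt N73956 (iv5 F350776)) (tt N75343 D147466) (tt N75275 (iv7 F243359)))
theorem Q42076 : ∀ i, i < 42076 → P i := stepQ 42075 Q42075 (allL N42075 (tt N75344 D147467) (tt N66997 (iv0 F354104)) (tt N75277 (iv2 F230997)) (tt N42413 F347910) (tt N49633 (iv4 F357251)) (tt N21345 (iv5 D69124)) (tt N49632 (iv6 F321396)) (tt N75345 D147470))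
theorem Q42077 : ∀ i, i < 42077 → P i := stepQ 42076 Q42076 (allL N42076 (tt N75276 (iv1 F230996)) (tt N75275 F231001) (tt N75278 (iv2 F230998)) (tt N52556 (iv3 F347936)) (tt N21349 F105425) (tt N75345 (iv5 F231254)) (tt N46889 F309694) (tt N21345 (iv7 D69125)))
theorem Q42078 : ∀ i, i < 42078 → P i := stepQ 42077 Q42077 (allL N42077 (tt N42403 F314300) (tt N21360 F242682) (tt N63009 (iv2 F242926)) (tt N75346 D147486) (tt N21346 (iv4 D69128)) (tt N75347 D147487) (tt N75348 D147488) (tt N75279 (iv7 F241110)))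
theorem Q42079 : ∀ i, i < 42079 → P i := stepQ 42078 Q42078 (allL N42078 (tt N57656 (iv1 F311292)) (tt N41557 F322226) (tt N63010 (iv2 F242931)) (tt N48046 (iv3 F242938)) (tt N75349 D147492) (tt N21346 (iv5 D69129)) (tt N41547 F324916) (tt N75280 (iv7 F241112)))
theorem Q42080 : ∀ i, i < 42080 → P i := stepQ 42079 Q42079 (allL N42079 (tt N21387 F231171) (tt N75324 F231172) (tt N63011 (iv2 F242937)) (tt N62769 (iv3 F242939)) (tt N75348 (iv4 F231270)) (tt N41964 F105427) (tt N21346 (iv6 D69130)) (tt N75188 (iv7 F241128)))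
theorem Q42081 : ∀ i, i < 42081 → P i := stepQ 42080 Q42080 (allL N42080 (tt N21360 F242683) (tt N42403 F314299) (tt N75279 (iv2 F241109)) (tt N62481 (iv3 F316674)) (tt N21347 (iv4 D69133)) (tt N75350 D147504) (tt N75351 D147505) (tt N63009 (iv7 F242927)))
theorem Q42082 : ∀ i, i < 42082 → P i := stepQ 42081 Q42081 (allL N42081 (tt N41557 F322227) (tt N57656 (iv0 F311291)) (tt N75280 (iv2 F241111)) (tt N21410 (iv3 F242923)) (tt N75352 D147506) (tt N21347 (iv5 D69134)) (tt N43405 (iv6 F242928)) (tt N63010 (iv7 F242932)))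
theorem Q42083 : ∀ i, i < 42083 → P i := stepQ 42082 Q42082 (allL N42082 (tt N69412 F231278) (tt N69414 (iv0 F241176)) (tt N75281 (iv2 F241106)) (tt N21411 (iv3 F242924)) (tt N75351 (iv4 F231290)) (tt N25472 F308535) (tt N21347 (iv6 D69135)) (tt N46522 (iv7 F310122)))
theorem Q42084 : ∀ i, i < 42084 → P i := stepQ 42083 Q42083 (allL N42083 (tt N33381 F320113) (tt N21348 (iv0 D69136)) (tt N33383 F320114) (tt N40789 F320115) (tt N75353 D147510) (tt N43831 (iv5 F109730)) (tt N22264 F105429) (tt N33378 F320116))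
theorem Q42085 : ∀ i, i < 42085 → P i := stepQ 42084 Q42084 (allL N42084 (tt N75354 D147513) (tt N75355 D147514) (tt N75282 (iv2 F231013)) (tt N75356 D147515) (tt N21348 (iv4 D69138)) (tt N75357 D147516) (tt N36629 F105431) (tt N75358 D147517))
theorem Q42086 : ∀ i, i < 42086 → P i := stepQ 42085 Q42085 (allL N42085 (tt N33378 F320109) (tt N33383 F320110) (tt N33381 F321221) (tt N52355 (iv3 F308552)) (tt N75358 (iv4 F231302)) (tt N21349 F105432) (tt N52354 (iv6 F308542)) (tt N21348 (iv7 D69139)))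
theorem Q42087 : ∀ i, i < 42087 → P i := stepQ 42086 Q42086 (allL N42086 (tt N58876 (iv1 F171215)) (tt N21351 (iv0 D69149)) (tt N75273 (iv2 F230992)) (tt N75359 D147548) (tt N55783 (iv4 F347787)) (tt N65837 (iv5 F351027)) (tt N75360 D147551) (tt N75272 F230993))
theorem Q42088 : ∀ i, i < 42088 → P i := stepQ 42087 Q42087 (allL N42087 (tt N21351 (iv1 D69150)) (tt N58876 F171214) (tt N75272 F230991) (tt N48386 F330662) (tt N55784 (iv4 F347783)) (tt N48379 (iv5 F330672)) (tt N75361 D147553) (tt N75273 (iv7 F230990)))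
theorem Q42089 : ∀ i, i < 42089 → P i := stepQ 42088 Q42088 (allL N42088 (tt N75273 (iv1 F230988)) (tt N75272 F230987) (tt N21351 (iv2 D69151)) (tt N32007 F105445) (tt N63399 (iv4 F313050)) (tt N32006 (iv5 F105446)) (tt N61278 (iv6 F308680)) (tt N58876 (iv7 F171213)))
theorem Q42090 : ∀ i, i < 42090 → P i := stepQ 42089 Q42089 (allL N42089 (tt N47592 F355838) (tt N58874 F171206) (tt N32006 F105447) (tt N21352 F105448) (tt N75362 D147555) (tt N21351 (iv5 D69152)) (tt N75363 D147556) (tt N58875 (iv7 F171208)))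
theorem Q42091 : ∀ i, i < 42091 → P i := stepQ 42090 Q42090 (allL N42090 (tt N75364 D147561) (tt N75365 D147562) (tt N58880 (iv2 F171219)) (tt N75363 (iv3 F231347)) (tt N66690 (iv4 F205071)) (tt N46888 F306845) (tt N21352 (iv6 D69154)) (tt N75366 D147564))
theorem Q42092 : ∀ i, i < 42092 → P i := stepQ 42091 Q42091 (allL N42091 (tt N46889 (iv1 F307686)) (tt N21353 (iv0 D69155)) (tt N45435 (iv2 F307676)) (tt N23841 (iv3 F308682)) (tt N75367 D147566) (tt N45648 (iv5 F308683)) (tt N57399 (iv6 F327107)) (tt N43248 (iv7 F307683)))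
theorem Q42093 : ∀ i, i < 42093 → P i := stepQ 42092 Q42092 (allL N42092 (tt N21353 (iv1 D69156)) (tt N46889 (iv0 F307685)) (tt N43248 (iv2 F307681)) (tt N24139 (iv3 F308686)) (tt N41615 (iv4 F228950)) (tt N24568 F306844) (tt N75368 D147571) (tt N45435 (iv7 F307678)))
theorem Q42094 : ∀ i, i < 42094 → P i := stepQ 42093 Q42093 (allL N42093 (tt N43248 (iv1 F307680)) (tt N45435 (iv0 F307674)) (tt N46889 (iv2 F307687)) (tt N61279 (iv3 F307689)) (tt N21356 F105450) (tt N45430 F305671) (tt N75278 (iv6 F231000)) (tt N21353 (iv7 D69158)))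
theorem Q42095 : ∀ i, i < 42095 → P i := stepQ 42094 Q42094 (allL N42094 (tt N21364 F191047) (tt N66936 (iv0 F305623)) (tt N62887 (iv2 F305627)) (tt N75369 D147580) (tt N21354 (iv4 D69166)) (tt N66932 (iv5 F302486)) (tt N75370 D147582) (tt N75165 (iv7 F305625)))
theorem Q42096 : ∀ i, i < 42096 → P i := stepQ 42095 Q42095 (allL N42095 (tt N75321 (iv1 F231156)) (tt N21383 F185299) (tt N63019 F190458) (tt N44875 (iv3 F190459)) (tt N75370 (iv4 F231369)) (tt N48050 (iv5 F200250)) (tt N21354 (iv6 D69168)) (tt N75320 (iv7 F231148)))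
theorem Q42097 : ∀ i, i < 42097 → P i := stepQ 42096 Q42096 (allL N42096 (tt N43441 F185295) (tt N43442 F185296) (tt N24247 F306673) (tt N48427 (iv3 F307418)) (tt N21355 (iv4 D69171)) (tt N52788 F306674) (tt N37496 F105455) (tt N48425 F306675))
theorem Q42098 : ∀ i, i < 42098 → P i := stepQ 42097 Q42097 (allL N42097 (tt N66939 (iv1 F311874)) (tt N21357 (iv0 D69173)) (tt N75283 F231069) (tt N32329 F105458) (tt N55590 (iv4 F356630)) (tt N32328 F105457) (tt N55589 (iv6 F350801)) (tt N65954 (iv7 F202962)))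
theorem Q42099 : ∀ i, i < 42099 → P i := stepQ 42098 Q42098 (allL N42098 (tt N21357 (iv1 D69174)) (tt N66939 (iv0 F311873)) (tt N65954 (iv2 F231072)) (tt N75371 D147592) (tt N75372 D147593) (tt N65950 (iv5 F231073)) (tt N75373 D147594) (tt N75283 F231071))
theorem Q42100 : ∀ i, i < 42100 → P i := stepQ 42099 Q42099 (allL N42099 (tt N75283 (iv1 F231068)) (tt N65954 F202964) (tt N21357 (iv2 D69175)) (tt N41851 F314977) (tt N75374 D147595) (tt N46248 (iv5 F318601)) (tt N41849 (iv6 F317197)) (tt N66939 (iv7 F311878)))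
theorem Q42101 : ∀ i, i < 42101 → P i := stepQ 42100 Q42100 (allL N42100 (tt N72809 F223260) (tt N75375 D147597) (tt N75374 (iv2 F231384)) (tt N62737 F183420) (tt N21357 (iv4 D69176)) (tt N75376 D147598) (tt N75377 D147599) (tt N43660 F314298))
theorem Q42102 : ∀ i, i < 42102 → P i := stepQ 42101 Q42101 (allL N42101 (tt N55617 (iv1 F176499)) (tt N60476 F176503) (tt N46248 F320722) (tt N21359 F105459) (tt N60760 (iv4 F176842)) (tt N21357 (iv5 D69177)) (tt N46247 (iv6 F322486)) (tt N60475 (iv7 F176495)))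
theorem Q42103 : ∀ i, i < 42103 → P i := stepQ 42102 Q42102 (allL N42102 (tt N75347 (iv1 F350788)) (tt N75350 (iv0 F350728)) (tt N41849 (iv2 F317196)) (tt N21360 F105460) (tt N75377 (iv4 F231388)) (tt N41848 (iv5 F319427)) (tt N21357 (iv6 D69178)) (tt N66937 F317174))
theorem Q42104 : ∀ i, i < 42104 → P i := stepQ 42103 Q42103 (allL N42103 (tt N75378 D147605) (tt N62604 (iv0 F243344)) (tt N56061 (iv2 F162463)) (tt N74420 (iv3 F227865)) (tt N21360 F105461) (tt N66734 (iv5 F205285)) (tt N21358 (iv6 D69179)) (tt N75379 D147607))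
theorem Q42105 : ∀ i, i < 42105 → P i := stepQ 42104 Q42104 (allL N42104 (tt N21363 (iv1 F105465)) (tt N21359 (iv0 D69180)) (tt N41819 (iv2 F105464)) (tt N75380 D147608) (tt N41657 F105463) (tt N41817 F105462) (tt N45812 F334283) (tt N41968 F105466))
theorem Q42106 : ∀ i, i < 42106 → P i := stepQ 42105 Q42105 (allL N42105 (tt N75018 (iv1 F350771)) (tt N75016 (iv0 F321141)) (tt N33626 F319041) (tt N41848 (iv3 F319426)) (tt N75381 D147626) (tt N21360 (iv5 D69184)) (tt N49634 (iv6 F322750)) (tt N75382 D147627))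
theorem Q42107 : ∀ i, i < 42107 → P i := stepQ 42106 Q42106 (allL N42106 (tt N75279 (iv1 F243368)) (tt N63009 (iv0 F243369)) (tt N42403 F314301) (tt N66937 (iv3 F314966)) (tt N75379 (iv4 F231392)) (tt N75382 (iv5 F231401)) (tt N66936 (iv6 F305624)) (tt N21360 (iv7 D69185)))
theorem Q42108 : ∀ i, i < 42108 → P i := stepQ 42107 Q42107 (allL N42107 (tt N41851 (iv1 F312512)) (tt N21361 (iv0 D69186)) (tt N48346 (iv2 F312508)) (tt N75383 D147628) (tt N44605 (iv4 F312522)) (tt N24995 (iv5 F313888)) (tt N75384 D147630) (tt N25058 (iv7 F312509)))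
theorem Q42109 : ∀ i, i < 42109 → P i := stepQ 42108 Q42108 (allL N42108 (tt N48346 F314974) (tt N25058 F314975) (tt N21361 (iv2 D69188)) (tt N66939 (iv3 F311876)) (tt N42399 (iv4 F312511)) (tt N31354 (iv5 F171349)) (tt N66938 F310236) (tt N41851 (iv7 F312514)))
theorem Q42110 : ∀ i, i < 42110 → P i := stepQ 42109 Q42109 (allL N42109 (tt N42398 (iv1 F312515)) (tt N41834 (iv0 F312516)) (tt N42399 (iv2 F312510)) (tt N56055 (iv3 F162442)) (tt N21361 (iv4 D69189)) (tt N34380 (iv5 F312519)) (tt N42406 F310237) (tt N22882 (iv7 F312521)))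
theorem Q42111 : ∀ i, i < 42111 → P i := stepQ 42110 Q42110 (allL N42110 (tt N69679 (iv1 F308225)) (tt N45411 (iv0 F308226)) (tt N66938 (iv2 F308227)) (tt N21364 F105483) (tt N42406 (iv4 F308228)) (tt N28140 F306846) (tt N21361 (iv6 D69190)) (tt N42404 (iv7 F307691)))
theorem Q42112 : ∀ i, i < 42112 → P i := stepQ 42111 Q42111 (allL N42111 (tt N74750 (iv1 F231358)) (tt N74763 F228964) (tt N68412 (iv2 F210317)) (tt N27851 (iv3 F307265)) (tt N21364 F105484) (tt N38335 F105485) (tt N21362 (iv6 D69191)) (tt N51993 (iv7 F307297)))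
theorem Q42113 : ∀ i, i < 42113 → P i := stepQ 42112 Q42112 (allL N42112 (tt N75385 D147643) (tt N75386 D147644) (tt N75284 (iv2 F231079)) (tt N34614 F320728) (tt N66685 (iv4 F205013)) (tt N69302 (iv5 F336537)) (tt N21363 (iv6 D69192)) (tt N46254 (iv7 F322491)))
theorem Q42114 : ∀ i, i < 42114 → P i := stepQ 42113 Q42113 (allL N42113 (tt N46810 F302477) (tt N75387 D147648) (tt N36439 (iv2 F303571)) (tt N28140 (iv3 F304913)) (tt N34204 (iv4 F303595)) (tt N21364 (iv5 D69195)) (tt N69302 (iv6 F336538)) (tt N47331 (iv7 F303572)))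
theorem Q42115 : ∀ i, i < 42115 → P i := stepQ 42114 Q42114 (allL N42114 (tt N62887 F305676) (tt N75165 F305677) (tt N66936 F305678) (tt N42404 F309696) (tt N51993 (iv4 F307296)) (tt N47331 F305679) (tt N42403 (iv6 F311880)) (tt N21364 (iv7 D69196)))
theorem Q42116 : ∀ i, i < 42116 → P i := stepQ 42115 Q42115 (allL N42115 (tt N48344 F319462) (tt N75388 D147651) (tt N59989 (iv2 F175132)) (tt N21365 (iv3 D69197)) (tt N74753 F228898) (tt N59988 F175131) (tt N74753 (iv6 F346416)) (tt N62541 (iv7 F182081)))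
theorem Q42117 : ∀ i, i < 42117 → P i := stepQ 42116 Q42116 (allL N42116 (tt N72807 (iv1 F223256)) (tt N62315 (iv0 F181674)) (tt N36358 F105486) (tt N73098 (iv3 F223802)) (tt N21365 (iv4 D69198)) (tt N62300 F180634) (tt N73098 (iv6 F323314)) (tt N62542 (iv7 F182084)))
theorem Q42118 : ∀ i, i < 42118 → P i := stepQ 42117 Q42117 (allL N42117 (tt N59981 (iv1 F175078)) (tt N59980 F175071) (tt N31325 F105487) (tt N59988 (iv3 F175126)) (tt N58435 (iv4 F169338)) (tt N21365 (iv5 D69199)) (tt N75389 D147654) (tt N59982 (iv7 F175076)))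
theorem Q42119 : ∀ i, i < 42119 → P i := stepQ 42118 Q42118 (allL N42118 (tt N62476 (iv1 F346417)) (tt N62481 (iv0 F346408)) (tt N62544 (iv2 F182087)) (tt N74753 (iv3 F346415)) (tt N73098 (iv4 F323313)) (tt N75390 D147657) (tt N21365 (iv6 D69200)) (tt N73636 (iv7 F346414)))
theorem Q42120 : ∀ i, i < 42120 → P i := stepQ 42119 Q42119 (allL N42119 (tt N62315 (iv1 F181675)) (tt N72807 F223257) (tt N62542 (iv2 F182082)) (tt N21620 F317379) (tt N21366 (iv4 D69201)) (tt N41250 F162354) (tt N21616 (iv6 F319635)) (tt N36358 F105488))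
theorem Q42121 : ∀ i, i < 42121 → P i := stepQ 42120 Q42120 (allL N42120 (tt N31986 (iv1 F166909)) (tt N57492 F166914) (tt N21368 F105496) (tt N75293 (iv3 F231088)) (tt N62113 (iv4 F180030)) (tt N21367 (iv5 D69203)) (tt N75391 D147664) (tt N57491 (iv7 F166906)))
theorem Q42122 : ∀ i, i < 42122 → P i := stepQ 42121 Q42121 (allL N42121 (tt N75392 D147665) (tt N75393 D147666) (tt N21369 F105497) (tt N75294 (iv3 F231090)) (tt N21428 F105498) (tt N41215 F332102) (tt N21367 (iv6 D69204)) (tt N75394 D147668))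
theorem Q42123 : ∀ i, i < 42123 → P i := stepQ 42122 Q42122 (allL N42122 (tt N57491 (iv1 F166910)) (tt N21368 (iv0 D69205)) (tt N31986 (iv2 F105499)) (tt N48343 F323077) (tt N59905 (iv4 F174568)) (tt N73712 (iv5 F225465)) (tt N75395 D147669) (tt N57492 (iv7 F166912)))
theorem Q42124 : ∀ i, i < 42124 → P i := stepQ 42123 Q42123 (allL N42123 (tt N58614 F170224) (tt N75396 D147670) (tt N62113 (iv2 F180028)) (tt N75397 D147671) (tt N21368 (iv4 D69206)) (tt N62103 (iv5 F180021)) (tt N75398 D147672) (tt N47657 F334028))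
theorem Q42125 : ∀ i, i < 42125 → P i := stepQ 42124 Q42124 (allL N42124 (tt N65076 (iv1 F353248)) (tt N75399 D147674) (tt N75391 (iv2 F231426)) (tt N21373 F105500) (tt N75398 (iv4 F231437)) (tt N66507 (iv5 F332107)) (tt N21368 (iv6 D69207)) (tt N75400 D147676))
theorem Q42126 : ∀ i, i < 42126 → P i := stepQ 42125 Q42125 (allL N42125 (tt N75394 (iv1 F231434)) (tt N21369 (iv0 D69208)) (tt N75392 (iv2 F344143)) (tt N75401 D147678) (tt N75402 D147679) (tt N75403 D147680) (tt N75404 D147681) (tt N75393 (iv7 F344146)))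
theorem Q42127 : ∀ i, i < 42127 → P i := stepQ 42126 Q42126 (allL N42126 (tt N21369 (iv1 D69209)) (tt N75394 F231432) (tt N75393 (iv2 F344145)) (tt N75405 D147683) (tt N75406 D147684) (tt N75407 D147685) (tt N75408 D147686) (tt N75392 (iv7 F344144)))
theorem Q42128 : ∀ i, i < 42128 → P i := stepQ 42127 Q42127 (allL N42127 (tt N71353 (iv1 F332103)) (tt N36043 (iv0 F332104)) (tt N41215 F332101) (tt N21377 F105501) (tt N36038 (iv4 F332105)) (tt N21369 (iv5 D69210)) (tt N66507 (iv6 F332108)) (tt N41219 (iv7 F332109)))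
theorem Q42129 : ∀ i, i < 42129 → P i := stepQ 42128 Q42128 (allL N42128 (tt N75393 (iv1 F231427)) (tt N75392 F231431) (tt N75394 (iv2 F231429)) (tt N21378 F105502) (tt N21432 F105503) (tt N41219 F332111) (tt N62548 (iv6 F182095)) (tt N21369 (iv7 D69211)))
theorem Q42130 : ∀ i, i < 42130 → P i := stepQ 42129 Q42129 (allL N42129 (tt N32328 F202948) (tt N65950 F202947) (tt N45935 F320734) (tt N21370 (iv3 D69212)) (tt N75409 D147691) (tt N66647 (iv5 F204835)) (tt N75410 D147692) (tt N65953 (iv7 F202957)))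
theorem Q42131 : ∀ i, i < 42131 → P i := stepQ 42130 Q42130 (allL N42130 (tt N75411 D147693) (tt N75412 D147694) (tt N68537 F324470) (tt N75410 (iv3 F231449)) (tt N66673 (iv4 F204925)) (tt N38079 (iv5 F325580)) (tt N21370 (iv6 D69213)) (tt N68540 (iv7 F325581)))
theorem Q42132 : ∀ i, i < 42132 → P i := stepQ 42131 Q42131 (allL N42131 (tt N75413 D147697) (tt N75414 D147698) (tt N75302 (iv2 F231099)) (tt N31954 F324465) (tt N58575 (iv4 F325238)) (tt N48064 (iv5 F322506)) (tt N21371 (iv6 D69214)) (tt N58671 F324466))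
theorem Q42133 : ∀ i, i < 42133 → P i := stepQ 42132 Q42132 (allL N42132 (tt N75415 D147701) (tt N55217 (iv0 F321385)) (tt N51985 (iv2 F321388)) (tt N21372 (iv3 D69215)) (tt N75397 (iv4 F231436)) (tt N27844 F319395) (tt N55476 (iv6 F321390)) (tt N51982 (iv7 F321392)))
theorem Q42134 : ∀ i, i < 42134 → P i := stepQ 42133 Q42133 (allL N42133 (tt N59870 (iv1 F359600)) (tt N55457 (iv0 F364599)) (tt N66705 (iv2 F205191)) (tt N55476 (iv3 F321389)) (tt N21373 F105504) (tt N75416 D147707) (tt N21372 (iv6 D69216)) (tt N75417 D147708))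
theorem Q42135 : ∀ i, i < 42135 → P i := stepQ 42134 Q42134 (allL N42134 (tt N45489 F334032) (tt N21373 (iv0 D69217)) (tt N24984 (iv2 F336330)) (tt N45759 (iv3 F336331)) (tt N75418 D147711) (tt N75419 D147712) (tt N46125 (iv6 F336336)) (tt N45752 (iv7 F336337)))
theorem Q42136 : ∀ i, i < 42136 → P i := stepQ 42135 Q42135 (allL N42135 (tt N75420 D147719) (tt N45712 (iv0 F336611)) (tt N75303 (iv2 F231101)) (tt N66507 (iv3 F332106)) (tt N75421 D147721) (tt N21373 (iv5 D69219)) (tt N21377 F105505) (tt N75422 D147722))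
theorem Q42137 : ∀ i, i < 42137 → P i := stepQ 42136 Q42136 (allL N42136 (tt N45752 (iv1 F333963)) (tt N24984 F333960) (tt N45489 (iv2 F334018)) (tt N75400 (iv3 F231440)) (tt N75417 (iv4 F231454)) (tt N75422 (iv5 F231458)) (tt N24053 F334014) (tt N21373 (iv7 D69220)))
theorem Q42138 : ∀ i, i < 42138 → P i := stepQ 42137 Q42137 (allL N42137 (tt N75423 D147733) (tt N75373 (iv0 F392934)) (tt N75424 D147735) (tt N21375 (iv3 D69223)) (tt N75425 D147736) (tt N75426 D147737) (tt N66961 (iv6 F347339)) (tt N75307 (iv7 F233782)))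
theorem Q42139 : ∀ i, i < 42139 → P i := stepQ 42138 Q42138 (allL N42138 (tt N75427 D147740) (tt N62597 F182676) (tt N56073 (iv2 F233775)) (tt N75428 D147741) (tt N21375 (iv4 D69224)) (tt N75429 D147742) (tt N75430 D147743) (tt N75308 (iv7 F233784)))
theorem Q42140 : ∀ i, i < 42140 → P i := stepQ 42139 Q42139 (allL N42139 (tt N75431 D147745) (tt N75432 D147746) (tt N75305 (iv2 F233777)) (tt N75426 (iv3 F231470)) (tt N75433 D147747) (tt N21375 (iv5 D69225)) (tt N75434 D147748) (tt N75309 (iv7 F233786)))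
theorem Q42141 : ∀ i, i < 42141 → P i := stepQ 42140 Q42140 (allL N42140 (tt N75370 F231479) (tt N75435 D147750) (tt N75306 (iv2 F233772)) (tt N66961 (iv3 F347336)) (tt N75430 (iv4 F231476)) (tt N67993 (iv5 F333942)) (tt N21375 (iv6 D69226)) (tt N75436 D147752))
theorem Q42142 : ∀ i, i < 42142 → P i := stepQ 42141 Q42141 (allL N42141 (tt N75384 (iv1 F338176)) (tt N63081 (iv0 F334580)) (tt N75437 D147756) (tt N21376 (iv3 D69228)) (tt N63851 (iv4 F334587)) (tt N42336 (iv5 F334588)) (tt N45543 F334579) (tt N75304 (iv7 F233774)))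
theorem Q42143 : ∀ i, i < 42143 → P i := stepQ 42142 Q42142 (allL N42142 (tt N62597 (iv1 F231466)) (tt N75427 F231482) (tt N75308 (iv2 F233783)) (tt N56059 (iv3 F162455)) (tt N21376 (iv4 D69229)) (tt N75438 D147760) (tt N65099 (iv6 F310999)) (tt N56073 (iv7 F233776)))
theorem Q42144 : ∀ i, i < 42144 → P i := stepQ 42143 Q42143 (allL N42143 (tt N75432 (iv1 F231490)) (tt N75431 F231495) (tt N75309 (iv2 F233785)) (tt N42336 F334592) (tt N75439 D147762) (tt N21376 (iv5 D69230)) (tt N73200 (iv6 F334595)) (tt N75305 (iv7 F233778)))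
theorem Q42145 : ∀ i, i < 42145 → P i := stepQ 42144 Q42144 (allL N42144 (tt N75440 D147764) (tt N75348 (iv0 F350792)) (tt N75310 (iv2 F233787)) (tt N45543 (iv3 F334576)) (tt N65099 (iv4 F310998)) (tt N45542 F334575) (tt N21376 (iv6 D69231)) (tt N75441 D147767))
theorem Q42146 : ∀ i, i < 42146 → P i := stepQ 42145 Q42145 (allL N42145 (tt N75314 (iv1 F231119)) (tt N21377 (iv0 D69232)) (tt N75311 (iv2 F337987)) (tt N75442 D147769) (tt N75443 D147770) (tt N75444 D147771) (tt N75445 D147772) (tt N75312 (iv7 F337908)))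
theorem Q42147 : ∀ i, i < 42147 → P i := stepQ 42146 Q42146 (allL N42146 (tt N21377 (iv1 D69233)) (tt N75314 F231118) (tt N75312 (iv2 F337906)) (tt N63074 (iv3 F336321)) (tt N72569 (iv4 F336316)) (tt N75446 D147776) (tt N36076 (iv6 F336319)) (tt N75311 (iv7 F337989)))
theorem Q42148 : ∀ i, i < 42148 → P i := stepQ 42147 Q42147 (allL N42147 (tt N75447 D147778) (tt N75448 D147779) (tt N75313 (iv2 F231111)) (tt N40075 F349409) (tt N21377 (iv4 D69234)) (tt N75449 D147781) (tt N75421 (iv6 F231457)) (tt N75450 D147782))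
theorem Q42149 : ∀ i, i < 42149 → P i := stepQ 42148 Q42148 (allL N42148 (tt N75312 (iv1 F231110)) (tt N75311 F231117) (tt N75314 (iv2 F231114)) (tt N41219 F332110) (tt N75450 (iv4 F231531)) (tt N21378 F105508) (tt N75451 D147783) (tt N21377 (iv7 D69235)))
theorem Q42150 : ∀ i, i < 42150 → P i := stepQ 42149 Q42149 (allL N42149 (tt N75176 (iv1 F230530)) (tt N46208 (iv0 F338188)) (tt N75177 (iv2 F230532)) (tt N62548 (iv3 F182093)) (tt N21388 F105509) (tt N46246 F330051) (tt N21378 (iv6 D69236)) (tt N21379 F105510))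
theorem Q42151 : ∀ i, i < 42151 → P i := stepQ 42150 Q42150 (allL N42150 (tt N75177 (iv1 F230537)) (tt N21379 (iv0 D69237)) (tt N46208 F337749) (tt N75452 D147786) (tt N65108 (iv4 F335056)) (tt N46207 (iv5 F337755)) (tt N65107 (iv6 F341967)) (tt N75176 (iv7 F338187)))
theorem Q42152 : ∀ i, i < 42152 → P i := stepQ 42151 Q42151 (allL N42151 (tt N21379 (iv1 D69238)) (tt N75177 F230536) (tt N75176 (iv2 F338184)) (tt N25057 (iv3 F337745)) (tt N40454 F338182) (tt N34739 F337740) (tt N64013 (iv6 F337747)) (tt N46208 (iv7 F337748)))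
theorem Q42153 : ∀ i, i < 42153 → P i := stepQ 42152 Q42152 (allL N42152 (tt N46247 F335061) (tt N25048 (iv0 F335062)) (tt N45851 (iv2 F334016)) (tt N62547 (iv3 F182092)) (tt N75453 D147797) (tt N21379 (iv5 D69239)) (tt N34648 F334013) (tt N46246 (iv7 F330050)))
theorem Q42154 : ∀ i, i < 42154 → P i := stepQ 42153 Q42153 (allL N42153 (tt N74844 F229475) (tt N21380 (iv0 D69246)) (tt N74845 (iv2 F229480)) (tt N21453 F229476) (tt N66713 F229477) (tt N22382 F229478) (tt N74697 (iv6 F323820)) (tt N41959 F229479))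
theorem Q42155 : ∀ i, i < 42155 → P i := stepQ 42154 Q42154 (allL N42154 (tt N74845 (iv1 F229484)) (tt N41959 (iv0 F192078)) (tt N21380 (iv2 D69248)) (tt N75228 (iv3 F232254)) (tt N27510 (iv4 F315578)) (tt N75454 D147798) (tt N27508 F315070) (tt N74844 (iv7 F229471)))
theorem Q42156 : ∀ i, i < 42156 → P i := stepQ 42155 Q42155 (allL N42155 (tt N36340 F105519) (tt N36318 (iv0 F162456)) (tt N27510 F317845) (tt N75455 D147799) (tt N21380 (iv4 D69249)) (tt N75456 D147800) (tt N27375 F313190) (tt N36338 F192090))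
theorem Q42157 : ∀ i, i < 42157 → P i := stepQ 42156 Q42156 (allL N42156 (tt N75457 D147802) (tt N43538 (iv0 F237047)) (tt N75454 (iv2 F231536)) (tt N21382 F105521) (tt N75458 D147804) (tt N21380 (iv5 D69250)) (tt N43715 F130788) (tt N63999 (iv7 F192124)))
theorem Q42158 : ∀ i, i < 42158 → P i := stepQ 42157 Q42157 (allL N42157 (tt N48415 F307407) (tt N43676 (iv0 F191095)) (tt N27508 F312761) (tt N21383 F105522) (tt N27375 (iv4 F315580)) (tt N34539 F130787) (tt N21380 (iv6 D69251)) (tt N27504 F312763))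
theorem Q42159 : ∀ i, i < 42159 → P i := stepQ 42158 Q42158 (allL N42158 (tt N21385 (iv1 F105528)) (tt N21381 (iv0 D69253)) (tt N75318 F231136) (tt N75459 D147806) (tt N49043 F310864) (tt N75460 D147808) (tt N75331 (iv6 F231227)) (tt N75271 F230986))
theorem Q42160 : ∀ i, i < 42160 → P i := stepQ 42159 Q42159 (allL N42159 (tt N65845 (iv1 F360254)) (tt N58648 (iv0 F358572)) (tt N65842 (iv2 F342263)) (tt N21381 (iv3 D69255)) (tt N75455 (iv4 F231539)) (tt N75461 D147812) (tt N75462 D147813) (tt N65843 (iv7 F342268)))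
theorem Q42161 : ∀ i, i < 42161 → P i := stepQ 42160 Q42160 (allL N42160 (tt N75463 D147814) (tt N75464 D147815) (tt N75319 (iv2 F231140)) (tt N75461 (iv3 F231575)) (tt N75465 D147816) (tt N21381 (iv5 D69256)) (tt N75466 D147817) (tt N75322 (iv7 F231162)))
theorem Q42162 : ∀ i, i < 42162 → P i := stepQ 42161 Q42161 (allL N42161 (tt N75368 F231361) (tt N75467 D147818) (tt N47556 (iv2 F334058)) (tt N75462 (iv3 F231576)) (tt N21383 F105525) (tt N47555 (iv5 F334059)) (tt N21381 (iv6 D69257)) (tt N75468 D147820))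
theorem Q42163 : ∀ i, i < 42163 → P i := stepQ 42162 Q42162 (allL N42162 (tt N21386 (iv1 F105534)) (tt N21382 (iv0 D69259)) (tt N43833 (iv2 F109731)) (tt N62975 (iv3 F190211)) (tt N49049 F310273) (tt N42020 F105529) (tt N43678 (iv6 F109397)) (tt N22265 F109400))
theorem Q42164 : ∀ i, i < 42164 → P i := stepQ 42163 Q42163 (allL N42163 (tt N75469 D147822) (tt N75470 D147823) (tt N55339 (iv2 F307367)) (tt N75471 D147824) (tt N21382 (iv4 D69261)) (tt N75472 D147825) (tt N25760 F305363) (tt N64002 F192135))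
theorem Q42165 : ∀ i, i < 42165 → P i := stepQ 42164 Q42164 (allL N42164 (tt N22223 F105531) (tt N43721 F109518) (tt N48429 F306267) (tt N43715 (iv3 F130789)) (tt N25760 F305362) (tt N63731 F190698) (tt N21382 (iv6 D69262)) (tt N48428 F306268))
theorem Q42166 : ∀ i, i < 42166 → P i := stepQ 42165 Q42165 (allL N42165 (tt N21383 (iv1 D69265)) (tt N75321 F231155) (tt N75320 (iv2 F231150)) (tt N21450 F190460) (tt N75435 (iv4 F231497)) (tt N43641 (iv5 F190714)) (tt N73981 (iv6 F313471)) (tt N63019 F190461))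
theorem Q42167 : ∀ i, i < 42167 → P i := stepQ 42166 Q42166 (allL N42166 (tt N22190 F105535) (tt N43413 F108787) (tt N43412 F192086) (tt N34539 (iv3 F130790)) (tt N42428 F130791) (tt N21383 (iv5 D69266)) (tt N63731 (iv6 F190713)) (tt N34542 (iv7 F192071)))
theorem Q42168 : ∀ i, i < 42168 → P i := stepQ 42167 Q42167 (allL N42167 (tt N75320 (iv1 F231147)) (tt N63019 (iv0 F230017)) (tt N75321 (iv2 F231152)) (tt N27504 (iv3 F310544)) (tt N75468 (iv4 F231581)) (tt N34542 (iv5 F192074)) (tt N75324 (iv6 F231168)) (tt N21383 (iv7 D69267)))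
theorem Q42169 : ∀ i, i < 42169 → P i := stepQ 42168 Q42168 (allL N42168 (tt N21384 (iv1 D69270)) (tt N75228 (iv0 F232252)) (tt N75229 (iv2 F232258)) (tt N21439 F184824) (tt N66759 F205353) (tt N22398 F184634) (tt N74854 (iv6 F232260)) (tt N41621 (iv7 F232261)))
theorem Q42170 : ∀ i, i < 42170 → P i := stepQ 42169 Q42169 (allL N42169 (tt N41621 F232281) (tt N75229 F232282) (tt N21384 (iv2 D69271)) (tt N74844 (iv3 F229474)) (tt N75473 D147830) (tt N75474 D147831) (tt N75475 D147832) (tt N75228 (iv7 F232257)))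
theorem Q42171 : ∀ i, i < 42171 → P i := stepQ 42170 Q42170 (allL N42170 (tt N41397 F184632) (tt N46022 (iv0 F321737)) (tt N75473 (iv2 F231594)) (tt N75476 D147834) (tt N21384 (iv4 D69272)) (tt N68199 (iv5 F326630)) (tt N70015 (iv6 F338642)) (tt N75315 (iv7 F231127)))
theorem Q42172 : ∀ i, i < 42172 → P i := stepQ 42171 Q42171 (allL N42171 (tt N75477 D147837) (tt N75478 D147838) (tt N75474 (iv2 F231604)) (tt N21386 F105537) (tt N54003 (iv4 F155745)) (tt N21384 (iv5 D69273)) (tt N45199 (iv6 F233080)) (tt N75316 (iv7 F231132)))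
theorem Q42173 : ∀ i, i < 42173 → P i := stepQ 42172 Q42172 (allL N42172 (tt N32867 F317673) (tt N75479 D147840) (tt N75475 (iv2 F231605)) (tt N21387 F105538) (tt N70015 (iv4 F338641)) (tt N61427 (iv5 F317670)) (tt N21384 (iv6 D69274)) (tt N75480 D147842))
theorem Q42174 : ∀ i, i < 42174 → P i := stepQ 42173 Q42173 (allL N42173 (tt N75360 (iv1 F360144)) (tt N75481 D147844) (tt N75482 D147845) (tt N21385 (iv3 D69275)) (tt N75476 (iv4 F231611)) (tt N75483 D147846) (tt N75484 D147847) (tt N47558 F334066))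
theorem Q42175 : ∀ i, i < 42175 → P i := stepQ 42174 Q42174 (allL N42174 (tt N75464 (iv1 F231579)) (tt N75463 F231578) (tt N75322 (iv2 F231161)) (tt N75483 (iv3 F231620)) (tt N75485 D147848) (tt N21385 (iv5 D69276)) (tt N75486 D147849) (tt N75319 (iv7 F231141)))
theorem Q42176 : ∀ i, i < 42176 → P i := stepQ 42175 Q42175 (allL N42175 (tt N54969 (iv1 F315764)) (tt N75341 (iv0 F243360)) (tt N75323 (iv2 F231163)) (tt N75484 (iv3 F231621)) (tt N21387 F105539) (tt N46885 F315405) (tt N21385 (iv6 D69277)) (tt N75487 D147853))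
theorem Q42177 : ∀ i, i < 42177 → P i := stepQ 42176 Q42176 (allL N42176 (tt N75470 (iv1 F231585)) (tt N75469 F231584) (tt N64002 (iv2 F192133)) (tt N75488 D147854) (tt N21386 (iv4 D69278)) (tt N75489 D147855) (tt N63994 (iv6 F192094)) (tt N55339 (iv7 F307369)))
theorem Q42178 : ∀ i, i < 42178 → P i := stepQ 42177 Q42177 (allL N42177 (tt N75324 F231174) (tt N21387 (iv0 D69279)) (tt N75188 (iv2 F241127)) (tt N21459 (iv3 F242952)) (tt N75440 (iv4 F355209)) (tt N41963 F105540) (tt N46522 F312384) (tt N63011 F242949))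
theorem Q42179 : ∀ i, i < 42179 → P i := stepQ 42178 Q42178 (allL N42178 (tt N41832 F243019) (tt N41989 (iv0 F105541)) (tt N52007 (iv2 F312757)) (tt N61427 (iv3 F317669)) (tt N51756 (iv4 F334510)) (tt N21387 (iv5 D69281)) (tt N51754 (iv6 F317860)) (tt N75490 D147859))
theorem Q42180 : ∀ i, i < 42180 → P i := stepQ 42179 Q42179 (allL N42179 (tt N63011 (iv1 F242936)) (tt N75188 F231169) (tt N75324 (iv2 F231165)) (tt N75480 (iv3 F231614)) (tt N75487 (iv4 F231625)) (tt N75490 (iv5 F231636)) (tt N75321 (iv6 F231154)) (tt N21387 (iv7 D69282)))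
theorem Q42181 : ∀ i, i < 42181 → P i := stepQ 42180 Q42180 (allL N42180 (tt N74697 (iv1 F323816)) (tt N41957 (iv0 F240650)) (tt N74698 (iv2 F324927)) (tt N21389 (iv3 D69284)) (tt N52600 (iv4 F334491)) (tt N62582 (iv5 F324913)) (tt N75491 D147871) (tt N52593 (iv7 F334487)))
theorem Q42182 : ∀ i, i < 42182 → P i := stepQ 42181 Q42181 (allL N42181 (tt N75331 (iv1 F237574)) (tt N75270 (iv0 F237575)) (tt N75178 (iv2 F241164)) (tt N75492 D147875) (tt N21389 (iv4 D69285)) (tt N75493 D147876) (tt N75494 D147877) (tt N75180 (iv7 F241157)))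
theorem Q42183 : ∀ i, i < 42183 → P i := stepQ 42182 Q42182 (allL N42182 (tt N72683 (iv1 F360890)) (tt N75495 D147880) (tt N75179 (iv2 F241166)) (tt N62582 (iv3 F324912)) (tt N72993 (iv4 F359816)) (tt N21389 (iv5 D69286)) (tt N74667 (iv6 F324156)) (tt N62576 (iv7 F322080)))
theorem Q42184 : ∀ i, i < 42184 → P i := stepQ 42183 Q42183 (allL N42183 (tt N75281 (iv1 F241105)) (tt N46522 F312383) (tt N69414 (iv2 F241168)) (tt N75491 (iv3 F231650)) (tt N75494 (iv4 F231653)) (tt N43493 F109063) (tt N21389 (iv6 D69287)) (tt N69412 (iv7 F241173)))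
theorem Q42185 : ∀ i, i < 42185 → P i := stepQ 42184 Q42184 (allL N42184 (tt N41619 (iv1 F334977)) (tt N74854 F334976) (tt N74687 (iv2 F324924)) (tt N21390 (iv3 D69289)) (tt N75496 D147889) (tt N74681 (iv5 F334980)) (tt N63803 (iv6 F355312)) (tt N74852 (iv7 F334438)))
theorem Q42186 : ∀ i, i < 42186 → P i := stepQ 42185 Q42185 (allL N42185 (tt N75270 (iv1 F237576)) (tt N75331 (iv0 F237573)) (tt N75180 (iv2 F241156)) (tt N75497 D147892) (tt N21390 (iv4 D69290)) (tt N75498 D147893) (tt N75499 D147894) (tt N75178 (iv7 F241165)))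
theorem Q42187 : ∀ i, i < 42187 → P i := stepQ 42186 Q42186 (allL N42186 (tt N75495 (iv1 F231662)) (tt N72683 (iv0 F360889)) (tt N62576 (iv2 F322078)) (tt N74681 (iv3 F334979)) (tt N62194 (iv4 F352245)) (tt N21390 (iv5 D69291)) (tt N62193 (iv6 F320882)) (tt N75179 (iv7 F241167)))
theorem Q42188 : ∀ i, i < 42188 → P i := stepQ 42187 Q42187 (allL N42187 (tt N73981 (iv1 F313470)) (tt N75172 (iv0 F307870)) (tt N52592 (iv2 F309622)) (tt N63803 (iv3 F355310)) (tt N75499 (iv4 F231673)) (tt N75500 D147897) (tt N21390 (iv6 D69292)) (tt N75171 (iv7 F309625)))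
theorem Q42189 : ∀ i, i < 42189 → P i := stepQ 42188 Q42188 (allL N42188 (tt N65220 (iv1 F200403)) (tt N21391 (iv0 D69293)) (tt N65285 (iv2 F230733)) (tt N63200 (iv3 F230734)) (tt N75501 D147899) (tt N75003 (iv5 F243024)) (tt N41556 F322225) (tt N65284 F230732))
theorem Q42190 : ∀ i, i < 42190 → P i := stepQ 42189 Q42189 (allL N42189 (tt N21391 (iv1 D69294)) (tt N65220 F200402) (tt N65284 F230730) (tt N75502 D147901) (tt N75503 D147902) (tt N75004 (iv5 F243027)) (tt N75504 D147903) (tt N65285 (iv7 F230731)))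
theorem Q42191 : ∀ i, i < 42191 → P i := stepQ 42190 Q42190 (allL N42190 (tt N75505 D147904) (tt N73609 (iv0 F322972)) (tt N75181 (iv2 F230543)) (tt N75506 D147906) (tt N21391 (iv4 D69295)) (tt N75507 D147907) (tt N21396 F105544) (tt N65283 (iv7 F200565)))
theorem Q42192 : ∀ i, i < 42192 → P i := stepQ 42191 Q42191 (allL N42191 (tt N22244 F105548) (tt N22243 F105549) (tt N22246 F105545) (tt N21393 F105546) (tt N74503 (iv4 F228065)) (tt N21392 (iv5 D69296)) (tt N75508 D147908) (tt N22234 F105547))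
theorem Q42193 : ∀ i, i < 42193 → P i := stepQ 42192 Q42192 (allL N42192 (tt N36498 F105552) (tt N33915 F105553) (tt N22409 F105550) (tt N75509 D147909) (tt N21393 (iv4 D69297)) (tt N43596 (iv5 F109234)) (tt N75510 D147910) (tt N22411 F105551))
theorem Q42194 : ∀ i, i < 42194 → P i := stepQ 42193 Q42193 (allL N42193 (tt N45784 F309673) (tt N75511 D147912) (tt N22410 F105554) (tt N75508 (iv3 F231680)) (tt N75510 (iv4 F231684)) (tt N22817 F105555) (tt N21393 (iv6 D69298)) (tt N75512 D147913))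
theorem Q42195 : ∀ i, i < 42195 → P i := stepQ 42194 Q42194 (allL N42194 (tt N33910 F105558) (tt N36496 F105559) (tt N22416 F105556) (tt N75513 D147914) (tt N21394 (iv4 D69299)) (tt N75514 D147915) (tt N75328 (iv6 F231209)) (tt N22413 F105557))
theorem Q42196 : ∀ i, i < 42196 → P i := stepQ 42195 Q42195 (allL N42195 (tt N22242 (iv1 F105562)) (tt N21912 (iv0 F105563)) (tt N42748 F107053) (tt N21395 (iv3 D69300)) (tt N42750 (iv4 F107060)) (tt N37440 F105560) (tt N75515 D147916) (tt N22415 F105561))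
theorem Q42197 : ∀ i, i < 42197 → P i := stepQ 42196 Q42196 (allL N42196 (tt N36496 F105566) (tt N33910 F105567) (tt N22413 F105564) (tt N75516 D147917) (tt N21395 (iv4 D69301)) (tt N75517 D147918) (tt N75518 D147919) (tt N22416 F105565))
theorem Q42198 : ∀ i, i < 42198 → P i := stepQ 42197 Q42197 (allL N42197 (tt N52357 (iv1 F308546)) (tt N52356 (iv0 F308544)) (tt N22414 F105568) (tt N75515 (iv3 F231703)) (tt N75518 (iv4 F231710)) (tt N24236 F306683) (tt N21395 (iv6 D69302)) (tt N24235 (iv7 F308489)))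
theorem Q42199 : ∀ i, i < 42199 → P i := stepQ 42198 Q42198 (allL N42198 (tt N22164 (iv1 F105571)) (tt N21396 (iv0 D69303)) (tt N22419 (iv2 F105572)) (tt N75519 D147922) (tt N21886 F105570) (tt N75520 D147923) (tt N62386 (iv6 F319286)) (tt N22418 (iv7 F105573)))
theorem Q42200 : ∀ i, i < 42200 → P i := stepQ 42199 Q42199 (allL N42199 (tt N21396 (iv1 D69304)) (tt N22164 F105574) (tt N22418 (iv2 F105577)) (tt N75521 D147924) (tt N21887 F105576) (tt N75522 D147925) (tt N64236 (iv6 F312231)) (tt N22419 F105575))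
theorem Q42201 : ∀ i, i < 42201 → P i := stepQ 42200 Q42200 (allL N42200 (tt N72307 (iv1 F359343)) (tt N75523 D147928) (tt N75524 D147929) (tt N21396 (iv3 D69305)) (tt N21473 F105578) (tt N75525 D147930) (tt N75506 (iv6 F231678)) (tt N22420 F105579))
theorem Q42202 : ∀ i, i < 42202 → P i := stepQ 42201 Q42201 (allL N42201 (tt N66859 (iv1 F205903)) (tt N66904 F206050) (tt N66901 F206043) (tt N75525 (iv3 F231738)) (tt N43594 F109230) (tt N21396 (iv5 D69306)) (tt N75526 D147931) (tt N22421 F105580))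
theorem Q42203 : ∀ i, i < 42203 → P i := stepQ 42202 Q42202 (allL N42202 (tt N75527 D147932) (tt N74498 (iv0 F347728)) (tt N73145 (iv2 F223876)) (tt N21397 (iv3 D69307)) (tt N62991 (iv4 F184291)) (tt N75528 D147934) (tt N74472 (iv6 F324896)) (tt N36466 F316575))
theorem Q42204 : ∀ i, i < 42204 → P i := stepQ 42203 Q42203 (allL N42203 (tt N41787 (iv1 F105597)) (tt N41784 F105582) (tt N21401 F105581) (tt N75528 (iv3 F231740)) (tt N75529 D147936) (tt N21397 (iv5 D69308)) (tt N75530 D147937) (tt N63013 (iv7 F184379)))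
theorem Q42205 : ∀ i, i < 42205 → P i := stepQ 42204 Q42204 (allL N42204 (tt N75531 D147938) (tt N75532 D147939) (tt N21402 F105583) (tt N74472 (iv3 F324895)) (tt N21398 F105584) (tt N75533 D147940) (tt N21397 (iv6 D69309)) (tt N29756 F316573))
theorem Q42206 : ∀ i, i < 42206 → P i := stepQ 42205 Q42205 (allL N42205 (tt N21406 (iv1 F105589)) (tt N21398 (iv0 D69310)) (tt N21403 (iv2 F247812)) (tt N41806 F317210) (tt N41398 (iv4 F319484)) (tt N69560 (iv5 F314623)) (tt N63063 (iv6 F250243)) (tt N21404 (iv7 F247819)))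
theorem Q42207 : ∀ i, i < 42207 → P i := stepQ 42206 Q42206 (allL N42206 (tt N21398 (iv1 D69311)) (tt N21406 F105585) (tt N21404 F247820) (tt N61300 (iv3 F315236)) (tt N32724 (iv4 F316817)) (tt N69559 (iv5 F314619)) (tt N75534 D147949) (tt N21403 F247821))
theorem Q42208 : ∀ i, i < 42208 → P i := stepQ 42207 Q42207 (allL N42207 (tt N21404 (iv1 F105590)) (tt N21403 F105591) (tt N21406 F105588) (tt N62996 (iv3 F184310)) (tt N29756 (iv4 F314113)) (tt N40654 F317046) (tt N29755 F311642) (tt N21398 (iv7 D69313)))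
theorem Q42209 : ∀ i, i < 42209 → P i := stepQ 42208 Q42208 (allL N42208 (tt N74869 (iv1 F339600)) (tt N63071 (iv0 F339598)) (tt N63016 (iv2 F184397)) (tt N43270 (iv3 F318934)) (tt N72774 (iv4 F359200)) (tt N75535 D147959) (tt N21399 (iv6 D69315)) (tt N75536 D147960))
theorem Q42210 : ∀ i, i < 42210 → P i := stepQ 42209 Q42209 (allL N42209 (tt N75537 D147961) (tt N56181 (iv0 F318922)) (tt N43264 (iv2 F318923)) (tt N21400 (iv3 D69316)) (tt N41598 F105592) (tt N50420 (iv5 F318925)) (tt N26266 (iv6 F318927)) (tt N63015 (iv7 F184396)))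
theorem Q42211 : ∀ i, i < 42211 → P i := stepQ 42210 Q42210 (allL N42210 (tt N21441 F131154) (tt N63057 F184821) (tt N63014 (iv2 F184394)) (tt N26266 (iv3 F318926)) (tt N41597 F105593) (tt N26265 (iv5 F317605)) (tt N21400 (iv6 D69317)) (tt N50749 (iv7 F318932)))
theorem Q42212 : ∀ i, i < 42212 → P i := stepQ 42211 Q42211 (allL N42211 (tt N63013 (iv1 F184382)) (tt N21401 (iv0 D69318)) (tt N41787 (iv2 F105595)) (tt N43272 F346141) (tt N75538 D147967) (tt N33647 F105594) (tt N75539 D147968) (tt N41784 (iv7 F105596)))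
theorem Q42213 : ∀ i, i < 42213 → P i := stepQ 42212 Q42212 (allL N42212 (tt N21401 (iv1 D69319)) (tt N63013 (iv0 F184381)) (tt N41784 (iv2 F105600)) (tt N75540 D147969) (tt N75541 D147970) (tt N23283 F105599) (tt N75542 D147971) (tt N41787 F105598))
theorem Q42214 : ∀ i, i < 42214 → P i := stepQ 42213 Q42213 (allL N42213 (tt N75543 D147972) (tt N75544 D147973) (tt N75529 (iv2 F231742)) (tt N75545 D147974) (tt N21401 (iv4 D69320)) (tt N74859 F229664) (tt N75546 D147975) (tt N63017 (iv7 F184400)))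
theorem Q42215 : ∀ i, i < 42215 → P i := stepQ 42214 Q42214 (allL N42214 (tt N75547 D147976) (tt N75548 D147977) (tt N75530 (iv2 F231747)) (tt N73163 (iv3 F223919)) (tt N75546 (iv4 F231801)) (tt N75549 D147978) (tt N21401 (iv6 D69321)) (tt N75550 D147979))
theorem Q42216 : ∀ i, i < 42216 → P i := stepQ 42215 Q42215 (allL N42215 (tt N29756 F316572) (tt N21402 (iv0 D69322)) (tt N75531 (iv2 F231808)) (tt N32659 (iv3 F352143)) (tt N75551 D147982) (tt N43059 (iv5 F334835)) (tt N75552 D147984) (tt N75532 (iv7 F231811)))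
theorem Q42217 : ∀ i, i < 42217 → P i := stepQ 42216 Q42216 (allL N42216 (tt N21402 (iv1 D69323)) (tt N29756 F316571) (tt N75532 (iv2 F231810)) (tt N75553 D147986) (tt N75554 D147987) (tt N75555 D147988) (tt N75556 D147989) (tt N75531 (iv7 F231809)))
theorem Q42218 : ∀ i, i < 42218 → P i := stepQ 42217 Q42217 (allL N42217 (tt N75557 D147990) (tt N75558 D147991) (tt N75533 (iv2 F231753)) (tt N73164 (iv3 F223920)) (tt N75559 D147992) (tt N21402 (iv5 D69324)) (tt N75549 (iv6 F231802)) (tt N69626 (iv7 F314515)))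
theorem Q42219 : ∀ i, i < 42219 → P i := stepQ 42218 Q42218 (allL N42218 (tt N75532 (iv1 F231752)) (tt N75531 (iv0 F231750)) (tt N29756 (iv2 F314112)) (tt N29898 (iv3 F314513)) (tt N21406 F105601) (tt N69626 (iv5 F314514)) (tt N23142 F312201) (tt N21402 (iv7 D69325)))
theorem Q42220 : ∀ i, i < 42220 → P i := stepQ 42219 Q42219 (allL N42219 (tt N63413 F312740) (tt N63461 (iv0 F314856)) (tt N61382 (iv2 F316466)) (tt N21403 (iv3 D69327)) (tt N44609 (iv4 F315234)) (tt N75560 D148003) (tt N75479 (iv6 F252128)) (tt N61300 (iv7 F315237)))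
theorem Q42221 : ∀ i, i < 42221 → P i := stepQ 42220 Q42220 (allL N42220 (tt N29579 F314502) (tt N63389 (iv0 F316810)) (tt N41398 F321493) (tt N29575 (iv3 F321212)) (tt N21403 (iv4 D69328)) (tt N75561 D148009) (tt N75562 D148010) (tt N32724 F319182))
theorem Q42222 : ∀ i, i < 42222 → P i := stepQ 42221 Q42221 (allL N42221 (tt N47991 (iv1 F233150)) (tt N40494 (iv0 F314625)) (tt N69560 (iv2 F314621)) (tt N75560 (iv3 F231825)) (tt N75563 D148014) (tt N21403 (iv5 D69329)) (tt N75564 D148015) (tt N69559 (iv7 F314620)))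
theorem Q42223 : ∀ i, i < 42223 → P i := stepQ 42222 Q42222 (allL N42222 (tt N63058 (iv1 F233042)) (tt N46234 F314422) (tt N63063 (iv2 F250240)) (tt N75479 (iv3 F252126)) (tt N75562 (iv4 F231829)) (tt N62854 F183905) (tt N21403 (iv6 D69330)) (tt N63062 (iv7 F247839)))
theorem Q42224 : ∀ i, i < 42224 → P i := stepQ 42223 Q42223 (allL N42223 (tt N29732 F317203) (tt N29735 F317204) (tt N41731 F317205) (tt N21404 (iv3 D69332)) (tt N33664 (iv4 F319483)) (tt N75565 D148025) (tt N56135 (iv6 F342595)) (tt N41806 F317206))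
theorem Q42225 : ∀ i, i < 42225 → P i := stepQ 42224 Q42224 (allL N42224 (tt N63389 (iv1 F316811)) (tt N29579 F314501) (tt N32724 F319181) (tt N32807 (iv3 F321211)) (tt N21404 (iv4 D69333)) (tt N75566 D148028) (tt N75567 D148029) (tt N41398 (iv7 F319485)))
theorem Q42226 : ∀ i, i < 42226 → P i := stepQ 42225 Q42225 (allL N42225 (tt N40494 (iv1 F314626)) (tt N47991 (iv0 F233149)) (tt N69559 (iv2 F314618)) (tt N75565 (iv3 F231838)) (tt N73911 (iv4 F341574)) (tt N21404 (iv5 D69334)) (tt N75568 D148031) (tt N69560 (iv7 F314624)))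
theorem Q42227 : ∀ i, i < 42227 → P i := stepQ 42226 Q42226 (allL N42226 (tt N69416 (iv1 F329364)) (tt N74870 (iv0 F333263)) (tt N75534 (iv2 F247827)) (tt N56135 (iv3 F342594)) (tt N75567 (iv4 F231840)) (tt N56134 (iv5 F332507)) (tt N21404 (iv6 D69335)) (tt N75569 D148035))
theorem Q42228 : ∀ i, i < 42228 → P i := stepQ 42227 Q42227 (allL N42227 (tt N39772 (iv1 F324684)) (tt N39755 F323277) (tt N39770 F343286) (tt N33332 (iv3 F320528)) (tt N21405 (iv4 D69338)) (tt N43045 (iv5 F353546)) (tt N36255 F105604) (tt N39653 F318375))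
theorem Q42229 : ∀ i, i < 42229 → P i := stepQ 42228 Q42228 (allL N42228 (tt N62942 (iv1 F337282)) (tt N62897 (iv0 F243184)) (tt N62928 (iv2 F184151)) (tt N62318 (iv3 F322082)) (tt N21407 (iv4 D69349)) (tt N75570 D148051) (tt N49701 (iv6 F356786)) (tt N62929 (iv7 F184153)))
theorem Q42230 : ∀ i, i < 42230 → P i := stepQ 42229 Q42229 (allL N42229 (tt N48035 (iv1 F230119)) (tt N48048 (iv0 F230118)) (tt N48046 (iv2 F200238)) (tt N21408 F105616) (tt N75571 D148053) (tt N21407 (iv5 D69350)) (tt N40190 (iv6 F316154)) (tt N48045 (iv7 F200301)))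
theorem Q42231 : ∀ i, i < 42231 → P i := stepQ 42230 Q42230 (allL N42230 (tt N62913 (iv1 F184118)) (tt N42317 (iv0 F183296)) (tt N62769 (iv2 F183595)) (tt N21409 F105617) (tt N49701 (iv4 F356784)) (tt N62749 F183453) (tt N21407 (iv6 D69351)) (tt N62767 F183588))
theorem Q42232 : ∀ i, i < 42232 → P i := stepQ 42231 Q42231 (allL N42231 (tt N23936 (iv1 F304087)) (tt N22529 (iv0 F105636)) (tt N23934 F306176) (tt N25472 F308100) (tt N46209 (iv4 F308915)) (tt N21411 (iv5 D69377)) (tt N33462 F314874) (tt N23935 F306178))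
theorem Q42233 : ∀ i, i < 42233 → P i := stepQ 42232 Q42232 (allL N42232 (tt N21465 F105639) (tt N37387 F105917) (tt N63012 (iv2 F184349)) (tt N46522 (iv3 F310121)) (tt N43937 F313311) (tt N23935 F306183) (tt N21459 F105638) (tt N21411 (iv7 D69378)))
theorem Q42234 : ∀ i, i < 42234 → P i := stepQ 42233 Q42233 (allL N42233 (tt N63302 (iv1 F314118)) (tt N63305 (iv0 F361653)) (tt N72802 (iv2 F223217)) (tt N21412 (iv3 D69389)) (tt N36466 (iv4 F314115)) (tt N75572 D148104) (tt N36465 F311648) (tt N62991 (iv7 F184292)))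
theorem Q42235 : ∀ i, i < 42235 → P i := stepQ 42234 Q42234 (allL N42234 (tt N41913 (iv1 F105685)) (tt N41910 F105671) (tt N21416 F105670) (tt N75572 (iv3 F231913)) (tt N60733 (iv4 F176805)) (tt N21412 (iv5 D69390)) (tt N75573 D148106) (tt N62992 (iv7 F184294)))
theorem Q42236 : ∀ i, i < 42236 → P i := stepQ 42235 Q42235 (allL N42235 (tt N35041 (iv1 F309436)) (tt N34914 (iv0 F309437)) (tt N21417 F105673) (tt N36465 (iv3 F309439)) (tt N21413 F105674) (tt N34842 (iv5 F309440)) (tt N21412 (iv6 D69391)) (tt N35046 (iv7 F309418)))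
theorem Q42237 : ∀ i, i < 42237 → P i := stepQ 42236 Q42236 (allL N42236 (tt N21421 (iv1 F105677)) (tt N21413 (iv0 D69392)) (tt N21418 F130322) (tt N24233 (iv3 F309409)) (tt N75574 D148112) (tt N24262 F307412) (tt N75158 (iv6 F230377)) (tt N21419 F130323))
theorem Q42238 : ∀ i, i < 42238 → P i := stepQ 42237 Q42237 (allL N42237 (tt N21413 (iv1 D69393)) (tt N21421 F105675) (tt N21419 F130314) (tt N43153 F130297) (tt N75575 D148114) (tt N42692 F302979) (tt N44860 (iv6 F130335)) (tt N21418 F130315))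
theorem Q42239 : ∀ i, i < 42239 → P i := stepQ 42238 Q42238 (allL N42238 (tt N21419 (iv1 F105678)) (tt N21418 F105679) (tt N21421 F105676) (tt N29755 (iv3 F309414)) (tt N35046 (iv4 F309417)) (tt N46105 (iv5 F307612)) (tt N62996 (iv6 F184311)) (tt N21413 (iv7 D69394)))
theorem Q42240 : ∀ i, i < 42240 → P i := stepQ 42239 Q42239 (allL N42239 (tt N63047 F230225) (tt N21455 F230226) (tt N63000 (iv2 F184318)) (tt N63955 (iv3 F353606)) (tt N75057 (iv4 F230220)) (tt N75576 D148119) (tt N21414 (iv6 D69396)) (tt N63049 (iv7 F184789)))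
theorem Q42241 : ∀ i, i < 42241 → P i := stepQ 42240 Q42240 (allL N42240 (tt N75577 D148120) (tt N62939 (iv0 F347738)) (tt N63956 (iv2 F355821)) (tt N21415 (iv3 D69397)) (tt N41388 F105680) (tt N75141 (iv5 F230337)) (tt N49674 (iv6 F347750)) (tt N62999 (iv7 F184317)))
theorem Q42242 : ∀ i, i < 42242 → P i := stepQ 42241 Q42241 (allL N42241 (tt N63067 (iv1 F278624)) (tt N74343 (iv0 F356604)) (tt N62998 (iv2 F184315)) (tt N49674 (iv3 F347747)) (tt N41386 F105681) (tt N54459 (iv5 F347746)) (tt N21415 (iv6 D69398)) (tt N75578 D148127))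
theorem Q42243 : ∀ i, i < 42243 → P i := stepQ 42242 Q42242 (allL N42242 (tt N62992 (iv1 F184296)) (tt N21416 (iv0 D69399)) (tt N41913 (iv2 F105683)) (tt N57726 (iv3 F341452)) (tt N75579 D148129) (tt N33609 F105682) (tt N57725 (iv6 F341455)) (tt N41910 (iv7 F105684)))
theorem Q42244 : ∀ i, i < 42244 → P i := stepQ 42243 Q42243 (allL N42243 (tt N21416 (iv1 D69400)) (tt N62992 (iv0 F184295)) (tt N41910 (iv2 F105688)) (tt N75580 D148131) (tt N75581 D148132) (tt N33610 F105687) (tt N75582 D148133) (tt N41913 F105686))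
theorem Q42245 : ∀ i, i < 42245 → P i := stepQ 42244 Q42244 (allL N42244 (tt N75583 D148134) (tt N75584 D148135) (tt N60733 (iv2 F176804)) (tt N75585 D148136) (tt N21416 (iv4 D69401)) (tt N60724 (iv5 F176783)) (tt N68964 (iv6 F351931)) (tt N63001 (iv7 F184321)))
theorem Q42246 : ∀ i, i < 42246 → P i := stepQ 42245 Q42245 (allL N42245 (tt N63976 (iv1 F352317)) (tt N67868 (iv0 F351933)) (tt N75573 (iv2 F231915)) (tt N72820 (iv3 F223267)) (tt N68964 (iv4 F351930)) (tt N63919 (iv5 F314111)) (tt N21416 (iv6 D69402)) (tt N75586 D148141))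
theorem Q42247 : ∀ i, i < 42247 → P i := stepQ 42246 Q42246 (allL N42246 (tt N21417 (iv1 D69404)) (tt N35046 F311634) (tt N34914 F311635) (tt N32619 (iv3 F314108)) (tt N63409 F311636) (tt N34913 (iv5 F314109)) (tt N75587 D148151) (tt N35041 F311637))
theorem Q42248 : ∀ i, i < 42248 → P i := stepQ 42247 Q42247 (allL N42247 (tt N34914 (iv1 F309438)) (tt N35041 (iv0 F309435)) (tt N35046 (iv2 F309416)) (tt N21653 (iv3 F309442)) (tt N21421 F105689) (tt N34843 (iv5 F309443)) (tt N62945 (iv6 F321909)) (tt N21417 (iv7 D69406)))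
theorem Q42249 : ∀ i, i < 42249 → P i := stepQ 42248 Q42248 (allL N42248 (tt N44598 F130316) (tt N21507 F130317) (tt N44597 F130318) (tt N21418 (iv3 D69408)) (tt N74748 (iv4 F228865)) (tt N43154 F130319) (tt N63044 (iv6 F310940)) (tt N43153 F130320))
theorem Q42250 : ∀ i, i < 42250 → P i := stepQ 42249 Q42249 (allL N42249 (tt N64420 (iv1 F309423)) (tt N43659 (iv0 F309420)) (tt N75574 (iv2 F231925)) (tt N46962 (iv3 F309446)) (tt N21418 (iv4 D69409)) (tt N43645 (iv5 F309447)) (tt N75588 D148160) (tt N75575 (iv7 F231930)))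
theorem Q42251 : ∀ i, i < 42251 → P i := stepQ 42250 Q42250 (allL N42250 (tt N42693 (iv1 F306199)) (tt N21836 (iv0 F306198)) (tt N24262 (iv2 F306200)) (tt N43154 (iv3 F130324)) (tt N34844 (iv4 F306201)) (tt N21418 (iv5 D69410)) (tt N63042 (iv6 F315557)) (tt N42692 F304100))
theorem Q42252 : ∀ i, i < 42252 → P i := stepQ 42251 Q42251 (allL N42251 (tt N74341 (iv1 F322011)) (tt N75170 (iv0 F314051)) (tt N75158 (iv2 F230376)) (tt N63044 (iv3 F310939)) (tt N75588 (iv4 F231974)) (tt N63043 (iv5 F310938)) (tt N21418 (iv6 D69411)) (tt N75156 (iv7 F230371)))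
theorem Q42253 : ∀ i, i < 42253 → P i := stepQ 42252 Q42252 (allL N42252 (tt N43659 (iv1 F309421)) (tt N64420 (iv0 F309422)) (tt N75575 (iv2 F231929)) (tt N51645 (iv3 F309424)) (tt N21419 (iv4 D69414)) (tt N43646 (iv5 F309425)) (tt N75589 D148167) (tt N75574 (iv7 F231926)))
theorem Q42254 : ∀ i, i < 42254 → P i := stepQ 42253 Q42253 (allL N42253 (tt N44857 (iv1 F131623)) (tt N44858 F131624) (tt N44860 (iv2 F130332)) (tt N48415 (iv3 F305365)) (tt N75589 (iv4 F231978)) (tt N46136 F302978) (tt N21419 (iv6 D69416)) (tt N44859 F130327))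
theorem Q42255 : ∀ i, i < 42255 → P i := stepQ 42254 Q42254 (allL N42254 (tt N62900 (iv1 F252076)) (tt N46607 (iv0 F312004)) (tt N62935 (iv2 F186347)) (tt N42665 (iv3 F312005)) (tt N21422 (iv4 D69449)) (tt N75590 D148184) (tt N75591 D148185) (tt N62834 (iv7 F310212)))
theorem Q42256 : ∀ i, i < 42256 → P i := stepQ 42255 Q42255 (allL N42255 (tt N52822 (iv1 F306210)) (tt N75592 D148186) (tt N45569 F305799) (tt N21423 F105748) (tt N27982 F305800) (tt N21422 (iv5 D69450)) (tt N33947 F112122) (tt N34122 (iv7 F306209)))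
theorem Q42257 : ∀ i, i < 42257 → P i := stepQ 42256 Q42256 (allL N42256 (tt N43300 (iv1 F131072)) (tt N34556 (iv0 F131071)) (tt N44875 F184519) (tt N21424 F105749) (tt N75591 (iv4 F232003)) (tt N44043 (iv5 F131189)) (tt N21422 (iv6 D69451)) (tt N44874 F184518))
theorem Q42258 : ∀ i, i < 42258 → P i := stepQ 42257 Q42257 (allL N42257 (tt N37439 (iv1 F308976)) (tt N41326 (iv0 F105751)) (tt N63020 (iv2 F184444)) (tt N44043 F131190) (tt N38339 F307122) (tt N21424 (iv5 D69456)) (tt N44042 (iv6 F131193)) (tt N46110 F120331))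
theorem Q42259 : ∀ i, i < 42259 → P i := stepQ 42258 Q42258 (allL N42258 (tt N21427 (iv1 F105795)) (tt N21425 (iv0 D69477)) (tt N48386 (iv2 F330658)) (tt N75593 D148203) (tt N40281 (iv4 F105778)) (tt N44949 (iv5 F330659)) (tt N75594 D148205) (tt N62536 F182041))
theorem Q42260 : ∀ i, i < 42260 → P i := stepQ 42259 Q42259 (allL N42259 (tt N21425 (iv1 D69478)) (tt N21427 F105782) (tt N62536 (iv2 F182042)) (tt N75273 F230989) (tt N66737 F205294) (tt N48387 (iv5 F330674)) (tt N75595 D148207) (tt N48386 F330664))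
theorem Q42261 : ∀ i, i < 42261 → P i := stepQ 42260 Q42260 (allL N42260 (tt N75596 D148209) (tt N75597 D148210) (tt N62539 (iv2 F182066)) (tt N24010 F320117) (tt N59827 (iv4 F174156)) (tt N21425 (iv5 D69480)) (tt N24009 (iv6 F321852)) (tt N58884 F173396))
theorem Q42262 : ∀ i, i < 42262 → P i := stepQ 42261 Q42261 (allL N42261 (tt N40465 (iv1 F180374)) (tt N40462 F105797) (tt N42671 (iv2 F320905)) (tt N46075 (iv3 F321305)) (tt N21426 (iv4 D69491)) (tt N75598 D148234) (tt N42670 (iv6 F321307)) (tt N62537 (iv7 F182060)))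
theorem Q42263 : ∀ i, i < 42263 → P i := stepQ 42262 Q42262 (allL N42262 (tt N43265 (iv1 F321178)) (tt N43268 F321010) (tt N61366 F321011) (tt N21427 (iv3 D69493)) (tt N46075 (iv4 F321306)) (tt N75599 D148241) (tt N43245 (iv6 F322763)) (tt N62538 (iv7 F182064)))
theorem Q42264 : ∀ i, i < 42264 → P i := stepQ 42263 Q42263 (allL N42263 (tt N75597 (iv1 F232049)) (tt N75596 F232048) (tt N58884 F173397) (tt N75599 (iv3 F232073)) (tt N75600 D148243) (tt N21427 (iv5 D69494)) (tt N75601 D148244) (tt N62539 (iv7 F182067)))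
theorem Q42265 : ∀ i, i < 42265 → P i := stepQ 42264 Q42264 (allL N42264 (tt N21432 (iv1 F105803)) (tt N21428 (iv0 D69500)) (tt N21429 F318751) (tt N75264 (iv3 F326244)) (tt N75602 D148265) (tt N75603 D148266) (tt N62882 (iv6 F321817)) (tt N21430 (iv7 F320889)))
theorem Q42266 : ∀ i, i < 42266 → P i := stepQ 42265 Q42265 (allL N42265 (tt N58890 (iv1 F326956)) (tt N63228 F317237) (tt N21431 F105801) (tt N63030 (iv3 F184486)) (tt N75604 D148275) (tt N21428 (iv5 D69502)) (tt N43993 F317233) (tt N63227 F317238))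
theorem Q42267 : ∀ i, i < 42267 → P i := stepQ 42266 Q42266 (allL N42266 (tt N21430 (iv1 F105804)) (tt N21429 F105805) (tt N21432 F105802) (tt N63031 (iv3 F184489)) (tt N75394 (iv4 F231430)) (tt N63227 (iv5 F317225)) (tt N43934 F315905) (tt N21428 (iv7 D69503)))
theorem Q42268 : ∀ i, i < 42268 → P i := stepQ 42267 Q42267 (allL N42267 (tt N75605 D148290) (tt N75595 (iv0 F350977)) (tt N75602 (iv2 F320884)) (tt N75606 D148292) (tt N21429 (iv4 D69506)) (tt N57668 (iv5 F337679)) (tt N47560 F334101) (tt N73972 (iv7 F321820)))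
theorem Q42269 : ∀ i, i < 42269 → P i := stepQ 42268 Q42268 (allL N42268 (tt N75607 D148296) (tt N74355 (iv0 F337164)) (tt N75603 (iv2 F320886)) (tt N34123 F323522) (tt N34138 (iv4 F324849)) (tt N21429 (iv5 D69507)) (tt N34122 (iv6 F324850)) (tt N73973 F323523))
theorem Q42270 : ∀ i, i < 42270 → P i := stepQ 42269 Q42269 (allL N42269 (tt N73968 (iv1 F346199)) (tt N75608 D148307) (tt N62557 (iv2 F359298)) (tt N21430 (iv3 D69510)) (tt N75609 D148309) (tt N75610 D148310) (tt N43639 F325366) (tt N75264 (iv7 F326245)))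
theorem Q42271 : ∀ i, i < 42271 → P i := stepQ 42270 Q42270 (allL N42270 (tt N75595 (iv1 F350978)) (tt N75605 F232115) (tt N73972 (iv2 F321819)) (tt N75611 D148312) (tt N21430 (iv4 D69511)) (tt N71154 (iv5 F337174)) (tt N73970 (iv6 F324157)) (tt N75602 (iv7 F320885)))
theorem Q42272 : ∀ i, i < 42272 → P i := stepQ 42271 Q42271 (allL N42271 (tt N74355 (iv1 F337165)) (tt N75607 F232119) (tt N73973 F323524) (tt N75610 (iv3 F232121)) (tt N46851 (iv4 F324857)) (tt N21430 (iv5 D69512)) (tt N33948 (iv6 F324858)) (tt N75603 (iv7 F320887)))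
theorem Q42273 : ∀ i, i < 42273 → P i := stepQ 42272 Q42272 (allL N42272 (tt N21431 (iv1 D69515)) (tt N63227 F317235) (tt N63228 (iv2 F319522)) (tt N37497 (iv3 F319523)) (tt N37123 (iv4 F319524)) (tt N64044 (iv5 F319525)) (tt N37122 (iv6 F319526)) (tt N58890 (iv7 F326961)))
theorem Q42274 : ∀ i, i < 42274 → P i := stepQ 42273 Q42273 (allL N42273 (tt N59464 (iv1 F351637)) (tt N69277 (iv0 F319527)) (tt N75604 (iv2 F232094)) (tt N75612 D148333) (tt N21431 (iv4 D69516)) (tt N66046 (iv5 F351644)) (tt N62552 (iv6 F182100)) (tt N68407 F317239))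
theorem Q42275 : ∀ i, i < 42275 → P i := stepQ 42274 Q42274 (allL N42274 (tt N27941 (iv1 F317888)) (tt N21433 (iv0 D69518)) (tt N46647 (iv2 F317891)) (tt N75608 (iv3 F346192)) (tt N75613 D148339) (tt N38278 (iv5 F317899)) (tt N62555 (iv6 F353107)) (tt N46653 (iv7 F317901)))
theorem Q42276 : ∀ i, i < 42276 → P i := stepQ 42275 Q42275 (allL N42275 (tt N46647 (iv1 F317880)) (tt N46653 (iv0 F317881)) (tt N21433 (iv2 D69520)) (tt N63040 (iv3 F184500)) (tt N75614 D148347) (tt N24187 (iv5 F317886)) (tt N75157 F315595) (tt N27941 (iv7 F317890)))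
theorem Q42277 : ∀ i, i < 42277 → P i := stepQ 42276 Q42276 (allL N42276 (tt N46632 (iv1 F317906)) (tt N46633 (iv0 F317907)) (tt N75614 (iv2 F232135)) (tt N56082 (iv3 F162543)) (tt N21433 (iv4 D69521)) (tt N52756 (iv5 F317908)) (tt N75615 D148353) (tt N48411 (iv7 F317909)))
theorem Q42278 : ∀ i, i < 42278 → P i := stepQ 42277 Q42277 (allL N42277 (tt N42006 (iv1 F313206)) (tt N75268 (iv0 F313207)) (tt N75157 F315593) (tt N21435 F105811) (tt N75615 (iv4 F232138)) (tt N48761 F315594) (tt N21433 (iv6 D69523)) (tt N43675 F310961))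
theorem Q42279 : ∀ i, i < 42279 → P i := stepQ 42278 Q42278 (allL N42278 (tt N21434 (iv1 D69525)) (tt N21437 F105824) (tt N43155 F315605) (tt N74355 (iv3 F322640)) (tt N45582 (iv4 F316274)) (tt N34345 F105825) (tt N69421 (iv6 F317912)) (tt N37388 F315606))
theorem Q42280 : ∀ i, i < 42280 → P i := stepQ 42279 Q42279 (allL N42279 (tt N40831 F105826) (tt N72687 F222888) (tt N63044 (iv2 F184521)) (tt N48761 (iv3 F313208)) (tt N70560 (iv4 F313209)) (tt N21435 (iv5 D69529)) (tt N44597 (iv6 F313210)) (tt N43940 F310962))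
theorem Q42281 : ∀ i, i < 42281 → P i := stepQ 42280 Q42280 (allL N42280 (tt N21436 (iv1 D69532)) (tt N63040 F184504) (tt N63039 (iv2 F319982)) (tt N43937 (iv3 F319983)) (tt N75616 D148379) (tt N44590 (iv5 F319984)) (tt N43936 (iv6 F319985)) (tt N62482 (iv7 F319986)))
theorem Q42282 : ∀ i, i < 42282 → P i := stepQ 42281 Q42281 (allL N42281 (tt N62482 (iv1 F317782)) (tt N63039 F184499) (tt N21436 (iv2 D69533)) (tt N27941 (iv3 F317889)) (tt N70067 (iv4 F361226)) (tt N27940 (iv5 F319981)) (tt N34184 (iv6 F317872)) (tt N63040 (iv7 F184501)))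
theorem Q42283 : ∀ i, i < 42283 → P i := stepQ 42282 Q42282 (allL N42282 (tt N73957 (iv1 F330651)) (tt N75617 D148386) (tt N70067 (iv2 F361224)) (tt N37076 F321785) (tt N21436 (iv4 D69534)) (tt N37075 (iv5 F323492)) (tt N43935 F317783) (tt N63041 (iv7 F184506)))
theorem Q42284 : ∀ i, i < 42284 → P i := stepQ 42283 Q42283 (allL N42283 (tt N75618 D148389) (tt N75619 D148390) (tt N27940 (iv2 F319980)) (tt N21437 F105828) (tt N75620 D148391) (tt N21436 (iv5 D69535)) (tt N27938 (iv6 F320005)) (tt N63042 (iv7 F184508)))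
theorem Q42285 : ∀ i, i < 42285 → P i := stepQ 42284 Q42284 (allL N42284 (tt N70066 F330233) (tt N47031 F330234) (tt N70081 (iv2 F330237)) (tt N21438 (iv3 D69546)) (tt N75612 (iv4 F232126)) (tt N25271 F105831) (tt N47041 F319373) (tt N25296 F105832))
theorem Q42286 : ∀ i, i < 42286 → P i := stepQ 42285 Q42285 (allL N42285 (tt N66720 F205243) (tt N54835 (iv0 F314437)) (tt N63056 (iv2 F205256)) (tt N45145 (iv3 F321216)) (tt N21439 (iv4 D69550)) (tt N27214 (iv5 F321217)) (tt N74868 (iv6 F232266)) (tt N62785 (iv7 F232269)))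
theorem Q42287 : ∀ i, i < 42287 → P i := stepQ 42286 Q42286 (allL N42286 (tt N50749 (iv1 F318929)) (tt N63014 (iv0 F205249)) (tt N21441 F105838) (tt N75621 D148439) (tt N21440 (iv4 D69558)) (tt N54757 (iv5 F333313)) (tt N68576 (iv6 F312186)) (tt N63057 (iv7 F184820)))
theorem Q42288 : ∀ i, i < 42288 → P i := stepQ 42287 Q42287 (allL N42287 (tt N44005 (iv1 F232917)) (tt N44002 (iv0 F232668)) (tt N21442 F105839) (tt N63048 (iv3 F184784)) (tt N45246 F306296) (tt N21440 (iv5 D69559)) (tt N45244 F306297) (tt N45218 (iv7 F232243)))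
theorem Q42289 : ∀ i, i < 42289 → P i := stepQ 42288 Q42288 (allL N42288 (tt N63057 (iv1 F184831)) (tt N21441 (iv0 D69561)) (tt N50749 (iv2 F318930)) (tt N50767 (iv3 F363381)) (tt N75622 D148447) (tt N50748 (iv5 F317603)) (tt N75536 (iv6 F231774)) (tt N63014 F184832))
theorem Q42290 : ∀ i, i < 42290 → P i := stepQ 42289 Q42289 (allL N42289 (tt N75623 D148449) (tt N66769 (iv0 F359301)) (tt N75624 D148451) (tt N21441 (iv3 D69563)) (tt N21445 F105841) (tt N75625 D148452) (tt N75266 (iv6 F312029)) (tt N63059 (iv7 F184845)))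
theorem Q42291 : ∀ i, i < 42291 → P i := stepQ 42290 Q42290 (allL N42290 (tt N54758 (iv1 F333314)) (tt N53428 (iv0 F333298)) (tt N54757 (iv2 F333312)) (tt N75625 (iv3 F232200)) (tt N75626 D148456) (tt N21441 (iv5 D69564)) (tt N49310 F349281) (tt N54756 (iv7 F333310)))
theorem Q42292 : ∀ i, i < 42292 → P i := stepQ 42291 Q42291 (allL N42291 (tt N43247 F309826) (tt N75627 D148459) (tt N68576 (iv2 F312184)) (tt N75266 (iv3 F312027)) (tt N21443 F105842) (tt N60165 (iv5 F335869)) (tt N21441 (iv6 D69565)) (tt N75628 D148461))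
theorem Q42293 : ∀ i, i < 42293 → P i := stepQ 42292 Q42292 (allL N42292 (tt N45218 (iv1 F232239)) (tt N21442 (iv0 D69566)) (tt N44005 (iv2 F232914)) (tt N75478 (iv3 F233219)) (tt N75629 D148464) (tt N34350 F232209) (tt N43927 (iv6 F232625)) (tt N44002 (iv7 F232909)))
theorem Q42294 : ∀ i, i < 42294 → P i := stepQ 42293 Q42293 (allL N42293 (tt N38352 F312066) (tt N21443 (iv0 D69570)) (tt N44498 (iv2 F312174)) (tt N42350 (iv3 F308332)) (tt N21539 (iv4 F309870)) (tt N37521 F312067) (tt N21538 (iv6 F308061)) (tt N68575 F312068))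
theorem Q42295 : ∀ i, i < 42295 → P i := stepQ 42294 Q42294 (allL N42294 (tt N21443 (iv1 D69571)) (tt N38352 F312046) (tt N68575 F312047) (tt N43924 F232624) (tt N75630 D148475) (tt N30516 F312048) (tt N73942 (iv6 F314421)) (tt N44498 (iv7 F312175)))
theorem Q42296 : ∀ i, i < 42296 → P i := stepQ 42295 Q42295 (allL N42295 (tt N68575 (iv1 F310049)) (tt N44498 (iv0 F312173)) (tt N38352 (iv2 F311210)) (tt N21452 F105846) (tt N75628 (iv4 F232206)) (tt N38350 F309929) (tt N46234 (iv6 F312049)) (tt N21443 (iv7 D69573)))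
theorem Q42297 : ∀ i, i < 42297 → P i := stepQ 42296 Q42296 (allL N42296 (tt N36232 (iv1 F316534)) (tt N21845 (iv0 F316535)) (tt N46198 (iv2 F316536)) (tt N21444 (iv3 D69574)) (tt N41435 (iv4 F316537)) (tt N37507 F315559) (tt N21627 F315560) (tt N29744 F105848))
theorem Q42298 : ∀ i, i < 42298 → P i := stepQ 42297 Q42297 (allL N42297 (tt N63066 (iv1 F184860)) (tt N21445 (iv0 D69576)) (tt N63065 (iv2 F317822)) (tt N75631 D148484) (tt N50760 (iv4 F317796)) (tt N37498 (iv5 F317797)) (tt N73156 (iv6 F363057)) (tt N62240 (iv7 F317821)))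
theorem Q42299 : ∀ i, i < 42299 → P i := stepQ 42298 Q42298 (allL N42298 (tt N63065 (iv1 F184861)) (tt N62240 (iv0 F318762)) (tt N21445 (iv2 D69578)) (tt N63054 (iv3 F184796)) (tt N75624 (iv4 F232199)) (tt N75632 D148493) (tt N75633 D148494) (tt N63066 (iv7 F184859)))
theorem Q42300 : ∀ i, i < 42300 → P i := stepQ 42299 Q42299 (allL N42299 (tt N68567 (iv1 F317805)) (tt N75634 D148496) (tt N75632 (iv2 F233249)) (tt N21446 F105854) (tt N75610 (iv4 F324854)) (tt N21445 (iv5 D69579)) (tt N68594 (iv6 F315919)) (tt N38382 (iv7 F317820)))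
theorem Q42301 : ∀ i, i < 42301 → P i := stepQ 42300 Q42300 (allL N42300 (tt N45323 (iv1 F313170)) (tt N75635 D148500) (tt N75633 (iv2 F233250)) (tt N21447 F105855) (tt N75266 (iv4 F312028)) (tt N75636 D148501) (tt N21445 (iv6 D69580)) (tt N46230 (iv7 F310963)))
theorem Q42302 : ∀ i, i < 42302 → P i := stepQ 42301 Q42301 (allL N42301 (tt N21447 (iv1 D69585)) (tt N21634 F308791) (tt N41706 F308792) (tt N75637 D148510) (tt N36371 F105877) (tt N41684 (iv5 F310979)) (tt N33598 (iv6 F310980)) (tt N21645 F308793))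
theorem Q42303 : ∀ i, i < 42303 → P i := stepQ 42302 Q42302 (allL N42302 (tt N40636 F105876) (tt N72745 F223066) (tt N41614 (iv2 F310970)) (tt N75636 (iv3 F233252)) (tt N47530 (iv4 F325799)) (tt N21447 (iv5 D69586)) (tt N41596 (iv6 F313181)) (tt N46235 (iv7 F310964)))
theorem Q42304 : ∀ i, i < 42304 → P i := stepQ 42303 Q42303 (allL N42303 (tt N23056 F130250) (tt N62910 (iv0 F184109)) (tt N62975 F184257) (tt N21448 (iv3 D69588)) (tt N75638 D148513) (tt N34246 (iv5 F113949)) (tt N43943 (iv6 F110225)) (tt N22156 F105880))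
theorem Q42305 : ∀ i, i < 42305 → P i := stepQ 42304 Q42304 (allL N42304 (tt N21832 F107358) (tt N34428 (iv0 F309366)) (tt N42696 (iv2 F131048)) (tt N38361 (iv3 F309613)) (tt N21451 (iv4 D69591)) (tt N46575 F312548) (tt N30513 F309327) (tt N42695 F131050))
theorem Q42306 : ∀ i, i < 42306 → P i := stepQ 42305 Q42305 (allL N42305 (tt N75036 (iv1 F230154)) (tt N75035 F230153) (tt N63046 (iv2 F184561)) (tt N54732 (iv3 F355599)) (tt N21453 (iv4 D69599)) (tt N75639 D148516) (tt N54731 (iv6 F346306)) (tt N62744 F183442))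
theorem Q42307 : ∀ i, i < 42307 → P i := stepQ 42306 Q42306 (allL N42306 (tt N63000 (iv1 F184566)) (tt N63049 F184788) (tt N21455 F105884) (tt N75640 D148517) (tt N21454 (iv4 D69602)) (tt N75641 D148518) (tt N75642 D148519) (tt N63047 (iv7 F184564)))
theorem Q42308 : ∀ i, i < 42308 → P i := stepQ 42307 Q42307 (allL N42307 (tt N22128 F131188) (tt N44033 F131180) (tt N21456 F105885) (tt N45218 (iv3 F232241)) (tt N75643 D148520) (tt N21454 (iv5 D69603)) (tt N22104 (iv6 F130870)) (tt N63048 (iv7 F184785)))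
theorem Q42309 : ∀ i, i < 42309 → P i := stepQ 42308 Q42308 (allL N42308 (tt N62870 F183958) (tt N62778 F183648) (tt N21457 F105887) (tt N63058 (iv3 F184841)) (tt N75642 (iv4 F233271)) (tt N75644 D148521) (tt N21454 (iv6 D69604)) (tt N44862 F130920))
theorem Q42310 : ∀ i, i < 42310 → P i := stepQ 42309 Q42309 (allL N42309 (tt N21455 (iv1 D69606)) (tt N63047 F184565) (tt N63049 (iv2 F230228)) (tt N75645 D148522) (tt N75646 D148523) (tt N75647 D148524) (tt N75578 (iv6 F231937)) (tt N63000 F230227))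
theorem Q42311 : ∀ i, i < 42311 → P i := stepQ 42310 Q42310 (allL N42310 (tt N72813 (iv1 F366426)) (tt N75648 D148526) (tt N73924 (iv2 F366556)) (tt N21455 (iv3 D69607)) (tt N21458 F105888) (tt N75649 D148528) (tt N46196 F317922) (tt N63050 (iv7 F184791)))
theorem Q42312 : ∀ i, i < 42312 → P i := stepQ 42311 Q42311 (allL N42311 (tt N64780 (iv1 F331650)) (tt N75650 D148531) (tt N75641 (iv2 F233269)) (tt N75649 (iv3 F233289)) (tt N75651 D148532) (tt N21455 (iv5 D69608)) (tt N75652 D148533) (tt N63051 (iv7 F184792)))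
theorem Q42313 : ∀ i, i < 42313 → P i := stepQ 42312 Q42312 (allL N42312 (tt N75653 D148534) (tt N75654 D148535) (tt N75642 (iv2 F233270)) (tt N46196 (iv3 F317789)) (tt N21457 F105889) (tt N75655 D148536) (tt N21455 (iv6 D69609)) (tt N73925 F316526))
theorem Q42314 : ∀ i, i < 42314 → P i := stepQ 42313 Q42313 (allL N42313 (tt N63048 (iv1 F184787)) (tt N21456 (iv0 D69610)) (tt N22128 F188611) (tt N41262 F317153) (tt N75656 D148538) (tt N34338 F188613) (tt N22065 F188614) (tt N44033 F188615))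
theorem Q42315 : ∀ i, i < 42315 → P i := stepQ 42314 Q42314 (allL N42314 (tt N21456 (iv1 D69611)) (tt N63048 (iv0 F184786)) (tt N44033 F188608) (tt N75457 F231550) (tt N75657 D148539) (tt N34339 F188609) (tt N75658 D148540) (tt N22128 F188610))
theorem Q42316 : ∀ i, i < 42316 → P i := stepQ 42315 Q42315 (allL N42315 (tt N75659 D148541) (tt N75660 D148542) (tt N75643 (iv2 F233272)) (tt N45502 (iv3 F116131)) (tt N21456 (iv4 D69612)) (tt N75661 D148543) (tt N23065 F105890) (tt N63052 (iv7 F184794)))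
theorem Q42317 : ∀ i, i < 42317 → P i := stepQ 42316 Q42316 (allL N42316 (tt N21457 (iv1 D69614)) (tt N44862 F130922) (tt N62778 (iv2 F183546)) (tt N74998 (iv3 F230043)) (tt N75662 D148544) (tt N62771 F183506) (tt N62994 (iv6 F184299)) (tt N62870 (iv7 F183956)))
theorem Q42318 : ∀ i, i < 42318 → P i := stepQ 42317 Q42317 (allL N42317 (tt N42230 F183296) (tt N75663 D148545) (tt N75644 (iv2 F233275)) (tt N21460 F105891) (tt N75664 D148546) (tt N21457 (iv5 D69615)) (tt N23066 F105892) (tt N33746 (iv7 F130903)))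
theorem Q42319 : ∀ i, i < 42319 → P i := stepQ 42318 Q42318 (allL N42318 (tt N62778 F183644) (tt N62870 (iv0 F183957)) (tt N44862 (iv2 F130905)) (tt N21461 F105893) (tt N73925 (iv4 F314578)) (tt N33746 (iv5 F130902)) (tt N44857 F130904) (tt N21457 (iv7 D69616)))
theorem Q42320 : ∀ i, i < 42320 → P i := stepQ 42319 Q42319 (allL N42319 (tt N21458 (iv1 D69618)) (tt N63054 F184800) (tt N63053 (iv2 F320084)) (tt N75665 D148553) (tt N75666 D148554) (tt N69629 (iv5 F320085)) (tt N72811 (iv6 F360914)) (tt N62317 (iv7 F320086)))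
theorem Q42321 : ∀ i, i < 42321 → P i := stepQ 42320 Q42320 (allL N42320 (tt N62317 (iv1 F317919)) (tt N63053 F184795) (tt N21458 (iv2 D69619)) (tt N63066 (iv3 F184858)) (tt N73924 (iv4 F366557)) (tt N42465 (iv5 F320081)) (tt N46193 F317917) (tt N63054 (iv7 F184797)))
theorem Q42322 : ∀ i, i < 42322 → P i := stepQ 42321 Q42321 (allL N42321 (tt N33619 (iv1 F105904)) (tt N33621 (iv0 F105905)) (tt N41827 F105901) (tt N33746 F130901) (tt N25056 (iv4 F313338)) (tt N21461 F105902) (tt N33743 (iv6 F130899)) (tt N21460 (iv7 D69630)))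
theorem Q42323 : ∀ i, i < 42323 → P i := stepQ 42322 Q42322 (allL N42322 (tt N75536 (iv1 F338190)) (tt N63016 (iv0 F237578)) (tt N74869 (iv2 F327713)) (tt N75667 D148593) (tt N21462 (iv4 D69640)) (tt N75668 D148594) (tt N75669 D148595) (tt N63071 (iv7 F184916)))
theorem Q42324 : ∀ i, i < 42324 → P i := stepQ 42323 Q42323 (allL N42323 (tt N74321 (iv1 F333257)) (tt N74320 (iv0 F333245)) (tt N74322 (iv2 F363468)) (tt N21464 F105958) (tt N72574 (iv4 F341127)) (tt N21462 (iv5 D69641)) (tt N75670 D148599) (tt N63072 (iv7 F184918)))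
theorem Q42325 : ∀ i, i < 42325 → P i := stepQ 42324 Q42324 (allL N42324 (tt N75534 (iv1 F278368)) (tt N75569 (iv0 F278370)) (tt N74870 (iv2 F327715)) (tt N21465 F105959) (tt N75669 (iv4 F233350)) (tt N37389 (iv5 F105960)) (tt N21462 (iv6 D69642)) (tt N69416 (iv7 F214290)))
theorem Q42326 : ∀ i, i < 42326 → P i := stepQ 42325 Q42325 (allL N42325 (tt N73156 (iv1 F363055)) (tt N62243 (iv0 F339623)) (tt N54130 (iv2 F314922)) (tt N21463 (iv3 D69645)) (tt N75667 (iv4 F233348)) (tt N25455 F312478) (tt N24317 (iv6 F314926)) (tt N36233 F166592))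
theorem Q42327 : ∀ i, i < 42327 → P i := stepQ 42326 Q42326 (allL N42326 (tt N29744 F317923) (tt N46198 (iv0 F314927)) (tt N36232 F166599) (tt N24317 (iv3 F314925)) (tt N21465 F105963) (tt N21846 (iv5 F314931)) (tt N21463 (iv6 D69647)) (tt N21845 (iv7 F314934)))
theorem Q42328 : ∀ i, i < 42328 → P i := stepQ 42327 Q42327 (allL N42327 (tt N21468 (iv1 F105965)) (tt N21464 (iv0 D69648)) (tt N41835 (iv2 F105972)) (tt N72679 (iv3 F349395)) (tt N60095 (iv4 F321475)) (tt N33622 F105964) (tt N25145 F105997) (tt N43998 F313297))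
theorem Q42329 : ∀ i, i < 42329 → P i := stepQ 42328 Q42328 (allL N42328 (tt N21464 (iv1 D69649)) (tt N21468 F105967) (tt N43998 (iv2 F311446)) (tt N75495 (iv3 F243045)) (tt N45787 (iv4 F311379)) (tt N34600 F310815) (tt N22540 (iv6 F105968)) (tt N41835 (iv7 F105970)))
theorem Q42330 : ∀ i, i < 42330 → P i := stepQ 42329 Q42329 (allL N42329 (tt N74822 (iv1 F229386)) (tt N65085 (iv0 F309219)) (tt N63069 (iv2 F184901)) (tt N75311 (iv3 F335063)) (tt N21464 (iv4 D69650)) (tt N74832 (iv5 F229427)) (tt N47306 F323726) (tt N63074 (iv7 F184921)))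
theorem Q42331 : ∀ i, i < 42331 → P i := stepQ 42330 Q42330 (allL N42330 (tt N63772 F189480) (tt N25137 (iv0 F106004)) (tt N63070 (iv2 F184903)) (tt N75670 (iv3 F233351)) (tt N47306 F323725) (tt N37391 F106003) (tt N21464 (iv6 D69651)) (tt N65299 (iv7 F200689)))
theorem Q42332 : ∀ i, i < 42332 → P i := stepQ 42331 Q42331 (allL N42331 (tt N62998 (iv1 F356573)) (tt N75578 (iv0 F356574)) (tt N74343 (iv2 F322279)) (tt N75671 D148630) (tt N21466 (iv4 D69655)) (tt N75672 D148631) (tt N59309 (iv6 F356571)) (tt N63067 (iv7 F184891)))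
theorem Q42333 : ∀ i, i < 42333 → P i := stepQ 42332 Q42332 (allL N42332 (tt N75156 (iv1 F237522)) (tt N75158 (iv0 F239156)) (tt N74341 (iv2 F322012)) (tt N21469 F106006) (tt N59309 (iv4 F356570)) (tt N40807 F320309) (tt N21466 (iv6 D69657)) (tt N75170 F315214))
theorem Q42334 : ∀ i, i < 42334 → P i := stepQ 42333 Q42333 (allL N42333 (tt N62314 (iv1 F317433)) (tt N72811 (iv0 F360909)) (tt N44000 (iv2 F315207)) (tt N21467 (iv3 D69658)) (tt N75671 (iv4 F233386)) (tt N34348 F312713) (tt N41714 (iv6 F315208)) (tt N36231 (iv7 F166595)))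
theorem Q42335 : ∀ i, i < 42335 → P i := stepQ 42334 Q42334 (allL N42334 (tt N65085 (iv1 F309220)) (tt N74822 (iv0 F229385)) (tt N63074 (iv2 F184920)) (tt N75673 D148645) (tt N21468 (iv4 D69661)) (tt N69211 F317160) (tt N37911 (iv6 F318246)) (tt N63069 (iv7 F184902)))
theorem Q42336 : ∀ i, i < 42336 → P i := stepQ 42335 Q42335 (allL N42335 (tt N65287 (iv1 F233412)) (tt N62791 (iv0 F233411)) (tt N74871 F233153) (tt N21470 (iv3 D69665)) (tt N75674 D148650) (tt N55810 (iv5 F315199)) (tt N40493 F318437) (tt N63076 F200099))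
theorem Q42337 : ∀ i, i < 42337 → P i := stepQ 42336 Q42336 (allL N42336 (tt N48141 (iv1 F167443)) (tt N36385 F167444) (tt N63075 F200233) (tt N42143 (iv3 F334592)) (tt N21470 (iv4 D69666)) (tt N42141 F334588) (tt N40497 F318476) (tt N63077 F200100))
theorem Q42338 : ∀ i, i < 42338 → P i := stepQ 42337 Q42337 (allL N42337 (tt N21907 F200085) (tt N39981 F318258) (tt N39986 F318390) (tt N21471 (iv3 D69669)) (tt N75675 D148655) (tt N74986 (iv5 F229964)) (tt N33407 F322201) (tt N39987 F318391))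
theorem Q42339 : ∀ i, i < 42339 → P i := stepQ 42338 Q42338 (allL N42338 (tt N36385 F167440) (tt N48141 F167441) (tt N63077 (iv2 F200232)) (tt N75676 D148656) (tt N21471 (iv4 D69670)) (tt N75677 D148657) (tt N66566 (iv6 F321578)) (tt N63075 (iv7 F200234)))
theorem Q42340 : ∀ i, i < 42340 → P i := stepQ 42339 Q42339 (allL N42339 (tt N63459 F187565) (tt N63460 (iv0 F187569)) (tt N63078 F200221) (tt N33407 F322196) (tt N66566 (iv4 F321577)) (tt N43989 F110416) (tt N21471 (iv6 D69671)) (tt N40505 (iv7 F311270)))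
theorem Q42341 : ∀ i, i < 42341 → P i := stepQ 42340 Q42340 (allL N42340 (tt N25186 (iv1 F106016)) (tt N21472 (iv0 D69672)) (tt N44123 F199973) (tt N75678 D148659) (tt N41581 F318625) (tt N75679 D148660) (tt N41580 F318626) (tt N44124 (iv7 F199977)))
theorem Q42342 : ∀ i, i < 42342 → P i := stepQ 42341 Q42341 (allL N42341 (tt N21472 (iv1 D69673)) (tt N25186 F106017) (tt N44124 F200084) (tt N57668 (iv3 F319646)) (tt N44376 F317392) (tt N75606 (iv5 F354268)) (tt N45596 (iv6 F324666)) (tt N44123 F199969))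
theorem Q42343 : ∀ i, i < 42343 → P i := stepQ 42342 Q42342 (allL N42342 (tt N75680 D148665) (tt N75461 (iv0 F358571)) (tt N75681 D148667) (tt N21472 (iv3 D69674)) (tt N75506 (iv4 F231677)) (tt N48126 (iv5 F130725)) (tt N21473 F106018) (tt N65351 (iv7 F200972)))
theorem Q42344 : ∀ i, i < 42344 → P i := stepQ 42343 Q42343 (allL N42343 (tt N22567 (iv1 F106019)) (tt N21473 (iv0 D69675)) (tt N22566 (iv2 F353026)) (tt N75682 D148669) (tt N75683 D148670) (tt N75684 D148671) (tt N75685 D148672) (tt N22565 (iv7 F353034)))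
theorem Q42345 : ∀ i, i < 42345 → P i := stepQ 42344 Q42344 (allL N42344 (tt N21473 (iv1 D69676)) (tt N22567 F106023) (tt N22565 F353035) (tt N27063 (iv3 F353037)) (tt N53654 (iv4 F353038)) (tt N54928 (iv5 F353039)) (tt N47971 (iv6 F347858)) (tt N22566 F353036))
theorem Q42346 : ∀ i, i < 42346 → P i := stepQ 42345 Q42345 (allL N42345 (tt N22566 (iv1 F106024)) (tt N22565 F106022) (tt N21473 (iv2 D69677)) (tt N44118 (iv3 F110849)) (tt N75524 (iv4 F231733)) (tt N34387 F106020) (tt N75681 (iv6 F233428)) (tt N22567 F106021))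
theorem Q42347 : ∀ i, i < 42347 → P i := stepQ 42346 Q42346 (allL N42346 (tt N21474 (iv1 D69678)) (tt N23196 F106025) (tt N29889 (iv2 F106572)) (tt N23169 (iv3 F106028)) (tt N29889 F106026) (tt N32794 F106027) (tt N56153 (iv6 F163113)) (tt N34395 (iv7 F106569)))
theorem Q42348 : ∀ i, i < 42348 → P i := stepQ 42347 Q42347 (allL N42347 (tt N27222 F106030) (tt N27211 F106032) (tt N27203 F106029) (tt N45155 (iv3 F114645)) (tt N25533 F106031) (tt N21475 (iv5 D69679)) (tt N61397 (iv6 F178754)) (tt N45155 (iv7 F114646)))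
theorem Q42349 : ∀ i, i < 42349 → P i := stepQ 42348 Q42348 (allL N42348 (tt N27696 F106036) (tt N34085 F106037) (tt N21478 F106033) (tt N49387 (iv3 F136198)) (tt N21476 (iv4 D69680)) (tt N27712 F106034) (tt N75686 D148678) (tt N32803 F106035))
theorem Q42350 : ∀ i, i < 42350 → P i := stepQ 42349 Q42349 (allL N42349 (tt N33008 F329382) (tt N75687 D148680) (tt N21479 F106038) (tt N45072 (iv3 F114476)) (tt N75686 (iv4 F233432)) (tt N69509 (iv5 F338615)) (tt N21476 (iv6 D69681)) (tt N75688 D148681))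
theorem Q42351 : ∀ i, i < 42351 → P i := stepQ 42350 Q42350 (allL N42350 (tt N75689 D148682) (tt N52020 (iv0 F233446)) (tt N75686 (iv2 F233431)) (tt N42293 F308332) (tt N21479 F106039) (tt N64588 (iv5 F301922)) (tt N21478 (iv6 D69682)) (tt N75690 D148685))
theorem Q42352 : ∀ i, i < 42352 → P i := stepQ 42351 Q42351 (allL N42351 (tt N75688 (iv1 F233439)) (tt N21479 (iv0 D69683)) (tt N33008 F324668) (tt N61752 (iv3 F325783)) (tt N42492 F310930) (tt N33007 (iv5 F325785)) (tt N39086 (iv6 F325786)) (tt N75687 (iv7 F336941)))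
theorem Q42353 : ∀ i, i < 42353 → P i := stepQ 42352 Q42352 (allL N42352 (tt N21479 (iv1 D69684)) (tt N75688 F233438) (tt N75687 (iv2 F336937)) (tt N30489 F321541) (tt N23104 (iv4 F315072)) (tt N33009 (iv5 F323270)) (tt N75691 D148695) (tt N33008 (iv7 F323271)))
theorem Q42354 : ∀ i, i < 42354 → P i := stepQ 42353 Q42353 (allL N42353 (tt N69510 F355262) (tt N37301 (iv0 F355263)) (tt N69509 (iv2 F338612)) (tt N21486 F106040) (tt N75692 D148698) (tt N21479 (iv5 D69685)) (tt N21482 F106041) (tt N69508 (iv7 F335154)))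
theorem Q42355 : ∀ i, i < 42355 → P i := stepQ 42354 Q42354 (allL N42354 (tt N75687 (iv1 F233435)) (tt N33008 F329381) (tt N75688 (iv2 F233436)) (tt N21487 F106042) (tt N75690 (iv4 F233440)) (tt N69508 (iv5 F335153)) (tt N34399 F106043) (tt N21479 (iv7 D69686)))
theorem Q42356 : ∀ i, i < 42356 → P i := stepQ 42355 Q42355 (allL N42355 (tt N74375 (iv1 F227632)) (tt N56153 (iv0 F163114)) (tt N57257 (iv2 F165911)) (tt N21480 (iv3 D69687)) (tt N36241 F106044) (tt N60877 (iv5 F177121)) (tt N50291 (iv6 F139437)) (tt N56623 (iv7 F164472)))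
theorem Q42357 : ∀ i, i < 42357 → P i := stepQ 42356 Q42356 (allL N42356 (tt N43372 F108571) (tt N43369 (iv0 F108561)) (tt N45157 F114654) (tt N50291 F139436) (tt N45318 (iv4 F115163)) (tt N60905 (iv5 F177185)) (tt N21480 (iv6 D69688)) (tt N37291 F106045))
theorem Q42358 : ∀ i, i < 42358 → P i := stepQ 42357 Q42357 (allL N42357 (tt N36274 (iv1 F106049)) (tt N21482 (iv0 D69689)) (tt N32513 (iv2 F106047)) (tt N75693 D148700) (tt N75071 (iv4 F230253)) (tt N29719 F106046) (tt N75694 D148701) (tt N32511 (iv7 F106048)))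
theorem Q42359 : ∀ i, i < 42359 → P i := stepQ 42358 Q42358 (allL N42358 (tt N41869 F106056) (tt N32464 F106057) (tt N41890 F106055) (tt N75695 D148703) (tt N21482 (iv4 D69691)) (tt N75584 (iv5 F231957)) (tt N75692 (iv6 F233454)) (tt N41889 F106064))
theorem Q42360 : ∀ i, i < 42360 → P i := stepQ 42359 Q42359 (allL N42359 (tt N32511 (iv1 F106061)) (tt N32513 F106062) (tt N36274 F106058) (tt N21495 F106059) (tt N41889 (iv4 F106063)) (tt N21483 F106060) (tt N75696 D148704) (tt N21482 (iv7 D69692)))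
theorem Q42361 : ∀ i, i < 42361 → P i := stepQ 42360 Q42360 (allL N42360 (tt N45091 (iv1 F332641)) (tt N21960 F332640) (tt N24831 F327298) (tt N21484 (iv3 D69694)) (tt N64543 (iv4 F336373)) (tt N61734 (iv5 F327770)) (tt N75697 D148710) (tt N45080 (iv7 F193518)))
theorem Q42362 : ∀ i, i < 42362 → P i := stepQ 42361 Q42361 (allL N42361 (tt N66121 (iv1 F327776)) (tt N66125 (iv0 F327783)) (tt N45079 (iv2 F193520)) (tt N61734 (iv3 F327769)) (tt N75698 D148713) (tt N21484 (iv5 D69696)) (tt N70651 (iv6 F326368)) (tt N45081 (iv7 F193519)))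
theorem Q42363 : ∀ i, i < 42363 → P i := stepQ 42362 Q42362 (allL N42362 (tt N32771 (iv1 F178440)) (tt N61569 F179048) (tt N32567 F193479) (tt N75697 (iv3 F233476)) (tt N45067 (iv4 F177809)) (tt N29549 F106066) (tt N21484 (iv6 D69697)) (tt N32563 F193480))
theorem Q42364 : ∀ i, i < 42364 → P i := stepQ 42363 Q42363 (allL N42363 (tt N24830 (iv1 F326548)) (tt N24829 (iv0 F326547)) (tt N24833 F325728) (tt N21485 (iv3 D69699)) (tt N24560 (iv4 F326551)) (tt N23013 (iv5 F326552)) (tt N75699 D148720) (tt N24559 F325729))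
theorem Q42365 : ∀ i, i < 42365 → P i := stepQ 42364 Q42364 (allL N42364 (tt N66125 (iv1 F327784)) (tt N66121 (iv0 F327775)) (tt N45081 (iv2 F193527)) (tt N23013 F327302) (tt N69147 (iv4 F327790)) (tt N21485 (iv5 D69701)) (tt N75700 D148722) (tt N45079 F193526))
theorem Q42366 : ∀ i, i < 42366 → P i := stepQ 42365 Q42365 (allL N42365 (tt N61495 F193465) (tt N32726 F193466) (tt N45082 F193467) (tt N75699 (iv3 F233488)) (tt N45070 F177838) (tt N64184 (iv5 F193463)) (tt N21485 (iv6 D69702)) (tt N75701 D148723))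
theorem Q42367 : ∀ i, i < 42367 → P i := stepQ 42366 Q42366 (allL N42366 (tt N45086 (iv1 F114497)) (tt N21486 (iv0 D69703)) (tt N45083 F177841) (tt N74411 (iv3 F347571)) (tt N75702 D148725) (tt N45141 (iv5 F114609)) (tt N75703 D148726) (tt N45084 F177839))
theorem Q42368 : ∀ i, i < 42368 → P i := stepQ 42367 Q42367 (allL N42367 (tt N21486 (iv1 D69704)) (tt N45086 F114496) (tt N45084 (iv2 F177840)) (tt N37349 F325730) (tt N69010 (iv4 F326566)) (tt N32913 (iv5 F106068)) (tt N75704 D148729) (tt N45083 (iv7 F177842)))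
theorem Q42369 : ∀ i, i < 42369 → P i := stepQ 42368 Q42368 (allL N42368 (tt N37872 (iv1 F333198)) (tt N67510 (iv0 F333201)) (tt N45085 (iv2 F114491)) (tt N75705 D148732) (tt N21486 (iv4 D69705)) (tt N66115 (iv5 F333202)) (tt N21494 F106069) (tt N67509 (iv7 F333197)))
theorem Q42370 : ∀ i, i < 42370 → P i := stepQ 42369 Q42369 (allL N42369 (tt N45084 (iv1 F114489)) (tt N45083 F114495) (tt N45086 (iv2 F114493)) (tt N69508 (iv3 F335152)) (tt N67509 (iv4 F333196)) (tt N21487 F106070) (tt N75706 D148735) (tt N21486 (iv7 D69706)))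
theorem Q42371 : ∀ i, i < 42371 → P i := stepQ 42370 Q42370 (allL N42370 (tt N56158 (iv1 F163129)) (tt N56155 (iv0 F163123)) (tt N45057 (iv2 F114452)) (tt N75707 D148736) (tt N21488 (iv4 D69707)) (tt N42379 (iv5 F106082)) (tt N75708 D148737) (tt N45059 (iv7 F114460)))
theorem Q42372 : ∀ i, i < 42372 → P i := stepQ 42371 Q42371 (allL N42371 (tt N75709 D148738) (tt N75710 D148739) (tt N45058 (iv2 F114456)) (tt N55721 (iv3 F161514)) (tt N75708 (iv4 F233509)) (tt N44965 (iv5 F114209)) (tt N21488 (iv6 D69708)) (tt N75711 D148740))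
theorem Q42373 : ∀ i, i < 42373 → P i := stepQ 42372 Q42372 (allL N42372 (tt N21490 (iv1 D69709)) (tt N45022 F114379) (tt N45024 (iv2 F114385)) (tt N74375 F227636) (tt N29821 (iv4 F106071)) (tt N50945 (iv5 F143112)) (tt N30060 (iv6 F114371)) (tt N29890 (iv7 F106579)))
theorem Q42374 : ∀ i, i < 42374 → P i := stepQ 42373 Q42373 (allL N42373 (tt N50277 (iv1 F139389)) (tt N50279 (iv0 F139396)) (tt N55722 (iv2 F161515)) (tt N21491 F106072) (tt N69226 (iv4 F324726)) (tt N21490 (iv5 D69710)) (tt N49272 F143113) (tt N45056 (iv7 F114451)))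
theorem Q42375 : ∀ i, i < 42375 → P i := stepQ 42374 Q42374 (allL N42374 (tt N56155 (iv1 F163124)) (tt N56158 F163128) (tt N45059 (iv2 F114458)) (tt N75712 D148742) (tt N21491 (iv4 D69711)) (tt N42376 (iv5 F106075)) (tt N75713 D148743) (tt N45057 (iv7 F114453)))
theorem Q42376 : ∀ i, i < 42376 → P i := stepQ 42375 Q42375 (allL N42375 (tt N75714 D148744) (tt N75715 D148745) (tt N45060 (iv2 F114462)) (tt N49272 (iv3 F143117)) (tt N75713 (iv4 F233518)) (tt N37288 F106073) (tt N21491 (iv6 D69712)) (tt N75716 D148746))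
theorem Q42377 : ∀ i, i < 42377 → P i := stepQ 42376 Q42376 (allL N42376 (tt N45054 (iv1 F114447)) (tt N32583 F106076) (tt N45051 F114437) (tt N75717 D148747) (tt N21492 (iv4 D69713)) (tt N42374 F106075) (tt N75718 D148748) (tt N32492 F106074))
theorem Q42378 : ∀ i, i < 42378 → P i := stepQ 42377 Q42377 (allL N42377 (tt N75719 D148749) (tt N75720 D148750) (tt N26542 F106077) (tt N50932 (iv3 F143093)) (tt N75718 (iv4 F233524)) (tt N26539 F106078) (tt N21492 (iv6 D69714)) (tt N75721 D148751))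
theorem Q42379 : ∀ i, i < 42379 → P i := stepQ 42378 Q42378 (allL N42378 (tt N45023 (iv1 F114382)) (tt N50945 F143116) (tt N50947 (iv2 F143121)) (tt N21493 (iv3 D69715)) (tt N37424 (iv4 F322893)) (tt N26546 F106079) (tt N37422 F321201) (tt N26545 F106080))
theorem Q42380 : ∀ i, i < 42380 → P i := stepQ 42379 Q42379 (allL N42379 (tt N32583 F106083) (tt N45054 F114446) (tt N32492 F106081) (tt N68903 (iv3 F325508)) (tt N21493 (iv4 D69716)) (tt N42370 F106082) (tt N68902 (iv6 F322891)) (tt N45051 (iv7 F114438)))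
theorem Q42381 : ∀ i, i < 42381 → P i := stepQ 42380 Q42380 (allL N42380 (tt N39063 (iv1 F322888)) (tt N70652 (iv0 F322885)) (tt N32490 F106084) (tt N37422 F321196) (tt N68902 (iv4 F322890)) (tt N29533 F106085) (tt N21493 (iv6 D69717)) (tt N69392 F321197))
theorem Q42382 : ∀ i, i < 42382 → P i := stepQ 42381 Q42381 (allL N42381 (tt N42384 (iv1 F106093)) (tt N21494 (iv0 D69718)) (tt N45087 F114499) (tt N37891 F328247) (tt N23187 F106086) (tt N42390 (iv5 F106101)) (tt N75722 D148759) (tt N32476 (iv7 F106087)))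
theorem Q42383 : ∀ i, i < 42383 → P i := stepQ 42382 Q42382 (allL N42382 (tt N21494 (iv1 D69719)) (tt N42384 F106092) (tt N32476 (iv2 F106089)) (tt N75723 D148760) (tt N23188 F106088) (tt N42387 (iv5 F106099)) (tt N67672 (iv6 F326596)) (tt N45087 (iv7 F114501)))
theorem Q42384 : ∀ i, i < 42384 → P i := stepQ 42383 Q42383 (allL N42383 (tt N75724 D148762) (tt N75725 D148763) (tt N75726 D148764) (tt N21494 (iv3 D69720)) (tt N75695 (iv4 F233469)) (tt N75727 D148765) (tt N75705 (iv6 F233505)) (tt N75728 D148766))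
theorem Q42385 : ∀ i, i < 42385 → P i := stepQ 42384 Q42384 (allL N42384 (tt N42382 (iv1 F106092)) (tt N42381 F106093) (tt N42385 (iv2 F106094)) (tt N75727 (iv3 F233562)) (tt N23216 F106090) (tt N21494 (iv5 D69721)) (tt N75729 D148767) (tt N23215 F106091))
theorem Q42386 : ∀ i, i < 42386 → P i := stepQ 42385 Q42385 (allL N42385 (tt N32476 (iv1 F106097)) (tt N45087 F114500) (tt N42384 F106094) (tt N75728 (iv3 F233565)) (tt N21495 F106095) (tt N23215 F106096) (tt N75730 D148768) (tt N21494 (iv7 D69722)))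
theorem Q42387 : ∀ i, i < 42387 → P i := stepQ 42386 Q42386 (allL N42386 (tt N75731 D148769) (tt N75732 D148770) (tt N45089 (iv2 F114502)) (tt N75696 (iv3 F233472)) (tt N75730 (iv4 F233570)) (tt N31379 F106098) (tt N21495 (iv6 D69723)) (tt N75706 (iv7 F233508)))
theorem Q42388 : ∀ i, i < 42388 → P i := stepQ 42387 Q42387 (allL N42387 (tt N60820 (iv1 F176967)) (tt N60822 (iv0 F176971)) (tt N45181 (iv2 F114703)) (tt N75733 D148771) (tt N21496 (iv4 D69724)) (tt N42382 F106099) (tt N75734 D148772) (tt N45183 (iv7 F114711)))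
theorem Q42389 : ∀ i, i < 42389 → P i := stepQ 42388 Q42388 (allL N42388 (tt N75735 D148773) (tt N60743 (iv0 F395851)) (tt N45182 (iv2 F114707)) (tt N38841 F327998) (tt N75734 (iv4 F233574)) (tt N56348 (iv5 F163527)) (tt N21496 (iv6 D69725)) (tt N70633 (iv7 F328384)))
theorem Q42390 : ∀ i, i < 42390 → P i := stepQ 42389 Q42389 (allL N42389 (tt N50181 (iv1 F139179)) (tt N50182 F139182) (tt N61035 (iv2 F177709)) (tt N21498 F106100) (tt N70932 (iv4 F218804)) (tt N21497 (iv5 D69726)) (tt N75736 D148776) (tt N45180 (iv7 F114698)))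
theorem Q42391 : ∀ i, i < 42391 → P i := stepQ 42390 Q42390 (allL N42390 (tt N60822 (iv1 F176972)) (tt N60820 (iv0 F176966)) (tt N45183 (iv2 F114709)) (tt N69030 (iv3 F328422)) (tt N21498 (iv4 D69727)) (tt N42381 F106101) (tt N75737 D148778) (tt N45181 (iv7 F114704)))
theorem Q42392 : ∀ i, i < 42392 → P i := stepQ 42391 Q42391 (allL N42391 (tt N60786 (iv1 F331439)) (tt N75738 D148780) (tt N45184 (iv2 F114713)) (tt N75736 (iv3 F233575)) (tt N75737 (iv4 F233581)) (tt N37281 F106102) (tt N21498 (iv6 D69728)) (tt N75739 D148781))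
theorem Q42393 : ∀ i, i < 42393 → P i := stepQ 42392 Q42392 (allL N42392 (tt N67095 (iv1 F316645)) (tt N61057 (iv0 F347669)) (tt N23851 F106103) (tt N61040 (iv3 F177722)) (tt N43618 F314257) (tt N23846 F106104) (tt N21499 (iv6 D69729)) (tt N43850 (iv7 F316649)))
theorem Q42394 : ∀ i, i < 42394 → P i := stepQ 42393 Q42393 (allL N42393 (tt N41367 (iv1 F316438)) (tt N74793 (iv0 F316440)) (tt N26419 F106105) (tt N23870 F106106) (tt N46568 (iv4 F125479)) (tt N26417 F106107) (tt N21500 (iv6 D69730)) (tt N74792 (iv7 F317459)))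
theorem Q42395 : ∀ i, i < 42395 → P i := stepQ 42394 Q42394 (allL N42394 (tt N33607 (iv1 F106109)) (tt N21502 (iv0 D69731)) (tt N41899 (iv2 F106110)) (tt N69977 (iv3 F363091)) (tt N29720 F106108) (tt N75740 D148788) (tt N75741 D148789) (tt N41898 (iv7 F106111)))
theorem Q42396 : ∀ i, i < 42396 → P i := stepQ 42395 Q42395 (allL N42395 (tt N21502 (iv1 D69732)) (tt N33607 F106112) (tt N41898 (iv2 F106115)) (tt N75742 D148790) (tt N36288 F106114) (tt N75743 D148791) (tt N75744 D148792) (tt N41899 F106113))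
theorem Q42397 : ∀ i, i < 42397 → P i := stepQ 42396 Q42396 (allL N42396 (tt N75745 D148793) (tt N75746 D148794) (tt N75747 D148795) (tt N21502 (iv3 D69733)) (tt N21510 F106116) (tt N75748 D148796) (tt N44870 (iv6 F113792)) (tt N41900 F106117))
theorem Q42398 : ∀ i, i < 42398 → P i := stepQ 42397 Q42397 (allL N42397 (tt N75024 (iv1 F230139)) (tt N75025 (iv0 F230142)) (tt N41906 F106118) (tt N75748 (iv3 F233628)) (tt N75583 (iv4 F231951)) (tt N21502 (iv5 D69734)) (tt N75749 D148797) (tt N41901 F106119))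
theorem Q42399 : ∀ i, i < 42399 → P i := stepQ 42398 Q42398 (allL N42398 (tt N21503 (iv1 D69735)) (tt N42109 F312515) (tt N44593 (iv2 F112641)) (tt N62995 F184305) (tt N48360 (iv4 F314979)) (tt N35428 (iv5 F106120)) (tt N74995 (iv6 F230032)) (tt N44592 F112637))
theorem Q42400 : ∀ i, i < 42400 → P i := stepQ 42399 Q42399 (allL N42399 (tt N44593 (iv1 F112638)) (tt N44592 F112642) (tt N42109 F312510) (tt N40818 F322330) (tt N42108 F312511) (tt N22560 F106122) (tt N44598 (iv6 F112664)) (tt N21503 (iv7 D69736)))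
theorem Q42401 : ∀ i, i < 42401 → P i := stepQ 42400 Q42400 (allL N42400 (tt N29536 F106126) (tt N29541 F106127) (tt N29538 F106123) (tt N23195 F106124) (tt N75750 D148798) (tt N21504 (iv5 D69737)) (tt N75751 D148799) (tt N29537 F106125))
theorem Q42402 : ∀ i, i < 42402 → P i := stepQ 42401 Q42401 (allL N42401 (tt N29729 F106130) (tt N29739 F106131) (tt N29736 F106128) (tt N75752 D148800) (tt N21505 (iv4 D69738)) (tt N40610 F320822) (tt N27497 F311492) (tt N29733 (iv7 F313943)))
theorem Q42403 : ∀ i, i < 42403 → P i := stepQ 42402 Q42402 (allL N42402 (tt N53928 (iv1 F310168)) (tt N63018 (iv0 F233057)) (tt N52574 (iv2 F309804)) (tt N21507 F106132) (tt N27497 F311491) (tt N28289 (iv5 F310171)) (tt N21505 (iv6 D69739)) (tt N52575 F308136))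
theorem Q42404 : ∀ i, i < 42404 → P i := stepQ 42403 Q42403 (allL N42403 (tt N42080 (iv1 F314299)) (tt N42077 (iv0 F314300)) (tt N42106 (iv2 F314301)) (tt N21506 (iv3 D69740)) (tt N75752 (iv4 F233637)) (tt N42407 (iv5 F106139)) (tt N42114 F311880) (tt N42039 (iv7 F314303)))
theorem Q42405 : ∀ i, i < 42405 → P i := stepQ 42404 Q42404 (allL N42404 (tt N41613 F215799) (tt N41616 (iv0 F113957)) (tt N44596 (iv2 F112659)) (tt N42114 (iv3 F309696)) (tt N21507 F106134) (tt N46348 (iv5 F309317)) (tt N21506 (iv6 D69741)) (tt N42110 F307691))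
theorem Q42406 : ∀ i, i < 42406 → P i := stepQ 42405 Q42405 (allL N42405 (tt N21507 (iv1 D69743)) (tt N44598 F112666) (tt N43153 (iv2 F108206)) (tt N24232 (iv3 F306147)) (tt N74749 (iv4 F228871)) (tt N24261 F304053) (tt N25220 (iv6 F106135)) (tt N44597 (iv7 F112667)))
theorem Q42407 : ∀ i, i < 42407 → P i := stepQ 42406 Q42406 (allL N42406 (tt N43153 F108209) (tt N44597 F112665) (tt N44598 (iv2 F112661)) (tt N52575 (iv3 F306216)) (tt N42110 F308228) (tt N37374 F106137) (tt N42109 (iv6 F310237)) (tt N21507 (iv7 D69744)))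
theorem Q42408 : ∀ i, i < 42408 → P i := stepQ 42407 Q42407 (allL N42407 (tt N75016 F230103) (tt N75018 (iv0 F350770)) (tt N75382 (iv2 F316678)) (tt N21508 (iv3 D69745)) (tt N33685 F106138) (tt N42403 F106139) (tt N75753 D148812) (tt N33626 F106140))
theorem Q42409 : ∀ i, i < 42409 → P i := stepQ 42408 Q42408 (allL N42408 (tt N47511 (iv1 F316469)) (tt N37148 (iv0 F316470)) (tt N41852 F106141) (tt N75753 (iv3 F233662)) (tt N21509 F106142) (tt N69345 F313963) (tt N21508 (iv6 D69746)) (tt N46255 (iv7 F317177)))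
theorem Q42410 : ∀ i, i < 42410 → P i := stepQ 42409 Q42409 (allL N42409 (tt N41842 (iv1 F106148)) (tt N21509 (iv0 D69747)) (tt N41853 F185094) (tt N75191 F230698) (tt N41701 (iv4 F228929)) (tt N40830 (iv5 F315699)) (tt N44893 (iv6 F113845)) (tt N41854 (iv7 F185095)))
theorem Q42411 : ∀ i, i < 42411 → P i := stepQ 42410 Q42410 (allL N42410 (tt N21509 (iv1 D69748)) (tt N41842 F106143) (tt N41854 (iv2 F185097)) (tt N41874 (iv3 F188602)) (tt N37074 (iv4 F316144)) (tt N40829 (iv5 F313404)) (tt N37079 F313658) (tt N41853 F185096))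
theorem Q42412 : ∀ i, i < 42412 → P i := stepQ 42411 Q42411 (allL N42411 (tt N41854 (iv1 F106149)) (tt N41853 F106150) (tt N41842 F106144) (tt N33689 F106145) (tt N46255 F317587) (tt N41941 F106146) (tt N33625 F106147) (tt N21509 (iv7 D69749)))
theorem Q42413 : ∀ i, i < 42413 → P i := stepQ 42412 Q42412 (allL N42412 (tt N75754 D148815) (tt N21510 (iv0 D69750)) (tt N75755 D148816) (tt N75756 D148817) (tt N75757 D148818) (tt N75758 D148819) (tt N47994 F347823) (tt N75759 D148821))
theorem Q42414 : ∀ i, i < 42414 → P i := stepQ 42413 Q42413 (allL N42413 (tt N21510 (iv1 D69751)) (tt N75754 F233676) (tt N75759 (iv2 F233678)) (tt N42075 (iv3 F347910)) (tt N75760 D148823) (tt N42070 F347909) (tt N59997 (iv6 F347911)) (tt N75755 F233677))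
theorem Q42415 : ∀ i, i < 42415 → P i := stepQ 42414 Q42414 (allL N42414 (tt N75755 (iv1 F347933)) (tt N75759 (iv0 F353667)) (tt N21510 (iv2 D69752)) (tt N44601 (iv3 F112672)) (tt N75747 (iv4 F233623)) (tt N74835 (iv5 F229430)) (tt N44900 (iv6 F113853)) (tt N75754 (iv7 F233675)))
theorem Q42416 : ∀ i, i < 42416 → P i := stepQ 42415 Q42415 (allL N42415 (tt N75759 (iv1 F353668)) (tt N75755 (iv0 F347932)) (tt N75754 F233671) (tt N21511 F106151) (tt N41900 F106152) (tt N22886 F106153) (tt N75761 D148828) (tt N21510 (iv7 D69753)))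
theorem Q42417 : ∀ i, i < 42417 → P i := stepQ 42416 Q42416 (allL N42416 (tt N48129 (iv1 F130730)) (tt N48128 F130729) (tt N41691 F106154) (tt N75761 (iv3 F233682)) (tt N21512 F106155) (tt N25186 F106156) (tt N21511 (iv6 D69754)) (tt N35461 F106157))
theorem Q42418 : ∀ i, i < 42418 → P i := stepQ 42417 Q42417 (allL N42417 (tt N34564 (iv1 F106158)) (tt N21512 (iv0 D69755)) (tt N41844 (iv2 F188581)) (tt N34259 F131172) (tt N69211 (iv4 F314915)) (tt N45309 F308193) (tt N34253 (iv6 F131167)) (tt N41845 (iv7 F188583)))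
theorem Q42419 : ∀ i, i < 42419 → P i := stepQ 42418 Q42418 (allL N42418 (tt N21512 (iv1 D69756)) (tt N34564 F106159) (tt N41845 F188584) (tt N56139 (iv3 F335020)) (tt N74832 (iv4 F229426)) (tt N45310 F312479) (tt N75762 D148830) (tt N41844 F188582))
theorem Q42420 : ∀ i, i < 42420 → P i := stepQ 42419 Q42419 (allL N42419 (tt N23360 F106163) (tt N32841 F106164) (tt N32740 F106160) (tt N50288 (iv3 F139418)) (tt N21513 (iv4 D69757)) (tt N29895 F106162) (tt N66908 (iv6 F206061)) (tt N32793 F106161))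
theorem Q42421 : ∀ i, i < 42421 → P i := stepQ 42420 Q42420 (allL N42420 (tt N45419 (iv1 F115773)) (tt N45418 F115772) (tt N24134 F106165) (tt N21514 (iv3 D69758)) (tt N42821 (iv4 F107224)) (tt N44560 (iv5 F112547)) (tt N34416 (iv6 F307884)) (tt N36435 F106166))
theorem Q42422 : ∀ i, i < 42422 → P i := stepQ 42421 Q42421 (allL N42421 (tt N63998 F192120) (tt N75763 D148832) (tt N21518 F106167) (tt N34416 F309894) (tt N21515 F106168) (tt N75200 (iv5 F333949)) (tt N21514 (iv6 D69759)) (tt N75764 D148834))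
theorem Q42423 : ∀ i, i < 42423 → P i := stepQ 42422 Q42422 (allL N42422 (tt N21522 F106170) (tt N21515 (iv0 D69760)) (tt N21519 F233736) (tt N42850 F205274) (tt N75765 D148836) (tt N75766 D148837) (tt N36347 F106169) (tt N21520 F233737))
theorem Q42424 : ∀ i, i < 42424 → P i := stepQ 42423 Q42423 (allL N42423 (tt N21515 (iv1 D69761)) (tt N21522 F106171) (tt N21520 F233738) (tt N42776 (iv3 F233756)) (tt N70096 (iv4 F317701)) (tt N75430 (iv5 F231477)) (tt N42838 F206121) (tt N21519 F233739))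
theorem Q42425 : ∀ i, i < 42425 → P i := stepQ 42424 Q42424 (allL N42424 (tt N74416 F229097) (tt N67062 (iv0 F206466)) (tt N21521 F106172) (tt N42823 (iv3 F107230)) (tt N75183 (iv4 F230550)) (tt N21515 (iv5 D69762)) (tt N21516 F106173) (tt N75767 D148839))
theorem Q42426 : ∀ i, i < 42426 → P i := stepQ 42425 Q42425 (allL N42425 (tt N21520 (iv1 F106176)) (tt N21519 F106177) (tt N21522 F106174) (tt N37511 F311213) (tt N75764 (iv4 F233709)) (tt N75767 (iv5 F233855)) (tt N36438 F106175) (tt N21515 (iv7 D69763)))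
theorem Q42427 : ∀ i, i < 42427 → P i := stepQ 42426 Q42426 (allL N42426 (tt N73956 (iv1 F350781)) (tt N75340 (iv0 F355123)) (tt N44561 (iv2 F112548)) (tt N24141 F106178) (tt N43451 (iv4 F108921)) (tt N75768 D148842) (tt N21517 (iv6 D69764)) (tt N75769 D148843))
theorem Q42428 : ∀ i, i < 42428 → P i := stepQ 42427 Q42427 (allL N42427 (tt N75764 (iv1 F233712)) (tt N21518 (iv0 D69765)) (tt N63998 (iv2 F192121)) (tt N75770 D148844) (tt N43436 F192122) (tt N75467 (iv5 F334052)) (tt N75771 D148846) (tt N75763 (iv7 F233704)))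
theorem Q42429 : ∀ i, i < 42429 → P i := stepQ 42428 Q42428 (allL N42428 (tt N21518 (iv1 D69766)) (tt N75764 F233711) (tt N75763 F233706) (tt N75772 D148847) (tt N42166 (iv4 F130791)) (tt N75368 (iv5 F334531)) (tt N75773 D148849) (tt N63998 (iv7 F192118)))
theorem Q42430 : ∀ i, i < 42430 → P i := stepQ 42429 Q42429 (allL N42429 (tt N75183 (iv1 F333944)) (tt N75207 (iv0 F333946)) (tt N75200 (iv2 F333948)) (tt N24144 F106179) (tt N41323 F333934) (tt N21518 (iv5 D69767)) (tt N75768 (iv6 F233859)) (tt N75198 (iv7 F333953)))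
theorem Q42431 : ∀ i, i < 42431 → P i := stepQ 42430 Q42430 (allL N42430 (tt N75763 (iv1 F233703)) (tt N63998 (iv0 F192119)) (tt N75764 (iv2 F233708)) (tt N24145 F106180) (tt N21522 F106181) (tt N75198 (iv5 F333952)) (tt N42816 (iv6 F107192)) (tt N21518 (iv7 D69768)))
theorem Q42432 : ∀ i, i < 42432 → P i := stepQ 42431 Q42431 (allL N42431 (tt N42777 (iv1 F205688)) (tt N36419 (iv0 F155407)) (tt N42775 F233753) (tt N21519 (iv3 D69770)) (tt N44778 F113452) (tt N75774 D148854) (tt N75775 D148855) (tt N42776 (iv7 F233758)))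
theorem Q42433 : ∀ i, i < 42433 → P i := stepQ 42432 Q42432 (allL N42432 (tt N75776 D148856) (tt N36443 (iv0 F205690)) (tt N75765 (iv2 F233837)) (tt N63243 (iv3 F317691)) (tt N21519 (iv4 D69771)) (tt N75435 (iv5 F334049)) (tt N75777 D148859) (tt N70096 (iv7 F317703)))
theorem Q42434 : ∀ i, i < 42434 → P i := stepQ 42433 Q42433 (allL N42433 (tt N75778 D148860) (tt N44912 (iv0 F188472)) (tt N75766 (iv2 F233842)) (tt N75774 (iv3 F233870)) (tt N75436 (iv4 F233745)) (tt N21519 (iv5 D69772)) (tt N65098 (iv6 F313327)) (tt N75430 F233744))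
theorem Q42435 : ∀ i, i < 42435 → P i := stepQ 42434 Q42434 (allL N42434 (tt N36492 (iv1 F188391)) (tt N42901 (iv0 F188390)) (tt N36347 F233733) (tt N75775 (iv3 F233871)) (tt N75777 (iv4 F233882)) (tt N36320 F106183) (tt N21519 (iv6 D69773)) (tt N36344 F233734))
theorem Q42436 : ∀ i, i < 42436 → P i := stepQ 42435 Q42435 (allL N42435 (tt N36468 F230634) (tt N42852 F230635) (tt N42851 (iv2 F233749)) (tt N21520 (iv3 D69775)) (tt N43084 F233059) (tt N51996 (iv5 F306304)) (tt N45242 (iv6 F305775)) (tt N42850 F233761))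
theorem Q42437 : ∀ i, i < 42437 → P i := stepQ 42436 Q42436 (allL N42436 (tt N36443 F230637) (tt N75776 F233878) (tt N70096 (iv2 F317700)) (tt N63855 (iv3 F303438)) (tt N21520 (iv4 D69776)) (tt N75370 (iv5 F334045)) (tt N37218 F308259) (tt N75765 (iv7 F233839)))
theorem Q42438 : ∀ i, i < 42438 → P i := stepQ 42437 Q42437 (allL N42437 (tt N44912 F206133) (tt N75778 F233888) (tt N75430 F233771) (tt N51996 (iv3 F306303)) (tt N75306 (iv4 F231108)) (tt N21520 (iv5 D69777)) (tt N56073 (iv6 F230632)) (tt N75766 (iv7 F233844)))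
theorem Q42439 : ∀ i, i < 42439 → P i := stepQ 42438 Q42438 (allL N42438 (tt N42840 F206134) (tt N36452 F206135) (tt N42838 (iv2 F233717)) (tt N45242 (iv3 F305774)) (tt N37218 F308258) (tt N42721 (iv5 F191374)) (tt N21520 (iv6 D69778)) (tt N42839 (iv7 F233740)))
theorem Q42440 : ∀ i, i < 42440 → P i := stepQ 42439 Q42439 (allL N42439 (tt N75767 (iv1 F233857)) (tt N21521 (iv0 D69779)) (tt N74416 F229093) (tt N75779 D148866) (tt N74396 (iv4 F230716)) (tt N46231 F205847) (tt N75780 D148867) (tt N67062 (iv7 F206465)))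
theorem Q42441 : ∀ i, i < 42441 → P i := stepQ 42440 Q42440 (allL N42440 (tt N21521 (iv1 D69780)) (tt N75767 F233856) (tt N67062 (iv2 F206464)) (tt N73397 (iv3 F323412)) (tt N66840 (iv4 F340252)) (tt N46232 (iv5 F205842)) (tt N73396 (iv6 F355133)) (tt N74416 (iv7 F229092)))
theorem Q42442 : ∀ i, i < 42442 → P i := stepQ 42441 Q42441 (allL N42441 (tt N67062 F206467) (tt N74416 F229095) (tt N75767 (iv2 F233854)) (tt N21527 F106185) (tt N75207 (iv4 F230744)) (tt N21522 F106186) (tt N48479 F312105) (tt N21521 (iv7 D69781)))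
theorem Q42443 : ∀ i, i < 42443 → P i := stepQ 42442 Q42442 (allL N42442 (tt N75255 F230902) (tt N41705 F229514) (tt N36309 F106187) (tt N74422 (iv3 F227871)) (tt N74393 (iv4 F227726)) (tt N45323 (iv5 F115240)) (tt N21524 (iv6 D69782)) (tt N75781 D148869))
theorem Q42444 : ∀ i, i < 42444 → P i := stepQ 42443 Q42443 (allL N42443 (tt N41676 F243094) (tt N75219 (iv0 F243147)) (tt N36291 F106188) (tt N29716 F106189) (tt N74394 (iv4 F227728)) (tt N35295 F318008) (tt N21525 (iv6 D69783)) (tt N54966 (iv7 F317941)))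
theorem Q42445 : ∀ i, i < 42445 → P i := stepQ 42444 Q42444 (allL N42444 (tt N75782 D148873) (tt N75783 D148874) (tt N75784 D148875) (tt N21526 (iv3 D69784)) (tt N75205 (iv4 F230743)) (tt N48140 (iv5 F131407)) (tt N21528 F106191) (tt N48513 (iv7 F133111)))
theorem Q42446 : ∀ i, i < 42446 → P i := stepQ 42445 Q42445 (allL N42445 (tt N74745 (iv1 F228856)) (tt N21528 (iv0 D69785)) (tt N61284 (iv2 F322761)) (tt N75785 D148876) (tt N57498 F166937) (tt N61273 (iv5 F322757)) (tt N75786 D148878) (tt N74744 F228848))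
theorem Q42447 : ∀ i, i < 42447 → P i := stepQ 42446 Q42446 (allL N42446 (tt N21528 (iv1 D69786)) (tt N74745 F228857) (tt N74744 F228851) (tt N74337 (iv3 F227369)) (tt N75787 D148879) (tt N61285 (iv5 F322754)) (tt N75788 D148881) (tt N61284 (iv7 F322762)))
theorem Q42448 : ∀ i, i < 42448 → P i := stepQ 42447 Q42447 (allL N42447 (tt N61284 (iv1 F322760)) (tt N74744 F228847) (tt N21528 (iv2 D69787)) (tt N45198 (iv3 F114768)) (tt N75203 (iv4 F230739)) (tt N74831 (iv5 F229412)) (tt N75784 (iv6 F233919)) (tt N74745 (iv7 F228855)))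
theorem Q42449 : ∀ i, i < 42449 → P i := stepQ 42448 Q42448 (allL N42448 (tt N50754 (iv1 F333295)) (tt N61012 (iv0 F333302)) (tt N22499 (iv2 F312980)) (tt N63258 (iv3 F186608)) (tt N22495 F312492) (tt N28130 F106192) (tt N21529 (iv6 D69788)) (tt N63758 (iv7 F314944)))
theorem Q42450 : ∀ i, i < 42450 → P i := stepQ 42449 Q42449 (allL N42449 (tt N23348 F106196) (tt N23346 F106197) (tt N22256 F106193) (tt N32631 F106194) (tt N21531 (iv4 D69789)) (tt N22255 F106195) (tt N56120 (iv6 F162773)) (tt N45311 (iv7 F115124)))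
theorem Q42451 : ∀ i, i < 42451 → P i := stepQ 42450 Q42450 (allL N42450 (tt N62819 (iv1 F317050)) (tt N74949 (iv0 F317051)) (tt N45185 (iv2 F114715)) (tt N42639 (iv3 F106683)) (tt N41317 F314748) (tt N56305 (iv5 F163390)) (tt N21532 (iv6 D69790)) (tt N63761 (iv7 F317056)))
theorem Q42452 : ∀ i, i < 42452 → P i := stepQ 42451 Q42451 (allL N42451 (tt N75789 D148890) (tt N75790 D148891) (tt N21539 F106201) (tt N32804 F106202) (tt N44498 F314407) (tt N57269 (iv5 F165927)) (tt N21533 (iv6 D69792)) (tt N75630 (iv7 F313236)))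
theorem Q42453 : ∀ i, i < 42453 → P i := stepQ 42452 Q42452 (allL N42452 (tt N45498 (iv1 F116038)) (tt N37611 F307019) (tt N24152 F106203) (tt N21534 (iv3 D69793)) (tt N36435 F106204) (tt N42795 F303931) (tt N75791 D148893) (tt N42821 (iv7 F107225)))
theorem Q42454 : ∀ i, i < 42454 → P i := stepQ 42453 Q42453 (allL N42453 (tt N37651 (iv1 F306006)) (tt N69624 (iv0 F306007)) (tt N21547 F106205) (tt N75791 (iv3 F233950)) (tt N21535 F106206) (tt N72196 (iv5 F315886)) (tt N21534 (iv6 D69794)) (tt N37512 (iv7 F306012)))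
theorem Q42455 : ∀ i, i < 42455 → P i := stepQ 42454 Q42454 (allL N42454 (tt N21550 (iv1 F106210)) (tt N21535 (iv0 D69795)) (tt N21548 (iv2 F234041)) (tt N42761 (iv3 F155531)) (tt N75792 D148898) (tt N75793 D148899) (tt N42844 (iv6 F236656)) (tt N21549 (iv7 F234047)))
theorem Q42456 : ∀ i, i < 42456 → P i := stepQ 42455 Q42455 (allL N42455 (tt N21535 (iv1 D69796)) (tt N21550 F106207) (tt N21549 F234048) (tt N42858 (iv3 F215531)) (tt N73950 (iv4 F339074)) (tt N75794 D148902) (tt N42894 (iv6 F191204)) (tt N21548 F234049))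
theorem Q42457 : ∀ i, i < 42457 → P i := stepQ 42456 Q42456 (allL N42456 (tt N21549 (iv1 F106211)) (tt N21548 F106212) (tt N21550 F106208) (tt N36438 F106209) (tt N37512 F307963) (tt N46581 F314125) (tt N37511 (iv6 F309061)) (tt N21535 (iv7 D69797)))
theorem Q42458 : ∀ i, i < 42458 → P i := stepQ 42457 Q42457 (allL N42457 (tt N42685 (iv1 F106845)) (tt N21831 F106219) (tt N29763 (iv2 F300232)) (tt N24263 F106217) (tt N21544 (iv4 F300104)) (tt N21538 (iv5 D69800)) (tt N21543 (iv6 F299163)) (tt N42684 F106836))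
theorem Q42459 : ∀ i, i < 42459 → P i := stepQ 42458 Q42458 (allL N42458 (tt N75630 (iv1 F313232)) (tt N21539 (iv0 D69802)) (tt N75789 (iv2 F359660)) (tt N61086 (iv3 F352655)) (tt N42825 F310997) (tt N64207 (iv5 F340687)) (tt N75795 D148915) (tt N75790 (iv7 F352659)))
theorem Q42460 : ∀ i, i < 42460 → P i := stepQ 42459 Q42459 (allL N42459 (tt N21539 (iv1 D69803)) (tt N75630 (iv0 F313231)) (tt N75790 (iv2 F352658)) (tt N51371 F157312) (tt N42828 (iv4 F314436)) (tt N51365 (iv5 F157311)) (tt N54835 (iv6 F291714)) (tt N75789 (iv7 F359661)))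
theorem Q42461 : ∀ i, i < 42461 → P i := stepQ 42460 Q42460 (allL N42460 (tt N75790 (iv1 F233943)) (tt N75789 F233946) (tt N75630 (iv2 F313233)) (tt N23831 F106222) (tt N68575 F312079) (tt N44494 (iv5 F314441)) (tt N45077 (iv6 F114484)) (tt N21539 (iv7 D69804)))
theorem Q42462 : ∀ i, i < 42462 → P i := stepQ 42461 Q42461 (allL N42461 (tt N72700 (iv1 F309505)) (tt N75796 D148920) (tt N29776 F106223) (tt N43097 (iv3 F108072)) (tt N21541 F106224) (tt N63035 (iv5 F318165)) (tt N21540 (iv6 D69805)) (tt N42888 (iv7 F191316)))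
theorem Q42463 : ∀ i, i < 42463 → P i := stepQ 42462 Q42462 (allL N42462 (tt N42796 F191326) (tt N42758 F191327) (tt N26159 F302899) (tt N21544 F106236) (tt N26172 F302900) (tt N42821 (iv5 F305238)) (tt N21542 (iv6 D69810)) (tt N42795 F191280))
theorem Q42464 : ∀ i, i < 42464 → P i := stepQ 42463 Q42463 (allL N42463 (tt N47960 F130184) (tt N24109 (iv0 F106238)) (tt N43096 (iv2 F108070)) (tt N21543 (iv3 D69811)) (tt N37606 F306109) (tt N35002 F106242) (tt N24263 F297140) (tt N29774 F106237))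
theorem Q42465 : ∀ i, i < 42465 → P i := stepQ 42464 Q42464 (allL N42464 (tt N43907 (iv1 F110121)) (tt N42988 (iv0 F107855)) (tt N29762 F106239) (tt N35002 (iv3 F106241)) (tt N44492 F310925) (tt N21543 (iv5 D69812)) (tt N37521 F310926) (tt N29775 F106240))
theorem Q42466 : ∀ i, i < 42466 → P i := stepQ 42465 Q42465 (allL N42465 (tt N42890 F185044) (tt N24190 F185045) (tt N37647 F303044) (tt N69680 (iv3 F305414)) (tt N42727 (iv4 F106994)) (tt N42320 F320081) (tt N21545 (iv6 D69818)) (tt N42892 (iv7 F123873)))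
theorem Q42467 : ∀ i, i < 42467 → P i := stepQ 42466 Q42466 (allL N42466 (tt N21831 F106254) (tt N42685 F106846) (tt N42684 (iv2 F106837)) (tt N48531 (iv3 F133325)) (tt N21546 (iv4 D69819)) (tt N45071 (iv5 F114471)) (tt N42888 (iv6 F305236)) (tt N29763 F302976))
theorem Q42468 : ∀ i, i < 42468 → P i := stepQ 42467 Q42467 (allL N42467 (tt N37512 F307426) (tt N21547 (iv0 D69821)) (tt N37651 F307427) (tt N22821 (iv3 F309454)) (tt N22838 (iv4 F309378)) (tt N40601 F320989) (tt N22819 (iv6 F309458)) (tt N69624 F307428))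
theorem Q42469 : ∀ i, i < 42469 → P i := stepQ 42468 Q42468 (allL N42468 (tt N72773 (iv1 F332419)) (tt N41066 F320331) (tt N72196 (iv2 F315885)) (tt N24160 F106256) (tt N71680 (iv4 F360988)) (tt N21547 (iv5 D69823)) (tt N42889 F307173) (tt N42907 (iv7 F309053)))
theorem Q42470 : ∀ i, i < 42470 → P i := stepQ 42469 Q42469 (allL N42469 (tt N42859 (iv1 F205751)) (tt N36433 (iv0 F186861)) (tt N42857 (iv2 F234054)) (tt N21548 (iv3 D69826)) (tt N43452 F108928) (tt N75797 D148951) (tt N39917 F309583) (tt N42858 (iv7 F234051)))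
theorem Q42471 : ∀ i, i < 42471 → P i := stepQ 42470 Q42470 (allL N42470 (tt N30511 (iv1 F307342)) (tt N64216 (iv0 F232768)) (tt N75792 (iv2 F234042)) (tt N43144 F339070) (tt N21548 (iv4 D69827)) (tt N48103 (iv5 F308071)) (tt N72392 (iv6 F308072)) (tt N73950 (iv7 F339076)))
theorem Q42472 : ∀ i, i < 42472 → P i := stepQ 42471 Q42471 (allL N42471 (tt N34950 F308940) (tt N64065 (iv0 F305006)) (tt N75793 (iv2 F234044)) (tt N75797 (iv3 F234025)) (tt N43752 (iv4 F309675)) (tt N21548 (iv5 D69828)) (tt N47675 F339109) (tt N75794 F234065))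
theorem Q42473 : ∀ i, i < 42473 → P i := stepQ 42472 Q42472 (allL N42472 (tt N42842 (iv1 F191382)) (tt N42845 (iv0 F191381)) (tt N42844 (iv2 F236653)) (tt N39917 F310087) (tt N72392 F310088) (tt N39975 F310089) (tt N21548 (iv6 D69829)) (tt N42843 (iv7 F234079)))
theorem Q42474 : ∀ i, i < 42474 → P i := stepQ 42473 Q42473 (allL N42473 (tt N42760 (iv1 F232735)) (tt N42763 (iv0 F232734)) (tt N42762 F234035) (tt N21549 (iv3 D69831)) (tt N43308 (iv4 F130974)) (tt N75798 D148961) (tt N75799 D148962) (tt N42761 (iv7 F234040)))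
theorem Q42475 : ∀ i, i < 42475 → P i := stepQ 42474 Q42474 (allL N42474 (tt N64216 F232733) (tt N30511 (iv0 F307341)) (tt N73950 (iv2 F339073)) (tt N75800 D148963) (tt N21549 (iv4 D69832)) (tt N48102 (iv5 F308073)) (tt N72704 (iv6 F342585)) (tt N75792 (iv7 F234043)))
theorem Q42476 : ∀ i, i < 42476 → P i := stepQ 42475 Q42475 (allL N42475 (tt N64065 (iv1 F305007)) (tt N34950 F308939) (tt N75794 (iv2 F234066)) (tt N75798 (iv3 F234096)) (tt N43751 (iv4 F311102)) (tt N21549 (iv5 D69833)) (tt N75801 D148967) (tt N75793 (iv7 F234045)))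
theorem Q42477 : ∀ i, i < 42477 → P i := stepQ 42476 Q42476 (allL N42476 (tt N42896 F234094) (tt N42891 (iv0 F215741)) (tt N42894 F234069) (tt N75799 (iv3 F234097)) (tt N72704 (iv4 F342583)) (tt N42608 (iv5 F191343)) (tt N21549 (iv6 D69834)) (tt N42895 (iv7 F234071)))
theorem Q42478 : ∀ i, i < 42478 → P i := stepQ 42477 Q42477 (allL N42477 (tt N42788 F232803) (tt N28648 F232804) (tt N42769 F155527) (tt N23420 F106261) (tt N21551 (iv4 D69838)) (tt N75802 D148968) (tt N34536 (iv6 F303356)) (tt N42771 (iv7 F155481)))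
theorem Q42479 : ∀ i, i < 42479 → P i := stepQ 42478 Q42478 (allL N42478 (tt N75803 D148969) (tt N74531 (iv0 F228267)) (tt N42770 F155498) (tt N21552 F106262) (tt N63604 (iv4 F344037)) (tt N21551 (iv5 D69839)) (tt N42702 (iv6 F309395)) (tt N42772 (iv7 F155484)))
theorem Q42480 : ∀ i, i < 42480 → P i := stepQ 42479 Q42479 (allL N42479 (tt N38274 F308892) (tt N38271 F308893) (tt N42820 (iv2 F107221)) (tt N43816 (iv3 F311039)) (tt N21554 (iv4 D69848)) (tt N44551 (iv5 F112488)) (tt N43990 (iv6 F309257)) (tt N34327 F308894))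
theorem Q42481 : ∀ i, i < 42481 → P i := stepQ 42480 Q42480 (allL N42480 (tt N21602 F190084) (tt N66925 (iv0 F206146)) (tt N25482 F106267) (tt N22352 F106268) (tt N47443 F306608) (tt N75804 D148977) (tt N21556 (iv6 D69849)) (tt N75805 D148978))
theorem Q42482 : ∀ i, i < 42482 → P i := stepQ 42481 Q42481 (allL N42481 (tt N21557 (iv1 D69850)) (tt N21565 F106269) (tt N21588 F106273) (tt N21614 (iv3 F106272)) (tt N26792 (iv4 F106271)) (tt N75164 (iv5 F230391)) (tt N74436 F227903) (tt N21614 F106270))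
theorem Q42483 : ∀ i, i < 42483 → P i := stepQ 42482 Q42482 (allL N42482 (tt N21621 F106275) (tt N68452 (iv0 F210557)) (tt N45186 (iv2 F114718)) (tt N21640 F106274) (tt N64039 (iv4 F192370)) (tt N21557 (iv5 D69851)) (tt N75804 (iv6 F234122)) (tt N44141 (iv7 F110918)))
theorem Q42484 : ∀ i, i < 42484 → P i := stepQ 42483 Q42483 (allL N42483 (tt N75806 D148979) (tt N42827 F233070) (tt N21560 F106276) (tt N36419 F106277) (tt N22114 F106278) (tt N74437 (iv5 F227906)) (tt N21558 (iv6 D69852)) (tt N75807 D148980))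
theorem Q42485 : ∀ i, i < 42485 → P i := stepQ 42484 Q42484 (allL N42484 (tt N33879 F191284) (tt N75808 D148981) (tt N29767 F106279) (tt N36434 F106280) (tt N43295 (iv4 F108459)) (tt N75809 D148982) (tt N21559 (iv6 D69853)) (tt N48566 (iv7 F306052)))
theorem Q42486 : ∀ i, i < 42486 → P i := stepQ 42485 Q42485 (allL N42485 (tt N75807 (iv1 F234141)) (tt N21560 (iv0 D69854)) (tt N75806 F234129) (tt N42822 F155749) (tt N37590 (iv4 F312361)) (tt N75810 D148984) (tt N75811 D148985) (tt N42827 (iv7 F233796)))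
theorem Q42487 : ∀ i, i < 42487 → P i := stepQ 42486 Q42486 (allL N42486 (tt N21560 (iv1 D69855)) (tt N75807 F234140) (tt N42827 F233803) (tt N52000 (iv3 F306437)) (tt N43296 (iv4 F205237)) (tt N51999 (iv5 F308809)) (tt N75812 D148986) (tt N75806 (iv7 F234130)))
theorem Q42488 : ∀ i, i < 42488 → P i := stepQ 42487 Q42487 (allL N42487 (tt N42827 F233068) (tt N75806 F234131) (tt N75807 (iv2 F234137)) (tt N21564 F106281) (tt N47081 (iv4 F128243)) (tt N74440 (iv5 F227910)) (tt N42763 (iv6 F107084)) (tt N21560 (iv7 D69856)))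
theorem Q42489 : ∀ i, i < 42489 → P i := stepQ 42488 Q42488 (allL N42488 (tt N42001 F106284) (tt N42001 F106285) (tt N42668 (iv2 F106776)) (tt N22848 F106282) (tt N46060 (iv4 F120155)) (tt N21561 (iv5 D69857)) (tt N35354 F106283) (tt N42668 (iv7 F106778)))
theorem Q42490 : ∀ i, i < 42490 → P i := stepQ 42489 Q42489 (allL N42489 (tt N45202 (iv1 F114780)) (tt N21562 (iv0 D69858)) (tt N45199 (iv2 F233077)) (tt N43436 (iv3 F233060)) (tt N42779 (iv4 F233063)) (tt N75689 (iv5 F310417)) (tt N75474 (iv6 F233075)) (tt N45200 (iv7 F233086)))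
theorem Q42491 : ∀ i, i < 42491 → P i := stepQ 42490 Q42490 (allL N42490 (tt N45200 (iv1 F114769)) (tt N45199 F114778) (tt N45202 (iv2 F114774)) (tt N37627 F311691) (tt N63127 (iv4 F185733)) (tt N74442 (iv5 F227912)) (tt N63092 (iv6 F185494)) (tt N21562 (iv7 D69860)))
theorem Q42492 : ∀ i, i < 42492 → P i := stepQ 42491 Q42491 (allL N42491 (tt N42790 (iv1 F232519)) (tt N33874 F232453) (tt N34567 (iv2 F155398)) (tt N71299 (iv3 F313529)) (tt N21563 (iv4 D69863)) (tt N71298 (iv5 F314225)) (tt N72113 (iv6 F314229)) (tt N42783 F155397))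
theorem Q42493 : ∀ i, i < 42493 → P i := stepQ 42492 Q42492 (allL N42492 (tt N42568 F106425) (tt N44925 F155394) (tt N34571 F155391) (tt N42855 (iv3 F155393)) (tt N42351 (iv4 F310930)) (tt N21563 (iv5 D69864)) (tt N43939 (iv6 F310931)) (tt N42784 F155386))
theorem Q42494 : ∀ i, i < 42494 → P i := stepQ 42493 Q42493 (allL N42493 (tt N33886 F155395) (tt N67094 (iv0 F206590)) (tt N34572 F155350) (tt N42856 F155351) (tt N72113 (iv4 F314228)) (tt N36373 (iv5 F155349)) (tt N21563 (iv6 D69865)) (tt N72119 (iv7 F322858)))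
theorem Q42495 : ∀ i, i < 42495 → P i := stepQ 42494 Q42494 (allL N42494 (tt N68452 (iv1 F210558)) (tt N21621 (iv0 F106290)) (tt N44141 (iv2 F110915)) (tt N21647 F106289) (tt N64038 (iv4 F192362)) (tt N21565 (iv5 D69871)) (tt N63573 (iv6 F188163)) (tt N45186 (iv7 F114720)))
theorem Q42496 : ∀ i, i < 42496 → P i := stepQ 42495 Q42495 (allL N42495 (tt N42817 F187387) (tt N75813 D148993) (tt N21570 F106291) (tt N42760 (iv3 F107081)) (tt N63385 (iv4 F187161)) (tt N75814 D148994) (tt N21566 (iv6 D69872)) (tt N75815 D148995))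
theorem Q42497 : ∀ i, i < 42497 → P i := stepQ 42496 Q42496 (allL N42496 (tt N30679 F106295) (tt N37509 (iv0 F106296)) (tt N21573 F106292) (tt N36428 F106293) (tt N63209 (iv4 F186375)) (tt N21567 (iv5 D69873)) (tt N75814 (iv6 F234180)) (tt N37573 F106294))
theorem Q42498 : ∀ i, i < 42498 → P i := stepQ 42497 Q42497 (allL N42497 (tt N63479 F188318) (tt N33883 F188319) (tt N32818 F106297) (tt N36464 F106298) (tt N34434 F106299) (tt N75816 D148996) (tt N21569 (iv6 D69874)) (tt N66864 (iv7 F300971)))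
theorem Q42499 : ∀ i, i < 42499 → P i := stepQ 42498 Q42498 (allL N42498 (tt N75815 (iv1 F234188)) (tt N21570 (iv0 D69875)) (tt N42817 (iv2 F234216)) (tt N75817 D148999) (tt N34437 F187395) (tt N75818 D149000) (tt N75819 D149001) (tt N75813 F234226))
theorem Q42500 : ∀ i, i < 42500 → P i := stepQ 42499 Q42499 (allL N42499 (tt N21570 (iv1 D69876)) (tt N75815 F234186) (tt N75813 (iv2 F234227)) (tt N36437 F234204) (tt N34438 F234205) (tt N48432 F311610) (tt N75820 D149003) (tt N42817 (iv7 F234217)))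
theorem Q42501 : ∀ i, i < 42501 → P i := stepQ 42500 Q42500 (allL N42500 (tt N75821 D149004) (tt N27735 (iv0 F312365)) (tt N75814 (iv2 F234178)) (tt N21579 F106300) (tt N63242 (iv4 F186473)) (tt N21570 (iv5 D69877)) (tt N21573 F106301) (tt N75822 D149005))
theorem Q42502 : ∀ i, i < 42502 → P i := stepQ 42501 Q42501 (allL N42501 (tt N75813 (iv1 F234174)) (tt N42817 F234185) (tt N75815 (iv2 F234183)) (tt N21580 F106302) (tt N63434 (iv4 F187418)) (tt N75822 (iv5 F234279)) (tt N42777 (iv6 F107109)) (tt N21570 (iv7 D69878)))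
theorem Q42503 : ∀ i, i < 42503 → P i := stepQ 42502 Q42502 (allL N42502 (tt N21573 (iv1 D69879)) (tt N37573 F106303) (tt N37509 F106307) (tt N30678 (iv3 F106306)) (tt N34417 F106308) (tt N36432 F106305) (tt N75823 D149006) (tt N30679 F106304))
theorem Q42504 : ∀ i, i < 42504 → P i := stepQ 42503 Q42503 (allL N42503 (tt N63092 (iv1 F185497)) (tt N21574 (iv0 D69880)) (tt N63090 F232756) (tt N22203 F232757) (tt N42765 F232758) (tt N75824 D149007) (tt N65266 F232759) (tt N22863 F232760))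
theorem Q42505 : ∀ i, i < 42505 → P i := stepQ 42504 Q42504 (allL N42504 (tt N21574 (iv1 D69881)) (tt N63092 F185496) (tt N22863 F232761) (tt N42725 F232762) (tt N42766 F232763) (tt N45599 F311954) (tt N75825 D149009) (tt N63090 F232764))
theorem Q42506 : ∀ i, i < 42506 → P i := stepQ 42505 Q42505 (allL N42505 (tt N75826 D149010) (tt N27713 (iv0 F311822)) (tt N63091 (iv2 F185488)) (tt N21978 F106309) (tt N63575 (iv4 F312052)) (tt N21574 (iv5 D69882)) (tt N21576 F106310) (tt N75827 D149011))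
theorem Q42507 : ∀ i, i < 42507 → P i := stepQ 42506 Q42506 (allL N42506 (tt N22863 F232766) (tt N63090 F185495) (tt N63092 (iv2 F185492)) (tt N21979 F106311) (tt N53995 (iv4 F155724)) (tt N75827 (iv5 F234292)) (tt N45202 (iv6 F114777)) (tt N21574 (iv7 D69883)))
theorem Q42508 : ∀ i, i < 42508 → P i := stepQ 42507 Q42507 (allL N42507 (tt N42768 (iv1 F107097)) (tt N21577 (iv0 D69884)) (tt N42765 (iv2 F155534)) (tt N54079 F232736) (tt N63090 F232732) (tt N75828 D149012) (tt N70525 (iv6 F312671)) (tt N42766 F155533))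
theorem Q42509 : ∀ i, i < 42509 → P i := stepQ 42508 Q42508 (allL N42508 (tt N21577 (iv1 D69885)) (tt N42768 F107096) (tt N42766 F155529) (tt N75829 D149014) (tt N22863 F155455) (tt N75830 D149015) (tt N75831 D149016) (tt N42765 (iv7 F155532)))
theorem Q42510 : ∀ i, i < 42510 → P i := stepQ 42509 Q42509 (allL N42509 (tt N75832 D149017) (tt N75833 D149018) (tt N42767 (iv2 F107088)) (tt N53874 (iv3 F154866)) (tt N75834 D149019) (tt N21577 (iv5 D69886)) (tt N53232 (iv6 F153151)) (tt N75835 D149020))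
theorem Q42511 : ∀ i, i < 42511 → P i := stepQ 42510 Q42510 (allL N42510 (tt N42766 (iv1 F107087)) (tt N42765 F107095) (tt N42768 (iv2 F107091)) (tt N53875 (iv3 F154869)) (tt N21580 F106312) (tt N75835 (iv5 F234298)) (tt N42782 (iv6 F107117)) (tt N21577 (iv7 D69887)))
theorem Q42512 : ∀ i, i < 42512 → P i := stepQ 42511 Q42511 (allL N42511 (tt N28648 F232805) (tt N42788 F232806) (tt N42771 (iv2 F155479)) (tt N57477 (iv3 F313558)) (tt N21578 (iv4 D69895)) (tt N75836 D149022) (tt N75837 D149023) (tt N42769 (iv7 F155526)))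
theorem Q42513 : ∀ i, i < 42513 → P i := stepQ 42512 Q42512 (allL N42512 (tt N74531 F228266) (tt N75803 F234112) (tt N42772 (iv2 F155482)) (tt N38329 (iv3 F155491)) (tt N75838 D149024) (tt N21578 (iv5 D69896)) (tt N38328 (iv6 F155494)) (tt N42770 (iv7 F155497)))
theorem Q42514 : ∀ i, i < 42514 → P i := stepQ 42513 Q42513 (allL N42513 (tt N75839 D149025) (tt N33882 (iv0 F155429)) (tt N42773 (iv2 F155485)) (tt N30671 F310499) (tt N75837 (iv4 F234300)) (tt N42557 (iv5 F106414)) (tt N21578 (iv6 D69897)) (tt N30667 F310500))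
theorem Q42515 : ∀ i, i < 42515 → P i := stepQ 42514 Q42514 (allL N42514 (tt N46401 (iv1 F314432)) (tt N25083 F312050) (tt N37587 F106316) (tt N66968 (iv3 F311884)) (tt N21579 (iv4 D69900)) (tt N75840 D149029) (tt N21581 F106317) (tt N46399 (iv7 F316650)))
theorem Q42516 : ∀ i, i < 42516 → P i := stepQ 42515 Q42515 (allL N42515 (tt N30687 F184624) (tt N37588 F106323) (tt N37589 F106318) (tt N75822 (iv3 F234278)) (tt N46399 F319020) (tt N21580 F106319) (tt N37583 F106320) (tt N21579 (iv7 D69901)))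
theorem Q42517 : ∀ i, i < 42517 → P i := stepQ 42516 Q42516 (allL N42516 (tt N21581 (iv1 D69903)) (tt N37563 F106328) (tt N37576 (iv2 F106331)) (tt N63557 (iv3 F312730)) (tt N22815 F106330) (tt N75841 D149035) (tt N75842 D149036) (tt N37577 F106329))
theorem Q42518 : ∀ i, i < 42518 → P i := stepQ 42517 Q42517 (allL N42517 (tt N75843 D149037) (tt N75844 D149038) (tt N53750 (iv2 F316729)) (tt N21581 (iv3 D69904)) (tt N63240 (iv4 F186472)) (tt N75845 D149040) (tt N66968 (iv6 F311885)) (tt N37578 F106332))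
theorem Q42519 : ∀ i, i < 42519 → P i := stepQ 42518 Q42518 (allL N42518 (tt N45580 F316777) (tt N68463 (iv0 F210586)) (tt N37586 F106333) (tt N75845 (iv3 F234365)) (tt N68490 (iv4 F210661)) (tt N21581 (iv5 D69905)) (tt N60377 (iv6 F361327)) (tt N37579 F106334))
theorem Q42520 : ∀ i, i < 42520 → P i := stepQ 42519 Q42519 (allL N42519 (tt N43911 F314827) (tt N64536 (iv0 F317084)) (tt N24999 F106335) (tt N21583 F106336) (tt N63079 (iv4 F184932)) (tt N75846 D149044) (tt N21582 (iv6 D69906)) (tt N64534 (iv7 F337504)))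
theorem Q42521 : ∀ i, i < 42521 → P i := stepQ 42520 Q42520 (allL N42520 (tt N21583 (iv1 D69908)) (tt N21601 F106337) (tt N21599 F187863) (tt N68272 (iv3 F307069)) (tt N63528 F187880) (tt N75847 D149049) (tt N48204 (iv6 F280102)) (tt N21598 F187864))
theorem Q42522 : ∀ i, i < 42522 → P i := stepQ 42521 Q42521 (allL N42521 (tt N75848 D149051) (tt N75849 D149052) (tt N21600 F106338) (tt N75846 (iv3 F234370)) (tt N75850 D149053) (tt N21583 (iv5 D69909)) (tt N48856 (iv6 F134722)) (tt N71541 (iv7 F363011)))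
theorem Q42523 : ∀ i, i < 42523 → P i := stepQ 42522 Q42522 (allL N42522 (tt N21599 (iv1 F106342)) (tt N21598 F106344) (tt N21601 F106339) (tt N64534 (iv3 F337503)) (tt N21587 F106340) (tt N71541 (iv5 F363010)) (tt N63095 (iv6 F185509)) (tt N21583 (iv7 D69910)))
theorem Q42524 : ∀ i, i < 42524 → P i := stepQ 42523 Q42523 (allL N42523 (tt N53982 (iv1 F191123)) (tt N35351 (iv0 F191121)) (tt N21603 F155216) (tt N53859 (iv3 F154828)) (tt N21584 (iv4 D69913)) (tt N75851 D149055) (tt N64447 (iv6 F303907)) (tt N21607 F155217))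
theorem Q42525 : ∀ i, i < 42525 → P i := stepQ 42524 Q42524 (allL N42524 (tt N46197 F155490) (tt N29701 F312692) (tt N21604 F155218) (tt N66924 (iv3 F206136)) (tt N75852 D149057) (tt N21584 (iv5 D69914)) (tt N36364 F320016) (tt N21608 F155219))
theorem Q42526 : ∀ i, i < 42526 → P i := stepQ 42525 Q42525 (allL N42525 (tt N25482 F191369) (tt N75805 F234125) (tt N66925 (iv2 F206143)) (tt N21585 (iv3 D69916)) (tt N34283 F106347) (tt N75853 D149058) (tt N48236 (iv6 F155293)) (tt N21602 F155225))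
theorem Q42527 : ∀ i, i < 42527 → P i := stepQ 42526 Q42526 (allL N42526 (tt N29701 F312693) (tt N46197 (iv0 F155489)) (tt N21608 F155228) (tt N75853 (iv3 F234410)) (tt N75854 D149061) (tt N21585 (iv5 D69918)) (tt N75855 D149062) (tt N21604 F155229))
theorem Q42528 : ∀ i, i < 42528 → P i := stepQ 42527 Q42527 (allL N42527 (tt N21613 (iv1 F106354)) (tt N21586 (iv0 D69920)) (tt N21610 F187649) (tt N66928 F206152) (tt N75856 D149063) (tt N75839 (iv5 F234303)) (tt N62729 F183359) (tt N21611 F187650))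
theorem Q42529 : ∀ i, i < 42529 → P i := stepQ 42528 Q42528 (allL N42528 (tt N21586 (iv1 D69921)) (tt N21613 F106348) (tt N21611 F187646) (tt N75857 D149064) (tt N75858 D149065) (tt N33882 (iv5 F106349)) (tt N40579 F319614) (tt N21610 F187647))
theorem Q42530 : ∀ i, i < 42530 → P i := stepQ 42529 Q42529 (allL N42529 (tt N21611 (iv1 F106355)) (tt N21610 F106356) (tt N21613 F106350) (tt N21639 F106351) (tt N55112 (iv4 F158908)) (tt N21587 F106352) (tt N21613 F106353) (tt N21586 (iv7 D69922)))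
theorem Q42531 : ∀ i, i < 42531 → P i := stepQ 42530 Q42530 (allL N42530 (tt N45315 (iv1 F115147)) (tt N45322 (iv0 F115237)) (tt N75164 (iv2 F230389)) (tt N21589 F106357) (tt N48977 (iv4 F134981)) (tt N21588 (iv5 D69923)) (tt N36360 F321610) (tt N21616 F106358))
theorem Q42532 : ∀ i, i < 42532 → P i := stepQ 42531 Q42531 (allL N42531 (tt N52197 (iv1 F148002)) (tt N52197 (iv0 F148001)) (tt N21619 F106359) (tt N52183 (iv3 F147938)) (tt N21589 (iv4 D69924)) (tt N29215 F106361) (tt N36361 F321611) (tt N21619 F106360))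
theorem Q42533 : ∀ i, i < 42533 → P i := stepQ 42532 Q42532 (allL N42532 (tt N64726 F198222) (tt N25492 F155121) (tt N21591 F106364) (tt N47945 (iv3 F130111)) (tt N34278 F106365) (tt N57683 (iv5 F314597)) (tt N21590 (iv6 D69926)) (tt N48037 F155122))
theorem Q42534 : ∀ i, i < 42534 → P i := stepQ 42533 Q42533 (allL N42533 (tt N48037 F155119) (tt N21591 (iv0 D69927)) (tt N64726 (iv2 F198217)) (tt N25198 F198148) (tt N63203 F200276) (tt N75859 D149071) (tt N75860 D149072) (tt N25492 F198149))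
theorem Q42535 : ∀ i, i < 42535 → P i := stepQ 42534 Q42534 (allL N42534 (tt N21591 (iv1 D69928)) (tt N48037 F155120) (tt N25492 F198147) (tt N39912 F314457) (tt N63204 (iv4 F200282)) (tt N39910 (iv5 F316785)) (tt N75861 D149074) (tt N64726 (iv7 F198218)))
theorem Q42536 : ∀ i, i < 42536 → P i := stepQ 42535 Q42535 (allL N42535 (tt N43844 (iv1 F184608)) (tt N21593 (iv0 D69948)) (tt N43617 (iv2 F184629)) (tt N54121 F184637) (tt N43499 (iv4 F232289)) (tt N75862 D149083) (tt N54373 (iv6 F350961)) (tt N43841 F184636))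
theorem Q42537 : ∀ i, i < 42537 → P i := stepQ 42536 Q42536 (allL N42536 (tt N39471 F338558) (tt N70490 (iv0 F332698)) (tt N49579 (iv2 F136865)) (tt N54236 (iv3 F156279)) (tt N36163 (iv4 F337831)) (tt N21593 (iv5 D69950)) (tt N49577 (iv6 F136857)) (tt N67092 (iv7 F206567)))
theorem Q42538 : ∀ i, i < 42538 → P i := stepQ 42537 Q42537 (allL N42537 (tt N25390 F106385) (tt N23931 F106386) (tt N25422 F106381) (tt N25061 F106382) (tt N21594 (iv4 D69962)) (tt N23927 F106384) (tt N69610 (iv6 F304091)) (tt N25423 F106383))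
theorem Q42539 : ∀ i, i < 42539 → P i := stepQ 42538 Q42538 (allL N42538 (tt N28169 F232559) (tt N75863 D149089) (tt N48551 (iv2 F133424)) (tt N21595 F106387) (tt N69610 (iv4 F304090)) (tt N75864 D149090) (tt N21594 (iv6 D69963)) (tt N65355 F232560))
theorem Q42540 : ∀ i, i < 42540 → P i := stepQ 42539 Q42539 (allL N42539 (tt N57691 (iv1 F315173)) (tt N63991 (iv0 F305538)) (tt N48703 (iv2 F134137)) (tt N75864 (iv3 F234477)) (tt N75865 D149093) (tt N21595 (iv5 D69966)) (tt N48701 (iv6 F134130)) (tt N65356 F232561))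
theorem Q42541 : ∀ i, i < 42541 → P i := stepQ 42540 Q42540 (allL N42540 (tt N36162 (iv1 F321115)) (tt N39830 F318998) (tt N39832 (iv2 F338406)) (tt N48549 (iv3 F133377)) (tt N69244 (iv4 F338590)) (tt N21596 (iv5 D69970)) (tt N48548 (iv6 F133374)) (tt N39831 F338405))
theorem Q42542 : ∀ i, i < 42542 → P i := stepQ 42541 Q42541 (allL N42541 (tt N75866 D149107) (tt N75867 D149108) (tt N48856 (iv2 F134721)) (tt N25013 F106388) (tt N71874 (iv4 F346023)) (tt N21597 (iv5 D69974)) (tt N21600 F106389) (tt N49137 (iv7 F289794)))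
theorem Q42543 : ∀ i, i < 42543 → P i := stepQ 42542 Q42542 (allL N42542 (tt N75868 D149111) (tt N48774 (iv0 F317270)) (tt N65171 (iv2 F302796)) (tt N21598 (iv3 D69977)) (tt N68273 (iv4 F305579)) (tt N75869 D149115) (tt N64428 (iv6 F305122)) (tt N68272 (iv7 F307070)))
theorem Q42544 : ∀ i, i < 42544 → P i := stepQ 42543 Q42543 (allL N42543 (tt N75870 D149117) (tt N75871 D149118) (tt N64590 (iv2 F306467)) (tt N75869 (iv3 F234494)) (tt N75872 D149119) (tt N21598 (iv5 D69979)) (tt N63649 (iv6 F366788)) (tt N75847 (iv7 F234383)))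
theorem Q42545 : ∀ i, i < 42545 → P i := stepQ 42544 Q42544 (allL N42544 (tt N22290 F308455) (tt N22286 F308456) (tt N22387 F308333) (tt N21599 (iv3 D69982)) (tt N43785 F308457) (tt N75873 D149129) (tt N64905 (iv6 F306488)) (tt N22303 F308334))
theorem Q42546 : ∀ i, i < 42546 → P i := stepQ 42545 Q42545 (allL N42545 (tt N75871 (iv1 F234498)) (tt N75870 F234497) (tt N75847 (iv2 F234382)) (tt N75873 (iv3 F234509)) (tt N75874 D149131) (tt N21599 (iv5 D69984)) (tt N75875 D149132) (tt N64590 (iv7 F306468)))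
theorem Q42547 : ∀ i, i < 42547 → P i := stepQ 42546 Q42546 (allL N42546 (tt N71541 (iv1 F363008)) (tt N21600 (iv0 D69986)) (tt N75848 (iv2 F234522)) (tt N75876 D149136) (tt N75877 D149137) (tt N75878 D149138) (tt N75879 D149139) (tt N75849 (iv7 F234520)))
theorem Q42548 : ∀ i, i < 42548 → P i := stepQ 42547 Q42547 (allL N42547 (tt N21600 (iv1 D69987)) (tt N71541 (iv0 F363007)) (tt N75849 (iv2 F234519)) (tt N49117 (iv3 F338049)) (tt N75880 D149142) (tt N75881 D149143) (tt N49116 (iv6 F338050)) (tt N75848 (iv7 F234523)))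
theorem Q42549 : ∀ i, i < 42549 → P i := stepQ 42548 Q42548 (allL N42548 (tt N75882 D149145) (tt N75883 D149146) (tt N75850 (iv2 F234388)) (tt N75884 D149147) (tt N21600 (iv4 D69988)) (tt N75885 D149148) (tt N71874 (iv6 F346024)) (tt N75886 D149149))
theorem Q42550 : ∀ i, i < 42550 → P i := stepQ 42549 Q42549 (allL N42549 (tt N75849 (iv1 F234386)) (tt N75848 F234391) (tt N71541 (iv2 F363009)) (tt N25022 F106394) (tt N75886 (iv4 F234525)) (tt N21601 F106395) (tt N70924 (iv6 F328991)) (tt N21600 (iv7 D69989)))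
theorem Q42551 : ∀ i, i < 42551 → P i := stepQ 42550 Q42550 (allL N42550 (tt N66925 F206147) (tt N21602 (iv0 D69996)) (tt N75805 (iv2 F234123)) (tt N21629 F188804) (tt N54297 (iv4 F308147)) (tt N75887 D149151) (tt N45737 F191146) (tt N25482 F191147))
theorem Q42552 : ∀ i, i < 42552 → P i := stepQ 42551 Q42551 (allL N42551 (tt N75805 (iv1 F234126)) (tt N25482 F191368) (tt N21602 (iv2 D69998)) (tt N47966 (iv3 F130290)) (tt N34282 (iv4 F155234)) (tt N75888 D149152) (tt N25829 F305092) (tt N66925 (iv7 F206145)))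
theorem Q42553 : ∀ i, i < 42553 → P i := stepQ 42552 Q42552 (allL N42552 (tt N34285 F106404) (tt N34272 (iv0 F106405)) (tt N34282 F155233) (tt N46834 F311734) (tt N21602 (iv4 D69999)) (tt N75889 D149155) (tt N34712 F303101) (tt N34283 F155232))
theorem Q42554 : ∀ i, i < 42554 → P i := stepQ 42553 Q42553 (allL N42553 (tt N75890 D149156) (tt N73153 (iv0 F339635)) (tt N75888 (iv2 F234529)) (tt N21604 F106406) (tt N75408 (iv4 F346282)) (tt N21602 (iv5 D70000)) (tt N75406 (iv6 F319645)) (tt N75853 (iv7 F234411)))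
theorem Q42555 : ∀ i, i < 42555 → P i := stepQ 42554 Q42554 (allL N42554 (tt N21607 (iv1 F106413)) (tt N21603 (iv0 D70003)) (tt N53982 (iv2 F190895)) (tt N75891 D149162) (tt N35355 (iv4 F190742)) (tt N71519 (iv5 F365483)) (tt N43687 F190893) (tt N35351 F190894))
theorem Q42556 : ∀ i, i < 42556 → P i := stepQ 42555 Q42555 (allL N42555 (tt N75892 D149169) (tt N75893 D149170) (tt N75851 (iv2 F234394)) (tt N47454 F311723) (tt N75894 D149171) (tt N21603 (iv5 D70006)) (tt N75895 D149172) (tt N54431 (iv7 F314169)))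
theorem Q42557 : ∀ i, i < 42557 → P i := stepQ 42556 Q42556 (allL N42556 (tt N43847 F190809) (tt N64345 (iv0 F306319)) (tt N64447 F305581) (tt N22348 F305582) (tt N21605 F106410) (tt N45284 (iv5 F307580)) (tt N21603 (iv6 D70007)) (tt N64462 F305583))
theorem Q42558 : ∀ i, i < 42558 → P i := stepQ 42557 Q42557 (allL N42557 (tt N21608 (iv1 F106418)) (tt N21604 (iv0 D70009)) (tt N46197 (iv2 F155460)) (tt N29702 F312694) (tt N75896 D149175) (tt N42513 F106414) (tt N36366 (iv6 F315171)) (tt N29701 F312695))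
theorem Q42559 : ∀ i, i < 42559 → P i := stepQ 42558 Q42558 (allL N42558 (tt N21604 (iv1 D70010)) (tt N21608 F106415) (tt N29701 F312688) (tt N21628 F155467) (tt N75897 D149176) (tt N46485 F155468) (tt N29698 (iv6 F315147)) (tt N46197 F155470))
theorem Q42560 : ∀ i, i < 42560 → P i := stepQ 42559 Q42559 (allL N42559 (tt N75898 D149177) (tt N75899 D149178) (tt N75852 (iv2 F234408)) (tt N75900 D149179) (tt N21604 (iv4 D70011)) (tt N75901 D149180) (tt N75902 D149181) (tt N75854 (iv7 F234417)))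
theorem Q42561 : ∀ i, i < 42561 → P i := stepQ 42560 Q42560 (allL N42560 (tt N36362 F317383) (tt N36366 F317384) (tt N36364 F320013) (tt N75406 (iv3 F319644)) (tt N75902 (iv4 F234550)) (tt N68499 (iv5 F210713)) (tt N21604 (iv6 D70012)) (tt N36363 F320014))
theorem Q42562 : ∀ i, i < 42562 → P i := stepQ 42561 Q42561 (allL N42561 (tt N72808 (iv1 F318793)) (tt N75903 D149185) (tt N66926 (iv2 F206148)) (tt N21608 F106420) (tt N62546 (iv4 F346261)) (tt N21606 (iv5 D70022)) (tt N75904 D149187) (tt N66924 (iv7 F206137)))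
theorem Q42563 : ∀ i, i < 42563 → P i := stepQ 42562 Q42562 (allL N42562 (tt N68004 F315813) (tt N67060 (iv0 F274098)) (tt N66927 (iv2 F206149)) (tt N21609 F106421) (tt N37064 F315814) (tt N75905 D149190) (tt N21606 (iv6 D70023)) (tt N48239 F155273))
theorem Q42564 : ∀ i, i < 42564 → P i := stepQ 42563 Q42563 (allL N42563 (tt N49551 (iv1 F154835)) (tt N53861 (iv0 F154834)) (tt N47455 F313108) (tt N21607 (iv3 D70024)) (tt N47969 (iv4 F130286)) (tt N75906 D149192) (tt N64497 (iv6 F303635)) (tt N53859 F155238))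
theorem Q42565 : ∀ i, i < 42565 → P i := stepQ 42564 Q42564 (allL N42564 (tt N75893 (iv1 F234546)) (tt N75892 F234545) (tt N54431 (iv2 F314168)) (tt N75906 (iv3 F234562)) (tt N75907 D149194) (tt N21607 (iv5 D70025)) (tt N75908 D149195) (tt N75851 (iv7 F234395)))
theorem Q42566 : ∀ i, i < 42566 → P i := stepQ 42565 Q42565 (allL N42565 (tt N64482 (iv1 F357833)) (tt N54276 F201291) (tt N48237 F155296) (tt N64497 (iv3 F303633)) (tt N21609 F106422) (tt N75909 D149197) (tt N21607 (iv6 D70026)) (tt N48240 F155274))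
theorem Q42567 : ∀ i, i < 42567 → P i := stepQ 42566 Q42566 (allL N42566 (tt N75899 (iv1 F234549)) (tt N75898 F234548) (tt N75854 (iv2 F234416)) (tt N59856 (iv3 F363710)) (tt N21608 (iv4 D70027)) (tt N75910 D149199) (tt N75911 D149200) (tt N75852 (iv7 F234409)))
theorem Q42568 : ∀ i, i < 42568 → P i := stepQ 42567 Q42567 (allL N42567 (tt N75637 (iv1 F310973)) (tt N33591 (iv0 F106423)) (tt N75855 (iv2 F234418)) (tt N75904 (iv3 F234559)) (tt N75911 (iv4 F234567)) (tt N75912 D149202) (tt N21608 (iv6 D70028)) (tt N75913 D149203))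
theorem Q42569 : ∀ i, i < 42569 → P i := stepQ 42568 Q42568 (allL N42568 (tt N23104 F155385) (tt N42492 (iv0 F106425)) (tt N48238 (iv2 F155297)) (tt N75905 (iv3 F234560)) (tt N63412 (iv4 F314397)) (tt N21609 (iv5 D70031)) (tt N75912 (iv6 F234576)) (tt N48241 F155275))
theorem Q42570 : ∀ i, i < 42570 → P i := stepQ 42569 Q42569 (allL N42569 (tt N75887 (iv1 F397574)) (tt N75804 (iv0 F234586)) (tt N75914 D149207) (tt N21610 (iv3 D70034)) (tt N75915 D149208) (tt N75916 D149209) (tt N75917 D149210) (tt N75857 (iv7 F234426)))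
theorem Q42571 : ∀ i, i < 42571 → P i := stepQ 42570 Q42570 (allL N42570 (tt N75918 D149211) (tt N75919 D149212) (tt N75856 (iv2 F234422)) (tt N75920 D149213) (tt N21610 (iv4 D70035)) (tt N75921 D149214) (tt N75922 D149215) (tt N75858 (iv7 F234430)))
theorem Q42572 : ∀ i, i < 42572 → P i := stepQ 42571 Q42571 (allL N42571 (tt N30667 F310498) (tt N42773 (iv0 F107164)) (tt N75839 F234304) (tt N75916 (iv3 F234590)) (tt N75923 D149216) (tt N21610 (iv5 D70036)) (tt N67094 (iv6 F206588)) (tt N33882 F187648))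
theorem Q42573 : ∀ i, i < 42573 → P i := stepQ 42572 Q42572 (allL N42572 (tt N72737 (iv1 F321728)) (tt N40638 F320023) (tt N62729 F187651) (tt N75917 (iv3 F234592)) (tt N75922 (iv4 F234604)) (tt N62719 F183341) (tt N21610 (iv6 D70037)) (tt N56019 (iv7 F333613)))
theorem Q42574 : ∀ i, i < 42574 → P i := stepQ 42573 Q42573 (allL N42573 (tt N63573 (iv1 F206165)) (tt N66931 F206164) (tt N66929 (iv2 F278235)) (tt N21611 (iv3 D70039)) (tt N47980 F185062) (tt N75924 D149220) (tt N56021 (iv6 F317368)) (tt N66928 (iv7 F206153)))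
theorem Q42575 : ∀ i, i < 42575 → P i := stepQ 42574 Q42574 (allL N42574 (tt N75919 (iv1 F234597)) (tt N75918 F234595) (tt N75858 (iv2 F234429)) (tt N75925 D149222) (tt N21611 (iv4 D70040)) (tt N75926 D149223) (tt N56026 (iv6 F317369)) (tt N75856 (iv7 F234423)))
theorem Q42576 : ∀ i, i < 42576 → P i := stepQ 42575 Q42575 (allL N42575 (tt N42773 F210846) (tt N30667 F310497) (tt N33882 F187638) (tt N75924 (iv3 F234609)) (tt N75927 D149225) (tt N21611 (iv5 D70041)) (tt N33869 F106428) (tt N75839 (iv7 F234305)))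
theorem Q42577 : ∀ i, i < 42577 → P i := stepQ 42576 Q42576 (allL N42576 (tt N55112 (iv1 F158913)) (tt N21612 (iv0 D70043)) (tt N55109 (iv2 F199522)) (tt N75928 D149230) (tt N65194 (iv4 F199515)) (tt N75929 D149231) (tt N75930 D149232) (tt N55110 (iv7 F199524)))
theorem Q42578 : ∀ i, i < 42578 → P i := stepQ 42577 Q42577 (allL N42577 (tt N21612 (iv1 D70044)) (tt N55112 F158911) (tt N55110 F199523) (tt N26220 (iv3 F340925)) (tt N65195 (iv4 F199520)) (tt N28988 (iv5 F340926)) (tt N72733 (iv6 F353155)) (tt N55109 F199521))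
theorem Q42579 : ∀ i, i < 42579 → P i := stepQ 42578 Q42578 (allL N42578 (tt N75931 D149236) (tt N28920 (iv0 F337135)) (tt N55111 (iv2 F158903)) (tt N29107 F106429) (tt N75932 D149238) (tt N21612 (iv5 D70045)) (tt N29103 F106430) (tt N75933 D149239))
theorem Q42580 : ∀ i, i < 42580 → P i := stepQ 42579 Q42579 (allL N42579 (tt N55110 (iv1 F158902)) (tt N55109 F158910) (tt N55112 (iv2 F158906)) (tt N29108 F106431) (tt N21613 F106432) (tt N75933 (iv5 F234625)) (tt N55112 (iv6 F158909)) (tt N21612 (iv7 D70046)))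
theorem Q42581 : ∀ i, i < 42581 → P i := stepQ 42580 Q42580 (allL N42580 (tt N45322 F115238) (tt N45315 (iv0 F115146)) (tt N21616 F106433) (tt N75164 (iv3 F230390)) (tt N62543 (iv4 F323297)) (tt N21614 (iv5 D70047)) (tt N62542 (iv6 F319634)) (tt N75164 (iv7 F230392)))
theorem Q42582 : ∀ i, i < 42582 → P i := stepQ 42581 Q42581 (allL N42581 (tt N75164 (iv1 F230394)) (tt N21616 (iv0 D70048)) (tt N45322 (iv2 F115234)) (tt N21652 F106434) (tt N36562 (iv4 F106436)) (tt N29721 F106435) (tt N75934 D149241) (tt N45315 (iv7 F115145)))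
theorem Q42583 : ∀ i, i < 42583 → P i := stepQ 42582 Q42582 (allL N42582 (tt N21616 (iv1 D70049)) (tt N75164 (iv0 F230393)) (tt N45315 (iv2 F115142)) (tt N21642 (iv3 F106440)) (tt N63089 F185441) (tt N32516 F106439) (tt N75935 D149242) (tt N45322 (iv7 F115236)))
theorem Q42584 : ∀ i, i < 42584 → P i := stepQ 42583 Q42583 (allL N42583 (tt N75855 F234420) (tt N75913 F234581) (tt N33591 F106442) (tt N21645 F106443) (tt N27369 F106444) (tt N33584 F106445) (tt N21618 (iv6 D70052)) (tt N75637 (iv7 F310978)))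
theorem Q42585 : ∀ i, i < 42585 → P i := stepQ 42584 Q42584 (allL N42584 (tt N52210 (iv1 F148019)) (tt N25653 (iv0 F106447)) (tt N52185 (iv2 F147944)) (tt N21619 (iv3 D70053)) (tt N59984 (iv4 F323303)) (tt N25740 F106446) (tt N31168 F321625) (tt N52183 (iv7 F147939)))
theorem Q42586 : ∀ i, i < 42586 → P i := stepQ 42585 Q42585 (allL N42585 (tt N73741 (iv1 F319636)) (tt N73804 (iv0 F319637)) (tt N36361 (iv2 F319622)) (tt N31168 (iv3 F319638)) (tt N21620 F106448) (tt N31809 (iv5 F319639)) (tt N21619 (iv6 D70054)) (tt N36359 (iv7 F319624)))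
theorem Q42587 : ∀ i, i < 42587 → P i := stepQ 42586 Q42586 (allL N42586 (tt N44141 F110920) (tt N45186 (iv0 F114722)) (tt N21621 (iv2 D70058)) (tt N68452 (iv3 F210554)) (tt N34589 F106450) (tt N41897 F106449) (tt N75936 D149257) (tt N68452 (iv7 F210556)))
theorem Q42588 : ∀ i, i < 42588 → P i := stepQ 42587 Q42587 (allL N42587 (tt N34592 F106454) (tt N34582 F106455) (tt N34589 F106451) (tt N75937 D149258) (tt N21621 (iv4 D70059)) (tt N25821 F106453) (tt N75938 D149259) (tt N34590 F106452))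
theorem Q42589 : ∀ i, i < 42589 → P i := stepQ 42588 Q42588 (allL N42588 (tt N72783 (iv1 F362054)) (tt N75939 D149261) (tt N75936 (iv2 F234640)) (tt N21623 F106456) (tt N75938 (iv4 F234649)) (tt N66824 (iv5 F205724)) (tt N21621 (iv6 D70060)) (tt N75940 D149262))
theorem Q42590 : ∀ i, i < 42590 → P i := stepQ 42589 Q42589 (allL N42589 (tt N21622 (iv1 F106458)) (tt N21622 (iv0 D70061)) (tt N46060 (iv2 F120154)) (tt N27300 (iv3 F106459)) (tt N42668 (iv4 F106780)) (tt N27299 F106457) (tt N75919 (iv6 F234601)) (tt N46060 (iv7 F120157)))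
theorem Q42591 : ∀ i, i < 42591 → P i := stepQ 42590 Q42590 (allL N42590 (tt N51802 (iv1 F147247)) (tt N25743 (iv0 F106461)) (tt N48751 (iv2 F134272)) (tt N21622 (iv3 D70062)) (tt N75937 (iv4 F234643)) (tt N27749 F106460) (tt N58514 (iv6 F362077)) (tt N48749 (iv7 F134270)))
theorem Q42592 : ∀ i, i < 42592 → P i := stepQ 42591 Q42591 (allL N42591 (tt N75941 D149264) (tt N75942 D149265) (tt N68474 (iv2 F210604)) (tt N58514 (iv3 F362076)) (tt N21623 F106462) (tt N75943 D149266) (tt N21622 (iv6 D70063)) (tt N75944 D149267))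
theorem Q42593 : ∀ i, i < 42593 → P i := stepQ 42592 Q42592 (allL N42592 (tt N68475 (iv1 F210611)) (tt N21623 (iv0 D70064)) (tt N40633 (iv2 F320895)) (tt N21669 (iv3 F320896)) (tt N51922 (iv4 F362071)) (tt N68556 (iv5 F210841)) (tt N40631 F318756) (tt N44017 (iv7 F321621)))
theorem Q42594 : ∀ i, i < 42594 → P i := stepQ 42593 Q42593 (allL N42593 (tt N21623 (iv1 D70065)) (tt N68475 F210610) (tt N44017 F322659) (tt N21663 (iv3 F324170)) (tt N51957 (iv4 F362079)) (tt N68518 (iv5 F210746)) (tt N72737 F322660) (tt N40633 F322661))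
theorem Q42595 : ∀ i, i < 42595 → P i := stepQ 42594 Q42594 (allL N42594 (tt N44017 F317619) (tt N40633 F318754) (tt N68475 (iv2 F210606)) (tt N75940 (iv3 F234650)) (tt N75944 (iv4 F234652)) (tt N66752 (iv5 F318854)) (tt N68475 (iv6 F210608)) (tt N21623 (iv7 D70066)))
theorem Q42596 : ∀ i, i < 42596 → P i := stepQ 42595 Q42595 (allL N42595 (tt N26183 F307536) (tt N51941 (iv0 F147486)) (tt N49537 (iv2 F136797)) (tt N21624 (iv3 D70067)) (tt N53554 F307537) (tt N27682 F106463) (tt N75945 D149274) (tt N49543 (iv7 F136805)))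
theorem Q42597 : ∀ i, i < 42597 → P i := stepQ 42596 Q42596 (allL N42596 (tt N51922 (iv1 F362070)) (tt N51957 (iv0 F362078)) (tt N51736 (iv2 F147123)) (tt N75945 (iv3 F234655)) (tt N75244 (iv4 F230854)) (tt N75946 D149277) (tt N21624 (iv6 D70068)) (tt N75947 D149278))
theorem Q42598 : ∀ i, i < 42598 → P i := stepQ 42597 Q42597 (allL N42597 (tt N75948 D149279) (tt N75949 D149280) (tt N66946 (iv2 F206198)) (tt N24592 F302137) (tt N75950 D149281) (tt N21625 (iv5 D70084)) (tt N75951 D149282) (tt N46215 (iv7 F122539)))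
theorem Q42599 : ∀ i, i < 42599 → P i := stepQ 42598 Q42598 (allL N42598 (tt N46225 (iv1 F122585)) (tt N21626 (iv0 D70086)) (tt N46228 F234264) (tt N75903 (iv3 F278140)) (tt N75952 D149287) (tt N46483 (iv5 F201146)) (tt N24314 F314065) (tt N46227 F234268))
theorem Q42600 : ∀ i, i < 42600 → P i := stepQ 42599 Q42599 (allL N42599 (tt N21626 (iv1 D70087)) (tt N46225 F122584) (tt N46227 F234267) (tt N62314 (iv3 F317434)) (tt N75953 D149290) (tt N46484 (iv5 F206212)) (tt N45325 F206213) (tt N46228 (iv7 F234266)))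
theorem Q42601 : ∀ i, i < 42601 → P i := stepQ 42600 Q42600 (allL N42600 (tt N73975 (iv1 F315703)) (tt N73735 (iv0 F317993)) (tt N66947 (iv2 F206201)) (tt N63060 (iv3 F316773)) (tt N21626 (iv4 D70088)) (tt N75954 D149294) (tt N63059 (iv6 F317823)) (tt N46229 (iv7 F122590)))
theorem Q42602 : ∀ i, i < 42602 → P i := stepQ 42601 Q42601 (allL N42601 (tt N22449 F106476) (tt N22448 F106477) (tt N36376 (iv2 F310956)) (tt N75955 D149300) (tt N21627 (iv4 D70093)) (tt N33572 (iv5 F313162)) (tt N41435 (iv6 F313163)) (tt N33503 (iv7 F310954)))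
theorem Q42603 : ∀ i, i < 42603 → P i := stepQ 42602 Q42602 (allL N42602 (tt N45248 F307423) (tt N42699 (iv0 F304745)) (tt N46191 F191149) (tt N46525 F302274) (tt N21629 (iv4 D70110)) (tt N63336 (iv5 F309453)) (tt N45738 F191150) (tt N25485 F191151))
theorem Q42604 : ∀ i, i < 42604 → P i := stepQ 42603 Q42603 (allL N42603 (tt N21638 F185140) (tt N56119 (iv0 F191167)) (tt N46192 F191152) (tt N75887 (iv3 F234527)) (tt N75956 D149320) (tt N21629 (iv5 D70111)) (tt N75957 D149321) (tt N25486 F191153))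
theorem Q42605 : ∀ i, i < 42605 → P i := stepQ 42604 Q42604 (allL N42604 (tt N46195 (iv1 F122448)) (tt N46194 F122447) (tt N21632 F106495) (tt N46225 (iv3 F122582)) (tt N73894 (iv4 F323284)) (tt N21630 (iv5 D70114)) (tt N75958 D149326) (tt N46193 (iv7 F122441)))
theorem Q42606 : ∀ i, i < 42606 → P i := stepQ 42605 Q42605 (allL N42605 (tt N21631 (iv1 D70117)) (tt N46179 F122418) (tt N46178 F131650) (tt N37505 F303960) (tt N34175 (iv4 F130261)) (tt N75959 D149328) (tt N45724 F130343) (tt N25445 F130344))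
theorem Q42607 : ∀ i, i < 42607 → P i := stepQ 42606 Q42606 (allL N42606 (tt N72397 (iv1 F309990)) (tt N75960 D149330) (tt N69637 F307999) (tt N34737 F106497) (tt N75961 D149331) (tt N21631 (iv5 D70118)) (tt N23151 (iv6 F309993)) (tt N46180 (iv7 F122420)))
theorem Q42608 : ∀ i, i < 42608 → P i := stepQ 42607 Q42607 (allL N42607 (tt N46193 (iv1 F122443)) (tt N21632 (iv0 D70120)) (tt N46195 F234074) (tt N62243 (iv3 F318765)) (tt N75962 D149336) (tt N75963 D149337) (tt N62241 (iv6 F318764)) (tt N46194 F234072))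
theorem Q42609 : ∀ i, i < 42609 → P i := stepQ 42608 Q42608 (allL N42608 (tt N21632 (iv1 D70121)) (tt N46193 F122442) (tt N46194 (iv2 F234070)) (tt N75890 F234537) (tt N75964 D149339) (tt N42476 F191343) (tt N75965 D149340) (tt N46195 (iv7 F234073)))
theorem Q42610 : ∀ i, i < 42610 → P i := stepQ 42609 Q42609 (allL N42609 (tt N75966 D149346) (tt N45316 (iv0 F191342)) (tt N75958 (iv2 F234754)) (tt N21634 F106500) (tt N73927 (iv4 F314583)) (tt N75967 D149347) (tt N21632 (iv6 D70123)) (tt N63055 (iv7 F310969)))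
theorem Q42611 : ∀ i, i < 42611 → P i := stepQ 42610 Q42610 (allL N42610 (tt N37520 F309835) (tt N21633 (iv0 D70124)) (tt N46130 F305836) (tt N52390 F305837) (tt N22791 (iv4 F312032)) (tt N42830 F215734) (tt N64269 F215735) (tt N25491 F215736))
theorem Q42612 : ∀ i, i < 42612 → P i := stepQ 42611 Q42611 (allL N42611 (tt N21633 (iv1 D70125)) (tt N37520 F309834) (tt N25491 F215737) (tt N75860 (iv3 F234448)) (tt N22790 (iv4 F312031)) (tt N42831 F215738) (tt N25198 F215739) (tt N46130 F305834))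
theorem Q42613 : ∀ i, i < 42613 → P i := stepQ 42612 Q42612 (allL N42612 (tt N45250 F312021) (tt N75968 D149353) (tt N69636 F312022) (tt N21635 F106501) (tt N75627 F232204) (tt N21633 (iv5 D70126)) (tt N75967 (iv6 F234777)) (tt N46131 F305854))
theorem Q42614 : ∀ i, i < 42614 → P i := stepQ 42613 Q42613 (allL N42613 (tt N72745 (iv1 F313166)) (tt N40636 (iv0 F313168)) (tt N46235 (iv2 F122598)) (tt N75967 (iv3 F234776)) (tt N47013 F324708) (tt N21634 (iv5 D70131)) (tt N21635 F106511) (tt N41614 (iv7 F106514)))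
theorem Q42615 : ∀ i, i < 42615 → P i := stepQ 42614 Q42614 (allL N42614 (tt N34558 F106520) (tt N34554 F106521) (tt N44878 F113807) (tt N47015 (iv3 F325800)) (tt N21635 (iv4 D70133)) (tt N25140 F106519) (tt N47013 F324714) (tt N44879 (iv7 F113809)))
theorem Q42616 : ∀ i, i < 42616 → P i := stepQ 42615 Q42615 (allL N42615 (tt N75969 D149365) (tt N29914 F191131) (tt N66948 (iv2 F206203)) (tt N41796 F319419) (tt N21636 (iv4 D70137)) (tt N75970 D149367) (tt N74848 (iv6 F229598)) (tt N40748 F319420))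
theorem Q42617 : ∀ i, i < 42617 → P i := stepQ 42616 Q42616 (allL N42616 (tt N69674 (iv1 F310797)) (tt N42819 F206211) (tt N66949 (iv2 F206207)) (tt N21637 F106522) (tt N75971 D149369) (tt N21636 (iv5 D70138)) (tt N42901 (iv6 F107587)) (tt N24184 F106523))
theorem Q42618 : ∀ i, i < 42618 → P i := stepQ 42617 Q42617 (allL N42617 (tt N25486 (iv1 F190057)) (tt N46192 (iv0 F189470)) (tt N21638 (iv2 D70143)) (tt N40737 F319291) (tt N75972 D149374) (tt N42891 F107556) (tt N33360 F319292) (tt N56119 (iv7 F191170)))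
theorem Q42619 : ∀ i, i < 42619 → P i := stepQ 42618 Q42618 (allL N42618 (tt N45289 F185064) (tt N75973 D149376) (tt N75972 (iv2 F234893)) (tt N33612 F319683) (tt N21638 (iv4 D70144)) (tt N75974 D149378) (tt N33362 F319684) (tt N63085 (iv7 F185148)))
theorem Q42620 : ∀ i, i < 42620 → P i := stepQ 42619 Q42619 (allL N42619 (tt N32841 F106546) (tt N23360 F106547) (tt N32793 F106543) (tt N23176 F106548) (tt N21640 (iv4 D70159)) (tt N29570 F106544) (tt N73785 (iv6 F320229)) (tt N32740 F106545))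
theorem Q42621 : ∀ i, i < 42621 → P i := stepQ 42620 Q42620 (allL N42620 (tt N75975 D149416) (tt N63084 (iv0 F205953)) (tt N45320 (iv2 F115228)) (tt N75804 (iv3 F234121)) (tt N73785 (iv4 F320228)) (tt N22352 F106549) (tt N21640 (iv6 D70160)) (tt N66954 (iv7 F206236)))
theorem Q42622 : ∀ i, i < 42622 → P i := stepQ 42621 Q42621 (allL N42621 (tt N29896 F106556) (tt N21688 F106557) (tt N32794 F106553) (tt N29572 F106558) (tt N21642 (iv4 D70162)) (tt N29889 F106555) (tt N61754 (iv6 F335816)) (tt N32752 F106554))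
theorem Q42623 : ∀ i, i < 42623 → P i := stepQ 42622 Q42622 (allL N42622 (tt N52586 F311003) (tt N24307 F311004) (tt N36314 F106607) (tt N75935 (iv3 F234632)) (tt N61754 (iv4 F335815)) (tt N36300 F106608) (tt N21642 (iv6 D70163)) (tt N52584 (iv7 F308835)))
theorem Q42624 : ∀ i, i < 42624 → P i := stepQ 42623 Q42623 (allL N42623 (tt N21688 F106612) (tt N29896 F106613) (tt N32752 F106609) (tt N50966 (iv3 F143170)) (tt N21643 (iv4 D70164)) (tt N34395 F106610) (tt N75976 D149423) (tt N32794 F106611))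
theorem Q42625 : ∀ i, i < 42625 → P i := stepQ 42624 Q42624 (allL N42624 (tt N46230 F188479) (tt N75633 (iv0 F313176)) (tt N45323 (iv2 F115239)) (tt N45314 (iv3 F115140)) (tt N75976 (iv4 F235005)) (tt N36309 F106614) (tt N21643 (iv6 D70165)) (tt N75635 (iv7 F313175)))
theorem Q42626 : ∀ i, i < 42626 → P i := stepQ 42625 Q42625 (allL N42625 (tt N23346 F106629) (tt N23348 F106630) (tt N45311 (iv2 F115123)) (tt N22169 F106631) (tt N21647 (iv4 D70184)) (tt N22168 F106628) (tt N28150 (iv6 F305529)) (tt N22256 F106627))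
theorem Q42627 : ∀ i, i < 42627 → P i := stepQ 42626 Q42626 (allL N42626 (tt N63083 (iv1 F243494)) (tt N75977 D149459) (tt N45312 (iv2 F115129)) (tt N63573 (iv3 F188162)) (tt N28150 F307552) (tt N36607 F308264) (tt N21647 (iv6 D70185)) (tt N75957 (iv7 F234746)))
theorem Q42628 : ∀ i, i < 42628 → P i := stepQ 42627 Q42627 (allL N42627 (tt N23150 F106637) (tt N23147 (iv0 F106638)) (tt N21657 F106634) (tt N36480 F106635) (tt N63291 (iv4 F186770)) (tt N21649 (iv5 D70188)) (tt N62232 (iv6 F321919)) (tt N36475 F106636))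
theorem Q42629 : ∀ i, i < 42629 → P i := stepQ 42628 Q42628 (allL N42628 (tt N23341 F106641) (tt N23337 F106642) (tt N35356 F106639) (tt N32677 (iv3 F106643)) (tt N21651 (iv4 D70189)) (tt N34959 F106640) (tt N69921 (iv6 F335178)) (tt N43693 (iv7 F109466)))
theorem Q42630 : ∀ i, i < 42630 → P i := stepQ 42629 Q42629 (allL N42629 (tt N75958 F234755) (tt N63055 (iv0 F310965)) (tt N45316 (iv2 F115148)) (tt N36314 F106644) (tt N69921 (iv4 F335177)) (tt N36307 F106645) (tt N21651 (iv6 D70190)) (tt N75966 (iv7 F252903)))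
theorem Q42631 : ∀ i, i < 42631 → P i := stepQ 42630 Q42630 (allL N42630 (tt N41714 F229618) (tt N52577 (iv0 F311479)) (tt N45314 (iv2 F115139)) (tt N75934 (iv3 F234627)) (tt N43695 (iv4 F109471)) (tt N29726 F106646) (tt N21652 (iv6 D70191)) (tt N75978 D149467))
theorem Q42632 : ∀ i, i < 42632 → P i := stepQ 42631 Q42631 (allL N42631 (tt N21653 (iv1 D70192)) (tt N45313 (iv0 F115135)) (tt N42665 (iv2 F106747)) (tt N34919 (iv3 F106731)) (tt N42659 (iv4 F106727)) (tt N28153 F106728) (tt N72189 (iv6 F330632)) (tt N45259 (iv7 F114959)))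
theorem Q42633 : ∀ i, i < 42633 → P i := stepQ 42632 Q42632 (allL N42632 (tt N28495 F106652) (tt N28493 F106651) (tt N45287 F115032) (tt N34843 F115061) (tt N50929 (iv4 F143078)) (tt N21653 (iv5 D70194)) (tt N75979 D149470) (tt N45288 (iv7 F115034)))
theorem Q42634 : ∀ i, i < 42634 → P i := stepQ 42633 Q42633 (allL N42633 (tt N21654 (iv1 D70197)) (tt N62311 (iv0 F318768)) (tt N62241 F320901) (tt N73152 (iv3 F322665)) (tt N40980 F320902) (tt N36210 F320903) (tt N46195 F235098) (tt N62321 (iv7 F318767)))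
theorem Q42635 : ∀ i, i < 42635 → P i := stepQ 42634 Q42634 (allL N42634 (tt N36254 F106658) (tt N23335 (iv0 F106659)) (tt N53664 F154332) (tt N45317 (iv3 F115153)) (tt N21655 (iv4 D70200)) (tt N63340 (iv5 F186919)) (tt N23312 F106657) (tt N45189 (iv7 F114741)))
theorem Q42636 : ∀ i, i < 42636 → P i := stepQ 42635 Q42635 (allL N42635 (tt N23335 F106661) (tt N36254 F106663) (tt N45189 (iv2 F114738)) (tt N56632 (iv3 F164492)) (tt N21656 (iv4 D70201)) (tt N63341 (iv5 F186923)) (tt N36249 F106660) (tt N53664 (iv7 F154334)))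
theorem Q42637 : ∀ i, i < 42637 → P i := stepQ 42636 Q42636 (allL N42636 (tt N21657 (iv1 D70202)) (tt N36475 F106664) (tt N23147 (iv2 F106667)) (tt N42743 (iv3 F107046)) (tt N75980 D149486) (tt N23143 F106666) (tt N57464 (iv6 F166810)) (tt N23150 F106665))
theorem Q42638 : ∀ i, i < 42638 → P i := stepQ 42637 Q42637 (allL N42637 (tt N67108 (iv1 F339208)) (tt N67111 (iv0 F339198)) (tt N75981 D149521) (tt N21658 (iv3 D70221)) (tt N63363 (iv4 F186945)) (tt N42885 (iv5 F107533)) (tt N72746 (iv6 F322632)) (tt N42883 (iv7 F107528)))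
theorem Q42639 : ∀ i, i < 42639 → P i := stepQ 42638 Q42638 (allL N42638 (tt N24312 F309957) (tt N24310 (iv0 F311467)) (tt N21661 F106680) (tt N63086 (iv3 F185195)) (tt N29910 F106681) (tt N35495 (iv5 F311666)) (tt N21659 (iv6 D70222)) (tt N46494 (iv7 F311470)))
theorem Q42640 : ∀ i, i < 42640 → P i := stepQ 42639 Q42639 (allL N42639 (tt N46032 F290267) (tt N32642 F290268) (tt N29910 F106682) (tt N42450 F106683) (tt N21661 F106684) (tt N29910 F106685) (tt N21660 (iv6 D70223)) (tt N46031 F290278))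
theorem Q42641 : ∀ i, i < 42641 → P i := stepQ 42640 Q42640 (allL N42640 (tt N24310 (iv1 F311468)) (tt N24312 F309246) (tt N46494 (iv2 F311469)) (tt N21664 F106686) (tt N46031 F290275) (tt N25195 F309247) (tt N34354 F317613) (tt N21661 (iv7 D70226)))
theorem Q42642 : ∀ i, i < 42642 → P i := stepQ 42641 Q42641 (allL N42641 (tt N21846 F305295) (tt N21826 F305296) (tt N21843 F305297) (tt N68518 (iv3 F324172)) (tt N22121 (iv4 F307199)) (tt N21663 (iv5 D70239)) (tt N30560 F106692) (tt N21844 F305298))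
theorem Q42643 : ∀ i, i < 42643 → P i := stepQ 42642 Q42642 (allL N42642 (tt N44047 (iv1 F319821)) (tt N44046 (iv0 F319822)) (tt N21667 F106695) (tt N44020 F317591) (tt N45279 (iv4 F115003)) (tt N38314 F106696) (tt N21665 (iv6 D70241)) (tt N44048 (iv7 F319820)))
theorem Q42644 : ∀ i, i < 42644 → P i := stepQ 42643 Q42643 (allL N42643 (tt N72699 (iv1 F314019)) (tt N75982 D149574) (tt N45279 (iv2 F115002)) (tt N34340 F314936) (tt N21667 F106697) (tt N75983 D149575) (tt N21666 (iv6 D70242)) (tt N44038 (iv7 F317169)))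
theorem Q42645 : ∀ i, i < 42645 → P i := stepQ 42644 Q42644 (allL N42644 (tt N44048 (iv1 F319818)) (tt N21667 (iv0 D70243)) (tt N44047 F321717) (tt N24312 (iv3 F307967)) (tt N73861 (iv4 F325374)) (tt N21868 F306014) (tt N40743 F324175) (tt N44046 F321718))
theorem Q42646 : ∀ i, i < 42646 → P i := stepQ 42645 Q42645 (allL N42645 (tt N21667 (iv1 D70244)) (tt N44048 (iv0 F319817)) (tt N44046 F321720) (tt N75984 D149582) (tt N75985 D149583) (tt N46493 (iv5 F311701)) (tt N40624 F334921) (tt N44047 F321721))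
theorem Q42647 : ∀ i, i < 42647 → P i := stepQ 42646 Q42646 (allL N42646 (tt N45297 (iv1 F115071)) (tt N21668 (iv0 D70246)) (tt N45296 (iv2 F115065)) (tt N41836 F309773) (tt N75986 D149587) (tt N46104 F120271) (tt N33613 (iv6 F311981)) (tt N45295 F115066))
theorem Q42648 : ∀ i, i < 42648 → P i := stepQ 42647 Q42647 (allL N42647 (tt N45296 F115058) (tt N45295 F115053) (tt N21668 (iv2 D70247)) (tt N29593 F106700) (tt N63920 (iv4 F191793)) (tt N42860 (iv5 F107385)) (tt N34333 (iv6 F308199)) (tt N45297 (iv7 F115070)))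
theorem Q42649 : ∀ i, i < 42649 → P i := stepQ 42648 Q42648 (allL N42648 (tt N32852 (iv1 F106705)) (tt N21671 (iv0 D70260)) (tt N53066 (iv2 F296807)) (tt N42985 (iv3 F107852)) (tt N53062 (iv4 F296792)) (tt N37501 F307843) (tt N41226 (iv6 F318730)) (tt N62710 F307844))
theorem Q42650 : ∀ i, i < 42650 → P i := stepQ 42649 Q42649 (allL N42649 (tt N53066 (iv1 F296806)) (tt N62710 (iv0 F307286)) (tt N21671 (iv2 D70262)) (tt N32833 F106706) (tt N75987 D149620) (tt N37645 F305329) (tt N41593 (iv6 F307292)) (tt N32852 F106707))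
theorem Q42651 : ∀ i, i < 42651 → P i := stepQ 42650 Q42650 (allL N42650 (tt N63436 (iv1 F303493)) (tt N74825 (iv0 F310159)) (tt N75987 (iv2 F235210)) (tt N23356 F106709) (tt N21671 (iv4 D70263)) (tt N66973 (iv5 F206303)) (tt N65352 (iv6 F309863)) (tt N63088 (iv7 F185402)))
theorem Q42652 : ∀ i, i < 42652 → P i := stepQ 42651 Q42651 (allL N42651 (tt N36378 (iv1 F309222)) (tt N36381 (iv0 F309223)) (tt N41223 F322410) (tt N24940 F106716) (tt N65085 (iv4 F199146)) (tt N21673 (iv5 D70276)) (tt N21718 F106717) (tt N41224 F322411))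
theorem Q42653 : ∀ i, i < 42653 → P i := stepQ 42652 Q42652 (allL N42652 (tt N66954 (iv1 F206239)) (tt N45320 (iv0 F191339)) (tt N75975 F234969) (tt N21674 (iv3 D70278)) (tt N29911 F191132) (tt N57419 (iv5 F312650)) (tt N72744 (iv6 F315569)) (tt N63084 (iv7 F185033)))
theorem Q42654 : ∀ i, i < 42654 → P i := stepQ 42653 Q42653 (allL N42653 (tt N45312 F188378) (tt N75957 F234747) (tt N75977 (iv2 F235053)) (tt N21675 (iv3 D70282)) (tt N43929 F110176) (tt N42865 F107484) (tt N39778 F320782) (tt N63083 (iv7 F185029)))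
theorem Q42655 : ∀ i, i < 42655 → P i := stepQ 42654 Q42654 (allL N42654 (tt N34600 F130252) (tt N33622 (iv0 F311046)) (tt N40837 (iv2 F315927)) (tt N72331 (iv3 F346821)) (tt N21675 (iv4 D70283)) (tt N33811 (iv5 F313058)) (tt N33388 F315500) (tt N41816 (iv7 F312710)))
theorem Q42656 : ∀ i, i < 42656 → P i := stepQ 42655 Q42655 (allL N42655 (tt N50805 F157734) (tt N75988 D149657) (tt N50928 (iv2 F143072)) (tt N21678 F106720) (tt N28379 F106721) (tt N74521 (iv5 F228240)) (tt N21677 (iv6 D70285)) (tt N75989 D149658))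
theorem Q42657 : ∀ i, i < 42657 → P i := stepQ 42656 Q42656 (allL N42656 (tt N26580 F157723) (tt N21678 (iv0 D70286)) (tt N26446 F157724) (tt N26568 F157725) (tt N29183 F157726) (tt N75990 D149659) (tt N75991 D149660) (tt N26581 F157727))
theorem Q42658 : ∀ i, i < 42658 → P i := stepQ 42657 Q42657 (allL N42657 (tt N26581 (iv1 F157740)) (tt N26446 (iv0 F157741)) (tt N26580 F157728) (tt N75989 (iv3 F235264)) (tt N41172 F295949) (tt N74523 (iv5 F228246)) (tt N45161 (iv6 F114660)) (tt N21678 (iv7 D70288)))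
theorem Q42659 : ∀ i, i < 42659 → P i := stepQ 42658 Q42658 (allL N42658 (tt N55813 (iv1 F340924)) (tt N75992 D149662) (tt N34699 F106722) (tt N22043 F106723) (tt N51943 (iv4 F147489)) (tt N60823 (iv5 F176974)) (tt N21679 (iv6 D70289)) (tt N75993 D149663))
theorem Q42660 : ∀ i, i < 42660 → P i := stepQ 42659 Q42659 (allL N42659 (tt N23325 (iv1 F106729)) (tt N23328 (iv0 F106730)) (tt N21682 F106724) (tt N21680 (iv3 D70290)) (tt N42631 F106727) (tt N26916 F106725) (tt N75994 D149664) (tt N23336 F106726))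
theorem Q42661 : ∀ i, i < 42661 → P i := stepQ 42660 Q42660 (allL N42660 (tt N41932 F106735) (tt N41931 F106736) (tt N33691 F106733) (tt N47422 F332277) (tt N21680 (iv4 D70291)) (tt N54119 (iv5 F156014)) (tt N47419 (iv6 F332285)) (tt N41877 F106734))
theorem Q42662 : ∀ i, i < 42662 → P i := stepQ 42661 Q42661 (allL N42661 (tt N63708 F188826) (tt N41938 (iv0 F186345)) (tt N33688 F106737) (tt N75994 (iv3 F235297)) (tt N47419 F332287) (tt N33682 F106738) (tt N21680 (iv6 D70292)) (tt N75995 D149666))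
theorem Q42663 : ∀ i, i < 42663 → P i := stepQ 42662 Q42662 (allL N42662 (tt N41930 (iv1 F106739)) (tt N21681 (iv0 D70293)) (tt N63089 (iv2 F185442)) (tt N35358 (iv3 F108406)) (tt N45315 (iv4 F115143)) (tt N36510 F108407) (tt N70092 (iv6 F330255)) (tt N36562 F108408))
theorem Q42664 : ∀ i, i < 42664 → P i := stepQ 42663 Q42663 (allL N42663 (tt N21681 (iv1 D70294)) (tt N41930 F106740) (tt N36562 (iv2 F108409)) (tt N32753 (iv3 F106743)) (tt N45322 (iv4 F115235)) (tt N36561 F108410) (tt N75996 D149668) (tt N63089 (iv7 F185438)))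
theorem Q42665 : ∀ i, i < 42665 → P i := stepQ 42664 Q42664 (allL N42664 (tt N22191 (iv1 F106744)) (tt N48974 (iv0 F134971)) (tt N52855 (iv2 F151717)) (tt N41610 F310238) (tt N28376 F106742) (tt N21681 (iv5 D70296)) (tt N75997 D149674) (tt N52853 (iv7 F151713)))
theorem Q42666 : ∀ i, i < 42666 → P i := stepQ 42665 Q42665 (allL N42665 (tt N40989 F321923) (tt N23378 F106750) (tt N42631 F106747) (tt N42254 F312005) (tt N21682 (iv4 D70301)) (tt N47833 (iv5 F129882)) (tt N75998 D149685) (tt N33655 F106748))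
theorem Q42667 : ∀ i, i < 42667 → P i := stepQ 42666 Q42666 (allL N42666 (tt N75999 D149686) (tt N72251 (iv0 F329256)) (tt N75994 (iv2 F235296)) (tt N21683 F106751) (tt N75998 (iv4 F235350)) (tt N41810 F106752) (tt N21682 (iv6 D70302)) (tt N76000 D149688))
theorem Q42668 : ∀ i, i < 42668 → P i := stepQ 42667 Q42667 (allL N42667 (tt N33786 F309372) (tt N22450 F106764) (tt N41941 F106760) (tt N76000 (iv3 F235355)) (tt N33795 F309373) (tt N41842 F106761) (tt N33660 F106762) (tt N21683 (iv7 D70306)))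
theorem Q42669 : ∀ i, i < 42669 → P i := stepQ 42668 Q42668 (allL N42668 (tt N23345 F106779) (tt N23345 F106781) (tt N42488 F106776) (tt N21685 F106777) (tt N42589 F106780) (tt N21684 (iv5 D70324)) (tt N65189 (iv6 F199493)) (tt N42488 F106778))
theorem Q42670 : ∀ i, i < 42670 → P i := stepQ 42669 Q42669 (allL N42669 (tt N64056 (iv1 F192434)) (tt N62522 (iv0 F322156)) (tt N22299 F106782) (tt N65189 (iv3 F199492)) (tt N56286 (iv4 F163342)) (tt N22293 F106783) (tt N21685 (iv6 D70325)) (tt N65208 (iv7 F199576)))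
theorem Q42671 : ∀ i, i < 42671 → P i := stepQ 42670 Q42670 (allL N42670 (tt N32794 F106787) (tt N32752 F106788) (tt N21688 F106784) (tt N23873 F106789) (tt N21686 (iv4 D70326)) (tt N29765 F106785) (tt N42261 F321307) (tt N29896 F106786))
theorem Q42672 : ∀ i, i < 42672 → P i := stepQ 42671 Q42671 (allL N42671 (tt N62239 (iv1 F322667)) (tt N62242 F320904) (tt N42261 F320905) (tt N32809 F106792) (tt N21689 F106793) (tt N76001 D149726) (tt N21688 (iv6 D70328)) (tt N41024 (iv7 F318688)))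
theorem Q42673 : ∀ i, i < 42673 → P i := stepQ 42672 Q42672 (allL N42672 (tt N33440 F318230) (tt N21689 (iv0 D70329)) (tt N41025 F320878) (tt N33372 F318231) (tt N36387 (iv4 F290352)) (tt N33370 (iv5 F320386)) (tt N76002 D149728) (tt N40842 F318232))
theorem Q42674 : ∀ i, i < 42674 → P i := stepQ 42673 Q42673 (allL N42673 (tt N21689 (iv1 D70330)) (tt N33440 F318357) (tt N40842 F318358) (tt N40897 (iv3 F320240)) (tt N40467 (iv4 F319138)) (tt N33426 (iv5 F320462)) (tt N63714 (iv6 F190834)) (tt N41025 F320879))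
theorem Q42675 : ∀ i, i < 42675 → P i := stepQ 42674 Q42674 (allL N42674 (tt N33476 F322067) (tt N40374 F322068) (tt N40175 F322069) (tt N21695 F106794) (tt N62225 (iv4 F322668)) (tt N21689 (iv5 D70331)) (tt N21691 F106795) (tt N41026 (iv7 F318750)))
theorem Q42676 : ∀ i, i < 42676 → P i := stepQ 42675 Q42675 (allL N42675 (tt N23334 F106802) (tt N41384 F106803) (tt N41361 F106797) (tt N21690 (iv3 D70333)) (tt N41361 F106798) (tt N22415 F106799) (tt N23286 F106800) (tt N37440 F106801))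
theorem Q42677 : ∀ i, i < 42677 → P i := stepQ 42676 Q42676 (allL N42676 (tt N36463 F106808) (tt N36503 F106809) (tt N36500 F106806) (tt N72942 (iv3 F354206)) (tt N21691 (iv4 D70334)) (tt N76003 D149735) (tt N62225 (iv6 F322669)) (tt N36499 F106807))
theorem Q42678 : ∀ i, i < 42678 → P i := stepQ 42677 Q42677 (allL N42677 (tt N33777 F321940) (tt N23342 F235333) (tt N40767 F318911) (tt N21693 (iv3 D70340)) (tt N40284 F318912) (tt N40531 (iv5 F320542)) (tt N76004 D149746) (tt N40945 F321951))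
theorem Q42679 : ∀ i, i < 42679 → P i := stepQ 42678 Q42678 (allL N42678 (tt N41037 F311051) (tt N33455 F311052) (tt N41027 F311053) (tt N76004 (iv3 F235516)) (tt N33766 (iv4 F313309)) (tt N38276 F106814) (tt N21693 (iv6 D70342)) (tt N41035 F311054))
theorem Q42680 : ∀ i, i < 42680 → P i := stepQ 42679 Q42679 (allL N42679 (tt N63797 (iv1 F354182)) (tt N63799 (iv0 F354179)) (tt N76005 D149762) (tt N21696 (iv3 D70349)) (tt N72942 (iv4 F354207)) (tt N42887 (iv5 F107547)) (tt N72747 (iv6 F322627)) (tt N42886 (iv7 F107544)))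
theorem Q42681 : ∀ i, i < 42681 → P i := stepQ 42680 Q42680 (allL N42680 (tt N75817 F234210) (tt N42712 F309473) (tt N21699 F106824) (tt N36433 F106825) (tt N21990 F106826) (tt N37626 F106827) (tt N21697 (iv6 D70350)) (tt N76006 D149763))
theorem Q42682 : ∀ i, i < 42682 → P i := stepQ 42681 Q42681 (allL N42681 (tt N76006 (iv1 F235554)) (tt N21699 (iv0 D70352)) (tt N75817 (iv2 F234207)) (tt N23678 F309466) (tt N42714 F305777) (tt N23677 F309467) (tt N39891 F310808) (tt N42712 F309468))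
theorem Q42683 : ∀ i, i < 42683 → P i := stepQ 42682 Q42682 (allL N42682 (tt N21699 (iv1 D70353)) (tt N76006 F235553) (tt N42712 F309462) (tt N75813 (iv3 F234176)) (tt N42713 F306129) (tt N42708 F309463) (tt N76007 D149769) (tt N75817 F234224))
theorem Q42684 : ∀ i, i < 42684 → P i := stepQ 42683 Q42683 (allL N42683 (tt N42712 F309474) (tt N75817 (iv0 F234208)) (tt N76006 (iv2 F235548)) (tt N21702 F106830) (tt N47940 F306130) (tt N37632 F106831) (tt N42852 (iv6 F107333)) (tt N21699 (iv7 D70354)))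
theorem Q42685 : ∀ i, i < 42685 → P i := stepQ 42684 Q42684 (allL N42684 (tt N42853 (iv1 F107338)) (tt N21701 (iv0 D70356)) (tt N42466 F106837) (tt N27711 F106835) (tt N21820 F300233) (tt N23205 F106833) (tt N46502 (iv6 F302989)) (tt N42457 (iv7 F106836)))
theorem Q42686 : ∀ i, i < 42686 → P i := stepQ 42685 Q42685 (allL N42685 (tt N42466 (iv1 F106846)) (tt N42457 F106845) (tt N21701 (iv2 D70358)) (tt N42860 (iv3 F107383)) (tt N29794 F106843) (tt N29593 F106844) (tt N44001 (iv6 F308197)) (tt N42853 (iv7 F107337)))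
theorem Q42687 : ∀ i, i < 42687 → P i := stepQ 42686 Q42686 (allL N42686 (tt N42824 F191867) (tt N52000 (iv0 F306434)) (tt N21705 F106854) (tt N36468 F106855) (tt N22211 F106856) (tt N36293 F106857) (tt N21703 (iv6 D70373)) (tt N76008 D149792))
theorem Q42688 : ∀ i, i < 42688 → P i := stepQ 42687 Q42687 (allL N42687 (tt N48768 (iv1 F301170)) (tt N53553 (iv0 F301794)) (tt N53551 F300224) (tt N21704 (iv3 D70374)) (tt N21706 F106858) (tt N43659 (iv5 F109359)) (tt N76009 D149793) (tt N22207 F106859))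
theorem Q42689 : ∀ i, i < 42689 → P i := stepQ 42688 Q42688 (allL N42688 (tt N63994 (iv1 F192105)) (tt N55337 (iv0 F307358)) (tt N22211 F106860) (tt N76009 (iv3 F235626)) (tt N21705 F106861) (tt N76010 D149794) (tt N21704 (iv6 D70375)) (tt N64000 F192129))
theorem Q42690 : ∀ i, i < 42690 → P i := stepQ 42689 Q42689 (allL N42689 (tt N76008 (iv1 F235621)) (tt N21705 (iv0 D70376)) (tt N42824 (iv2 F233810)) (tt N75806 (iv3 F234127)) (tt N34508 F191875) (tt N27744 F310948) (tt N76011 D149795) (tt N52000 (iv7 F306439)))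
theorem Q42691 : ∀ i, i < 42691 → P i := stepQ 42690 Q42690 (allL N42690 (tt N21705 (iv1 D70377)) (tt N76008 F235620) (tt N52000 (iv2 F306436)) (tt N23323 F310077) (tt N34509 F233808) (tt N27745 F310949) (tt N45702 (iv6 F204994)) (tt N42824 F233809))
theorem Q42692 : ∀ i, i < 42692 → P i := stepQ 42691 Q42691 (allL N42691 (tt N52000 (iv1 F306435)) (tt N42824 F204846) (tt N76008 (iv2 F235615)) (tt N21709 F106862) (tt N64000 (iv4 F192126)) (tt N41661 F106863) (tt N42859 (iv6 F107377)) (tt N21705 (iv7 D70378)))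
theorem Q42693 : ∀ i, i < 42693 → P i := stepQ 42692 Q42692 (allL N42692 (tt N42860 (iv1 F107387)) (tt N21706 (iv0 D70379)) (tt N25386 F296536) (tt N22031 F301359) (tt N34495 F106865) (tt N42237 (iv5 F302979)) (tt N22030 F301360) (tt N42250 (iv7 F304100)))
theorem Q42694 : ∀ i, i < 42694 → P i := stepQ 42693 Q42693 (allL N42693 (tt N25386 F296540) (tt N42250 F306199) (tt N21706 (iv2 D70380)) (tt N42853 (iv3 F107334)) (tt N53551 (iv4 F297899)) (tt N45297 (iv5 F115069)) (tt N76012 D149797) (tt N42860 (iv7 F107386)))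
theorem Q42695 : ∀ i, i < 42695 → P i := stepQ 42694 Q42694 (allL N42694 (tt N76013 D149798) (tt N46577 (iv0 F131156)) (tt N76012 (iv2 F235636)) (tt N21707 F106866) (tt N76009 (iv4 F235627)) (tt N38303 (iv5 F308204)) (tt N21706 (iv6 D70381)) (tt N63848 (iv7 F308206)))
theorem Q42696 : ∀ i, i < 42696 → P i := stepQ 42695 Q42695 (allL N42695 (tt N22843 (iv1 F311394)) (tt N21707 (iv0 D70382)) (tt N42740 (iv2 F131047)) (tt N36459 F309363) (tt N33862 F131051) (tt N43167 F309364) (tt N40212 F315787) (tt N42304 (iv7 F131050)))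
theorem Q42697 : ∀ i, i < 42697 → P i := stepQ 42696 Q42696 (allL N42696 (tt N21707 (iv1 D70383)) (tt N22843 (iv0 F311393)) (tt N42304 F131048) (tt N68975 (iv3 F311389)) (tt N23057 F130822) (tt N69577 F309188) (tt N22834 F309189) (tt N42740 F131046))
theorem Q42698 : ∀ i, i < 42698 → P i := stepQ 42697 Q42697 (allL N42697 (tt N21754 F107421) (tt N30686 (iv0 F309094)) (tt N34575 (iv2 F130797)) (tt N66857 (iv3 F309164)) (tt N21708 (iv4 D70390)) (tt N68577 (iv5 F308989)) (tt N30684 F307209) (tt N42854 (iv7 F107352)))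
theorem Q42699 : ∀ i, i < 42699 → P i := stepQ 42698 Q42698 (allL N42698 (tt N29799 (iv1 F106873)) (tt N29594 F106872) (tt N21711 (iv2 D70394)) (tt N46105 (iv3 F120272)) (tt N29775 F106870) (tt N29755 F106871) (tt N48495 F307076) (tt N44492 F309452))
theorem Q42700 : ∀ i, i < 42700 → P i := stepQ 42699 Q42699 (allL N42699 (tt N42602 F304745) (tt N29788 (iv0 F306002)) (tt N48495 (iv2 F305151)) (tt N21712 F106874) (tt N34172 F308050) (tt N40655 (iv5 F310062)) (tt N21711 (iv6 D70395)) (tt N30517 F308051))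
theorem Q42701 : ∀ i, i < 42701 → P i := stepQ 42700 Q42700 (allL N42700 (tt N32823 (iv1 F106896)) (tt N21715 (iv0 D70434)) (tt N47374 (iv2 F128726)) (tt N76014 D149840) (tt N23575 F106895) (tt N32843 F106894) (tt N73339 (iv6 F343411)) (tt N47375 (iv7 F128728)))
theorem Q42702 : ∀ i, i < 42702 → P i := stepQ 42701 Q42701 (allL N42701 (tt N21715 (iv1 D70435)) (tt N32823 F106897) (tt N47375 F128731) (tt N24926 (iv3 F106900)) (tt N23576 F106899) (tt N32844 F106898) (tt N76015 D149842) (tt N47374 (iv7 F128725)))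
theorem Q42703 : ∀ i, i < 42703 → P i := stepQ 42702 Q42702 (allL N42702 (tt N73339 (iv1 F343407)) (tt N73338 (iv0 F333662)) (tt N57695 (iv2 F314105)) (tt N21717 (iv3 D70444)) (tt N34221 F316596) (tt N57670 (iv5 F315121)) (tt N42478 F309395) (tt N63107 (iv7 F185604)))
theorem Q42704 : ∀ i, i < 42704 → P i := stepQ 42703 Q42703 (allL N42703 (tt N76016 D149872) (tt N42829 F215763) (tt N66957 (iv2 F206250)) (tt N21722 F106919) (tt N37630 F311421) (tt N21720 (iv5 D70453)) (tt N42845 (iv6 F107310)) (tt N24213 F303008))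
theorem Q42705 : ∀ i, i < 42705 → P i := stepQ 42704 Q42704 (allL N42704 (tt N67063 (iv1 F278905)) (tt N76017 D149875) (tt N48082 F308236) (tt N21723 F106921) (tt N44011 F308237) (tt N53363 (iv5 F339137)) (tt N21720 (iv6 D70454)) (tt N48083 F308238))
theorem Q42706 : ∀ i, i < 42706 → P i := stepQ 42705 Q42705 (allL N42705 (tt N76018 D149876) (tt N48463 F307806) (tt N73621 (iv2 F323799)) (tt N21721 (iv3 D70455)) (tt N44010 F308736) (tt N48104 (iv5 F313831)) (tt N69580 (iv6 F314404)) (tt N43992 (iv7 F110427)))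
theorem Q42707 : ∀ i, i < 42707 → P i := stepQ 42706 Q42706 (allL N42706 (tt N62564 (iv1 F312425)) (tt N64639 (iv0 F197959)) (tt N64638 (iv2 F244088)) (tt N21725 (iv3 D70466)) (tt N43707 (iv4 F190976)) (tt N35450 F314092) (tt N34448 F314093) (tt N43991 (iv7 F110421)))
theorem Q42708 : ∀ i, i < 42708 → P i := stepQ 42707 Q42707 (allL N42707 (tt N22871 (iv1 F308048)) (tt N45245 F307765) (tt N45738 F190009) (tt N76019 D149891) (tt N21727 (iv4 D70472)) (tt N22502 (iv5 F309783)) (tt N46191 F188920) (tt N25481 F190010))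
theorem Q42709 : ∀ i, i < 42709 → P i := stepQ 42708 Q42708 (allL N42708 (tt N45724 (iv1 F119493)) (tt N25444 F106933) (tt N21729 F106932) (tt N76020 D149893) (tt N21728 (iv4 D70480)) (tt N42682 (iv5 F309463)) (tt N69629 (iv6 F309465)) (tt N45725 (iv7 F119495)))
theorem Q42710 : ∀ i, i < 42710 → P i := stepQ 42709 Q42709 (allL N42709 (tt N45243 (iv1 F305748)) (tt N45242 (iv0 F305772)) (tt N21730 F106934) (tt N45699 (iv3 F119422)) (tt N21979 F305724) (tt N21728 (iv5 D70481)) (tt N39889 F310410) (tt N21976 F305725))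
theorem Q42711 : ∀ i, i < 42711 → P i := stepQ 42710 Q42710 (allL N42710 (tt N25495 F194685) (tt N64269 F194681) (tt N21731 F106935) (tt N45700 (iv3 F119427)) (tt N69629 (iv4 F309464)) (tt N39890 F312930) (tt N21728 (iv6 D70482)) (tt N64270 (iv7 F194690)))
theorem Q42712 : ∀ i, i < 42712 → P i := stepQ 42711 Q42711 (allL N42711 (tt N45725 (iv1 F119496)) (tt N21729 (iv0 D70483)) (tt N45724 (iv2 F119492)) (tt N54138 (iv3 F310910)) (tt N34319 F106936) (tt N34312 F311179) (tt N46178 F131651) (tt N25444 (iv7 F106938)))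
theorem Q42713 : ∀ i, i < 42713 → P i := stepQ 42712 Q42712 (allL N42712 (tt N42680 (iv1 F309473)) (tt N42683 (iv0 F309474)) (tt N42682 (iv2 F309462)) (tt N21799 (iv3 F309469)) (tt N45243 (iv4 F309475)) (tt N21729 (iv5 D70484)) (tt N76021 D149903) (tt N42681 (iv7 F309468)))
theorem Q42714 : ∀ i, i < 42714 → P i := stepQ 42713 Q42713 (allL N42713 (tt N21976 F305652) (tt N21730 (iv0 D70486)) (tt N45243 (iv2 F305749)) (tt N42839 (iv3 F234813)) (tt N42682 (iv4 F306129)) (tt N45247 F311670) (tt N76022 D149908) (tt N45242 (iv7 F305776)))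
theorem Q42715 : ∀ i, i < 42715 → P i := stepQ 42714 Q42714 (allL N42714 (tt N21730 (iv1 D70487)) (tt N21976 (iv0 F305182)) (tt N45242 (iv2 F305773)) (tt N76023 D149909) (tt N42681 (iv4 F305777)) (tt N46514 (iv5 F307445)) (tt N42851 F234817) (tt N45243 (iv7 F305750)))
theorem Q42716 : ∀ i, i < 42716 → P i := stepQ 42715 Q42715 (allL N42715 (tt N64270 (iv1 F194691)) (tt N21731 (iv0 D70490)) (tt N25495 F194692) (tt N64731 (iv3 F198239)) (tt N76024 D149917) (tt N33363 F319693) (tt N25197 F194694) (tt N64269 F194695))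
theorem Q42717 : ∀ i, i < 42717 → P i := stepQ 42716 Q42716 (allL N42716 (tt N21731 (iv1 D70491)) (tt N64270 F194697) (tt N64269 F194698) (tt N76025 D149918) (tt N45273 (iv4 F312456)) (tt N33364 F319704) (tt N46130 F305851) (tt N25495 F194701))
theorem Q42718 : ∀ i, i < 42718 → P i := stepQ 42717 Q42717 (allL N42717 (tt N42872 F107510) (tt N40213 F314535) (tt N36370 (iv2 F130818)) (tt N72119 (iv3 F322856)) (tt N40247 F314536) (tt N23107 F106946) (tt N21732 (iv6 D70494)) (tt N42856 (iv7 F107364)))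
theorem Q42719 : ∀ i, i < 42719 → P i := stepQ 42718 Q42718 (allL N42718 (tt N76026 D149939) (tt N47036 F317081) (tt N66971 (iv2 F206287)) (tt N34632 F106968) (tt N76027 D149941) (tt N21734 (iv5 D70519)) (tt N47586 F347492) (tt N45683 (iv7 F119405)))
theorem Q42720 : ∀ i, i < 42720 → P i := stepQ 42719 Q42719 (allL N42719 (tt N52789 (iv1 F304706)) (tt N43813 (iv0 F191056)) (tt N64519 (iv2 F310565)) (tt N24509 F302233) (tt N21736 F106970) (tt N76028 D149944) (tt N21734 (iv6 D70520)) (tt N24612 (iv7 F302293)))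
theorem Q42721 : ∀ i, i < 42721 → P i := stepQ 42720 Q42720 (allL N42720 (tt N45699 (iv1 F119425)) (tt N21735 (iv0 D70521)) (tt N45702 (iv2 F233719)) (tt N75812 (iv3 F234159)) (tt N25813 F304412) (tt N66718 (iv5 F205224)) (tt N52000 (iv6 F306438)) (tt N45701 (iv7 F233716)))
theorem Q42722 : ∀ i, i < 42722 → P i := stepQ 42721 Q42721 (allL N42721 (tt N21735 (iv1 D70522)) (tt N45699 F119424) (tt N45701 (iv2 F233742)) (tt N76016 F235736) (tt N25814 F304417) (tt N42438 F191374) (tt N76029 D149947) (tt N45702 F233741))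
theorem Q42723 : ∀ i, i < 42723 → P i := stepQ 42722 Q42722 (allL N42722 (tt N41046 F318427) (tt N46461 (iv0 F297861)) (tt N52754 (iv2 F297896)) (tt N21737 (iv3 D70528)) (tt N25755 (iv4 F297893)) (tt N63493 (iv5 F307610)) (tt N25385 F296535) (tt N22832 (iv7 F307611)))
theorem Q42724 : ∀ i, i < 42724 → P i := stepQ 42723 Q42723 (allL N42723 (tt N24063 F106987) (tt N28139 F296789) (tt N28140 F296760) (tt N21740 (iv3 D70533)) (tt N21745 F106985) (tt N66938 (iv5 F206184)) (tt N37224 (iv6 F304571)) (tt N28141 F296761))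
theorem Q42725 : ∀ i, i < 42725 → P i := stepQ 42724 Q42724 (allL N42724 (tt N37212 F309725) (tt N42818 F206092) (tt N36441 F106988) (tt N37224 F306589) (tt N21741 F106989) (tt N45748 (iv5 F316546)) (tt N21740 (iv6 D70534)) (tt N69333 (iv7 F308408)))
theorem Q42726 : ∀ i, i < 42726 → P i := stepQ 42725 Q42725 (allL N42725 (tt N21741 (iv1 D70536)) (tt N43303 F108468) (tt N43302 (iv2 F155545)) (tt N42504 (iv3 F232762)) (tt N66832 F205780) (tt N46648 F309750) (tt N72409 (iv6 F313936)) (tt N43301 (iv7 F155555)))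
theorem Q42727 : ∀ i, i < 42727 → P i := stepQ 42726 Q42726 (allL N42726 (tt N43302 (iv1 F108464)) (tt N43301 F108467) (tt N43303 (iv2 F108465)) (tt N21747 F106990) (tt N69333 (iv4 F312782)) (tt N24280 F310267) (tt N43413 (iv6 F108786)) (tt N21741 (iv7 D70537)))
theorem Q42728 : ∀ i, i < 42728 → P i := stepQ 42727 Q42727 (allL N42727 (tt N43514 F190224) (tt N34023 (iv0 F186888)) (tt N34069 F106992) (tt N21743 F106993) (tt N42465 F106994) (tt N34361 F106995) (tt N21742 (iv6 D70538)) (tt N73881 (iv7 F320357)))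
theorem Q42729 : ∀ i, i < 42729 → P i := stepQ 42728 Q42728 (allL N42728 (tt N21743 (iv1 D70540)) (tt N34126 F106996) (tt N34125 (iv2 F185102)) (tt N22250 F190174) (tt N40246 (iv4 F313401)) (tt N44099 (iv5 F110837)) (tt N40249 (iv6 F313402)) (tt N34124 (iv7 F185101)))
theorem Q42730 : ∀ i, i < 42730 → P i := stepQ 42729 Q42729 (allL N42729 (tt N34125 (iv1 F107000)) (tt N34124 F107001) (tt N34126 F106997) (tt N73881 (iv3 F320353)) (tt N44538 F305344) (tt N34366 F106998) (tt N44436 F305345) (tt N21743 (iv7 D70541)))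
theorem Q42731 : ∀ i, i < 42731 → P i := stepQ 42730 Q42730 (allL N42730 (tt N61493 F178919) (tt N76030 D149995) (tt N46113 (iv2 F120345)) (tt N29579 F107024) (tt N27604 F107025) (tt N30051 F107026) (tt N21749 (iv6 D70563)) (tt N76031 D149996))
theorem Q42732 : ∀ i, i < 42732 → P i := stepQ 42731 Q42731 (allL N42731 (tt N32750 F107029) (tt N50966 (iv0 F143172)) (tt N29582 F107027) (tt N21750 (iv3 D70564)) (tt N35066 (iv4 F107030)) (tt N29581 F107028) (tt N76032 D149997) (tt N46112 (iv7 F120342)))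
theorem Q42733 : ∀ i, i < 42733 → P i := stepQ 42732 Q42732 (allL N42732 (tt N76033 D149998) (tt N63304 (iv0 F283569)) (tt N46114 (iv2 F120347)) (tt N76032 (iv3 F235977)) (tt N51630 (iv4 F146949)) (tt N32964 F107032) (tt N21750 (iv6 D70565)) (tt N76034 D150000))
theorem Q42734 : ∀ i, i < 42734 → P i := stepQ 42733 Q42733 (allL N42733 (tt N51753 (iv1 F342957)) (tt N52016 (iv0 F361698)) (tt N46116 (iv2 F120356)) (tt N51896 (iv3 F147421)) (tt N21752 F107033) (tt N66527 (iv5 F355232)) (tt N21751 (iv6 D70566)) (tt N52015 (iv7 F347585)))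
theorem Q42735 : ∀ i, i < 42735 → P i := stepQ 42734 Q42734 (allL N42734 (tt N46119 (iv1 F120365)) (tt N21752 (iv0 D70567)) (tt N46117 F193502) (tt N45074 (iv3 F333237)) (tt N76035 D150006) (tt N60961 (iv5 F193503)) (tt N76036 D150007) (tt N46118 F193500))
theorem Q42736 : ∀ i, i < 42736 → P i := stepQ 42735 Q42735 (allL N42735 (tt N21752 (iv1 D70568)) (tt N46119 F120364) (tt N46118 (iv2 F193499)) (tt N76037 D150008) (tt N76038 D150009) (tt N55757 (iv5 F161577)) (tt N61485 F193535) (tt N46117 (iv7 F193501)))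
theorem Q42737 : ∀ i, i < 42737 → P i := stepQ 42736 Q42736 (allL N42736 (tt N46118 (iv1 F120358)) (tt N46117 F120363) (tt N46119 (iv2 F120360)) (tt N33010 F328855) (tt N52015 (iv4 F347583)) (tt N60720 (iv5 F176778)) (tt N61088 (iv6 F177960)) (tt N21752 (iv7 D70569)))
theorem Q42738 : ∀ i, i < 42738 → P i := stepQ 42737 Q42737 (allL N42737 (tt N32853 (iv1 F107036)) (tt N21753 (iv0 D70570)) (tt N37612 (iv2 F306032)) (tt N53550 (iv3 F301166)) (tt N25071 F107035) (tt N34083 F107034) (tt N37570 F305785) (tt N42862 F107431))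
theorem Q42739 : ∀ i, i < 42739 → P i := stepQ 42738 Q42738 (allL N42738 (tt N21753 (iv1 D70571)) (tt N32853 F107037) (tt N42862 F107430) (tt N27732 (iv3 F107040)) (tt N25072 F107039) (tt N34081 F107038) (tt N66749 (iv6 F333597)) (tt N37612 F307838))
theorem Q42740 : ∀ i, i < 42740 → P i := stepQ 42739 Q42739 (allL N42739 (tt N76039 D150013) (tt N76040 D150014) (tt N47337 (iv2 F128685)) (tt N21754 F107041) (tt N34214 F107042) (tt N37526 (iv5 F311166)) (tt N21753 (iv6 D70572)) (tt N57485 F309313))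
theorem Q42741 : ∀ i, i < 42741 → P i := stepQ 42740 Q42740 (allL N42740 (tt N34428 F311397) (tt N21832 F131044) (tt N42695 F131047) (tt N67753 (iv3 F313830)) (tt N21755 (iv4 D70578)) (tt N41048 F313834) (tt N41049 F313835) (tt N42696 (iv7 F131046)))
theorem Q42742 : ∀ i, i < 42742 → P i := stepQ 42741 Q42741 (allL N42741 (tt N40249 F313621) (tt N44439 F311271) (tt N63109 (iv2 F185642)) (tt N33745 F130923) (tt N41049 F313622) (tt N33743 (iv5 F130898)) (tt N21755 (iv6 D70579)) (tt N63730 (iv7 F189028)))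
theorem Q42743 : ∀ i, i < 42743 → P i := stepQ 42742 Q42742 (allL N42742 (tt N63158 (iv1 F185785)) (tt N44989 F114299) (tt N21759 F107045) (tt N43275 (iv3 F108444)) (tt N44088 (iv4 F110824)) (tt N21757 (iv5 D70580)) (tt N57683 (iv6 F314598)) (tt N61377 (iv7 F178715)))
theorem Q42744 : ∀ i, i < 42744 → P i := stepQ 42743 Q42743 (allL N42743 (tt N61378 (iv1 F178720)) (tt N41424 (iv0 F115249)) (tt N61379 (iv2 F178726)) (tt N42636 F107046) (tt N63380 (iv4 F187080)) (tt N21758 (iv5 D70581)) (tt N76041 D150024) (tt N44984 (iv7 F114281)))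
theorem Q42745 : ∀ i, i < 42745 → P i := stepQ 42744 Q42744 (allL N42744 (tt N61377 (iv1 F178717)) (tt N21759 (iv0 D70582)) (tt N63158 (iv2 F185789)) (tt N44977 (iv3 F178719)) (tt N63194 (iv4 F186073)) (tt N66063 (iv5 F203259)) (tt N76042 D150025) (tt N44989 F178718))
theorem Q42746 : ∀ i, i < 42746 → P i := stepQ 42745 Q42745 (allL N42745 (tt N21759 (iv1 D70583)) (tt N61377 F178716) (tt N44989 (iv2 F114295)) (tt N21886 (iv3 F107048)) (tt N63195 (iv4 F186079)) (tt N62593 (iv5 F182657)) (tt N62385 (iv6 F319284)) (tt N63158 (iv7 F185786)))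
theorem Q42747 : ∀ i, i < 42747 → P i := stepQ 42746 Q42746 (allL N42746 (tt N34367 F107047) (tt N42948 (iv0 F107781)) (tt N44088 F110826) (tt N59817 (iv3 F358506)) (tt N21759 (iv4 D70584)) (tt N55055 (iv5 F329965)) (tt N48088 (iv6 F155446)) (tt N44089 (iv7 F110827)))
theorem Q42748 : ∀ i, i < 42748 → P i := stepQ 42747 Q42747 (allL N42747 (tt N35390 F232354) (tt N21760 (iv0 D70585)) (tt N35365 F232355) (tt N35378 F232356) (tt N54272 F232357) (tt N57654 F312969) (tt N76043 D150029) (tt N35391 F232358))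
theorem Q42749 : ∀ i, i < 42749 → P i := stepQ 42748 Q42748 (allL N42748 (tt N41717 (iv1 F107054)) (tt N21761 (iv0 D70589)) (tt N42195 (iv2 F107053)) (tt N22812 F107055) (tt N63111 (iv4 F185676)) (tt N22809 F107052) (tt N76044 D150033) (tt N42932 (iv7 F107737)))
theorem Q42750 : ∀ i, i < 42750 → P i := stepQ 42749 Q42749 (allL N42749 (tt N41430 F107058) (tt N36653 F107059) (tt N41426 F107056) (tt N76045 D150034) (tt N21761 (iv4 D70590)) (tt N76046 D150035) (tt N30622 F315169) (tt N41427 F107057))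
theorem Q42751 : ∀ i, i < 42751 → P i := stepQ 42750 Q42750 (allL N42750 (tt N62715 (iv1 F183335)) (tt N21762 (iv0 D70591)) (tt N63111 F185677) (tt N76047 D150036) (tt N42195 F107060) (tt N76048 D150037) (tt N76049 D150038) (tt N43878 (iv7 F110079)))
theorem Q42752 : ∀ i, i < 42752 → P i := stepQ 42751 Q42751 (allL N42751 (tt N21762 (iv1 D70592)) (tt N62715 (iv0 F183334)) (tt N43878 (iv2 F110078)) (tt N76050 D150039) (tt N42932 F107740) (tt N76051 D150040) (tt N73818 (iv6 F340742)) (tt N63111 (iv7 F185679)))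
theorem Q42753 : ∀ i, i < 42753 → P i := stepQ 42752 Q42752 (allL N42752 (tt N76052 D150042) (tt N55901 (iv0 F360495)) (tt N76053 D150044) (tt N21762 (iv3 D70593)) (tt N59817 (iv4 F358507)) (tt N76054 D150045) (tt N57684 (iv6 F315166)) (tt N63160 (iv7 F185793)))
theorem Q42754 : ∀ i, i < 42754 → P i := stepQ 42753 Q42753 (allL N42753 (tt N76055 D150046) (tt N43526 (iv0 F109143)) (tt N63112 (iv2 F185680)) (tt N76054 (iv3 F236063)) (tt N76056 D150047) (tt N21762 (iv5 D70594)) (tt N76057 D150048) (tt N63161 (iv7 F185794)))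
theorem Q42755 : ∀ i, i < 42755 → P i := stepQ 42754 Q42754 (allL N42754 (tt N56188 (iv1 F338682)) (tt N74430 (iv0 F317021)) (tt N34074 F107061) (tt N33975 F107062) (tt N41624 F314717) (tt N39010 F328368) (tt N21763 (iv6 D70595)) (tt N41654 (iv7 F317024)))
theorem Q42756 : ∀ i, i < 42756 → P i := stepQ 42755 Q42755 (allL N42755 (tt N49645 (iv1 F286784)) (tt N28652 F191035) (tt N21788 F155314) (tt N34872 F300572) (tt N21766 (iv4 D70606)) (tt N62900 (iv5 F314529)) (tt N72138 (iv6 F324310)) (tt N21792 F155315))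
theorem Q42757 : ∀ i, i < 42757 → P i := stepQ 42756 Q42756 (allL N42756 (tt N34999 F303915) (tt N48452 (iv0 F303972)) (tt N21789 F155316) (tt N28075 F303916) (tt N27958 (iv4 F305988)) (tt N21766 (iv5 D70607)) (tt N75803 F234113) (tt N21793 F155317))
theorem Q42758 : ∀ i, i < 42758 → P i := stepQ 42757 Q42757 (allL N42757 (tt N23105 F155383) (tt N39844 F322850) (tt N21790 F155318) (tt N66822 (iv3 F205706)) (tt N72138 (iv4 F324309)) (tt N28825 F321070) (tt N21766 (iv6 D70608)) (tt N33851 F155319))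
theorem Q42759 : ∀ i, i < 42759 → P i := stepQ 42758 Q42758 (allL N42758 (tt N42462 (iv1 F191327)) (tt N25537 (iv0 F303952)) (tt N46354 F303189) (tt N21767 (iv3 D70610)) (tt N33942 F107079) (tt N48407 (iv5 F305452)) (tt N57688 (iv6 F310489)) (tt N21787 F155305))
theorem Q42760 : ∀ i, i < 42760 → P i := stepQ 42759 Q42759 (allL N42759 (tt N48452 (iv1 F303973)) (tt N34999 F303914) (tt N21793 F155308) (tt N48407 (iv3 F305451)) (tt N34716 (iv4 F305987)) (tt N21767 (iv5 D70612)) (tt N68422 (iv6 F210365)) (tt N21789 F155309))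
theorem Q42761 : ∀ i, i < 42761 → P i := stepQ 42760 Q42760 (allL N42760 (tt N76058 D150076) (tt N42473 F232735) (tt N21770 F107080) (tt N42495 F107081) (tt N33938 F107082) (tt N66827 (iv5 F205736)) (tt N21769 (iv6 D70614)) (tt N76059 D150077))
theorem Q42762 : ∀ i, i < 42762 → P i := stepQ 42761 Q42761 (allL N42761 (tt N76059 (iv1 F236163)) (tt N21770 (iv0 D70615)) (tt N76058 F236155) (tt N42454 F155531) (tt N46084 F155530) (tt N76060 D150078) (tt N76061 D150079) (tt N42473 F234040))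
theorem Q42763 : ∀ i, i < 42763 → P i := stepQ 42762 Q42762 (allL N42762 (tt N21770 (iv1 D70616)) (tt N76059 F236162) (tt N42473 (iv2 F234035)) (tt N66829 (iv3 F205748)) (tt N46085 F205749) (tt N76062 D150080) (tt N76063 D150081) (tt N76058 (iv7 F236156)))
theorem Q42764 : ∀ i, i < 42764 → P i := stepQ 42763 Q42763 (allL N42763 (tt N42473 F232734) (tt N76058 F236157) (tt N76059 (iv2 F236158)) (tt N21775 F107083) (tt N43321 (iv4 F108490)) (tt N68526 (iv5 F210759)) (tt N42487 F107084) (tt N21770 (iv7 D70617)))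
theorem Q42765 : ∀ i, i < 42765 → P i := stepQ 42764 Q42764 (allL N42764 (tt N21788 F190484) (tt N21792 F190485) (tt N28652 F107085) (tt N45332 F301834) (tt N22187 F107086) (tt N45285 (iv5 F304521)) (tt N21771 (iv6 D70618)) (tt N49645 (iv7 F286789)))
theorem Q42766 : ∀ i, i < 42766 → P i := stepQ 42765 Q42765 (allL N42765 (tt N42510 (iv1 F107095)) (tt N21772 (iv0 D70619)) (tt N42507 F155534) (tt N76064 D150083) (tt N42503 (iv4 F232758)) (tt N76065 D150084) (tt N76066 D150085) (tt N42508 F155532))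
theorem Q42767 : ∀ i, i < 42767 → P i := stepQ 42766 Q42766 (allL N42766 (tt N21772 (iv1 D70620)) (tt N42510 F107087) (tt N42508 (iv2 F155529)) (tt N64305 F232860) (tt N42504 (iv4 F232763)) (tt N76067 D150086) (tt N76068 D150087) (tt N42507 (iv7 F155533)))
theorem Q42768 : ∀ i, i < 42768 → P i := stepQ 42767 Q42767 (allL N42767 (tt N76069 D150088) (tt N76070 D150089) (tt N42509 F107088) (tt N28241 F107089) (tt N74631 (iv4 F331764)) (tt N21772 (iv5 D70621)) (tt N28237 F107090) (tt N76071 D150091))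
theorem Q42769 : ∀ i, i < 42769 → P i := stepQ 42768 Q42768 (allL N42768 (tt N42508 (iv1 F107096)) (tt N42507 F107097) (tt N42510 F107091) (tt N28242 F107092) (tt N21775 F107093) (tt N76071 (iv5 F236192)) (tt N28657 F107094) (tt N21772 (iv7 D70622)))
theorem Q42770 : ∀ i, i < 42770 → P i := stepQ 42769 Q42769 (allL N42769 (tt N53995 F232740) (tt N21783 F232741) (tt N42477 (iv2 F155527)) (tt N30549 F311671) (tt N21773 (iv4 D70625)) (tt N76072 D150093) (tt N30547 F311672) (tt N42511 F155526))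
theorem Q42771 : ∀ i, i < 42771 → P i := stepQ 42770 Q42770 (allL N42770 (tt N42802 F107165) (tt N76073 D150095) (tt N42478 (iv2 F155498)) (tt N30556 F311673) (tt N76074 D150096) (tt N21773 (iv5 D70626)) (tt N57695 F311674) (tt N42512 F155497))
theorem Q42772 : ∀ i, i < 42772 → P i := stepQ 42771 Q42771 (allL N42771 (tt N21783 F232730) (tt N53995 F232731) (tt N42511 F155479) (tt N23113 F155480) (tt N21774 (iv4 D70630)) (tt N76075 D150098) (tt N76076 D150099) (tt N42477 F155481))
theorem Q42773 : ∀ i, i < 42773 → P i := stepQ 42772 Q42772 (allL N42772 (tt N76073 (iv1 F236204)) (tt N42802 (iv0 F107163)) (tt N42512 F155482) (tt N21802 F155483) (tt N54307 (iv4 F344064)) (tt N21774 (iv5 D70631)) (tt N37549 (iv6 F107100)) (tt N42478 F155484))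
theorem Q42774 : ∀ i, i < 42774 → P i := stepQ 42773 Q42773 (allL N42773 (tt N42571 F107164) (tt N42575 (iv0 F210846)) (tt N42513 F155485) (tt N21803 F155486) (tt N76076 (iv4 F236219)) (tt N46197 F155487) (tt N21774 (iv6 D70632)) (tt N46485 F155488))
theorem Q42775 : ∀ i, i < 42775 → P i := stepQ 42774 Q42774 (allL N42774 (tt N28593 (iv1 F107104)) (tt N28592 (iv0 F107105)) (tt N28250 F107101) (tt N21776 (iv3 D70633)) (tt N21778 F107102) (tt N46397 (iv5 F123361)) (tt N67635 (iv6 F314333)) (tt N28578 F107103))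
theorem Q42776 : ∀ i, i < 42776 → P i := stepQ 42775 Q42775 (allL N42775 (tt N66821 (iv1 F205691)) (tt N21777 (iv0 D70635)) (tt N42431 (iv2 F233753)) (tt N66862 (iv3 F205916)) (tt N22999 F155411) (tt N76077 D150103) (tt N76078 D150104) (tt N66819 F233752))
theorem Q42777 : ∀ i, i < 42777 → P i := stepQ 42776 Q42776 (allL N42776 (tt N21777 (iv1 D70636)) (tt N66821 F205689) (tt N66819 F233755) (tt N42423 F233756) (tt N23000 F233757) (tt N76079 D150105) (tt N76080 D150106) (tt N42431 F233758))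
theorem Q42778 : ∀ i, i < 42778 → P i := stepQ 42777 Q42777 (allL N42777 (tt N66819 (iv1 F205679)) (tt N42431 F205688) (tt N66821 (iv2 F205686)) (tt N21781 F107108) (tt N37905 (iv4 F313826)) (tt N74770 (iv5 F229099)) (tt N42501 F107109) (tt N21777 (iv7 D70637)))
theorem Q42779 : ∀ i, i < 42779 → P i := stepQ 42778 Q42778 (allL N42778 (tt N37226 F315096) (tt N64301 (iv0 F195690)) (tt N28251 F107110) (tt N21779 F107111) (tt N67635 F315097) (tt N76081 D150108) (tt N21778 (iv6 D70638)) (tt N69328 F315098))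
theorem Q42780 : ∀ i, i < 42780 → P i := stepQ 42779 Q42779 (allL N42779 (tt N28657 (iv1 F107118)) (tt N21779 (iv0 D70639)) (tt N28654 F192083) (tt N48979 F233067) (tt N42489 F233063) (tt N76082 D150110) (tt N76083 D150111) (tt N28655 F192084))
theorem Q42781 : ∀ i, i < 42781 → P i := stepQ 42780 Q42780 (allL N42780 (tt N21779 (iv1 D70640)) (tt N28657 F107112) (tt N28655 F192081) (tt N76084 D150112) (tt N34545 F155410) (tt N76085 D150113) (tt N76086 D150114) (tt N28654 F192082))
theorem Q42782 : ∀ i, i < 42782 → P i := stepQ 42781 Q42781 (allL N42781 (tt N76087 D150115) (tt N76088 D150116) (tt N28656 F107113) (tt N76081 (iv3 F236247)) (tt N76089 D150117) (tt N21779 (iv5 D70641)) (tt N28645 F107114) (tt N76090 D150118))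
theorem Q42783 : ∀ i, i < 42783 → P i := stepQ 42782 Q42782 (allL N42782 (tt N28655 (iv1 F107119)) (tt N28654 F107120) (tt N28657 F107115) (tt N69328 (iv3 F314245)) (tt N21781 F107116) (tt N76090 (iv5 F236271)) (tt N42510 F107117) (tt N21779 (iv7 D70642)))
theorem Q42784 : ∀ i, i < 42784 → P i := stepQ 42783 Q42783 (allL N42783 (tt N21784 F232532) (tt N63127 (iv0 F232581)) (tt N23100 F155250) (tt N76091 D150119) (tt N21780 (iv4 D70650)) (tt N39365 (iv5 F316634)) (tt N39366 (iv6 F316635)) (tt N42491 (iv7 F155397)))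
theorem Q42785 : ∀ i, i < 42785 → P i := stepQ 42784 Q42784 (allL N42784 (tt N48241 (iv1 F155390)) (tt N48238 (iv0 F155267)) (tt N23104 F155251) (tt N29746 F155252) (tt N75687 (iv4 F336939)) (tt N21780 (iv5 D70651)) (tt N29745 (iv6 F155257)) (tt N42492 (iv7 F155386)))
theorem Q42786 : ∀ i, i < 42786 → P i := stepQ 42785 Q42785 (allL N42785 (tt N33851 F155262) (tt N21790 F155263) (tt N23105 F155253) (tt N23663 F155254) (tt N39366 F319007) (tt N42803 (iv5 F107170)) (tt N21780 (iv6 D70652)) (tt N39844 (iv7 F321124)))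
theorem Q42787 : ∀ i, i < 42787 → P i := stepQ 42786 Q42786 (allL N42786 (tt N53183 F232767) (tt N53569 (iv0 F275042)) (tt N25755 F107124) (tt N21783 F107125) (tt N52754 (iv4 F151189)) (tt N76092 D150124) (tt N21782 (iv6 D70653)) (tt N53568 (iv7 F232749)))
theorem Q42788 : ∀ i, i < 42788 → P i := stepQ 42787 Q42787 (allL N42787 (tt N76093 D150125) (tt N74630 (iv0 F328497)) (tt N53994 (iv2 F155719)) (tt N76092 (iv3 F236291)) (tt N73070 (iv4 F357114)) (tt N21783 (iv5 D70656)) (tt N53987 (iv6 F155641)) (tt N76094 D150128))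
theorem Q42789 : ∀ i, i < 42789 → P i := stepQ 42788 Q42788 (allL N42788 (tt N42511 (iv1 F232806)) (tt N42477 (iv0 F232803)) (tt N53995 (iv2 F155722)) (tt N53568 (iv3 F232755)) (tt N63092 (iv4 F185493)) (tt N76094 (iv5 F236295)) (tt N63127 (iv6 F185734)) (tt N21783 (iv7 D70657)))
theorem Q42790 : ∀ i, i < 42790 → P i := stepQ 42789 Q42789 (allL N42789 (tt N35197 F304628) (tt N76095 D150129) (tt N63126 (iv2 F185730)) (tt N25723 F107126) (tt N76096 D150130) (tt N21784 (iv5 D70660)) (tt N25719 F107127) (tt N76097 D150131))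
theorem Q42791 : ∀ i, i < 42791 → P i := stepQ 42790 Q42790 (allL N42790 (tt N23100 F232518) (tt N42491 F232519) (tt N63127 (iv2 F185732)) (tt N25724 F107128) (tt N45202 (iv4 F114776)) (tt N76097 (iv5 F236300)) (tt N53995 (iv6 F155725)) (tt N21784 (iv7 D70661)))
theorem Q42792 : ∀ i, i < 42792 → P i := stepQ 42791 Q42791 (allL N42791 (tt N25553 (iv1 F335690)) (tt N49696 (iv0 F335691)) (tt N25619 F107129) (tt N52902 (iv3 F151808)) (tt N21786 F107130) (tt N76098 D150134) (tt N21785 (iv6 D70662)) (tt N49699 (iv7 F335585)))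
theorem Q42793 : ∀ i, i < 42793 → P i := stepQ 42792 Q42792 (allL N42792 (tt N48698 (iv1 F134125)) (tt N21786 (iv0 D70663)) (tt N26304 (iv2 F335676)) (tt N48769 (iv3 F335678)) (tt N76099 D150138) (tt N76100 D150139) (tt N76101 D150140) (tt N48696 (iv7 F335686)))
theorem Q42794 : ∀ i, i < 42794 → P i := stepQ 42793 Q42793 (allL N42793 (tt N21786 (iv1 D70664)) (tt N48698 F134124) (tt N48696 (iv2 F335685)) (tt N26301 (iv3 F335687)) (tt N26229 (iv4 F335688)) (tt N75664 (iv5 F345989)) (tt N29195 (iv6 F335689)) (tt N26304 (iv7 F335677)))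
theorem Q42795 : ∀ i, i < 42795 → P i := stepQ 42794 Q42794 (allL N42794 (tt N48696 (iv1 F134118)) (tt N26304 (iv0 F335592)) (tt N48698 (iv2 F134121)) (tt N24402 F107133) (tt N49699 F335591) (tt N62866 (iv5 F321337)) (tt N48597 F335708) (tt N21786 (iv7 D70666)))
theorem Q42796 : ∀ i, i < 42796 → P i := stepQ 42795 Q42795 (allL N42795 (tt N46354 (iv1 F301497)) (tt N21787 (iv0 D70687)) (tt N25537 (iv2 F303954)) (tt N21820 F189083) (tt N44716 (iv4 F303955)) (tt N42452 (iv5 F303931)) (tt N46501 (iv6 F189468)) (tt N42462 (iv7 F191280)))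
theorem Q42797 : ∀ i, i < 42797 → P i := stepQ 42796 Q42796 (allL N42796 (tt N25537 (iv1 F303953)) (tt N42462 (iv0 F191326)) (tt N21787 (iv2 D70689)) (tt N61344 F190979) (tt N33941 (iv4 F155347)) (tt N48408 (iv5 F305450)) (tt N76102 D150188) (tt N46354 F303185))
theorem Q42798 : ∀ i, i < 42798 → P i := stepQ 42797 Q42797 (allL N42797 (tt N76103 D150196) (tt N76104 D150197) (tt N76102 (iv2 F236363)) (tt N21790 F107152) (tt N46359 F306048) (tt N33853 (iv5 F107153)) (tt N21787 (iv6 D70692)) (tt N76105 D150198))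
theorem Q42799 : ∀ i, i < 42799 → P i := stepQ 42798 Q42798 (allL N42798 (tt N21792 (iv1 F107159)) (tt N21788 (iv0 D70694)) (tt N49645 (iv2 F286785)) (tt N28495 F302015) (tt N43089 (iv4 F302078)) (tt N45286 (iv5 F304609)) (tt N43513 F190635) (tt N28652 F190636))
theorem Q42800 : ∀ i, i < 42800 → P i := stepQ 42799 Q42799 (allL N42799 (tt N76086 F236265) (tt N39618 F325454) (tt N72138 F325455) (tt N28840 F286810) (tt N21790 F107156) (tt N28838 (iv5 F286848)) (tt N21788 (iv6 D70698)) (tt N72143 F325456))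
theorem Q42801 : ∀ i, i < 42801 → P i := stepQ 42800 Q42800 (allL N42800 (tt N21793 (iv1 F107168)) (tt N21789 (iv0 D70700)) (tt N34999 F303910) (tt N48417 F303911) (tt N28789 (iv4 F305986)) (tt N34998 F303912) (tt N73974 (iv6 F226410)) (tt N48452 (iv7 F303976)))
theorem Q42802 : ∀ i, i < 42802 → P i := stepQ 42801 Q42801 (allL N42801 (tt N21789 (iv1 D70701)) (tt N21793 F107161) (tt N48452 (iv2 F303974)) (tt N21816 F184644) (tt N76106 D150214) (tt N23918 F301195) (tt N38338 F184645) (tt N34999 F301196))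
theorem Q42803 : ∀ i, i < 42803 → P i := stepQ 42802 Q42802 (allL N42802 (tt N42772 F107163) (tt N42770 (iv0 F107165)) (tt N75803 F234111) (tt N48419 (iv3 F307993)) (tt N45566 (iv4 F307994)) (tt N33854 F107162) (tt N21789 (iv6 D70703)) (tt N74531 (iv7 F228265)))
theorem Q42804 : ∀ i, i < 42804 → P i := stepQ 42803 Q42803 (allL N42803 (tt N21790 (iv1 D70706)) (tt N33851 F107169) (tt N39844 (iv2 F321122)) (tt N21818 F155259) (tt N39209 F321121) (tt N42785 F107170) (tt N46511 F155260) (tt N23105 F155261))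
theorem Q42805 : ∀ i, i < 42805 → P i := stepQ 42804 Q42804 (allL N42804 (tt N39844 F322849) (tt N23105 F155378) (tt N33851 F107171) (tt N76105 (iv3 F236381)) (tt N72143 (iv4 F324307)) (tt N33841 (iv5 F155324)) (tt N30555 F312667) (tt N21790 (iv7 D70707)))
theorem Q42806 : ∀ i, i < 42806 → P i := stepQ 42805 Q42805 (allL N42805 (tt N34060 (iv1 F107176)) (tt N34109 (iv0 F107175)) (tt N34107 F186532) (tt N43529 (iv3 F301470)) (tt N21791 (iv4 D70712)) (tt N52553 (iv5 F301496)) (tt N44430 F316076) (tt N34106 F155344))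
theorem Q42807 : ∀ i, i < 42807 → P i := stepQ 42806 Q42806 (allL N42806 (tt N48454 (iv1 F306246)) (tt N53321 F304145) (tt N48420 F304146) (tt N21793 F107177) (tt N26069 (iv4 F305755)) (tt N21791 (iv5 D70713)) (tt N74529 (iv6 F228258)) (tt N28075 F304147))
theorem Q42808 : ∀ i, i < 42808 → P i := stepQ 42807 Q42807 (allL N42807 (tt N72191 F311944) (tt N68019 F311945) (tt N66823 (iv2 F205717)) (tt N21794 F107178) (tt N44430 (iv4 F313596)) (tt N48218 (iv5 F155191)) (tt N21791 (iv6 D70714)) (tt N57686 F311946))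
theorem Q42809 : ∀ i, i < 42809 → P i := stepQ 42808 Q42808 (allL N42808 (tt N62935 (iv1 F314527)) (tt N62834 (iv0 F306385)) (tt N46607 (iv2 F306797)) (tt N35065 F305557) (tt N46606 (iv4 F307583)) (tt N21792 (iv5 D70716)) (tt N62942 (iv6 F337286)) (tt N62900 (iv7 F314530)))
theorem Q42810 : ∀ i, i < 42810 → P i := stepQ 42809 Q42809 (allL N42809 (tt N76107 D150235) (tt N76066 (iv0 F274422)) (tt N49646 (iv2 F286795)) (tt N63925 (iv3 F303368)) (tt N21794 F107179) (tt N76108 D150237) (tt N21792 (iv6 D70717)) (tt N57687 F312672))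
theorem Q42811 : ∀ i, i < 42811 → P i := stepQ 42810 Q42810 (allL N42810 (tt N52855 (iv1 F151722)) (tt N52853 (iv0 F151715)) (tt N48974 (iv2 F134967)) (tt N21795 (iv3 D70723)) (tt N24389 F107184) (tt N64038 (iv5 F192361)) (tt N76109 D150241) (tt N22191 F107185))
theorem Q42812 : ∀ i, i < 42812 → P i := stepQ 42811 Q42811 (allL N42811 (tt N46468 F190178) (tt N21872 F190179) (tt N22248 F107186) (tt N76109 (iv3 F236442)) (tt N22197 F107187) (tt N76110 D150242) (tt N21795 (iv6 D70724)) (tt N46467 (iv7 F190212)))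
theorem Q42813 : ∀ i, i < 42813 → P i := stepQ 42812 Q42812 (allL N42812 (tt N76111 D150243) (tt N76112 D150244) (tt N63939 (iv2 F191880)) (tt N23463 F107188) (tt N43737 (iv4 F109588)) (tt N76113 D150245) (tt N21796 (iv6 D70725)) (tt N76114 D150246))
theorem Q42814 : ∀ i, i < 42814 → P i := stepQ 42813 Q42813 (allL N42813 (tt N66834 (iv1 F205786)) (tt N21797 (iv0 D70726)) (tt N44574 (iv2 F155556)) (tt N38902 (iv3 F313646)) (tt N43301 F155557) (tt N76115 D150248) (tt N38900 F311281) (tt N66832 (iv7 F205779)))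
theorem Q42815 : ∀ i, i < 42815 → P i := stepQ 42814 Q42814 (allL N42814 (tt N21797 (iv1 D70727)) (tt N66834 F205785) (tt N66832 (iv2 F205781)) (tt N76116 D150250) (tt N43302 (iv4 F131033)) (tt N76117 D150251) (tt N76118 D150252) (tt N44574 (iv7 F155553)))
theorem Q42816 : ∀ i, i < 42816 → P i := stepQ 42815 Q42815 (allL N42815 (tt N76119 D150253) (tt N76120 D150254) (tt N66833 (iv2 F205782)) (tt N23465 F107189) (tt N76121 D150255) (tt N21797 (iv5 D70728)) (tt N76113 (iv6 F236446)) (tt N47115 (iv7 F300888)))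
theorem Q42817 : ∀ i, i < 42817 → P i := stepQ 42816 Q42816 (allL N42816 (tt N66832 (iv1 F205778)) (tt N44574 (iv0 F112566)) (tt N66834 (iv2 F205783)) (tt N23466 F107190) (tt N21800 F107191) (tt N47115 (iv5 F300887)) (tt N42430 F107192) (tt N21797 (iv7 D70729)))
theorem Q42818 : ∀ i, i < 42818 → P i := stepQ 42817 Q42817 (allL N42817 (tt N42501 (iv1 F234185)) (tt N42495 (iv0 F187387)) (tt N42498 F234216) (tt N21798 (iv3 D70731)) (tt N63427 F187386) (tt N45718 F311667) (tt N68019 (iv6 F309719)) (tt N42499 F234217))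
theorem Q42819 : ∀ i, i < 42819 → P i := stepQ 42818 Q42818 (allL N42818 (tt N42724 (iv1 F206092)) (tt N66839 F206093) (tt N66835 (iv2 F234245)) (tt N60373 (iv3 F323467)) (tt N21799 (iv4 D70737)) (tt N46309 F330139) (tt N68021 (iv6 F310812)) (tt N38375 F308679))
theorem Q42820 : ∀ i, i < 42820 → P i := stepQ 42819 Q42819 (allL N42819 (tt N42616 (iv1 F206211)) (tt N46482 (iv0 F205848)) (tt N46483 F234263) (tt N76021 F311665) (tt N68021 (iv4 F310811)) (tt N46228 (iv5 F188473)) (tt N21799 (iv6 D70739)) (tt N46484 (iv7 F234265)))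
theorem Q42821 : ∀ i, i < 42821 → P i := stepQ 42820 Q42820 (allL N42820 (tt N37448 (iv1 F308897)) (tt N37445 F307150) (tt N42479 F107221) (tt N54308 (iv3 F344070)) (tt N21802 (iv4 D70753)) (tt N43150 (iv5 F309021)) (tt N63735 (iv6 F309023)) (tt N22487 (iv7 F307352)))
theorem Q42822 : ∀ i, i < 42822 → P i := stepQ 42821 Q42821 (allL N42821 (tt N46446 (iv1 F123668)) (tt N46445 F123664) (tt N23498 F107223) (tt N21804 (iv3 D70754)) (tt N42420 F107224) (tt N42462 F305238) (tt N38310 (iv6 F307174)) (tt N42452 F107225))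
theorem Q42823 : ∀ i, i < 42823 → P i := stepQ 42822 Q42822 (allL N42822 (tt N21810 (iv1 F107236)) (tt N21805 (iv0 D70756)) (tt N21807 F233794) (tt N42485 (iv3 F155749)) (tt N22785 F308062) (tt N75968 (iv5 F234825)) (tt N46509 (iv6 F259392)) (tt N21808 F233795))
theorem Q42824 : ∀ i, i < 42824 → P i := stepQ 42823 Q42823 (allL N42823 (tt N76122 D150279) (tt N48498 (iv0 F133092)) (tt N21809 F107229) (tt N42424 F107230) (tt N41785 (iv4 F107232)) (tt N21805 (iv5 D70758)) (tt N23274 F107231) (tt N68427 (iv7 F311219)))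
theorem Q42825 : ∀ i, i < 42825 → P i := stepQ 42824 Q42824 (allL N42824 (tt N42691 (iv1 F204846)) (tt N42686 (iv0 F191867)) (tt N42689 F233810) (tt N21807 (iv3 D70769)) (tt N63935 F191866) (tt N27500 F308814) (tt N75438 (iv6 F231504)) (tt N42690 (iv7 F233809)))
theorem Q42826 : ∀ i, i < 42826 → P i := stepQ 42825 Q42825 (allL N42825 (tt N69636 (iv1 F309832)) (tt N46131 F305852) (tt N75968 F234826) (tt N27500 F308813) (tt N42458 (iv4 F310997)) (tt N21807 (iv5 D70771)) (tt N76123 D150304) (tt N45250 F309822))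
theorem Q42827 : ∀ i, i < 42827 → P i := stepQ 42826 Q42826 (allL N42826 (tt N46504 (iv1 F191363)) (tt N46510 (iv0 F191362)) (tt N46509 (iv2 F259389)) (tt N75438 (iv3 F231501)) (tt N45251 F309925) (tt N56059 F162454) (tt N21807 (iv6 D70772)) (tt N46508 (iv7 F233790)))
theorem Q42828 : ∀ i, i < 42828 → P i := stepQ 42827 Q42827 (allL N42827 (tt N42483 (iv1 F233070)) (tt N42487 (iv0 F233068)) (tt N42486 (iv2 F233803)) (tt N21808 (iv3 D70774)) (tt N46094 (iv4 F130919)) (tt N76124 D150305) (tt N76103 (iv6 F238782)) (tt N42485 F233796))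
theorem Q42829 : ∀ i, i < 42829 → P i := stepQ 42828 Q42828 (allL N42828 (tt N46131 F305853) (tt N69636 F309926) (tt N45250 F309927) (tt N76124 (iv3 F236541)) (tt N42459 F314436) (tt N21808 (iv5 D70776)) (tt N76125 D150311) (tt N75968 (iv7 F234824)))
theorem Q42830 : ∀ i, i < 42830 → P i := stepQ 42829 Q42829 (allL N42829 (tt N42703 (iv1 F215763)) (tt N46513 F305386) (tt N45247 F309676) (tt N76103 (iv3 F238781)) (tt N21978 F309677) (tt N45243 F307742) (tt N21808 (iv6 D70777)) (tt N46514 F305388))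
theorem Q42831 : ∀ i, i < 42831 → P i := stepQ 42830 Q42830 (allL N42830 (tt N68427 (iv1 F311215)) (tt N21809 (iv0 D70778)) (tt N76122 F236498) (tt N55188 (iv3 F307163)) (tt N55815 (iv4 F353422)) (tt N42610 (iv5 F215734)) (tt N55186 (iv6 F353417)) (tt N48498 (iv7 F194687)))
theorem Q42832 : ∀ i, i < 42832 → P i := stepQ 42831 Q42831 (allL N42831 (tt N21809 (iv1 D70779)) (tt N68427 (iv0 F311214)) (tt N48498 (iv2 F191232)) (tt N76126 D150313) (tt N74926 (iv4 F236507)) (tt N42611 (iv5 F215738)) (tt N76127 D150314) (tt N76122 (iv7 F236499)))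
theorem Q42833 : ∀ i, i < 42833 → P i := stepQ 42832 Q42832 (allL N42832 (tt N68437 (iv1 F312070)) (tt N68443 (iv0 F312192)) (tt N41785 F107255) (tt N76128 D150316) (tt N21809 (iv4 D70780)) (tt N68425 (iv5 F335871)) (tt N23283 F107256) (tt N76129 D150318))
theorem Q42834 : ∀ i, i < 42834 → P i := stepQ 42833 Q42833 (allL N42833 (tt N48498 (iv1 F133093)) (tt N76122 F236500) (tt N68427 (iv2 F311216)) (tt N21812 F107257) (tt N76129 (iv4 F236569)) (tt N21810 F107258) (tt N74829 (iv6 F229409)) (tt N21809 (iv7 D70781)))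
theorem Q42835 : ∀ i, i < 42835 → P i := stepQ 42834 Q42834 (allL N42834 (tt N76130 D150319) (tt N76131 D150320) (tt N76132 D150321) (tt N21811 (iv3 D70782)) (tt N76128 (iv4 F236565)) (tt N48091 (iv5 F130684)) (tt N23284 F107259) (tt N67099 (iv7 F206637)))
theorem Q42836 : ∀ i, i < 42836 → P i := stepQ 42835 Q42835 (allL N42835 (tt N29797 F303544) (tt N21813 (iv0 D70800)) (tt N36611 (iv2 F191038)) (tt N53321 F303545) (tt N53323 (iv4 F305640)) (tt N23924 F303546) (tt N74403 (iv6 F227770)) (tt N46518 F303547))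
theorem Q42837 : ∀ i, i < 42837 → P i := stepQ 42836 Q42836 (allL N42836 (tt N21813 (iv1 D70801)) (tt N29797 F303548) (tt N46518 F303549) (tt N34949 (iv3 F305643)) (tt N37494 F191045) (tt N23925 F303550) (tt N37493 (iv6 F191043)) (tt N36611 F191039))
theorem Q42838 : ∀ i, i < 42838 → P i := stepQ 42837 Q42837 (allL N42837 (tt N68418 F210343) (tt N75797 (iv0 F234026)) (tt N48459 (iv2 F305639)) (tt N21817 F107269) (tt N46552 (iv4 F305647)) (tt N28720 F310336) (tt N21813 (iv6 D70803)) (tt N48473 F310916))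
theorem Q42839 : ∀ i, i < 42839 → P i := stepQ 42838 Q42838 (allL N42838 (tt N66848 (iv1 F205833)) (tt N21814 (iv0 D70804)) (tt N42438 F233717) (tt N76080 (iv3 F236237)) (tt N68017 (iv4 F305682)) (tt N45701 F206120) (tt N42423 (iv6 F206121)) (tt N66718 (iv7 F233715)))
theorem Q42840 : ∀ i, i < 42840 → P i := stepQ 42839 Q42839 (allL N42839 (tt N21814 (iv1 D70805)) (tt N66848 F205832) (tt N66718 (iv2 F233718)) (tt N42713 F234813) (tt N68016 (iv4 F305684)) (tt N45702 F204992) (tt N66680 (iv6 F204990)) (tt N42438 F233740))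
theorem Q42841 : ∀ i, i < 42841 → P i := stepQ 42840 Q42840 (allL N42840 (tt N66718 F205225) (tt N42438 (iv0 F206134)) (tt N66848 (iv2 F205829)) (tt N21819 F107271) (tt N52815 F303552) (tt N33855 F107272) (tt N46239 (iv6 F122607)) (tt N21814 (iv7 D70806)))
theorem Q42842 : ∀ i, i < 42842 → P i := stepQ 42841 Q42841 (allL N42841 (tt N30685 (iv1 F309156)) (tt N38329 F109910) (tt N46516 F303556) (tt N48473 (iv3 F313125)) (tt N45395 (iv4 F311132)) (tt N22877 F308992) (tt N37365 F107293) (tt N21817 (iv7 D70815)))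
theorem Q42843 : ∀ i, i < 42843 → P i := stepQ 42842 Q42842 (allL N42842 (tt N76133 D150356) (tt N42472 F191382) (tt N21822 F107300) (tt N46517 (iv3 F302468)) (tt N44524 F309847) (tt N48142 (iv5 F131490)) (tt N21821 (iv6 D70829)) (tt N72394 (iv7 F311500)))
theorem Q42844 : ∀ i, i < 42844 → P i := stepQ 42843 Q42843 (allL N42843 (tt N72394 (iv1 F311499)) (tt N21822 (iv0 D70838)) (tt N76133 F236651) (tt N44321 F309277) (tt N76134 D150376) (tt N25496 F191370) (tt N75963 F234768) (tt N42472 F234079))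
theorem Q42845 : ∀ i, i < 42845 → P i := stepQ 42844 Q42844 (allL N42844 (tt N21822 (iv1 D70839)) (tt N72394 (iv0 F311498)) (tt N42472 F236653) (tt N76061 F236654) (tt N76135 D150377) (tt N25497 F236655) (tt N42454 F236656) (tt N76133 F236657))
theorem Q42846 : ∀ i, i < 42846 → P i := stepQ 42845 Q42845 (allL N42845 (tt N42472 F191381) (tt N76133 F236658) (tt N72394 F312363) (tt N21824 F107308) (tt N44525 F312364) (tt N35484 F107309) (tt N42703 F107310) (tt N21822 (iv7 D70840)))
theorem Q42847 : ∀ i, i < 42847 → P i := stepQ 42846 Q42846 (allL N42846 (tt N64364 F301156) (tt N64363 F301157) (tt N24254 F107316) (tt N21826 F107317) (tt N63113 (iv4 F185683)) (tt N76136 D150387) (tt N21825 (iv6 D70844)) (tt N42995 F301158))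
theorem Q42848 : ∀ i, i < 42848 → P i := stepQ 42847 Q42847 (allL N42847 (tt N46198 (iv1 F307259)) (tt N29744 F317168) (tt N21845 F107319) (tt N76136 (iv3 F236706)) (tt N37387 F314088) (tt N21826 (iv5 D70847)) (tt N33597 (iv6 F307261)) (tt N36232 F314089))
theorem Q42849 : ∀ i, i < 42849 → P i := stepQ 42848 Q42848 (allL N42848 (tt N21844 (iv1 F107324)) (tt N21843 F107326) (tt N21846 F107321) (tt N42995 (iv3 F302935)) (tt N21829 F107322) (tt N36232 F314087) (tt N22764 F300124) (tt N21826 (iv7 D70848)))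
theorem Q42850 : ∀ i, i < 42850 → P i := stepQ 42849 Q42849 (allL N42849 (tt N44538 F305347) (tt N34123 F113947) (tt N21848 F110556) (tt N75619 (iv3 F319996)) (tt N21827 (iv4 D70851)) (tt N34594 (iv5 F307327)) (tt N34430 (iv6 F307328)) (tt N21852 F110557))
theorem Q42851 : ∀ i, i < 42851 → P i := stepQ 42850 Q42850 (allL N42850 (tt N66863 (iv1 F205924)) (tt N21830 (iv0 D70859)) (tt N66862 (iv2 F233760)) (tt N42422 (iv3 F205274)) (tt N39892 F312572) (tt N76137 D150406) (tt N66721 F205273) (tt N42435 (iv7 F233761)))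
theorem Q42852 : ∀ i, i < 42852 → P i := stepQ 42851 Q42851 (allL N42851 (tt N21830 (iv1 D70860)) (tt N66863 F205923) (tt N42435 F233749) (tt N66819 (iv3 F205681)) (tt N39891 F313038) (tt N76138 D150407) (tt N42714 (iv6 F234817)) (tt N66862 F233754))
theorem Q42853 : ∀ i, i < 42853 → P i := stepQ 42852 Q42852 (allL N42852 (tt N42435 (iv1 F230635)) (tt N66862 (iv0 F205917)) (tt N66863 (iv2 F205921)) (tt N21834 F107331) (tt N43095 (iv4 F108069)) (tt N41352 F107332) (tt N42683 F107333) (tt N21830 (iv7 D70861)))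
theorem Q42854 : ∀ i, i < 42854 → P i := stepQ 42853 Q42853 (allL N42853 (tt N29763 (iv1 F300231)) (tt N42684 F107338) (tt N21831 (iv2 D70862)) (tt N42693 F107334) (tt N25484 F107335) (tt N32861 F107336) (tt N44545 (iv6 F309502)) (tt N42685 F107337))
theorem Q42855 : ∀ i, i < 42855 → P i := stepQ 42854 Q42854 (allL N42854 (tt N30558 F309009) (tt N21840 F107373) (tt N23085 F130794) (tt N48466 (iv3 F311222)) (tt N21833 (iv4 D70869)) (tt N37652 F309010) (tt N41064 (iv6 F314539)) (tt N42697 F107352))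
theorem Q42856 : ∀ i, i < 42856 → P i := stepQ 42855 Q42855 (allL N42855 (tt N36371 F107356) (tt N33570 F107362) (tt N23092 F130805) (tt N42492 F155393) (tt N22450 (iv4 F308773)) (tt N21833 (iv5 D70870)) (tt N22449 (iv6 F308774)) (tt N29746 F107355))
theorem Q42857 : ∀ i, i < 42857 → P i := stepQ 42856 Q42856 (allL N42856 (tt N21854 F114112) (tt N57698 (iv0 F310512)) (tt N23093 F130806) (tt N42493 (iv3 F155351)) (tt N41064 (iv4 F314538)) (tt N44927 (iv5 F114115)) (tt N21833 (iv6 D70871)) (tt N42717 F107364))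
theorem Q42858 : ∀ i, i < 42858 → P i := stepQ 42857 Q42857 (allL N42857 (tt N66830 (iv1 F205753)) (tt N21835 (iv0 D70874)) (tt N42469 F234054) (tt N76058 (iv3 F236153)) (tt N22855 F109931) (tt N76139 D150420) (tt N44320 F307574) (tt N66829 F234055))
theorem Q42859 : ∀ i, i < 42859 → P i := stepQ 42858 Q42858 (allL N42858 (tt N21835 (iv1 D70875)) (tt N66830 F205752) (tt N66829 F234050) (tt N42455 F215531) (tt N22856 F215532) (tt N76140 D150422) (tt N76141 D150423) (tt N42469 F234051))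
theorem Q42860 : ∀ i, i < 42860 → P i := stepQ 42859 Q42859 (allL N42859 (tt N66829 (iv1 F205746)) (tt N42469 F205751) (tt N66830 (iv2 F205750)) (tt N21838 F107375) (tt N43467 (iv4 F108943)) (tt N38366 F107376) (tt N42691 F107377) (tt N21835 (iv7 D70876)))
theorem Q42861 : ∀ i, i < 42861 → P i := stepQ 42860 Q42860 (allL N42860 (tt N24262 (iv1 F107388)) (tt N42692 F107387) (tt N21836 (iv2 D70878)) (tt N42685 F107383) (tt N34874 F107384) (tt N42647 F107385) (tt N43314 (iv6 F306202)) (tt N42693 F107386))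
theorem Q42862 : ∀ i, i < 42862 → P i := stepQ 42861 Q42861 (allL N42861 (tt N68577 (iv1 F307847)) (tt N38387 (iv0 F307848)) (tt N68448 F305857) (tt N21840 F107414) (tt N53063 F298385) (tt N38336 (iv5 F307849)) (tt N21839 (iv6 D70896)) (tt N38367 (iv7 F307850)))
theorem Q42863 : ∀ i, i < 42863 → P i := stepQ 42862 Q42862 (allL N42862 (tt N24733 (iv1 F107429)) (tt N21841 (iv0 D70899)) (tt N42738 (iv2 F107430)) (tt N76142 D150449) (tt N24115 F107428) (tt N32805 F107427) (tt N68557 (iv6 F309312)) (tt N42737 (iv7 F107431)))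
theorem Q42864 : ∀ i, i < 42864 → P i := stepQ 42863 Q42863 (allL N42863 (tt N40639 (iv1 F317829)) (tt N36382 (iv0 F310987)) (tt N41618 F308802) (tt N24308 F107458) (tt N33598 F107459) (tt N33596 (iv5 F308840)) (tt N36371 F308803) (tt N21842 (iv7 D70909)))
theorem Q42865 : ∀ i, i < 42865 → P i := stepQ 42864 Q42864 (allL N42864 (tt N68557 (iv1 F312933)) (tt N68499 (iv0 F307873)) (tt N68556 (iv2 F333703)) (tt N21844 (iv3 D70916)) (tt N44783 F307280) (tt N40633 F318065) (tt N41258 F318066) (tt N68518 (iv7 F324174)))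
theorem Q42866 : ∀ i, i < 42866 → P i := stepQ 42865 Q42865 (allL N42865 (tt N76021 (iv1 F309476)) (tt N72192 (iv0 F310291)) (tt N66866 (iv2 F205933)) (tt N21850 F107483) (tt N34024 F307705) (tt N42653 (iv5 F107484)) (tt N21847 (iv6 D70935)) (tt N57697 F312647))
theorem Q42867 : ∀ i, i < 42867 → P i := stepQ 42866 Q42866 (allL N42866 (tt N29776 F306599) (tt N42888 F306600) (tt N75796 (iv2 F308412)) (tt N21848 (iv3 D70939)) (tt N34023 F306601) (tt N45272 (iv5 F311569)) (tt N44553 (iv6 F311586)) (tt N72700 (iv7 F307456)))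
theorem Q42868 : ∀ i, i < 42868 → P i := stepQ 42867 Q42867 (allL N42867 (tt N76143 D150534) (tt N62438 (iv0 F319687)) (tt N66871 (iv2 F205954)) (tt N21853 F107504) (tt N73789 (iv4 F322372)) (tt N21851 (iv5 D70956)) (tt N67078 (iv6 F206499)) (tt N36225 F321591))
theorem Q42869 : ∀ i, i < 42869 → P i := stepQ 42868 Q42868 (allL N42868 (tt N75429 (iv1 F235858)) (tt N75438 (iv0 F231503)) (tt N66872 (iv2 F205955)) (tt N21854 F107505) (tt N43560 (iv4 F190353)) (tt N49045 (iv5 F308488)) (tt N21851 (iv6 D70957)) (tt N76144 D150538))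
theorem Q42870 : ∀ i, i < 42870 → P i := stepQ 42869 Q42869 (allL N42869 (tt N63042 (iv1 F315554)) (tt N27940 F297904) (tt N75618 (iv2 F319990)) (tt N21852 (iv3 D70958)) (tt N43558 (iv4 F190352)) (tt N40825 (iv5 F309603)) (tt N62221 (iv6 F311565)) (tt N75619 (iv7 F319998)))
theorem Q42871 : ∀ i, i < 42871 → P i := stepQ 42870 Q42870 (allL N42870 (tt N69338 (iv1 F321972)) (tt N69337 (iv0 F321975)) (tt N69339 (iv2 F321970)) (tt N76145 D150549) (tt N21853 (iv4 D70961)) (tt N37230 F320263) (tt N44095 F189615) (tt N36227 (iv7 F322008)))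
theorem Q42872 : ∀ i, i < 42872 → P i := stepQ 42871 Q42871 (allL N42871 (tt N29818 F109942) (tt N36632 (iv0 F109833)) (tt N36635 F110550) (tt N49045 F310598) (tt N38015 (iv4 F315525)) (tt N21854 (iv5 D70964)) (tt N48244 (iv6 F131945)) (tt N36636 (iv7 F110549)))
theorem Q42873 : ∀ i, i < 42873 → P i := stepQ 42872 Q42872 (allL N42872 (tt N23093 F130812) (tt N42717 (iv0 F107510)) (tt N57698 (iv2 F310514)) (tt N76144 (iv3 F237034)) (tt N44349 F313865) (tt N36636 (iv5 F110547)) (tt N30502 (iv6 F310474)) (tt N21854 (iv7 D70965)))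
theorem Q42874 : ∀ i, i < 42874 → P i := stepQ 42873 Q42873 (allL N42873 (tt N53319 (iv1 F339148)) (tt N44987 (iv0 F237070)) (tt N53364 (iv2 F339141)) (tt N21855 (iv3 D70966)) (tt N76146 D150554) (tt N48083 F308659) (tt N75959 (iv6 F306080)) (tt N53363 (iv7 F339139)))
theorem Q42875 : ∀ i, i < 42875 → P i := stepQ 42874 Q42874 (allL N42874 (tt N44070 F110792) (tt N34363 F113956) (tt N44068 F113953) (tt N46210 (iv3 F316472)) (tt N21855 (iv4 D70967)) (tt N46209 F313975) (tt N69342 (iv6 F320869)) (tt N44069 F113925))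
theorem Q42876 : ∀ i, i < 42876 → P i := stepQ 42875 Q42875 (allL N42875 (tt N40240 (iv1 F316497)) (tt N39919 F316231) (tt N40244 (iv2 F316493)) (tt N75959 (iv3 F306079)) (tt N69342 (iv4 F320868)) (tt N37505 F107515) (tt N21855 (iv6 D70968)) (tt N25209 F107514))
theorem Q42877 : ∀ i, i < 42877 → P i := stepQ 42876 Q42876 (allL N42876 (tt N66733 F205283) (tt N46452 F306650) (tt N66873 (iv2 F241565)) (tt N21856 (iv3 D70969)) (tt N43571 (iv4 F205962)) (tt N63106 (iv5 F185581)) (tt N25210 F107516) (tt N63802 (iv7 F189713)))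
theorem Q42878 : ∀ i, i < 42878 → P i := stepQ 42877 Q42877 (allL N42877 (tt N34363 F110805) (tt N44070 F110806) (tt N44069 (iv2 F113923)) (tt N76147 D150560) (tt N21856 (iv4 D70970)) (tt N47302 F313345) (tt N25211 F107517) (tt N44068 (iv7 F113955)))
theorem Q42879 : ∀ i, i < 42879 → P i := stepQ 42878 Q42878 (allL N42878 (tt N45782 F309236) (tt N21857 (iv0 D70971)) (tt N63636 (iv2 F320683)) (tt N76148 D150562) (tt N22544 F189475) (tt N23584 (iv5 F320687)) (tt N70557 (iv6 F322448)) (tt N63773 (iv7 F189488)))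
theorem Q42880 : ∀ i, i < 42880 → P i := stepQ 42879 Q42879 (allL N42879 (tt N21857 (iv1 D70972)) (tt N45782 F309235) (tt N63773 (iv2 F189486)) (tt N63524 (iv3 F320678)) (tt N22545 (iv4 F108326)) (tt N23585 (iv5 F320680)) (tt N25138 F108327) (tt N63636 (iv7 F320685)))
theorem Q42881 : ∀ i, i < 42881 → P i := stepQ 42880 Q42880 (allL N42880 (tt N63773 (iv1 F189490)) (tt N63636 (iv0 F320681)) (tt N45782 F309184) (tt N44465 F318747) (tt N21858 F107520) (tt N37386 F316267) (tt N34646 F309185) (tt N21857 (iv7 D70975)))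
theorem Q42882 : ∀ i, i < 42882 → P i := stepQ 42881 Q42881 (allL N42881 (tt N34041 F107522) (tt N33997 F107523) (tt N34038 F107524) (tt N76149 D150576) (tt N21859 (iv4 D70976)) (tt N76150 D150577) (tt N76151 D150578) (tt N34039 F107521))
theorem Q42883 : ∀ i, i < 42883 → P i := stepQ 42882 Q42882 (allL N42882 (tt N40475 F327725) (tt N76152 D150580) (tt N66869 (iv2 F205944)) (tt N21861 F107526) (tt N76151 (iv4 F237097)) (tt N21892 F107527) (tt N21859 (iv6 D70977)) (tt N33289 F318720))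
theorem Q42884 : ∀ i, i < 42884 → P i := stepQ 42883 Q42883 (allL N42883 (tt N71487 (iv1 F362164)) (tt N71484 (iv0 F362171)) (tt N54323 (iv2 F326896)) (tt N21860 (iv3 D70978)) (tt N76149 (iv4 F237091)) (tt N44062 (iv5 F110778)) (tt N47487 F325997) (tt N42637 F107528))
theorem Q42885 : ∀ i, i < 42885 → P i := stepQ 42884 Q42884 (allL N42884 (tt N35442 F107530) (tt N40490 (iv0 F320498)) (tt N23609 F323777) (tt N47487 (iv3 F325023)) (tt N21861 F107529) (tt N23545 (iv5 F324761)) (tt N21860 (iv6 D70979)) (tt N23602 F323778))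
theorem Q42886 : ∀ i, i < 42886 → P i := stepQ 42885 Q42885 (allL N42885 (tt N76153 D150589) (tt N66326 (iv0 F346524)) (tt N76154 D150591) (tt N21863 (iv3 D70981)) (tt N43588 (iv4 F109224)) (tt N42637 F107533) (tt N66298 (iv6 F322565)) (tt N44062 (iv7 F110779)))
theorem Q42887 : ∀ i, i < 42887 → P i := stepQ 42886 Q42886 (allL N42886 (tt N76155 D150600) (tt N76156 D150601) (tt N76157 D150602) (tt N21864 (iv3 D70986)) (tt N66892 (iv4 F206033)) (tt N63765 (iv5 F189405)) (tt N74715 (iv6 F318470)) (tt N42679 F107544))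
theorem Q42888 : ∀ i, i < 42888 → P i := stepQ 42887 Q42887 (allL N42887 (tt N44113 (iv1 F349914)) (tt N44116 F349911) (tt N76158 D150607) (tt N21865 (iv3 D70988)) (tt N76159 D150608) (tt N42679 F107547) (tt N73425 (iv6 F321276)) (tt N63765 (iv7 F189406)))
theorem Q42889 : ∀ i, i < 42889 → P i := stepQ 42888 Q42888 (allL N42888 (tt N42866 (iv1 F306600)) (tt N56104 (iv0 F191324)) (tt N46502 F191315) (tt N76160 D150622) (tt N21866 (iv4 D70995)) (tt N76161 D150623) (tt N42466 F305236) (tt N42461 F191316))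
theorem Q42890 : ∀ i, i < 42890 → P i := stepQ 42889 Q42889 (allL N42889 (tt N39890 F312929) (tt N21876 F191248) (tt N39894 F315873) (tt N46452 F305237) (tt N76162 D150624) (tt N21866 (iv5 D70996)) (tt N42468 (iv6 F307173)) (tt N39893 F315874))
theorem Q42891 : ∀ i, i < 42891 → P i := stepQ 42890 Q42890 (allL N42890 (tt N46492 (iv1 F123871)) (tt N42465 (iv0 F185044)) (tt N21868 F107553) (tt N76163 D150626) (tt N21867 (iv4 D71003)) (tt N44047 F321719) (tt N72395 (iv6 F308027)) (tt N46493 (iv7 F123869)))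
theorem Q42892 : ∀ i, i < 42892 → P i := stepQ 42891 Q42891 (allL N42891 (tt N42476 F215741) (tt N75963 (iv0 F234769)) (tt N21869 F107555) (tt N46482 (iv3 F123809)) (tt N72395 (iv4 F308026)) (tt N42617 (iv5 F107556)) (tt N21867 (iv6 D71005)) (tt N76164 D150631))
theorem Q42893 : ∀ i, i < 42893 → P i := stepQ 42892 Q42892 (allL N42892 (tt N46493 (iv1 F123870)) (tt N21868 (iv0 D71006)) (tt N46492 F185050) (tt N75632 (iv3 F317808)) (tt N73881 (iv4 F320354)) (tt N63054 (iv5 F315619)) (tt N24294 F300291) (tt N42465 F123873))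
theorem Q42894 : ∀ i, i < 42894 → P i := stepQ 42893 Q42893 (allL N42893 (tt N72398 (iv1 F307961)) (tt N72387 (iv0 F309027)) (tt N72395 (iv2 F308025)) (tt N24313 F300303) (tt N21869 F107559) (tt N62235 (iv5 F322676)) (tt N21868 (iv6 D71009)) (tt N72396 (iv7 F305222)))
theorem Q42895 : ∀ i, i < 42895 → P i := stepQ 42894 Q42894 (allL N42894 (tt N76164 (iv1 F237177)) (tt N21869 (iv0 D71014)) (tt N42476 (iv2 F234069)) (tt N76141 (iv3 F236811)) (tt N76165 D150653) (tt N46194 F191203) (tt N42455 F191204) (tt N75963 (iv7 F234766)))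
theorem Q42896 : ∀ i, i < 42896 → P i := stepQ 42895 Q42895 (allL N42895 (tt N21869 (iv1 D71015)) (tt N76164 F237176) (tt N75963 (iv2 F234765)) (tt N76166 D150654) (tt N73948 (iv4 F342548)) (tt N46195 F234075) (tt N76133 (iv6 F236649)) (tt N42476 F234071))
theorem Q42897 : ∀ i, i < 42897 → P i := stepQ 42896 Q42896 (allL N42896 (tt N75963 F234767) (tt N42476 (iv0 F234094)) (tt N76164 (iv2 F237173)) (tt N21871 F107562) (tt N72396 (iv4 F305221)) (tt N33830 F107563) (tt N46510 (iv6 F123941)) (tt N21869 (iv7 D71016)))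
theorem Q42898 : ∀ i, i < 42898 → P i := stepQ 42897 Q42897 (allL N42897 (tt N21872 (iv1 D71037)) (tt N46468 F123755) (tt N46467 F190213) (tt N53895 (iv3 F302464)) (tt N22252 F190140) (tt N76167 D150666) (tt N24440 F299514) (tt N22248 F190142))
theorem Q42899 : ∀ i, i < 42899 → P i := stepQ 42898 Q42898 (allL N42898 (tt N75337 (iv1 F344688)) (tt N76168 D150668) (tt N58802 (iv2 F344630)) (tt N24464 F301514) (tt N76169 D150669) (tt N21872 (iv5 D71038)) (tt N58800 (iv6 F328793)) (tt N46469 (iv7 F123757)))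
theorem Q42900 : ∀ i, i < 42900 → P i := stepQ 42899 Q42899 (allL N42899 (tt N67023 (iv1 F206378)) (tt N67026 (iv0 F206382)) (tt N66885 (iv2 F205994)) (tt N24465 F301515) (tt N21873 F107582) (tt N47220 (iv5 F303650)) (tt N21872 (iv6 D71039)) (tt N76170 D150672))
theorem Q42901 : ∀ i, i < 42901 → P i := stepQ 42900 Q42900 (allL N42900 (tt N36520 (iv1 F188381)) (tt N24299 F314409) (tt N36602 F188352) (tt N21874 F107583) (tt N27459 F317108) (tt N21873 (iv5 D71045)) (tt N62391 (iv6 F315942)) (tt N36603 (iv7 F188356)))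
theorem Q42902 : ∀ i, i < 42902 → P i := stepQ 42901 Q42901 (allL N42901 (tt N42434 F188390) (tt N66680 (iv0 F204989)) (tt N66716 F205220) (tt N21875 F107585) (tt N76170 (iv4 F237218)) (tt N36603 (iv5 F188354)) (tt N42616 F107587) (tt N21873 (iv7 D71046)))
theorem Q42903 : ∀ i, i < 42903 → P i := stepQ 42902 Q42902 (allL N42902 (tt N39894 (iv1 F313397)) (tt N39893 (iv0 F313396)) (tt N21876 (iv2 D71050)) (tt N63181 (iv3 F185835)) (tt N76171 D150685) (tt N64270 (iv5 F194689)) (tt N40274 F341105) (tt N39890 F312931))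
theorem Q42904 : ∀ i, i < 42904 → P i := stepQ 42903 Q42903 (allL N42903 (tt N76172 D150687) (tt N76173 D150688) (tt N76171 (iv2 F237228)) (tt N39874 (iv3 F318064)) (tt N21876 (iv4 D71051)) (tt N76174 D150690) (tt N74318 F315861) (tt N39869 F315862))
theorem Q42905 : ∀ i, i < 42905 → P i := stepQ 42904 Q42904 (allL N42904 (tt N43869 F190974) (tt N76175 D150708) (tt N66887 (iv2 F205997)) (tt N22662 (iv3 F315251)) (tt N21877 (iv4 D71061)) (tt N76176 D150710) (tt N22660 F312833) (tt N63182 (iv7 F185841)))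
theorem Q42906 : ∀ i, i < 42906 → P i := stepQ 42905 Q42905 (allL N42905 (tt N45263 (iv1 F114976)) (tt N56100 F162654) (tt N56102 (iv2 F162652)) (tt N44981 (iv3 F114273)) (tt N76177 D150751) (tt N21879 (iv5 D71078)) (tt N76178 D150752) (tt N44975 (iv7 F114244)))
theorem Q42907 : ∀ i, i < 42907 → P i := stepQ 42906 Q42906 (allL N42906 (tt N45268 (iv1 F114987)) (tt N56107 F162680) (tt N40289 F323750) (tt N53237 (iv3 F349209)) (tt N21880 (iv4 D71079)) (tt N76179 D150754) (tt N76180 D150755) (tt N40287 F323751))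
theorem Q42908 : ∀ i, i < 42908 → P i := stepQ 42907 Q42907 (allL N42907 (tt N74003 (iv1 F320334)) (tt N62573 (iv0 F318147)) (tt N40290 F323752) (tt N46459 F309052) (tt N76180 (iv4 F237315)) (tt N38309 F107615) (tt N21880 (iv6 D71080)) (tt N42468 F309053))
theorem Q42909 : ∀ i, i < 42909 → P i := stepQ 42908 Q42908 (allL N42908 (tt N42981 F107848) (tt N34374 F107617) (tt N21885 F107616) (tt N26280 (iv3 F329560)) (tt N21881 (iv4 D71081)) (tt N26276 F329251) (tt N44387 F317010) (tt N44072 (iv7 F110812)))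
theorem Q42910 : ∀ i, i < 42910 → P i := stepQ 42909 Q42909 (allL N42909 (tt N21882 (iv1 D71083)) (tt N41751 F107619) (tt N43028 F107976) (tt N50294 (iv3 F139455)) (tt N50821 (iv4 F329486)) (tt N45093 (iv5 F114522)) (tt N76181 D150763) (tt N43027 F107971))
theorem Q42911 : ∀ i, i < 42911 → P i := stepQ 42910 Q42910 (allL N42910 (tt N76182 D150764) (tt N76183 D150765) (tt N43029 (iv2 F107977)) (tt N28555 (iv3 F329719)) (tt N21882 (iv4 D71084)) (tt N28554 F329548) (tt N76184 D150768) (tt N50418 (iv7 F360976)))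
theorem Q42912 : ∀ i, i < 42912 → P i := stepQ 42911 Q42911 (allL N42911 (tt N61611 (iv1 F238461)) (tt N76185 D150770) (tt N43025 (iv2 F107965)) (tt N36411 F107620) (tt N76184 (iv4 F237334)) (tt N34002 F107621) (tt N21882 (iv6 D71085)) (tt N76186 D150771))
theorem Q42913 : ∀ i, i < 42913 → P i := stepQ 42912 Q42912 (allL N42912 (tt N62793 (iv1 F183695)) (tt N21926 (iv0 F107622)) (tt N57453 (iv2 F166782)) (tt N76187 D150772) (tt N21883 (iv4 D71086)) (tt N76188 D150773) (tt N76189 D150774) (tt N63186 (iv7 F185934)))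
theorem Q42914 : ∀ i, i < 42914 → P i := stepQ 42913 Q42913 (allL N42913 (tt N73346 (iv1 F321895)) (tt N70459 (iv0 F312220)) (tt N57452 (iv2 F166780)) (tt N66735 (iv3 F205287)) (tt N76189 (iv4 F237338)) (tt N48457 F313276) (tt N21883 (iv6 D71087)) (tt N73360 (iv7 F321258)))
theorem Q42915 : ∀ i, i < 42915 → P i := stepQ 42914 Q42914 (allL N42914 (tt N43275 F115166) (tt N43279 F115168) (tt N63110 F185671) (tt N21884 (iv3 D71088)) (tt N62988 (iv4 F184281)) (tt N45318 (iv5 F115160)) (tt N73357 (iv6 F320806)) (tt N57444 (iv7 F166765)))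
theorem Q42916 : ∀ i, i < 42916 → P i := stepQ 42915 Q42915 (allL N42915 (tt N21926 F107623) (tt N62793 (iv0 F183694)) (tt N63186 (iv2 F185933)) (tt N76190 D150779) (tt N21884 (iv4 D71089)) (tt N76191 D150780) (tt N73358 (iv6 F320807)) (tt N57453 (iv7 F166783)))
theorem Q42917 : ∀ i, i < 42917 → P i := stepQ 42916 Q42916 (allL N42916 (tt N21885 (iv1 D71091)) (tt N44072 F110811) (tt N34374 (iv2 F107625)) (tt N76192 D150783) (tt N33984 F107624) (tt N28202 F329202) (tt N73253 (iv6 F320815)) (tt N42981 (iv7 F107846)))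
theorem Q42918 : ∀ i, i < 42918 → P i := stepQ 42917 Q42917 (allL N42917 (tt N44057 (iv1 F110767)) (tt N28163 F328902) (tt N26276 (iv2 F329197)) (tt N44390 (iv3 F319658)) (tt N76193 D150792) (tt N21885 (iv5 D71093)) (tt N26274 (iv6 F329250)) (tt N51097 (iv7 F329248)))
theorem Q42919 : ∀ i, i < 42919 → P i := stepQ 42918 Q42918 (allL N42918 (tt N43868 (iv1 F110064)) (tt N43862 (iv0 F110055)) (tt N51035 (iv2 F339949)) (tt N31767 F337431) (tt N76194 D150847) (tt N21888 (iv5 D71118)) (tt N31766 (iv6 F337434)) (tt N63185 (iv7 F185891)))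
theorem Q42920 : ∀ i, i < 42920 → P i := stepQ 42919 Q42919 (allL N42919 (tt N76195 D150849) (tt N73501 (iv0 F322937)) (tt N66891 (iv2 F206009)) (tt N44359 (iv3 F319260)) (tt N21889 F107639) (tt N76196 D150851) (tt N21888 (iv6 D71119)) (tt N44354 F316991))
theorem Q42921 : ∀ i, i < 42921 → P i := stepQ 42920 Q42920 (allL N42920 (tt N44371 F317006) (tt N21889 (iv0 D71120)) (tt N44373 F316999) (tt N76197 D150853) (tt N75505 (iv4 F363743)) (tt N76198 D150855) (tt N73179 (iv6 F319709)) (tt N44372 F317000))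
theorem Q42922 : ∀ i, i < 42922 → P i := stepQ 42921 Q42921 (allL N42921 (tt N33288 F318715) (tt N33287 F318716) (tt N21892 F107648) (tt N40460 F318717) (tt N53180 (iv4 F327594)) (tt N66869 (iv5 F205946)) (tt N21890 (iv6 D71138)) (tt N33282 F318718))
theorem Q42923 : ∀ i, i < 42923 → P i := stepQ 42922 Q42922 (allL N42922 (tt N21891 (iv1 D71139)) (tt N40122 F322624) (tt N34360 (iv2 F107650)) (tt N76199 D150897) (tt N33983 F107649) (tt N28163 (iv5 F328508)) (tt N76173 (iv6 F237238)) (tt N40127 F323760))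
theorem Q42924 : ∀ i, i < 42924 → P i := stepQ 42923 Q42923 (allL N42923 (tt N43697 F327043) (tt N76200 D150906) (tt N53180 (iv2 F327593)) (tt N24396 (iv3 F327596)) (tt N21892 F107652) (tt N24395 (iv5 F327597)) (tt N21891 (iv6 D71142)) (tt N33269 F318719))
theorem Q42925 : ∀ i, i < 42925 → P i := stepQ 42924 Q42924 (allL N42924 (tt N33282 F318713) (tt N21892 (iv0 D71143)) (tt N33288 (iv2 F326374)) (tt N40479 F322611) (tt N76201 D150910) (tt N76202 D150911) (tt N22683 F311112) (tt N33287 F325519))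
theorem Q42926 : ∀ i, i < 42926 → P i := stepQ 42925 Q42925 (allL N42925 (tt N21892 (iv1 D71144)) (tt N33282 F318714) (tt N33287 F325518) (tt N76203 D150913) (tt N76204 D150914) (tt N76205 D150915) (tt N62851 (iv6 F320851)) (tt N33288 (iv7 F326375)))
theorem Q42927 : ∀ i, i < 42927 → P i := stepQ 42926 Q42926 (allL N42926 (tt N75517 (iv1 F231708)) (tt N75514 (iv0 F231702)) (tt N51071 (iv2 F339900)) (tt N33233 F322664) (tt N76206 D150956) (tt N21893 (iv5 D71164)) (tt N76207 D150957) (tt N63189 (iv7 F185979)))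
theorem Q42928 : ∀ i, i < 42928 → P i := stepQ 42927 Q42927 (allL N42927 (tt N22274 F107720) (tt N22273 F107721) (tt N22277 F107718) (tt N76208 D151154) (tt N21894 (iv4 D71236)) (tt N76209 D151155) (tt N76210 D151156) (tt N22231 F107719))
theorem Q42929 : ∀ i, i < 42929 → P i := stepQ 42928 Q42928 (allL N42928 (tt N76211 D151157) (tt N51605 F310145) (tt N22278 F107722) (tt N22410 F107723) (tt N76210 (iv4 F237835)) (tt N22230 F107724) (tt N21894 (iv6 D71237)) (tt N46578 F310146))
theorem Q42930 : ∀ i, i < 42930 → P i := stepQ 42929 Q42929 (allL N42929 (tt N63197 (iv1 F186221)) (tt N63196 F186218) (tt N21898 F107725) (tt N29280 F324321) (tt N21895 (iv4 D71238)) (tt N76194 (iv5 F237417)) (tt N39995 F316705) (tt N22269 F107726))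
theorem Q42931 : ∀ i, i < 42931 → P i := stepQ 42930 Q42930 (allL N42930 (tt N36357 F107732) (tt N36415 F107733) (tt N36628 F107730) (tt N76212 D151162) (tt N21896 (iv4 D71240)) (tt N76213 D151163) (tt N76214 D151164) (tt N36629 F107731))
theorem Q42932 : ∀ i, i < 42932 → P i := stepQ 42931 Q42931 (allL N42931 (tt N68563 F210851) (tt N67842 (iv0 F314520)) (tt N44517 (iv2 F112395)) (tt N22414 F107734) (tt N76214 (iv4 F237855)) (tt N44512 (iv5 F112388)) (tt N21896 (iv6 D71241)) (tt N52354 (iv7 F308543)))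
theorem Q42933 : ∀ i, i < 42933 → P i := stepQ 42932 Q42932 (allL N42932 (tt N21912 (iv1 F107738)) (tt N22242 F107739) (tt N22415 F107735) (tt N21897 (iv3 D71242)) (tt N42751 (iv4 F107740)) (tt N41361 F107736) (tt N40907 F340743) (tt N42748 F107737))
theorem Q42934 : ∀ i, i < 42934 → P i := stepQ 42933 Q42933 (allL N42933 (tt N36415 F107743) (tt N36357 F107744) (tt N36629 F107741) (tt N76215 D151166) (tt N21897 (iv4 D71243)) (tt N76216 D151167) (tt N75282 (iv6 F231014)) (tt N36628 F107742))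
theorem Q42935 : ∀ i, i < 42935 → P i := stepQ 42934 Q42934 (allL N42934 (tt N66902 (iv1 F206047)) (tt N66876 (iv0 F205967)) (tt N76194 (iv2 F237415)) (tt N41196 (iv3 F319665)) (tt N51035 (iv4 F339950)) (tt N21898 (iv5 D71245)) (tt N76217 D151173) (tt N63198 (iv7 F186228)))
theorem Q42936 : ∀ i, i < 42936 → P i := stepQ 42935 Q42935 (allL N42935 (tt N76218 D151179) (tt N23153 F107749) (tt N63344 (iv2 F186926)) (tt N39320 (iv3 F319407)) (tt N21899 (iv4 D71250)) (tt N76219 D151181) (tt N76220 D151182) (tt N36255 F107748))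
theorem Q42937 : ∀ i, i < 42937 → P i := stepQ 42936 Q42936 (allL N42936 (tt N41008 F342552) (tt N76221 D151184) (tt N63345 (iv2 F186930)) (tt N21900 F107750) (tt N76220 (iv4 F237885)) (tt N30517 F107751) (tt N21899 (iv6 D71251)) (tt N40655 F312474))
theorem Q42938 : ∀ i, i < 42938 → P i := stepQ 42937 Q42937 (allL N42937 (tt N22051 (iv1 F107767)) (tt N21901 (iv0 D71274)) (tt N61230 F178395) (tt N76222 D151222) (tt N76223 D151223) (tt N60717 (iv5 F176771)) (tt N60881 (iv6 F177134)) (tt N61229 F178391))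
theorem Q42939 : ∀ i, i < 42939 → P i := stepQ 42938 Q42938 (allL N42938 (tt N21901 (iv1 D71275)) (tt N22051 F107768) (tt N61229 F178390) (tt N60906 F177193) (tt N76224 D151224) (tt N31367 F107769) (tt N76225 D151225) (tt N61230 (iv7 F178393)))
theorem Q42940 : ∀ i, i < 42940 → P i := stepQ 42939 Q42939 (allL N42939 (tt N76226 D151231) (tt N76227 D151232) (tt N61388 (iv2 F178741)) (tt N21904 F107770) (tt N53773 (iv4 F325485)) (tt N62736 (iv5 F183415)) (tt N21901 (iv6 D71277)) (tt N76228 D151233))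
theorem Q42941 : ∀ i, i < 42941 → P i := stepQ 42940 Q42940 (allL N42940 (tt N61277 (iv1 F178488)) (tt N61276 (iv0 F178483)) (tt N26559 (iv2 F107773)) (tt N21902 (iv3 D71278)) (tt N76229 D151234) (tt N26442 F107771) (tt N76230 D151235) (tt N26562 F107772))
theorem Q42942 : ∀ i, i < 42942 → P i := stepQ 42941 Q42941 (allL N42941 (tt N32703 F107774) (tt N32700 F107775) (tt N56436 (iv2 F163744)) (tt N58282 (iv3 F360002)) (tt N21902 (iv4 D71279)) (tt N56436 (iv5 F163745)) (tt N76231 D151237) (tt N56154 (iv7 F163117)))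
theorem Q42943 : ∀ i, i < 42943 → P i := stepQ 42942 Q42942 (allL N42942 (tt N76232 D151238) (tt N76233 D151239) (tt N56434 (iv2 F163742)) (tt N76230 (iv3 F237968)) (tt N76231 (iv4 F237970)) (tt N30061 F107776) (tt N21902 (iv6 D71280)) (tt N76234 D151240))
theorem Q42944 : ∀ i, i < 42944 → P i := stepQ 42943 Q42943 (allL N42943 (tt N21903 (iv1 D71281)) (tt N36410 F107777) (tt N56618 (iv2 F164447)) (tt N76235 D151241) (tt N29989 F107778) (tt N56618 (iv5 F164448)) (tt N76236 D151242) (tt N55704 (iv7 F161470)))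
theorem Q42945 : ∀ i, i < 42945 → P i := stepQ 42944 Q42944 (allL N42944 (tt N76237 D151247) (tt N76238 D151248) (tt N61236 (iv2 F178413)) (tt N53776 (iv3 F327162)) (tt N21904 F107779) (tt N74238 (iv5 F363666)) (tt N21903 (iv6 D71283)) (tt N76239 D151250))
theorem Q42946 : ∀ i, i < 42946 → P i := stepQ 42945 Q42945 (allL N42945 (tt N61239 (iv1 F178419)) (tt N21904 (iv0 D71284)) (tt N61237 (iv2 F237982)) (tt N76240 D151252) (tt N76241 D151253) (tt N76242 D151254) (tt N76243 D151255) (tt N61238 (iv7 F237980)))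
theorem Q42947 : ∀ i, i < 42947 → P i := stepQ 42946 Q42946 (allL N42946 (tt N21904 (iv1 D71285)) (tt N61239 F178418) (tt N61238 (iv2 F237979)) (tt N76244 D151257) (tt N58254 (iv4 F363672)) (tt N76245 D151259) (tt N61304 (iv6 F178988)) (tt N61237 (iv7 F237983)))
theorem Q42948 : ∀ i, i < 42948 → P i := stepQ 42947 Q42947 (allL N42947 (tt N61238 (iv1 F178415)) (tt N61237 F178417) (tt N61239 (iv2 F178416)) (tt N76228 (iv3 F237963)) (tt N76239 (iv4 F237974)) (tt N74843 (iv5 F229455)) (tt N61234 (iv6 F178409)) (tt N21904 (iv7 D71286)))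
theorem Q42949 : ∀ i, i < 42949 → P i := stepQ 42948 Q42948 (allL N42948 (tt N42746 F107781) (tt N63774 F189494) (tt N22554 F107780) (tt N55288 (iv3 F354451)) (tt N21905 (iv4 D71287)) (tt N76246 D151261) (tt N40816 F322322) (tt N63192 (iv7 F186068)))
theorem Q42950 : ∀ i, i < 42950 → P i := stepQ 42949 Q42949 (allL N42949 (tt N22056 (iv1 F107782)) (tt N21906 (iv0 D71288)) (tt N63195 F186080) (tt N76247 D151262) (tt N44989 F114297) (tt N52046 (iv5 F324610)) (tt N40799 F344495) (tt N63194 F186076))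
theorem Q42951 : ∀ i, i < 42951 → P i := stepQ 42950 Q42950 (allL N42950 (tt N21906 (iv1 D71289)) (tt N22056 F107783) (tt N63194 F186075) (tt N55015 (iv3 F365600)) (tt N63158 (iv4 F185790)) (tt N52045 (iv5 F324608)) (tt N76248 D151267) (tt N63195 (iv7 F186078)))
theorem Q42952 : ∀ i, i < 42952 → P i := stepQ 42951 Q42951 (allL N42951 (tt N59114 (iv1 F323022)) (tt N59113 (iv0 F321634)) (tt N29284 (iv2 F323023)) (tt N21906 (iv3 D71290)) (tt N21908 F107784) (tt N29283 (iv5 F323025)) (tt N57661 F321405) (tt N30376 F321406))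
theorem Q42953 : ∀ i, i < 42953 → P i := stepQ 42952 Q42952 (allL N42952 (tt N29238 (iv1 F322864)) (tt N29277 (iv0 F322863)) (tt N29226 (iv2 F322865)) (tt N29283 (iv3 F323024)) (tt N50630 (iv4 F323337)) (tt N21906 (iv5 D71291)) (tt N55491 (iv6 F323339)) (tt N29278 F321650))
theorem Q42954 : ∀ i, i < 42954 → P i := stepQ 42953 Q42953 (allL N42953 (tt N76249 D151277) (tt N76250 D151278) (tt N63494 (iv2 F187696)) (tt N57661 (iv3 F319664)) (tt N21907 F107785) (tt N76251 D151279) (tt N21906 (iv6 D71292)) (tt N39985 F318389))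
theorem Q42955 : ∀ i, i < 42955 → P i := stepQ 42954 Q42954 (allL N42954 (tt N39981 F318259) (tt N21907 (iv0 D71293)) (tt N39987 F318394) (tt N74871 (iv3 F233154)) (tt N76252 D151281) (tt N76253 D151282) (tt N76254 D151283) (tt N39986 F318395))
theorem Q42956 : ∀ i, i < 42956 → P i := stepQ 42955 Q42955 (allL N42955 (tt N22735 F318290) (tt N22136 F200303) (tt N62985 F199966) (tt N21909 (iv3 D71304)) (tt N76255 D151303) (tt N73708 (iv5 F320612)) (tt N76256 D151305) (tt N39956 (iv7 F320481)))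
theorem Q42957 : ∀ i, i < 42957 → P i := stepQ 42956 Q42956 (allL N42956 (tt N40189 (iv1 F320474)) (tt N40191 (iv0 F320471)) (tt N39958 (iv2 F320475)) (tt N73708 (iv3 F320611)) (tt N45545 F316435) (tt N21909 (iv5 D71306)) (tt N48067 (iv6 F130607)) (tt N23074 F107791))
theorem Q42958 : ∀ i, i < 42958 → P i := stepQ 42957 Q42957 (allL N42957 (tt N35894 F316835) (tt N33461 F316836) (tt N39959 F316837) (tt N76256 (iv3 F238016)) (tt N22707 (iv4 F317388)) (tt N33552 F316838) (tt N21909 (iv6 D71307)) (tt N33367 F316839))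
theorem Q42959 : ∀ i, i < 42959 → P i := stepQ 42958 Q42958 (allL N42958 (tt N40019 (iv1 F316915)) (tt N40002 F314672) (tt N40017 (iv2 F320552)) (tt N21910 (iv3 D71308)) (tt N76257 D151311) (tt N48073 F308233) (tt N33369 F318302) (tt N39957 F318303))
theorem Q42960 : ∀ i, i < 42960 → P i := stepQ 42959 Q42959 (allL N42959 (tt N40003 (iv1 F314322)) (tt N39992 F313647) (tt N40008 F313648) (tt N21922 F107797) (tt N57610 (iv4 F315142)) (tt N21911 (iv5 D71312)) (tt N21912 F107798) (tt N40004 (iv7 F314321)))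
theorem Q42961 : ∀ i, i < 42961 → P i := stepQ 42960 Q42960 (allL N42960 (tt N23221 F107806) (tt N22361 F107807) (tt N43033 F107989) (tt N40989 F321917) (tt N21913 (iv4 D71314)) (tt N44558 (iv5 F112540)) (tt N40986 F321918) (tt N43032 F107985))
theorem Q42962 : ∀ i, i < 42962 → P i := stepQ 42961 Q42961 (allL N42961 (tt N41395 (iv1 F323600)) (tt N76258 D151316) (tt N45204 (iv2 F114784)) (tt N45061 (iv3 F114465)) (tt N40986 F321916) (tt N76259 D151317) (tt N21913 (iv6 D71315)) (tt N76260 D151318))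
theorem Q42963 : ∀ i, i < 42963 → P i := stepQ 42962 Q42962 (allL N42962 (tt N63420 (iv1 F187369)) (tt N45227 (iv0 F114855)) (tt N56088 (iv2 F162587)) (tt N30079 F107808) (tt N76261 D151319) (tt N21914 (iv5 D71316)) (tt N76259 (iv6 F238036)) (tt N68444 (iv7 F210499)))
theorem Q42964 : ∀ i, i < 42964 → P i := stepQ 42963 Q42963 (allL N42963 (tt N33999 F107810) (tt N34001 F107811) (tt N43021 F107956) (tt N35034 (iv3 F107814)) (tt N21915 (iv4 D71317)) (tt N35032 F107809) (tt N76262 D151320) (tt N43022 (iv7 F107959)))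
theorem Q42965 : ∀ i, i < 42965 → P i := stepQ 42964 Q42964 (allL N42964 (tt N61053 (iv1 F377198)) (tt N76263 D151322) (tt N56305 (iv2 F163388)) (tt N45185 (iv3 F114716)) (tt N76262 (iv4 F238042)) (tt N45185 (iv5 F114717)) (tt N21915 (iv6 D71318)) (tt N76264 D151323))
theorem Q42966 : ∀ i, i < 42966 → P i := stepQ 42965 Q42965 (allL N42965 (tt N34001 F107817) (tt N33999 F107818) (tt N43022 F107962) (tt N23350 F107815) (tt N21916 (iv4 D71319)) (tt N35084 F107816) (tt N76265 D151324) (tt N43021 F107957))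
theorem Q42967 : ∀ i, i < 42967 → P i := stepQ 42966 Q42966 (allL N42966 (tt N74791 (iv1 F335783)) (tt N50782 (iv0 F354957)) (tt N63258 (iv2 F186607)) (tt N56299 (iv3 F163379)) (tt N76265 (iv4 F238044)) (tt N28129 F107819) (tt N21916 (iv6 D71320)) (tt N76266 D151327))
theorem Q42968 : ∀ i, i < 42968 → P i := stepQ 42967 Q42967 (allL N42967 (tt N34882 (iv1 F107824)) (tt N34881 F107828) (tt N34489 F107820) (tt N21917 (iv3 D71321)) (tt N46594 F125582) (tt N34488 F107821) (tt N76267 D151328) (tt N34880 F107822))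
theorem Q42969 : ∀ i, i < 42969 → P i := stepQ 42968 Q42968 (allL N42968 (tt N76268 D151329) (tt N61524 (iv0 F340893)) (tt N34859 F107829) (tt N76267 (iv3 F238047)) (tt N21918 F107830) (tt N76269 D151331) (tt N21917 (iv6 D71322)) (tt N76270 D151332))
theorem Q42970 : ∀ i, i < 42970 → P i := stepQ 42969 Q42969 (allL N42969 (tt N63268 (iv1 F186660)) (tt N21918 (iv0 D71323)) (tt N63265 (iv2 F348659)) (tt N74891 (iv3 F340888)) (tt N76271 D151335) (tt N76272 D151336) (tt N76273 D151337) (tt N63266 (iv7 F348658)))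
theorem Q42971 : ∀ i, i < 42971 → P i := stepQ 42970 Q42970 (allL N42970 (tt N21918 (iv1 D71324)) (tt N63268 F186659) (tt N63266 (iv2 F348654)) (tt N56315 (iv3 F348662)) (tt N76274 D151340) (tt N76275 D151341) (tt N73578 (iv6 F348664)) (tt N63265 (iv7 F348661)))
theorem Q42972 : ∀ i, i < 42972 → P i := stepQ 42971 Q42971 (allL N42971 (tt N76276 D151343) (tt N76277 D151344) (tt N63267 (iv2 F186653)) (tt N63394 (iv3 F187303)) (tt N76278 D151345) (tt N21918 (iv5 D71325)) (tt N21919 F107831) (tt N76279 D151346))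
theorem Q42973 : ∀ i, i < 42973 → P i := stepQ 42972 Q42972 (allL N42972 (tt N63266 (iv1 F186652)) (tt N63265 F186658) (tt N63268 (iv2 F186656)) (tt N63395 (iv3 F187305)) (tt N76270 (iv4 F238052)) (tt N76279 (iv5 F238059)) (tt N63261 (iv6 F186614)) (tt N21918 (iv7 D71326)))
theorem Q42974 : ∀ i, i < 42974 → P i := stepQ 42973 Q42973 (allL N42973 (tt N56099 (iv1 F162651)) (tt N21919 (iv0 D71327)) (tt N57448 (iv2 F166775)) (tt N63340 F186921) (tt N76182 (iv4 F237329)) (tt N45317 (iv5 F115156)) (tt N76280 D151347) (tt N63269 (iv7 F186662)))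
theorem Q42975 : ∀ i, i < 42975 → P i := stepQ 42974 Q42974 (allL N42974 (tt N21919 (iv1 D71328)) (tt N56099 (iv0 F162650)) (tt N63269 F186664) (tt N56318 (iv3 F163402)) (tt N76183 (iv4 F237332)) (tt N45319 (iv5 F115175)) (tt N76281 D151348) (tt N57448 (iv7 F166776)))
theorem Q42976 : ∀ i, i < 42976 → P i := stepQ 42975 Q42975 (allL N42975 (tt N26949 F329796) (tt N76282 D151350) (tt N63270 (iv2 F186665)) (tt N76283 D151351) (tt N21919 (iv4 D71329)) (tt N51332 (iv5 F360969)) (tt N76278 (iv6 F238058)) (tt N74861 (iv7 F229671)))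
theorem Q42977 : ∀ i, i < 42977 → P i := stepQ 42976 Q42976 (allL N42976 (tt N25149 F232405) (tt N21921 (iv0 D71331)) (tt N63271 (iv2 F232383)) (tt N47398 F304154) (tt N39884 F314647) (tt N41351 (iv5 F306254)) (tt N39946 F312541) (tt N63272 (iv7 F232381)))
theorem Q42978 : ∀ i, i < 42978 → P i := stepQ 42977 Q42977 (allL N42977 (tt N21921 (iv1 D71332)) (tt N25149 F232402) (tt N63272 (iv2 F232379)) (tt N48158 F305614) (tt N39888 F314648) (tt N41350 (iv5 F307632)) (tt N73606 (iv6 F322965)) (tt N63271 (iv7 F232386)))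
theorem Q42979 : ∀ i, i < 42979 → P i := stepQ 42978 Q42978 (allL N42978 (tt N44396 F314643) (tt N44398 F314644) (tt N40020 F314645) (tt N31584 (iv3 F316922)) (tt N21922 (iv4 D71347)) (tt N74851 (iv5 F356807)) (tt N21926 F107835) (tt N65286 F232451))
theorem Q42980 : ∀ i, i < 42980 → P i := stepQ 42979 Q42979 (allL N42979 (tt N32778 F107839) (tt N63766 F189432) (tt N22530 F107837) (tt N50295 F139462) (tt N50827 (iv4 F329559)) (tt N21923 (iv5 D71349)) (tt N76284 D151366) (tt N29586 F107838))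
theorem Q42981 : ∀ i, i < 42981 → P i := stepQ 42980 Q42980 (allL N42980 (tt N76285 D151370) (tt N76286 D151371) (tt N22534 F107844) (tt N63191 (iv3 F186065)) (tt N72594 (iv4 F323769)) (tt N45249 (iv5 F114910)) (tt N21924 (iv6 D71351)) (tt N76287 D151372))
theorem Q42982 : ∀ i, i < 42982 → P i := stepQ 42981 Q42981 (allL N42981 (tt N33912 F107847) (tt N42908 (iv0 F107848)) (tt N22547 F107845) (tt N76288 D151373) (tt N21925 (iv4 D71352)) (tt N51093 (iv5 F328509)) (tt N76289 D151374) (tt N42916 F107846))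
theorem Q42983 : ∀ i, i < 42983 → P i := stepQ 42982 Q42982 (allL N42982 (tt N76290 D151375) (tt N76291 D151376) (tt N22548 F107849) (tt N63193 (iv3 F186072)) (tt N76289 (iv4 F238092)) (tt N68403 (iv5 F210113)) (tt N21925 (iv6 D71353)) (tt N76292 D151377))
theorem Q42984 : ∀ i, i < 42984 → P i := stepQ 42983 Q42983 (allL N42983 (tt N76293 D151378) (tt N76294 D151379) (tt N76295 D151380) (tt N21926 (iv3 D71354)) (tt N74508 (iv4 F228088)) (tt N76296 D151381) (tt N31584 F319245) (tt N74873 (iv7 F229688)))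
theorem Q42985 : ∀ i, i < 42985 → P i := stepQ 42984 Q42984 (allL N42984 (tt N76179 (iv1 F237314)) (tt N56108 (iv0 F162681)) (tt N63275 (iv2 F186693)) (tt N76296 (iv3 F238098)) (tt N51331 (iv4 F349214)) (tt N21926 (iv5 D71355)) (tt N76297 D151383) (tt N74874 (iv7 F229689)))
theorem Q42986 : ∀ i, i < 42986 → P i := stepQ 42985 Q42985 (allL N42985 (tt N24297 F107850) (tt N29591 F107851) (tt N47702 (iv2 F129518)) (tt N42648 F107852) (tt N21927 (iv4 D71356)) (tt N27630 (iv5 F107853)) (tt N74257 (iv6 F320866)) (tt N47705 (iv7 F129532)))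
theorem Q42987 : ∀ i, i < 42987 → P i := stepQ 42986 Q42986 (allL N42986 (tt N56307 (iv1 F360542)) (tt N76298 D151386) (tt N56087 (iv2 F162585)) (tt N61064 (iv3 F177757)) (tt N74257 (iv4 F320865)) (tt N74876 (iv5 F229694)) (tt N21927 (iv6 D71357)) (tt N74959 (iv7 F359206)))
theorem Q42988 : ∀ i, i < 42988 → P i := stepQ 42987 Q42987 (allL N42987 (tt N44437 F307052) (tt N63733 (iv0 F302714)) (tt N48468 (iv2 F132844)) (tt N21928 (iv3 D71358)) (tt N21932 F107854) (tt N63653 (iv5 F302852)) (tt N33823 (iv6 F305020)) (tt N56116 (iv7 F162754)))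
theorem Q42989 : ∀ i, i < 42989 → P i := stepQ 42988 Q42988 (allL N42988 (tt N42464 F107855) (tt N22430 F107856) (tt N47704 (iv2 F129523)) (tt N63653 (iv3 F302851)) (tt N27629 F107857) (tt N21928 (iv5 D71359)) (tt N63387 (iv6 F301141)) (tt N47701 F129513))
theorem Q42990 : ∀ i, i < 42990 → P i := stepQ 42989 Q42989 (allL N42989 (tt N56113 F232303) (tt N56114 F232304) (tt N56117 (iv2 F162757)) (tt N33823 F306950) (tt N21929 F107858) (tt N74929 (iv5 F337028)) (tt N21928 (iv6 D71360)) (tt N56133 F232305))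
theorem Q42991 : ∀ i, i < 42991 → P i := stepQ 42990 Q42990 (allL N42990 (tt N32923 F336779) (tt N76299 D151395) (tt N63259 (iv2 F186610)) (tt N34485 F107860) (tt N21931 F107861) (tt N46723 F302945) (tt N21930 (iv6 D71364)) (tt N76300 D151397))
theorem Q42992 : ∀ i, i < 42992 → P i := stepQ 42991 Q42991 (allL N42991 (tt N63261 (iv1 F186617)) (tt N21931 (iv0 D71365)) (tt N63260 (iv2 F357310)) (tt N56300 (iv3 F357309)) (tt N76301 D151400) (tt N76302 D151401) (tt N76303 D151402) (tt N56310 (iv7 F357308)))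
theorem Q42993 : ∀ i, i < 42993 → P i := stepQ 42992 Q42992 (allL N42992 (tt N21931 (iv1 D71366)) (tt N63261 F186616) (tt N56310 (iv2 F357307)) (tt N76298 (iv3 F353425)) (tt N53351 (iv4 F349045)) (tt N76304 D151406) (tt N74787 (iv6 F357320)) (tt N63260 (iv7 F357311)))
theorem Q42994 : ∀ i, i < 42994 → P i := stepQ 42993 Q42993 (allL N42993 (tt N56310 (iv1 F339714)) (tt N63260 F186615) (tt N63261 (iv2 F186613)) (tt N56324 (iv3 F356348)) (tt N76300 (iv4 F238117)) (tt N74880 (iv5 F337569)) (tt N63268 (iv6 F186657)) (tt N21931 (iv7 D71367)))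
theorem Q42995 : ∀ i, i < 42995 → P i := stepQ 42994 Q42994 (allL N42994 (tt N27743 F299898) (tt N21932 (iv0 D71368)) (tt N23919 (iv2 F107863)) (tt N34998 F107862) (tt N43081 F108044) (tt N48417 (iv5 F132566)) (tt N29817 (iv6 F302785)) (tt N48453 (iv7 F132788)))
theorem Q42996 : ∀ i, i < 42996 → P i := stepQ 42995 Q42995 (allL N42995 (tt N46559 (iv1 F301160)) (tt N46558 (iv0 F301159)) (tt N34835 F107866) (tt N42848 F302935) (tt N34858 F107867) (tt N66570 (iv5 F314086)) (tt N21933 (iv6 D71370)) (tt N42846 (iv7 F301158)))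
theorem Q42997 : ∀ i, i < 42997 → P i := stepQ 42996 Q42996 (allL N42996 (tt N22494 F232293) (tt N21934 (iv0 D71371)) (tt N63263 F232294) (tt N23987 F306946) (tt N43915 F306947) (tt N73596 (iv5 F320163)) (tt N36546 (iv6 F308746)) (tt N36505 F306948))
theorem Q42998 : ∀ i, i < 42998 → P i := stepQ 42997 Q42997 (allL N42997 (tt N32755 F107873) (tt N24828 F319795) (tt N22086 F107871) (tt N75292 (iv3 F343326)) (tt N21935 (iv4 D71385)) (tt N43473 (iv5 F108955)) (tt N75289 (iv6 F343322)) (tt N32746 F107872))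
theorem Q42999 : ∀ i, i < 42999 → P i := stepQ 42998 Q42998 (allL N42998 (tt N76305 D151422) (tt N76306 D151423) (tt N29573 F107875) (tt N21938 F107876) (tt N75289 (iv4 F343320)) (tt N54892 (iv5 F293757)) (tt N21935 (iv6 D71386)) (tt N76307 D151425))
theorem Q43000 : ∀ i, i < 43000 → P i := stepQ 42999 Q42999 (allL N42999 (tt N69483 (iv1 F214494)) (tt N69482 (iv0 F214489)) (tt N27125 F107877) (tt N21940 F107878) (tt N76308 D151426) (tt N21936 (iv5 D71387)) (tt N54892 (iv6 F293758)) (tt N27123 F107879))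
theorem Q43001 : ∀ i, i < 43001 → P i := stepQ 43000 Q43000 (allL N43000 (tt N76309 D151427) (tt N76310 D151428) (tt N61127 (iv2 F178053)) (tt N21937 (iv3 D71388)) (tt N75292 (iv4 F343327)) (tt N34856 F107880) (tt N75290 (iv6 F343331)) (tt N63276 (iv7 F186696)))
theorem Q43002 : ∀ i, i < 43002 → P i := stepQ 43001 Q43001 (allL N43001 (tt N71994 (iv1 F343289)) (tt N62915 (iv0 F338499)) (tt N21963 F107881) (tt N75290 (iv3 F343330)) (tt N21938 F107882) (tt N76311 D151432) (tt N21937 (iv6 D71389)) (tt N76312 D151433))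
theorem Q43003 : ∀ i, i < 43003 → P i := stepQ 43002 Q43002 (allL N43002 (tt N21967 (iv1 F107887)) (tt N21938 (iv0 D71390)) (tt N21964 F335455) (tt N61493 (iv3 F338510)) (tt N73908 (iv4 F335458)) (tt N76313 D151437) (tt N61490 (iv6 F325409)) (tt N21965 F335456))
theorem Q43004 : ∀ i, i < 43004 → P i := stepQ 43003 Q43003 (allL N43003 (tt N21938 (iv1 D71391)) (tt N21967 F107883) (tt N21965 (iv2 F335449)) (tt N76314 D151440) (tt N73909 (iv4 F330357)) (tt N76315 D151442) (tt N76316 D151443) (tt N21964 (iv7 F335454)))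
theorem Q43005 : ∀ i, i < 43005 → P i := stepQ 43004 Q43004 (allL N43004 (tt N76317 D151444) (tt N76318 D151445) (tt N21966 F107884) (tt N54892 (iv3 F293756)) (tt N76319 D151446) (tt N21938 (iv5 D71392)) (tt N21940 F107885) (tt N76320 D151447))
theorem Q43006 : ∀ i, i < 43006 → P i := stepQ 43005 Q43005 (allL N43005 (tt N21965 (iv1 F107888)) (tt N21964 F107889) (tt N21967 F107886) (tt N76307 (iv3 F238150)) (tt N76312 (iv4 F238173)) (tt N76320 (iv5 F238186)) (tt N63281 (iv6 F186707)) (tt N21938 (iv7 D71393)))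
theorem Q43007 : ∀ i, i < 43007 → P i := stepQ 43006 Q43006 (allL N43006 (tt N30414 F107893) (tt N30413 F107894) (tt N21971 F107890) (tt N33953 F107891) (tt N51527 (iv4 F360283)) (tt N21939 (iv5 D71394)) (tt N51526 (iv6 F333573)) (tt N21969 F107892))
theorem Q43008 : ∀ i, i < 43008 → P i := stepQ 43007 Q43007 (allL N43007 (tt N76321 D151450) (tt N76322 D151451) (tt N21973 F107895) (tt N76323 D151452) (tt N21940 (iv4 D71395)) (tt N76324 D151453) (tt N76319 (iv6 F238184)) (tt N57270 (iv7 F165929)))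
theorem Q43009 : ∀ i, i < 43009 → P i := stepQ 43008 Q43008 (allL N43008 (tt N56620 (iv1 F164461)) (tt N57436 F166730) (tt N21999 F107922) (tt N28137 F107923) (tt N76325 D151492) (tt N21943 (iv5 D71416)) (tt N28136 F107924) (tt N22008 F107925))
theorem Q43010 : ∀ i, i < 43010 → P i := stepQ 43009 Q43009 (allL N43009 (tt N28287 F311990) (tt N57440 F166744) (tt N22002 F107926) (tt N27951 F315049) (tt N21944 (iv4 D71417)) (tt N76326 D151494) (tt N76327 D151495) (tt N22009 F107927))
theorem Q43011 : ∀ i, i < 43011 → P i := stepQ 43010 Q43010 (allL N43010 (tt N38280 F232793) (tt N63030 (iv0 F316802)) (tt N22003 F107928) (tt N44497 (iv3 F112323)) (tt N76327 (iv4 F238339)) (tt N23349 F107929) (tt N21944 (iv6 D71418)) (tt N63037 (iv7 F316801)))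
theorem Q43012 : ∀ i, i < 43012 → P i := stepQ 43011 Q43011 (allL N43011 (tt N57436 (iv1 F166731)) (tt N56620 (iv0 F164460)) (tt N22008 F107930) (tt N37554 F107931) (tt N76328 D151496) (tt N21945 (iv5 D71419)) (tt N76329 D151497) (tt N21999 F107932))
theorem Q43013 : ∀ i, i < 43013 → P i := stepQ 43012 Q43012 (allL N43012 (tt N57440 (iv1 F166745)) (tt N28287 F311989) (tt N22009 F107933) (tt N26129 (iv3 F315650)) (tt N21946 (iv4 D71420)) (tt N76330 D151499) (tt N76331 D151500) (tt N22002 F107934))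
theorem Q43014 : ∀ i, i < 43014 → P i := stepQ 43013 Q43013 (allL N43013 (tt N64898 (iv1 F314462)) (tt N34308 F305967) (tt N22010 F107935) (tt N37558 F107936) (tt N76331 (iv4 F238353)) (tt N44496 (iv5 F112319)) (tt N21946 (iv6 D71421)) (tt N48502 F312123))
theorem Q43015 : ∀ i, i < 43015 → P i := stepQ 43014 Q43014 (allL N43014 (tt N30544 F107939) (tt N30542 F107940) (tt N22012 F107937) (tt N63935 (iv3 F312171)) (tt N21947 (iv4 D71422)) (tt N76332 D151502) (tt N74935 (iv6 F229846)) (tt N22014 F107938))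
theorem Q43016 : ∀ i, i < 43016 → P i := stepQ 43015 Q43015 (allL N43015 (tt N30542 F107943) (tt N30544 F107944) (tt N22014 F107941) (tt N28618 F318673) (tt N21948 (iv4 D71423)) (tt N54293 (iv5 F320826)) (tt N28616 F318674) (tt N22012 F107942))
theorem Q43017 : ∀ i, i < 43017 → P i := stepQ 43016 Q43016 (allL N43016 (tt N63843 F232778) (tt N38273 F232779) (tt N22015 F107945) (tt N63091 (iv3 F185489)) (tt N28616 (iv4 F316402)) (tt N34710 F107946) (tt N21948 (iv6 D71424)) (tt N68355 (iv7 F232714)))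
theorem Q43018 : ∀ i, i < 43018 → P i := stepQ 43017 Q43017 (allL N43017 (tt N76333 D151505) (tt N76334 D151506) (tt N43477 (iv2 F310706)) (tt N21949 (iv3 D71425)) (tt N63210 (iv4 F186377)) (tt N76335 D151508) (tt N34855 F309266) (tt N57465 (iv7 F166811)))
theorem Q43019 : ∀ i, i < 43019 → P i := stepQ 43018 Q43018 (allL N43018 (tt N69648 (iv1 F215398)) (tt N64904 (iv0 F314627)) (tt N22018 F107947) (tt N76335 (iv3 F238372)) (tt N76336 D151510) (tt N21949 (iv5 D71426)) (tt N63299 (iv6 F311486)) (tt N57466 (iv7 F166814)))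
theorem Q43020 : ∀ i, i < 43020 → P i := stepQ 43019 Q43019 (allL N43019 (tt N41011 (iv1 F338972)) (tt N41007 F338967) (tt N22020 F107948) (tt N63213 (iv3 F186384)) (tt N57467 (iv4 F166818)) (tt N63295 (iv5 F186781)) (tt N21950 (iv6 D71427)) (tt N63285 (iv7 F305877)))
theorem Q43021 : ∀ i, i < 43021 → P i := stepQ 43020 Q43020 (allL N43020 (tt N39946 F312537) (tt N36615 (iv0 F200342)) (tt N22719 (iv2 F312700)) (tt N36431 F107950) (tt N22429 F107951) (tt N22718 F312538) (tt N21951 (iv6 D71428)) (tt N39944 (iv7 F314456)))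
theorem Q43022 : ∀ i, i < 43022 → P i := stepQ 43021 Q43021 (allL N43021 (tt N21955 (iv1 F107955)) (tt N21952 (iv0 D71429)) (tt N42963 (iv2 F107956)) (tt N45255 F114936) (tt N29909 F107954) (tt N22357 F107953) (tt N76337 D151514) (tt N42965 (iv7 F107957)))
theorem Q43023 : ∀ i, i < 43023 → P i := stepQ 43022 Q43022 (allL N43022 (tt N21952 (iv1 D71430)) (tt N21955 F107958) (tt N42965 (iv2 F107962)) (tt N63920 (iv3 F191792)) (tt N33973 F107961) (tt N22358 F107960) (tt N76338 D151515) (tt N42963 F107959))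
theorem Q43024 : ∀ i, i < 43024 → P i := stepQ 43023 Q43023 (allL N43023 (tt N76339 D151516) (tt N76340 D151517) (tt N63296 (iv2 F186798)) (tt N22366 F107963) (tt N21953 F107964) (tt N76341 D151518) (tt N21952 (iv6 D71431)) (tt N76342 D151519))
theorem Q43025 : ∀ i, i < 43025 → P i := stepQ 43024 Q43024 (allL N43024 (tt N61522 (iv1 F335497)) (tt N21953 (iv0 D71432)) (tt N32949 (iv2 F335502)) (tt N61514 F335496) (tt N76268 (iv4 F348665)) (tt N76343 D151523) (tt N76344 D151524) (tt N61523 (iv7 F335503)))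
theorem Q43026 : ∀ i, i < 43026 → P i := stepQ 43025 Q43025 (allL N43025 (tt N76345 D151530) (tt N61532 (iv0 F189732)) (tt N42911 F107965) (tt N43186 (iv3 F108263)) (tt N76346 D151531) (tt N21953 (iv5 D71434)) (tt N21954 F107966) (tt N76347 D151532))
theorem Q43027 : ∀ i, i < 43027 → P i := stepQ 43026 Q43026 (allL N43026 (tt N61523 (iv1 F343519)) (tt N32949 (iv0 F343520)) (tt N61522 (iv2 F335498)) (tt N43187 (iv3 F108265)) (tt N76342 (iv4 F238389)) (tt N76347 (iv5 F238399)) (tt N32921 F259150) (tt N21953 (iv7 D71435)))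
theorem Q43028 : ∀ i, i < 43028 → P i := stepQ 43027 Q43027 (allL N43027 (tt N32721 (iv1 F107968)) (tt N21954 (iv0 D71436)) (tt N32965 (iv2 F107969)) (tt N26939 (iv3 F107970)) (tt N26949 F329801) (tt N26937 F107967) (tt N76348 D151533) (tt N42909 (iv7 F107971)))
theorem Q43029 : ∀ i, i < 43029 → P i := stepQ 43028 Q43028 (allL N43028 (tt N21954 (iv1 D71437)) (tt N32721 F107972) (tt N42909 (iv2 F107976)) (tt N23135 (iv3 F107975)) (tt N76282 (iv4 F238064)) (tt N41340 F107974) (tt N76349 D151534) (tt N32965 F107973))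
theorem Q43030 : ∀ i, i < 43030 → P i := stepQ 43029 Q43029 (allL N43029 (tt N76350 D151535) (tt N76351 D151536) (tt N42910 F107977) (tt N51079 (iv3 F365304)) (tt N21954 (iv4 D71438)) (tt N53835 (iv5 F329546)) (tt N76346 (iv6 F238397)) (tt N74896 (iv7 F229763)))
theorem Q43031 : ∀ i, i < 43031 → P i := stepQ 43030 Q43030 (allL N43030 (tt N21956 (iv1 D71443)) (tt N32921 (iv0 F259136)) (tt N29602 (iv2 F259140)) (tt N32936 (iv3 F259141)) (tt N76299 (iv4 F336782)) (tt N76352 D151553) (tt N76353 D151554) (tt N32922 (iv7 F259139)))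
theorem Q43032 : ∀ i, i < 43032 → P i := stepQ 43031 Q43031 (allL N43031 (tt N29602 (iv1 F258989)) (tt N32922 (iv0 F258990)) (tt N32921 (iv2 F259137)) (tt N54571 (iv3 F311509)) (tt N49401 F309294) (tt N74900 (iv5 F229771)) (tt N61522 (iv6 F335500)) (tt N21956 (iv7 D71444)))
theorem Q43033 : ∀ i, i < 43033 → P i := stepQ 43032 Q43032 (allL N43032 (tt N21959 (iv1 F107983)) (tt N21957 (iv0 D71445)) (tt N36465 (iv2 F107984)) (tt N45313 (iv3 F115133)) (tt N23290 F107982) (tt N49389 F302703) (tt N72802 (iv6 F314121)) (tt N42960 (iv7 F107985)))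
theorem Q43034 : ∀ i, i < 43034 → P i := stepQ 43033 Q43033 (allL N43033 (tt N21957 (iv1 D71446)) (tt N21959 F107986) (tt N42960 (iv2 F107989)) (tt N35046 (iv3 F107990)) (tt N23289 F107988) (tt N49388 F301845) (tt N73910 (iv6 F321915)) (tt N36465 F107987))
theorem Q43035 : ∀ i, i < 43035 → P i := stepQ 43034 Q43034 (allL N43034 (tt N76354 D151557) (tt N76355 D151558) (tt N45096 (iv2 F114530)) (tt N35088 F107991) (tt N21958 F107992) (tt N76356 D151559) (tt N21957 (iv6 D71447)) (tt N76357 D151560))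
theorem Q43036 : ∀ i, i < 43036 → P i := stepQ 43035 Q43035 (allL N43035 (tt N45099 (iv1 F114540)) (tt N21958 (iv0 D71448)) (tt N34400 F238445) (tt N76358 D151562) (tt N76359 D151563) (tt N76360 D151564) (tt N76361 D151565) (tt N45097 F238446))
theorem Q43037 : ∀ i, i < 43037 → P i := stepQ 43036 Q43036 (allL N43036 (tt N21958 (iv1 D71449)) (tt N45099 F114539) (tt N45097 (iv2 F238442)) (tt N23830 (iv3 F238443)) (tt N76362 D151568) (tt N76363 D151569) (tt N76364 D151570) (tt N34400 (iv7 F238444)))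
theorem Q43038 : ∀ i, i < 43038 → P i := stepQ 43037 Q43037 (allL N43037 (tt N76365 D151571) (tt N57283 (iv0 F259151)) (tt N45098 (iv2 F114533)) (tt N64034 (iv3 F192332)) (tt N76366 D151573) (tt N21958 (iv5 D71450)) (tt N34683 F107993) (tt N76367 D151574))
theorem Q43039 : ∀ i, i < 43039 → P i := stepQ 43038 Q43038 (allL N43038 (tt N45097 (iv1 F114532)) (tt N34400 (iv0 F177472)) (tt N45099 (iv2 F114536)) (tt N61758 (iv3 F329180)) (tt N76357 (iv4 F238435)) (tt N76367 (iv5 F238466)) (tt N45091 (iv6 F114509)) (tt N21958 (iv7 D71451)))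
theorem Q43040 : ∀ i, i < 43040 → P i := stepQ 43039 Q43039 (allL N43039 (tt N27643 (iv1 F109570)) (tt N43732 F109574) (tt N35077 F107994) (tt N21959 (iv3 D71452)) (tt N46115 (iv4 F120351)) (tt N35076 F107995) (tt N49711 (iv6 F307591)) (tt N43731 (iv7 F109569)))
theorem Q43041 : ∀ i, i < 43041 → P i := stepQ 43040 Q43040 (allL N43040 (tt N76368 D151576) (tt N76369 D151577) (tt N43750 (iv2 F109598)) (tt N49711 (iv3 F307589)) (tt N21960 F107996) (tt N76370 D151578) (tt N21959 (iv6 D71453)) (tt N76371 D151579))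
theorem Q43042 : ∀ i, i < 43042 → P i := stepQ 43041 Q43041 (allL N43041 (tt N21960 (iv1 D71455)) (tt N45091 F114511) (tt N45080 (iv2 F332643)) (tt N24833 (iv3 F332644)) (tt N64544 (iv4 F332263)) (tt N61733 (iv5 F332647)) (tt N76372 D151589) (tt N24831 (iv7 F332642)))
theorem Q43043 : ∀ i, i < 43043 → P i := stepQ 43042 Q43042 (allL N43042 (tt N45080 (iv1 F336797)) (tt N24831 F336794) (tt N45091 (iv2 F114508)) (tt N46119 (iv3 F120361)) (tt N76371 (iv4 F238469)) (tt N74412 (iv5 F227812)) (tt N45099 (iv6 F114537)) (tt N21960 (iv7 D71456)))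
theorem Q43044 : ∀ i, i < 43044 → P i := stepQ 43043 Q43043 (allL N43043 (tt N76359 (iv1 F252356)) (tt N76362 (iv0 F252352)) (tt N45232 (iv2 F114869)) (tt N64591 (iv3 F197760)) (tt N34702 F107997) (tt N69785 (iv5 F328714)) (tt N21961 (iv6 D71457)) (tt N76373 D151593))
theorem Q43045 : ∀ i, i < 43045 → P i := stepQ 43044 Q43044 (allL N43044 (tt N71306 (iv1 F339032)) (tt N71962 (iv0 F339036)) (tt N34857 F107998) (tt N43474 (iv3 F108957)) (tt N63285 (iv4 F186731)) (tt N76374 D151596) (tt N21962 (iv6 D71458)) (tt N57467 (iv7 F309878)))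
theorem Q43046 : ∀ i, i < 43046 → P i := stepQ 43045 Q43045 (allL N43045 (tt N76312 (iv1 F238176)) (tt N21963 (iv0 D71459)) (tt N71994 (iv2 F347768)) (tt N41393 (iv3 F347770)) (tt N41395 F347767) (tt N42227 F353546) (tt N76375 D151602) (tt N62915 (iv7 F347772)))
theorem Q43047 : ∀ i, i < 43047 → P i := stepQ 43046 Q43046 (allL N43046 (tt N21963 (iv1 D71460)) (tt N76312 F238175) (tt N62915 (iv2 F347771)) (tt N63957 (iv3 F355549)) (tt N76258 (iv4 F353554)) (tt N71812 (iv5 F353556)) (tt N76376 D151607) (tt N71994 (iv7 F347769)))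
theorem Q43048 : ∀ i, i < 43048 → P i := stepQ 43047 Q43047 (allL N43047 (tt N71696 (iv1 F355816)) (tt N76377 D151609) (tt N76311 (iv2 F238170)) (tt N61147 (iv3 F178115)) (tt N48152 (iv4 F353552)) (tt N21963 (iv5 D71461)) (tt N76374 (iv6 F238475)) (tt N76378 D151611))
theorem Q43049 : ∀ i, i < 43049 → P i := stepQ 43048 Q43048 (allL N43048 (tt N62915 (iv1 F338500)) (tt N71994 (iv0 F343288)) (tt N76312 (iv2 F238172)) (tt N61148 (iv3 F178116)) (tt N21967 F107999) (tt N76378 (iv5 F238483)) (tt N63300 (iv6 F186807)) (tt N21963 (iv7 D71462)))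
theorem Q43050 : ∀ i, i < 43050 → P i := stepQ 43049 Q43049 (allL N43049 (tt N41378 (iv1 F338526)) (tt N43169 (iv0 F338527)) (tt N76379 D151620) (tt N21964 (iv3 D71464)) (tt N76380 D151621) (tt N76381 D151622) (tt N61419 (iv6 F338530)) (tt N76314 (iv7 F335450)))
theorem Q43051 : ∀ i, i < 43051 → P i := stepQ 43050 Q43050 (allL N43050 (tt N62943 (iv1 F341184)) (tt N73910 (iv0 F341181)) (tt N73908 (iv2 F335428)) (tt N76382 D151627) (tt N21964 (iv4 D71465)) (tt N40926 F334861) (tt N76383 D151629) (tt N73909 (iv7 F335448)))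
theorem Q43052 : ∀ i, i < 43052 → P i := stepQ 43051 Q43051 (allL N43051 (tt N76384 D151631) (tt N76385 D151632) (tt N76313 (iv2 F335459)) (tt N76381 (iv3 F238493)) (tt N54901 (iv4 F355636)) (tt N21964 (iv5 D71466)) (tt N63390 (iv6 F334844)) (tt N76315 (iv7 F335452)))
theorem Q43053 : ∀ i, i < 43053 → P i := stepQ 43052 Q43052 (allL N43052 (tt N76372 (iv1 F335476)) (tt N76386 D151637) (tt N61490 (iv2 F335463)) (tt N61419 (iv3 F338529)) (tt N76383 (iv4 F238497)) (tt N55806 F161829) (tt N21964 (iv6 D71467)) (tt N74933 (iv7 F364429)))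
theorem Q43054 : ∀ i, i < 43054 → P i := stepQ 43053 Q43053 (allL N43053 (tt N46113 (iv1 F338508)) (tt N76031 (iv0 F338509)) (tt N76030 F338507) (tt N21965 (iv3 D71469)) (tt N66688 (iv4 F347763)) (tt N76387 D151644) (tt N76388 D151645) (tt N61493 (iv7 F338512)))
theorem Q43055 : ∀ i, i < 43055 → P i := stepQ 43054 Q43054 (allL N43054 (tt N73910 (iv1 F341182)) (tt N62943 (iv0 F341183)) (tt N73909 (iv2 F335446)) (tt N54485 (iv3 F360851)) (tt N21965 (iv4 D71470)) (tt N40927 F334856) (tt N76389 D151648) (tt N73908 (iv7 F335430)))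
theorem Q43056 : ∀ i, i < 43056 → P i := stepQ 43055 Q43055 (allL N43055 (tt N76385 (iv1 F238502)) (tt N76384 F238506) (tt N76315 (iv2 F335451)) (tt N76387 (iv3 F238508)) (tt N76390 D151649) (tt N21965 (iv5 D71471)) (tt N76391 D151650) (tt N76313 (iv7 F335462)))
theorem Q43057 : ∀ i, i < 43057 → P i := stepQ 43056 Q43056 (allL N43056 (tt N76392 D151651) (tt N76361 (iv0 F465185)) (tt N76316 (iv2 F335453)) (tt N76388 (iv3 F238509)) (tt N76389 (iv4 F238510)) (tt N76393 D151653) (tt N21965 (iv6 D71472)) (tt N76394 D151654))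
theorem Q43058 : ∀ i, i < 43058 → P i := stepQ 43057 Q43057 (allL N43057 (tt N76320 (iv1 F238189)) (tt N21966 (iv0 D71473)) (tt N76317 (iv2 F251619)) (tt N74330 (iv3 F342984)) (tt N76395 D151657) (tt N76396 D151658) (tt N76397 D151659) (tt N76318 (iv7 F251617)))
theorem Q43059 : ∀ i, i < 43059 → P i := stepQ 43058 Q43058 (allL N43058 (tt N21966 (iv1 D71474)) (tt N76320 F238188) (tt N76318 (iv2 F251616)) (tt N56413 (iv3 F342985)) (tt N76398 D151662) (tt N76399 D151663) (tt N76400 D151664) (tt N76317 (iv7 F251620)))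
theorem Q43060 : ∀ i, i < 43060 → P i := stepQ 43059 Q43059 (allL N43059 (tt N76401 D151665) (tt N76402 D151666) (tt N76319 (iv2 F238183)) (tt N61107 (iv3 F355190)) (tt N21966 (iv4 D71475)) (tt N42215 F334835) (tt N21973 F108002) (tt N76403 D151669))
theorem Q43061 : ∀ i, i < 43061 → P i := stepQ 43060 Q43060 (allL N43060 (tt N76318 (iv1 F238181)) (tt N76317 F238187) (tt N76320 (iv2 F238185)) (tt N32733 F108003) (tt N76403 (iv4 F238521)) (tt N21967 F108004) (tt N76404 D151670) (tt N21966 (iv7 D71476)))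
theorem Q43062 : ∀ i, i < 43062 → P i := stepQ 43061 Q43061 (allL N43061 (tt N57701 (iv1 F167461)) (tt N58909 F171430) (tt N33951 F108005) (tt N21969 F108006) (tt N76405 D151671) (tt N21968 (iv5 D71477)) (tt N76406 D151672) (tt N33953 F108007))
theorem Q43063 : ∀ i, i < 43063 → P i := stepQ 43062 Q43062 (allL N43062 (tt N21971 (iv1 F108011)) (tt N21969 (iv0 D71478)) (tt N30413 (iv2 F108010)) (tt N27126 F108013) (tt N76407 D151673) (tt N30412 F108009) (tt N76408 D151674) (tt N30414 F108012))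
theorem Q43064 : ∀ i, i < 43064 → P i := stepQ 43063 Q43063 (allL N43063 (tt N76409 D151675) (tt N76410 D151676) (tt N69647 (iv2 F215389)) (tt N51532 (iv3 F360279)) (tt N21969 (iv4 D71479)) (tt N76411 D151678) (tt N76412 D151679) (tt N51527 (iv7 F360284)))
theorem Q43065 : ∀ i, i < 43065 → P i := stepQ 43064 Q43064 (allL N43064 (tt N27147 F157251) (tt N76413 D151680) (tt N51480 (iv2 F145263)) (tt N76406 (iv3 F238528)) (tt N76412 (iv4 F238546)) (tt N27104 F108014) (tt N21969 (iv6 D71480)) (tt N76414 D151681))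
theorem Q43066 : ∀ i, i < 43066 → P i := stepQ 43065 Q43065 (allL N43065 (tt N76410 (iv1 F238541)) (tt N76409 F238538) (tt N51527 (iv2 F360282)) (tt N76415 D151682) (tt N21971 (iv4 D71481)) (tt N76416 D151683) (tt N51522 (iv6 F360286)) (tt N69647 (iv7 F215390)))
theorem Q43067 : ∀ i, i < 43067 → P i := stepQ 43066 Q43066 (allL N43066 (tt N69600 (iv1 F376741)) (tt N76417 D151686) (tt N51526 (iv2 F333571)) (tt N56411 (iv3 F163717)) (tt N51522 (iv4 F360285)) (tt N37518 F108015) (tt N21971 (iv6 D71482)) (tt N76418 D151687))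
theorem Q43068 : ∀ i, i < 43068 → P i := stepQ 43067 Q43067 (allL N43067 (tt N31370 (iv1 F108019)) (tt N31369 (iv0 F108020)) (tt N31373 F108016) (tt N21972 (iv3 D71483)) (tt N76419 D151688) (tt N31362 F108017) (tt N76420 D151689) (tt N31368 F108018))
theorem Q43069 : ∀ i, i < 43069 → P i := stepQ 43068 Q43068 (allL N43068 (tt N57273 (iv1 F165936)) (tt N57272 F165944) (tt N57275 (iv2 F165941)) (tt N76421 D151690) (tt N21972 (iv4 D71484)) (tt N57472 (iv5 F166827)) (tt N76422 D151691) (tt N57268 (iv7 F165925)))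
theorem Q43070 : ∀ i, i < 43070 → P i := stepQ 43069 Q43069 (allL N43069 (tt N76423 D151692) (tt N76424 D151693) (tt N57278 (iv2 F165947)) (tt N76420 (iv3 F238568)) (tt N76422 (iv4 F238570)) (tt N62804 (iv5 F183732)) (tt N21972 (iv6 D71485)) (tt N76425 D151694))
theorem Q43071 : ∀ i, i < 43071 → P i := stepQ 43070 Q43070 (allL N43070 (tt N57270 (iv1 F165932)) (tt N21973 (iv0 D71486)) (tt N76321 F238199) (tt N76426 D151695) (tt N63420 F187368) (tt N76427 D151696) (tt N76428 D151697) (tt N76322 (iv7 F238202)))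
theorem Q43072 : ∀ i, i < 43072 → P i := stepQ 43071 Q43071 (allL N43071 (tt N21973 (iv1 D71487)) (tt N57270 (iv0 F165931)) (tt N76322 F238204) (tt N56631 (iv3 F334834)) (tt N45227 F114857) (tt N76429 D151699) (tt N56628 (iv6 F334832)) (tt N76321 F238200))
theorem Q43073 : ∀ i, i < 43073 → P i := stepQ 43072 Q43072 (allL N43072 (tt N76430 D151701) (tt N76431 D151702) (tt N76432 D151703) (tt N21973 (iv3 D71488)) (tt N32734 F108021) (tt N76433 D151704) (tt N61107 (iv6 F355192)) (tt N60342 (iv7 F176235)))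
theorem Q43074 : ∀ i, i < 43074 → P i := stepQ 43073 Q43073 (allL N43073 (tt N76434 D151705) (tt N76435 D151706) (tt N76324 (iv2 F238205)) (tt N76433 (iv3 F238580)) (tt N57466 (iv4 F166813)) (tt N21973 (iv5 D71489)) (tt N76436 D151707) (tt N76336 (iv7 F238379)))
theorem Q43075 : ∀ i, i < 43075 → P i := stepQ 43074 Q43074 (allL N43074 (tt N76322 (iv1 F238201)) (tt N76321 F238198) (tt N57270 (iv2 F165928)) (tt N60342 (iv3 F176234)) (tt N21974 F108022) (tt N76336 (iv5 F238378)) (tt N76437 D151708) (tt N21973 (iv7 D71490)))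
theorem Q43076 : ∀ i, i < 43076 → P i := stepQ 43075 Q43075 (allL N43075 (tt N76438 D151709) (tt N76439 D151710) (tt N57271 (iv2 F165933)) (tt N32735 F108023) (tt N76437 (iv4 F238587)) (tt N63324 (iv5 F186827)) (tt N21974 (iv6 D71491)) (tt N76404 (iv7 F238523)))
theorem Q43077 : ∀ i, i < 43077 → P i := stepQ 43076 Q43076 (allL N43076 (tt N47940 F305658) (tt N21990 F232524) (tt N22870 F232525) (tt N43983 F305659) (tt N21977 (iv4 D71499)) (tt N63727 (iv5 F307669)) (tt N21985 F305660) (tt N45244 F232526))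
theorem Q43078 : ∀ i, i < 43078 → P i := stepQ 43077 Q43077 (allL N43077 (tt N25481 F307740) (tt N45738 (iv0 F307902)) (tt N22871 F232528) (tt N46089 F232529) (tt N25065 F307741) (tt N21977 (iv5 D71500)) (tt N76440 D151725) (tt N45245 F232530))
theorem Q43079 : ∀ i, i < 43079 → P i := stepQ 43078 Q43078 (allL N43078 (tt N21993 F303991) (tt N48076 (iv0 F232637)) (tt N22872 F232447) (tt N39978 F311894) (tt N21985 (iv4 F304552)) (tt N25172 F232449) (tt N21977 (iv6 D71501)) (tt N45216 (iv7 F305870)))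
theorem Q43080 : ∀ i, i < 43080 → P i := stepQ 43079 Q43079 (allL N43079 (tt N44012 F232496) (tt N21978 (iv0 D71507)) (tt N22842 F232497) (tt N38268 F232498) (tt N34313 F311631) (tt N34302 F305962) (tt N40028 F232501) (tt N44001 F232502))
theorem Q43081 : ∀ i, i < 43081 → P i := stepQ 43080 Q43080 (allL N43080 (tt N44001 F232396) (tt N22842 (iv0 F232456)) (tt N44012 (iv2 F232429)) (tt N75827 (iv3 F234291)) (tt N46514 (iv4 F311862)) (tt N21979 F108030) (tt N76441 D151729) (tt N21978 (iv7 D71510)))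
theorem Q43082 : ∀ i, i < 43082 → P i := stepQ 43081 Q43081 (allL N43081 (tt N25435 (iv1 F108043)) (tt N25434 (iv0 F108045)) (tt N25394 F108040) (tt N21983 F108041) (tt N42994 (iv4 F108044)) (tt N21982 (iv5 D71518)) (tt N22687 (iv6 F309088)) (tt N25436 F108042))
theorem Q43083 : ∀ i, i < 43083 → P i := stepQ 43082 Q43082 (allL N43082 (tt N53324 (iv1 F309645)) (tt N30536 (iv0 F308876)) (tt N25440 F108047) (tt N22687 F311027) (tt N64437 (iv4 F197123)) (tt N22686 F311028) (tt N21983 (iv6 D71520)) (tt N41452 (iv7 F308878)))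
theorem Q43084 : ∀ i, i < 43084 → P i := stepQ 43083 Q43083 (allL N43083 (tt N39889 (iv1 F309283)) (tt N21984 (iv0 D71521)) (tt N39892 (iv2 F310288)) (tt N37213 (iv3 F310788)) (tt N66862 F233076) (tt N22716 (iv5 F311104)) (tt N76442 D151749) (tt N39891 (iv7 F310806)))
theorem Q43085 : ∀ i, i < 43085 → P i := stepQ 43084 Q43084 (allL N43084 (tt N21984 (iv1 D71522)) (tt N39889 (iv0 F309282)) (tt N39891 (iv2 F310805)) (tt N75819 F306301) (tt N42435 (iv4 F233059)) (tt N22717 (iv5 F311109)) (tt N75817 (iv6 F307730)) (tt N39892 (iv7 F310289)))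
theorem Q43086 : ∀ i, i < 43086 → P i := stepQ 43085 Q43085 (allL N43085 (tt N63721 (iv1 F305951)) (tt N64011 F232541) (tt N23069 F232542) (tt N33742 F232543) (tt N73389 (iv4 F334928)) (tt N21985 (iv5 D71533)) (tt N33739 F232544) (tt N45217 F232545))
theorem Q43087 : ∀ i, i < 43087 → P i := stepQ 43086 Q43086 (allL N43086 (tt N21986 (iv1 D71536)) (tt N45221 F114834) (tt N23075 F232480) (tt N46098 F232481) (tt N29726 (iv4 F323335)) (tt N35415 F307095) (tt N29725 F322392) (tt N45219 (iv7 F232461)))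
theorem Q43088 : ∀ i, i < 43088 → P i := stepQ 43087 Q43087 (allL N43087 (tt N76443 D151761) (tt N41810 F324746) (tt N45220 (iv2 F114829)) (tt N41997 (iv3 F325810)) (tt N21986 (iv4 D71537)) (tt N76444 D151764) (tt N34708 F108052) (tt N76445 D151765))
theorem Q43089 : ∀ i, i < 43089 → P i := stepQ 43088 Q43088 (allL N43088 (tt N23075 (iv1 F232444)) (tt N45219 F114833) (tt N45221 (iv2 F114831)) (tt N57422 F312190) (tt N76445 (iv4 F238677)) (tt N21987 F108053) (tt N74931 (iv6 F229836)) (tt N21986 (iv7 D71538)))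
theorem Q43090 : ∀ i, i < 43090 → P i := stepQ 43089 Q43089 (allL N43089 (tt N43431 (iv1 F302990)) (tt N21988 (iv0 D71539)) (tt N43433 (iv2 F303561)) (tt N22026 F302077) (tt N42798 F302078) (tt N25377 F108054) (tt N22241 (iv6 F304659)) (tt N22165 (iv7 F304230)))
theorem Q43091 : ∀ i, i < 43091 → P i := stepQ 43090 Q43090 (allL N43090 (tt N23570 F108058) (tt N48427 F132649) (tt N29793 F108056) (tt N21989 F108057) (tt N45551 (iv4 F116509)) (tt N21988 (iv5 D71541)) (tt N76446 D151769) (tt N43908 (iv7 F110132)))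
theorem Q43092 : ∀ i, i < 43092 → P i := stepQ 43091 Q43091 (allL N43091 (tt N64003 (iv1 F307380)) (tt N71761 (iv0 F324300)) (tt N43690 (iv2 F306104)) (tt N21990 F108059) (tt N39842 F322843) (tt N43680 (iv5 F307787)) (tt N21988 (iv6 D71542)) (tt N43688 (iv7 F306522)))
theorem Q43093 : ∀ i, i < 43093 → P i := stepQ 43092 Q43092 (allL N43092 (tt N64547 (iv1 F238694)) (tt N44549 F314058) (tt N43749 (iv2 F109595)) (tt N76446 (iv3 F238688)) (tt N43748 (iv4 F109594)) (tt N47942 (iv5 F307793)) (tt N21989 (iv6 D71543)) (tt N76447 D151776))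
theorem Q43094 : ∀ i, i < 43094 → P i := stepQ 43093 Q43093 (allL N43093 (tt N45244 (iv1 F232568)) (tt N22870 F186848) (tt N47940 F305657) (tt N43688 (iv3 F306521)) (tt N76006 (iv4 F235550)) (tt N34318 (iv5 F305698)) (tt N48076 (iv6 F305873)) (tt N21990 (iv7 D71547)))
theorem Q43095 : ∀ i, i < 43095 → P i := stepQ 43094 Q43094 (allL N43094 (tt N68406 (iv1 F307618)) (tt N68403 (iv0 F307796)) (tt N43909 (iv2 F110134)) (tt N29788 F108067) (tt N35086 F108068) (tt N48079 (iv5 F307108)) (tt N21992 (iv6 D71550)) (tt N68405 (iv7 F307623)))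
theorem Q43096 : ∀ i, i < 43096 → P i := stepQ 43095 Q43095 (allL N43095 (tt N22872 F303990) (tt N45216 (iv0 F232313)) (tt N48076 (iv2 F305872)) (tt N22836 F312352) (tt N42852 F108069) (tt N35419 (iv5 F305704)) (tt N47940 (iv6 F304256)) (tt N21993 (iv7 D71554)))
theorem Q43097 : ∀ i, i < 43097 → P i := stepQ 43096 Q43096 (allL N43096 (tt N25377 F116237) (tt N43432 F305318) (tt N42463 F108070) (tt N21994 (iv3 D71555)) (tt N34436 (iv4 F297871)) (tt N22428 F108071) (tt N27712 (iv6 F297872)) (tt N46394 (iv7 F123331)))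
theorem Q43098 : ∀ i, i < 43098 → P i := stepQ 43097 Q43097 (allL N43097 (tt N76448 D151798) (tt N76449 D151799) (tt N63326 (iv2 F186863)) (tt N42461 F108072) (tt N63933 (iv4 F191861)) (tt N33781 F318168) (tt N21995 (iv6 D71557)) (tt N76160 (iv7 F237159)))
theorem Q43099 : ∀ i, i < 43099 → P i := stepQ 43098 Q43098 (allL N43098 (tt N44711 F112923) (tt N44714 (iv0 F112929)) (tt N43475 (iv2 F108958)) (tt N21996 (iv3 D71558)) (tt N22033 F304775) (tt N63276 (iv5 F186695)) (tt N22017 (iv6 F306774)) (tt N34856 F108074))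
theorem Q43100 : ∀ i, i < 43100 → P i := stepQ 43099 Q43099 (allL N43099 (tt N46646 F314273) (tt N76450 D151938) (tt N37542 F108125) (tt N22003 F108126) (tt N74524 (iv4 F228253)) (tt N75244 (iv5 F230855)) (tt N21997 (iv6 D71636)) (tt N76451 D151939))
theorem Q43101 : ∀ i, i < 43101 → P i := stepQ 43100 Q43100 (allL N43100 (tt N45227 (iv1 F114856)) (tt N63420 F187370) (tt N68444 (iv2 F210497)) (tt N38308 F108127) (tt N76452 D151940) (tt N21998 (iv5 D71637)) (tt N76453 D151941) (tt N56088 (iv7 F162589)))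
theorem Q43102 : ∀ i, i < 43102 → P i := stepQ 43101 Q43101 (allL N43101 (tt N76407 (iv1 F238533)) (tt N68130 (iv0 F209173)) (tt N76325 (iv2 F238328)) (tt N76454 D151942) (tt N21999 (iv4 D71638)) (tt N76434 (iv5 F238581)) (tt N76455 D151943) (tt N76328 (iv7 F238341)))
theorem Q43103 : ∀ i, i < 43103 → P i := stepQ 43102 Q43102 (allL N43102 (tt N76456 D151944) (tt N76457 D151945) (tt N28136 F108128) (tt N50766 (iv3 F142362)) (tt N76455 (iv4 F238930)) (tt N28131 F108129) (tt N21999 (iv6 D71639)) (tt N76458 D151946))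
theorem Q43104 : ∀ i, i < 43104 → P i := stepQ 43103 Q43103 (allL N43103 (tt N37525 F108131) (tt N25230 (iv0 F313744)) (tt N37372 F108130) (tt N47263 (iv3 F316652)) (tt N22001 (iv4 D71640)) (tt N76459 D151948) (tt N24996 (iv6 F316654)) (tt N64903 (iv7 F313756)))
theorem Q43105 : ∀ i, i < 43105 → P i := stepQ 43104 Q43104 (allL N43104 (tt N28276 (iv1 F310232)) (tt N24754 (iv0 F310231)) (tt N28289 (iv2 F310169)) (tt N34411 F108133) (tt N24996 (iv4 F311854)) (tt N52574 (iv5 F309806)) (tt N22001 (iv6 D71641)) (tt N28288 F309658))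
theorem Q43106 : ∀ i, i < 43106 → P i := stepQ 43105 Q43105 (allL N43105 (tt N76460 D151958) (tt N76461 D151959) (tt N76326 (iv2 F238334)) (tt N28784 (iv3 F317256)) (tt N76435 F238586) (tt N22002 (iv5 D71643)) (tt N76462 D151960) (tt N76330 (iv7 F238349)))
theorem Q43107 : ∀ i, i < 43107 → P i := stepQ 43106 Q43106 (allL N43106 (tt N76463 D151961) (tt N76464 D151962) (tt N76327 (iv2 F238338)) (tt N28785 (iv3 F317257)) (tt N22003 F108134) (tt N76465 D151963) (tt N22002 (iv6 D71644)) (tt N76466 D151964))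
theorem Q43108 : ∀ i, i < 43108 → P i := stepQ 43107 Q43107 (allL N43107 (tt N63037 (iv1 F316796)) (tt N22003 (iv0 D71645)) (tt N38280 F235420) (tt N63227 F235421) (tt N64549 (iv4 F361502)) (tt N63031 (iv5 F313502)) (tt N64547 (iv6 F307791)) (tt N63030 (iv7 F316804)))
theorem Q43109 : ∀ i, i < 43109 → P i := stepQ 43108 Q43108 (allL N43108 (tt N73692 (iv1 F337191)) (tt N63757 (iv0 F337192)) (tt N23349 F108135) (tt N75244 (iv3 F230853)) (tt N76467 D151969) (tt N22003 (iv5 D71647)) (tt N22004 F108136) (tt N76468 D151970))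
theorem Q43110 : ∀ i, i < 43110 → P i := stepQ 43109 Q43109 (allL N43109 (tt N63030 (iv1 F316803)) (tt N38280 F232796) (tt N63037 (iv2 F316797)) (tt N76451 (iv3 F238920)) (tt N76466 (iv4 F238967)) (tt N76468 (iv5 F238975)) (tt N48502 F312449) (tt N22003 (iv7 D71648)))
theorem Q43111 : ∀ i, i < 43111 → P i := stepQ 43110 Q43110 (allL N43110 (tt N45311 (iv1 F115127)) (tt N22256 F108140) (tt N23348 F108137) (tt N53554 (iv3 F305512)) (tt N22004 (iv4 D71649)) (tt N22328 F108138) (tt N76467 (iv6 F238973)) (tt N23346 F108139))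
theorem Q43112 : ∀ i, i < 43112 → P i := stepQ 43111 Q43111 (allL N43111 (tt N56628 (iv1 F164489)) (tt N57433 (iv0 F166726)) (tt N56091 (iv2 F162598)) (tt N56609 F164429) (tt N57277 (iv4 F319146)) (tt N22005 (iv5 D71650)) (tt N76469 D151972) (tt N56090 (iv7 F162595)))
theorem Q43113 : ∀ i, i < 43113 → P i := stepQ 43112 Q43112 (allL N43112 (tt N69477 (iv1 F214471)) (tt N37280 (iv0 F108148)) (tt N32174 F108145) (tt N22008 F108146) (tt N76470 D151974) (tt N22007 (iv5 D71653)) (tt N76471 D151975) (tt N28137 F108147))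
theorem Q43114 : ∀ i, i < 43114 → P i := stepQ 43113 Q43113 (allL N43113 (tt N68130 (iv1 F209174)) (tt N76407 (iv0 F238532)) (tt N76328 (iv2 F238340)) (tt N76472 D151976) (tt N22008 (iv4 D71654)) (tt N76435 (iv5 F238585)) (tt N76473 D151977) (tt N76325 (iv7 F238330)))
theorem Q43115 : ∀ i, i < 43115 → P i := stepQ 43114 Q43114 (allL N43114 (tt N76474 D151978) (tt N76475 D151979) (tt N76329 (iv2 F238344)) (tt N76471 (iv3 F238990)) (tt N76473 (iv4 F238992)) (tt N76469 (iv5 F238983)) (tt N22008 (iv6 D71655)) (tt N76476 D151980))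
theorem Q43116 : ∀ i, i < 43116 → P i := stepQ 43115 Q43115 (allL N43115 (tt N76461 (iv1 F238962)) (tt N76460 F238959) (tt N76330 (iv2 F238348)) (tt N49028 (iv3 F316753)) (tt N76434 (iv4 F238582)) (tt N22009 (iv5 D71657)) (tt N76477 D151985) (tt N76326 (iv7 F238335)))
theorem Q43117 : ∀ i, i < 43117 → P i := stepQ 43116 Q43116 (allL N43116 (tt N76478 D151986) (tt N43747 F311849) (tt N76331 (iv2 F238352)) (tt N35091 F312444) (tt N22010 F108149) (tt N76479 D151987) (tt N22009 (iv6 D71658)) (tt N35107 (iv7 F314460)))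
theorem Q43118 : ∀ i, i < 43118 → P i := stepQ 43117 Q43117 (allL N43117 (tt N22010 (iv1 D71660)) (tt N48502 F312445) (tt N34308 F305954) (tt N63229 F232827) (tt N45107 (iv4 F307896)) (tt N40028 F232828) (tt N34301 F305955) (tt N64898 (iv7 F314467)))
theorem Q43119 : ∀ i, i < 43119 → P i := stepQ 43118 Q43118 (allL N43118 (tt N34308 F305968) (tt N64898 (iv0 F314461)) (tt N48502 F312136) (tt N48134 F312135) (tt N35107 (iv4 F314459)) (tt N48134 F312137) (tt N63037 (iv6 F316800)) (tt N22010 (iv7 D71661)))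
theorem Q43120 : ∀ i, i < 43120 → P i := stepQ 43119 Q43119 (allL N43119 (tt N46641 F344377) (tt N76480 D151991) (tt N68531 (iv2 F210775)) (tt N22013 F108150) (tt N68491 (iv4 F210665)) (tt N62700 (iv5 F183143)) (tt N22011 (iv6 D71662)) (tt N76481 D151992))
theorem Q43121 : ∀ i, i < 43121 → P i := stepQ 43120 Q43120 (allL N43120 (tt N22014 (iv1 F108152)) (tt N22012 (iv0 D71663)) (tt N30544 (iv2 F108153)) (tt N63963 (iv3 F366735)) (tt N30539 F108151) (tt N76460 (iv5 F238958)) (tt N76482 D151994) (tt N30542 (iv7 F108154)))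
theorem Q43122 : ∀ i, i < 43122 → P i := stepQ 43121 Q43121 (allL N43121 (tt N22012 (iv1 D71664)) (tt N22014 F108155) (tt N30542 (iv2 F108158)) (tt N76483 D151995) (tt N30538 F108157) (tt N76461 (iv5 F238964)) (tt N49389 F307263) (tt N30544 F108156))
theorem Q43123 : ∀ i, i < 43123 → P i := stepQ 43122 Q43122 (allL N43122 (tt N49651 F317059) (tt N49402 (iv0 F319335)) (tt N49649 (iv2 F319336)) (tt N22012 (iv3 D71665)) (tt N45517 F317060) (tt N49568 (iv5 F319338)) (tt N76484 D152000) (tt N28618 (iv7 F317099)))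
theorem Q43124 : ∀ i, i < 43124 → P i := stepQ 43123 Q43123 (allL N43123 (tt N76485 D152001) (tt N53329 (iv0 F311991)) (tt N76332 (iv2 F238356)) (tt N49568 (iv3 F319337)) (tt N76429 (iv4 F238577)) (tt N22012 (iv5 D71666)) (tt N76486 D152003) (tt N54293 (iv7 F320827)))
theorem Q43125 : ∀ i, i < 43125 → P i := stepQ 43124 Q43124 (allL N43124 (tt N76487 D152004) (tt N76488 D152005) (tt N74935 (iv2 F229845)) (tt N76484 (iv3 F239018)) (tt N22013 F108159) (tt N76489 D152006) (tt N22012 (iv6 D71667)) (tt N76490 D152007))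
theorem Q43126 : ∀ i, i < 43126 → P i := stepQ 43125 Q43125 (allL N43125 (tt N68293 F247746) (tt N22013 (iv0 D71668)) (tt N38158 F247747) (tt N63233 (iv3 F247749)) (tt N76491 D152010) (tt N76492 D152011) (tt N76449 (iv6 F332484)) (tt N68294 F247748))
theorem Q43127 : ∀ i, i < 43127 → P i := stepQ 43126 Q43126 (allL N43126 (tt N68294 F328585) (tt N38158 (iv0 F329019)) (tt N68293 (iv2 F247741)) (tt N76481 (iv3 F239007)) (tt N76490 (iv4 F239027)) (tt N61489 (iv5 F314145)) (tt N68355 F232717) (tt N22013 (iv7 D71670)))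
theorem Q43128 : ∀ i, i < 43128 → P i := stepQ 43127 Q43127 (allL N43127 (tt N53329 (iv1 F311992)) (tt N76485 F239020) (tt N54293 (iv2 F320825)) (tt N52772 (iv3 F314766)) (tt N76427 (iv4 F238576)) (tt N22014 (iv5 D71672)) (tt N76493 D152023) (tt N76332 (iv7 F238357)))
theorem Q43129 : ∀ i, i < 43129 → P i := stepQ 43128 Q43128 (allL N43128 (tt N76494 D152024) (tt N28266 F314253) (tt N28616 (iv2 F316401)) (tt N28692 F313944) (tt N22015 F108160) (tt N76495 D152026) (tt N22014 (iv6 D71673)) (tt N49018 (iv7 F314128)))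
theorem Q43130 : ∀ i, i < 43130 → P i := stepQ 43129 Q43129 (allL N43129 (tt N22015 (iv1 D71675)) (tt N68355 F232708) (tt N38273 F232709) (tt N34250 F232710) (tt N46720 (iv4 F312012)) (tt N34240 F232712) (tt N46719 F309803) (tt N63843 F232713))
theorem Q43131 : ∀ i, i < 43131 → P i := stepQ 43130 Q43130 (allL N43130 (tt N38273 F232776) (tt N63843 F232777) (tt N68355 F232715) (tt N44012 (iv3 F232430)) (tt N49018 (iv4 F314127)) (tt N45231 (iv5 F114867)) (tt N68293 (iv6 F247744)) (tt N22015 (iv7 D71676)))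
theorem Q43132 : ∀ i, i < 43132 → P i := stepQ 43131 Q43131 (allL N43131 (tt N57471 (iv1 F166826)) (tt N57470 F166825) (tt N57474 (iv2 F166828)) (tt N34530 (iv3 F315263)) (tt N57274 (iv4 F165939)) (tt N22016 (iv5 D71678)) (tt N76496 D152034) (tt N57455 (iv7 F166794)))
theorem Q43133 : ∀ i, i < 43133 → P i := stepQ 43132 Q43132 (allL N43132 (tt N76491 (iv1 F247750)) (tt N68295 (iv0 F247739)) (tt N57478 (iv2 F166832)) (tt N34531 (iv3 F315264)) (tt N57429 (iv4 F166706)) (tt N76497 D152036) (tt N22016 (iv6 D71679)) (tt N76498 D152037))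
theorem Q43134 : ∀ i, i < 43134 → P i := stepQ 43133 Q43133 (allL N43133 (tt N38898 (iv1 F108161)) (tt N22017 (iv0 D71680)) (tt N38907 (iv2 F217683)) (tt N76499 D152038) (tt N44719 F319890) (tt N76500 D152039) (tt N76501 D152040) (tt N38906 (iv7 F217684)))
theorem Q43135 : ∀ i, i < 43135 → P i := stepQ 43134 Q43134 (allL N43134 (tt N22017 (iv1 D71681)) (tt N38898 F108166) (tt N38906 F217676) (tt N28425 (iv3 F321743)) (tt N38072 (iv4 F108162)) (tt N53135 (iv5 F321745)) (tt N28422 (iv6 F321747)) (tt N38907 F217677))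
theorem Q43136 : ∀ i, i < 43136 → P i := stepQ 43135 Q43135 (allL N43135 (tt N38907 (iv1 F108167)) (tt N38906 F108165) (tt N22017 (iv2 D71682)) (tt N43477 (iv3 F310707)) (tt N22036 F108163) (tt N76502 D152044) (tt N43475 F308618) (tt N38898 F108164))
theorem Q43137 : ∀ i, i < 43137 → P i := stepQ 43136 Q43136 (allL N43136 (tt N76503 D152045) (tt N76504 D152046) (tt N76502 (iv2 F239060)) (tt N22018 F108168) (tt N76505 D152047) (tt N22017 (iv5 D71683)) (tt N76506 D152048) (tt N38908 F108169))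
theorem Q43138 : ∀ i, i < 43138 → P i := stepQ 43137 Q43137 (allL N43137 (tt N57466 (iv1 F166816)) (tt N22018 (iv0 D71684)) (tt N69648 (iv2 F215395)) (tt N25231 (iv3 F318519)) (tt N76416 (iv4 F238558)) (tt N25230 F316247) (tt N76507 D152050) (tt N64904 F316248))
theorem Q43139 : ∀ i, i < 43139 → P i := stepQ 43138 Q43138 (allL N43138 (tt N22018 (iv1 D71685)) (tt N57466 (iv0 F166815)) (tt N64904 (iv2 F314629)) (tt N65357 (iv3 F315931)) (tt N76411 (iv4 F238545)) (tt N37525 F108170) (tt N76508 D152052) (tt N69648 (iv7 F215396)))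
theorem Q43140 : ∀ i, i < 43140 → P i := stepQ 43139 Q43139 (allL N43139 (tt N76435 (iv1 F238584)) (tt N76434 F238583) (tt N76336 (iv2 F238377)) (tt N76509 D152053) (tt N22018 (iv4 D71686)) (tt N57270 (iv5 F165930)) (tt N76510 D152054) (tt N76324 (iv7 F238206)))
theorem Q43141 : ∀ i, i < 43141 → P i := stepQ 43140 Q43140 (allL N43140 (tt N70189 (iv1 F386972)) (tt N76511 D152056) (tt N63299 (iv2 F311485)) (tt N76506 (iv3 F239071)) (tt N76510 (iv4 F239073)) (tt N63277 (iv5 F307802)) (tt N22018 (iv6 D71687)) (tt N76512 D152057))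
theorem Q43142 : ∀ i, i < 43142 → P i := stepQ 43141 Q43141 (allL N43141 (tt N64904 (iv1 F314628)) (tt N69648 (iv0 F215397)) (tt N57466 (iv2 F166812)) (tt N38908 F108171) (tt N76324 (iv4 F238207)) (tt N22019 F108172) (tt N76513 D152058) (tt N22018 (iv7 D71688)))
theorem Q43143 : ∀ i, i < 43143 → P i := stepQ 43142 Q43142 (allL N43142 (tt N71962 (iv1 F339037)) (tt N71306 (iv0 F339031)) (tt N57467 (iv2 F166817)) (tt N38909 F108173) (tt N22020 F108174) (tt N76514 D152061) (tt N22019 (iv6 D71689)) (tt N34857 F307864))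
theorem Q43144 : ∀ i, i < 43144 → P i := stepQ 43143 Q43143 (allL N43143 (tt N63285 (iv1 F305876)) (tt N22020 (iv0 D71690)) (tt N41011 (iv2 F338973)) (tt N76515 D152063) (tt N76516 D152064) (tt N40036 F333273) (tt N76517 D152066) (tt N41007 F338970))
theorem Q43145 : ∀ i, i < 43145 → P i := stepQ 43144 Q43144 (allL N43144 (tt N22020 (iv1 D71691)) (tt N63285 (iv0 F305875)) (tt N41007 F338969) (tt N42470 (iv3 F339070)) (tt N76518 D152069) (tt N40037 F338981) (tt N76519 D152071) (tt N41011 (iv7 F338974)))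
theorem Q43146 : ∀ i, i < 43146 → P i := stepQ 43145 Q43145 (allL N43145 (tt N52490 (iv1 F298366)) (tt N46077 (iv0 F298367)) (tt N59984 F324686) (tt N24403 F108175) (tt N52185 (iv4 F298368)) (tt N22021 (iv5 D71694)) (tt N31330 F324687) (tt N63252 (iv7 F186550)))
theorem Q43147 : ∀ i, i < 43147 → P i := stepQ 43146 Q43146 (allL N43146 (tt N69677 (iv1 F308675)) (tt N76520 D152079) (tt N43978 (iv2 F110360)) (tt N24404 F108176) (tt N22023 F108177) (tt N31331 F321757) (tt N22021 (iv6 D71695)) (tt N43976 (iv7 F110338)))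
theorem Q43148 : ∀ i, i < 43148 → P i := stepQ 43147 Q43147 (allL N43147 (tt N43312 F108477) (tt N34448 (iv0 F130964)) (tt N43979 (iv2 F110362)) (tt N22024 F108179) (tt N53867 (iv4 F303706)) (tt N34341 (iv5 F188619)) (tt N22022 (iv6 D71699)) (tt N44588 (iv7 F130997)))
theorem Q43149 : ∀ i, i < 43149 → P i := stepQ 43148 Q43148 (allL N43148 (tt N43950 (iv1 F110285)) (tt N22023 (iv0 D71700)) (tt N23060 F120244) (tt N37629 (iv3 F309938)) (tt N36962 (iv4 F311381)) (tt N63563 (iv5 F188089)) (tt N23053 F120245) (tt N43975 F120246))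
theorem Q43150 : ∀ i, i < 43150 → P i := stepQ 43149 Q43149 (allL N43149 (tt N22023 (iv1 D71701)) (tt N43950 F110283) (tt N43975 F120241) (tt N34320 F130926) (tt N60382 (iv4 F315493)) (tt N34557 (iv5 F130885)) (tt N62910 (iv6 F184107)) (tt N23060 F120242))
theorem Q43151 : ∀ i, i < 43151 → P i := stepQ 43150 Q43150 (allL N43150 (tt N34426 F309020) (tt N38281 F186148) (tt N44551 (iv2 F311041)) (tt N44588 F130998) (tt N44933 (iv4 F311183)) (tt N42820 F309021) (tt N37370 F108189) (tt N22024 (iv7 D71706)))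
theorem Q43152 : ∀ i, i < 43152 → P i := stepQ 43151 Q43151 (allL N43151 (tt N22862 F190594) (tt N48443 (iv0 F304642)) (tt N48444 (iv2 F304647)) (tt N22029 F108201) (tt N28366 F302081) (tt N35385 (iv5 F190641)) (tt N43721 F190595) (tt N22027 (iv7 D71730)))
theorem Q43153 : ∀ i, i < 43153 → P i := stepQ 43152 Q43152 (allL N43152 (tt N22031 (iv1 D71738)) (tt N27279 (iv0 F304054)) (tt N46567 (iv2 F304051)) (tt N46721 (iv3 F304120)) (tt N41610 F310243) (tt N75762 (iv5 F233697)) (tt N68361 (iv6 F209955)) (tt N38275 F162944))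
theorem Q43154 : ∀ i, i < 43154 → P i := stepQ 43153 Q43153 (allL N43153 (tt N22885 F108208) (tt N42406 (iv0 F108209)) (tt N42405 F108206) (tt N42237 (iv3 F130297)) (tt N41609 (iv4 F113803)) (tt N22031 (iv5 D71739)) (tt N23067 F108207) (tt N42248 (iv7 F130320)))
theorem Q43155 : ∀ i, i < 43155 → P i := stepQ 43154 Q43154 (allL N43154 (tt N46567 (iv1 F304050)) (tt N38275 F186574) (tt N27279 (iv2 F304056)) (tt N42250 F130324) (tt N46349 (iv4 F301924)) (tt N42248 (iv5 F130319)) (tt N33785 F315558) (tt N22031 (iv7 D71740)))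
theorem Q43156 : ∀ i, i < 43156 → P i := stepQ 43155 Q43155 (allL N43155 (tt N33785 F315391) (tt N22032 (iv0 D71746)) (tt N42278 (iv2 F315605)) (tt N76448 (iv3 F306885)) (tt N48273 (iv4 F317630)) (tt N22507 F315392) (tt N68298 (iv6 F209490)) (tt N38160 (iv7 F108212)))
theorem Q43157 : ∀ i, i < 43157 → P i := stepQ 43156 Q43156 (allL N43156 (tt N24451 (iv1 F305117)) (tt N22033 (iv0 D71748)) (tt N53896 (iv2 F306771)) (tt N22192 (iv3 F306802)) (tt N45332 (iv4 F306803)) (tt N23532 (iv5 F304866)) (tt N22191 (iv6 F306804)) (tt N52811 (iv7 F306766)))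
theorem Q43158 : ∀ i, i < 43158 → P i := stepQ 43157 Q43157 (allL N43157 (tt N22033 (iv1 D71749)) (tt N24451 (iv0 F305116)) (tt N52811 (iv2 F306765)) (tt N53067 (iv3 F306767)) (tt N45331 (iv4 F306768)) (tt N23533 (iv5 F306769)) (tt N76521 D152142) (tt N53896 (iv7 F306772)))
theorem Q43159 : ∀ i, i < 43159 → P i := stepQ 43158 Q43158 (allL N43158 (tt N53896 (iv1 F305115)) (tt N52811 (iv0 F305114)) (tt N22033 (iv2 D71750)) (tt N22062 (iv3 F305111)) (tt N43475 (iv4 F306773)) (tt N22061 F304774) (tt N22036 F108214) (tt N24451 (iv7 F305118)))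
theorem Q43160 : ∀ i, i < 43160 → P i := stepQ 43159 Q43159 (allL N43159 (tt N68977 F212281) (tt N24443 (iv0 F311919)) (tt N69653 (iv2 F215414)) (tt N22034 (iv3 D71756)) (tt N37216 F108230) (tt N67035 (iv5 F311925)) (tt N76522 D152154) (tt N38900 (iv7 F214131)))
theorem Q43161 : ∀ i, i < 43161 → P i := stepQ 43160 Q43160 (allL N43160 (tt N63894 (iv1 F316614)) (tt N63891 (iv0 F315464)) (tt N38904 (iv2 F214176)) (tt N76107 (iv3 F315123)) (tt N22034 (iv4 D71757)) (tt N76523 D152158) (tt N76524 D152159) (tt N38901 (iv7 F214132)))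
theorem Q43162 : ∀ i, i < 43162 → P i := stepQ 43161 Q43161 (allL N43161 (tt N76525 D152160) (tt N68297 (iv0 F353871)) (tt N38905 (iv2 F214177)) (tt N76522 (iv3 F239206)) (tt N76524 (iv4 F239223)) (tt N66255 (iv5 F359093)) (tt N22034 (iv6 D71759)) (tt N76526 D152163))
theorem Q43163 : ∀ i, i < 43163 → P i := stepQ 43162 Q43162 (allL N43162 (tt N53257 (iv1 F313637)) (tt N69052 (iv0 F217586)) (tt N76527 D152165) (tt N22035 (iv3 D71761)) (tt N76528 D152166) (tt N68226 F211941) (tt N76529 D152167) (tt N38903 (iv7 F214125)))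
theorem Q43164 : ∀ i, i < 43164 → P i := stepQ 43163 Q43163 (allL N43163 (tt N63891 (iv1 F315465)) (tt N63894 (iv0 F316613)) (tt N38901 (iv2 F214179)) (tt N76530 D152168) (tt N22035 (iv4 D71762)) (tt N76531 D152169) (tt N64304 (iv6 F318366)) (tt N38904 F214178))
theorem Q43165 : ∀ i, i < 43165 → P i := stepQ 43164 Q43164 (allL N43164 (tt N68358 (iv1 F345834)) (tt N76532 D152172) (tt N38902 F214185) (tt N76529 (iv3 F239244)) (tt N64304 (iv4 F318365)) (tt N76533 D152173) (tt N22035 (iv6 D71764)) (tt N76534 D152174))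
theorem Q43166 : ∀ i, i < 43166 → P i := stepQ 43165 Q43165 (allL N43165 (tt N52754 F305752) (tt N22832 F209040) (tt N46461 (iv2 F307608)) (tt N22037 (iv3 D71766)) (tt N53898 (iv4 F307748)) (tt N33460 F318304) (tt N76535 D152177) (tt N41046 F318305))
theorem Q43167 : ∀ i, i < 43167 → P i := stepQ 43166 Q43166 (allL N43166 (tt N38162 F184906) (tt N68298 F209491) (tt N41053 F318307) (tt N76535 (iv3 F239261)) (tt N38100 (iv4 F209011)) (tt N34372 F108233) (tt N22037 (iv6 D71769)) (tt N44086 F189577))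
theorem Q43168 : ∀ i, i < 43168 → P i := stepQ 43167 Q43167 (allL N43167 (tt N68361 F210287) (tt N38272 (iv0 F112511)) (tt N41048 F315535) (tt N27728 (iv3 F308512)) (tt N38103 (iv4 F209027)) (tt N42695 (iv5 F309364)) (tt N22038 (iv6 D71774)) (tt N46575 (iv7 F310551)))
theorem Q43169 : ∀ i, i < 43169 → P i := stepQ 43168 Q43168 (allL N43168 (tt N23835 F108236) (tt N23841 F108237) (tt N43244 F108399) (tt N34584 F108235) (tt N22039 (iv4 D71775)) (tt N44732 (iv5 F113137)) (tt N73655 (iv6 F314390)) (tt N43245 (iv7 F108402)))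
theorem Q43170 : ∀ i, i < 43170 → P i := stepQ 43169 Q43169 (allL N43169 (tt N43049 F338527) (tt N74452 (iv0 F319088)) (tt N46076 (iv2 F120182)) (tt N56288 (iv3 F163350)) (tt N73655 (iv4 F314389)) (tt N58916 (iv5 F171446)) (tt N22039 (iv6 D71776)) (tt N73678 (iv7 F319094)))
theorem Q43171 : ∀ i, i < 43171 → P i := stepQ 43170 Q43170 (allL N43170 (tt N32592 F108239) (tt N32594 F108240) (tt N43227 F108366) (tt N34587 F108238) (tt N22041 (iv4 D71777)) (tt N46925 (iv5 F127756)) (tt N76536 D152183) (tt N43228 (iv7 F108370)))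
theorem Q43172 : ∀ i, i < 43172 → P i := stepQ 43171 Q43171 (allL N43171 (tt N45112 F342992) (tt N61699 (iv0 F343002)) (tt N61396 (iv2 F178748)) (tt N51238 (iv3 F144547)) (tt N76536 (iv4 F239268)) (tt N51236 (iv5 F144543)) (tt N22041 (iv6 D71778)) (tt N76537 D152186))
theorem Q43173 : ∀ i, i < 43173 → P i := stepQ 43172 Q43172 (allL N43172 (tt N64061 (iv1 F192671)) (tt N75937 (iv0 F234646)) (tt N36484 F108241) (tt N22042 (iv3 D71779)) (tt N27811 F108242) (tt N36483 (iv5 F108243)) (tt N76538 D152187) (tt N51905 (iv7 F147433)))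
theorem Q43174 : ∀ i, i < 43174 → P i := stepQ 43173 Q43173 (allL N43173 (tt N22117 F108248) (tt N22087 F108249) (tt N36445 F108244) (tt N36483 F108245) (tt N22053 F108246) (tt N22042 (iv5 D71780)) (tt N76539 D152188) (tt N36444 F108247))
theorem Q43175 : ∀ i, i < 43175 → P i := stepQ 43174 Q43174 (allL N43174 (tt N76540 D152189) (tt N56337 (iv0 F340922)) (tt N61005 (iv2 F177579)) (tt N76538 (iv3 F239270)) (tt N22043 F108250) (tt N76541 D152191) (tt N22042 (iv6 D71781)) (tt N76542 D152192))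
theorem Q43176 : ∀ i, i < 43176 → P i := stepQ 43175 Q43175 (allL N43175 (tt N61440 F259171) (tt N22043 (iv0 D71782)) (tt N61403 (iv2 F259174)) (tt N43677 (iv3 F259175)) (tt N76543 D152195) (tt N76544 D152196) (tt N76545 D152197) (tt N61441 (iv7 F259173)))
theorem Q43177 : ∀ i, i < 43177 → P i := stepQ 43176 Q43176 (allL N43176 (tt N61441 (iv1 F258996)) (tt N61403 (iv0 F258997)) (tt N61440 (iv2 F259167)) (tt N75993 (iv3 F235291)) (tt N76542 (iv4 F239275)) (tt N39084 F336464) (tt N63202 (iv6 F186264)) (tt N22043 (iv7 D71784)))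
theorem Q43178 : ∀ i, i < 43178 → P i := stepQ 43177 Q43177 (allL N43177 (tt N46981 F127925) (tt N47161 (iv0 F128412)) (tt N47262 (iv2 F128588)) (tt N22044 (iv3 D71785)) (tt N25483 F108251) (tt N46109 (iv5 F120315)) (tt N47378 F306743) (tt N54295 (iv7 F156498)))
theorem Q43179 : ∀ i, i < 43179 → P i := stepQ 43178 Q43178 (allL N43178 (tt N46983 F307890) (tt N47387 F317466) (tt N47443 F306606) (tt N47378 F306607) (tt N25482 F108252) (tt N76546 D152204) (tt N22044 (iv6 D71786)) (tt N54297 (iv7 F308149)))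
theorem Q43180 : ∀ i, i < 43180 → P i := stepQ 43179 Q43179 (allL N43179 (tt N22471 F190064) (tt N22474 F190065) (tt N56122 (iv2 F162783)) (tt N47258 (iv3 F128586)) (tt N56121 (iv4 F162781)) (tt N66427 (iv5 F331927)) (tt N22045 (iv6 D71787)) (tt N66372 (iv7 F331972)))
theorem Q43181 : ∀ i, i < 43181 → P i := stepQ 43180 Q43180 (allL N43180 (tt N22053 (iv1 F108254)) (tt N22046 (iv0 D71788)) (tt N44754 F113349) (tt N52821 (iv3 F151559)) (tt N44731 (iv4 F113130)) (tt N22101 F108253) (tt N76547 D152207) (tt N44774 (iv7 F113442)))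
theorem Q43182 : ∀ i, i < 43182 → P i := stepQ 43181 Q43181 (allL N43181 (tt N22514 F130780) (tt N22047 (iv0 D71790)) (tt N46985 (iv2 F310719)) (tt N47360 (iv3 F312016)) (tt N56112 (iv4 F162736)) (tt N76548 D152213) (tt N54306 (iv6 F312019)) (tt N46976 F309811))
theorem Q43183 : ∀ i, i < 43183 → P i := stepQ 43182 Q43182 (allL N43182 (tt N76549 D152217) (tt N61580 (iv0 F335509)) (tt N43183 (iv2 F305732)) (tt N47379 (iv3 F128741)) (tt N33922 (iv4 F305734)) (tt N22047 (iv5 D71792)) (tt N32596 F303688) (tt N63738 (iv7 F189138)))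
theorem Q43184 : ∀ i, i < 43184 → P i := stepQ 43183 Q43183 (allL N43183 (tt N76550 D152220) (tt N76551 D152221) (tt N43182 F305732) (tt N36448 F108261) (tt N22050 F108262) (tt N33928 F305733) (tt N22049 (iv6 D71807)) (tt N44022 (iv7 F307738)))
theorem Q43185 : ∀ i, i < 43185 → P i := stepQ 43184 Q43184 (allL N43184 (tt N63202 (iv1 F186267)) (tt N22050 (iv0 D71808)) (tt N63201 (iv2 F339328)) (tt N61330 (iv3 F339326)) (tt N74374 (iv4 F339226)) (tt N76552 D152227) (tt N37302 (iv6 F339227)) (tt N61448 (iv7 F339325)))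
theorem Q43186 : ∀ i, i < 43186 → P i := stepQ 43185 Q43185 (allL N43185 (tt N22050 (iv1 D71809)) (tt N63202 F186266) (tt N61448 (iv2 F339323)) (tt N76553 D152230) (tt N76554 D152231) (tt N76555 D152232) (tt N76556 D152233) (tt N63201 (iv7 F339331)))
theorem Q43187 : ∀ i, i < 43187 → P i := stepQ 43186 Q43186 (allL N43186 (tt N76557 D152234) (tt N76558 D152235) (tt N61231 (iv2 F178399)) (tt N43025 F108263) (tt N76559 D152236) (tt N22050 (iv5 D71810)) (tt N22051 F108264) (tt N76560 D152237))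
theorem Q43188 : ∀ i, i < 43188 → P i := stepQ 43187 Q43187 (allL N43187 (tt N61448 (iv1 F339322)) (tt N63201 F186265) (tt N63202 (iv2 F186263)) (tt N43026 F108265) (tt N44022 F309749) (tt N76560 (iv5 F239298)) (tt N61440 (iv6 F259169)) (tt N22050 (iv7 D71811)))
theorem Q43189 : ∀ i, i < 43189 → P i := stepQ 43188 Q43188 (allL N43188 (tt N53772 (iv1 F325480)) (tt N53771 (iv0 F325478)) (tt N53218 (iv2 F325486)) (tt N53782 (iv3 F365305)) (tt N22051 (iv4 D71812)) (tt N50630 (iv5 F323338)) (tt N76559 (iv6 F239296)) (tt N53770 (iv7 F325483)))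
theorem Q43190 : ∀ i, i < 43190 → P i := stepQ 43189 Q43189 (allL N43189 (tt N34217 (iv1 F108267)) (tt N22052 (iv0 D71813)) (tt N23548 (iv2 F108266)) (tt N46901 (iv3 F127655)) (tt N47035 (iv4 F128075)) (tt N34202 F108268) (tt N76561 D152239) (tt N47157 (iv7 F128379)))
theorem Q43191 : ∀ i, i < 43191 → P i := stepQ 43190 Q43190 (allL N43190 (tt N70047 (iv1 F313252)) (tt N47573 F199926) (tt N47373 (iv2 F128719)) (tt N22054 F108272) (tt N66933 (iv4 F206171)) (tt N75412 (iv5 F340275)) (tt N22052 (iv6 D71815)) (tt N65305 (iv7 F200729)))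
theorem Q43192 : ∀ i, i < 43192 → P i := stepQ 43191 Q43191 (allL N43191 (tt N46826 (iv1 F304307)) (tt N46823 (iv0 F304306)) (tt N44775 (iv2 F113443)) (tt N46480 (iv3 F304857)) (tt N76539 (iv4 F239274)) (tt N55524 (iv5 F335307)) (tt N22053 (iv6 D71816)) (tt N66842 (iv7 F305570)))
theorem Q43193 : ∀ i, i < 43193 → P i := stepQ 43192 Q43192 (allL N43192 (tt N25122 F199894) (tt N22054 (iv0 D71817)) (tt N63203 (iv2 F200277)) (tt N47430 F199895) (tt N64726 F199896) (tt N76562 D152247) (tt N47433 F308851) (tt N63204 F200280))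
theorem Q43194 : ∀ i, i < 43194 → P i := stepQ 43193 Q43193 (allL N43193 (tt N22054 (iv1 D71818)) (tt N25122 F199892) (tt N63204 F200279) (tt N76563 D152249) (tt N25492 F199893) (tt N76564 D152250) (tt N76565 D152251) (tt N63203 (iv7 F200278)))
theorem Q43195 : ∀ i, i < 43195 → P i := stepQ 43194 Q43194 (allL N43194 (tt N75395 (iv1 F348545)) (tt N58754 (iv0 F348546)) (tt N63205 (iv2 F186272)) (tt N75412 (iv3 F340274)) (tt N55525 (iv4 F340346)) (tt N22054 (iv5 D71819)) (tt N55524 (iv6 F335308)) (tt N65306 (iv7 F200732)))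
theorem Q43196 : ∀ i, i < 43196 → P i := stepQ 43195 Q43195 (allL N43195 (tt N39983 F316682) (tt N39982 F316683) (tt N22731 F316684) (tt N29281 (iv3 F319042)) (tt N22055 (iv4 D71833)) (tt N76566 D152258) (tt N22056 F108277) (tt N39980 F316685))
theorem Q43197 : ∀ i, i < 43197 → P i := stepQ 43196 Q43196 (allL N43196 (tt N75054 F230209) (tt N75369 (iv0 F334539)) (tt N75292 (iv2 F343325)) (tt N22057 (iv3 D71837)) (tt N61127 (iv4 F178054)) (tt N63216 (iv5 F186392)) (tt N75173 (iv6 F343336)) (tt N61092 (iv7 F177979)))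
theorem Q43198 : ∀ i, i < 43198 → P i := stepQ 43197 Q43197 (allL N43197 (tt N75371 (iv1 F347791)) (tt N59530 (iv0 F347797)) (tt N22088 F108279) (tt N75173 (iv3 F343335)) (tt N22058 F108280) (tt N76567 D152268) (tt N22057 (iv6 D71838)) (tt N75285 (iv7 F321009)))
theorem Q43199 : ∀ i, i < 43199 → P i := stepQ 43198 Q43198 (allL N43198 (tt N22092 (iv1 F108285)) (tt N22058 (iv0 D71839)) (tt N22089 F239335) (tt N33769 F316764) (tt N42068 (iv4 F319129)) (tt N76568 D152273) (tt N76569 D152274) (tt N22090 F239336))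
theorem Q43200 : ∀ i, i < 43200 → P i := stepQ 43199 Q43199 (allL N43199 (tt N22058 (iv1 D71840)) (tt N22092 F108281) (tt N22090 F239337) (tt N76570 D152275) (tt N65446 (iv4 F336474)) (tt N76571 D152277) (tt N76572 D152278) (tt N22089 F239338))
theorem Q43201 : ∀ i, i < 43201 → P i := stepQ 43200 Q43200 (allL N43200 (tt N74939 (iv1 F354439)) (tt N76573 D152280) (tt N22091 F108282) (tt N61130 (iv3 F178065)) (tt N76574 D152281) (tt N22058 (iv5 D71841)) (tt N22060 F108283) (tt N76575 D152282))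
theorem Q43202 : ∀ i, i < 43202 → P i := stepQ 43201 Q43201 (allL N43201 (tt N22090 (iv1 F108286)) (tt N22089 F108287) (tt N22092 F108284) (tt N61131 (iv3 F178068)) (tt N75285 (iv4 F321008)) (tt N76575 (iv5 F239358)) (tt N61096 (iv6 F177984)) (tt N22058 (iv7 D71842)))
theorem Q43203 : ∀ i, i < 43203 → P i := stepQ 43202 Q43202 (allL N43202 (tt N29764 F108292) (tt N29769 (iv0 F108293)) (tt N22095 F108288) (tt N32819 F108289) (tt N22059 (iv4 D71843)) (tt N76576 D152283) (tt N32507 F108290) (tt N22093 F108291))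
theorem Q43204 : ∀ i, i < 43204 → P i := stepQ 43203 Q43203 (allL N43203 (tt N60726 (iv1 F176789)) (tt N44502 (iv0 F112354)) (tt N22096 F108294) (tt N60824 (iv3 F176975)) (tt N76577 D152284) (tt N22059 (iv5 D71844)) (tt N73413 (iv6 F354437)) (tt N22094 F108295))
theorem Q43205 : ∀ i, i < 43205 → P i := stepQ 43204 Q43204 (allL N43204 (tt N22100 (iv1 F108296)) (tt N22060 (iv0 D71845)) (tt N22097 F108299) (tt N56100 F162657) (tt N76578 D152286) (tt N32425 F108297) (tt N76579 D152287) (tt N22098 (iv7 F108298)))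
theorem Q43206 : ∀ i, i < 43206 → P i := stepQ 43205 Q43205 (allL N43205 (tt N22060 (iv1 D71846)) (tt N22100 F108300) (tt N22098 (iv2 F108303)) (tt N50017 (iv3 F138563)) (tt N76580 D152288) (tt N32424 F108302) (tt N48973 (iv6 F134963)) (tt N22097 F108301))
theorem Q43207 : ∀ i, i < 43207 → P i := stepQ 43206 Q43206 (allL N43206 (tt N76581 D152289) (tt N76582 D152290) (tt N22099 F108304) (tt N76583 D152291) (tt N22060 (iv4 D71847)) (tt N76584 D152292) (tt N76574 (iv6 F239356)) (tt N63663 (iv7 F188644)))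
theorem Q43208 : ∀ i, i < 43208 → P i := stepQ 43207 Q43207 (allL N43207 (tt N22119 F304769) (tt N22118 F304770) (tt N22120 F304771) (tt N22063 F108309) (tt N22067 F304772) (tt N38864 (iv5 F306775)) (tt N22061 (iv6 D71849)) (tt N22063 F304773))
theorem Q43209 : ∀ i, i < 43209 → P i := stepQ 43208 Q43208 (allL N43208 (tt N22120 F108312) (tt N22063 (iv0 D71851)) (tt N22118 F187620) (tt N47093 F309550) (tt N33879 F108311) (tt N76585 D152303) (tt N76586 D152304) (tt N22119 F187621))
theorem Q43210 : ∀ i, i < 43210 → P i := stepQ 43209 Q43209 (allL N43209 (tt N22063 (iv1 D71852)) (tt N22120 F108313) (tt N22119 F187641) (tt N76587 D152305) (tt N75808 F234144) (tt N76588 D152306) (tt N75659 (iv6 F233306)) (tt N22118 F187642))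
theorem Q43211 : ∀ i, i < 43211 → P i := stepQ 43210 Q43210 (allL N43210 (tt N44718 F306645) (tt N46083 (iv0 F191322)) (tt N22122 F185117) (tt N68033 (iv3 F306362)) (tt N22064 (iv4 D71857)) (tt N76589 D152313) (tt N76590 D152314) (tt N22126 F185118))
theorem Q43212 : ∀ i, i < 43212 → P i := stepQ 43211 Q43211 (allL N43211 (tt N22876 F233304) (tt N76591 D152318) (tt N22124 F185121) (tt N43535 (iv3 F190321)) (tt N76590 (iv4 F239452)) (tt N33435 F322162) (tt N22064 (iv6 D71859)) (tt N75658 (iv7 F233301)))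
theorem Q43213 : ∀ i, i < 43213 → P i := stepQ 43212 Q43212 (allL N43212 (tt N46083 (iv1 F191323)) (tt N44718 F306644) (tt N22126 F185105) (tt N44783 F307279) (tt N22065 (iv4 D71861)) (tt N76592 D152319) (tt N75656 (iv6 F233297)) (tt N22122 F185106))
theorem Q43214 : ∀ i, i < 43214 → P i := stepQ 43213 Q43213 (allL N43213 (tt N33436 F320926) (tt N33366 F318565) (tt N22127 F185107) (tt N63460 (iv3 F187567)) (tt N76593 D152320) (tt N22065 (iv5 D71862)) (tt N33425 F320927) (tt N22123 F185108))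
theorem Q43215 : ∀ i, i < 43215 → P i := stepQ 43214 Q43214 (allL N43214 (tt N22132 (iv1 F108334)) (tt N22066 (iv0 D71864)) (tt N22129 F108539) (tt N43539 (iv3 F190918)) (tt N76594 D152321) (tt N63755 F189221) (tt N62220 (iv6 F341170)) (tt N22130 F108540))
theorem Q43216 : ∀ i, i < 43216 → P i := stepQ 43215 Q43215 (allL N43215 (tt N22066 (iv1 D71865)) (tt N22132 F108322) (tt N22130 F108535) (tt N22545 F108324) (tt N76595 D152323) (tt N22473 (iv5 F108323)) (tt N25105 (iv6 F110346)) (tt N22129 F108536))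
theorem Q43217 : ∀ i, i < 43217 → P i := stepQ 43216 Q43216 (allL N43216 (tt N76596 D152324) (tt N76597 D152325) (tt N22131 F108330) (tt N76598 D152326) (tt N22066 (iv4 D71866)) (tt N76599 D152327) (tt N22070 F108331) (tt N76600 D152328))
theorem Q43218 : ∀ i, i < 43218 → P i := stepQ 43217 Q43217 (allL N43217 (tt N22130 (iv1 F108335)) (tt N22129 F108336) (tt N22132 F108332) (tt N63286 (iv3 F305880)) (tt N76600 (iv4 F239489)) (tt N22067 F108333) (tt N63669 (iv6 F188661)) (tt N22066 (iv7 D71867)))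
theorem Q43219 : ∀ i, i < 43219 → P i := stepQ 43218 Q43218 (allL N43218 (tt N67066 (iv1 F206488)) (tt N56097 (iv0 F162635)) (tt N22137 F108337) (tt N76601 D152329) (tt N22068 (iv4 D71868)) (tt N76602 D152330) (tt N73206 (iv6 F318328)) (tt N22141 F108338))
theorem Q43220 : ∀ i, i < 43220 → P i := stepQ 43219 Q43219 (allL N43219 (tt N56097 (iv1 F162636)) (tt N67066 (iv0 F206487)) (tt N22141 F108341) (tt N76159 (iv3 F237145)) (tt N22069 (iv4 D71870)) (tt N76603 D152334) (tt N62214 (iv6 F318386)) (tt N22137 F108342))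
theorem Q43221 : ∀ i, i < 43221 → P i := stepQ 43220 Q43220 (allL N43220 (tt N22146 (iv1 F108347)) (tt N22070 (iv0 D71872)) (tt N22143 F108349) (tt N76604 D152338) (tt N33894 F108346) (tt N76605 D152339) (tt N73202 (iv6 F318318)) (tt N22144 (iv7 F108348)))
theorem Q43222 : ∀ i, i < 43222 → P i := stepQ 43221 Q43221 (allL N43221 (tt N22070 (iv1 D71873)) (tt N22146 F108350) (tt N22144 (iv2 F108352)) (tt N76606 D152341) (tt N72777 (iv4 F323309)) (tt N76607 D152342) (tt N61839 (iv6 F322284)) (tt N22143 F108351))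
theorem Q43223 : ∀ i, i < 43223 → P i := stepQ 43222 Q43222 (allL N43222 (tt N76608 D152344) (tt N76609 D152345) (tt N61898 (iv2 F325052)) (tt N22070 (iv3 D71874)) (tt N63292 (iv4 F186772)) (tt N76610 D152347) (tt N76598 (iv6 F239486)) (tt N63665 (iv7 F188650)))
theorem Q43224 : ∀ i, i < 43224 → P i := stepQ 43223 Q43223 (allL N43223 (tt N76611 D152348) (tt N76612 D152349) (tt N22145 F108353) (tt N76610 (iv3 F239540)) (tt N76613 D152350) (tt N22070 (iv5 D71875)) (tt N76614 D152351) (tt N63666 (iv7 F188653)))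
theorem Q43225 : ∀ i, i < 43225 → P i := stepQ 43224 Q43224 (allL N43224 (tt N23177 F108358) (tt N32885 F108359) (tt N32887 F108354) (tt N22986 F296645) (tt N22071 (iv4 D71876)) (tt N22984 F296646) (tt N24790 (iv6 F309554)) (tt N32888 F108356))
theorem Q43226 : ∀ i, i < 43226 → P i := stepQ 43225 Q43225 (allL N43225 (tt N76615 D152353) (tt N76616 D152354) (tt N61064 (iv2 F177756)) (tt N22074 F108360) (tt N24790 F311750) (tt N75056 (iv5 F230217)) (tt N22071 (iv6 D71877)) (tt N76617 D152355))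
theorem Q43227 : ∀ i, i < 43227 → P i := stepQ 43226 Q43226 (allL N43226 (tt N43786 F184590) (tt N29808 F184591) (tt N33843 F108361) (tt N36418 F108362) (tt N22462 F108363) (tt N75057 (iv5 F230221)) (tt N22072 (iv6 D71878)) (tt N49040 F310866))
theorem Q43228 : ∀ i, i < 43228 → P i := stepQ 43227 Q43227 (allL N43227 (tt N22076 (iv1 F108365)) (tt N22073 (iv0 D71879)) (tt N43170 (iv2 F108366)) (tt N75987 (iv3 F235211)) (tt N32832 F108364) (tt N24574 (iv5 F108368)) (tt N76618 D152356) (tt N32850 (iv7 F108367)))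
theorem Q43229 : ∀ i, i < 43229 → P i := stepQ 43228 Q43228 (allL N43228 (tt N22073 (iv1 D71880)) (tt N22076 F108369) (tt N32850 (iv2 F108373)) (tt N62885 (iv3 F184004)) (tt N32849 F108371) (tt N24575 F108372) (tt N70496 (iv6 F334119)) (tt N43170 F108370))
theorem Q43230 : ∀ i, i < 43230 → P i := stepQ 43229 Q43229 (allL N43229 (tt N64248 (iv1 F336450)) (tt N74828 (iv0 F336455)) (tt N61004 (iv2 F177569)) (tt N24425 F108374) (tt N22074 F108375) (tt N47904 (iv5 F335987)) (tt N22073 (iv6 D71881)) (tt N74827 (iv7 F348639)))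
theorem Q43231 : ∀ i, i < 43231 → P i := stepQ 43230 Q43230 (allL N43230 (tt N56335 (iv1 F334810)) (tt N22074 (iv0 D71882)) (tt N29843 (iv2 F334814)) (tt N56325 (iv3 F334815)) (tt N76540 (iv4 F340920)) (tt N76619 D152365) (tt N76620 D152366) (tt N56336 (iv7 F334816)))
theorem Q43232 : ∀ i, i < 43232 → P i := stepQ 43231 Q43231 (allL N43231 (tt N56336 (iv1 F359179)) (tt N29843 F359176) (tt N56335 (iv2 F334811)) (tt N76617 (iv3 F239555)) (tt N74827 (iv4 F348636)) (tt N75063 (iv5 F230241)) (tt N61002 (iv6 F177561)) (tt N22074 (iv7 D71884)))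
theorem Q43233 : ∀ i, i < 43233 → P i := stepQ 43232 Q43232 (allL N43232 (tt N29591 F108377) (tt N24297 F108378) (tt N47705 (iv2 F129530)) (tt N76621 D152372) (tt N22075 (iv4 D71885)) (tt N27629 F108376) (tt N74956 (iv6 F338197)) (tt N47702 (iv7 F129519)))
theorem Q43234 : ∀ i, i < 43234 → P i := stepQ 43233 Q43233 (allL N43233 (tt N52376 F149128) (tt N64054 (iv0 F192417)) (tt N24496 F297036) (tt N22076 (iv3 D71887)) (tt N76621 (iv4 F239567)) (tt N24489 F297037) (tt N75186 (iv6 F310747)) (tt N61003 (iv7 F177567)))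
theorem Q43235 : ∀ i, i < 43235 → P i := stepQ 43234 Q43234 (allL N43234 (tt N24422 (iv1 F108383)) (tt N24421 F108384) (tt N22963 F108380) (tt N24489 F296695) (tt N22116 F108381) (tt N22076 (iv5 D71888)) (tt N22116 (iv6 F297057)) (tt N24423 F108382))
theorem Q43236 : ∀ i, i < 43236 → P i := stepQ 43235 Q43235 (allL N43235 (tt N76622 D152379) (tt N75661 (iv0 F303498)) (tt N60999 (iv2 F177553)) (tt N75186 (iv3 F310745)) (tt N22077 F108385) (tt N22462 (iv5 F303499)) (tt N22076 (iv6 D71889)) (tt N63743 (iv7 F303501)))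
theorem Q43237 : ∀ i, i < 43237 → P i := stepQ 43236 Q43236 (allL N43236 (tt N61002 (iv1 F177564)) (tt N22077 (iv0 D71890)) (tt N61000 (iv2 F339740)) (tt N23160 (iv3 F333220)) (tt N76550 (iv4 F335506)) (tt N76623 D152386) (tt N38228 F327676) (tt N32940 (iv7 F333225)))
theorem Q43238 : ∀ i, i < 43238 → P i := stepQ 43237 Q43237 (allL N43237 (tt N22077 (iv1 D71891)) (tt N61002 F177563) (tt N32940 F333226) (tt N61045 (iv3 F355675)) (tt N76551 (iv4 F335516)) (tt N76624 D152391) (tt N74936 (iv6 F353822)) (tt N61000 (iv7 F339744)))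
theorem Q43239 : ∀ i, i < 43239 → P i := stepQ 43238 Q43238 (allL N43238 (tt N76625 D152393) (tt N76626 D152394) (tt N61001 (iv2 F177557)) (tt N63343 (iv3 F186924)) (tt N75647 (iv4 F353537)) (tt N22077 (iv5 D71892)) (tt N22078 F108386) (tt N76627 D152396))
theorem Q43240 : ∀ i, i < 43240 → P i := stepQ 43239 Q43239 (allL N43239 (tt N32940 F339739) (tt N61000 F177562) (tt N61002 (iv2 F177560)) (tt N74889 (iv3 F338206)) (tt N63743 (iv4 F303500)) (tt N76627 (iv5 F239584)) (tt N56335 (iv6 F334812)) (tt N22077 (iv7 D71893)))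
theorem Q43241 : ∀ i, i < 43241 → P i := stepQ 43240 Q43240 (allL N43240 (tt N60794 F176901) (tt N22078 (iv0 D71894)) (tt N61090 F177973) (tt N23164 (iv3 F108388)) (tt N53772 (iv4 F325481)) (tt N32978 F108387) (tt N76628 D152397) (tt N56347 (iv7 F163523)))
theorem Q43242 : ∀ i, i < 43242 → P i := stepQ 43241 Q43241 (allL N43241 (tt N22078 (iv1 D71895)) (tt N60794 F176902) (tt N56347 (iv2 F176903)) (tt N61125 (iv3 F178050)) (tt N53771 (iv4 F325479)) (tt N60995 (iv5 F177547)) (tt N70636 (iv6 F352119)) (tt N61090 (iv7 F177975)))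
theorem Q43243 : ∀ i, i < 43243 → P i := stepQ 43242 Q43242 (allL N43242 (tt N76629 D152399) (tt N76630 D152400) (tt N61091 (iv2 F177977)) (tt N53264 (iv3 F335340)) (tt N22078 (iv4 D71896)) (tt N53262 (iv5 F335344)) (tt N75647 (iv6 F353538)) (tt N63470 (iv7 F187582)))
theorem Q43244 : ∀ i, i < 43244 → P i := stepQ 43243 Q43243 (allL N43243 (tt N22086 F108393) (tt N32746 F108394) (tt N24828 F319792) (tt N25358 F108390) (tt N22079 (iv4 D71897)) (tt N25357 F108392) (tt N24558 F319793) (tt N32755 F108391))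
theorem Q43245 : ∀ i, i < 43245 → P i := stepQ 43244 Q43244 (allL N43244 (tt N22082 (iv1 F108398)) (tt N22080 (iv0 D71899)) (tt N43168 (iv2 F108399)) (tt N41595 F309786) (tt N23874 F108397) (tt N24421 F108396) (tt N40810 (iv6 F311996)) (tt N32815 (iv7 F108400)))
theorem Q43246 : ∀ i, i < 43246 → P i := stepQ 43245 Q43245 (allL N43245 (tt N22080 (iv1 D71900)) (tt N22082 F108401) (tt N32815 (iv2 F108411)) (tt N41930 (iv3 F108405)) (tt N23873 F108404) (tt N24422 F108403) (tt N42262 F322763) (tt N43168 F108402))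
theorem Q43247 : ∀ i, i < 43247 → P i := stepQ 43246 Q43246 (allL N43246 (tt N29584 F108415) (tt N27611 F108416) (tt N45225 (iv2 F114846)) (tt N74763 F307811) (tt N22081 (iv4 D71906)) (tt N27737 F108414) (tt N68442 (iv6 F309841)) (tt N46006 (iv7 F120074)))
theorem Q43248 : ∀ i, i < 43248 → P i := stepQ 43247 Q43247 (allL N43247 (tt N69660 (iv1 F312073)) (tt N42291 (iv0 F309826)) (tt N45226 (iv2 F114854)) (tt N22083 F108417) (tt N68442 (iv4 F309840)) (tt N68434 (iv5 F334828)) (tt N22081 (iv6 D71907)) (tt N76631 D152432))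
theorem Q43249 : ∀ i, i < 43249 → P i := stepQ 43248 Q43248 (allL N43248 (tt N42036 F307679) (tt N42093 F307680) (tt N42092 F307681) (tt N22082 (iv3 D71908)) (tt N74763 F307682) (tt N47035 (iv5 F128076)) (tt N76632 D152434) (tt N42091 F307683))
theorem Q43250 : ∀ i, i < 43250 → P i := stepQ 43249 Q43249 (allL N43249 (tt N76633 D152435) (tt N76634 D152436) (tt N46001 (iv2 F120059)) (tt N76632 (iv3 F239623)) (tt N22083 F108418) (tt N76635 D152437) (tt N22082 (iv6 D71909)) (tt N69426 (iv7 F326289)))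
theorem Q43251 : ∀ i, i < 43251 → P i := stepQ 43250 Q43250 (allL N43250 (tt N37321 F327116) (tt N22083 (iv0 D71910)) (tt N46002 F258958) (tt N32585 (iv3 F239633)) (tt N24547 F327299) (tt N76636 D152442) (tt N76637 D152443) (tt N45068 F239632))
theorem Q43252 : ∀ i, i < 43252 → P i := stepQ 43251 Q43251 (allL N43251 (tt N22083 (iv1 D71911)) (tt N37321 F327115) (tt N45068 (iv2 F239631)) (tt N61140 (iv3 F239630)) (tt N76638 D152446) (tt N76639 D152447) (tt N76640 D152448) (tt N46002 F258960))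
theorem Q43253 : ∀ i, i < 43253 → P i := stepQ 43252 Q43252 (allL N43252 (tt N56474 (iv1 F334822)) (tt N76641 D152450) (tt N46003 (iv2 F120063)) (tt N68434 (iv3 F334827)) (tt N76642 D152451) (tt N22083 (iv5 D71912)) (tt N32589 F108419) (tt N76643 D152452))
theorem Q43254 : ∀ i, i < 43254 → P i := stepQ 43253 Q43253 (allL N43253 (tt N45068 (iv1 F258962)) (tt N46002 F120067) (tt N37321 F327110) (tt N76631 (iv3 F239616)) (tt N69426 F327111) (tt N76643 (iv5 F239641)) (tt N32990 F327112) (tt N22083 (iv7 D71913)))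
theorem Q43255 : ∀ i, i < 43255 → P i := stepQ 43254 Q43254 (allL N43254 (tt N63252 F298719) (tt N59984 (iv0 F323300)) (tt N52490 (iv2 F149791)) (tt N22084 (iv3 D71914)) (tt N27444 F108420) (tt N34231 F298721) (tt N57340 (iv6 F328857)) (tt N46077 (iv7 F120187)))
theorem Q43256 : ∀ i, i < 43256 → P i := stepQ 43255 Q43255 (allL N43255 (tt N24547 F327303) (tt N76638 (iv0 F252357)) (tt N46078 (iv2 F120188)) (tt N64692 (iv3 F198095)) (tt N34579 F108422) (tt N53747 (iv5 F332301)) (tt N22085 (iv6 D71916)) (tt N57352 (iv7 F329473)))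
theorem Q43257 : ∀ i, i < 43257 → P i := stepQ 43256 Q43256 (allL N43256 (tt N32746 (iv1 F108426)) (tt N22086 (iv0 D71917)) (tt N32755 (iv2 F108425)) (tt N69679 (iv3 F305783)) (tt N32614 F108423) (tt N35061 F108424) (tt N76644 D152462) (tt N24828 F319798))
theorem Q43258 : ∀ i, i < 43258 → P i := stepQ 43257 Q43257 (allL N43257 (tt N45428 (iv1 F115803)) (tt N22984 F296644) (tt N43473 (iv2 F108954)) (tt N22087 F108428) (tt N43472 (iv4 F108952)) (tt N22086 (iv5 D71918)) (tt N69331 (iv6 F347441)) (tt N32756 F108429))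
theorem Q43259 : ∀ i, i < 43259 → P i := stepQ 43258 Q43258 (allL N43258 (tt N75383 (iv1 F347778)) (tt N76645 D152465) (tt N75289 (iv2 F343319)) (tt N22088 F108431) (tt N29573 F108432) (tt N76646 D152466) (tt N22086 (iv6 D71919)) (tt N76647 D152467))
theorem Q43260 : ∀ i, i < 43260 → P i := stepQ 43259 Q43259 (allL N43259 (tt N70103 (iv1 F334177)) (tt N70102 (iv0 F348190)) (tt N63217 (iv2 F186394)) (tt N69331 (iv3 F347438)) (tt N24452 F108433) (tt N76648 D152470) (tt N22087 (iv6 D71920)) (tt N70087 (iv7 F310818)))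
theorem Q43261 : ∀ i, i < 43261 → P i := stepQ 43260 Q43260 (allL N43260 (tt N75285 (iv1 F321006)) (tt N22088 (iv0 D71921)) (tt N75371 (iv2 F347792)) (tt N57489 (iv3 F347789)) (tt N61367 (iv4 F347804)) (tt N57488 (iv5 F347796)) (tt N76649 D152476) (tt N59530 (iv7 F347801)))
theorem Q43262 : ∀ i, i < 43262 → P i := stepQ 43261 Q43261 (allL N43261 (tt N22088 (iv1 D71922)) (tt N75285 (iv0 F321005)) (tt N59530 (iv2 F347799)) (tt N75283 (iv3 F347811)) (tt N61368 (iv4 F347808)) (tt N59529 (iv5 F347812)) (tt N76650 D152481) (tt N75371 (iv7 F347794)))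
theorem Q43263 : ∀ i, i < 43263 → P i := stepQ 43262 Q43262 (allL N43262 (tt N31668 F347817) (tt N76651 D152483) (tt N76567 (iv2 F239324)) (tt N76646 (iv3 F239654)) (tt N76652 D152484) (tt N22088 (iv5 D71923)) (tt N76648 (iv6 F239658)) (tt N76653 D152485))
theorem Q43264 : ∀ i, i < 43264 → P i := stepQ 43263 Q43263 (allL N43263 (tt N59530 (iv1 F347798)) (tt N75371 (iv0 F347790)) (tt N75285 (iv2 F321007)) (tt N76647 (iv3 F239655)) (tt N22092 F108434) (tt N76653 (iv5 F239663)) (tt N61101 (iv6 F177991)) (tt N22088 (iv7 D71924)))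
theorem Q43265 : ∀ i, i < 43265 → P i := stepQ 43264 Q43264 (allL N43264 (tt N76654 D152486) (tt N63403 (iv0 F187335)) (tt N42209 F318923) (tt N22089 (iv3 D71926)) (tt N74752 (iv4 F320999)) (tt N53833 (iv5 F291195)) (tt N26800 F108438) (tt N76570 (iv7 F239345)))
theorem Q43266 : ∀ i, i < 43266 → P i := stepQ 43265 Q43265 (allL N43265 (tt N76655 D152489) (tt N42262 F321178) (tt N42068 F321179) (tt N76656 D152491) (tt N22089 (iv4 D71927)) (tt N65447 (iv5 F341252)) (tt N76657 D152493) (tt N65446 (iv7 F336475)))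
theorem Q43267 : ∀ i, i < 43267 → P i := stepQ 43266 Q43266 (allL N43266 (tt N76658 D152494) (tt N76659 D152495) (tt N76568 F239344) (tt N53833 (iv3 F291194)) (tt N76660 D152496) (tt N22089 (iv5 D71928)) (tt N51080 F143454) (tt N76571 (iv7 F239351)))
theorem Q43268 : ∀ i, i < 43268 → P i := stepQ 43267 Q43267 (allL N43267 (tt N76640 (iv1 F239684)) (tt N76661 D152498) (tt N76569 F239333) (tt N26800 (iv3 F108437)) (tt N76657 (iv4 F239674)) (tt N26799 F108436) (tt N22089 (iv6 D71929)) (tt N50073 (iv7 F138816)))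
theorem Q43269 : ∀ i, i < 43269 → P i := stepQ 43268 Q43268 (allL N43268 (tt N42262 (iv1 F321010)) (tt N76655 F239672) (tt N65446 (iv2 F336473)) (tt N42028 (iv3 F321012)) (tt N22090 (iv4 D71932)) (tt N45399 F336472) (tt N76662 D152507) (tt N42068 (iv7 F319130)))
theorem Q43270 : ∀ i, i < 43270 → P i := stepQ 43269 Q43269 (allL N43269 (tt N76659 (iv1 F239677)) (tt N76658 F239676) (tt N76571 (iv2 F239350)) (tt N41789 F318933) (tt N76663 D152508) (tt N22090 (iv5 D71933)) (tt N76664 D152509) (tt N76568 F239342))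
theorem Q43271 : ∀ i, i < 43271 → P i := stepQ 43270 Q43270 (allL N43270 (tt N76665 D152510) (tt N69534 (iv0 F354426)) (tt N76572 (iv2 F239352)) (tt N42208 F318934) (tt N76662 (iv4 F239688)) (tt N76666 D152512) (tt N22090 (iv6 D71934)) (tt N76667 D152513))
theorem Q43272 : ∀ i, i < 43272 → P i := stepQ 43271 Q43271 (allL N43271 (tt N76575 (iv1 F239361)) (tt N22091 (iv0 D71935)) (tt N74939 (iv2 F346142)) (tt N76668 D152515) (tt N76669 D152516) (tt N74937 (iv5 F346145)) (tt N76670 D152518) (tt N76573 (iv7 F346149)))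
theorem Q43273 : ∀ i, i < 43273 → P i := stepQ 43272 Q43272 (allL N43272 (tt N22091 (iv1 D71936)) (tt N76575 F239360) (tt N76573 (iv2 F346148)) (tt N42211 (iv3 F346141)) (tt N76671 D152521) (tt N62818 F346140) (tt N76672 D152523) (tt N74939 (iv7 F346143)))
theorem Q43274 : ∀ i, i < 43274 → P i := stepQ 43273 Q43273 (allL N43273 (tt N76673 D152524) (tt N76674 D152525) (tt N76574 (iv2 F239355)) (tt N73005 (iv3 F340008)) (tt N22091 (iv4 D71937)) (tt N76675 D152527) (tt N22099 F108440) (tt N76676 D152528))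
theorem Q43275 : ∀ i, i < 43275 → P i := stepQ 43274 Q43274 (allL N43274 (tt N76573 (iv1 F239353)) (tt N74939 (iv0 F354438)) (tt N76575 (iv2 F239357)) (tt N36396 F108441) (tt N76676 (iv4 F239698)) (tt N22092 F108442) (tt N76677 D152529) (tt N22091 (iv7 D71938)))
theorem Q43276 : ∀ i, i < 43276 → P i := stepQ 43275 Q43275 (allL N43275 (tt N36623 F110825) (tt N42914 (iv0 F115166)) (tt N33865 F108443) (tt N42742 F108444) (tt N63671 (iv4 F188670)) (tt N22093 (iv5 D71939)) (tt N76678 D152530) (tt N76576 (iv7 F239364)))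
theorem Q43277 : ∀ i, i < 43277 → P i := stepQ 43276 Q43276 (allL N43276 (tt N22096 (iv1 F108446)) (tt N22094 (iv0 D71940)) (tt N44502 (iv2 F112350)) (tt N50300 (iv3 F139480)) (tt N61463 (iv4 F178880)) (tt N37376 F108445) (tt N76679 D152531) (tt N60726 (iv7 F176788)))
theorem Q43278 : ∀ i, i < 43278 → P i := stepQ 43277 Q43277 (allL N43277 (tt N76680 D152532) (tt N76681 D152533) (tt N63396 (iv2 F187306)) (tt N76682 D152534) (tt N22094 (iv4 D71941)) (tt N76683 D152535) (tt N76684 D152536) (tt N76577 (iv7 F239368)))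
theorem Q43279 : ∀ i, i < 43279 → P i := stepQ 43278 Q43278 (allL N43278 (tt N51082 F143459) (tt N76685 D152537) (tt N63394 (iv2 F187302)) (tt N61046 (iv3 F177744)) (tt N76684 (iv4 F239721)) (tt N61043 (iv5 F177735)) (tt N22094 (iv6 D71942)) (tt N76686 D152538))
theorem Q43280 : ∀ i, i < 43280 → P i := stepQ 43279 Q43279 (allL N43279 (tt N42914 (iv1 F115168)) (tt N36623 (iv0 F115252)) (tt N76576 (iv2 F239362)) (tt N33582 F108447) (tt N63670 (iv4 F188666)) (tt N22095 (iv5 D71943)) (tt N76687 D152539) (tt N33865 F108448))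
theorem Q43281 : ∀ i, i < 43281 → P i := stepQ 43280 Q43280 (allL N43280 (tt N76681 (iv1 F239716)) (tt N76680 F239713) (tt N76577 (iv2 F239367)) (tt N76688 D152540) (tt N22096 (iv4 D71944)) (tt N76689 D152541) (tt N76690 D152542) (tt N63396 (iv7 F187307)))
theorem Q43282 : ∀ i, i < 43282 → P i := stepQ 43281 Q43281 (allL N43281 (tt N70739 (iv1 F365662)) (tt N69527 (iv0 F365661)) (tt N73413 (iv2 F354436)) (tt N74860 (iv3 F335900)) (tt N76690 (iv4 F239725)) (tt N61995 (iv5 F327479)) (tt N22096 (iv6 D71945)) (tt N76691 D152545))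
theorem Q43283 : ∀ i, i < 43283 → P i := stepQ 43282 Q43282 (allL N43282 (tt N44972 F139469) (tt N61124 (iv0 F178044)) (tt N61662 F179195) (tt N22097 (iv3 D71946)) (tt N76692 D152546) (tt N50018 (iv5 F138568)) (tt N76693 D152547) (tt N50017 F138566))
theorem Q43284 : ∀ i, i < 43284 → P i := stepQ 43283 Q43283 (allL N43283 (tt N76694 D152548) (tt N76695 D152549) (tt N76578 (iv2 F239372)) (tt N76696 D152550) (tt N22097 (iv4 D71947)) (tt N76697 D152551) (tt N76698 D152552) (tt N76580 (iv7 F239378)))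
theorem Q43285 : ∀ i, i < 43285 → P i := stepQ 43284 Q43284 (allL N43284 (tt N32419 (iv1 F108452)) (tt N22796 F108451) (tt N32425 F108449) (tt N50018 (iv3 F138567)) (tt N57443 (iv4 F166756)) (tt N22097 (iv5 D71948)) (tt N61661 (iv6 F179190)) (tt N32424 F108450))
theorem Q43286 : ∀ i, i < 43286 → P i := stepQ 43285 Q43285 (allL N43285 (tt N76699 D152553) (tt N76700 D152554) (tt N76579 (iv2 F239376)) (tt N76693 (iv3 F239730)) (tt N76698 (iv4 F239740)) (tt N63473 (iv5 F187588)) (tt N22097 (iv6 D71949)) (tt N76701 D152555))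
theorem Q43287 : ∀ i, i < 43287 → P i := stepQ 43286 Q43286 (allL N43286 (tt N44975 F114926) (tt N56102 F162655) (tt N45263 (iv2 F114974)) (tt N22098 (iv3 D71950)) (tt N50931 (iv4 F329554)) (tt N45252 F114925) (tt N76702 D152557) (tt N56100 (iv7 F162656)))
theorem Q43288 : ∀ i, i < 43288 → P i := stepQ 43287 Q43287 (allL N43287 (tt N76695 (iv1 F239735)) (tt N76694 F239732) (tt N76580 (iv2 F239377)) (tt N76703 D152558) (tt N22098 (iv4 D71951)) (tt N76704 D152559) (tt N76705 D152560) (tt N76578 (iv7 F239373)))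
theorem Q43289 : ∀ i, i < 43289 → P i := stepQ 43288 Q43288 (allL N43288 (tt N76706 D152561) (tt N76707 D152562) (tt N48973 (iv2 F134961)) (tt N76702 (iv3 F239745)) (tt N76705 (iv4 F239748)) (tt N26890 F108453) (tt N22098 (iv6 D71952)) (tt N76708 D152563))
theorem Q43290 : ∀ i, i < 43290 → P i := stepQ 43289 Q43289 (allL N43289 (tt N63663 (iv1 F188648)) (tt N22099 (iv0 D71953)) (tt N76581 F239383) (tt N71212 (iv3 F388381)) (tt N61371 F178703) (tt N76709 D152565) (tt N76710 D152566) (tt N76582 (iv7 F239386)))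
theorem Q43291 : ∀ i, i < 43291 → P i := stepQ 43290 Q43290 (allL N43290 (tt N22099 (iv1 D71954)) (tt N63663 (iv0 F188647)) (tt N76582 F239388) (tt N76711 D152567) (tt N61372 (iv4 F178708)) (tt N76712 D152568) (tt N76713 D152569) (tt N76581 F239384))
theorem Q43292 : ∀ i, i < 43292 → P i := stepQ 43291 Q43291 (allL N43291 (tt N76714 D152570) (tt N53479 (iv0 F372003)) (tt N76715 D152572) (tt N22099 (iv3 D71955)) (tt N36408 F108454) (tt N76716 D152573) (tt N73005 (iv6 F340009)) (tt N76717 D152574))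
theorem Q43293 : ∀ i, i < 43293 → P i := stepQ 43292 Q43292 (allL N43292 (tt N61465 (iv1 F178884)) (tt N63689 (iv0 F188683)) (tt N76584 (iv2 F239389)) (tt N76716 (iv3 F239763)) (tt N63666 (iv4 F188652)) (tt N22099 (iv5 D71956)) (tt N76718 D152575) (tt N76613 (iv7 F239550)))
theorem Q43294 : ∀ i, i < 43294 → P i := stepQ 43293 Q43293 (allL N43293 (tt N76582 (iv1 F239385)) (tt N76581 F239382) (tt N63663 (iv2 F188643)) (tt N76717 (iv3 F239764)) (tt N22100 F108455) (tt N76613 (iv5 F239549)) (tt N76719 D152576) (tt N22099 (iv7 D71957)))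
theorem Q43295 : ∀ i, i < 43295 → P i := stepQ 43294 Q43294 (allL N43294 (tt N76720 D152577) (tt N76721 D152578) (tt N63664 (iv2 F188649)) (tt N36409 F108456) (tt N76719 (iv4 F239766)) (tt N60186 (iv5 F175880)) (tt N22100 (iv6 D71958)) (tt N76677 (iv7 F239700)))
theorem Q43296 : ∀ i, i < 43296 → P i := stepQ 43295 Q43295 (allL N43295 (tt N22122 F191282) (tt N22126 F191283) (tt N46083 (iv2 F120192)) (tt N44722 F303262) (tt N42484 F108459) (tt N66364 (iv5 F347086)) (tt N22102 (iv6 D71961)) (tt N44718 (iv7 F304613)))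
theorem Q43297 : ∀ i, i < 43297 → P i := stepQ 43296 Q43296 (allL N43296 (tt N22103 (iv1 D71963)) (tt N46096 F120225) (tt N46094 (iv2 F233816)) (tt N45518 (iv3 F205240)) (tt N42486 F205237) (tt N76722 D152585) (tt N66368 (iv6 F331952)) (tt N46093 (iv7 F233818)))
theorem Q43298 : ∀ i, i < 43298 → P i := stepQ 43297 Q43297 (allL N43297 (tt N68544 (iv1 F342044)) (tt N76723 D152588) (tt N46095 (iv2 F120220)) (tt N63591 (iv3 F188222)) (tt N76724 D152589) (tt N22103 (iv5 D71964)) (tt N63589 (iv6 F188207)) (tt N76725 D152590))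
theorem Q43299 : ∀ i, i < 43299 → P i := stepQ 43298 Q43298 (allL N43298 (tt N46094 (iv1 F120219)) (tt N46093 F120224) (tt N46096 (iv2 F120221)) (tt N63592 (iv3 F188225)) (tt N22105 F108460) (tt N76725 (iv5 F239777)) (tt N46087 (iv6 F120200)) (tt N22103 (iv7 D71965)))
theorem Q43300 : ∀ i, i < 43300 → P i := stepQ 43299 Q43299 (allL N43299 (tt N47081 F155401) (tt N22114 F155402) (tt N23065 F130876) (tt N76726 D152591) (tt N22104 (iv4 D71968)) (tt N76727 D152592) (tt N75643 (iv6 F233273)) (tt N46097 (iv7 F120237)))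
theorem Q43301 : ∀ i, i < 43301 → P i := stepQ 43300 Q43300 (allL N43300 (tt N63709 F188834) (tt N42256 F131072) (tt N23066 F130877) (tt N45217 (iv3 F232319)) (tt N76728 D152593) (tt N22104 (iv5 D71969)) (tt N75644 (iv6 F233277)) (tt N33742 F113759))
theorem Q43302 : ∀ i, i < 43302 → P i := stepQ 43301 Q43301 (allL N43301 (tt N42726 (iv1 F108467)) (tt N22106 (iv0 D71976)) (tt N22859 F155554) (tt N63090 F232727) (tt N42813 (iv4 F155557)) (tt N25409 F308249) (tt N38346 (iv6 F311282)) (tt N42725 F155555))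
theorem Q43303 : ∀ i, i < 43303 → P i := stepQ 43302 Q43302 (allL N43302 (tt N22106 (iv1 D71977)) (tt N42726 F108464) (tt N42725 F155545) (tt N22204 F131032) (tt N42814 F131033) (tt N25408 F308247) (tt N76729 D152595) (tt N22859 F155546))
theorem Q43304 : ∀ i, i < 43304 → P i := stepQ 43303 Q43303 (allL N43303 (tt N42725 (iv1 F108468)) (tt N22859 F130975) (tt N42726 F108465) (tt N22112 F108466) (tt N66839 (iv4 F205800)) (tt N27715 (iv5 F311971)) (tt N43437 (iv6 F108870)) (tt N22106 (iv7 D71978)))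
theorem Q43305 : ∀ i, i < 43305 → P i := stepQ 43304 Q43304 (allL N43304 (tt N24729 (iv1 F108471)) (tt N22107 (iv0 D71979)) (tt N24076 (iv2 F108470)) (tt N44736 (iv3 F113249)) (tt N45432 (iv4 F115823)) (tt N38376 F303594) (tt N67960 (iv6 F305688)) (tt N45508 (iv7 F116174)))
theorem Q43306 : ∀ i, i < 43306 → P i := stepQ 43305 Q43305 (allL N43305 (tt N68541 (iv1 F314736)) (tt N45510 (iv0 F130973)) (tt N63572 (iv2 F188155)) (tt N22109 F108472) (tt N66837 (iv4 F205798)) (tt N76730 D152598) (tt N22107 (iv6 D71980)) (tt N76731 D152599))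
theorem Q43307 : ∀ i, i < 43307 → P i := stepQ 43306 Q43306 (allL N43306 (tt N61006 (iv1 F319371)) (tt N76732 D152601) (tt N24739 F108473) (tt N36519 (iv3 F305901)) (tt N34228 F304143) (tt N76733 D152602) (tt N22108 (iv6 D71981)) (tt N36599 (iv7 F305706)))
theorem Q43308 : ∀ i, i < 43308 → P i := stepQ 43307 Q43307 (allL N43307 (tt N46087 (iv1 F120203)) (tt N22109 (iv0 D71982)) (tt N46084 F234039) (tt N76734 D152604) (tt N76058 (iv4 F236154)) (tt N76735 D152605) (tt N68494 (iv6 F311504)) (tt N46085 F234037))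
theorem Q43309 : ∀ i, i < 43309 → P i := stepQ 43308 Q43308 (allL N43308 (tt N22109 (iv1 D71983)) (tt N46087 F120202) (tt N46085 (iv2 F234036)) (tt N68553 (iv3 F333433)) (tt N42473 F130974) (tt N76736 D152608) (tt N76737 D152609) (tt N46084 (iv7 F234038)))
theorem Q43310 : ∀ i, i < 43310 → P i := stepQ 43309 Q43309 (allL N43309 (tt N28797 F321176) (tt N76738 D152611) (tt N46086 (iv2 F120197)) (tt N76730 (iv3 F239791)) (tt N76739 D152612) (tt N22109 (iv5 D71984)) (tt N76733 (iv6 F239796)) (tt N76740 D152613))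
theorem Q43311 : ∀ i, i < 43311 → P i := stepQ 43310 Q43310 (allL N43310 (tt N46085 (iv1 F120196)) (tt N46084 F120201) (tt N46087 (iv2 F120198)) (tt N76731 (iv3 F239792)) (tt N22112 F108474) (tt N76740 (iv5 F239810)) (tt N46096 (iv6 F120223)) (tt N22109 (iv7 D71985)))
theorem Q43312 : ∀ i, i < 43312 → P i := stepQ 43311 Q43311 (allL N43311 (tt N22115 F155524) (tt N63215 F186389) (tt N22874 F130960) (tt N66374 (iv3 F324079)) (tt N22110 (iv4 D71993)) (tt N66373 (iv5 F323812)) (tt N76741 D152616) (tt N46088 (iv7 F130999)))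
theorem Q43313 : ∀ i, i < 43313 → P i := stepQ 43312 Q43312 (allL N43312 (tt N45715 (iv1 F305743)) (tt N43147 (iv0 F108477)) (tt N22875 F130961) (tt N45245 (iv3 F232573)) (tt N63096 (iv4 F305768)) (tt N22110 (iv5 D71994)) (tt N37472 (iv6 F108478)) (tt N46089 (iv7 F130993)))
theorem Q43314 : ∀ i, i < 43314 → P i := stepQ 43313 Q43313 (allL N43313 (tt N75658 F233303) (tt N22124 F131027) (tt N22876 F130962) (tt N45246 (iv3 F232576)) (tt N76741 (iv4 F239814)) (tt N41029 F313421) (tt N22110 (iv6 D71995)) (tt N76591 (iv7 F239466)))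
theorem Q43315 : ∀ i, i < 43315 → P i := stepQ 43314 Q43314 (allL N43314 (tt N22111 (iv1 D71997)) (tt N38269 F108479) (tt N22844 F130758) (tt N44001 F130759) (tt N64421 (iv4 F308201)) (tt N34334 (iv5 F130760)) (tt N42860 F306202) (tt N38268 (iv7 F130939)))
theorem Q43316 : ∀ i, i < 43316 → P i := stepQ 43315 Q43315 (allL N43315 (tt N76742 D152619) (tt N64368 (iv0 F351914)) (tt N38267 F108481) (tt N23400 (iv3 F311975)) (tt N22111 (iv4 D71998)) (tt N76743 D152622) (tt N34581 F108482) (tt N76744 D152623))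
theorem Q43317 : ∀ i, i < 43317 → P i := stepQ 43316 Q43316 (allL N43316 (tt N22844 F130938) (tt N38268 F108487) (tt N38269 F108483) (tt N27715 (iv3 F311970)) (tt N76744 (iv4 F239833)) (tt N22112 F108484) (tt N63452 (iv6 F187521)) (tt N22111 (iv7 D71999)))
theorem Q43318 : ∀ i, i < 43318 → P i := stepQ 43317 Q43317 (allL N43317 (tt N38076 F317450) (tt N38073 (iv0 F319081)) (tt N46905 (iv2 F127674)) (tt N22114 F108488) (tt N24488 F108489) (tt N76745 D152626) (tt N22113 (iv6 D72000)) (tt N68579 F317451))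
theorem Q43319 : ∀ i, i < 43319 → P i := stepQ 43318 Q43318 (allL N43318 (tt N76746 D152628) (tt N34679 F322703) (tt N47080 (iv2 F128238)) (tt N76745 (iv3 F239836)) (tt N59088 (iv4 F333003)) (tt N22114 (iv5 D72003)) (tt N47078 (iv6 F128232)) (tt N76747 D152630))
theorem Q43320 : ∀ i, i < 43320 → P i := stepQ 43319 Q43319 (allL N43319 (tt N46097 F155360) (tt N23065 F155361) (tt N47081 (iv2 F128241)) (tt N68579 (iv3 F317033)) (tt N75807 (iv4 F234139)) (tt N76747 (iv5 F239839)) (tt N63215 (iv6 F186388)) (tt N22114 (iv7 D72004)))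
theorem Q43321 : ∀ i, i < 43321 → P i := stepQ 43320 Q43320 (allL N43320 (tt N45530 F305107) (tt N76748 D152632) (tt N63214 (iv2 F186386)) (tt N46930 (iv3 F127785)) (tt N76749 D152633) (tt N22115 (iv5 D72007)) (tt N46928 (iv6 F127779)) (tt N76750 D152634))
theorem Q43322 : ∀ i, i < 43322 → P i := stepQ 43321 Q43321 (allL N43321 (tt N22874 F155091) (tt N46088 F155092) (tt N63215 (iv2 F186387)) (tt N46931 (iv3 F127788)) (tt N42763 F108490) (tt N76750 (iv5 F239845)) (tt N47081 (iv6 F128244)) (tt N22115 (iv7 D72008)))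
theorem Q43323 : ∀ i, i < 43323 → P i := stepQ 43322 Q43322 (allL N43322 (tt N76751 D152660) (tt N47183 (iv0 F316780)) (tt N76752 D152662) (tt N22118 (iv3 D72017)) (tt N63478 (iv4 F187617)) (tt N76753 D152663) (tt N76754 D152664) (tt N76587 (iv7 F239420)))
theorem Q43324 : ∀ i, i < 43324 → P i := stepQ 43323 Q43323 (allL N43323 (tt N48566 F307997) (tt N29767 F191319) (tt N33879 F187613) (tt N63479 F187614) (tt N22118 (iv4 D72018)) (tt N76755 D152665) (tt N76756 D152666) (tt N75808 (iv7 F234143)))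
theorem Q43325 : ∀ i, i < 43325 → P i := stepQ 43324 Q43324 (allL N43324 (tt N76757 D152667) (tt N68264 (iv0 F305440)) (tt N76585 (iv2 F239412)) (tt N76753 (iv3 F239875)) (tt N76758 D152669) (tt N22118 (iv5 D72019)) (tt N68230 (iv6 F352088)) (tt N76588 (iv7 F239422)))
theorem Q43326 : ∀ i, i < 43326 → P i := stepQ 43325 Q43325 (allL N43325 (tt N76741 (iv1 F239894)) (tt N76759 D152672) (tt N76586 (iv2 F239415)) (tt N76754 (iv3 F239876)) (tt N76756 (iv4 F239879)) (tt N73971 (iv5 F324818)) (tt N22118 (iv6 D72020)) (tt N76760 D152674))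
theorem Q43327 : ∀ i, i < 43327 → P i := stepQ 43326 Q43326 (allL N43326 (tt N24444 F309568) (tt N47096 F309569) (tt N47094 (iv2 F311748)) (tt N22119 (iv3 D72022)) (tt N26187 (iv4 F311775)) (tt N76761 D152679) (tt N76762 D152680) (tt N47093 F309552))
theorem Q43328 : ∀ i, i < 43328 → P i := stepQ 43327 Q43327 (allL N43327 (tt N29767 F191320) (tt N48566 F307996) (tt N75808 (iv2 F234146)) (tt N33870 F108500) (tt N22119 (iv4 D72023)) (tt N76763 D152681) (tt N76764 D152682) (tt N33879 F187622))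
theorem Q43329 : ∀ i, i < 43329 → P i := stepQ 43328 Q43328 (allL N43328 (tt N68264 (iv1 F305441)) (tt N76757 F239881) (tt N76588 (iv2 F239421)) (tt N76761 (iv3 F239897)) (tt N76765 D152683) (tt N22119 (iv5 D72024)) (tt N76766 D152684) (tt N76585 (iv7 F239413)))
theorem Q43330 : ∀ i, i < 43330 → P i := stepQ 43329 Q43329 (allL N43329 (tt N63052 F239904) (tt N75643 (iv0 F233274)) (tt N75659 F233307) (tt N76762 (iv3 F239898)) (tt N76764 (iv4 F239903)) (tt N44029 (iv5 F189145)) (tt N22119 (iv6 D72025)) (tt N75660 (iv7 F233312)))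
theorem Q43331 : ∀ i, i < 43331 → P i := stepQ 43330 Q43330 (allL N43330 (tt N40505 (iv1 F311268)) (tt N63078 F185040) (tt N63459 (iv2 F187562)) (tt N22123 F108511) (tt N36152 F321151) (tt N22121 (iv5 D72039)) (tt N25170 F185041) (tt N63460 (iv7 F187568)))
theorem Q43332 : ∀ i, i < 43332 → P i := stepQ 43331 Q43331 (allL N43331 (tt N22126 (iv1 F108518)) (tt N22122 (iv0 D72042)) (tt N44718 F305322) (tt N44777 F305323) (tt N46501 F123926) (tt N66365 (iv5 F347078)) (tt N44716 F305324) (tt N46083 (iv7 F191281)))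
theorem Q43333 : ∀ i, i < 43333 → P i := stepQ 43332 Q43332 (allL N43332 (tt N44785 F305382) (tt N44777 F305383) (tt N44782 (iv2 F307425)) (tt N22122 (iv3 D72044)) (tt N68518 (iv4 F324173)) (tt N76767 D152703) (tt N68516 (iv6 F333659)) (tt N44783 F307281))
theorem Q43334 : ∀ i, i < 43334 → P i := stepQ 43333 Q43333 (allL N43333 (tt N76768 D152705) (tt N76769 D152706) (tt N76589 (iv2 F239449)) (tt N76767 (iv3 F239910)) (tt N76770 D152707) (tt N22122 (iv5 D72045)) (tt N76771 D152708) (tt N76592 (iv7 F239470)))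
theorem Q43335 : ∀ i, i < 43335 → P i := stepQ 43334 Q43334 (allL N43334 (tt N76737 F239808) (tt N76772 D152709) (tt N76590 (iv2 F239451)) (tt N68516 (iv3 F333657)) (tt N22124 F108515) (tt N73969 (iv5 F346292)) (tt N22122 (iv6 D72046)) (tt N76773 D152711))
theorem Q43336 : ∀ i, i < 43336 → P i := stepQ 43335 Q43335 (allL N43335 (tt N22127 (iv1 F108523)) (tt N22123 (iv0 D72048)) (tt N33366 F318566) (tt N40762 (iv3 F320539)) (tt N76774 D152712) (tt N35433 (iv5 F199881)) (tt N76775 D152713) (tt N33436 F322176))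
theorem Q43337 : ∀ i, i < 43337 → P i := stepQ 43336 Q43336 (allL N43336 (tt N76776 D152715) (tt N76777 D152716) (tt N33433 F322128) (tt N76778 D152717) (tt N22123 (iv4 D72050)) (tt N76779 D152718) (tt N33418 F322129) (tt N76593 (iv7 F239472)))
theorem Q43338 : ∀ i, i < 43338 → P i := stepQ 43337 Q43337 (allL N43337 (tt N22124 (iv1 D72054)) (tt N75658 (iv0 F233302)) (tt N76591 (iv2 F239468)) (tt N22152 F131013) (tt N76759 (iv4 F239889)) (tt N40781 F318076) (tt N25165 F131014) (tt N22876 F131015))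
theorem Q43339 : ∀ i, i < 43339 → P i := stepQ 43338 Q43338 (allL N43338 (tt N34275 F108524) (tt N34292 F108525) (tt N33435 (iv2 F320463)) (tt N34602 F185038) (tt N76780 D152721) (tt N22124 (iv5 D72055)) (tt N33422 F318627) (tt N34290 F131187))
theorem Q43340 : ∀ i, i < 43340 → P i := stepQ 43339 Q43339 (allL N43339 (tt N76591 (iv1 F239465)) (tt N22876 F131184) (tt N75658 (iv2 F233299)) (tt N22746 F313601) (tt N76773 (iv4 F239916)) (tt N34290 (iv5 F131186)) (tt N44033 F131185) (tt N22124 (iv7 D72056)))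
theorem Q43341 : ∀ i, i < 43341 → P i := stepQ 43340 Q43340 (allL N43340 (tt N75504 (iv1 F241437)) (tt N40880 F322367) (tt N43537 F190309) (tt N22127 F108527) (tt N73602 (iv4 F322947)) (tt N22125 (iv5 D72062)) (tt N75327 (iv6 F231201)) (tt N33430 F322148))
theorem Q43342 : ∀ i, i < 43342 → P i := stepQ 43341 Q43341 (allL N43341 (tt N75454 (iv1 F240291)) (tt N63999 (iv0 F240292)) (tt N43538 (iv2 F190317)) (tt N22128 F108528) (tt N66882 (iv4 F205990)) (tt N43814 (iv5 F190355)) (tt N22125 (iv6 D72063)) (tt N75457 F231551))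
theorem Q43343 : ∀ i, i < 43343 → P i := stepQ 43342 Q43342 (allL N43342 (tt N67960 (iv1 F305686)) (tt N38086 F304854) (tt N68034 (iv2 F344393)) (tt N22126 (iv3 D72064)) (tt N66880 (iv4 F205989)) (tt N76781 D152730) (tt N76782 D152731) (tt N68033 (iv7 F306364)))
theorem Q43344 : ∀ i, i < 43344 → P i := stepQ 43343 Q43343 (allL N43343 (tt N76769 (iv1 F239914)) (tt N76768 F239913) (tt N76592 (iv2 F239469)) (tt N76781 (iv3 F239935)) (tt N76783 D152732) (tt N22126 (iv5 D72065)) (tt N76784 D152733) (tt N76589 (iv7 F239450)))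
theorem Q43345 : ∀ i, i < 43345 → P i := stepQ 43344 Q43344 (allL N43344 (tt N76785 D152734) (tt N68530 (iv0 F314760)) (tt N75656 (iv2 F233296)) (tt N76782 (iv3 F239936)) (tt N22128 F108529) (tt N76786 D152736) (tt N22126 (iv6 D72066)) (tt N75657 (iv7 F233298)))
theorem Q43346 : ∀ i, i < 43346 → P i := stepQ 43345 Q43345 (allL N43345 (tt N76777 (iv1 F239922)) (tt N76776 F239921) (tt N76593 (iv2 F239471)) (tt N76787 D152737) (tt N22127 (iv4 D72067)) (tt N76788 D152738) (tt N76789 D152739) (tt N33433 F322177))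
theorem Q43347 : ∀ i, i < 43347 → P i := stepQ 43346 Q43346 (allL N43346 (tt N33335 F316846) (tt N33423 F320601) (tt N33425 F320602) (tt N75327 F231203) (tt N76789 (iv4 F239938)) (tt N44035 (iv5 F131175)) (tt N22127 (iv6 D72068)) (tt N33412 F320603))
theorem Q43348 : ∀ i, i < 43348 → P i := stepQ 43347 Q43347 (allL N43347 (tt N76790 D152740) (tt N76791 D152741) (tt N76594 (iv2 F239473)) (tt N63639 (iv3 F366383)) (tt N22129 (iv4 D72075)) (tt N72077 (iv5 F364903)) (tt N76792 D152744) (tt N76595 (iv7 F239481)))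
theorem Q43349 : ∀ i, i < 43349 → P i := stepQ 43348 Q43348 (allL N43348 (tt N62218 (iv1 F318276)) (tt N44348 F316059) (tt N62220 (iv2 F341167)) (tt N63772 (iv3 F189477)) (tt N76792 (iv4 F239943)) (tt N68267 (iv5 F209428)) (tt N22129 (iv6 D72077)) (tt N62219 (iv7 F313693)))
theorem Q43350 : ∀ i, i < 43350 → P i := stepQ 43349 Q43349 (allL N43349 (tt N22412 F199423) (tt N43542 F199424) (tt N43540 (iv2 F190670)) (tt N22130 (iv3 D72079)) (tt N66889 (iv4 F206001)) (tt N65169 F199425) (tt N65211 (iv6 F199615)) (tt N43539 F190917))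
theorem Q43351 : ∀ i, i < 43351 → P i := stepQ 43350 Q43350 (allL N43350 (tt N76791 (iv1 F239940)) (tt N76790 F239939) (tt N76595 (iv2 F239479)) (tt N76793 D152747) (tt N22130 (iv4 D72080)) (tt N76794 D152748) (tt N68353 (iv6 F313698)) (tt N76594 (iv7 F239474)))
theorem Q43352 : ∀ i, i < 43352 → P i := stepQ 43351 Q43351 (allL N43351 (tt N76600 (iv1 F239491)) (tt N22131 (iv0 D72083)) (tt N76596 (iv2 F239958)) (tt N76795 D152751) (tt N76796 D152752) (tt N71506 (iv5 F363881)) (tt N76797 D152754) (tt N76597 (iv7 F239961)))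
theorem Q43353 : ∀ i, i < 43353 → P i := stepQ 43352 Q43352 (allL N43352 (tt N22131 (iv1 D72084)) (tt N76600 F239490) (tt N76597 (iv2 F239960)) (tt N44282 (iv3 F318478)) (tt N76798 D152757) (tt N76799 D152758) (tt N44281 F316203) (tt N76596 (iv7 F239959)))
theorem Q43354 : ∀ i, i < 43354 → P i := stepQ 43353 Q43353 (allL N43353 (tt N76800 D152765) (tt N76801 D152766) (tt N76599 (iv2 F239487)) (tt N71873 (iv3 F322252)) (tt N72074 (iv4 F347117)) (tt N22131 (iv5 D72086)) (tt N76802 D152768) (tt N76803 D152769))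
theorem Q43355 : ∀ i, i < 43355 → P i := stepQ 43354 Q43354 (allL N43354 (tt N76597 (iv1 F239485)) (tt N76596 (iv0 F239483)) (tt N76600 (iv2 F239488)) (tt N44204 (iv3 F318495)) (tt N22132 F108544) (tt N76803 (iv5 F239978)) (tt N76804 D152770) (tt N22131 (iv7 D72087)))
theorem Q43356 : ∀ i, i < 43356 → P i := stepQ 43355 Q43355 (allL N43355 (tt N43996 F313894) (tt N63668 F188662) (tt N63669 (iv2 F188660)) (tt N22159 F108545) (tt N76804 (iv4 F239979)) (tt N63224 (iv5 F186435)) (tt N22132 (iv6 D72088)) (tt N22147 F108546))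
theorem Q43357 : ∀ i, i < 43357 → P i := stepQ 43356 Q43356 (allL N43356 (tt N44954 (iv1 F114181)) (tt N44953 F114178) (tt N34009 F108547) (tt N22134 F108548) (tt N76805 D152771) (tt N22133 (iv5 D72089)) (tt N76806 D152772) (tt N34008 F108549))
theorem Q43358 : ∀ i, i < 43358 → P i := stepQ 43357 Q43357 (allL N43357 (tt N60738 (iv1 F176811)) (tt N61463 F178881) (tt N60907 (iv2 F177194)) (tt N76807 D152773) (tt N22134 (iv4 D72090)) (tt N63689 (iv5 F188682)) (tt N76808 D152774) (tt N61334 (iv7 F178612)))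
theorem Q43359 : ∀ i, i < 43359 → P i := stepQ 43358 Q43358 (allL N43358 (tt N68331 (iv1 F363795)) (tt N68184 (iv0 F363796)) (tt N60903 (iv2 F177178)) (tt N76806 (iv3 F239984)) (tt N76808 (iv4 F239986)) (tt N60858 (iv5 F177045)) (tt N22134 (iv6 D72091)) (tt N76809 D152777))
theorem Q43360 : ∀ i, i < 43360 → P i := stepQ 43359 Q43359 (allL N43359 (tt N76810 D152778) (tt N76811 D152779) (tt N76812 D152780) (tt N22135 (iv3 D72092)) (tt N75182 (iv4 F230545)) (tt N76813 D152781) (tt N76814 D152782) (tt N63383 (iv7 F187149)))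
theorem Q43361 : ∀ i, i < 43361 → P i := stepQ 43360 Q43360 (allL N43360 (tt N63688 (iv1 F188680)) (tt N63687 F188679) (tt N62990 (iv2 F184289)) (tt N76813 (iv3 F239987)) (tt N61465 (iv4 F178883)) (tt N22135 (iv5 D72093)) (tt N76815 D152783) (tt N63384 (iv7 F187151)))
theorem Q43362 : ∀ i, i < 43362 → P i := stepQ 43361 Q43361 (allL N43361 (tt N76816 D152784) (tt N76817 D152785) (tt N62986 (iv2 F184272)) (tt N76814 (iv3 F239988)) (tt N22136 F108550) (tt N76818 D152786) (tt N22135 (iv6 D72094)) (tt N76819 D152787))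
theorem Q43363 : ∀ i, i < 43363 → P i := stepQ 43362 Q43362 (allL N43362 (tt N22136 (iv1 D72096)) (tt N22735 F318287) (tt N39956 (iv2 F320480)) (tt N40017 (iv3 F320549)) (tt N76820 D152788) (tt N74984 (iv5 F229957)) (tt N33436 F322175) (tt N62985 F200304))
theorem Q43364 : ∀ i, i < 43364 → P i := stepQ 43363 Q43363 (allL N43363 (tt N39956 F318399) (tt N62985 F184269) (tt N22735 (iv2 F316078)) (tt N65220 (iv3 F200399)) (tt N76819 (iv4 F239991)) (tt N62846 (iv5 F183884)) (tt N22733 F313702) (tt N22136 (iv7 D72097)))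
theorem Q43365 : ∀ i, i < 43365 → P i := stepQ 43364 Q43364 (allL N43364 (tt N22141 (iv1 F108555)) (tt N22137 (iv0 D72098)) (tt N67066 (iv2 F206485)) (tt N76821 D152789) (tt N40288 F323756) (tt N63687 (iv5 F188678)) (tt N76822 D152790) (tt N56097 F162637))
theorem Q43366 : ∀ i, i < 43366 → P i := stepQ 43365 Q43365 (allL N43365 (tt N22137 (iv1 D72099)) (tt N22141 F108556) (tt N56097 (iv2 F162634)) (tt N76823 D152791) (tt N56093 (iv4 F162621)) (tt N63688 (iv5 F188681)) (tt N76791 (iv6 F239942)) (tt N67066 (iv7 F206486)))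
theorem Q43367 : ∀ i, i < 43367 → P i := stepQ 43366 Q43366 (allL N43366 (tt N76824 D152792) (tt N76825 D152793) (tt N76826 D152794) (tt N22137 (iv3 D72100)) (tt N63765 (iv4 F189404)) (tt N76827 D152795) (tt N76828 D152796) (tt N76159 (iv7 F237146)))
theorem Q43368 : ∀ i, i < 43368 → P i := stepQ 43367 Q43367 (allL N43367 (tt N76829 D152797) (tt N76830 D152798) (tt N76602 (iv2 F239493)) (tt N76827 (iv3 F239994)) (tt N76712 (iv4 F239761)) (tt N22137 (iv5 D72101)) (tt N76831 D152799) (tt N76603 (iv7 F239509)))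
theorem Q43369 : ∀ i, i < 43369 → P i := stepQ 43368 Q43368 (allL N43368 (tt N76832 D152800) (tt N76833 D152801) (tt N73206 (iv2 F318327)) (tt N76828 (iv3 F239995)) (tt N22139 F108557) (tt N59873 (iv5 F359502)) (tt N22137 (iv6 D72102)) (tt N62692 (iv7 F318322)))
theorem Q43370 : ∀ i, i < 43370 → P i := stepQ 43369 Q43369 (allL N43369 (tt N42356 F108561) (tt N38205 F114657) (tt N56033 (iv2 F162378)) (tt N22577 F108558) (tt N22138 (iv4 D72103)) (tt N61371 (iv5 F178699)) (tt N32434 F108559) (tt N23250 F108560))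
theorem Q43371 : ∀ i, i < 43371 → P i := stepQ 43370 Q43370 (allL N43370 (tt N76834 D152811) (tt N61890 (iv0 F366268)) (tt N76835 D152813) (tt N22141 (iv3 D72108)) (tt N66895 (iv4 F206035)) (tt N76836 D152814) (tt N61856 (iv6 F322283)) (tt N76601 (iv7 F239492)))
theorem Q43372 : ∀ i, i < 43372 → P i := stepQ 43371 Q43371 (allL N43371 (tt N76830 (iv1 F240000)) (tt N76829 F239997) (tt N76603 (iv2 F239508)) (tt N76836 (iv3 F240034)) (tt N76709 (iv4 F239760)) (tt N22141 (iv5 D72109)) (tt N76837 D152816) (tt N76602 (iv7 F239494)))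
theorem Q43373 : ∀ i, i < 43373 → P i := stepQ 43372 Q43372 (allL N43372 (tt N38205 F108572) (tt N42356 (iv0 F108571)) (tt N23250 F108568) (tt N23235 F108569) (tt N22142 (iv4 D72111)) (tt N61372 F178705) (tt N23234 F108570) (tt N56033 (iv7 F162380)))
theorem Q43374 : ∀ i, i < 43374 → P i := stepQ 43373 Q43373 (allL N43373 (tt N76838 D152826) (tt N55121 (iv0 F366191)) (tt N76839 D152828) (tt N22143 (iv3 D72115)) (tt N63495 (iv4 F187729)) (tt N76840 D152829) (tt N76841 D152830) (tt N76606 (iv7 F239533)))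
theorem Q43375 : ∀ i, i < 43375 → P i := stepQ 43374 Q43374 (allL N43374 (tt N36621 (iv1 F162642)) (tt N29768 F108574) (tt N33894 F108573) (tt N63496 (iv3 F187728)) (tt N22143 (iv4 D72116)) (tt N57443 (iv5 F166757)) (tt N76842 D152831) (tt N72777 (iv7 F323311)))
theorem Q43376 : ∀ i, i < 43376 → P i := stepQ 43375 Q43375 (allL N43375 (tt N76843 D152832) (tt N76844 D152833) (tt N76605 (iv2 F239526)) (tt N76840 (iv3 F240045)) (tt N76704 (iv4 F239747)) (tt N22143 (iv5 D72117)) (tt N76845 D152834) (tt N76607 (iv7 F239535)))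
theorem Q43377 : ∀ i, i < 43377 → P i := stepQ 43376 Q43376 (allL N43376 (tt N73203 (iv1 F351411)) (tt N40500 F351412) (tt N73202 (iv2 F318317)) (tt N76841 (iv3 F240046)) (tt N76842 (iv4 F240048)) (tt N76846 D152837) (tt N22143 (iv6 D72118)) (tt N72644 (iv7 F351409)))
theorem Q43378 : ∀ i, i < 43378 → P i := stepQ 43377 Q43377 (allL N43377 (tt N76847 D152839) (tt N76848 D152840) (tt N76849 D152841) (tt N22144 (iv3 D72119)) (tt N74504 (iv4 F228067)) (tt N76850 D152842) (tt N72645 (iv6 F322285)) (tt N76604 (iv7 F239525)))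
theorem Q43379 : ∀ i, i < 43379 → P i := stepQ 43378 Q43378 (allL N43378 (tt N76844 (iv1 F240053)) (tt N76843 F240050) (tt N76607 (iv2 F239534)) (tt N76850 (iv3 F240057)) (tt N76697 (iv4 F239739)) (tt N22144 (iv5 D72120)) (tt N76851 D152844) (tt N76605 (iv7 F239527)))
theorem Q43380 : ∀ i, i < 43380 → P i := stepQ 43379 Q43379 (allL N43379 (tt N63666 (iv1 F188655)) (tt N22145 (iv0 D72127)) (tt N76611 F239543) (tt N76852 D152867) (tt N76689 (iv4 F239724)) (tt N63671 (iv5 F188671)) (tt N76853 D152868) (tt N76612 (iv7 F239546)))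
theorem Q43381 : ∀ i, i < 43381 → P i := stepQ 43380 Q43380 (allL N43380 (tt N22145 (iv1 D72128)) (tt N63666 F188654) (tt N76612 F239547) (tt N76854 D152869) (tt N76683 (iv4 F239720)) (tt N63670 (iv5 F188665)) (tt N76855 D152870) (tt N76611 F239544))
theorem Q43382 : ∀ i, i < 43382 → P i := stepQ 43381 Q43381 (allL N43381 (tt N63689 (iv1 F188684)) (tt N61465 F188646) (tt N76613 (iv2 F239548)) (tt N76856 D152871) (tt N22145 (iv4 D72129)) (tt N63663 (iv5 F188645)) (tt N76857 D152872) (tt N76584 (iv7 F239390)))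
theorem Q43383 : ∀ i, i < 43383 → P i := stepQ 43382 Q43382 (allL N43382 (tt N76858 D152873) (tt N76859 D152874) (tt N76614 (iv2 F239551)) (tt N72832 (iv3 F325053)) (tt N76857 (iv4 F240072)) (tt N76802 (iv5 F239977)) (tt N22145 (iv6 D72130)) (tt N76860 D152875))
theorem Q43384 : ∀ i, i < 43384 → P i := stepQ 43383 Q43383 (allL N43383 (tt N76612 (iv1 F239545)) (tt N76611 F239542) (tt N63666 (iv2 F188651)) (tt N61900 (iv3 F323322)) (tt N76584 (iv4 F239391)) (tt N22146 F108579) (tt N76861 D152876) (tt N22145 (iv7 D72131)))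
theorem Q43385 : ∀ i, i < 43385 → P i := stepQ 43384 Q43384 (allL N43384 (tt N76862 D152877) (tt N76863 D152878) (tt N63667 (iv2 F188656)) (tt N61901 (iv3 F321403)) (tt N22147 F108580) (tt N76864 D152879) (tt N22146 (iv6 D72132)) (tt N76804 (iv7 F239980)))
theorem Q43386 : ∀ i, i < 43386 → P i := stepQ 43385 Q43385 (allL N43385 (tt N63669 (iv1 F188664)) (tt N22147 (iv0 D72133)) (tt N63668 F200715) (tt N22539 F200716) (tt N76865 D152880) (tt N43997 (iv5 F311858)) (tt N65304 F200717) (tt N43996 F311561))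
theorem Q43387 : ∀ i, i < 43387 → P i := stepQ 43386 Q43386 (allL N43386 (tt N22147 (iv1 D72134)) (tt N63669 F188663) (tt N43996 (iv2 F311445)) (tt N75511 (iv3 F243063)) (tt N76866 D152883) (tt N43995 F309666) (tt N72678 (iv6 F349391)) (tt N63668 (iv7 F200720)))
theorem Q43388 : ∀ i, i < 43388 → P i := stepQ 43387 Q43387 (allL N43387 (tt N22266 F190113) (tt N22157 (iv0 F190541)) (tt N22268 F190115) (tt N43542 F190116) (tt N76867 D152888) (tt N22148 (iv5 D72138)) (tt N46578 (iv6 F308111)) (tt N22224 F190117))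
theorem Q43389 : ∀ i, i < 43389 → P i := stepQ 43388 Q43388 (allL N43388 (tt N25516 F302075) (tt N22851 F191287) (tt N22150 F108585) (tt N64337 (iv3 F303723)) (tt N22149 (iv4 D72145)) (tt N76868 D152889) (tt N76869 D152890) (tt N22263 F190091))
theorem Q43390 : ∀ i, i < 43390 → P i := stepQ 43389 Q43389 (allL N43389 (tt N22866 F190106) (tt N65264 (iv0 F200525)) (tt N22151 F108587) (tt N47978 F130244) (tt N76869 (iv4 F240098)) (tt N35363 (iv5 F190134)) (tt N22149 (iv6 D72147)) (tt N43678 F190107))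
theorem Q43391 : ∀ i, i < 43391 → P i := stepQ 43390 Q43390 (allL N43390 (tt N76870 D152895) (tt N76871 D152896) (tt N76868 (iv2 F240094)) (tt N24334 F108588) (tt N76872 D152897) (tt N22150 (iv5 D72150)) (tt N76873 D152898) (tt N63378 (iv7 F187027)))
theorem Q43392 : ∀ i, i < 43392 → P i := stepQ 43391 Q43391 (allL N43391 (tt N76874 D152899) (tt N48997 (iv0 F308315)) (tt N76869 (iv2 F240097)) (tt N24335 F108589) (tt N22151 F108590) (tt N43742 F190092) (tt N22150 (iv6 D72151)) (tt N76875 D152901))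
theorem Q43393 : ∀ i, i < 43393 → P i := stepQ 43392 Q43392 (allL N43392 (tt N43678 F190123) (tt N22151 (iv0 D72156)) (tt N22866 F190816) (tt N76729 (iv3 F239786)) (tt N76876 D152913) (tt N63713 F190815) (tt N22204 F190817) (tt N65264 (iv7 F200524)))
theorem Q43394 : ∀ i, i < 43394 → P i := stepQ 43393 Q43393 (allL N43393 (tt N22151 (iv1 D72157)) (tt N43678 F190124) (tt N65264 (iv2 F200523)) (tt N76877 D152914) (tt N55352 (iv4 F308501)) (tt N63714 F190833) (tt N48443 F306658) (tt N22866 F190829))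
theorem Q43395 : ∀ i, i < 43395 → P i := stepQ 43394 Q43394 (allL N43394 (tt N65264 F200527) (tt N22866 F190126) (tt N43678 F190127) (tt N22153 F108592) (tt N76875 (iv4 F240122)) (tt N34298 F108593) (tt N43833 (iv6 F190149)) (tt N22151 (iv7 D72158)))
theorem Q43396 : ∀ i, i < 43396 → P i := stepQ 43395 Q43395 (allL N43395 (tt N22154 (iv1 D72178)) (tt N63374 (iv0 F186968)) (tt N36485 F300644) (tt N76539 (iv3 F303428)) (tt N46479 (iv4 F123800)) (tt N76878 D152923) (tt N36483 F300645) (tt N22994 F188322))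
theorem Q43397 : ∀ i, i < 43397 → P i := stepQ 43396 Q43396 (allL N43396 (tt N76879 D152924) (tt N47413 (iv0 F188505)) (tt N63487 (iv2 F187675)) (tt N24340 F108623) (tt N24015 F326272) (tt N22154 (iv5 D72179)) (tt N76880 D152926) (tt N63375 (iv7 F186975)))
theorem Q43398 : ∀ i, i < 43398 → P i := stepQ 43397 Q43397 (allL N43397 (tt N63623 (iv1 F188504)) (tt N63624 (iv0 F233875)) (tt N63488 (iv2 F187676)) (tt N24341 F108624) (tt N22156 F108625) (tt N76881 D152927) (tt N22154 (iv6 D72180)) (tt N75638 (iv7 F233264)))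
theorem Q43399 : ∀ i, i < 43399 → P i := stepQ 43398 Q43398 (allL N43398 (tt N33399 F321236) (tt N22155 (iv0 D72181)) (tt N33407 F322194) (tt N40955 F348315) (tt N76882 D152929) (tt N47958 (iv5 F130478)) (tt N39986 F318393) (tt N33406 F322195))
theorem Q43400 : ∀ i, i < 43400 → P i := stepQ 43399 Q43399 (allL N43399 (tt N54465 (iv1 F356237)) (tt N73600 (iv0 F322907)) (tt N63489 (iv2 F187678)) (tt N36198 F321233) (tt N22155 (iv4 D72183)) (tt N49731 (iv5 F352748)) (tt N40802 F321234) (tt N33403 F321235))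
theorem Q43401 : ∀ i, i < 43401 → P i := stepQ 43400 Q43400 (allL N43400 (tt N22268 (iv1 F190638)) (tt N22224 (iv0 F190651)) (tt N22157 (iv2 D72189)) (tt N63379 (iv3 F187035)) (tt N76883 D152937) (tt N46670 (iv5 F125763)) (tt N62588 (iv6 F340811)) (tt N22266 F190604))
theorem Q43402 : ∀ i, i < 43402 → P i := stepQ 43401 Q43401 (allL N43401 (tt N76884 D152939) (tt N66874 (iv0 F205958)) (tt N76883 (iv2 F240168)) (tt N44452 (iv3 F318355)) (tt N22157 (iv4 D72190)) (tt N76885 D152940) (tt N72706 F316122) (tt N44447 F316123))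
theorem Q43403 : ∀ i, i < 43403 → P i := stepQ 43402 Q43402 (allL N43402 (tt N49733 (iv1 F335757)) (tt N53425 (iv0 F352733)) (tt N53423 (iv2 F337149)) (tt N30636 (iv3 F318274)) (tt N22158 (iv4 D72195)) (tt N76886 D152951) (tt N30634 F316058) (tt N53424 (iv7 F346756)))
theorem Q43404 : ∀ i, i < 43404 → P i := stepQ 43403 Q43403 (allL N43403 (tt N57197 (iv1 F322059)) (tt N57196 (iv0 F322055)) (tt N22161 F108654) (tt N29289 F325992) (tt N22160 (iv4 D72211)) (tt N76206 (iv5 F237667)) (tt N73176 (iv6 F331040)) (tt N22271 F108655))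
theorem Q43405 : ∀ i, i < 43405 → P i := stepQ 43404 Q43404 (allL N43404 (tt N71907 (iv1 F350047)) (tt N76887 D152992) (tt N76206 (iv2 F237665)) (tt N51063 (iv3 F339940)) (tt N51071 (iv4 F339901)) (tt N22161 (iv5 D72213)) (tt N72225 (iv6 F331042)) (tt N57198 (iv7 F322066)))
theorem Q43406 : ∀ i, i < 43406 → P i := stepQ 43405 Q43405 (allL N43405 (tt N46578 F310142) (tt N22278 (iv0 F242943)) (tt N76211 (iv2 F242940)) (tt N22162 (iv3 D72287)) (tt N76888 D153170) (tt N24951 F310143) (tt N42081 F242928) (tt N51605 F310144))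
theorem Q43407 : ∀ i, i < 43407 → P i := stepQ 43406 Q43406 (allL N43406 (tt N63191 (iv1 F215871)) (tt N63493 (iv0 F215870)) (tt N63501 (iv2 F312389)) (tt N22163 (iv3 D72291)) (tt N76889 D153173) (tt N62564 F314249) (tt N58543 (iv6 F316638)) (tt N63382 (iv7 F187127)))
theorem Q43408 : ∀ i, i < 43408 → P i := stepQ 43407 Q43407 (allL N43407 (tt N76890 D153175) (tt N76891 D153176) (tt N76892 D153177) (tt N22164 (iv3 D72295)) (tt N63383 (iv4 F187147)) (tt N76893 D153178) (tt N65217 (iv6 F200388)) (tt N75182 (iv7 F230546)))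
theorem Q43409 : ∀ i, i < 43409 → P i := stepQ 43408 Q43408 (allL N43408 (tt N66904 (iv1 F206051)) (tt N66859 (iv0 F205902)) (tt N22421 F108745) (tt N76893 (iv3 F240477)) (tt N43595 F109233) (tt N22164 (iv5 D72296)) (tt N76894 D153179) (tt N66901 (iv7 F206041)))
theorem Q43410 : ∀ i, i < 43410 → P i := stepQ 43409 Q43409 (allL N43409 (tt N22860 F112576) (tt N22864 F112577) (tt N22209 F108750) (tt N39842 F322842) (tt N36433 F108751) (tt N76895 D153180) (tt N22167 (iv6 D72301)) (tt N76896 D153181))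
theorem Q43411 : ∀ i, i < 43411 → P i := stepQ 43410 Q43410 (allL N43410 (tt N22170 (iv1 D72326)) (tt N22382 F130768) (tt N22289 F130769) (tt N22399 F130770) (tt N36514 F130771) (tt N52371 (iv5 F314793)) (tt N47063 F304699) (tt N22383 F130772))
theorem Q43412 : ∀ i, i < 43412 → P i := stepQ 43411 Q43411 (allL N43411 (tt N22289 (iv1 F162953)) (tt N22383 F162950) (tt N22382 F130773) (tt N22728 F308042) (tt N47307 F306740) (tt N74845 (iv5 F229482)) (tt N22726 (iv6 F308615)) (tt N22170 (iv7 D72327)))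
theorem Q43413 : ∀ i, i < 43413 → P i := stepQ 43412 Q43412 (allL N43412 (tt N22171 (iv1 D72329)) (tt N43437 F108872) (tt N42166 (iv2 F192086)) (tt N45200 (iv3 F233083)) (tt N75763 (iv4 F233705)) (tt N42058 (iv5 F108783)) (tt N43716 F191086) (tt N43436 F192087))
theorem Q43414 : ∀ i, i < 43414 → P i := stepQ 43413 Q43413 (allL N43413 (tt N42166 (iv1 F108787)) (tt N43436 F108871) (tt N43437 (iv2 F108867)) (tt N33863 F108784) (tt N66841 (iv4 F205807)) (tt N41324 F108785) (tt N42726 F108786) (tt N22171 (iv7 D72330)))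
theorem Q43415 : ∀ i, i < 43415 → P i := stepQ 43414 Q43414 (allL N43414 (tt N43531 (iv1 F109156)) (tt N22172 (iv0 D72331)) (tt N43530 (iv2 F128194)) (tt N34106 (iv3 F301469)) (tt N34872 F109157) (tt N61278 (iv5 F178492)) (tt N76897 D153207) (tt N43529 (iv7 F128197)))
theorem Q43416 : ∀ i, i < 43416 → P i := stepQ 43415 Q43415 (allL N43415 (tt N22172 (iv1 D72332)) (tt N43531 F109158) (tt N43529 F128195) (tt N45430 (iv3 F115821)) (tt N34873 (iv4 F108789)) (tt N61279 (iv5 F178500)) (tt N76898 D153208) (tt N43530 F128192))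
theorem Q43417 : ∀ i, i < 43417 → P i := stepQ 43416 Q43416 (allL N43416 (tt N43530 F109152) (tt N43529 F109149) (tt N22172 (iv2 D72333)) (tt N43439 (iv3 F108878)) (tt N22214 F108790) (tt N45030 (iv5 F114410)) (tt N28593 (iv6 F301486)) (tt N43531 (iv7 F109155)))
theorem Q43418 : ∀ i, i < 43418 → P i := stepQ 43417 Q43417 (allL N43417 (tt N28578 (iv1 F303563)) (tt N28250 (iv0 F303564)) (tt N28593 (iv2 F301485)) (tt N22174 F108791) (tt N22216 F108792) (tt N54239 (iv5 F303521)) (tt N22172 (iv6 D72334)) (tt N28592 F300765))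
theorem Q43419 : ∀ i, i < 43419 → P i := stepQ 43418 Q43418 (allL N43418 (tt N76899 D153214) (tt N76900 D153215) (tt N36575 F108793) (tt N54426 (iv3 F346732)) (tt N43487 (iv4 F108990)) (tt N47189 F308263) (tt N22173 (iv6 D72335)) (tt N76901 D153217))
theorem Q43420 : ∀ i, i < 43420 → P i := stepQ 43419 Q43419 (allL N43419 (tt N27968 F300715) (tt N45565 F300716) (tt N43440 (iv2 F108882)) (tt N54239 (iv3 F303520)) (tt N47033 F305620) (tt N22174 (iv5 D72338)) (tt N47189 (iv6 F306315)) (tt N46807 F300717))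
theorem Q43421 : ∀ i, i < 43421 → P i := stepQ 43420 Q43420 (allL N43420 (tt N48425 F305663) (tt N24247 F305664) (tt N43441 F109780) (tt N44045 F190826) (tt N68266 (iv4 F243086)) (tt N22175 (iv5 D72343)) (tt N43720 (iv6 F109507)) (tt N43442 F109773))
theorem Q43422 : ∀ i, i < 43422 → P i := stepQ 43421 Q43421 (allL N43421 (tt N24247 (iv1 F304660)) (tt N48425 (iv0 F304698)) (tt N43442 F109775) (tt N38349 F305263) (tt N52245 (iv4 F305690)) (tt N22176 (iv5 D72347)) (tt N44510 (iv6 F190824)) (tt N43441 (iv7 F109779)))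
theorem Q43423 : ∀ i, i < 43423 → P i := stepQ 43422 Q43422 (allL N43422 (tt N43445 (iv1 F108897)) (tt N22177 (iv0 D72349)) (tt N43443 (iv2 F190790)) (tt N54299 F304553) (tt N37644 F190451) (tt N47328 F304554) (tt N27722 F304555) (tt N43444 (iv7 F190732)))
theorem Q43424 : ∀ i, i < 43424 → P i := stepQ 43423 Q43423 (allL N43423 (tt N22177 (iv1 D72350)) (tt N43445 F108896) (tt N43444 (iv2 F190730)) (tt N22828 F190423) (tt N46601 (iv4 F305341)) (tt N47300 F302966) (tt N46650 (iv6 F305343)) (tt N43443 (iv7 F190793)))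
theorem Q43425 : ∀ i, i < 43425 → P i := stepQ 43424 Q43424 (allL N43424 (tt N44583 F112584) (tt N46652 (iv0 F311837)) (tt N37450 F108804) (tt N58890 (iv3 F326958)) (tt N37500 F185212) (tt N44556 (iv5 F112534)) (tt N22179 (iv6 D72354)) (tt N37497 (iv7 F185238)))
theorem Q43426 : ∀ i, i < 43426 → P i := stepQ 43425 Q43425 (allL N43425 (tt N76902 D153231) (tt N76903 D153232) (tt N22826 F108805) (tt N62755 (iv3 F183472)) (tt N64029 (iv4 F311174)) (tt N41961 F108806) (tt N22180 (iv6 D72355)) (tt N76904 D153233))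
theorem Q43427 : ∀ i, i < 43427 → P i := stepQ 43426 Q43426 (allL N43426 (tt N69669 (iv1 F215540)) (tt N57424 F209850) (tt N22817 F108814) (tt N22230 F108815) (tt N22823 F185289) (tt N22410 F108816) (tt N22182 (iv6 D72358)) (tt N43840 F185290))
theorem Q43428 : ∀ i, i < 43428 → P i := stepQ 43427 Q43427 (allL N43427 (tt N35097 F108823) (tt N35095 F108824) (tt N36446 F108820) (tt N67921 (iv3 F304576)) (tt N22219 F108822) (tt N22183 (iv5 D72360)) (tt N67926 (iv6 F342775)) (tt N36447 F108821))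
theorem Q43429 : ∀ i, i < 43429 → P i := stepQ 43428 Q43428 (allL N43428 (tt N76905 D153241) (tt N46830 (iv0 F127186)) (tt N63593 (iv2 F188244)) (tt N22185 (iv3 D72366)) (tt N33926 F108838) (tt N76906 D153242) (tt N76907 D153243) (tt N36525 F108839))
theorem Q43430 : ∀ i, i < 43430 → P i := stepQ 43429 Q43429 (allL N43429 (tt N35095 F108843) (tt N35097 F108844) (tt N36447 F108840) (tt N76906 (iv3 F240693)) (tt N22218 F108841) (tt N22185 (iv5 D72367)) (tt N76908 D153244) (tt N36446 F108842))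
theorem Q43431 : ∀ i, i < 43431 → P i := stepQ 43430 Q43430 (allL N43430 (tt N36518 (iv1 F185359)) (tt N36519 (iv0 F131212)) (tt N36528 F108845) (tt N76907 (iv3 F240697)) (tt N22186 F108846) (tt N76909 D153245) (tt N22185 (iv6 D72368)) (tt N36598 (iv7 F131195)))
theorem Q43432 : ∀ i, i < 43432 → P i := stepQ 43431 Q43431 (allL N43431 (tt N22187 (iv1 D72373)) (tt N43089 F302990) (tt N34014 (iv2 F303862)) (tt N25484 F302991) (tt N34486 F302992) (tt N25483 (iv5 F305374)) (tt N44544 (iv6 F309499)) (tt N34875 (iv7 F303993)))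
theorem Q43433 : ∀ i, i < 43433 → P i := stepQ 43432 Q43432 (allL N43432 (tt N43096 (iv1 F305318)) (tt N29774 (iv0 F306670)) (tt N24109 (iv2 F306144)) (tt N22195 F108856) (tt N24108 (iv4 F306810)) (tt N22187 (iv5 D72374)) (tt N22188 F108857) (tt N47960 (iv7 F305667)))
theorem Q43434 : ∀ i, i < 43434 → P i := stepQ 43433 Q43433 (allL N43433 (tt N34014 (iv1 F303861)) (tt N34875 (iv0 F303992)) (tt N43089 F303561) (tt N22196 F108859) (tt N49645 (iv4 F286787)) (tt N47960 (iv5 F305666)) (tt N43503 (iv6 F109114)) (tt N22187 (iv7 D72375)))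
theorem Q43435 : ∀ i, i < 43435 → P i := stepQ 43434 Q43434 (allL N43434 (tt N75387 (iv1 F303566)) (tt N46810 (iv0 F127151)) (tt N47331 (iv2 F128675)) (tt N22189 (iv3 D72376)) (tt N23885 F108863) (tt N66936 (iv5 F206179)) (tt N76910 D153251) (tt N36439 F108864))
theorem Q43436 : ∀ i, i < 43436 → P i := stepQ 43435 Q43435 (allL N43435 (tt N75765 F233841) (tt N70096 (iv0 F317698)) (tt N36443 F108865) (tt N76910 (iv3 F240744)) (tt N22190 F108866) (tt N75197 (iv5 F340248)) (tt N22189 (iv6 D72377)) (tt N75776 (iv7 F233879)))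
theorem Q43437 : ∀ i, i < 43437 → P i := stepQ 43436 Q43436 (allL N43436 (tt N43413 (iv1 F108871)) (tt N22190 (iv0 D72378)) (tt N34542 (iv2 F192075)) (tt N42489 F233060) (tt N42427 (iv4 F192122)) (tt N75321 (iv5 F231153)) (tt N76911 D153253) (tt N43412 (iv7 F192087)))
theorem Q43438 : ∀ i, i < 43438 → P i := stepQ 43437 Q43437 (allL N43437 (tt N43412 (iv1 F108872)) (tt N34542 (iv0 F192088)) (tt N43413 F108867) (tt N23890 F108868) (tt N75776 (iv4 F233876)) (tt N41972 F108869) (tt N43303 F108870) (tt N22190 (iv7 D72379)))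
theorem Q43439 : ∀ i, i < 43439 → P i := stepQ 43438 Q43438 (allL N43438 (tt N48974 (iv1 F134972)) (tt N22191 (iv0 D72380)) (tt N52853 (iv2 F151712)) (tt N24422 F108877) (tt N28378 F108876) (tt N41930 F108874) (tt N76532 (iv6 F357447)) (tt N52855 (iv7 F151720)))
theorem Q43440 : ∀ i, i < 43440 → P i := stepQ 43439 Q43439 (allL N43439 (tt N52853 (iv1 F151716)) (tt N52855 (iv0 F151721)) (tt N22191 (iv2 D72381)) (tt N43416 F108878) (tt N24388 F108879) (tt N64039 (iv5 F192369)) (tt N53896 (iv6 F302429)) (tt N48974 (iv7 F134970)))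
theorem Q43441 : ∀ i, i < 43441 → P i := stepQ 43440 Q43440 (allL N43440 (tt N52790 (iv1 F300718)) (tt N24457 F299512) (tt N43419 F108882) (tt N23532 (iv3 F302462)) (tt N45647 (iv4 F302463)) (tt N22192 (iv5 D72385)) (tt N63698 (iv6 F304289)) (tt N52792 (iv7 F300714)))
theorem Q43442 : ∀ i, i < 43442 → P i := stepQ 43441 Q43441 (allL N43441 (tt N25404 F304867) (tt N42096 (iv0 F185295)) (tt N43420 (iv2 F109780)) (tt N63733 (iv3 F190822)) (tt N47700 (iv4 F306806)) (tt N22193 (iv5 D72390)) (tt N54157 (iv6 F310324)) (tt N43421 F109779))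
theorem Q43443 : ∀ i, i < 43443 → P i := stepQ 43442 Q43442 (allL N43442 (tt N42096 (iv1 F185296)) (tt N25404 F304868) (tt N43421 (iv2 F109775)) (tt N33945 F190464) (tt N68411 F215352) (tt N22194 (iv5 D72394)) (tt N74679 (iv6 F350138)) (tt N43420 (iv7 F109773)))
theorem Q43444 : ∀ i, i < 43444 → P i := stepQ 43443 Q43443 (allL N43443 (tt N24272 (iv1 F302466)) (tt N22195 (iv0 D72396)) (tt N43422 F190790) (tt N30506 F190791) (tt N52386 (iv4 F304557)) (tt N63569 (iv5 F302789)) (tt N24277 (iv6 F301918)) (tt N43423 F190793))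
theorem Q43445 : ∀ i, i < 43445 → P i := stepQ 43444 Q43444 (allL N43444 (tt N22195 (iv1 D72397)) (tt N24272 F304869) (tt N43423 F190730) (tt N33948 F190731) (tt N68594 (iv4 F211094)) (tt N43640 (iv5 F109340)) (tt N75610 (iv6 F324855)) (tt N43422 F190732))
theorem Q43446 : ∀ i, i < 43446 → P i := stepQ 43445 Q43445 (allL N43445 (tt N43423 (iv1 F108896)) (tt N43422 F108897) (tt N24272 F303562) (tt N47960 (iv3 F305665)) (tt N24278 (iv4 F305609)) (tt N22196 F108894) (tt N44522 (iv6 F112407)) (tt N22195 (iv7 D72399)))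
theorem Q43447 : ∀ i, i < 43447 → P i := stepQ 43446 Q43446 (allL N43446 (tt N22250 (iv1 F108900)) (tt N22249 F108901) (tt N22252 F108898) (tt N43503 (iv3 F109113)) (tt N46467 F190214) (tt N43871 (iv5 F110069)) (tt N22196 (iv6 D72400)) (tt N22197 F108899))
theorem Q43448 : ∀ i, i < 43448 → P i := stepQ 43447 Q43447 (allL N43447 (tt N22252 (iv1 F108902)) (tt N22197 (iv0 D72401)) (tt N22249 F190161) (tt N34124 F190138) (tt N36486 F190139) (tt N62516 (iv5 F322134)) (tt N44438 (iv6 F309248)) (tt N22250 F190162))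
theorem Q43449 : ∀ i, i < 43449 → P i := stepQ 43448 Q43448 (allL N43448 (tt N76912 D153274) (tt N76913 D153275) (tt N24266 (iv2 F310155)) (tt N22199 (iv3 D72405)) (tt N34191 (iv4 F310537)) (tt N48133 F312547) (tt N24264 F308395) (tt N44520 (iv7 F112401)))
theorem Q43450 : ∀ i, i < 43450 → P i := stepQ 43449 Q43449 (allL N43449 (tt N34923 (iv1 F113277)) (tt N34919 (iv0 F108915)) (tt N34512 F108913) (tt N22201 F108914) (tt N45420 (iv4 F115775)) (tt N22200 (iv5 D72407)) (tt N62902 (iv6 F353589)) (tt N43736 (iv7 F109586)))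
theorem Q43451 : ∀ i, i < 43451 → P i := stepQ 43450 Q43450 (allL N43450 (tt N76914 D153278) (tt N76915 D153279) (tt N45333 (iv2 F115318)) (tt N22202 F108919) (tt N63426 (iv4 F187383)) (tt N76916 D153280) (tt N22200 (iv6 D72408)) (tt N76917 D153281))
theorem Q43452 : ∀ i, i < 43452 → P i := stepQ 43451 Q43451 (allL N43451 (tt N76382 (iv1 F353681)) (tt N76918 D153283) (tt N22854 F108920) (tt N62902 (iv3 F353587)) (tt N42426 F108921) (tt N76919 D153284) (tt N22201 (iv6 D72409)) (tt N76920 D153285))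
theorem Q43453 : ∀ i, i < 43453 → P i := stepQ 43452 Q43452 (allL N43452 (tt N22858 (iv1 F108926)) (tt N22202 (iv0 D72410)) (tt N22855 F234052) (tt N76518 (iv3 F339067)) (tt N42469 (iv4 F108928)) (tt N54149 (iv5 F304670)) (tt N28364 F302086) (tt N22856 F234053))
theorem Q43454 : ∀ i, i < 43454 → P i := stepQ 43453 Q43453 (allL N43453 (tt N22202 (iv1 D72411)) (tt N22858 F108922) (tt N22856 F234056) (tt N49644 (iv3 F307560)) (tt N66829 (iv4 F205747)) (tt N54150 (iv5 F307564)) (tt N76874 (iv6 F308314)) (tt N22855 F234057))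
theorem Q43455 : ∀ i, i < 43455 → P i := stepQ 43454 Q43454 (allL N43454 (tt N28699 F305548) (tt N28733 (iv0 F306612)) (tt N22857 F108923) (tt N76916 (iv3 F240822)) (tt N76921 D153292) (tt N22202 (iv5 D72412)) (tt N76919 (iv6 F240826)) (tt N28731 (iv7 F306618)))
theorem Q43456 : ∀ i, i < 43456 → P i := stepQ 43455 Q43455 (allL N43455 (tt N22856 (iv1 F108927)) (tt N22855 F108929) (tt N22858 F108924) (tt N76917 (iv3 F240823)) (tt N22206 F108925) (tt N28731 (iv5 F306617)) (tt N63937 (iv6 F191872)) (tt N22202 (iv7 D72413)))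
theorem Q43457 : ∀ i, i < 43457 → P i := stepQ 43456 Q43456 (allL N43456 (tt N76896 (iv1 F240484)) (tt N22209 F155552) (tt N22860 F155537) (tt N53711 (iv3 F308572)) (tt N22203 (iv4 D72416)) (tt N76922 D153294) (tt N25722 F306691) (tt N22864 F155538))
theorem Q43458 : ∀ i, i < 43458 → P i := stepQ 43457 Q43457 (allL N43457 (tt N54157 (iv1 F310320)) (tt N54148 (iv0 F308433)) (tt N22861 F155539) (tt N75824 (iv3 F234287)) (tt N47747 F311843) (tt N22203 (iv5 D72417)) (tt N47747 F311844) (tt N22865 F155540))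
theorem Q43459 : ∀ i, i < 43459 → P i := stepQ 43458 Q43458 (allL N43458 (tt N22209 F109846) (tt N76896 F240483) (tt N22864 F155547) (tt N76923 D153296) (tt N22204 (iv4 D72420)) (tt N39702 F338929) (tt N76876 (iv6 F240140)) (tt N22860 F155548))
theorem Q43460 : ∀ i, i < 43460 → P i := stepQ 43459 Q43459 (allL N43459 (tt N54148 (iv1 F308434)) (tt N54157 (iv0 F310319)) (tt N22865 F155549) (tt N25408 F308246) (tt N47680 (iv4 F309636)) (tt N22204 (iv5 D72421)) (tt N68363 (iv6 F209976)) (tt N22861 F155550))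
theorem Q43461 : ∀ i, i < 43461 → P i := stepQ 43460 Q43460 (allL N43460 (tt N22825 (iv1 F108937)) (tt N22205 (iv0 D72423)) (tt N22823 (iv2 F110033)) (tt N75826 F234327) (tt N22817 F185279) (tt N43624 (iv5 F110017)) (tt N22816 F185280) (tt N22824 (iv7 F110013)))
theorem Q43462 : ∀ i, i < 43462 → P i := stepQ 43461 Q43461 (allL N43461 (tt N22824 (iv1 F108938)) (tt N22823 F108939) (tt N22825 F108935) (tt N63236 (iv3 F186467)) (tt N37649 F209851) (tt N22206 F108936) (tt N76904 (iv6 F240659)) (tt N22205 (iv7 D72425)))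
theorem Q43463 : ∀ i, i < 43463 → P i := stepQ 43462 Q43462 (allL N43462 (tt N53551 F300229) (tt N22207 (iv0 D72426)) (tt N53553 (iv2 F301796)) (tt N64385 (iv3 F196524)) (tt N46589 F125561) (tt N75986 (iv5 F235196)) (tt N76924 D153299) (tt N48768 (iv7 F301173)))
theorem Q43464 : ∀ i, i < 43464 → P i := stepQ 43463 Q43463 (allL N43463 (tt N75575 (iv1 F305368)) (tt N75574 (iv0 F309426)) (tt N64420 (iv2 F196805)) (tt N22208 F108940) (tt N64624 (iv4 F197929)) (tt N22207 (iv5 D72428)) (tt N76925 D153301) (tt N43659 (iv7 F109360)))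
theorem Q43465 : ∀ i, i < 43465 → P i := stepQ 43464 Q43464 (allL N43464 (tt N63454 (iv1 F312486)) (tt N76926 D153303) (tt N64421 (iv2 F196808)) (tt N22209 F108941) (tt N22844 F310201) (tt N76927 D153304) (tt N22207 (iv6 D72429)) (tt N63847 (iv7 F311980)))
theorem Q43466 : ∀ i, i < 43466 → P i := stepQ 43465 Q43465 (allL N43465 (tt N76928 D153306) (tt N76929 D153307) (tt N33714 F314959) (tt N76925 (iv3 F240865)) (tt N66937 (iv4 F206183)) (tt N76930 D153308) (tt N22208 (iv6 D72430)) (tt N75377 (iv7 F316673)))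
theorem Q43467 : ∀ i, i < 43467 → P i := stepQ 43466 Q43466 (allL N43466 (tt N55333 (iv1 F308294)) (tt N43829 (iv0 F109944)) (tt N76895 (iv2 F240479)) (tt N76927 (iv3 F240866)) (tt N54165 (iv4 F309585)) (tt N22209 (iv5 D72433)) (tt N76930 (iv6 F240869)) (tt N76931 D153312))
theorem Q43468 : ∀ i, i < 43468 → P i := stepQ 43467 Q43467 (allL N43467 (tt N22864 (iv1 F112575)) (tt N22860 (iv0 F109926)) (tt N76896 (iv2 F240480)) (tt N63847 (iv3 F311979)) (tt N42859 F108943) (tt N76931 (iv5 F240870)) (tt N64000 F192128) (tt N22209 (iv7 D72434)))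
theorem Q43469 : ∀ i, i < 43469 → P i := stepQ 43468 Q43468 (allL N43468 (tt N75375 (iv1 F316669)) (tt N72809 (iv0 F316668)) (tt N43660 (iv2 F109361)) (tt N64423 (iv3 F196824)) (tt N66939 (iv4 F206189)) (tt N76932 D153315) (tt N22210 (iv6 D72435)) (tt N75374 (iv7 F316672)))
theorem Q43470 : ∀ i, i < 43470 → P i := stepQ 43469 Q43469 (allL N43469 (tt N76933 D153317) (tt N76934 D153318) (tt N76010 (iv2 F235628)) (tt N48178 F308336) (tt N76935 D153319) (tt N22211 (iv5 D72438)) (tt N76932 (iv6 F240871)) (tt N76936 D153320))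
theorem Q43471 : ∀ i, i < 43471 → P i := stepQ 43470 Q43470 (allL N43470 (tt N55337 (iv1 F307359)) (tt N63994 F192106) (tt N64000 (iv2 F192130)) (tt N57689 (iv3 F315115)) (tt N76008 (iv4 F235617)) (tt N76936 (iv5 F240876)) (tt N76896 (iv6 F240482)) (tt N22211 (iv7 D72439)))
theorem Q43472 : ∀ i, i < 43472 → P i := stepQ 43471 Q43471 (allL N43471 (tt N22213 (iv1 F108945)) (tt N22212 (iv0 D72440)) (tt N22217 (iv2 F108944)) (tt N22255 (iv3 F108947)) (tt N43531 (iv4 F109153)) (tt N32631 (iv5 F108948)) (tt N76937 D153321) (tt N22214 F108946))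
theorem Q43473 : ∀ i, i < 43473 → P i := stepQ 43472 Q43472 (allL N43472 (tt N22217 (iv1 F108953)) (tt N22214 F108951) (tt N22212 (iv2 D72441)) (tt N46821 (iv3 F127170)) (tt N43257 F108952) (tt N32669 F108949) (tt N76938 D153322) (tt N22213 F108950))
theorem Q43474 : ∀ i, i < 43474 → P i := stepQ 43473 Q43473 (allL N43473 (tt N23457 F108956) (tt N44758 F298175) (tt N43257 F108954) (tt N76939 D153323) (tt N22212 (iv4 D72442)) (tt N42997 F108955) (tt N76940 D153324) (tt N44759 F298167))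
theorem Q43475 : ∀ i, i < 43475 → P i := stepQ 43474 Q43474 (allL N43474 (tt N76941 D153325) (tt N76923 (iv0 F345839)) (tt N76938 (iv2 F240880)) (tt N43044 F108957) (tt N76940 (iv4 F240889)) (tt N47807 F339096) (tt N22212 (iv6 D72443)) (tt N76942 D153328))
theorem Q43476 : ∀ i, i < 43476 → P i := stepQ 43475 Q43475 (allL N43475 (tt N28026 F303448) (tt N64385 F196526) (tt N43098 F108958) (tt N22213 (iv3 D72444)) (tt N43158 F306773) (tt N76943 D153329) (tt N43135 (iv6 F308618)) (tt N46821 (iv7 F127171)))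
theorem Q43477 : ∀ i, i < 43477 → P i := stepQ 43476 Q43476 (allL N43476 (tt N32678 (iv1 F108965)) (tt N32677 F108963) (tt N29563 F108960) (tt N76943 (iv3 F240894)) (tt N29562 F108961) (tt N22213 (iv5 D72445)) (tt N76944 D153331) (tt N32669 F108962))
theorem Q43478 : ∀ i, i < 43478 → P i := stepQ 43477 Q43477 (allL N43477 (tt N64001 (iv1 F361344)) (tt N76945 D153333) (tt N43017 F310706) (tt N43135 F310707) (tt N61283 (iv4 F178517)) (tt N76946 D153334) (tt N22213 (iv6 D72446)) (tt N70519 (iv7 F312970)))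
theorem Q43479 : ∀ i, i < 43479 → P i := stepQ 43478 Q43478 (allL N43478 (tt N32623 (iv1 F108969)) (tt N29556 F108968) (tt N22215 F108966) (tt N45311 (iv3 F115128)) (tt N50288 (iv4 F139417)) (tt N22214 (iv5 D72447)) (tt N76947 D153336) (tt N32631 F108967))
theorem Q43480 : ∀ i, i < 43480 → P i := stepQ 43479 Q43479 (allL N43479 (tt N22215 (iv1 D72449)) (tt N32631 F108971) (tt N29556 (iv2 F108975)) (tt N76948 D153341) (tt N26819 F108973) (tt N22305 F108974) (tt N26828 F108976) (tt N32623 F108972))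
theorem Q43481 : ∀ i, i < 43481 → P i := stepQ 43480 Q43480 (allL N43480 (tt N61546 F206234) (tt N76949 D153342) (tt N76947 (iv2 F240904)) (tt N22220 F108977) (tt N61267 (iv4 F178469)) (tt N27415 (iv5 F306631)) (tt N22215 (iv6 D72450)) (tt N76950 D153344))
theorem Q43482 : ∀ i, i < 43482 → P i := stepQ 43481 Q43481 (allL N43481 (tt N29556 (iv1 F108982)) (tt N32623 F108983) (tt N32631 F108978) (tt N22221 F108979) (tt N32736 F108980) (tt N22217 F108981) (tt N76951 D153345) (tt N22215 (iv7 D72451)))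
theorem Q43483 : ∀ i, i < 43483 → P i := stepQ 43482 Q43482 (allL N43482 (tt N52829 (iv1 F304716)) (tt N52825 (iv0 F304714)) (tt N76937 (iv2 F240878)) (tt N22222 F108986) (tt N43532 (iv4 F109160)) (tt N76952 D153362) (tt N22217 (iv6 D72456)) (tt N48684 (iv7 F304713)))
theorem Q43484 : ∀ i, i < 43484 → P i := stepQ 43483 Q43483 (allL N43483 (tt N75986 (iv1 F235197)) (tt N53552 (iv0 F302984)) (tt N64424 (iv2 F196841)) (tt N22218 (iv3 D72457)) (tt N76953 D153363) (tt N22301 F108987) (tt N76954 D153364) (tt N65170 (iv7 F199431)))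
theorem Q43485 : ∀ i, i < 43485 → P i := stepQ 43484 Q43484 (allL N43484 (tt N66996 (iv1 F354082)) (tt N66999 (iv0 F354102)) (tt N65174 (iv2 F199439)) (tt N76954 (iv3 F240936)) (tt N76908 (iv4 F240701)) (tt N76955 D153367) (tt N22218 (iv6 D72458)) (tt N76956 D153368))
theorem Q43486 : ∀ i, i < 43486 → P i := stepQ 43485 Q43485 (allL N43485 (tt N54836 (iv1 F342781)) (tt N76957 D153370) (tt N65172 (iv2 F199436)) (tt N63521 (iv3 F310221)) (tt N67926 (iv4 F342774)) (tt N76958 D153371) (tt N22219 (iv6 D72459)) (tt N63660 (iv7 F342784)))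
theorem Q43487 : ∀ i, i < 43487 → P i := stepQ 43486 Q43486 (allL N43486 (tt N48691 (iv1 F309577)) (tt N27330 (iv0 F309576)) (tt N48693 (iv2 F309578)) (tt N76950 (iv3 F240918)) (tt N66995 (iv4 F206342)) (tt N26303 F309400) (tt N76959 D153387) (tt N22220 (iv7 D72463)))
theorem Q43488 : ∀ i, i < 43488 → P i := stepQ 43487 Q43487 (allL N43487 (tt N76960 D153388) (tt N76961 D153389) (tt N22258 F108989) (tt N76951 (iv3 F240920)) (tt N43418 F108990) (tt N76962 D153390) (tt N22221 (iv6 D72464)) (tt N76959 (iv7 F240945)))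
theorem Q43489 : ∀ i, i < 43489 → P i := stepQ 43488 Q43488 (allL N43488 (tt N22262 (iv1 F108999)) (tt N22222 (iv0 D72480)) (tt N22259 F190273) (tt N76963 D153418) (tt N36477 (iv4 F205762)) (tt N76964 D153419) (tt N76965 D153420) (tt N22260 F190274))
theorem Q43490 : ∀ i, i < 43490 → P i := stepQ 43489 Q43489 (allL N43489 (tt N22222 (iv1 D72481)) (tt N22262 F109000) (tt N22260 F190284) (tt N63114 (iv3 F305043)) (tt N36478 (iv4 F205765)) (tt N76966 D153421) (tt N75470 F237045) (tt N22259 F190286))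
theorem Q43491 : ∀ i, i < 43491 → P i := stepQ 43490 Q43490 (allL N43490 (tt N76967 D153422) (tt N76968 D153423) (tt N22261 F109001) (tt N76952 (iv3 F240930)) (tt N76969 D153424) (tt N22222 (iv5 D72482)) (tt N76962 (iv6 F240951)) (tt N48688 F307614))
theorem Q43492 : ∀ i, i < 43492 → P i := stepQ 43491 Q43491 (allL N43491 (tt N48429 F305737) (tt N48428 F305738) (tt N43721 (iv2 F109514)) (tt N43950 (iv3 F191058)) (tt N28694 F305739) (tt N35332 (iv5 F109542)) (tt N48444 F305740) (tt N22223 (iv7 D72507)))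
theorem Q43493 : ∀ i, i < 43493 → P i := stepQ 43492 Q43492 (allL N43492 (tt N76970 D153455) (tt N76971 D153456) (tt N22267 F109047) (tt N76972 D153457) (tt N22224 (iv4 D72551)) (tt N76973 D153458) (tt N22231 F109048) (tt N76867 (iv7 F240091)))
theorem Q43494 : ∀ i, i < 43494 → P i := stepQ 43493 Q43493 (allL N43493 (tt N22227 (iv1 D72562)) (tt N38157 F109062) (tt N38156 F241174) (tt N76903 F240647) (tt N44908 (iv4 F312877)) (tt N42183 (iv5 F109063)) (tt N44910 F310620) (tt N38155 F241175))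
theorem Q43495 : ∀ i, i < 43495 → P i := stepQ 43494 Q43494 (allL N43494 (tt N38156 (iv1 F109066)) (tt N38155 F109067) (tt N38157 F109064) (tt N63452 (iv3 F187520)) (tt N46489 (iv4 F312863)) (tt N74989 (iv5 F229990)) (tt N27715 (iv6 F311972)) (tt N22227 (iv7 D72563)))
theorem Q43496 : ∀ i, i < 43496 → P i := stepQ 43495 Q43495 (allL N43495 (tt N22277 (iv1 F109090)) (tt N22231 (iv0 D72579)) (tt N22273 F109092) (tt N76974 D153512) (tt N34388 F109089) (tt N76975 D153513) (tt N73016 (iv6 F342435)) (tt N22274 (iv7 F109091)))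
theorem Q43497 : ∀ i, i < 43497 → P i := stepQ 43496 Q43496 (allL N43496 (tt N22231 (iv1 D72580)) (tt N22277 F109093) (tt N22274 (iv2 F109096)) (tt N59187 (iv3 F366148)) (tt N36480 F109095) (tt N76976 D153516) (tt N59182 (iv6 F324274)) (tt N22273 F109094))
theorem Q43498 : ∀ i, i < 43498 → P i := stepQ 43497 Q43497 (allL N43497 (tt N76977 D153518) (tt N76978 D153519) (tt N76979 D153520) (tt N22231 (iv3 D72581)) (tt N43545 (iv4 F109176)) (tt N26565 F109100) (tt N76972 (iv6 F241044)) (tt N76208 (iv7 F237826)))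
theorem Q43499 : ∀ i, i < 43499 → P i := stepQ 43498 Q43498 (allL N43498 (tt N36631 F109098) (tt N43897 (iv0 F110089)) (tt N22276 F109097) (tt N26565 (iv3 F109099)) (tt N43862 (iv4 F110054)) (tt N22231 (iv5 D72582)) (tt N26601 F109101) (tt N76209 (iv7 F237831)))
theorem Q43500 : ∀ i, i < 43500 → P i := stepQ 43499 Q43499 (allL N43499 (tt N22398 F232286) (tt N22232 (iv0 D72583)) (tt N22285 F232287) (tt N22383 F232288) (tt N42535 F232289) (tt N32860 (iv5 F314256)) (tt N52369 F312368) (tt N22399 F232290))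
theorem Q43501 : ∀ i, i < 43501 → P i := stepQ 43500 Q43500 (allL N43500 (tt N22399 (iv1 F232346)) (tt N22285 (iv0 F232347)) (tt N22398 F232285) (tt N40016 F310039) (tt N56145 (iv4 F232349)) (tt N75229 (iv5 F230808)) (tt N40006 (iv6 F312270)) (tt N22232 (iv7 D72585)))
theorem Q43502 : ∀ i, i < 43502 → P i := stepQ 43501 Q43501 (allL N43501 (tt N22233 (iv1 D72587)) (tt N22241 F109108) (tt N22239 F190263) (tt N63333 F190264) (tt N63115 (iv4 F190269)) (tt N76980 D153523) (tt N75477 (iv6 F233223)) (tt N22238 F190266))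
theorem Q43503 : ∀ i, i < 43503 → P i := stepQ 43502 Q43502 (allL N43502 (tt N63335 (iv1 F241298)) (tt N76981 D153525) (tt N22240 F109109) (tt N22412 F109110) (tt N76982 D153526) (tt N22233 (iv5 D72588)) (tt N22234 F109111) (tt N76983 D153527))
theorem Q43504 : ∀ i, i < 43504 → P i := stepQ 43503 Q43503 (allL N43503 (tt N22239 (iv1 F109116)) (tt N22238 F109117) (tt N22241 F109112) (tt N43446 F109113) (tt N54000 (iv4 F155738)) (tt N76983 (iv5 F241304)) (tt N43433 F109114) (tt N22233 (iv7 D72589)))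
theorem Q43505 : ∀ i, i < 43505 → P i := stepQ 43504 Q43504 (allL N43504 (tt N33895 F109119) (tt N33898 F109120) (tt N22245 F109118) (tt N76984 D153528) (tt N22234 (iv4 D72590)) (tt N76985 D153529) (tt N76982 (iv6 F241300)) (tt N74503 (iv7 F228064)))
theorem Q43506 : ∀ i, i < 43506 → P i := stepQ 43505 Q43505 (allL N43505 (tt N22235 (iv1 D72591)) (tt N46741 F126422) (tt N50929 (iv2 F143075)) (tt N46727 F126383) (tt N45287 (iv4 F115029)) (tt N26521 F109121) (tt N76986 D153530) (tt N50925 (iv7 F143057)))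
theorem Q43507 : ∀ i, i < 43507 → P i := stepQ 43506 Q43506 (allL N43506 (tt N50925 (iv1 F143059)) (tt N50929 (iv0 F143079)) (tt N22235 (iv2 D72592)) (tt N25790 F109122) (tt N22255 F109123) (tt N28128 (iv5 F109124)) (tt N76987 D153531) (tt N46741 (iv7 F126421)))
theorem Q43508 : ∀ i, i < 43508 → P i := stepQ 43507 Q43507 (allL N43507 (tt N26023 (iv1 F109130)) (tt N27209 F109129) (tt N28128 F109125) (tt N22236 F109126) (tt N26081 F109128) (tt N22235 (iv5 D72593)) (tt N76988 D153532) (tt N26133 F109127))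
theorem Q43509 : ∀ i, i < 43509 → P i := stepQ 43508 Q43508 (allL N43508 (tt N76989 D153533) (tt N76990 D153534) (tt N76987 (iv2 F241317)) (tt N22237 F109131) (tt N22257 F109132) (tt N76991 D153535) (tt N22235 (iv6 D72594)) (tt N53699 (iv7 F302017)))
theorem Q43510 : ∀ i, i < 43510 → P i := stepQ 43509 Q43509 (allL N43509 (tt N76099 (iv1 F337233)) (tt N26229 (iv0 F337234)) (tt N26136 F109133) (tt N76988 (iv3 F241321)) (tt N26134 F109134) (tt N76992 D153539) (tt N22236 (iv6 D72595)) (tt N76993 D153540))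
theorem Q43511 : ∀ i, i < 43511 → P i := stepQ 43510 Q43510 (allL N43510 (tt N54000 (iv1 F155741)) (tt N22237 (iv0 D72596)) (tt N33880 F190293) (tt N52802 F190294) (tt N33869 F190295) (tt N76994 D153541) (tt N75927 (iv6 F234614)) (tt N33884 F190296))
theorem Q43512 : ∀ i, i < 43512 → P i := stepQ 43511 Q43511 (allL N43511 (tt N22237 (iv1 D72597)) (tt N54000 F155740) (tt N33884 F190297) (tt N26187 F309567) (tt N33870 F190298) (tt N76995 D153542) (tt N76996 D153543) (tt N33880 F190299))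
theorem Q43513 : ∀ i, i < 43513 → P i := stepQ 43512 Q43512 (allL N43512 (tt N76997 D153544) (tt N76998 D153545) (tt N53999 (iv2 F155735)) (tt N76991 (iv3 F241323)) (tt N76999 D153546) (tt N22237 (iv5 D72598)) (tt N76992 (iv6 F241329)) (tt N77000 D153547))
theorem Q43514 : ∀ i, i < 43514 → P i := stepQ 43513 Q43513 (allL N43513 (tt N33884 (iv1 F190169)) (tt N33880 (iv0 F190170)) (tt N54000 (iv2 F155737)) (tt N53699 (iv3 F302016)) (tt N22241 F109135) (tt N77000 (iv5 F241343)) (tt N42798 (iv6 F190635)) (tt N22237 (iv7 D72599)))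
theorem Q43515 : ∀ i, i < 43515 → P i := stepQ 43514 Q43514 (allL N43514 (tt N63332 F190223) (tt N42727 (iv0 F190224)) (tt N40956 F320359) (tt N22238 (iv3 D72601)) (tt N56104 (iv4 F191321)) (tt N40948 (iv5 F320543)) (tt N40033 F313496) (tt N63333 (iv7 F190258)))
theorem Q43516 : ∀ i, i < 43516 → P i := stepQ 43515 Q43515 (allL N43515 (tt N77001 D153550) (tt N40883 F322378) (tt N40911 F322288) (tt N40948 F322289) (tt N73327 (iv4 F323261)) (tt N22238 (iv5 D72603)) (tt N40849 (iv6 F323827)) (tt N76980 (iv7 F241289)))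
theorem Q43517 : ∀ i, i < 43517 → P i := stepQ 43516 Q43516 (allL N43516 (tt N75825 (iv1 F243626)) (tt N76877 (iv0 F243627)) (tt N63329 (iv2 F190289)) (tt N40033 F313494) (tt N63130 F190222) (tt N77002 D153555) (tt N22238 (iv6 D72604)) (tt N77003 D153556))
theorem Q43518 : ∀ i, i < 43518 → P i := stepQ 43517 Q43517 (allL N43517 (tt N40883 F322379) (tt N77001 F241348) (tt N76980 (iv2 F241288)) (tt N40761 F321989) (tt N73612 (iv4 F323265)) (tt N22239 (iv5 D72608)) (tt N40910 F321987) (tt N40911 F321988))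
theorem Q43519 : ∀ i, i < 43519 → P i := stepQ 43518 Q43518 (allL N43518 (tt N75316 F241349) (tt N75474 (iv0 F242764)) (tt N75477 F233222) (tt N44002 (iv3 F232907)) (tt N63132 F190219) (tt N43849 (iv5 F240735)) (tt N22239 (iv6 D72609)) (tt N75478 (iv7 F233221)))
theorem Q43520 : ∀ i, i < 43520 → P i := stepQ 43519 Q43519 (allL N43519 (tt N76983 (iv1 F241306)) (tt N22240 (iv0 D72610)) (tt N63335 (iv2 F190932)) (tt N63769 (iv3 F361472)) (tt N63153 (iv4 F278982)) (tt N65247 (iv5 F241307)) (tt N77004 D153561) (tt N76981 F241296))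
theorem Q43521 : ∀ i, i < 43521 → P i := stepQ 43520 Q43520 (allL N43520 (tt N22240 (iv1 D72611)) (tt N76983 F241305) (tt N76981 (iv2 F241293)) (tt N53358 (iv3 F341566)) (tt N63154 F190931) (tt N63724 (iv5 F190928)) (tt N65243 F233001) (tt N63335 (iv7 F190930)))
theorem Q43522 : ∀ i, i < 43522 → P i := stepQ 43521 Q43521 (allL N43521 (tt N77005 D153562) (tt N77006 D153563) (tt N76982 (iv2 F241299)) (tt N77007 D153564) (tt N22240 (iv4 D72612)) (tt N77008 D153565) (tt N22245 F109138) (tt N77009 D153566))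
theorem Q43523 : ∀ i, i < 43523 → P i := stepQ 43522 Q43522 (allL N43522 (tt N76981 (iv1 F241291)) (tt N63335 F241297) (tt N76983 (iv2 F241302)) (tt N22268 F109139) (tt N77009 (iv4 F241383)) (tt N22241 F109140) (tt N77010 D153567) (tt N22240 (iv7 D72613)))
theorem Q43524 : ∀ i, i < 43524 → P i := stepQ 43523 Q43523 (allL N43523 (tt N77011 D153568) (tt N75502 (iv0 F357843)) (tt N74853 (iv2 F229645)) (tt N40019 F318367) (tt N74510 (iv4 F228090)) (tt N41619 F109141) (tt N22242 (iv6 D72614)) (tt N40007 F318368))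
theorem Q43525 : ∀ i, i < 43525 → P i := stepQ 43524 Q43524 (allL N43524 (tt N65246 F233170) (tt N74699 (iv0 F342424)) (tt N63353 (iv2 F186936)) (tt N63357 (iv3 F186941)) (tt N63171 (iv4 F185816)) (tt N63353 (iv5 F186938)) (tt N22243 (iv6 D72615)) (tt N74680 (iv7 F343141)))
theorem Q43526 : ∀ i, i < 43526 → P i := stepQ 43525 Q43525 (allL N43525 (tt N77012 D153576) (tt N77013 D153577) (tt N77014 D153578) (tt N22245 (iv3 D72617)) (tt N22275 F109142) (tt N77015 D153579) (tt N77007 (iv6 F241382)) (tt N77016 D153580))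
theorem Q43527 : ∀ i, i < 43527 → P i := stepQ 43526 Q43526 (allL N43526 (tt N42753 F109143) (tt N77017 D153581) (tt N76985 (iv2 F241312)) (tt N77015 (iv3 F241391)) (tt N77018 D153582) (tt N22245 (iv5 D72618)) (tt N77019 D153583) (tt N77018 (iv7 F241403)))
theorem Q43528 : ∀ i, i < 43528 → P i := stepQ 43527 Q43527 (allL N43527 (tt N33898 (iv1 F109145)) (tt N33895 F109146) (tt N74503 F228066) (tt N77016 (iv3 F241392)) (tt N22246 F109144) (tt N77018 (iv5 F241400)) (tt N77020 D153584) (tt N22245 (iv7 D72619)))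
theorem Q43529 : ∀ i, i < 43529 → P i := stepQ 43528 Q43528 (allL N43528 (tt N77021 D153585) (tt N63600 (iv0 F347174)) (tt N75508 (iv2 F231679)) (tt N22278 F109147) (tt N77020 (iv4 F241404)) (tt N68354 (iv5 F209794)) (tt N22246 (iv6 D72620)) (tt N77010 (iv7 F241387)))
theorem Q43530 : ∀ i, i < 43530 → P i := stepQ 43529 Q43529 (allL N43529 (tt N43416 (iv1 F109149)) (tt N22247 (iv0 D72621)) (tt N43415 (iv2 F128195)) (tt N42805 F301470) (tt N34498 F109148) (tt N56180 (iv5 F163145)) (tt N77022 D153588) (tt N43414 F128197))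
theorem Q43531 : ∀ i, i < 43531 → P i := stepQ 43530 Q43530 (allL N43530 (tt N22247 (iv1 D72622)) (tt N43416 (iv0 F109152)) (tt N43414 F128194) (tt N24494 F297030) (tt N26173 (iv4 F298839)) (tt N34077 F109151) (tt N77023 D153589) (tt N43415 (iv7 F128192)))
theorem Q43532 : ∀ i, i < 43532 → P i := stepQ 43531 Q43531 (allL N43531 (tt N43415 (iv1 F109158)) (tt N43414 F109156) (tt N22247 (iv2 D72623)) (tt N48974 (iv3 F134968)) (tt N43471 F109153) (tt N32743 F109154) (tt N77024 D153590) (tt N43416 F109155))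
theorem Q43533 : ∀ i, i < 43533 → P i := stepQ 43532 Q43532 (allL N43532 (tt N63482 (iv1 F353878)) (tt N77025 D153592) (tt N77024 (iv2 F241415)) (tt N22248 F109159) (tt N43482 F109160) (tt N77026 D153593) (tt N22247 (iv6 D72624)) (tt N53895 (iv7 F302465)))
theorem Q43534 : ∀ i, i < 43534 → P i := stepQ 43533 Q43533 (allL N43533 (tt N77027 D153594) (tt N77028 D153595) (tt N76110 (iv2 F236444)) (tt N77026 (iv3 F241417)) (tt N52275 (iv4 F358725)) (tt N22248 (iv5 D72627)) (tt N52274 (iv6 F344674)) (tt N76167 (iv7 F237209)))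
theorem Q43535 : ∀ i, i < 43535 → P i := stepQ 43534 Q43534 (allL N43534 (tt N36489 (iv1 F190319)) (tt N36451 F190320) (tt N36486 F190315) (tt N77029 D153597) (tt N22249 (iv4 D72631)) (tt N77030 D153598) (tt N69675 (iv6 F313048)) (tt N36487 F190312))
theorem Q43536 : ∀ i, i < 43536 → P i := stepQ 43535 Q43535 (allL N43535 (tt N72409 (iv1 F313932)) (tt N69654 (iv0 F309115)) (tt N44438 F311473) (tt N43211 F190321) (tt N69675 (iv4 F313047)) (tt N62522 (iv5 F322159)) (tt N22249 (iv6 D72633)) (tt N72410 (iv7 F313931)))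
theorem Q43537 : ∀ i, i < 43537 → P i := stepQ 43536 Q43536 (allL N43536 (tt N36451 (iv1 F190301)) (tt N36489 (iv0 F190292)) (tt N36487 F190316) (tt N45556 F301001) (tt N22250 (iv4 D72636)) (tt N48254 (iv5 F321727)) (tt N77031 D153609) (tt N36486 (iv7 F190318)))
theorem Q43538 : ∀ i, i < 43538 → P i := stepQ 43537 Q43537 (allL N43537 (tt N62524 (iv1 F322140)) (tt N62523 (iv0 F322136)) (tt N43340 (iv2 F190309)) (tt N44099 F190291) (tt N77032 D153610) (tt N22250 (iv5 D72637)) (tt N43883 (iv6 F110084)) (tt N62516 (iv7 F322135)))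
theorem Q43539 : ∀ i, i < 43539 → P i := stepQ 43538 Q43538 (allL N43538 (tt N42156 F237047) (tt N76911 F240752) (tt N43341 F190317) (tt N40249 F315896) (tt N77031 (iv4 F241462)) (tt N51814 (iv5 F334072)) (tt N22250 (iv6 D72638)) (tt N72411 (iv7 F366423)))
theorem Q43540 : ∀ i, i < 43540 → P i := stepQ 43539 Q43539 (allL N43539 (tt N43871 (iv1 F110072)) (tt N22251 (iv0 D72639)) (tt N43870 (iv2 F199426)) (tt N43214 F190918) (tt N77033 D153613) (tt N77034 D153614) (tt N48447 F310106) (tt N43349 (iv7 F190917)))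
theorem Q43541 : ∀ i, i < 43541 → P i := stepQ 43540 Q43540 (allL N43540 (tt N22251 (iv1 D72640)) (tt N43871 F110071) (tt N43349 F190670) (tt N34365 F190671) (tt N77035 D153616) (tt N43722 (iv5 F109547)) (tt N35385 (iv6 F109548)) (tt N43870 (iv7 F199428)))
theorem Q43542 : ∀ i, i < 43542 → P i := stepQ 43541 Q43541 (allL N43541 (tt N63182 F190919) (tt N66887 (iv0 F205998)) (tt N43869 (iv2 F110065)) (tt N77036 D153617) (tt N22251 (iv4 D72641)) (tt N73503 (iv5 F322942)) (tt N22254 F109165) (tt N76175 (iv7 F237265)))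
theorem Q43543 : ∀ i, i < 43543 → P i := stepQ 43542 Q43542 (allL N43542 (tt N43349 (iv1 F199424)) (tt N43870 F110070) (tt N43871 (iv2 F110068)) (tt N43387 (iv3 F190116)) (tt N76175 F237266) (tt N22252 F109167) (tt N43866 (iv6 F110060)) (tt N22251 (iv7 D72642)))
theorem Q43544 : ∀ i, i < 43544 → P i := stepQ 43543 Q43543 (allL N43543 (tt N36503 F109170) (tt N36463 (iv0 F109171)) (tt N36499 F109168) (tt N77037 D153619) (tt N22253 (iv4 D72643)) (tt N77038 D153620) (tt N73170 (iv6 F320493)) (tt N36500 F109169))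
theorem Q43545 : ∀ i, i < 43545 → P i := stepQ 43544 Q43544 (allL N43544 (tt N35399 F109175) (tt N41554 F322221) (tt N41562 F318461) (tt N40501 F318326) (tt N73170 (iv4 F320492)) (tt N41553 F318462) (tt N22253 (iv6 D72644)) (tt N41552 (iv7 F320490)))
theorem Q43546 : ∀ i, i < 43546 → P i := stepQ 43545 Q43545 (allL N43545 (tt N77039 D153624) (tt N77040 D153625) (tt N77041 D153626) (tt N22254 (iv3 D72645)) (tt N43497 F109176) (tt N50980 (iv5 F143191)) (tt N77036 (iv6 F241494)) (tt N43861 (iv7 F110051)))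
theorem Q43547 : ∀ i, i < 43547 → P i := stepQ 43546 Q43546 (allL N43546 (tt N63185 (iv1 F185894)) (tt N51035 (iv0 F339947)) (tt N43868 (iv2 F110061)) (tt N50980 (iv3 F143189)) (tt N76209 (iv4 F237830)) (tt N22254 (iv5 D72646)) (tt N77042 D153627) (tt N43862 (iv7 F110053)))
theorem Q43548 : ∀ i, i < 43548 → P i := stepQ 43547 Q43547 (allL N43547 (tt N52807 (iv1 F301703)) (tt N53540 (iv0 F307488)) (tt N22257 F109177) (tt N76937 (iv3 F240879)) (tt N76987 (iv4 F241319)) (tt N77043 D153628) (tt N22255 (iv6 D72647)) (tt N28146 F303352))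
theorem Q43549 : ∀ i, i < 43549 → P i := stepQ 43548 Q43548 (allL N43548 (tt N77044 D153629) (tt N64410 (iv0 F356489)) (tt N56120 (iv2 F162772)) (tt N22258 F109178) (tt N25486 F109179) (tt N77045 D153631) (tt N22256 (iv6 D72648)) (tt N75956 (iv7 F234744)))
theorem Q43550 : ∀ i, i < 43550 → P i := stepQ 43549 Q43549 (allL N43549 (tt N28146 F304489) (tt N22257 (iv0 D72649)) (tt N52807 (iv2 F301704)) (tt N28044 F308585) (tt N53540 (iv4 F307491)) (tt N77046 D153632) (tt N77047 D153633) (tt N53540 F308586))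
theorem Q43551 : ∀ i, i < 43551 → P i := stepQ 43550 Q43550 (allL N43550 (tt N77048 D153634) (tt N64326 (iv0 F304685)) (tt N77043 (iv2 F241517)) (tt N22261 F109180) (tt N77049 D153636) (tt N22257 (iv5 D72651)) (tt N77045 (iv6 F241520)) (tt N53700 (iv7 F302020)))
theorem Q43552 : ∀ i, i < 43552 → P i := stepQ 43551 Q43551 (allL N43551 (tt N76959 (iv1 F240947)) (tt N22258 (iv0 D72653)) (tt N76960 (iv2 F348688)) (tt N77050 D153639) (tt N77051 D153640) (tt N77052 D153641) (tt N77053 D153642) (tt N76961 (iv7 F348687)))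
theorem Q43553 : ∀ i, i < 43553 → P i := stepQ 43552 Q43552 (allL N43552 (tt N22258 (iv1 D72654)) (tt N76959 F240946) (tt N76961 (iv2 F348686)) (tt N75744 (iv3 F356778)) (tt N77054 D153645) (tt N77055 D153646) (tt N75742 (iv6 F356775)) (tt N76960 (iv7 F348689)))
theorem Q43554 : ∀ i, i < 43554 → P i := stepQ 43553 Q43553 (allL N43553 (tt N77056 D153648) (tt N77057 D153649) (tt N76962 (iv2 F240950)) (tt N77045 (iv3 F241519)) (tt N77058 D153650) (tt N22258 (iv5 D72655)) (tt N22261 F109182) (tt N77059 D153651))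
theorem Q43555 : ∀ i, i < 43555 → P i := stepQ 43554 Q43554 (allL N43554 (tt N76961 (iv1 F240949)) (tt N76960 F240948) (tt N76959 (iv2 F240943)) (tt N75956 F234745) (tt N66993 (iv4 F206337)) (tt N77059 (iv5 F241526)) (tt N48693 F311786) (tt N22258 (iv7 D72656)))
theorem Q43556 : ∀ i, i < 43556 → P i := stepQ 43555 Q43555 (allL N43555 (tt N24157 F304635) (tt N36434 (iv0 F191285)) (tt N36477 (iv2 F205760)) (tt N36471 F190276) (tt N22259 (iv4 D72659)) (tt N66557 (iv5 F321588)) (tt N77060 D153656) (tt N36478 (iv7 F205766)))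
theorem Q43557 : ∀ i, i < 43557 → P i := stepQ 43556 Q43556 (allL N43556 (tt N77061 D153657) (tt N77062 D153658) (tt N76964 (iv2 F240976)) (tt N63131 (iv3 F306358)) (tt N77063 D153659) (tt N22259 (iv5 D72660)) (tt N77064 D153660) (tt N76966 (iv7 F240987)))
theorem Q43558 : ∀ i, i < 43558 → P i := stepQ 43557 Q43557 (allL N43557 (tt N76876 (iv1 F240144)) (tt N55352 (iv0 F308499)) (tt N76965 (iv2 F240979)) (tt N63132 (iv3 F306359)) (tt N77060 (iv4 F241536)) (tt N43668 F109366) (tt N22259 (iv6 D72661)) (tt N77065 D153661))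
theorem Q43559 : ∀ i, i < 43559 → P i := stepQ 43558 Q43558 (allL N43558 (tt N76924 (iv1 F310594)) (tt N28038 (iv0 F310595)) (tt N63128 (iv2 F302995)) (tt N22260 (iv3 D72663)) (tt N42869 F190352) (tt N77066 D153665) (tt N77067 D153666) (tt N76963 (iv7 F240975)))
theorem Q43560 : ∀ i, i < 43560 → P i := stepQ 43559 Q43559 (allL N43559 (tt N77062 (iv1 F241542)) (tt N77061 F241540) (tt N76966 (iv2 F240986)) (tt N77066 (iv3 F241548)) (tt N77068 D153667) (tt N22260 (iv5 D72665)) (tt N77069 D153668) (tt N76964 (iv7 F240977)))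
theorem Q43561 : ∀ i, i < 43561 → P i := stepQ 43560 Q43560 (allL N43560 (tt N55339 (iv1 F307366)) (tt N64002 F192136) (tt N75470 F237044) (tt N77067 (iv3 F241549)) (tt N42868 F190353) (tt N43824 (iv5 F109945)) (tt N22260 (iv6 D72666)) (tt N75469 (iv7 F237046)))
theorem Q43562 : ∀ i, i < 43562 → P i := stepQ 43561 Q43561 (allL N43561 (tt N48688 F308337) (tt N22261 (iv0 D72667)) (tt N76967 F240996) (tt N63134 (iv3 F351879)) (tt N77070 D153670) (tt N65254 F240087) (tt N77071 D153671) (tt N76968 (iv7 F240993)))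
theorem Q43563 : ∀ i, i < 43563 → P i := stepQ 43562 Q43562 (allL N43562 (tt N22261 (iv1 D72668)) (tt N48688 F308338) (tt N76968 (iv2 F240992)) (tt N77072 D153672) (tt N77073 D153673) (tt N65186 (iv5 F199468)) (tt N77074 D153674) (tt N76967 F240997))
theorem Q43564 : ∀ i, i < 43564 → P i := stepQ 43563 Q43563 (allL N43563 (tt N77075 D153675) (tt N77076 D153676) (tt N76969 (iv2 F240998)) (tt N77077 D153677) (tt N22261 (iv4 D72669)) (tt N77078 D153678) (tt N77058 (iv6 F241525)) (tt N77079 D153679))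
theorem Q43565 : ∀ i, i < 43565 → P i := stepQ 43564 Q43564 (allL N43564 (tt N76968 (iv1 F240990)) (tt N76967 F240989) (tt N48688 (iv2 F306623)) (tt N53700 F304608) (tt N77079 (iv4 F241551)) (tt N22262 F109185) (tt N48545 (iv6 F306630)) (tt N22261 (iv7 D72670)))
theorem Q43566 : ∀ i, i < 43566 → P i := stepQ 43565 Q43565 (allL N43565 (tt N63890 (iv1 F303722)) (tt N48975 (iv0 F303721)) (tt N63915 (iv2 F191773)) (tt N22263 (iv3 D72705)) (tt N63486 F191142) (tt N77080 D153681) (tt N77081 D153682) (tt N64337 (iv7 F303725)))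
theorem Q43567 : ∀ i, i < 43567 → P i := stepQ 43566 Q43566 (allL N43566 (tt N76871 (iv1 F240117)) (tt N76870 F240113) (tt N63378 F191143) (tt N77080 (iv3 F241552)) (tt N77082 D153683) (tt N22263 (iv5 D72706)) (tt N77083 D153684) (tt N76868 (iv7 F240095)))
theorem Q43568 : ∀ i, i < 43568 → P i := stepQ 43567 Q43567 (allL N43567 (tt N49020 F306416) (tt N63944 (iv0 F237040)) (tt N49052 F306417) (tt N77081 (iv3 F241553)) (tt N22265 F109211) (tt N43788 (iv5 F109640)) (tt N22263 (iv6 D72707)) (tt N49049 (iv7 F308311)))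
theorem Q43569 : ∀ i, i < 43569 → P i := stepQ 43568 Q43568 (allL N43568 (tt N40867 F322350) (tt N40866 F322351) (tt N40869 F322352) (tt N77084 D153686) (tt N22264 (iv4 D72708)) (tt N77085 D153687) (tt N75353 (iv6 F231296)) (tt N40860 F322353))
theorem Q43570 : ∀ i, i < 43570 → P i := stepQ 43569 Q43569 (allL N43569 (tt N66874 (iv1 F205957)) (tt N76884 F240174) (tt N44447 F314358) (tt N77086 D153688) (tt N22266 (iv4 D72717)) (tt N77087 D153689) (tt N44445 F314359) (tt N76883 (iv7 F240169)))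
theorem Q43571 : ∀ i, i < 43571 → P i := stepQ 43570 Q43570 (allL N43570 (tt N76867 (iv1 F240093)) (tt N22267 (iv0 D72719)) (tt N76970 (iv2 F241039)) (tt N77088 D153691) (tt N77089 D153692) (tt N73009 (iv5 F360598)) (tt N74674 (iv6 F360599)) (tt N76971 (iv7 F241041)))
theorem Q43572 : ∀ i, i < 43572 → P i := stepQ 43571 Q43571 (allL N43571 (tt N22267 (iv1 D72720)) (tt N76867 (iv0 F240092)) (tt N76971 F241042) (tt N77090 D153695) (tt N42876 F205962) (tt N73010 (iv5 F363137)) (tt N48149 (iv6 F205963)) (tt N76970 F241038))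
theorem Q43573 : ∀ i, i < 43573 → P i := stepQ 43572 Q43572 (allL N43572 (tt N73030 (iv1 F363350)) (tt N73034 (iv0 F360102)) (tt N77091 D153699) (tt N22267 (iv3 D72721)) (tt N77007 (iv4 F241381)) (tt N77092 D153700) (tt N22275 F109214) (tt N77093 D153701))
theorem Q43574 : ∀ i, i < 43574 → P i := stepQ 43573 Q43573 (allL N43573 (tt N77094 D153702) (tt N77095 D153703) (tt N76973 (iv2 F241046)) (tt N77092 (iv3 F241571)) (tt N77096 D153704) (tt N22267 (iv5 D72722)) (tt N77097 D153705) (tt N77098 D153706))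
theorem Q43575 : ∀ i, i < 43575 → P i := stepQ 43574 Q43574 (allL N43574 (tt N76971 (iv1 F241040)) (tt N76970 F241036) (tt N76867 (iv2 F240090)) (tt N77093 (iv3 F241572)) (tt N22268 F109215) (tt N77098 (iv5 F241576)) (tt N77099 D153707) (tt N22267 (iv7 D72723)))
theorem Q43576 : ∀ i, i < 43576 → P i := stepQ 43575 Q43575 (allL N43575 (tt N51605 (iv1 F308513)) (tt N76211 (iv0 F237837)) (tt N46578 (iv2 F308109)) (tt N77010 (iv3 F241386)) (tt N77099 (iv4 F241577)) (tt N25378 F306671) (tt N22268 (iv6 D72724)) (tt N22278 F109216))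
theorem Q43577 : ∀ i, i < 43577 → P i := stepQ 43576 Q43576 (allL N43576 (tt N55281 (iv1 F325474)) (tt N55278 (iv0 F325475)) (tt N29286 (iv2 F325476)) (tt N22269 (iv3 D72725)) (tt N29227 F324322) (tt N28369 (iv5 F325477)) (tt N77100 D153712) (tt N29280 F324323))
theorem Q43578 : ∀ i, i < 43578 → P i := stepQ 43577 Q43577 (allL N43577 (tt N66876 (iv1 F205968)) (tt N66902 (iv0 F206046)) (tt N63198 (iv2 F186227)) (tt N28369 F326345) (tt N63185 (iv4 F185892)) (tt N22269 (iv5 D72726)) (tt N77101 D153713) (tt N76194 (iv7 F237416)))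
theorem Q43579 : ∀ i, i < 43579 → P i := stepQ 43578 Q43578 (allL N43578 (tt N77102 D153714) (tt N77103 D153715) (tt N63199 (iv2 F186229)) (tt N77100 (iv3 F241580)) (tt N22270 F109217) (tt N77104 D153716) (tt N22269 (iv6 D72727)) (tt N77105 D153717))
theorem Q43580 : ∀ i, i < 43580 → P i := stepQ 43579 Q43579 (allL N43579 (tt N22727 F315361) (tt N22270 (iv0 D72728)) (tt N63200 F190873) (tt N77011 (iv3 F360666)) (tt N77106 D153719) (tt N29270 F317722) (tt N77107 D153721) (tt N40885 F322383))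
theorem Q43581 : ∀ i, i < 43581 → P i := stepQ 43580 Q43580 (allL N43580 (tt N22270 (iv1 D72729)) (tt N22727 F315360) (tt N40885 F322377) (tt N65284 (iv3 F227732)) (tt N77108 D153722) (tt N29266 F313063) (tt N40862 F322349) (tt N63200 (iv7 F190872)))
theorem Q43582 : ∀ i, i < 43582 → P i := stepQ 43581 Q43581 (allL N43581 (tt N40885 F322382) (tt N63200 F186235) (tt N22727 F313640) (tt N39981 (iv3 F316035)) (tt N77105 (iv4 F241581)) (tt N74697 (iv5 F323819)) (tt N22724 F313641) (tt N22270 (iv7 D72730)))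
theorem Q43583 : ∀ i, i < 43583 → P i := stepQ 43582 Q43582 (allL N43582 (tt N52191 (iv1 F325007)) (tt N55270 (iv0 F325008)) (tt N29291 (iv2 F325009)) (tt N22271 (iv3 D72731)) (tt N27522 F323710) (tt N50648 (iv5 F345145)) (tt N31472 F323711) (tt N29289 (iv7 F325010)))
theorem Q43584 : ∀ i, i < 43584 → P i := stepQ 43583 Q43583 (allL N43583 (tt N76887 (iv1 F240278)) (tt N71907 (iv0 F350046)) (tt N57198 (iv2 F322064)) (tt N50648 (iv3 F345144)) (tt N63189 (iv4 F185980)) (tt N22271 (iv5 D72732)) (tt N77109 D153728) (tt N76206 (iv7 F237666)))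
theorem Q43585 : ∀ i, i < 43585 → P i := stepQ 43584 Q43584 (allL N43584 (tt N57204 (iv1 F359408)) (tt N77110 D153742) (tt N77111 D153743) (tt N22273 (iv3 D72737)) (tt N63360 (iv4 F186944)) (tt N77112 D153744) (tt N74639 (iv6 F348831)) (tt N59187 (iv7 F366149)))
theorem Q43586 : ∀ i, i < 43586 → P i := stepQ 43585 Q43585 (allL N43585 (tt N36354 (iv1 F109223)) (tt N36353 F109221) (tt N34388 F109219) (tt N36475 (iv3 F109222)) (tt N22273 (iv4 D72738)) (tt N44135 (iv5 F110878)) (tt N73151 (iv6 F320771)) (tt N36480 F109220))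
theorem Q43587 : ∀ i, i < 43587 → P i := stepQ 43586 Q43586 (allL N43586 (tt N67085 (iv1 F206507)) (tt N67082 (iv0 F206502)) (tt N76975 (iv2 F241260)) (tt N77112 (iv3 F241608)) (tt N76003 (iv4 F235496)) (tt N22273 (iv5 D72739)) (tt N65257 (iv6 F345113)) (tt N76976 (iv7 F241272)))
theorem Q43588 : ∀ i, i < 43588 → P i := stepQ 43587 Q43587 (allL N43587 (tt N73183 (iv1 F322615)) (tt N73182 (iv0 F322614)) (tt N73016 (iv2 F342433)) (tt N74639 (iv3 F348830)) (tt N73151 (iv4 F320770)) (tt N65258 (iv5 F342507)) (tt N22273 (iv6 D72740)) (tt N73013 (iv7 F342430)))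
theorem Q43589 : ∀ i, i < 43589 → P i := stepQ 43588 Q43588 (allL N43588 (tt N29294 F353004) (tt N77113 D153753) (tt N77114 D153754) (tt N22274 (iv3 D72741)) (tt N42885 F109224) (tt N77115 D153755) (tt N74668 (iv6 F324040)) (tt N76974 (iv7 F241259)))
theorem Q43590 : ∀ i, i < 43590 → P i := stepQ 43589 Q43589 (allL N43589 (tt N67082 (iv1 F206503)) (tt N67085 (iv0 F206506)) (tt N76976 (iv2 F241270)) (tt N77115 (iv3 F241616)) (tt N77038 (iv4 F241498)) (tt N22274 (iv5 D72742)) (tt N77116 D153757) (tt N76975 (iv7 F241261)))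
theorem Q43591 : ∀ i, i < 43591 → P i := stepQ 43590 Q43590 (allL N43590 (tt N65918 (iv1 F326608)) (tt N22275 (iv0 D72744)) (tt N65920 (iv2 F326612)) (tt N77117 D153763) (tt N77118 D153764) (tt N72206 (iv5 F342484)) (tt N72207 (iv6 F342483)) (tt N65917 (iv7 F326611)))
theorem Q43592 : ∀ i, i < 43592 → P i := stepQ 43591 Q43591 (allL N43591 (tt N65920 (iv1 F331120)) (tt N65917 (iv0 F331117)) (tt N22275 (iv2 D72746)) (tt N76979 (iv3 F241277)) (tt N77014 (iv4 F241390)) (tt N77119 D153774) (tt N77091 (iv6 F241570)) (tt N65918 (iv7 F326610)))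
theorem Q43593 : ∀ i, i < 43593 → P i := stepQ 43592 Q43592 (allL N43592 (tt N58320 (iv1 F351138)) (tt N77120 D153776) (tt N77119 (iv2 F241628)) (tt N22276 F109226) (tt N77121 D153777) (tt N22275 (iv5 D72747)) (tt N70239 (iv6 F342491)) (tt N77122 D153779))
theorem Q43594 : ∀ i, i < 43594 → P i := stepQ 43593 Q43593 (allL N43593 (tt N65917 (iv1 F331118)) (tt N65920 (iv0 F331119)) (tt N65918 (iv2 F326609)) (tt N22277 F109227) (tt N77016 (iv4 F241393)) (tt N77122 (iv5 F241634)) (tt N77123 D153780) (tt N22275 (iv7 D72748)))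
theorem Q43595 : ∀ i, i < 43595 → P i := stepQ 43594 Q43594 (allL N43594 (tt N76209 (iv1 F237833)) (tt N22276 (iv0 D72749)) (tt N36631 (iv2 F109229)) (tt N77124 D153781) (tt N42201 (iv4 F109230)) (tt N36415 F109228) (tt N77125 D153782) (tt N43897 (iv7 F110088)))
theorem Q43596 : ∀ i, i < 43596 → P i := stepQ 43595 Q43595 (allL N43595 (tt N22276 (iv1 D72750)) (tt N76209 (iv0 F237832)) (tt N43897 (iv2 F110087)) (tt N77126 D153783) (tt N43408 (iv4 F109233)) (tt N36357 F109232) (tt N77127 D153784) (tt N36631 F109231))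
theorem Q43597 : ∀ i, i < 43597 → P i := stepQ 43596 Q43596 (allL N43596 (tt N51035 (iv1 F339948)) (tt N63185 (iv0 F185893)) (tt N43862 (iv2 F110052)) (tt N77128 D153785) (tt N22276 (iv4 D72751)) (tt N42192 F109234) (tt N51043 (iv6 F143288)) (tt N43868 (iv7 F110063)))
theorem Q43598 : ∀ i, i < 43598 → P i := stepQ 43597 Q43597 (allL N43597 (tt N77129 D153786) (tt N53226 (iv0 F345115)) (tt N26601 F109235) (tt N70239 (iv3 F342489)) (tt N51043 (iv4 F143287)) (tt N77097 (iv5 F241575)) (tt N22276 (iv6 D72752)) (tt N77130 D153788))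
theorem Q43599 : ∀ i, i < 43599 → P i := stepQ 43598 Q43598 (allL N43598 (tt N43897 (iv1 F110090)) (tt N36631 (iv0 F109237)) (tt N76209 (iv2 F237828)) (tt N77122 (iv3 F241633)) (tt N43868 (iv4 F110062)) (tt N22277 F109236) (tt N77131 D153789) (tt N22276 (iv7 D72753)))
theorem Q43600 : ∀ i, i < 43600 → P i := stepQ 43599 Q43599 (allL N43599 (tt N77132 D153790) (tt N24949 (iv0 F312884)) (tt N76210 (iv2 F237834)) (tt N77123 (iv3 F241635)) (tt N22278 F109238) (tt N77133 D153792) (tt N22277 (iv6 D72754)) (tt N77099 (iv7 F241578)))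
theorem Q43601 : ∀ i, i < 43601 → P i := stepQ 43600 Q43600 (allL N43600 (tt N22278 (iv1 D72756)) (tt N46578 F310140) (tt N51605 F310141) (tt N63501 (iv3 F312390)) (tt N77134 D153797) (tt N24229 (iv5 F311853)) (tt N62581 (iv6 F342458)) (tt N76211 F241146))
theorem Q43602 : ∀ i, i < 43602 → P i := stepQ 43601 Q43601 (allL N43601 (tt N43767 (iv1 F109616)) (tt N43766 F109611) (tt N35099 F109240) (tt N23627 F109241) (tt N22279 (iv4 D72757)) (tt N23626 F109242) (tt N77135 D153800) (tt N43768 (iv7 F109615)))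
theorem Q43603 : ∀ i, i < 43603 → P i := stepQ 43602 Q43602 (allL N43602 (tt N77136 D153801) (tt N77137 D153802) (tt N35128 F109243) (tt N22281 F109244) (tt N77135 (iv4 F241656)) (tt N77138 D153803) (tt N22279 (iv6 D72758)) (tt N77139 D153804))
theorem Q43604 : ∀ i, i < 43604 → P i := stepQ 43603 Q43603 (allL N43603 (tt N25023 F304764) (tt N22280 (iv0 D72759)) (tt N64347 (iv2 F306754)) (tt N53982 (iv3 F306756)) (tt N66980 F304765) (tt N77140 D153808) (tt N54142 (iv6 F351744)) (tt N53979 (iv7 F306759)))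
theorem Q43605 : ∀ i, i < 43605 → P i := stepQ 43604 Q43604 (allL N43604 (tt N22280 (iv1 D72760)) (tt N25023 F304766) (tt N53979 (iv2 F306758)) (tt N77141 D153811) (tt N66975 (iv4 F306761)) (tt N77142 D153813) (tt N24357 (iv6 F306763)) (tt N64347 (iv7 F306755)))
theorem Q43606 : ∀ i, i < 43606 → P i := stepQ 43605 Q43605 (allL N43605 (tt N77143 D153815) (tt N77144 D153816) (tt N64348 (iv2 F196224)) (tt N22283 F109245) (tt N77145 D153817) (tt N22280 (iv5 D72761)) (tt N77138 (iv6 F241660)) (tt N77146 D153818))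
theorem Q43607 : ∀ i, i < 43607 → P i := stepQ 43606 Q43606 (allL N43606 (tt N53979 F304762) (tt N64347 F196230) (tt N25023 F304763) (tt N22284 F109246) (tt N63505 (iv4 F187747)) (tt N77146 (iv5 F241672)) (tt N64472 (iv6 F197290)) (tt N22280 (iv7 D72762)))
theorem Q43608 : ∀ i, i < 43608 → P i := stepQ 43607 Q43607 (allL N43607 (tt N22372 (iv1 F109251)) (tt N22281 (iv0 D72763)) (tt N22369 (iv2 F354975)) (tt N64178 (iv3 F354976)) (tt N69269 F354974) (tt N77147 D153822) (tt N77148 D153823) (tt N22370 (iv7 F354980)))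
theorem Q43609 : ∀ i, i < 43609 → P i := stepQ 43608 Q43608 (allL N43608 (tt N22281 (iv1 D72764)) (tt N22372 F109247) (tt N22370 F354981) (tt N77149 D153825) (tt N69237 (iv4 F354984)) (tt N77150 D153827) (tt N69796 (iv6 F353722)) (tt N22369 F354982))
theorem Q43610 : ∀ i, i < 43610 → P i := stepQ 43609 Q43609 (allL N43609 (tt N77151 D153829) (tt N77152 D153830) (tt N22371 F109248) (tt N77138 (iv3 F241659)) (tt N77153 D153831) (tt N22281 (iv5 D72765)) (tt N22283 F109249) (tt N77154 D153832))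
theorem Q43611 : ∀ i, i < 43611 → P i := stepQ 43610 Q43610 (allL N43610 (tt N22370 (iv1 F109252)) (tt N22369 F109253) (tt N22372 F109250) (tt N77139 (iv3 F241662)) (tt N67005 (iv4 F206349)) (tt N77154 (iv5 F241679)) (tt N64701 (iv6 F198121)) (tt N22281 (iv7 D72766)))
theorem Q43612 : ∀ i, i < 43612 → P i := stepQ 43611 Q43611 (allL N43611 (tt N47451 (iv1 F310343)) (tt N47450 (iv0 F310342)) (tt N47453 (iv2 F310346)) (tt N22282 (iv3 D72768)) (tt N56134 (iv4 F162844)) (tt N77155 D153836) (tt N53312 F308271) (tt N22375 F162981))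
theorem Q43613 : ∀ i, i < 43613 → P i := stepQ 43612 Q43612 (allL N43612 (tt N25836 F308278) (tt N25835 F308279) (tt N22374 F162982) (tt N77155 (iv3 F241689)) (tt N77156 D153840) (tt N22282 (iv5 D72769)) (tt N77157 D153841) (tt N22377 F162983))
theorem Q43614 : ∀ i, i < 43614 → P i := stepQ 43613 Q43613 (allL N43613 (tt N22381 (iv1 F109260)) (tt N22283 (iv0 D72776)) (tt N22378 F233824) (tt N77158 D153857) (tt N77159 D153858) (tt N49020 F306447) (tt N43805 (iv6 F353724)) (tt N22379 F233825))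
theorem Q43615 : ∀ i, i < 43615 → P i := stepQ 43614 Q43614 (allL N43614 (tt N22283 (iv1 D72777)) (tt N22381 F109256) (tt N22379 F233821) (tt N54428 (iv3 F308376)) (tt N77160 D153861) (tt N63944 (iv5 F191887)) (tt N77161 D153862) (tt N22378 F233822))
theorem Q43616 : ∀ i, i < 43616 → P i := stepQ 43615 Q43615 (allL N43615 (tt N43800 F353738) (tt N77162 D153864) (tt N22380 F109257) (tt N77163 D153865) (tt N22283 (iv4 D72778)) (tt N75450 (iv5 F231532)) (tt N77153 (iv6 F241677)) (tt N75449 (iv7 F231527)))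
theorem Q43617 : ∀ i, i < 43617 → P i := stepQ 43616 Q43616 (allL N43616 (tt N22379 (iv1 F109261)) (tt N22378 F109262) (tt N22381 F109258) (tt N77146 (iv3 F241671)) (tt N75449 (iv4 F231526)) (tt N22284 F109259) (tt N77164 D153866) (tt N22283 (iv7 D72779)))
theorem Q43618 : ∀ i, i < 43618 → P i := stepQ 43617 Q43617 (allL N43617 (tt N36640 (iv1 F131170)) (tt N26138 F184575) (tt N42535 F184629) (tt N77165 D153867) (tt N22285 (iv4 D72789)) (tt N77166 D153868) (tt N77167 D153869) (tt N22400 F110001))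
theorem Q43619 : ∀ i, i < 43619 → P i := stepQ 43618 Q43618 (allL N43618 (tt N77168 D153870) (tt N63759 F241777) (tt N32860 (iv2 F314255)) (tt N22287 F109276) (tt N42392 (iv4 F314257)) (tt N22285 (iv5 D72790)) (tt N32836 F311816) (tt N22401 F110002))
theorem Q43620 : ∀ i, i < 43620 → P i := stepQ 43619 Q43619 (allL N43619 (tt N77169 D153873) (tt N63722 (iv0 F305971)) (tt N52369 F311825) (tt N22288 F109277) (tt N77167 (iv4 F241763)) (tt N44533 (iv5 F112436)) (tt N22285 (iv6 D72791)) (tt N77170 D153875))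
theorem Q43621 : ∀ i, i < 43621 → P i := stepQ 43620 Q43620 (allL N43620 (tt N77171 D153877) (tt N25015 F303326) (tt N77172 D153878) (tt N22286 (iv3 D72795)) (tt N77165 (iv4 F241758)) (tt N77173 D153879) (tt N65013 (iv6 F351759)) (tt N22403 F110003))
theorem Q43622 : ∀ i, i < 43622 → P i := stepQ 43621 Q43621 (allL N43621 (tt N49117 F338024) (tt N77174 D153882) (tt N22389 F110004) (tt N77173 (iv3 F241804)) (tt N49105 F337923) (tt N22286 (iv5 D72796)) (tt N77175 D153884) (tt N22404 F110005))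
theorem Q43623 : ∀ i, i < 43623 → P i := stepQ 43622 Q43622 (allL N43622 (tt N48475 F308288) (tt N48472 F308289) (tt N22390 F110006) (tt N65013 (iv3 F351758)) (tt N22288 F109281) (tt N77176 D153886) (tt N22286 (iv6 D72797)) (tt N29330 F308290))
theorem Q43624 : ∀ i, i < 43624 → P i := stepQ 43623 Q43623 (allL N43623 (tt N77177 D153888) (tt N75258 F230908) (tt N22393 F110007) (tt N77178 D153889) (tt N22287 (iv4 D72801)) (tt N77179 D153890) (tt N64054 (iv6 F305622)) (tt N22405 F110008))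
theorem Q43625 : ∀ i, i < 43625 → P i := stepQ 43624 Q43624 (allL N43624 (tt N22395 F110014) (tt N22342 F110015) (tt N22397 F110016) (tt N77170 (iv3 F241789)) (tt N29330 (iv4 F306384)) (tt N43460 F110017) (tt N22407 F110018) (tt N22288 (iv7 D72806)))
theorem Q43626 : ∀ i, i < 43626 → P i := stepQ 43625 Q43625 (allL N43625 (tt N51818 (iv1 F348962)) (tt N51814 (iv0 F334068)) (tt N52371 (iv2 F314792)) (tt N22291 F109296) (tt N27462 (iv4 F314847)) (tt N22289 (iv5 D72811)) (tt N52377 F312408) (tt N22385 F109974))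
theorem Q43627 : ∀ i, i < 43627 → P i := stepQ 43626 Q43626 (allL N43626 (tt N47328 (iv1 F303518)) (tt N47300 (iv0 F302854)) (tt N47063 (iv2 F302132)) (tt N22292 F109297) (tt N27966 F300712) (tt N25404 (iv5 F303519)) (tt N22289 (iv6 D72812)) (tt N46550 (iv7 F302134)))
theorem Q43628 : ∀ i, i < 43628 → P i := stepQ 43627 Q43627 (allL N43627 (tt N64533 (iv1 F337507)) (tt N77180 D153895) (tt N77181 D153896) (tt N22290 (iv3 D72813)) (tt N36586 F109299) (tt N77182 D153897) (tt N27344 F305616) (tt N22388 F109976))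
theorem Q43629 : ∀ i, i < 43629 → P i := stepQ 43628 Q43628 (allL N43628 (tt N77174 (iv1 F241811)) (tt N49117 F338023) (tt N22404 F109977) (tt N77182 (iv3 F241860)) (tt N49104 F337926) (tt N22290 (iv5 D72814)) (tt N27346 (iv6 F308465)) (tt N22389 F109978))
theorem Q43630 : ∀ i, i < 43630 → P i := stepQ 43629 Q43629 (allL N43629 (tt N75258 F230907) (tt N77177 F241834) (tt N22405 F109980) (tt N77183 D153903) (tt N22291 (iv4 D72816)) (tt N77184 D153904) (tt N74990 (iv6 F230000)) (tt N22393 F109981))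
theorem Q43631 : ∀ i, i < 43631 → P i := stepQ 43630 Q43630 (allL N43630 (tt N22300 (iv1 F109306)) (tt N22293 (iv0 D72820)) (tt N22297 (iv2 F190721)) (tt N23897 F190366) (tt N47301 (iv4 F307124)) (tt N33454 (iv5 F308898)) (tt N47300 F305206) (tt N22298 F190720))
theorem Q43632 : ∀ i, i < 43632 → P i := stepQ 43631 Q43631 (allL N43631 (tt N22298 (iv1 F109307)) (tt N22297 F109308) (tt N22300 F109303) (tt N65190 (iv3 F199496)) (tt N36566 F109304) (tt N65208 (iv5 F199575)) (tt N22346 F109305) (tt N22293 (iv7 D72822)))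
theorem Q43633 : ∀ i, i < 43633 → P i := stepQ 43632 Q43632 (allL N43632 (tt N36568 (iv1 F109313)) (tt N36567 F109312) (tt N22294 (iv2 D72823)) (tt N36561 F109309) (tt N22306 F109310) (tt N32753 (iv5 F109314)) (tt N54242 (iv6 F306406)) (tt N36569 F109311))
theorem Q43634 : ∀ i, i < 43634 → P i := stepQ 43633 Q43633 (allL N43633 (tt N56180 (iv1 F163147)) (tt N34077 F109326) (tt N32753 F109322) (tt N22295 F109323) (tt N29571 F109325) (tt N22294 (iv5 D72824)) (tt N77185 D153907) (tt N32751 F109324))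
theorem Q43635 : ∀ i, i < 43635 → P i := stepQ 43634 Q43634 (allL N43634 (tt N47943 (iv1 F306723)) (tt N54244 (iv0 F306724)) (tt N54242 (iv2 F306404)) (tt N22296 F109327) (tt N22308 F109328) (tt N77186 D153910) (tt N22294 (iv6 D72825)) (tt N54241 (iv7 F306244)))
theorem Q43636 : ∀ i, i < 43636 → P i := stepQ 43635 Q43635 (allL N43635 (tt N77187 D153912) (tt N77188 D153913) (tt N36564 F109329) (tt N77185 (iv3 F241887)) (tt N35342 F109330) (tt N77189 D153914) (tt N22295 (iv6 D72826)) (tt N77190 D153915))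
theorem Q43637 : ∀ i, i < 43637 → P i := stepQ 43636 Q43636 (allL N43636 (tt N22296 (iv1 D72828)) (tt N36566 F109331) (tt N23980 F190727) (tt N77191 D153916) (tt N23988 F190728) (tt N75466 (iv5 F353855)) (tt N47555 F304134) (tt N36538 F190729))
theorem Q43638 : ∀ i, i < 43638 → P i := stepQ 43637 Q43637 (allL N43637 (tt N77192 D153919) (tt N77193 D153920) (tt N36565 F109332) (tt N77186 (iv3 F241889)) (tt N77194 D153921) (tt N22296 (iv5 D72829)) (tt N77189 (iv6 F241895)) (tt N77195 D153922))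
theorem Q43639 : ∀ i, i < 43639 → P i := stepQ 43638 Q43638 (allL N43638 (tt N23980 F190374) (tt N36538 F190375) (tt N36566 F109333) (tt N54241 (iv3 F306242)) (tt N22300 F109334) (tt N77195 (iv5 F241921)) (tt N36573 F109335) (tt N22296 (iv7 D72830)))
theorem Q43640 : ∀ i, i < 43640 → P i := stepQ 43639 Q43639 (allL N43639 (tt N41038 (iv1 F313300)) (tt N40848 F320142) (tt N33454 F311049) (tt N41030 (iv3 F311118)) (tt N77196 D153925) (tt N22297 (iv5 D72834)) (tt N42269 (iv6 F325366)) (tt N41039 (iv7 F313303)))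
theorem Q43641 : ∀ i, i < 43641 → P i := stepQ 43640 Q43640 (allL N43640 (tt N47063 F303886) (tt N46550 F303887) (tt N47300 F303888) (tt N22524 F190725) (tt N34202 (iv4 F304310)) (tt N43444 F109340) (tt N22297 (iv6 D72835)) (tt N47328 F303889))
theorem Q43642 : ∀ i, i < 43642 → P i := stepQ 43641 Q43641 (allL N43641 (tt N65224 (iv1 F200443)) (tt N65221 (iv0 F200421)) (tt N63705 F190716) (tt N41043 F308999) (tt N47395 (iv4 F306247)) (tt N42165 F190714) (tt N22298 (iv6 D72840)) (tt N65223 (iv7 F200438)))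
theorem Q43643 : ∀ i, i < 43643 → P i := stepQ 43642 Q43642 (allL N43642 (tt N65208 (iv1 F199578)) (tt N22299 (iv0 D72841)) (tt N64056 (iv2 F192431)) (tt N62532 (iv3 F322166)) (tt N66950 (iv4 F206216)) (tt N72410 (iv5 F313929)) (tt N73773 (iv6 F348977)) (tt N62522 (iv7 F322160)))
theorem Q43644 : ∀ i, i < 43644 → P i := stepQ 43643 Q43643 (allL N43643 (tt N22299 (iv1 D72842)) (tt N65208 F199577) (tt N62522 (iv2 F322158)) (tt N23371 F191136) (tt N66951 (iv4 F206219)) (tt N44438 F311477) (tt N62515 (iv6 F322472)) (tt N64056 (iv7 F192424)))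
theorem Q43645 : ∀ i, i < 43645 → P i := stepQ 43644 Q43644 (allL N43644 (tt N62522 (iv1 F322157)) (tt N64056 (iv0 F192425)) (tt N65208 (iv2 F199574)) (tt N22320 F109343) (tt N56314 (iv4 F163394)) (tt N22300 F109344) (tt N22320 F109345) (tt N22299 (iv7 D72843)))
theorem Q43646 : ∀ i, i < 43646 → P i := stepQ 43645 Q43645 (allL N43645 (tt N64428 F197039) (tt N22301 (iv0 D72844)) (tt N64523 (iv2 F197483)) (tt N24533 F109346) (tt N47689 (iv4 F129493)) (tt N42249 F309447) (tt N77197 D153930) (tt N64587 (iv7 F197746)))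
theorem Q43647 : ∀ i, i < 43647 → P i := stepQ 43646 Q43646 (allL N43646 (tt N22301 (iv1 D72845)) (tt N64428 F197040) (tt N64587 (iv2 F197749)) (tt N28088 F306536) (tt N64622 (iv4 F197921)) (tt N42252 F309425) (tt N28085 (iv6 F308351)) (tt N64523 (iv7 F197484)))
theorem Q43648 : ∀ i, i < 43648 → P i := stepQ 43647 Q43647 (allL N43647 (tt N55351 (iv1 F366781)) (tt N55354 (iv0 F307398)) (tt N65175 (iv2 F199441)) (tt N57427 F315788) (tt N77198 D153938) (tt N22302 (iv5 D72849)) (tt N76955 (iv6 F240937)) (tt N65225 (iv7 F200447)))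
theorem Q43649 : ∀ i, i < 43649 → P i := stepQ 43648 Q43648 (allL N43648 (tt N75472 (iv1 F231586)) (tt N75489 (iv0 F231627)) (tt N65173 (iv2 F199437)) (tt N64590 (iv3 F197754)) (tt N77199 D153939) (tt N22303 (iv5 D72853)) (tt N76958 (iv6 F240938)) (tt N75873 (iv7 F306621)))
theorem Q43650 : ∀ i, i < 43650 → P i := stepQ 43649 Q43649 (allL N43649 (tt N25357 F109352) (tt N35061 (iv0 F109353)) (tt N35062 F109350) (tt N77200 D153940) (tt N22304 (iv4 D72855)) (tt N45028 (iv5 F114402)) (tt N37165 F314444) (tt N35063 F109351))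
theorem Q43651 : ∀ i, i < 43651 → P i := stepQ 43650 Q43650 (allL N43650 (tt N65226 (iv1 F354628)) (tt N65214 (iv0 F357810)) (tt N65176 (iv2 F199447)) (tt N45107 (iv3 F114559)) (tt N37165 (iv4 F312103)) (tt N77201 D153944) (tt N22304 (iv6 D72856)) (tt N64897 (iv7 F312104)))
theorem Q43652 : ∀ i, i < 43652 → P i := stepQ 43651 Q43651 (allL N43651 (tt N24537 F109354) (tt N24533 F110138) (tt N43910 (iv2 F110135)) (tt N22305 (iv3 D72857)) (tt N43944 (iv4 F110265)) (tt N76948 (iv5 F240913)) (tt N77202 D153946) (tt N47073 (iv7 F128225)))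
theorem Q43653 : ∀ i, i < 43653 → P i := stepQ 43652 Q43652 (allL N43652 (tt N22388 (iv1 F324403)) (tt N77181 (iv0 F324404)) (tt N64533 (iv2 F197509)) (tt N77202 (iv3 F241966)) (tt N46951 F323003) (tt N54815 (iv5 F291517)) (tt N22305 (iv6 D72858)) (tt N77180 (iv7 F363624)))
theorem Q43654 : ∀ i, i < 43654 → P i := stepQ 43653 Q43653 (allL N43653 (tt N47257 F331918) (tt N77203 D153952) (tt N22308 F109355) (tt N64528 (iv3 F197496)) (tt N54242 (iv4 F306405)) (tt N77204 D153953) (tt N22306 (iv6 D72859)) (tt N77205 D153954))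
theorem Q43655 : ∀ i, i < 43655 → P i := stepQ 43654 Q43654 (allL N43654 (tt N77206 D153955) (tt N77207 D153956) (tt N61143 (iv2 F178113)) (tt N22311 F109356) (tt N47535 F324635) (tt N77208 D153957) (tt N22307 (iv6 D72860)) (tt N77209 D153958))
theorem Q43656 : ∀ i, i < 43656 → P i := stepQ 43655 Q43655 (allL N43655 (tt N77205 (iv1 F241976)) (tt N22308 (iv0 D72861)) (tt N47257 F331865) (tt N64438 (iv3 F241982)) (tt N46950 F331866) (tt N77210 D153962) (tt N46949 (iv6 F331870)) (tt N77203 (iv7 F331921)))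
theorem Q43657 : ∀ i, i < 43657 → P i := stepQ 43656 Q43656 (allL N43656 (tt N22308 (iv1 D72862)) (tt N77205 F241973) (tt N77203 (iv2 F331920)) (tt N77211 D153965) (tt N47261 F331860) (tt N77212 D153967) (tt N47490 (iv6 F331863)) (tt N47257 (iv7 F331864)))
theorem Q43658 : ∀ i, i < 43658 → P i := stepQ 43657 Q43657 (allL N43657 (tt N77213 D153969) (tt N77214 D153970) (tt N77204 (iv2 F241970)) (tt N22313 F109357) (tt N77215 D153971) (tt N22308 (iv5 D72863)) (tt N77208 (iv6 F241978)) (tt N77216 D153972))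
theorem Q43659 : ∀ i, i < 43659 → P i := stepQ 43658 Q43658 (allL N43658 (tt N77203 (iv1 F241968)) (tt N47257 F331917) (tt N77205 (iv2 F241971)) (tt N22314 F109358) (tt N54241 F308241) (tt N77216 (iv5 F241987)) (tt N65180 (iv6 F199453)) (tt N22308 (iv7 D72864)))
theorem Q43660 : ∀ i, i < 43660 → P i := stepQ 43659 Q43659 (allL N43659 (tt N42249 F309420) (tt N42252 F309421) (tt N64593 (iv2 F197773)) (tt N22309 (iv3 D72865)) (tt N77217 D153973) (tt N42687 F109359) (tt N41858 F316667) (tt N43463 F109360))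
theorem Q43661 : ∀ i, i < 43661 → P i := stepQ 43660 Q43660 (allL N43660 (tt N77218 D153975) (tt N77219 D153976) (tt N43468 F109361) (tt N41858 (iv3 F314297)) (tt N42040 F311879) (tt N77220 D153977) (tt N22309 (iv6 D72866)) (tt N42100 (iv7 F314298)))
theorem Q43662 : ∀ i, i < 43662 → P i := stepQ 43661 Q43661 (allL N43661 (tt N65203 (iv1 F199542)) (tt N22311 (iv0 D72868)) (tt N65201 (iv2 F347349)) (tt N77221 D153984) (tt N77222 D153985) (tt N77223 D153986) (tt N77224 D153987) (tt N65202 (iv7 F347347)))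
theorem Q43663 : ∀ i, i < 43663 → P i := stepQ 43662 Q43662 (allL N43662 (tt N22311 (iv1 D72869)) (tt N65203 F199541) (tt N65202 (iv2 F347346)) (tt N38547 (iv3 F347348)) (tt N77225 D153990) (tt N38546 F347345) (tt N77226 D153992) (tt N65201 (iv7 F347350)))
theorem Q43664 : ∀ i, i < 43664 → P i := stepQ 43663 Q43663 (allL N43663 (tt N52319 F345944) (tt N27340 (iv0 F345945)) (tt N52317 (iv2 F339694)) (tt N77208 (iv3 F241977)) (tt N69773 (iv4 F339644)) (tt N22311 (iv5 D72870)) (tt N22313 F109363) (tt N52318 (iv7 F345952)))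
theorem Q43665 : ∀ i, i < 43665 → P i := stepQ 43664 Q43664 (allL N43664 (tt N65202 (iv1 F199535)) (tt N65201 F199540) (tt N65203 (iv2 F199538)) (tt N77209 (iv3 F241979)) (tt N66990 (iv4 F206331)) (tt N52318 (iv5 F345951)) (tt N65183 (iv6 F199458)) (tt N22311 (iv7 D72871)))
theorem Q43666 : ∀ i, i < 43666 → P i := stepQ 43665 Q43665 (allL N43665 (tt N29785 F191174) (tt N43735 F191175) (tt N33824 F190903) (tt N22494 (iv3 F307013)) (tt N22312 (iv4 D72879)) (tt N66572 (iv5 F315746)) (tt N48471 F305068) (tt N28714 (iv7 F305995)))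
theorem Q43667 : ∀ i, i < 43667 → P i := stepQ 43666 Q43666 (allL N43666 (tt N48786 (iv1 F310390)) (tt N48785 (iv0 F310388)) (tt N48788 F308296) (tt N39831 F338401) (tt N69253 (iv4 F362900)) (tt N22312 (iv5 D72880)) (tt N69240 (iv6 F337805)) (tt N48549 F308297))
theorem Q43668 : ∀ i, i < 43668 → P i := stepQ 43667 Q43667 (allL N43667 (tt N48784 F308300) (tt N22313 (iv0 D72882)) (tt N65204 F240985) (tt N77227 D154014) (tt N77228 D154015) (tt N77229 D154016) (tt N77230 D154017) (tt N65205 F240983))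
theorem Q43669 : ∀ i, i < 43669 → P i := stepQ 43668 Q43668 (allL N43668 (tt N22313 (iv1 D72883)) (tt N48784 F308299) (tt N65205 (iv2 F240982)) (tt N64597 (iv3 F242347)) (tt N77231 D154019) (tt N43557 (iv5 F109366)) (tt N77232 D154020) (tt N65204 (iv7 F240984)))
theorem Q43670 : ∀ i, i < 43670 → P i := stepQ 43669 Q43669 (allL N43669 (tt N77233 D154021) (tt N77234 D154022) (tt N65206 (iv2 F199556)) (tt N77235 D154023) (tt N22313 (iv4 D72884)) (tt N77236 D154024) (tt N69773 (iv6 F339645)) (tt N77237 D154025))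
theorem Q43671 : ∀ i, i < 43671 → P i := stepQ 43670 Q43670 (allL N43670 (tt N65205 (iv1 F199555)) (tt N65204 F199559) (tt N48784 F308298) (tt N77216 (iv3 F241986)) (tt N77237 (iv4 F242049)) (tt N22314 F109367) (tt N77238 D154026) (tt N22313 (iv7 D72885)))
theorem Q43672 : ∀ i, i < 43672 → P i := stepQ 43671 Q43671 (allL N43671 (tt N22317 (iv1 F109388)) (tt N22315 (iv0 D72905)) (tt N63713 F190828) (tt N77239 D154034) (tt N77240 D154035) (tt N22866 F109384) (tt N77241 D154036) (tt N63714 (iv7 F190830)))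
theorem Q43673 : ∀ i, i < 43673 → P i := stepQ 43672 Q43672 (allL N43672 (tt N22315 (iv1 D72906)) (tt N22317 F109385) (tt N63714 (iv2 F190832)) (tt N40848 F318359) (tt N61180 (iv4 F290375)) (tt N65264 (iv5 F200526)) (tt N40842 F318360) (tt N63713 F190831))
theorem Q43674 : ∀ i, i < 43674 → P i := stepQ 43673 Q43673 (allL N43673 (tt N77242 D154038) (tt N73155 (iv0 F339633)) (tt N63715 F190891) (tt N61763 (iv3 F339638)) (tt N22315 (iv4 D72907)) (tt N70822 (iv5 F339636)) (tt N52756 (iv6 F310839)) (tt N61756 (iv7 F327338)))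
theorem Q43675 : ∀ i, i < 43675 → P i := stepQ 43674 Q43674 (allL N43674 (tt N73155 (iv1 F339634)) (tt N77242 F242064) (tt N61756 (iv2 F327336)) (tt N39086 F326597) (tt N22317 (iv4 D72923)) (tt N39080 (iv5 F327339)) (tt N61752 F326598) (tt N63715 F190768))
theorem Q43676 : ∀ i, i < 43676 → P i := stepQ 43675 Q43675 (allL N43675 (tt N75247 (iv1 F230884)) (tt N42026 (iv0 F109393)) (tt N61755 (iv2 F332561)) (tt N22450 F190769) (tt N61752 (iv4 F325784)) (tt N77243 D154049) (tt N22317 (iv6 D72924)) (tt N42277 (iv7 F310961)))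
theorem Q43677 : ∀ i, i < 43677 → P i := stepQ 43676 Q43676 (allL N43676 (tt N42157 F191095) (tt N51754 (iv0 F317855)) (tt N52006 (iv2 F312741)) (tt N22451 F190772) (tt N52215 (iv4 F308124)) (tt N22318 (iv5 D72927)) (tt N77243 (iv6 F242075)) (tt N46529 F306151))
theorem Q43678 : ∀ i, i < 43678 → P i := stepQ 43677 Q43677 (allL N43677 (tt N73786 (iv1 F320231)) (tt N73785 (iv0 F320225)) (tt N32870 F177845) (tt N43175 F259175) (tt N22319 (iv4 D72931)) (tt N77244 D154053) (tt N75262 (iv6 F230916)) (tt N65207 (iv7 F199568)))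
theorem Q43679 : ∀ i, i < 43679 → P i := stepQ 43678 Q43678 (allL N43678 (tt N43393 (iv1 F190124)) (tt N43392 (iv0 F190123)) (tt N43394 (iv2 F190127)) (tt N44433 F315964) (tt N77245 D154054) (tt N22319 (iv5 D72932)) (tt N42162 F109397) (tt N43389 (iv7 F190107)))
theorem Q43680 : ∀ i, i < 43680 → P i := stepQ 43679 Q43679 (allL N43679 (tt N28307 F321059) (tt N28824 F321060) (tt N22324 F109438) (tt N46694 (iv3 F125887)) (tt N22322 F109439) (tt N72136 (iv5 F326320)) (tt N22321 (iv6 D72936)) (tt N28823 F321047))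
theorem Q43681 : ∀ i, i < 43681 → P i := stepQ 43680 Q43680 (allL N43680 (tt N22322 (iv1 D72938)) (tt N22327 F109440) (tt N22326 (iv2 F190924)) (tt N25065 F190612) (tt N39840 (iv4 F325446)) (tt N43091 F307787) (tt N77169 (iv6 F241787)) (tt N22325 F190923))
theorem Q43682 : ∀ i, i < 43682 → P i := stepQ 43681 Q43681 (allL N43681 (tt N22326 (iv1 F109445)) (tt N22325 F109446) (tt N22327 F109441) (tt N22346 F109442) (tt N28823 F321053) (tt N22327 F109443) (tt N65190 (iv6 F199498)) (tt N22322 (iv7 D72939)))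
theorem Q43683 : ∀ i, i < 43683 → P i := stepQ 43682 Q43682 (allL N43682 (tt N46693 (iv1 F125886)) (tt N22323 (iv0 D72940)) (tt N51277 (iv2 F144655)) (tt N24783 F109448) (tt N45281 (iv4 F115011)) (tt N26023 F109447) (tt N77246 D154061) (tt N28285 (iv7 F109449)))
theorem Q43684 : ∀ i, i < 43684 → P i := stepQ 43683 Q43683 (allL N43683 (tt N22323 (iv1 D72941)) (tt N46693 (iv0 F125885)) (tt N28285 (iv2 F109451)) (tt N46679 F125785) (tt N45278 (iv4 F114999)) (tt N27209 F109450) (tt N77247 D154062) (tt N51277 (iv7 F144658)))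
theorem Q43685 : ∀ i, i < 43685 → P i := stepQ 43684 Q43684 (allL N43684 (tt N51277 (iv1 F144660)) (tt N28285 F109455) (tt N22323 (iv2 D72942)) (tt N28684 F109452) (tt N22329 F109453) (tt N28269 F109454) (tt N77248 D154063) (tt N46693 (iv7 F125884)))
theorem Q43686 : ∀ i, i < 43686 → P i := stepQ 43685 Q43685 (allL N43685 (tt N77249 D154064) (tt N77250 D154065) (tt N77248 (iv2 F242111)) (tt N22324 F109456) (tt N22331 F109457) (tt N77251 D154066) (tt N22323 (iv6 D72943)) (tt N77252 D154067))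
theorem Q43687 : ∀ i, i < 43687 → P i := stepQ 43686 Q43686 (allL N43686 (tt N71027 F327137) (tt N28838 F286853) (tt N72136 F327138) (tt N77251 (iv3 F242114)) (tt N77253 D154073) (tt N22324 (iv5 D72946)) (tt N28634 F109458) (tt N39483 F327139))
theorem Q43688 : ∀ i, i < 43688 → P i := stepQ 43687 Q43687 (allL N43687 (tt N28824 F321061) (tt N28307 F321062) (tt N28823 F321048) (tt N77252 (iv3 F242116)) (tt N22327 F109459) (tt N39483 F327140) (tt N42554 (iv6 F190893)) (tt N22324 (iv7 D72947)))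
theorem Q43689 : ∀ i, i < 43689 → P i := stepQ 43688 Q43688 (allL N43688 (tt N77254 D154075) (tt N77255 D154076) (tt N63723 (iv2 F190949)) (tt N43093 F306521) (tt N71022 (iv4 F319001)) (tt N22325 (iv5 D72951)) (tt N72391 (iv6 F314141)) (tt N43091 F306522))
theorem Q43690 : ∀ i, i < 43690 → P i := stepQ 43689 Q43689 (allL N43689 (tt N65239 F242144) (tt N65249 F242146) (tt N63724 (iv2 F190953)) (tt N63729 F190952) (tt N63097 F190951) (tt N76981 F241292) (tt N22325 (iv6 D72952)) (tt N65247 F241309))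
theorem Q43691 : ∀ i, i < 43691 → P i := stepQ 43690 Q43690 (allL N43690 (tt N77255 (iv1 F242135)) (tt N77254 F242130) (tt N43091 F306104) (tt N56124 F306105) (tt N34877 F306106) (tt N22326 (iv5 D72956)) (tt N34875 F306107) (tt N63723 (iv7 F190942)))
theorem Q43692 : ∀ i, i < 43692 → P i := stepQ 43691 Q43691 (allL N43691 (tt N77170 (iv1 F242802)) (tt N52369 (iv0 F310096)) (tt N77169 F241785) (tt N22501 F232897) (tt N63098 F190933) (tt N56123 (iv5 F308046)) (tt N22326 (iv6 D72957)) (tt N63722 (iv7 F305973)))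
theorem Q43693 : ∀ i, i < 43693 → P i := stepQ 43692 Q43692 (allL N43692 (tt N77172 (iv1 F241802)) (tt N22403 F184765) (tt N25015 F303325) (tt N24789 (iv3 F308343)) (tt N26093 F109463) (tt N77256 D154082) (tt N22328 (iv6 D72958)) (tt N77171 (iv7 F241798)))
theorem Q43694 : ∀ i, i < 43694 → P i := stepQ 43693 Q43693 (allL N43693 (tt N34850 F109467) (tt N28497 F109468) (tt N22330 F109464) (tt N55774 (iv3 F161712)) (tt N23376 F109465) (tt N22329 (iv5 D72959)) (tt N72163 (iv6 F328074)) (tt N42628 F109466))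
theorem Q43695 : ∀ i, i < 43695 → P i := stepQ 43694 Q43694 (allL N43694 (tt N64432 (iv1 F197561)) (tt N64567 F197565) (tt N22331 F109469) (tt N65177 (iv3 F199450)) (tt N77248 (iv4 F242113)) (tt N62286 (iv5 F327045)) (tt N22329 (iv6 D72960)) (tt N64566 (iv7 F197559)))
theorem Q43696 : ∀ i, i < 43696 → P i := stepQ 43695 Q43695 (allL N43695 (tt N49812 (iv1 F337116)) (tt N39927 (iv0 F328071)) (tt N72163 (iv2 F328072)) (tt N22332 F109470) (tt N42630 F109471) (tt N25158 F327598) (tt N22330 (iv6 D72961)) (tt N65292 (iv7 F328077)))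
theorem Q43697 : ∀ i, i < 43697 → P i := stepQ 43696 Q43696 (allL N43696 (tt N64566 (iv1 F197562)) (tt N22331 (iv0 D72962)) (tt N64432 (iv2 F197067)) (tt N64563 (iv3 F197554)) (tt N65014 (iv4 F198894)) (tt N77257 D154089) (tt N77258 D154090) (tt N64567 (iv7 F197563)))
theorem Q43698 : ∀ i, i < 43698 → P i := stepQ 43697 Q43697 (allL N43697 (tt N62280 (iv1 F327042)) (tt N42923 (iv0 F327043)) (tt N62286 (iv2 F327044)) (tt N22335 F109472) (tt N25159 (iv4 F327046)) (tt N22331 (iv5 D72964)) (tt N25158 (iv6 F327048)) (tt N62285 (iv7 F327051)))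
theorem Q43699 : ∀ i, i < 43699 → P i := stepQ 43698 Q43698 (allL N43698 (tt N64567 (iv1 F197564)) (tt N64432 (iv0 F197066)) (tt N64566 F197560) (tt N22336 F109473) (tt N77252 (iv4 F242117)) (tt N62285 (iv5 F327050)) (tt N48783 F304374) (tt N22331 (iv7 D72965)))
theorem Q43700 : ∀ i, i < 43700 → P i := stepQ 43699 Q43699 (allL N43699 (tt N65183 (iv1 F199461)) (tt N22332 (iv0 D72966)) (tt N49876 (iv2 F345955)) (tt N44876 (iv3 F330642)) (tt N44880 F330641) (tt N55076 (iv5 F361444)) (tt N49862 (iv6 F309396)) (tt N65181 (iv7 F342702)))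
theorem Q43701 : ∀ i, i < 43701 → P i := stepQ 43700 Q43700 (allL N43700 (tt N22332 (iv1 D72967)) (tt N65183 F199460) (tt N65181 (iv2 F342701)) (tt N77259 D154101) (tt N77260 D154102) (tt N77261 D154103) (tt N77262 D154104) (tt N49876 (iv7 F345956)))
theorem Q43702 : ∀ i, i < 43702 → P i := stepQ 43701 Q43701 (allL N43701 (tt N77263 D154105) (tt N77264 D154106) (tt N65182 (iv2 F199455)) (tt N25158 (iv3 F327047)) (tt N25162 F326221) (tt N22332 (iv5 D72968)) (tt N22335 F109474) (tt N65291 (iv7 F327054)))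
theorem Q43703 : ∀ i, i < 43703 → P i := stepQ 43702 Q43702 (allL N43702 (tt N65181 (iv1 F199454)) (tt N49876 (iv0 F345953)) (tt N65183 (iv2 F199457)) (tt N65292 (iv3 F328075)) (tt N66984 (iv4 F206311)) (tt N65291 (iv5 F327053)) (tt N65203 (iv6 F199539)) (tt N22332 (iv7 D72969)))
theorem Q43704 : ∀ i, i < 43704 → P i := stepQ 43703 Q43703 (allL N43703 (tt N56147 (iv1 F301980)) (tt N64429 (iv0 F255590)) (tt N64431 F197050) (tt N22333 (iv3 D72971)) (tt N63722 (iv4 F190975)) (tt N77265 D154110) (tt N64913 (iv6 F361461)) (tt N63098 (iv7 F305132)))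
theorem Q43705 : ∀ i, i < 43705 → P i := stepQ 43704 Q43704 (allL N43704 (tt N36558 F190959) (tt N35078 F190960) (tt N33855 F190961) (tt N36545 F190962) (tt N22333 (iv4 D72972)) (tt N66848 (iv5 F205830)) (tt N77266 D154112) (tt N36557 F190963))
theorem Q43706 : ∀ i, i < 43706 → P i := stepQ 43705 Q43705 (allL N43705 (tt N55336 (iv1 F307357)) (tt N55338 (iv0 F307363)) (tt N65185 (iv2 F199464)) (tt N77265 (iv3 F242178)) (tt N47186 (iv4 F332004)) (tt N22333 (iv5 D72973)) (tt N47196 (iv6 F332005)) (tt N65187 (iv7 F199470)))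
theorem Q43707 : ∀ i, i < 43707 → P i := stepQ 43706 Q43706 (allL N43706 (tt N65215 (iv1 F240995)) (tt N48718 F308464) (tt N65186 (iv2 F199466)) (tt N64913 (iv3 F361460)) (tt N77266 (iv4 F242182)) (tt N76968 F240991) (tt N22333 (iv6 D72974)) (tt N65254 F240089))
theorem Q43708 : ∀ i, i < 43708 → P i := stepQ 43707 Q43707 (allL N43707 (tt N77197 (iv1 F333736)) (tt N77267 D154118) (tt N77268 D154119) (tt N22334 (iv3 D72976)) (tt N42706 F190976) (tt N77269 D154120) (tt N63868 (iv6 F314091)) (tt N65184 (iv7 F199463)))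
theorem Q43709 : ∀ i, i < 43709 → P i := stepQ 43708 Q43708 (allL N43708 (tt N55338 (iv1 F307364)) (tt N55336 (iv0 F307356)) (tt N65187 (iv2 F199469)) (tt N77269 (iv3 F242190)) (tt N77270 D154122) (tt N22334 (iv5 D72978)) (tt N77271 D154123) (tt N65185 (iv7 F199465)))
theorem Q43710 : ∀ i, i < 43710 → P i := stepQ 43709 Q43709 (allL N43709 (tt N29330 F308292) (tt N22390 F190978) (tt N48475 F310128) (tt N63868 (iv3 F314090)) (tt N28720 F310335) (tt N77272 D154124) (tt N22334 (iv6 D72979)) (tt N48472 F310129))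
theorem Q43711 : ∀ i, i < 43711 → P i := stepQ 43710 Q43710 (allL N43710 (tt N48930 F306633) (tt N22335 (iv0 D72980)) (tt N48932 F306634) (tt N72551 (iv3 F331759)) (tt N77273 D154126) (tt N29336 F306635) (tt N72550 (iv6 F331758)) (tt N29335 F306636))
theorem Q43712 : ∀ i, i < 43712 → P i := stepQ 43711 Q43711 (allL N43711 (tt N36079 F329830) (tt N54093 F306640) (tt N65188 (iv2 F199480)) (tt N25163 F324108) (tt N22335 (iv4 D72982)) (tt N46388 F315035) (tt N25162 (iv6 F325324)) (tt N73191 (iv7 F325015)))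
theorem Q43713 : ∀ i, i < 43713 → P i := stepQ 43712 Q43712 (allL N43712 (tt N29335 F306641) (tt N48932 F306642) (tt N48930 F306643) (tt N62285 (iv3 F327049)) (tt N73191 (iv4 F325013)) (tt N22336 F109478) (tt N77274 D154137) (tt N22335 (iv7 D72983)))
theorem Q43714 : ∀ i, i < 43714 → P i := stepQ 43713 Q43713 (allL N43713 (tt N49016 F306442) (tt N49019 F306443) (tt N64688 (iv2 F198072)) (tt N24972 F190621) (tt N77275 D154140) (tt N22337 (iv5 D73000)) (tt N51221 (iv6 F358765)) (tt N54160 (iv7 F310331)))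
theorem Q43715 : ∀ i, i < 43715 → P i := stepQ 43714 Q43714 (allL N43714 (tt N54153 (iv1 F306695)) (tt N52770 (iv0 F306353)) (tt N54155 (iv2 F308444)) (tt N24973 F190623) (tt N22339 F109491) (tt N77276 D154142) (tt N22337 (iv6 D73001)) (tt N46666 F190624))
theorem Q43716 : ∀ i, i < 43716 → P i := stepQ 43715 Q43715 (allL N43715 (tt N22341 (iv1 F109498)) (tt N22338 (iv0 D73003)) (tt N63732 F192070) (tt N42164 F130789) (tt N52814 F303573) (tt N48428 F306265) (tt N42156 (iv6 F130788)) (tt N63731 (iv7 F192044)))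
theorem Q43717 : ∀ i, i < 43717 → P i := stepQ 43716 Q43716 (allL N43716 (tt N22338 (iv1 D73004)) (tt N22341 F109495) (tt N63731 F192047) (tt N77255 F242137) (tt N52813 (iv4 F300769)) (tt N48429 F306270) (tt N43412 (iv6 F191086)) (tt N63732 (iv7 F192069)))
theorem Q43718 : ∀ i, i < 43718 → P i := stepQ 43717 Q43717 (allL N43717 (tt N64346 (iv1 F345825)) (tt N64461 (iv0 F345826)) (tt N64433 (iv2 F197084)) (tt N22340 (iv3 D73018)) (tt N63565 F191103) (tt N77277 D154146) (tt N54100 (iv6 F306901)) (tt N64459 (iv7 F351765)))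
theorem Q43719 : ∀ i, i < 43719 → P i := stepQ 43718 Q43718 (allL N43718 (tt N49019 F306440) (tt N49016 F306441) (tt N54160 (iv2 F310329)) (tt N77277 (iv3 F242227)) (tt N69316 (iv4 F334212)) (tt N22340 (iv5 D73019)) (tt N77278 D154149) (tt N64688 (iv7 F198073)))
theorem Q43720 : ∀ i, i < 43720 → P i := stepQ 43719 Q43719 (allL N43719 (tt N37218 (iv1 F306307)) (tt N37217 (iv0 F307692)) (tt N37219 F305680) (tt N66967 (iv3 F306792)) (tt N22341 (iv4 D73021)) (tt N66967 F206284) (tt N36449 (iv6 F191028)) (tt N37209 (iv7 F307695)))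
theorem Q43721 : ∀ i, i < 43721 → P i := stepQ 43720 Q43720 (allL N43720 (tt N22865 F109509) (tt N22861 (iv0 F109508)) (tt N54157 (iv2 F310321)) (tt N63568 (iv3 F190827)) (tt N66574 (iv4 F315956)) (tt N22342 (iv5 D73024)) (tt N43420 F109507) (tt N54148 (iv7 F308437)))
theorem Q43722 : ∀ i, i < 43722 → P i := stepQ 43721 Q43721 (allL N43721 (tt N42164 (iv1 F109518)) (tt N34547 (iv0 F190711)) (tt N43491 F109514) (tt N22485 F190539) (tt N25816 F304234) (tt N22343 (iv5 D73029)) (tt N43151 (iv6 F190595)) (tt N25407 F304235))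
theorem Q43723 : ∀ i, i < 43723 → P i := stepQ 43722 Q43722 (allL N43722 (tt N65213 F200418) (tt N77279 D154154) (tt N65169 (iv2 F199420)) (tt N22486 F190650) (tt N66964 (iv4 F206279)) (tt N43540 F109547) (tt N22343 (iv6 D73030)) (tt N77280 D154155))
theorem Q43724 : ∀ i, i < 43724 → P i := stepQ 43723 Q43723 (allL N43723 (tt N52372 (iv1 F308074)) (tt N22386 F131035) (tt N25410 (iv2 F306260)) (tt N22476 F190646) (tt N47333 (iv4 F308163)) (tt N25391 F306112) (tt N22344 (iv6 D73033)) (tt N45716 (iv7 F306114)))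
theorem Q43725 : ∀ i, i < 43725 → P i := stepQ 43724 Q43724 (allL N43724 (tt N36573 (iv1 F109557)) (tt N22345 (iv0 D73034)) (tt N23649 F190659) (tt N77281 D154157) (tt N23659 F190660) (tt N77282 D154158) (tt N77283 D154159) (tt N36556 F190661))
theorem Q43726 : ∀ i, i < 43726 → P i := stepQ 43725 Q43725 (allL N43725 (tt N73990 (iv1 F341202)) (tt N72412 (iv0 F330257)) (tt N70108 (iv2 F330185)) (tt N22345 (iv3 D73036)) (tt N46694 (iv4 F125888)) (tt N63218 (iv5 F341213)) (tt N36510 F109552) (tt N70106 (iv7 F340195)))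
theorem Q43727 : ∀ i, i < 43727 → P i := stepQ 43726 Q43726 (allL N43726 (tt N77284 D154165) (tt N24486 F310293) (tt N36572 F109553) (tt N63218 (iv3 F341211)) (tt N69315 (iv4 F334208)) (tt N22345 (iv5 D73037)) (tt N70091 (iv6 F342737)) (tt N70105 (iv7 F330197)))
theorem Q43728 : ∀ i, i < 43728 → P i := stepQ 43727 Q43727 (allL N43727 (tt N36556 (iv1 F190668)) (tt N23649 (iv0 F190665)) (tt N36573 F109554) (tt N70106 (iv3 F340192)) (tt N22346 F109555) (tt N70105 (iv5 F330196)) (tt N36566 F109556) (tt N22345 (iv7 D73038)))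
theorem Q43729 : ∀ i, i < 43729 → P i := stepQ 43728 Q43728 (allL N43728 (tt N45578 F116559) (tt N46881 (iv0 F127496)) (tt N45526 F116271) (tt N46807 (iv3 F127144)) (tt N22347 (iv4 D73039)) (tt N28592 F109560) (tt N68484 (iv6 F333012)) (tt N54239 (iv7 F156293)))
theorem Q43730 : ∀ i, i < 43730 → P i := stepQ 43729 Q43729 (allL N43729 (tt N49565 (iv1 F311760)) (tt N54045 (iv0 F311761)) (tt N54288 F309559) (tt N64448 (iv3 F197202)) (tt N68484 (iv4 F333011)) (tt N77285 D154173) (tt N22347 (iv6 D73041)) (tt N47457 (iv7 F311762)))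
theorem Q43731 : ∀ i, i < 43731 → P i := stepQ 43730 Q43730 (allL N43730 (tt N46881 (iv1 F127497)) (tt N45578 (iv0 F116556)) (tt N54239 F156292) (tt N34712 F109566) (tt N22348 (iv4 D73043)) (tt N28593 F109565) (tt N46834 (iv6 F309529)) (tt N45526 F116272))
theorem Q43732 : ∀ i, i < 43732 → P i := stepQ 43731 Q43731 (allL N43731 (tt N26179 F306308) (tt N26175 F306309) (tt N22351 F109567) (tt N23221 F109568) (tt N46070 (iv4 F120175)) (tt N22349 (iv5 D73045)) (tt N77286 D154181) (tt N43039 F109569))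
theorem Q43733 : ∀ i, i < 43733 → P i := stepQ 43732 Q43732 (allL N43732 (tt N43039 (iv1 F109574)) (tt N22351 (iv0 D73048)) (tt N26179 (iv2 F305559)) (tt N61025 F177693) (tt N27350 F109575) (tt N26034 F303370) (tt N77287 D154188) (tt N26175 (iv7 F304277)))
theorem Q43734 : ∀ i, i < 43734 → P i := stepQ 43733 Q43733 (allL N43733 (tt N28566 F109579) (tt N28574 F109578) (tt N46070 (iv2 F120174)) (tt N27448 F109576) (tt N22351 (iv4 D73049)) (tt N27446 F109577) (tt N77288 D154189) (tt N52488 (iv7 F149786)))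
theorem Q43735 : ∀ i, i < 43735 → P i := stepQ 43734 Q43734 (allL N43734 (tt N77289 D154190) (tt N77290 D154191) (tt N77286 (iv2 F242296)) (tt N22354 F109580) (tt N77288 (iv4 F242307)) (tt N54262 (iv5 F308420)) (tt N22351 (iv6 D73050)) (tt N77291 D154193))
theorem Q43736 : ∀ i, i < 43736 → P i := stepQ 43735 Q43735 (allL N43735 (tt N43665 (iv1 F191175)) (tt N25455 (iv0 F305069)) (tt N46190 (iv2 F190017)) (tt N75805 (iv3 F234124)) (tt N22356 F109583) (tt N66954 (iv5 F206235)) (tt N45698 F190968) (tt N22352 (iv7 D73057)))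
theorem Q43737 : ∀ i, i < 43737 → P i := stepQ 43736 Q43736 (allL N43736 (tt N63948 (iv1 F191897)) (tt N63947 F191894) (tt N34472 F109584) (tt N22353 (iv3 D73058)) (tt N45437 (iv4 F115838)) (tt N34471 F109585) (tt N77292 D154210) (tt N43449 F109586))
theorem Q43738 : ∀ i, i < 43738 → P i := stepQ 43737 Q43737 (allL N43737 (tt N75372 (iv1 F347992)) (tt N55590 (iv0 F356627)) (tt N34507 F109587) (tt N77292 (iv3 F242322)) (tt N42812 F109588) (tt N77293 D154213) (tt N22353 (iv6 D73059)) (tt N77294 D154214))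
theorem Q43739 : ∀ i, i < 43739 → P i := stepQ 43738 Q43738 (allL N43738 (tt N64695 (iv1 F198104)) (tt N22354 (iv0 D73060)) (tt N38493 F329883) (tt N77295 D154216) (tt N47174 F347340) (tt N38492 (iv5 F329918)) (tt N77296 D154219) (tt N64693 (iv7 F349800)))
theorem Q43740 : ∀ i, i < 43740 → P i := stepQ 43739 Q43739 (allL N43739 (tt N22354 (iv1 D73061)) (tt N64695 F198103) (tt N64693 (iv2 F349798)) (tt N30867 F329649) (tt N47579 (iv4 F339647)) (tt N30866 (iv5 F329776)) (tt N77297 D154224) (tt N38493 (iv7 F329777)))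
theorem Q43741 : ∀ i, i < 43741 → P i := stepQ 43740 Q43740 (allL N43740 (tt N64693 (iv1 F198097)) (tt N38493 F329650) (tt N64695 (iv2 F198100)) (tt N77291 (iv3 F242310)) (tt N66962 (iv4 F206276)) (tt N69731 (iv5 F347331)) (tt N64687 (iv6 F198068)) (tt N22354 (iv7 D73063)))
theorem Q43742 : ∀ i, i < 43742 → P i := stepQ 43741 Q43741 (allL N43741 (tt N54125 (iv1 F306910)) (tt N22355 (iv0 D73074)) (tt N64675 (iv2 F198037)) (tt N77298 D154229) (tt N77233 F242089) (tt N77245 (iv5 F242088)) (tt N77299 D154230) (tt N64696 F240101))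
theorem Q43743 : ∀ i, i < 43743 → P i := stepQ 43742 Q43742 (allL N43742 (tt N22355 (iv1 D73075)) (tt N54125 F308317) (tt N64696 (iv2 F240100)) (tt N46663 F191144) (tt N77234 (iv4 F242048)) (tt N43391 (iv5 F190092)) (tt N77300 D154231) (tt N64675 (iv7 F198036)))
theorem Q43744 : ∀ i, i < 43744 → P i := stepQ 43743 Q43743 (allL N43743 (tt N77301 D154232) (tt N77302 D154233) (tt N64697 (iv2 F198110)) (tt N77303 D154234) (tt N22355 (iv4 D73076)) (tt N77304 D154235) (tt N69792 (iv6 F336392)) (tt N77305 D154236))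
theorem Q43745 : ∀ i, i < 43745 → P i := stepQ 43744 Q43744 (allL N43744 (tt N64696 (iv1 F198109)) (tt N64675 (iv0 F240102)) (tt N54125 (iv2 F306911)) (tt N49589 (iv3 F306918)) (tt N77305 (iv4 F242344)) (tt N22356 F109592) (tt N77306 D154237) (tt N22355 (iv7 D73077)))
theorem Q43746 : ∀ i, i < 43746 → P i := stepQ 43745 Q43745 (allL N43745 (tt N47836 (iv1 F129898)) (tt N47833 (iv0 F129883)) (tt N45281 (iv2 F115009)) (tt N22357 (iv3 D73078)) (tt N51277 (iv4 F144657)) (tt N45255 (iv5 F114937)) (tt N77307 D154238) (tt N45278 (iv7 F114998)))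
theorem Q43747 : ∀ i, i < 43747 → P i := stepQ 43746 Q43746 (allL N43746 (tt N47453 (iv1 F310347)) (tt N22375 (iv0 F311505)) (tt N47450 F348218) (tt N77307 (iv3 F242351)) (tt N64517 (iv4 F197416)) (tt N77308 D154241) (tt N22357 (iv6 D73079)) (tt N47451 (iv7 F348224)))
theorem Q43748 : ∀ i, i < 43748 → P i := stepQ 43747 Q43747 (allL N43747 (tt N43116 (iv1 F311849)) (tt N64728 (iv0 F342020)) (tt N64690 (iv2 F198086)) (tt N38295 (iv3 F311850)) (tt N64518 (iv4 F197418)) (tt N77309 D154245) (tt N22358 (iv6 D73080)) (tt N64727 (iv7 F316794)))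
theorem Q43749 : ∀ i, i < 43749 → P i := stepQ 43748 Q43748 (allL N43748 (tt N64645 (iv1 F252390)) (tt N53340 (iv0 F351908)) (tt N22362 F109593) (tt N53381 (iv3 F307518)) (tt N43092 F109594) (tt N53951 (iv5 F366827)) (tt N22359 (iv6 D73081)) (tt N54256 (iv7 F342356)))
theorem Q43750 : ∀ i, i < 43750 → P i := stepQ 43749 Q43749 (allL N43749 (tt N69582 (iv1 F306274)) (tt N63860 (iv0 F307853)) (tt N43092 F109595) (tt N25481 F109596) (tt N22362 F109597) (tt N63631 (iv5 F307712)) (tt N22360 (iv6 D73082)) (tt N76019 (iv7 F235757)))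
theorem Q43751 : ∀ i, i < 43751 → P i := stepQ 43750 Q43750 (allL N43750 (tt N77310 D154254) (tt N77311 D154255) (tt N43040 F109598) (tt N22363 F109599) (tt N23217 F109600) (tt N77312 D154256) (tt N22361 (iv6 D73083)) (tt N77313 D154257))
theorem Q43752 : ∀ i, i < 43752 → P i := stepQ 43751 Q43751 (allL N43751 (tt N54256 (iv1 F342353)) (tt N22362 (iv0 D73084)) (tt N64645 (iv2 F359908)) (tt N77314 D154259) (tt N42475 F311102) (tt N77315 D154261) (tt N77316 D154262) (tt N53340 (iv7 F359907)))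
theorem Q43753 : ∀ i, i < 43753 → P i := stepQ 43752 Q43752 (allL N43752 (tt N22362 (iv1 D73085)) (tt N54256 (iv0 F342352)) (tt N53340 (iv2 F359906)) (tt N64634 (iv3 F359912)) (tt N42471 F309675) (tt N77317 D154266) (tt N53310 (iv6 F339124)) (tt N64645 (iv7 F359909)))
theorem Q43754 : ∀ i, i < 43754 → P i := stepQ 43753 Q43753 (allL N43753 (tt N77318 D154268) (tt N53288 (iv0 F335223)) (tt N53951 (iv2 F366825)) (tt N22364 F109601) (tt N77319 D154270) (tt N22362 (iv5 D73086)) (tt N77312 (iv6 F242371)) (tt N77320 D154271))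
theorem Q43755 : ∀ i, i < 43755 → P i := stepQ 43754 Q43754 (allL N43754 (tt N53340 (iv1 F351909)) (tt N64645 (iv0 F252389)) (tt N54256 (iv2 F342354)) (tt N22365 F109602) (tt N76019 (iv4 F235756)) (tt N77320 (iv5 F242382)) (tt N53325 (iv6 F348286)) (tt N22362 (iv7 D73087)))
theorem Q43756 : ∀ i, i < 43756 → P i := stepQ 43755 Q43755 (allL N43755 (tt N64687 (iv1 F198071)) (tt N22363 (iv0 D73088)) (tt N64685 (iv2 F336363)) (tt N31581 (iv3 F335399)) (tt N66981 (iv4 F353924)) (tt N31580 F335398) (tt N26164 F308486) (tt N59240 (iv7 F335401)))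
theorem Q43757 : ∀ i, i < 43757 → P i := stepQ 43756 Q43756 (allL N43756 (tt N22363 (iv1 D73089)) (tt N64687 F198070) (tt N59240 (iv2 F335400)) (tt N77321 D154278) (tt N66982 (iv4 F353929)) (tt N59239 (iv5 F336361)) (tt N77322 D154281) (tt N64685 (iv7 F336367)))
theorem Q43758 : ∀ i, i < 43758 → P i := stepQ 43757 Q43757 (allL N43757 (tt N38436 F354226) (tt N77323 D154283) (tt N64686 (iv2 F198065)) (tt N77312 (iv3 F242370)) (tt N77324 D154284) (tt N22363 (iv5 D73090)) (tt N22364 F109603) (tt N77325 D154285))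
theorem Q43759 : ∀ i, i < 43759 → P i := stepQ 43758 Q43758 (allL N43758 (tt N59240 (iv1 F336370)) (tt N64685 F198069) (tt N64687 (iv2 F198067)) (tt N77313 (iv3 F242373)) (tt N57350 (iv4 F329468)) (tt N77325 (iv5 F242386)) (tt N64695 (iv6 F198101)) (tt N22363 (iv7 D73091)))
theorem Q43760 : ∀ i, i < 43760 → P i := stepQ 43759 Q43759 (allL N43759 (tt N53953 (iv1 F306425)) (tt N22364 (iv0 D73102)) (tt N54094 (iv2 F306431)) (tt N36068 F329522) (tt N36079 (iv4 F329714)) (tt N25816 F304421) (tt N36066 (iv6 F329623)) (tt N25815 F304422))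
theorem Q43761 : ∀ i, i < 43761 → P i := stepQ 43760 Q43760 (allL N43760 (tt N77326 D154289) (tt N55340 (iv0 F307370)) (tt N64689 (iv2 F198076)) (tt N54350 (iv3 F337644)) (tt N22364 (iv4 D73104)) (tt N69319 (iv5 F311889)) (tt N77324 (iv6 F242385)) (tt N77327 D154293))
theorem Q43762 : ∀ i, i < 43762 → P i := stepQ 43761 Q43761 (allL N43761 (tt N25815 F304419) (tt N54094 (iv0 F306429)) (tt N53953 (iv2 F306426)) (tt N77320 (iv3 F242381)) (tt N77327 (iv4 F242395)) (tt N22365 F109606) (tt N77328 D154294) (tt N22364 (iv7 D73105)))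
theorem Q43763 : ∀ i, i < 43763 → P i := stepQ 43762 Q43762 (allL N43762 (tt N49638 (iv1 F308372)) (tt N22366 (iv0 D73112)) (tt N64705 (iv2 F356980)) (tt N59315 (iv3 F356366)) (tt N66991 (iv4 F348697)) (tt N77329 D154318) (tt N59314 (iv6 F336384)) (tt N64706 (iv7 F356470)))
theorem Q43764 : ∀ i, i < 43764 → P i := stepQ 43763 Q43763 (allL N43763 (tt N22366 (iv1 D73113)) (tt N49638 (iv0 F308371)) (tt N64706 (iv2 F356469)) (tt N77330 D154321) (tt N66992 (iv4 F348698)) (tt N77331 D154323) (tt N77332 D154324) (tt N64705 (iv7 F356981)))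
theorem Q43765 : ∀ i, i < 43765 → P i := stepQ 43764 Q43764 (allL N43764 (tt N77333 D154325) (tt N77334 D154326) (tt N64707 (iv2 F198165)) (tt N76341 (iv3 F238387)) (tt N77335 D154327) (tt N22366 (iv5 D73114)) (tt N63934 (iv6 F191863)) (tt N77336 D154328))
theorem Q43766 : ∀ i, i < 43766 → P i := stepQ 43765 Q43765 (allL N43765 (tt N64706 (iv1 F198164)) (tt N64705 F198169) (tt N49638 (iv2 F308373)) (tt N76342 (iv3 F238388)) (tt N66847 (iv4 F205819)) (tt N77336 (iv5 F242415)) (tt N49615 (iv6 F307559)) (tt N22366 (iv7 D73115)))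
theorem Q43767 : ∀ i, i < 43767 → P i := stepQ 43766 Q43766 (allL N43766 (tt N43601 (iv1 F109611)) (tt N22367 (iv0 D73116)) (tt N64709 F198193) (tt N74825 (iv3 F310162)) (tt N77337 D154329) (tt N46425 (iv5 F123579)) (tt N74824 (iv6 F358629)) (tt N64708 F198188))
theorem Q43768 : ∀ i, i < 43768 → P i := stepQ 43767 Q43767 (allL N43767 (tt N22367 (iv1 D73117)) (tt N43601 F109616) (tt N64708 F198187) (tt N52500 F149841) (tt N52857 (iv4 F304321)) (tt N46424 (iv5 F123575)) (tt N52866 (iv6 F364472)) (tt N64709 (iv7 F198190)))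
theorem Q43769 : ∀ i, i < 43769 → P i := stepQ 43768 Q43768 (allL N43768 (tt N64709 (iv1 F198189)) (tt N64708 F198186) (tt N22367 (iv2 D73118)) (tt N23630 F109612) (tt N34925 F109613) (tt N24572 F109614) (tt N67830 (iv6 F342215)) (tt N43601 F109615))
theorem Q43770 : ∀ i, i < 43770 → P i := stepQ 43769 Q43769 (allL N43769 (tt N67833 (iv1 F348471)) (tt N67819 (iv0 F366248)) (tt N67830 (iv2 F342211)) (tt N22368 F109617) (tt N34929 F109618) (tt N37017 F319160) (tt N22367 (iv6 D73119)) (tt N67831 (iv7 F350861)))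
theorem Q43771 : ∀ i, i < 43771 → P i := stepQ 43770 Q43770 (allL N43770 (tt N67005 (iv1 F206352)) (tt N22368 (iv0 D73120)) (tt N67006 (iv2 F346110)) (tt N49246 (iv3 F346103)) (tt N54836 F346102) (tt N77338 D154341) (tt N75248 (iv6 F346106)) (tt N67007 (iv7 F346108)))
theorem Q43772 : ∀ i, i < 43772 → P i := stepQ 43771 Q43771 (allL N43771 (tt N22368 (iv1 D73121)) (tt N67005 F206351) (tt N67007 (iv2 F346107)) (tt N38614 F342208) (tt N76957 (iv4 F342780)) (tt N38604 (iv5 F342209)) (tt N77339 D154347) (tt N67006 (iv7 F346111)))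
theorem Q43773 : ∀ i, i < 43773 → P i := stepQ 43772 Q43772 (allL N43772 (tt N77340 D154348) (tt N77341 D154349) (tt N67008 (iv2 F206355)) (tt N37017 (iv3 F316782)) (tt N77342 D154350) (tt N22368 (iv5 D73122)) (tt N37014 F314449) (tt N77343 D154351))
theorem Q43774 : ∀ i, i < 43774 → P i := stepQ 43773 Q43773 (allL N43773 (tt N67007 (iv1 F206354)) (tt N67006 F206353) (tt N67005 (iv2 F206347)) (tt N67831 (iv3 F350859)) (tt N22372 F109619) (tt N77343 (iv5 F242432)) (tt N64714 (iv6 F198201)) (tt N22368 (iv7 D73123)))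
theorem Q43775 : ∀ i, i < 43775 → P i := stepQ 43774 Q43774 (allL N43774 (tt N77344 D154358) (tt N49654 (iv0 F342799)) (tt N77345 D154360) (tt N22369 (iv3 D73125)) (tt N77346 D154361) (tt N54620 (iv5 F368546)) (tt N77347 D154363) (tt N77149 (iv7 F354983)))
theorem Q43776 : ∀ i, i < 43776 → P i := stepQ 43775 Q43775 (allL N43775 (tt N69210 (iv1 F339658)) (tt N66843 (iv0 F342769)) (tt N69269 (iv2 F339662)) (tt N77348 D154367) (tt N22369 (iv4 D73126)) (tt N69141 (iv5 F361986)) (tt N77349 D154369) (tt N69237 (iv7 F339660)))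
theorem Q43777 : ∀ i, i < 43777 → P i := stepQ 43776 Q43776 (allL N43776 (tt N77350 D154371) (tt N25863 (iv0 F352352)) (tt N77147 (iv2 F354977)) (tt N54620 (iv3 F368545)) (tt N77351 D154373) (tt N22369 (iv5 D73127)) (tt N77352 D154374) (tt N77150 (iv7 F354986)))
theorem Q43778 : ∀ i, i < 43778 → P i := stepQ 43777 Q43777 (allL N43777 (tt N77332 (iv1 F432290)) (tt N77353 D154377) (tt N77148 (iv2 F354979)) (tt N77347 (iv3 F242442)) (tt N77349 (iv4 F242445)) (tt N77354 D154378) (tt N22369 (iv6 D73128)) (tt N77355 D154379))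
theorem Q43779 : ∀ i, i < 43779 → P i := stepQ 43778 Q43778 (allL N43778 (tt N76337 (iv1 F354931)) (tt N77356 D154382) (tt N64181 (iv2 F354926)) (tt N22370 (iv3 D73130)) (tt N64171 (iv4 F354911)) (tt N77357 D154385) (tt N77358 D154386) (tt N64178 (iv7 F354919)))
theorem Q43780 : ∀ i, i < 43780 → P i := stepQ 43779 Q43779 (allL N43779 (tt N25863 (iv1 F352353)) (tt N77350 F242453) (tt N77150 (iv2 F354985)) (tt N77357 (iv3 F242456)) (tt N77359 D154390) (tt N22370 (iv5 D73132)) (tt N77360 D154391) (tt N77147 (iv7 F354978)))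
theorem Q43781 : ∀ i, i < 43781 → P i := stepQ 43780 Q43780 (allL N43780 (tt N69733 (iv1 F361708)) (tt N49630 (iv0 F339651)) (tt N69796 (iv2 F354987)) (tt N77358 (iv3 F242457)) (tt N69266 (iv4 F339656)) (tt N58051 (iv5 F329957)) (tt N22370 (iv6 D73133)) (tt N69797 (iv7 F354990)))
theorem Q43782 : ∀ i, i < 43782 → P i := stepQ 43781 Q43781 (allL N43781 (tt N77154 (iv1 F241682)) (tt N22371 (iv0 D73134)) (tt N77151 F353692) (tt N77361 D154397) (tt N77362 D154398) (tt N77363 D154399) (tt N49075 (iv6 F353697)) (tt N77152 (iv7 F353689)))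
theorem Q43783 : ∀ i, i < 43783 → P i := stepQ 43782 Q43782 (allL N43782 (tt N22371 (iv1 D73135)) (tt N77154 F241681) (tt N77152 (iv2 F353688)) (tt N77364 D154402) (tt N77365 D154403) (tt N77366 D154404) (tt N77367 D154405) (tt N77151 (iv7 F353691)))
theorem Q43784 : ∀ i, i < 43784 → P i := stepQ 43783 Q43783 (allL N43783 (tt N49072 F358577) (tt N77368 D154407) (tt N77153 (iv2 F241676)) (tt N77369 D154408) (tt N22371 (iv4 D73136)) (tt N77370 D154409) (tt N22380 F109622) (tt N77371 D154410))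
theorem Q43785 : ∀ i, i < 43785 → P i := stepQ 43784 Q43784 (allL N43784 (tt N77152 (iv1 F241675)) (tt N77151 F241680) (tt N77154 (iv2 F241678)) (tt N64809 (iv3 F198331)) (tt N77371 (iv4 F242464)) (tt N22372 F109623) (tt N77372 D154411) (tt N22371 (iv7 D73137)))
theorem Q43786 : ∀ i, i < 43786 → P i := stepQ 43785 Q43785 (allL N43785 (tt N22376 (iv1 F109639)) (tt N22373 (iv0 D73151)) (tt N25833 F308384) (tt N43902 (iv3 F307098)) (tt N42544 (iv4 F308457)) (tt N75427 (iv5 F231484)) (tt N44370 F313113) (tt N25832 F308385))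
theorem Q43787 : ∀ i, i < 43787 → P i := stepQ 43786 Q43786 (allL N43786 (tt N44026 F110727) (tt N43226 (iv0 F184590)) (tt N56112 (iv2 F162735)) (tt N22373 (iv3 D73153)) (tt N46985 (iv4 F310720)) (tt N77373 D154434) (tt N54137 (iv6 F310341)) (tt N25831 F308726))
theorem Q43788 : ∀ i, i < 43788 → P i := stepQ 43787 Q43787 (allL N43787 (tt N77374 D154436) (tt N67091 F230910) (tt N56132 (iv2 F162998)) (tt N77373 (iv3 F242475)) (tt N75444 (iv4 F231509)) (tt N22373 (iv5 D73154)) (tt N77375 D154437) (tt N25834 F308728))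
theorem Q43789 : ∀ i, i < 43789 → P i := stepQ 43788 Q43788 (allL N43788 (tt N22377 (iv1 F109648)) (tt N22374 (iv0 D73157)) (tt N25836 F308274) (tt N77376 D154438) (tt N48826 F337934) (tt N43567 F109640) (tt N48825 (iv6 F337937)) (tt N25835 F308275))
theorem Q43790 : ∀ i, i < 43790 → P i := stepQ 43789 Q43789 (allL N43789 (tt N22374 (iv1 D73158)) (tt N22377 F109645) (tt N25835 F308272) (tt N64877 (iv3 F241697)) (tt N49107 F337932) (tt N77377 D154442) (tt N77378 D154443) (tt N25836 F308273))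
theorem Q43791 : ∀ i, i < 43791 → P i := stepQ 43790 Q43790 (allL N43790 (tt N77379 D154444) (tt N77380 D154445) (tt N77156 (iv2 F241702)) (tt N72573 (iv3 F341130)) (tt N22374 (iv4 D73159)) (tt N72569 (iv5 F336317)) (tt N77381 D154447) (tt N25837 F308730))
theorem Q43792 : ∀ i, i < 43792 → P i := stepQ 43791 Q43791 (allL N43791 (tt N77382 D154448) (tt N77383 D154449) (tt N77157 (iv2 F241704)) (tt N54423 (iv3 F310857)) (tt N77381 (iv4 F242500)) (tt N54169 F308731) (tt N22374 (iv6 D73160)) (tt N25869 (iv7 F310899)))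
theorem Q43793 : ∀ i, i < 43793 → P i := stepQ 43792 Q43792 (allL N43792 (tt N22375 (iv1 D73168)) (tt N47453 (iv0 F310345)) (tt N47451 (iv2 F348223)) (tt N64629 (iv3 F348266)) (tt N65086 (iv4 F300043)) (tt N77384 D154462) (tt N64727 (iv6 F338140)) (tt N47450 F348222))
theorem Q43794 : ∀ i, i < 43794 → P i := stepQ 43793 Q43793 (allL N43793 (tt N22433 F312385) (tt N74934 (iv0 F314820)) (tt N47381 (iv2 F307917)) (tt N56114 (iv3 F162739)) (tt N22375 (iv4 D73170)) (tt N75569 (iv5 F337184)) (tt N25687 F305997) (tt N56134 F162993))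
theorem Q43795 : ∀ i, i < 43795 → P i := stepQ 43794 Q43794 (allL N43794 (tt N77385 D154471) (tt N77386 D154472) (tt N47452 (iv2 F310344)) (tt N22377 F109652) (tt N77387 D154473) (tt N22375 (iv5 D73171)) (tt N25690 F308270) (tt N77155 (iv7 F241690)))
theorem Q43796 : ∀ i, i < 43796 → P i := stepQ 43795 Q43795 (allL N43795 (tt N67091 (iv1 F230909)) (tt N77374 F242481) (tt N25834 (iv2 F306895)) (tt N56115 (iv3 F162741)) (tt N75446 (iv4 F231516)) (tt N22376 (iv5 D73173)) (tt N25464 (iv6 F307914)) (tt N56132 (iv7 F162999)))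
theorem Q43797 : ∀ i, i < 43797 → P i := stepQ 43796 Q43796 (allL N43796 (tt N77380 (iv1 F242498)) (tt N77379 F242497) (tt N25837 F308276) (tt N77388 D154482) (tt N22377 (iv4 D73175)) (tt N75443 (iv5 F231511)) (tt N25696 F308277) (tt N77156 (iv7 F241703)))
theorem Q43798 : ∀ i, i < 43798 → P i := stepQ 43797 Q43797 (allL N43797 (tt N47456 (iv1 F312613)) (tt N47454 (iv0 F312614)) (tt N54427 (iv2 F312615)) (tt N22378 (iv3 D73182)) (tt N77389 D154494) (tt N28621 F310408) (tt N77390 D154496) (tt N54428 F310409))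
theorem Q43799 : ∀ i, i < 43799 → P i := stepQ 43798 Q43798 (allL N43798 (tt N77391 D154497) (tt N77392 D154498) (tt N77159 (iv2 F241748)) (tt N77393 D154499) (tt N22378 (iv4 D73183)) (tt N75439 (iv5 F231507)) (tt N77394 D154500) (tt N77160 (iv7 F241753)))
theorem Q43800 : ∀ i, i < 43800 → P i := stepQ 43799 Q43799 (allL N43799 (tt N49049 (iv1 F308308)) (tt N49052 F306421) (tt N49020 F306422) (tt N28621 (iv3 F308324)) (tt N75429 (iv4 F231474)) (tt N22378 (iv5 D73184)) (tt N28619 F306423) (tt N63944 F233823))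
theorem Q43801 : ∀ i, i < 43801 → P i := stepQ 43800 Q43800 (allL N43800 (tt N43809 (iv1 F353737)) (tt N43615 (iv0 F353738)) (tt N43805 F353725) (tt N77390 (iv3 F242541)) (tt N77394 (iv4 F242548)) (tt N77395 D154503) (tt N22378 (iv6 D73185)) (tt N43806 (iv7 F353728)))
theorem Q43802 : ∀ i, i < 43802 → P i := stepQ 43801 Q43801 (allL N43801 (tt N77308 (iv1 F338139)) (tt N77384 (iv0 F338138)) (tt N76489 (iv2 F338134)) (tt N22379 (iv3 D73187)) (tt N77396 D154508) (tt N74935 (iv5 F338136)) (tt N77397 D154510) (tt N77158 (iv7 F241747)))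
theorem Q43803 : ∀ i, i < 43803 → P i := stepQ 43802 Q43802 (allL N43802 (tt N77392 (iv1 F242545)) (tt N77391 F242543) (tt N77160 (iv2 F241752)) (tt N77398 D154511) (tt N22379 (iv4 D73188)) (tt N75433 F231492) (tt N77399 D154512) (tt N77159 (iv7 F241749)))
theorem Q43804 : ∀ i, i < 43804 → P i := stepQ 43803 Q43803 (allL N43803 (tt N49052 F306448) (tt N49049 (iv0 F308307)) (tt N63944 (iv2 F233820)) (tt N74935 (iv3 F338135)) (tt N75438 (iv4 F231502)) (tt N22379 (iv5 D73189)) (tt N63935 (iv6 F191864)) (tt N49020 F306449))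
theorem Q43805 : ∀ i, i < 43805 → P i := stepQ 43804 Q43804 (allL N43804 (tt N25854 (iv1 F312616)) (tt N49092 F337971) (tt N77161 (iv2 F241754)) (tt N77397 (iv3 F242550)) (tt N77399 (iv4 F242551)) (tt N77400 D154515) (tt N22379 (iv6 D73190)) (tt N77401 D154516))
theorem Q43806 : ∀ i, i < 43806 → P i := stepQ 43805 Q43805 (allL N43805 (tt N75449 (iv1 F231529)) (tt N22380 (iv0 D73191)) (tt N43800 (iv2 F353725)) (tt N77402 D154518) (tt N75472 (iv4 F231587)) (tt N75485 (iv5 F231622)) (tt N43613 F353724) (tt N77162 (iv7 F338012)))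
theorem Q43807 : ∀ i, i < 43807 → P i := stepQ 43806 Q43806 (allL N43806 (tt N22380 (iv1 D73192)) (tt N75449 F231528) (tt N77162 (iv2 F338011)) (tt N77403 D154521) (tt N75489 F231628) (tt N75465 (iv5 F231629)) (tt N49093 (iv6 F353734)) (tt N43800 F353728))
theorem Q43808 : ∀ i, i < 43808 → P i := stepQ 43807 Q43807 (allL N43807 (tt N77404 D154523) (tt N77405 D154524) (tt N77406 D154525) (tt N22380 (iv3 D73193)) (tt N64890 (iv4 F198434)) (tt N77407 D154526) (tt N77369 (iv6 F242463)) (tt N77408 D154527))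
theorem Q43809 : ∀ i, i < 43809 → P i := stepQ 43808 Q43808 (allL N43808 (tt N75448 (iv1 F231522)) (tt N75447 F231521) (tt N75450 (iv2 F231530)) (tt N77407 (iv3 F242554)) (tt N75314 (iv4 F231115)) (tt N22380 (iv5 D73194)) (tt N77409 D154528) (tt N75313 F231113))
theorem Q43810 : ∀ i, i < 43810 → P i := stepQ 43809 Q43809 (allL N43809 (tt N77162 (iv1 F241756)) (tt N43800 F353737) (tt N75449 (iv2 F231525)) (tt N77408 (iv3 F242555)) (tt N22381 F109657) (tt N75313 (iv5 F231112)) (tt N77410 D154529) (tt N22380 (iv7 D73195)))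
theorem Q43811 : ∀ i, i < 43811 → P i := stepQ 43810 Q43810 (allL N43810 (tt N77411 D154530) (tt N54644 (iv0 F310887)) (tt N77164 (iv2 F241757)) (tt N64872 (iv3 F198413)) (tt N77410 (iv4 F242556)) (tt N64745 (iv5 F198253)) (tt N22381 (iv6 D73196)) (tt N77372 (iv7 F242465)))
theorem Q43812 : ∀ i, i < 43812 → P i := stepQ 43811 Q43811 (allL N43811 (tt N47969 F309614) (tt N47188 F309615) (tt N77412 D154536) (tt N22384 (iv3 D73241)) (tt N22388 F109706) (tt N77413 D154537) (tt N54335 (iv6 F351750)) (tt N36586 (iv7 F110043)))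
theorem Q43813 : ∀ i, i < 43813 → P i := stepQ 43812 Q43812 (allL N43812 (tt N47220 F305714) (tt N77414 D154539) (tt N36584 F110032) (tt N77413 (iv3 F242574)) (tt N77415 D154540) (tt N22384 (iv5 D73242)) (tt N77416 D154541) (tt N36587 (iv7 F110044)))
theorem Q43814 : ∀ i, i < 43814 → P i := stepQ 43813 Q43813 (allL N43813 (tt N42719 F191056) (tt N47105 (iv0 F304755)) (tt N36585 (iv2 F110031)) (tt N54335 (iv3 F351748)) (tt N22386 F109707) (tt N76120 F236450) (tt N22384 (iv6 D73243)) (tt N47067 F304710))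
theorem Q43815 : ∀ i, i < 43815 → P i := stepQ 43814 Q43814 (allL N43814 (tt N52371 (iv1 F314791)) (tt N22385 (iv0 D73245)) (tt N51814 (iv2 F334070)) (tt N22520 F190354) (tt N27791 F320362) (tt N43341 F190355) (tt N77417 D154544) (tt N51818 (iv7 F348967)))
theorem Q43816 : ∀ i, i < 43816 → P i := stepQ 43815 Q43815 (allL N43815 (tt N22385 (iv1 D73246)) (tt N52371 (iv0 F314790)) (tt N51818 (iv2 F348963)) (tt N37954 F314909) (tt N27792 F320363) (tt N72411 (iv5 F366422)) (tt N42005 F240549) (tt N51814 (iv7 F334074)))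
theorem Q43817 : ∀ i, i < 43817 → P i := stepQ 43816 Q43816 (allL N43816 (tt N22386 (iv1 D73251)) (tt N52372 F308081) (tt N45716 F308082) (tt N42479 F311039) (tt N46310 F316583) (tt N25411 F308083) (tt N77280 (iv6 F242250)) (tt N25410 F308084))
theorem Q43818 : ∀ i, i < 43818 → P i := stepQ 43817 Q43817 (allL N43817 (tt N45716 F308078) (tt N25410 F308079) (tt N52372 F308080) (tt N22397 F109714) (tt N47067 F304703) (tt N24281 (iv5 F310103)) (tt N46550 F304704) (tt N22386 (iv7 D73253)))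
theorem Q43819 : ∀ i, i < 43819 → P i := stepQ 43818 Q43818 (allL N43818 (tt N48774 (iv1 F310394)) (tt N75868 (iv0 F312625)) (tt N68272 F307077) (tt N22387 (iv3 D73256)) (tt N22798 F307078) (tt N77418 D154557) (tt N22797 (iv6 F308932)) (tt N65171 F199435))
theorem Q43820 : ∀ i, i < 43820 → P i := stepQ 43819 Q43819 (allL N43819 (tt N75489 (iv1 F231626)) (tt N75472 F231588) (tt N75873 (iv2 F306619)) (tt N77418 (iv3 F242629)) (tt N77419 D154558) (tt N22387 (iv5 D73258)) (tt N77420 D154559) (tt N65173 (iv7 F199438)))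
theorem Q43821 : ∀ i, i < 43821 → P i := stepQ 43820 Q43820 (allL N43820 (tt N77181 (iv1 F241857)) (tt N22388 (iv0 D73265)) (tt N77180 (iv2 F363621)) (tt N64536 (iv3 F317086)) (tt N46952 F303663) (tt N77421 D154562) (tt N64897 (iv6 F363620)) (tt N64533 (iv7 F324405)))
theorem Q43822 : ∀ i, i < 43822 → P i := stepQ 43821 Q43821 (allL N43821 (tt N77180 (iv1 F241858)) (tt N64533 (iv0 F337506)) (tt N22388 (iv2 D73267)) (tt N77172 (iv3 F241800)) (tt N77412 (iv4 F242566)) (tt N77422 D154569) (tt N77423 D154570) (tt N77181 (iv7 F241856)))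
theorem Q43823 : ∀ i, i < 43823 → P i := stepQ 43822 Q43822 (allL N43822 (tt N77424 D154571) (tt N77425 D154572) (tt N77422 (iv2 F242638)) (tt N22389 F109719) (tt N77426 D154573) (tt N22388 (iv5 D73268)) (tt N77427 D154574) (tt N77182 (iv7 F241861)))
theorem Q43824 : ∀ i, i < 43824 → P i := stepQ 43823 Q43823 (allL N43823 (tt N47279 (iv1 F339165)) (tt N47275 (iv0 F339166)) (tt N77423 (iv2 F242639)) (tt N22390 F109720) (tt N54335 (iv4 F351749)) (tt N77428 D154577) (tt N22388 (iv6 D73269)) (tt N48713 F310131))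
theorem Q43825 : ∀ i, i < 43825 → P i := stepQ 43824 Q43824 (allL N43824 (tt N22404 (iv1 F109725)) (tt N22389 (iv0 D73271)) (tt N49117 F338025) (tt N77429 D154579) (tt N49054 F310893) (tt N43560 F109945) (tt N48830 (iv6 F338030)) (tt N77174 (iv7 F241812)))
theorem Q43826 : ∀ i, i < 43826 → P i := stepQ 43825 Q43825 (allL N43825 (tt N22389 (iv1 D73272)) (tt N22404 F109722) (tt N77174 F241814) (tt N75848 (iv3 F338053)) (tt N49053 (iv4 F308729)) (tt N77430 D154584) (tt N77431 D154585) (tt N49117 F338029))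
theorem Q43827 : ∀ i, i < 43827 → P i := stepQ 43826 Q43826 (allL N43826 (tt N48826 F337928) (tt N49107 F337929) (tt N49105 F337921) (tt N77432 D154586) (tt N22389 (iv4 D73273)) (tt N75448 (iv5 F231524)) (tt N77433 D154587) (tt N49104 F337922))
theorem Q43828 : ∀ i, i < 43828 → P i := stepQ 43827 Q43827 (allL N43827 (tt N77434 D154588) (tt N77435 D154589) (tt N77175 (iv2 F241817)) (tt N77427 (iv3 F242640)) (tt N77433 (iv4 F242658)) (tt N77436 D154590) (tt N22389 (iv6 D73274)) (tt N49135 F359648))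
theorem Q43829 : ∀ i, i < 43829 → P i := stepQ 43828 Q43828 (allL N43828 (tt N22390 (iv1 D73277)) (tt N29330 F308291) (tt N48472 F310126) (tt N39836 (iv3 F351599)) (tt N28719 F310333) (tt N39834 F351598) (tt N65254 (iv6 F240088)) (tt N48475 F310127))
theorem Q43830 : ∀ i, i < 43830 → P i := stepQ 43829 Q43829 (allL N43829 (tt N43466 F109944) (tt N77437 D154595) (tt N77176 (iv2 F241822)) (tt N77428 (iv3 F242641)) (tt N77438 D154596) (tt N22390 (iv5 D73278)) (tt N77436 (iv6 F242659)) (tt N48714 F310135))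
theorem Q43831 : ∀ i, i < 43831 → P i := stepQ 43830 Q43830 (allL N43830 (tt N75446 (iv1 F231517)) (tt N75444 F231512) (tt N63756 F191129) (tt N77439 D154598) (tt N22391 (iv4 D73282)) (tt N77440 D154599) (tt N41847 F350772) (tt N75261 F230914))
theorem Q43832 : ∀ i, i < 43832 → P i := stepQ 43831 Q43831 (allL N43831 (tt N62466 (iv1 F318121)) (tt N62465 (iv0 F318116)) (tt N62467 (iv2 F316215)) (tt N63644 (iv3 F190205)) (tt N41847 F350769) (tt N42083 F109730) (tt N22391 (iv6 D73283)) (tt N62456 (iv7 F318125)))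
theorem Q43833 : ∀ i, i < 43833 → P i := stepQ 43832 Q43832 (allL N43832 (tt N75444 (iv1 F231510)) (tt N75446 F231518) (tt N75261 (iv2 F230912)) (tt N77441 D154601) (tt N22392 (iv4 D73285)) (tt N77442 D154602) (tt N62838 F190181) (tt N63756 F190182))
theorem Q43834 : ∀ i, i < 43834 → P i := stepQ 43833 Q43833 (allL N43833 (tt N34544 (iv1 F109736)) (tt N42057 F109782) (tt N42162 F109731) (tt N22509 F190148) (tt N77377 (iv4 F242492)) (tt N22392 (iv5 D73286)) (tt N43394 F190149) (tt N34049 F190150))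
theorem Q43835 : ∀ i, i < 43835 → P i := stepQ 43834 Q43834 (allL N43834 (tt N22405 (iv1 F109792)) (tt N22393 (iv0 D73287)) (tt N77177 F241833) (tt N45650 (iv3 F342205)) (tt N49045 F310599) (tt N77443 D154604) (tt N77444 D154605) (tt N75258 F237031))
theorem Q43836 : ∀ i, i < 43836 → P i := stepQ 43835 Q43835 (allL N43835 (tt N22393 (iv1 D73288)) (tt N22405 F109788) (tt N75258 (iv2 F237032)) (tt N61013 (iv3 F353773)) (tt N49044 F310873) (tt N77445 D154608) (tt N75225 F237033) (tt N77177 (iv7 F241835)))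
theorem Q43837 : ∀ i, i < 43837 → P i := stepQ 43836 Q43836 (allL N43836 (tt N74836 (iv1 F347826)) (tt N77446 D154610) (tt N77447 D154611) (tt N22393 (iv3 D73289)) (tt N27455 (iv4 F310752)) (tt N77448 D154612) (tt N27454 F308644) (tt N77183 (iv7 F241877)))
theorem Q43838 : ∀ i, i < 43838 → P i := stepQ 43837 Q43837 (allL N43837 (tt N75460 F231623) (tt N75333 (iv0 F231230)) (tt N77179 (iv2 F241837)) (tt N77448 (iv3 F242706)) (tt N75447 (iv4 F231519)) (tt N22393 (iv5 D73290)) (tt N77449 D154614) (tt N77184 (iv7 F241879)))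
theorem Q43839 : ∀ i, i < 43839 → P i := stepQ 43838 Q43838 (allL N43838 (tt N24496 (iv1 F306814)) (tt N61003 (iv0 F306815)) (tt N64054 (iv2 F305621)) (tt N27454 (iv3 F306816)) (tt N22394 F109789) (tt N45647 F304870) (tt N22393 (iv6 D73291)) (tt N52376 (iv7 F306817)))
theorem Q43840 : ∀ i, i < 43840 → P i := stepQ 43839 Q43839 (allL N43839 (tt N22861 F109796) (tt N22865 F112564) (tt N54148 (iv2 F308435)) (tt N22513 F190629) (tt N77450 D154619) (tt N22395 (iv5 D73298)) (tt N57428 F190630) (tt N54157 (iv7 F310325)))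
theorem Q43841 : ∀ i, i < 43841 → P i := stepQ 43840 Q43840 (allL N43840 (tt N38364 F109845) (tt N44521 F185291) (tt N44522 (iv2 F185286)) (tt N24273 (iv3 F306143)) (tt N22396 (iv4 D73299)) (tt N43866 F185293) (tt N24272 F304871) (tt N43426 (iv7 F185290)))
theorem Q43842 : ∀ i, i < 43842 → P i := stepQ 43841 Q43841 (allL N43841 (tt N26138 F184576) (tt N36640 (iv0 F131169)) (tt N22400 F109809) (tt N34924 F306317) (tt N22399 (iv4 D73314)) (tt N77451 D154620) (tt N34921 F306318) (tt N42535 (iv7 F184636)))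
theorem Q43843 : ∀ i, i < 43843 → P i := stepQ 43842 Q43842 (allL N43842 (tt N63759 (iv1 F241778)) (tt N77168 F241770) (tt N22401 F109810) (tt N52371 F316643) (tt N46028 (iv4 F319012)) (tt N22399 (iv5 D73315)) (tt N74426 (iv6 F233194)) (tt N32860 F316644))
theorem Q43844 : ∀ i, i < 43844 → P i := stepQ 43843 Q43843 (allL N43843 (tt N22428 F304695) (tt N56103 (iv0 F305123)) (tt N22402 F109811) (tt N47063 F304696) (tt N34921 F304697) (tt N45567 (iv5 F306681)) (tt N22399 (iv6 D73316)) (tt N63720 (iv7 F305949)))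
theorem Q43845 : ∀ i, i < 43845 → P i := stepQ 43844 Q43844 (allL N43844 (tt N22400 (iv1 D73318)) (tt N42535 F184608) (tt N36640 F184609) (tt N26146 F184610) (tt N29811 (iv4 F109812)) (tt N38875 F332704) (tt N28781 F184611) (tt N26138 F184612))
theorem Q43846 : ∀ i, i < 43846 → P i := stepQ 43845 Q43845 (allL N43845 (tt N77246 (iv1 F332405)) (tt N77452 D154627) (tt N77453 D154628) (tt N22400 (iv3 D73319)) (tt N22403 F109813) (tt N77454 D154629) (tt N28155 F304372) (tt N77165 (iv7 F241759)))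
theorem Q43847 : ∀ i, i < 43847 → P i := stepQ 43846 Q43846 (allL N43846 (tt N77455 D154631) (tt N77456 D154632) (tt N77451 (iv2 F242712)) (tt N77454 (iv3 F242742)) (tt N46018 F349299) (tt N22400 (iv5 D73320)) (tt N39642 (iv6 F338473)) (tt N77166 (iv7 F241761)))
theorem Q43848 : ∀ i, i < 43848 → P i := stepQ 43847 Q43847 (allL N43847 (tt N35055 (iv1 F305585)) (tt N42556 (iv0 F190809)) (tt N34921 F304370) (tt N28155 F304371) (tt N22402 F109814) (tt N62834 (iv5 F306387)) (tt N22400 (iv6 D73321)) (tt N75590 (iv7 F312011)))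
theorem Q43849 : ∀ i, i < 43849 → P i := stepQ 43848 Q43848 (allL N43848 (tt N32860 F316642) (tt N22401 (iv0 D73322)) (tt N63759 (iv2 F240737)) (tt N63630 (iv3 F250249)) (tt N32856 F320372) (tt N77457 D154639) (tt N75230 (iv6 F242768)) (tt N77168 (iv7 F241776)))
theorem Q43850 : ∀ i, i < 43850 → P i := stepQ 43849 Q43849 (allL N43849 (tt N22401 (iv1 D73323)) (tt N32860 F316641) (tt N77168 F241775) (tt N22497 F240733) (tt N32855 (iv4 F317609)) (tt N43518 F240735) (tt N73823 (iv6 F318107)) (tt N63759 F240736))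
theorem Q43851 : ∀ i, i < 43851 → P i := stepQ 43850 Q43850 (allL N43850 (tt N46027 (iv1 F319014)) (tt N46026 (iv0 F319015)) (tt N46028 (iv2 F319011)) (tt N50080 (iv3 F319016)) (tt N22401 (iv4 D73324)) (tt N46014 (iv5 F319018)) (tt N50071 F316648) (tt N42392 F316649))
theorem Q43852 : ∀ i, i < 43852 → P i := stepQ 43851 Q43851 (allL N43851 (tt N74427 (iv1 F252142)) (tt N62700 (iv0 F233202)) (tt N74426 F233195) (tt N22406 F109815) (tt N50071 (iv4 F315230)) (tt N35304 F308534) (tt N22401 (iv6 D73325)) (tt N32859 F312739))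
theorem Q43853 : ∀ i, i < 43853 → P i := stepQ 43852 Q43852 (allL N43852 (tt N56103 (iv1 F305124)) (tt N22428 F304941) (tt N63720 (iv2 F305948)) (tt N22407 F109817) (tt N75590 (iv4 F312010)) (tt N25406 (iv5 F306259)) (tt N77170 (iv6 F241791)) (tt N22402 (iv7 D73329)))
theorem Q43854 : ∀ i, i < 43854 → P i := stepQ 43853 Q43853 (allL N43853 (tt N22403 (iv1 D73331)) (tt N77172 F241803) (tt N77171 F241795) (tt N25001 F302827) (tt N64441 F302828) (tt N77458 D154650) (tt N48202 F302829) (tt N25015 F302830))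
theorem Q43855 : ∀ i, i < 43855 → P i := stepQ 43854 Q43854 (allL N43854 (tt N25015 F303327) (tt N77171 F241796) (tt N22403 (iv2 D73332)) (tt N77181 (iv3 F241854)) (tt N77453 (iv4 F242741)) (tt N53686 (iv5 F349320)) (tt N25006 (iv6 F306377)) (tt N77172 (iv7 F241801)))
theorem Q43856 : ∀ i, i < 43856 → P i := stepQ 43855 Q43855 (allL N43855 (tt N77459 D154653) (tt N77460 D154654) (tt N53686 (iv2 F349319)) (tt N22404 F109818) (tt N53176 (iv4 F349322)) (tt N22403 (iv5 D73333)) (tt N28485 (iv6 F306388)) (tt N77173 (iv7 F241805)))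
theorem Q43857 : ∀ i, i < 43857 → P i := stepQ 43856 Q43856 (allL N43856 (tt N49107 F337930) (tt N48826 F337931) (tt N49104 F337924) (tt N77461 D154660) (tt N22404 (iv4 D73335)) (tt N75447 F231520) (tt N48853 (iv6 F308466)) (tt N49105 F337925))
theorem Q43858 : ∀ i, i < 43858 → P i := stepQ 43857 Q43857 (allL N43857 (tt N66998 (iv1 F354098)) (tt N77462 D154671) (tt N77463 D154672) (tt N22405 (iv3 D73341)) (tt N50080 (iv4 F319017)) (tt N71336 (iv5 F352359)) (tt N50079 (iv6 F337901)) (tt N77178 (iv7 F241836)))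
theorem Q43859 : ∀ i, i < 43859 → P i := stepQ 43858 Q43858 (allL N43858 (tt N75333 F231631) (tt N75460 (iv0 F231574)) (tt N77184 (iv2 F241878)) (tt N71336 (iv3 F352358)) (tt N75448 F231523) (tt N22405 (iv5 D73342)) (tt N71334 (iv6 F352356)) (tt N77179 (iv7 F241838)))
theorem Q43860 : ∀ i, i < 43860 → P i := stepQ 43859 Q43859 (allL N43859 (tt N70481 (iv1 F337892)) (tt N74743 (iv0 F231632)) (tt N74990 (iv2 F229999)) (tt N50079 (iv3 F337900)) (tt N22406 F109947) (tt N50897 (iv5 F331165)) (tt N22405 (iv6 D73343)) (tt N50078 (iv7 F310541)))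
theorem Q43861 : ∀ i, i < 43861 → P i := stepQ 43860 Q43860 (allL N43860 (tt N22409 (iv1 D73356)) (tt N22411 F110047) (tt N33915 (iv2 F110050)) (tt N28213 F329198) (tt N33914 F110049) (tt N77464 D154683) (tt N72998 (iv6 F320768)) (tt N36498 F110048))
theorem Q43862 : ∀ i, i < 43862 → P i := stepQ 43861 Q43861 (allL N43861 (tt N77465 D154685) (tt N77466 D154686) (tt N77467 D154687) (tt N22409 (iv3 D73357)) (tt N76208 (iv4 F237825)) (tt N26945 F110057) (tt N77468 D154688) (tt N43545 F110051))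
theorem Q43863 : ∀ i, i < 43863 → P i := stepQ 43862 Q43862 (allL N43862 (tt N42918 F110055) (tt N77469 D154689) (tt N43596 F110052) (tt N26945 (iv3 F110056)) (tt N43498 F110054) (tt N22409 (iv5 D73358)) (tt N26972 F110058) (tt N43546 F110053))
theorem Q43864 : ∀ i, i < 43864 → P i := stepQ 43863 Q43863 (allL N43863 (tt N77470 D154690) (tt N77471 D154691) (tt N75510 (iv2 F231683)) (tt N77468 (iv3 F242848)) (tt N22410 F110059) (tt N77472 D154692) (tt N22409 (iv6 D73359)) (tt N77473 D154693))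
theorem Q43865 : ∀ i, i < 43865 → P i := stepQ 43864 Q43864 (allL N43864 (tt N75512 (iv1 F231696)) (tt N22410 (iv0 D73360)) (tt N45784 F309674) (tt N63668 (iv3 F243069)) (tt N77474 D154695) (tt N77475 D154696) (tt N65235 F231178) (tt N75511 (iv7 F231690)))
theorem Q43866 : ∀ i, i < 43866 → P i := stepQ 43865 Q43865 (allL N43865 (tt N22410 (iv1 D73361)) (tt N75512 F231695) (tt N75511 F231691) (tt N22540 (iv3 F243064)) (tt N77476 D154698) (tt N34328 F309639) (tt N75495 F231664) (tt N45784 F309640))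
theorem Q43867 : ∀ i, i < 43867 → P i := stepQ 43866 Q43866 (allL N43866 (tt N75511 (iv1 F231689)) (tt N45784 (iv0 F308645)) (tt N75512 (iv2 F231692)) (tt N46578 (iv3 F308110)) (tt N77473 (iv4 F242860)) (tt N43840 (iv5 F185293)) (tt N43542 F110060) (tt N22410 (iv7 D73362)))
theorem Q43868 : ∀ i, i < 43868 → P i := stepQ 43867 Q43867 (allL N43867 (tt N77477 D154699) (tt N77478 D154700) (tt N77479 D154701) (tt N22411 (iv3 D73363)) (tt N76984 (iv4 F241311)) (tt N77480 D154702) (tt N77481 D154703) (tt N75509 (iv7 F231682)))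
theorem Q43869 : ∀ i, i < 43869 → P i := stepQ 43868 Q43868 (allL N43868 (tt N77469 (iv1 F242850)) (tt N42918 F110064) (tt N43546 F110061) (tt N77480 (iv3 F242867)) (tt N43598 F110062) (tt N22411 (iv5 D73364)) (tt N77482 D154704) (tt N43596 F110063))
theorem Q43870 : ∀ i, i < 43870 → P i := stepQ 43869 Q43869 (allL N43869 (tt N77483 D154705) (tt N42904 (iv0 F190974)) (tt N43541 F110065) (tt N77481 (iv3 F242869)) (tt N22412 F110066) (tt N77484 D154706) (tt N22411 (iv6 D73365)) (tt N77485 D154707))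
theorem Q43871 : ∀ i, i < 43871 → P i := stepQ 43870 Q43870 (allL N43870 (tt N43542 (iv1 F110070)) (tt N22412 (iv0 D73366)) (tt N43539 F199426) (tt N22544 F199427) (tt N66888 (iv4 F206000)) (tt N77280 (iv5 F242249)) (tt N46176 F308562) (tt N43540 F199428))
theorem Q43872 : ∀ i, i < 43872 → P i := stepQ 43871 Q43871 (allL N43871 (tt N43540 (iv1 F110071)) (tt N43539 F110072) (tt N43542 F110068) (tt N76983 (iv3 F241303)) (tt N77485 (iv4 F242879)) (tt N43446 F110069) (tt N75512 (iv6 F231694)) (tt N22412 (iv7 D73368)))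
theorem Q43873 : ∀ i, i < 43873 → P i := stepQ 43872 Q43872 (allL N43872 (tt N22413 (iv1 D73369)) (tt N22416 F110073) (tt N33910 (iv2 F110076)) (tt N49822 (iv3 F329722)) (tt N33907 F110075) (tt N77469 (iv5 F242852)) (tt N39962 F314694) (tt N36496 F110074))
theorem Q43874 : ∀ i, i < 43874 → P i := stepQ 43873 Q43873 (allL N43873 (tt N61168 F178148) (tt N77486 D154710) (tt N77487 D154711) (tt N22413 (iv3 D73370)) (tt N76212 (iv4 F237849)) (tt N77488 D154712) (tt N77489 D154713) (tt N75513 (iv7 F231699)))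
theorem Q43875 : ∀ i, i < 43875 → P i := stepQ 43874 Q43874 (allL N43874 (tt N63189 (iv1 F185982)) (tt N51071 (iv0 F339898)) (tt N75517 (iv2 F231706)) (tt N77488 (iv3 F242888)) (tt N67085 (iv4 F206505)) (tt N22413 (iv5 D73371)) (tt N77490 D154714) (tt N75514 (iv7 F231701)))
theorem Q43876 : ∀ i, i < 43876 → P i := stepQ 43875 Q43875 (allL N43875 (tt N77491 D154715) (tt N77492 D154716) (tt N75518 (iv2 F231709)) (tt N77489 (iv3 F242892)) (tt N22414 F110077) (tt N77493 D154717) (tt N22413 (iv6 D73372)) (tt N52358 (iv7 F308549)))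
theorem Q43877 : ∀ i, i < 43877 → P i := stepQ 43876 Q43876 (allL N43876 (tt N24235 F310607) (tt N22414 (iv0 D73373)) (tt N52357 F310608) (tt N63675 F212309) (tt N77494 D154719) (tt N52379 (iv5 F310624)) (tt N65272 F200551) (tt N52356 F310609))
theorem Q43878 : ∀ i, i < 43878 → P i := stepQ 43877 Q43877 (allL N43877 (tt N22414 (iv1 D73374)) (tt N24235 F310603) (tt N52356 F310604) (tt N22552 F209904) (tt N77495 D154720) (tt N64268 F310605) (tt N73989 (iv6 F316191)) (tt N52357 F310606))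
theorem Q43879 : ∀ i, i < 43879 → P i := stepQ 43878 Q43878 (allL N43878 (tt N33866 F110080) (tt N33892 F110081) (tt N42751 F110078) (tt N77496 D154723) (tt N22415 (iv4 D73376)) (tt N77497 D154724) (tt N77498 D154725) (tt N42750 F110079))
theorem Q43880 : ∀ i, i < 43880 → P i := stepQ 43879 Q43879 (allL N43879 (tt N40910 F321986) (tt N40899 (iv0 F323650)) (tt N40907 F340739) (tt N22417 F110082) (tt N77498 (iv4 F242910)) (tt N63461 (iv5 F314859)) (tt N22415 (iv6 D73377)) (tt N40908 (iv7 F340744)))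
theorem Q43881 : ∀ i, i < 43881 → P i := stepQ 43880 Q43880 (allL N43880 (tt N77499 D154728) (tt N77500 D154729) (tt N77501 D154730) (tt N22416 (iv3 D73378)) (tt N77496 (iv4 F242902)) (tt N77502 D154731) (tt N77503 D154732) (tt N75516 (iv7 F231705)))
theorem Q43882 : ∀ i, i < 43882 → P i := stepQ 43881 Q43881 (allL N43881 (tt N51071 (iv1 F339899)) (tt N63189 (iv0 F185981)) (tt N75514 (iv2 F231700)) (tt N77502 (iv3 F243407)) (tt N67082 (iv4 F206501)) (tt N22416 (iv5 D73379)) (tt N77504 D154733) (tt N75517 (iv7 F231707)))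
theorem Q43883 : ∀ i, i < 43883 → P i := stepQ 43882 Q43882 (allL N43882 (tt N77505 D154734) (tt N33300 (iv0 F349998)) (tt N75328 (iv2 F231208)) (tt N77503 (iv3 F243408)) (tt N22417 F110083) (tt N77506 D154736) (tt N22416 (iv6 D73380)) (tt N77507 D154737))
theorem Q43884 : ∀ i, i < 43884 → P i := stepQ 43883 Q43883 (allL N43883 (tt N52355 (iv1 F308551)) (tt N22417 (iv0 D73381)) (tt N75327 F231202) (tt N22558 F190310) (tt N77508 D154738) (tt N77509 D154739) (tt N43537 F110084) (tt N63786 F190311))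
theorem Q43885 : ∀ i, i < 43885 → P i := stepQ 43884 Q43884 (allL N43884 (tt N22417 (iv1 D73382)) (tt N52355 (iv0 F308550)) (tt N63786 (iv2 F230863)) (tt N33412 F320599) (tt N73568 (iv4 F322388)) (tt N75246 (iv5 F230861)) (tt N33409 F320600) (tt N75327 (iv7 F231204)))
theorem Q43886 : ∀ i, i < 43886 → P i := stepQ 43885 Q43885 (allL N43885 (tt N63786 (iv1 F231206)) (tt N75327 F231207) (tt N52355 F310610) (tt N40908 F340745) (tt N77507 (iv4 F243409)) (tt N24234 F310611) (tt N24235 F310612) (tt N22417 (iv7 D73383)))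
theorem Q43887 : ∀ i, i < 43887 → P i := stepQ 43886 Q43886 (allL N43886 (tt N77510 D154741) (tt N77511 D154742) (tt N77512 D154743) (tt N22418 (iv3 D73384)) (tt N55015 (iv4 F365601)) (tt N77513 D154744) (tt N77514 D154745) (tt N75519 (iv7 F231719)))
theorem Q43888 : ∀ i, i < 43888 → P i := stepQ 43887 Q43887 (allL N43887 (tt N77038 (iv1 F241501)) (tt N76003 (iv0 F235497)) (tt N75522 (iv2 F231725)) (tt N77513 (iv3 F243416)) (tt N67076 (iv4 F206496)) (tt N22418 (iv5 D73385)) (tt N59432 (iv6 F350052)) (tt N75520 (iv7 F231721)))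
theorem Q43889 : ∀ i, i < 43889 → P i := stepQ 43888 Q43888 (allL N43888 (tt N77494 (iv1 F248065)) (tt N77495 (iv0 F315265)) (tt N64236 F314555) (tt N77514 (iv3 F243417)) (tt N47699 F314556) (tt N59433 (iv5 F350057)) (tt N22418 (iv6 D73386)) (tt N47698 (iv7 F316886)))
theorem Q43890 : ∀ i, i < 43890 → P i := stepQ 43889 Q43889 (allL N43889 (tt N77515 D154751) (tt N77516 D154752) (tt N77517 D154753) (tt N22419 (iv3 D73387)) (tt N77518 D154754) (tt N77519 D154755) (tt N71908 (iv6 F335445)) (tt N75521 (iv7 F231724)))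
theorem Q43891 : ∀ i, i < 43891 → P i := stepQ 43890 Q43890 (allL N43890 (tt N76003 (iv1 F235498)) (tt N77038 (iv0 F241500)) (tt N75520 (iv2 F231720)) (tt N77519 (iv3 F243418)) (tt N67070 (iv4 F206492)) (tt N22419 (iv5 D73388)) (tt N77520 D154757) (tt N75522 (iv7 F231726)))
theorem Q43892 : ∀ i, i < 43892 → P i := stepQ 43891 Q43891 (allL N43891 (tt N77508 (iv1 F252893)) (tt N73568 (iv0 F362631)) (tt N62386 (iv2 F319285)) (tt N71908 (iv3 F335443)) (tt N62378 (iv4 F316876)) (tt N77521 D154760) (tt N22419 (iv6 D73389)) (tt N62388 (iv7 F362628)))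
theorem Q43893 : ∀ i, i < 43893 → P i := stepQ 43892 Q43892 (allL N43892 (tt N75524 (iv1 F231735)) (tt N22420 (iv0 D73390)) (tt N75523 (iv2 F359338)) (tt N57819 (iv3 F322268)) (tt N77522 D154763) (tt N77523 D154764) (tt N77524 D154765) (tt N72307 (iv7 F359345)))
theorem Q43894 : ∀ i, i < 43894 → P i := stepQ 43893 Q43893 (allL N43893 (tt N22420 (iv1 D73391)) (tt N75524 F231737) (tt N72307 (iv2 F359344)) (tt N77525 D154767) (tt N77526 D154768) (tt N77527 D154769) (tt N77528 D154770) (tt N75523 (iv7 F359339)))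
theorem Q43895 : ∀ i, i < 43895 → P i := stepQ 43894 Q43894 (allL N43894 (tt N75523 (iv1 F231736)) (tt N72307 (iv0 F359342)) (tt N22420 (iv2 D73392)) (tt N76892 (iv3 F240476)) (tt N22567 F110085) (tt N77529 D154771) (tt N57843 (iv6 F319267)) (tt N75524 (iv7 F231734)))
theorem Q43896 : ∀ i, i < 43896 → P i := stepQ 43895 Q43895 (allL N43895 (tt N77530 D154772) (tt N77531 D154773) (tt N77529 (iv2 F243423)) (tt N22421 F110086) (tt N77532 D154774) (tt N22420 (iv5 D73393)) (tt N77533 D154775) (tt N75525 (iv7 F231739)))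
theorem Q43897 : ∀ i, i < 43897 → P i := stepQ 43896 Q43896 (allL N43896 (tt N66901 (iv1 F206040)) (tt N22421 (iv0 D73394)) (tt N66904 (iv2 F206048)) (tt N77534 D154776) (tt N66876 (iv4 F205966)) (tt N63183 (iv5 F185875)) (tt N77535 D154777) (tt N66859 (iv7 F205901)))
theorem Q43898 : ∀ i, i < 43898 → P i := stepQ 43897 Q43897 (allL N43897 (tt N43498 F110089) (tt N43598 F110090) (tt N43595 F110087) (tt N77536 D154778) (tt N22421 (iv4 D73395)) (tt N66638 (iv5 F204803)) (tt N77537 D154779) (tt N43594 F110088))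
theorem Q43899 : ∀ i, i < 43899 → P i := stepQ 43898 Q43898 (allL N43898 (tt N77538 D154780) (tt N77539 D154781) (tt N76894 (iv2 F240478)) (tt N77533 (iv3 F243425)) (tt N77537 (iv4 F243428)) (tt N65281 (iv5 F200562)) (tt N22421 (iv6 D73396)) (tt N77540 D154782))
theorem Q43900 : ∀ i, i < 43900 → P i := stepQ 43899 Q43899 (allL N43899 (tt N33945 F303891) (tt N33944 F303892) (tt N22525 F303893) (tt N22423 F110092) (tt N64662 (iv4 F198014)) (tt N22422 (iv5 D73397)) (tt N75119 (iv6 F305943)) (tt N63717 (iv7 F188901)))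
theorem Q43901 : ∀ i, i < 43901 → P i := stepQ 43900 Q43900 (allL N43900 (tt N56134 F332509) (tt N47381 (iv0 F332510)) (tt N22433 F110095) (tt N75119 F306173) (tt N34963 F110096) (tt N62814 (iv5 F308170)) (tt N22423 (iv6 D73399)) (tt N74934 (iv7 F308175)))
theorem Q43902 : ∀ i, i < 43902 → P i := stepQ 43901 Q43901 (allL N43901 (tt N63716 F232685) (tt N77541 D154801) (tt N22436 F187860) (tt N40975 F310044) (tt N77542 D154802) (tt N22424 (iv5 D73407)) (tt N33781 F318169) (tt N22439 F187861))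
theorem Q43903 : ∀ i, i < 43903 → P i := stepQ 43902 Q43902 (allL N43902 (tt N36606 F307096) (tt N36517 F307097) (tt N22438 F187848) (tt N43785 F307098) (tt N22425 (iv4 D73409)) (tt N75622 (iv5 F308946)) (tt N39944 (iv6 F314455)) (tt N22435 F187849))
theorem Q43904 : ∀ i, i < 43904 → P i := stepQ 43903 Q43903 (allL N43903 (tt N77541 (iv1 F243469)) (tt N63716 F232686) (tt N22439 F187850) (tt N65193 (iv3 F199511)) (tt N26275 F337111) (tt N22425 (iv5 D73410)) (tt N75999 (iv6 F235352)) (tt N22436 F187851))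
theorem Q43905 : ∀ i, i < 43905 → P i := stepQ 43904 Q43904 (allL N43904 (tt N77543 D154809) (tt N77544 D154810) (tt N22442 F110109) (tt N64763 (iv3 F198277)) (tt N22426 (iv4 D73414)) (tt N77545 D154811) (tt N23331 F110110) (tt N73889 (iv7 F312309)))
theorem Q43906 : ∀ i, i < 43906 → P i := stepQ 43905 Q43905 (allL N43905 (tt N65210 (iv1 F308107)) (tt N77546 D154817) (tt N64588 (iv2 F197752)) (tt N22429 F110119) (tt N48205 F306171) (tt N75686 (iv5 F307284)) (tt N22428 (iv6 D73418)) (tt N64906 F199747))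
theorem Q43907 : ∀ i, i < 43907 → P i := stepQ 43906 Q43906 (allL N43906 (tt N45217 (iv1 F308166)) (tt N23069 F306172) (tt N63721 (iv2 F188960)) (tt N75686 (iv3 F307283)) (tt N77547 D154821) (tt N22429 (iv5 D73421)) (tt N49387 F305326) (tt N64011 (iv7 F307113)))
theorem Q43908 : ∀ i, i < 43908 → P i := stepQ 43907 Q43907 (allL N43907 (tt N22430 (iv1 D73423)) (tt N42464 F110121) (tt N47701 F129512) (tt N23927 (iv3 F110124)) (tt N27630 F110123) (tt N25061 F110122) (tt N63633 (iv6 F304093)) (tt N47704 (iv7 F129524)))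
theorem Q43909 : ∀ i, i < 43909 → P i := stepQ 43908 Q43908 (allL N43908 (tt N25406 F110133) (tt N45567 F116533) (tt N25483 F110130) (tt N22431 (iv3 D73427)) (tt N47262 (iv4 F128591)) (tt N34014 F110131) (tt N46526 F302282) (tt N43090 F110132))
theorem Q43910 : ∀ i, i < 43910 → P i := stepQ 43909 Q43909 (allL N43909 (tt N53330 (iv1 F331873)) (tt N37480 F305868) (tt N43094 F110134) (tt N46526 F302280) (tt N49591 (iv4 F304747)) (tt N65289 (iv5 F307714)) (tt N22431 (iv6 D73428)) (tt N54254 (iv7 F304753)))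
theorem Q43911 : ∀ i, i < 43911 → P i := stepQ 43910 Q43910 (allL N43910 (tt N46762 (iv1 F126889)) (tt N46765 (iv0 F126899)) (tt N43651 F110135) (tt N22432 (iv3 D73429)) (tt N23534 F110136) (tt N64168 (iv5 F193433)) (tt N52926 (iv6 F340201)) (tt N34964 F110137))
theorem Q43912 : ∀ i, i < 43912 → P i := stepQ 43911 Q43911 (allL N43911 (tt N35206 (iv1 F314826)) (tt N42519 (iv0 F314827)) (tt N34963 F110139) (tt N52926 (iv3 F340199)) (tt N22433 F110140) (tt N77548 D154836) (tt N22432 (iv6 D73430)) (tt N47819 F337505))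
theorem Q43913 : ∀ i, i < 43913 → P i := stepQ 43912 Q43912 (allL N43912 (tt N74934 (iv1 F308172)) (tt N22433 (iv0 D73431)) (tt N56134 (iv2 F314821)) (tt N47384 (iv3 F314822)) (tt N47453 (iv4 F314823)) (tt N75534 (iv5 F332492)) (tt N41013 (iv6 F332493)) (tt N47381 (iv7 F314825)))
theorem Q43914 : ∀ i, i < 43914 → P i := stepQ 43913 Q43913 (allL N43913 (tt N47381 (iv1 F332511)) (tt N56134 F332508) (tt N74934 (iv2 F308173)) (tt N23936 F110143) (tt N47819 F337509) (tt N41317 (iv5 F308176)) (tt N37485 F306175) (tt N22433 (iv7 D73434)))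
theorem Q43915 : ∀ i, i < 43915 → P i := stepQ 43914 Q43914 (allL N43914 (tt N77239 (iv1 F242060)) (tt N77549 D154885) (tt N40999 F313358) (tt N22436 F110157) (tt N77550 D154886) (tt N22434 (iv5 D73458)) (tt N77551 D154887) (tt N65193 (iv7 F199512)))
theorem Q43916 : ∀ i, i < 43916 → P i := stepQ 43915 Q43915 (allL N43915 (tt N22438 (iv1 F110164)) (tt N22435 (iv0 D73461)) (tt N36517 (iv2 F307056)) (tt N34225 F306341) (tt N42996 (iv4 F306947)) (tt N51490 (iv5 F333293)) (tt N63725 (iv6 F191377)) (tt N36606 (iv7 F307038)))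
theorem Q43917 : ∀ i, i < 43917 → P i := stepQ 43916 Q43916 (allL N43916 (tt N76125 (iv1 F308949)) (tt N36345 (iv0 F308951)) (tt N41597 F307100) (tt N49042 F310453) (tt N63014 (iv4 F308953)) (tt N22435 (iv5 D73464)) (tt N36301 (iv6 F308954)) (tt N75622 (iv7 F308947)))
theorem Q43918 : ∀ i, i < 43918 → P i := stepQ 43917 Q43917 (allL N43917 (tt N22439 (iv1 F110168)) (tt N22436 (iv0 D73467)) (tt N63716 (iv2 F232644)) (tt N41029 F313420) (tt N77552 D154901) (tt N45246 F114895) (tt N77553 D154902) (tt N77541 (iv7 F243470)))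
theorem Q43919 : ∀ i, i < 43919 → P i := stepQ 43918 Q43918 (allL N43918 (tt N22436 (iv1 D73468)) (tt N22439 F110165) (tt N77541 F243471) (tt N22447 F232640) (tt N77554 D154903) (tt N63061 (iv5 F304981)) (tt N40945 F322083) (tt N63716 F232643))
theorem Q43920 : ∀ i, i < 43920 → P i := stepQ 43919 Q43919 (allL N43919 (tt N54800 (iv1 F337104)) (tt N54801 F337101) (tt N77542 (iv2 F243473)) (tt N26049 (iv3 F337106)) (tt N22436 (iv4 D73469)) (tt N26048 (iv5 F337107)) (tt N77555 D154908) (tt N26275 (iv7 F337109)))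
theorem Q43921 : ∀ i, i < 43921 → P i := stepQ 43920 Q43920 (allL N43920 (tt N33779 (iv1 F315970)) (tt N33783 F315738) (tt N33781 F318162) (tt N77551 (iv3 F243585)) (tt N77555 (iv4 F243594)) (tt N63326 (iv5 F305883)) (tt N22436 (iv6 D73470)) (tt N33780 F318163))
theorem Q43922 : ∀ i, i < 43922 → P i := stepQ 43921 Q43921 (allL N43921 (tt N36345 (iv1 F308952)) (tt N76125 (iv0 F308948)) (tt N75622 (iv2 F308945)) (tt N36368 F307101) (tt N50749 (iv4 F318931)) (tt N22438 (iv5 D73483)) (tt N39949 (iv6 F315672)) (tt N41597 F307102))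
theorem Q43923 : ∀ i, i < 43923 → P i := stepQ 43922 Q43922 (allL N43922 (tt N54801 F337102) (tt N54800 (iv0 F337103)) (tt N26275 (iv2 F337108)) (tt N44389 (iv3 F329259)) (tt N22439 (iv4 D73485)) (tt N26274 (iv5 F337110)) (tt N44388 F328915) (tt N77542 (iv7 F243474)))
theorem Q43924 : ∀ i, i < 43924 → P i := stepQ 43923 Q43923 (allL N43923 (tt N76000 F235358) (tt N75994 (iv0 F235300)) (tt N75999 F235353) (tt N41004 F314559) (tt N44388 F328914) (tt N77556 D154930) (tt N22439 (iv6 D73486)) (tt N72251 (iv7 F329258)))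
theorem Q43925 : ∀ i, i < 43925 → P i := stepQ 43924 Q43924 (allL N43924 (tt N23069 F232397) (tt N45217 (iv0 F114825)) (tt N64011 F232671) (tt N42294 (iv3 F232624)) (tt N77557 D154931) (tt N22440 (iv5 D73489)) (tt N77556 (iv6 F243620)) (tt N63721 F306223))
theorem Q43926 : ∀ i, i < 43926 → P i := stepQ 43925 Q43925 (allL N43925 (tt N65197 (iv1 F241368)) (tt N65189 (iv0 F199494)) (tt N65194 (iv2 F199525)) (tt N22441 (iv3 D73492)) (tt N55109 F158912) (tt N77558 D154932) (tt N73817 (iv6 F316978)) (tt N65195 F199519))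
theorem Q43927 : ∀ i, i < 43927 → P i := stepQ 43926 Q43926 (allL N43926 (tt N73888 (iv1 F316948)) (tt N28150 F307548) (tt N64427 (iv2 F306518)) (tt N28033 (iv3 F309579)) (tt N22441 (iv4 D73493)) (tt N28350 (iv5 F309580)) (tt N69982 (iv6 F333152)) (tt N29042 F307549))
theorem Q43928 : ∀ i, i < 43928 → P i := stepQ 43927 Q43927 (allL N43927 (tt N73890 (iv1 F316958)) (tt N34452 F232580) (tt N72400 (iv2 F353450)) (tt N77558 (iv3 F243622)) (tt N77559 D154938) (tt N22441 (iv5 D73494)) (tt N42292 F232625) (tt N34022 F190248))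
theorem Q43929 : ∀ i, i < 43929 → P i := stepQ 43928 Q43928 (allL N43928 (tt N73889 (iv1 F312306)) (tt N22442 (iv0 D73501)) (tt N77543 (iv2 F243495)) (tt N76301 (iv3 F356342)) (tt N77560 D154952) (tt N77561 D154953) (tt N77562 D154954) (tt N77544 (iv7 F243497)))
theorem Q43930 : ∀ i, i < 43930 → P i := stepQ 43929 Q43929 (allL N43929 (tt N22442 (iv1 D73502)) (tt N73889 (iv0 F312305)) (tt N77544 F243498) (tt N77563 D154955) (tt N42653 (iv4 F110176)) (tt N77564 D154956) (tt N72003 (iv6 F320781)) (tt N77543 F243492))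
theorem Q43931 : ∀ i, i < 43931 → P i := stepQ 43930 Q43930 (allL N43930 (tt N77565 D154963) (tt N76297 (iv0 F356575)) (tt N77545 (iv2 F243500)) (tt N26134 (iv3 F306704)) (tt N28130 (iv4 F306705)) (tt N22442 (iv5 D73504)) (tt N26133 F304674) (tt N77566 D154967))
theorem Q43932 : ∀ i, i < 43932 → P i := stepQ 43931 Q43931 (allL N43931 (tt N77544 (iv1 F243496)) (tt N77543 (iv0 F243493)) (tt N73889 (iv2 F312307)) (tt N62777 (iv3 F314947)) (tt N22443 F110179) (tt N77566 (iv5 F243672)) (tt N77567 D154968) (tt N22442 (iv7 D73505)))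
theorem Q43933 : ∀ i, i < 43933 → P i := stepQ 43932 Q43932 (allL N43932 (tt N63530 (iv1 F187903)) (tt N63529 F187911) (tt N63532 (iv2 F187907)) (tt N22454 F110180) (tt N77567 (iv4 F243674)) (tt N63527 (iv5 F187873)) (tt N22443 (iv6 D73506)) (tt N23355 F110181))
theorem Q43934 : ∀ i, i < 43934 → P i := stepQ 43933 Q43933 (allL N43933 (tt N77568 D154969) (tt N77569 D154970) (tt N63543 (iv2 F187976)) (tt N24673 (iv3 F118004)) (tt N77570 D154971) (tt N22444 (iv5 D73522)) (tt N77571 D154972) (tt N63545 (iv7 F187994)))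
theorem Q43935 : ∀ i, i < 43935 → P i := stepQ 43934 Q43934 (allL N43934 (tt N25088 F130267) (tt N22445 (iv0 D73524)) (tt N33447 F313434) (tt N40977 F313435) (tt N77572 D154977) (tt N63377 (iv5 F186981)) (tt N42266 (iv6 F315905)) (tt N33438 F313436))
theorem Q43936 : ∀ i, i < 43936 → P i := stepQ 43935 Q43935 (allL N43935 (tt N77573 D154980) (tt N77574 D154981) (tt N63544 (iv2 F187989)) (tt N34749 F315592) (tt N22445 (iv4 D73526)) (tt N35317 (iv5 F317879)) (tt N42282 (iv6 F317783)) (tt N46279 (iv7 F315769)))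
theorem Q43937 : ∀ i, i < 43937 → P i := stepQ 43936 Q43936 (allL N43936 (tt N33456 F313411) (tt N41030 F313412) (tt N41029 F313418) (tt N22446 (iv3 D73530)) (tt N77575 D154987) (tt N22876 F110193) (tt N42280 F319985) (tt N40781 F318077))
theorem Q43938 : ∀ i, i < 43938 → P i := stepQ 43937 Q43937 (allL N43937 (tt N33455 F311055) (tt N41037 F311056) (tt N41035 F311057) (tt N42280 F319983) (tt N42232 (iv4 F313311)) (tt N22878 F110198) (tt N22446 (iv6 D73532)) (tt N41027 F311058))
theorem Q43939 : ∀ i, i < 43939 → P i := stepQ 43938 Q43938 (allL N43938 (tt N33576 (iv1 F313202)) (tt N33578 (iv0 F313203)) (tt N41669 (iv2 F315591)) (tt N22448 (iv3 D73535)) (tt N34749 (iv4 F313204)) (tt N34296 (iv5 F313205)) (tt N29747 F313200) (tt N23096 F313201))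
theorem Q43940 : ∀ i, i < 43940 → P i := stepQ 43939 Q43939 (allL N43939 (tt N41411 (iv1 F313150)) (tt N41652 (iv0 F313151)) (tt N64027 (iv2 F313152)) (tt N22449 (iv3 D73562)) (tt N39086 F326599) (tt N66758 (iv5 F313153)) (tt N42492 F310931) (tt N36375 (iv7 F313154)))
theorem Q43941 : ∀ i, i < 43941 → P i := stepQ 43940 Q43940 (allL N43940 (tt N73719 (iv1 F313155)) (tt N40186 (iv0 F313157)) (tt N48163 (iv2 F131653)) (tt N77243 (iv3 F242074)) (tt N64223 (iv4 F349371)) (tt N22450 (iv5 D73564)) (tt N22451 F110220) (tt N42279 (iv7 F310962)))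
theorem Q43942 : ∀ i, i < 43942 → P i := stepQ 43941 Q43941 (allL N43941 (tt N23106 F110222) (tt N23095 F110223) (tt N48055 (iv2 F130589)) (tt N77576 D155004) (tt N22451 (iv4 D73565)) (tt N35423 F110221) (tt N64223 (iv6 F349373)) (tt N48058 (iv7 F130597)))
theorem Q43943 : ∀ i, i < 43943 → P i := stepQ 43942 Q43942 (allL N43942 (tt N77577 D155005) (tt N66930 (iv0 F206161)) (tt N63546 (iv2 F188001)) (tt N24012 F320193) (tt N22452 (iv4 D73569)) (tt N24011 (iv5 F321875)) (tt N73703 (iv6 F318663)) (tt N62493 (iv7 F317986)))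
theorem Q43944 : ∀ i, i < 43944 → P i := stepQ 43943 Q43943 (allL N43943 (tt N44426 F315906) (tt N34446 F186994) (tt N44433 F315963) (tt N22453 F110224) (tt N77578 D155007) (tt N22452 (iv5 D73570)) (tt N42303 F110225) (tt N34046 F110226))
theorem Q43945 : ∀ i, i < 43945 → P i := stepQ 43944 Q43944 (allL N43944 (tt N46358 (iv1 F122986)) (tt N46355 (iv0 F122967)) (tt N23534 F110262) (tt N22456 F110263) (tt N43651 F110265) (tt N22455 (iv5 D73593)) (tt N66977 (iv6 F319369)) (tt N24596 F110264))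
theorem Q43946 : ∀ i, i < 43946 → P i := stepQ 43945 Q43945 (allL N43945 (tt N63749 (iv1 F305109)) (tt N63748 (iv0 F305108)) (tt N23535 F110266) (tt N22457 F110267) (tt N63718 (iv4 F188906)) (tt N77579 D155057) (tt N22455 (iv6 D73594)) (tt N63740 (iv7 F305103)))
theorem Q43947 : ∀ i, i < 43947 → P i := stepQ 43946 Q43946 (allL N43946 (tt N24876 F317087) (tt N68061 (iv0 F328133)) (tt N22466 F110268) (tt N66977 (iv3 F319368)) (tt N61006 (iv4 F177582)) (tt N66241 (iv5 F324256)) (tt N22456 (iv6 D73595)) (tt N66435 (iv7 F326277)))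
theorem Q43948 : ∀ i, i < 43948 → P i := stepQ 43947 Q43947 (allL N43947 (tt N22457 (iv1 D73597)) (tt N22470 F110271) (tt N22468 F155341) (tt N77580 D155065) (tt N77581 D155066) (tt N62696 (iv5 F321765)) (tt N63748 (iv6 F280225)) (tt N22467 F155342))
theorem Q43949 : ∀ i, i < 43949 → P i := stepQ 43948 Q43948 (allL N43948 (tt N66496 (iv1 F345375)) (tt N77582 D155070) (tt N22469 F110272) (tt N77579 (iv3 F243836)) (tt N58873 (iv4 F321021)) (tt N22457 (iv5 D73598)) (tt N66241 (iv6 F324257)) (tt N77583 D155072))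
theorem Q43950 : ∀ i, i < 43950 → P i := stepQ 43949 Q43949 (allL N43949 (tt N22468 (iv1 F110275)) (tt N22467 F110276) (tt N22470 F110273) (tt N63740 (iv3 F305102)) (tt N22460 F110274) (tt N77583 (iv5 F243869)) (tt N63693 (iv6 F188697)) (tt N22457 (iv7 D73599)))
theorem Q43951 : ∀ i, i < 43951 → P i := stepQ 43950 Q43950 (allL N43950 (tt N43149 (iv1 F110283)) (tt N43148 F110285) (tt N22472 F110281) (tt N43491 F191058) (tt N77584 D155075) (tt N22458 (iv5 D73602)) (tt N34424 F311312) (tt N22475 F110282))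
theorem Q43952 : ∀ i, i < 43952 → P i := stepQ 43951 Q43951 (allL N43951 (tt N56122 (iv1 F190955)) (tt N66372 (iv0 F331968)) (tt N22474 F110286) (tt N34221 F316595) (tt N22459 (iv4 D73603)) (tt N62694 (iv5 F331938)) (tt N54304 (iv6 F344061)) (tt N22471 F110287))
theorem Q43953 : ∀ i, i < 43953 → P i := stepQ 43952 Q43952 (allL N43952 (tt N22972 (iv1 F110294)) (tt N22461 (iv0 D73605)) (tt N24490 F110296) (tt N23576 F110293) (tt N46968 (iv4 F127904)) (tt N24503 F110292) (tt N77585 D155077) (tt N24491 (iv7 F110295)))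
theorem Q43954 : ∀ i, i < 43954 → P i := stepQ 43953 Q43953 (allL N43953 (tt N22461 (iv1 D73606)) (tt N22972 F110297) (tt N24491 (iv2 F110299)) (tt N28763 F110301) (tt N46764 (iv4 F126894)) (tt N24492 (iv5 F110300)) (tt N77586 D155078) (tt N24490 F110298))
theorem Q43955 : ∀ i, i < 43955 → P i := stepQ 43954 Q43954 (allL N43954 (tt N77587 D155079) (tt N52794 (iv0 F343958)) (tt N24493 F110302) (tt N22462 F110303) (tt N24651 F110304) (tt N75186 (iv5 F310746)) (tt N22461 (iv6 D73607)) (tt N63742 (iv7 F189169)))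
theorem Q43956 : ∀ i, i < 43956 → P i := stepQ 43955 Q43955 (allL N43955 (tt N77588 D155084) (tt N77589 D155085) (tt N48280 F324618) (tt N24462 F110305) (tt N77590 D155086) (tt N22463 (iv5 D73614)) (tt N24456 F110306) (tt N65310 (iv7 F200755)))
theorem Q43957 : ∀ i, i < 43957 → P i := stepQ 43956 Q43956 (allL N43956 (tt N24575 F110312) (tt N24574 F110313) (tt N24516 F110309) (tt N45648 (iv3 F119260)) (tt N22464 (iv4 D73616)) (tt N23841 F110310) (tt N68061 (iv6 F328137)) (tt N24576 F110311))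
theorem Q43958 : ∀ i, i < 43958 → P i := stepQ 43957 Q43957 (allL N43957 (tt N77591 D155088) (tt N67834 (iv0 F307985)) (tt N24517 F110314) (tt N24653 F110315) (tt N68061 (iv4 F328136)) (tt N77592 D155090) (tt N22464 (iv6 D73617)) (tt N77593 D155091))
theorem Q43959 : ∀ i, i < 43959 → P i := stepQ 43958 Q43958 (allL N43958 (tt N22465 (iv1 D73618)) (tt N23847 F110316) (tt N34211 (iv2 F110320)) (tt N36548 F110321) (tt N23886 F110319) (tt N23875 F110318) (tt N77594 D155092) (tt N36529 F110317))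
theorem Q43960 : ∀ i, i < 43960 → P i := stepQ 43959 Q43959 (allL N43959 (tt N48421 (iv1 F132577)) (tt N48418 (iv0 F132573)) (tt N64662 (iv2 F198013)) (tt N22465 (iv3 D73619)) (tt N22525 F303895) (tt N60997 (iv5 F177550)) (tt N77595 D155093) (tt N63695 (iv7 F188744)))
theorem Q43961 : ∀ i, i < 43961 → P i := stepQ 43960 Q43960 (allL N43960 (tt N36599 (iv1 F328951)) (tt N24739 (iv0 F328952)) (tt N61006 (iv2 F177581)) (tt N77595 (iv3 F243922)) (tt N22466 F110323) (tt N77596 D155096) (tt N22465 (iv6 D73620)) (tt N76732 (iv7 F314835)))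
theorem Q43962 : ∀ i, i < 43962 → P i := stepQ 43961 Q43961 (allL N43961 (tt N66435 (iv1 F326274)) (tt N22466 (iv0 D73621)) (tt N24876 F328524) (tt N77597 D155099) (tt N77593 (iv4 F328944)) (tt N68062 (iv5 F328525)) (tt N70547 (iv6 F309523)) (tt N68061 (iv7 F326279)))
theorem Q43963 : ∀ i, i < 43963 → P i := stepQ 43962 Q43962 (allL N43962 (tt N22466 (iv1 D73622)) (tt N66435 (iv0 F326273)) (tt N68061 (iv2 F326278)) (tt N24412 (iv3 F328138)) (tt N24517 (iv4 F328139)) (tt N39255 (iv5 F326280)) (tt N24516 (iv6 F328140)) (tt N24876 (iv7 F328141)))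
theorem Q43964 : ∀ i, i < 43964 → P i := stepQ 43963 Q43963 (allL N43963 (tt N68061 (iv1 F328134)) (tt N24876 (iv0 F314833)) (tt N66435 (iv2 F326275)) (tt N23587 F110326) (tt N76732 (iv4 F314834)) (tt N56012 (iv5 F324259)) (tt N24847 (iv6 F315793)) (tt N22466 (iv7 D73624)))
theorem Q43965 : ∀ i, i < 43965 → P i := stepQ 43964 Q43964 (allL N43964 (tt N77598 D155112) (tt N77586 (iv0 F321094)) (tt N28813 F326283) (tt N22467 (iv3 D73626)) (tt N63558 (iv4 F188055)) (tt N70928 (iv5 F321763)) (tt N77599 D155116) (tt N77580 (iv7 F243854)))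
theorem Q43966 : ∀ i, i < 43966 → P i := stepQ 43965 Q43965 (allL N43965 (tt N77600 D155117) (tt N29792 F189985) (tt N33850 F155343) (tt N47335 (iv3 F189961)) (tt N22467 (iv4 D73627)) (tt N77601 D155118) (tt N77602 D155119) (tt N77581 (iv7 F243858)))
theorem Q43967 : ∀ i, i < 43967 → P i := stepQ 43966 Q43966 (allL N43966 (tt N65309 (iv1 F239428)) (tt N65317 (iv0 F239427)) (tt N65315 F200762) (tt N77599 (iv3 F243932)) (tt N77602 (iv4 F243946)) (tt N38913 F308619) (tt N22467 (iv6 D73629)) (tt N65314 (iv7 F239439)))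
theorem Q43968 : ∀ i, i < 43968 → P i := stepQ 43967 Q43967 (allL N43967 (tt N29792 F189986) (tt N77600 F243940) (tt N77581 (iv2 F243856)) (tt N28825 F319568) (tt N22468 (iv4 D73632)) (tt N66822 (iv5 F205708)) (tt N77603 D155129) (tt N33850 (iv7 F155322)))
theorem Q43969 : ∀ i, i < 43969 → P i := stepQ 43968 Q43968 (allL N43968 (tt N23535 F302744) (tt N63740 (iv0 F243955)) (tt N63748 (iv2 F280224)) (tt N28828 F315068) (tt N77603 (iv4 F243952)) (tt N77604 D155132) (tt N22468 (iv6 D73634)) (tt N63749 (iv7 F280223)))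
theorem Q43970 : ∀ i, i < 43970 → P i := stepQ 43969 Q43969 (allL N43969 (tt N77583 (iv1 F243875)) (tt N22469 (iv0 D73635)) (tt N66496 (iv2 F345376)) (tt N77605 D155134) (tt N60375 (iv4 F321761)) (tt N77606 D155136) (tt N57406 (iv6 F360154)) (tt N77582 F243874))
theorem Q43971 : ∀ i, i < 43971 → P i := stepQ 43970 Q43970 (allL N43970 (tt N22469 (iv1 D73636)) (tt N77583 F243871) (tt N77582 (iv2 F243866)) (tt N77607 D155138) (tt N58602 (iv4 F321760)) (tt N46359 F306764) (tt N77608 D155140) (tt N66496 (iv7 F345377)))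
theorem Q43972 : ∀ i, i < 43972 → P i := stepQ 43971 Q43971 (allL N43971 (tt N77582 (iv1 F243864)) (tt N66496 (iv0 F345374)) (tt N77583 (iv2 F243868)) (tt N23595 F110330) (tt N57376 (iv4 F317710)) (tt N22470 F110331) (tt N57375 (iv6 F324267)) (tt N22469 (iv7 D73638)))
theorem Q43973 : ∀ i, i < 43973 → P i := stepQ 43972 Q43972 (allL N43972 (tt N22474 (iv1 F110332)) (tt N22471 (iv0 D73639)) (tt N66372 (iv2 F331969)) (tt N77609 D155147) (tt N45737 F119546) (tt N77610 D155148) (tt N54297 (iv6 F308148)) (tt N56122 (iv7 F191345)))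
theorem Q43974 : ∀ i, i < 43974 → P i := stepQ 43973 Q43973 (allL N43973 (tt N34223 F314158) (tt N34158 F314159) (tt N34220 F316592) (tt N22471 (iv3 D73641)) (tt N63107 (iv4 F185603)) (tt N66228 (iv5 F331936)) (tt N77611 D155153) (tt N34221 F316593))
theorem Q43975 : ∀ i, i < 43975 → P i := stepQ 43974 Q43974 (allL N43974 (tt N76565 F239309) (tt N77612 D155158) (tt N65321 (iv2 F200783)) (tt N77611 (iv3 F243966)) (tt N22473 F110334) (tt N66229 (iv5 F347020)) (tt N22471 (iv6 D73643)) (tt N54310 (iv7 F344075)))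
theorem Q43976 : ∀ i, i < 43976 → P i := stepQ 43975 Q43975 (allL N43975 (tt N22475 (iv1 F110335)) (tt N22472 (iv0 D73644)) (tt N43149 (iv2 F120241)) (tt N63727 (iv3 F232621)) (tt N35883 F316278) (tt N43983 (iv5 F120248)) (tt N33741 (iv6 F110336)) (tt N43148 (iv7 F120246)))
theorem Q43977 : ∀ i, i < 43977 → P i := stepQ 43976 Q43976 (allL N43976 (tt N60373 (iv1 F323465)) (tt N44790 (iv0 F236239)) (tt N77584 (iv2 F243880)) (tt N44804 (iv3 F122407)) (tt N22472 (iv4 D73646)) (tt N58871 (iv5 F319917)) (tt N44427 F316064) (tt N43146 F110338))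
theorem Q43978 : ∀ i, i < 43978 → P i := stepQ 43977 Q43977 (allL N43977 (tt N76561 (iv1 F243986)) (tt N59885 (iv0 F325792)) (tt N77613 D155165) (tt N22474 (iv3 D73655)) (tt N66965 (iv4 F206280)) (tt N49021 F331979) (tt N54311 (iv6 F316743)) (tt N66363 (iv7 F331975)))
theorem Q43979 : ∀ i, i < 43979 → P i := stepQ 43978 Q43978 (allL N43978 (tt N44790 (iv1 F243884)) (tt N60373 (iv0 F323464)) (tt N43146 F110360) (tt N54078 (iv3 F300633)) (tt N22475 (iv4 D73658)) (tt N31998 F321766) (tt N34111 F110361) (tt N77584 (iv7 F243881)))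
theorem Q43980 : ∀ i, i < 43980 → P i := stepQ 43979 Q43979 (allL N43979 (tt N22875 F130992) (tt N46089 (iv0 F120205)) (tt N43147 F110362) (tt N25391 (iv3 F305736)) (tt N46680 (iv4 F305741)) (tt N22476 (iv5 D73661)) (tt N25390 F303695) (tt N45715 (iv7 F305747)))
theorem Q43981 : ∀ i, i < 43981 → P i := stepQ 43980 Q43980 (allL N43980 (tt N56124 (iv1 F303995)) (tt N44547 (iv0 F309191)) (tt N63727 F232620) (tt N22477 (iv3 D73685)) (tt N68574 (iv4 F309193)) (tt N22870 F305661) (tt N77614 D155176) (tt N63728 (iv7 F232619)))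
theorem Q43982 : ∀ i, i < 43982 → P i := stepQ 43981 Q43981 (allL N43981 (tt N44439 (iv1 F309195)) (tt N40249 F313916) (tt N63730 (iv2 F189025)) (tt N77614 (iv3 F243995)) (tt N44542 (iv4 F309194)) (tt N23071 F110381) (tt N22477 (iv6 D73687)) (tt N63109 (iv7 F185644)))
theorem Q43983 : ∀ i, i < 43983 → P i := stepQ 43982 Q43982 (allL N43982 (tt N36550 (iv1 F303611)) (tt N63511 (iv0 F190689)) (tt N63567 (iv2 F188122)) (tt N24584 F300808) (tt N22481 F110393) (tt N77615 D155190) (tt N22479 (iv6 D73697)) (tt N63617 F188491))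
theorem Q43984 : ∀ i, i < 43984 → P i := stepQ 43983 Q43983 (allL N43983 (tt N25078 (iv1 F110394)) (tt N22480 (iv0 D73698)) (tt N34557 (iv2 F130884)) (tt N43076 (iv3 F305659)) (tt N77616 D155191) (tt N43975 F120248) (tt N23888 F120249) (tt N63563 (iv7 F188092)))
theorem Q43985 : ∀ i, i < 43985 → P i := stepQ 43984 Q43984 (allL N43984 (tt N22480 (iv1 D73699)) (tt N25078 F110395) (tt N63563 F188090) (tt N23914 F303205) (tt N41582 F324082) (tt N23060 F110396) (tt N33791 F130925) (tt N34557 (iv7 F130886)))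
theorem Q43986 : ∀ i, i < 43986 → P i := stepQ 43985 Q43985 (allL N43985 (tt N71613 (iv1 F331940)) (tt N47312 (iv0 F307479)) (tt N46972 F304839) (tt N77617 D155195) (tt N22480 (iv4 D73700)) (tt N66035 (iv5 F332521)) (tt N26170 F304840) (tt N63564 (iv7 F188099)))
theorem Q43987 : ∀ i, i < 43987 → P i := stepQ 43986 Q43986 (allL N43986 (tt N63433 F187414) (tt N63432 (iv0 F187405)) (tt N63568 (iv2 F188127)) (tt N22484 F110398) (tt N66913 (iv4 F307777)) (tt N22481 (iv5 D73703)) (tt N33944 F110399) (tt N63651 (iv7 F188574)))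
theorem Q43988 : ∀ i, i < 43988 → P i := stepQ 43987 Q43987 (allL N43987 (tt N37616 (iv1 F305277)) (tt N37615 (iv0 F305278)) (tt N37614 (iv2 F305279)) (tt N22482 (iv3 D73704)) (tt N77617 (iv4 F244040)) (tt N44130 (iv5 F305280)) (tt N37572 F302923) (tt N30682 (iv7 F305281)))
theorem Q43989 : ∀ i, i < 43989 → P i := stepQ 43988 Q43988 (allL N43988 (tt N48468 F305053) (tt N56116 (iv0 F305148)) (tt N63733 (iv2 F189091)) (tt N33944 F110407) (tt N63655 (iv4 F305136)) (tt N22483 (iv5 D73706)) (tt N22484 F110408) (tt N44437 (iv7 F305259)))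
theorem Q43990 : ∀ i, i < 43990 → P i := stepQ 43989 Q43989 (allL N43989 (tt N22486 (iv1 D73712)) (tt N63735 F189107) (tt N63734 F200210) (tt N25117 F200213) (tt N38277 F308998) (tt N42339 (iv5 F110416)) (tt N41815 (iv6 F110415)) (tt N25110 F200214))
theorem Q43991 : ∀ i, i < 43991 → P i := stepQ 43990 Q43990 (allL N43990 (tt N63734 (iv1 F189100)) (tt N25110 F199841) (tt N63735 (iv2 F189103)) (tt N77280 (iv3 F242248)) (tt N37507 F309256) (tt N22544 F110417) (tt N42479 F309257) (tt N22486 (iv7 D73713)))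
theorem Q43992 : ∀ i, i < 43992 → P i := stepQ 43991 Q43991 (allL N43991 (tt N41055 F317090) (tt N35045 (iv0 F121503)) (tt N40777 (iv2 F322124)) (tt N22488 (iv3 D73715)) (tt N65184 (iv4 F199462)) (tt N33396 F320424) (tt N37473 F311984) (tt N42706 F110421))
theorem Q43993 : ∀ i, i < 43993 → P i := stepQ 43992 Q43992 (allL N43992 (tt N55808 (iv1 F307952)) (tt N56136 (iv0 F306941)) (tt N76440 F311959) (tt N22489 (iv3 D73718)) (tt N63631 (iv4 F305977)) (tt N25174 (iv5 F313853)) (tt N22871 F311960) (tt N42705 F110427))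
theorem Q43994 : ∀ i, i < 43994 → P i := stepQ 43993 Q43993 (allL N43993 (tt N77618 D155224) (tt N22490 (iv0 D73721)) (tt N33450 F315022) (tt N40886 (iv3 F317231)) (tt N77619 D155227) (tt N33408 (iv5 F317232)) (tt N42265 (iv6 F317233)) (tt N63863 (iv7 F309665)))
theorem Q43995 : ∀ i, i < 43995 → P i := stepQ 43994 Q43994 (allL N43994 (tt N22490 (iv1 D73722)) (tt N77618 F244132) (tt N63863 F310278) (tt N22748 (iv3 F314270)) (tt N77620 D155232) (tt N22742 (iv5 F312563)) (tt N63432 (iv6 F312564)) (tt N33450 (iv7 F312570)))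
theorem Q43996 : ∀ i, i < 43996 → P i := stepQ 43995 Q43995 (allL N43995 (tt N33450 F315021) (tt N63863 (iv0 F309663)) (tt N22490 (iv2 D73723)) (tt N46552 (iv3 F125398)) (tt N46395 (iv4 F123345)) (tt N43386 (iv5 F309666)) (tt N23896 F110433) (tt N77618 (iv7 F244131)))
theorem Q43997 : ∀ i, i < 43997 → P i := stepQ 43996 Q43996 (allL N43996 (tt N34263 (iv1 F313893)) (tt N43355 (iv0 F313894)) (tt N43386 F311445) (tt N22491 F110434) (tt N77621 D155240) (tt N22490 (iv5 D73724)) (tt N40181 (iv6 F319032)) (tt N43385 (iv7 F311561)))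
theorem Q43998 : ∀ i, i < 43998 → P i := stepQ 43997 Q43997 (allL N43997 (tt N63863 F311857) (tt N33450 F314272) (tt N77618 F244129) (tt N22492 F110435) (tt N63554 (iv4 F188037)) (tt N43385 F311858) (tt N77622 D155242) (tt N22490 (iv7 D73725)))
theorem Q43999 : ∀ i, i < 43999 → P i := stepQ 43998 Q43998 (allL N43998 (tt N33806 (iv1 F313895)) (tt N33809 (iv0 F313896)) (tt N42328 F311446) (tt N40181 F321133) (tt N64117 (iv4 F193156)) (tt N23369 F110450) (tt N22491 (iv6 D73728)) (tt N42327 (iv7 F313297)))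
theorem Q44000 : ∀ i, i < 44000 → P i := stepQ 43999 Q43999 (allL N43999 (tt N33825 (iv1 F131637)) (tt N33823 (iv0 F131636)) (tt N63737 (iv2 F189132)) (tt N77622 (iv3 F244143)) (tt N22493 F110451) (tt N74995 (iv5 F311116)) (tt N22492 (iv6 D73729)) (tt N23368 F110452))
theorem Q44001 : ∀ i, i < 44001 → P i := stepQ 44000 Q44000 (allL N44000 (tt N40283 F317437) (tt N66568 F315206) (tt N42333 F315207) (tt N66572 (iv3 F315745)) (tt N77623 D155250) (tt N22494 (iv5 D73738)) (tt N74850 (iv6 F334909)) (tt N63264 (iv7 F232388)))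
theorem Q44002 : ∀ i, i < 44002 → P i := stepQ 44001 Q44001 (allL N44001 (tt N23318 (iv1 F232395)) (tt N43080 (iv0 F232396)) (tt N22503 F110480) (tt N43314 (iv3 F130759)) (tt N56124 (iv4 F308391)) (tt N22496 (iv5 D73772)) (tt N42685 F308197) (tt N43079 (iv7 F232502)))
theorem Q44003 : ∀ i, i < 44003 → P i := stepQ 44002 Q44002 (allL N44002 (tt N42287 F232668) (tt N33800 F232669) (tt N34024 F232906) (tt N43518 F232907) (tt N66866 (iv4 F307736)) (tt N22497 (iv5 D73793)) (tt N33992 F232908) (tt N42292 F232909))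
theorem Q44004 : ∀ i, i < 44004 → P i := stepQ 44003 Q44003 (allL N44003 (tt N63627 (iv1 F259460)) (tt N63523 (iv0 F259461)) (tt N63630 (iv2 F250248)) (tt N22498 (iv3 D73796)) (tt N77624 D155316) (tt N72401 (iv5 F312180)) (tt N62827 (iv6 F232920)) (tt N63629 (iv7 F233210)))
theorem Q44005 : ∀ i, i < 44005 → P i := stepQ 44004 Q44004 (allL N44004 (tt N27216 (iv1 F322017)) (tt N45125 F320313) (tt N45034 (iv2 F322018)) (tt N45136 (iv3 F322019)) (tt N22498 (iv4 D73797)) (tt N77625 D155319) (tt N62828 (iv6 F232921)) (tt N45126 (iv7 F322020)))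
theorem Q44006 : ∀ i, i < 44006 → P i := stepQ 44005 Q44005 (allL N44005 (tt N33800 F232916) (tt N42287 F232917) (tt N42292 F232914) (tt N72401 (iv3 F312179)) (tt N57697 (iv4 F309731)) (tt N22498 (iv5 D73798)) (tt N72400 (iv6 F353452)) (tt N34024 F232915))
theorem Q44007 : ∀ i, i < 44007 → P i := stepQ 44006 Q44006 (allL N44006 (tt N63758 (iv1 F189341)) (tt N22499 (iv0 D73800)) (tt N50754 (iv2 F333296)) (tt N50769 (iv3 F349316)) (tt N77626 D155323) (tt N77627 D155324) (tt N77628 D155325) (tt N61012 (iv7 F333306)))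
theorem Q44008 : ∀ i, i < 44008 → P i := stepQ 44007 Q44007 (allL N44007 (tt N22499 (iv1 D73801)) (tt N63758 F189340) (tt N61012 (iv2 F333304)) (tt N26426 (iv3 F333307)) (tt N67928 (iv4 F315521)) (tt N29020 (iv5 F333301)) (tt N62823 (iv6 F244274)) (tt N50754 F333300))
theorem Q44009 : ∀ i, i < 44009 → P i := stepQ 44008 Q44008 (allL N44008 (tt N50748 (iv1 F317602)) (tt N26265 (iv0 F317604)) (tt N28130 F315373) (tt N51467 (iv3 F317599)) (tt N77545 (iv4 F317606)) (tt N22499 (iv5 D73803)) (tt N26080 (iv6 F317607)) (tt N50747 (iv7 F337217)))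
theorem Q44010 : ∀ i, i < 44010 → P i := stepQ 44009 Q44009 (allL N44009 (tt N29796 F307898) (tt N36546 (iv0 F308745)) (tt N33857 F307899) (tt N36557 (iv3 F309900)) (tt N22501 (iv4 D73811)) (tt N46513 (iv5 F309755)) (tt N48460 (iv6 F307442)) (tt N36545 F307900))
theorem Q44011 : ∀ i, i < 44011 → P i := stepQ 44010 Q44010 (allL N44010 (tt N63628 (iv1 F232964)) (tt N63633 F232965) (tt N63632 F238286) (tt N22502 (iv3 D73815)) (tt N42705 (iv4 F308736)) (tt N76019 (iv5 F306292)) (tt N77629 D155351) (tt N63631 (iv7 F238285)))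
theorem Q44012 : ∀ i, i < 44012 → P i := stepQ 44011 Q44011 (allL N44011 (tt N25155 F306231) (tt N25153 F232901) (tt N25160 F232902) (tt N77629 (iv3 F244312)) (tt N42704 (iv4 F308237)) (tt N53361 (iv5 F342538)) (tt N22502 (iv6 D73818)) (tt N25161 F232904))
theorem Q44013 : ∀ i, i < 44013 → P i := stepQ 44012 Q44012 (allL N44012 (tt N22503 (iv1 D73820)) (tt N43079 (iv0 F232496)) (tt N43080 F232429) (tt N43130 F232430) (tt N76016 (iv4 F309678)) (tt N23319 F232431) (tt N77630 D155357) (tt N23318 F232432))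
theorem Q44014 : ∀ i, i < 44014 → P i := stepQ 44013 Q44013 (allL N44013 (tt N63483 (iv1 F322771)) (tt N63480 (iv0 F322772)) (tt N48015 (iv2 F322774)) (tt N22505 (iv3 D73841)) (tt N24018 F304721) (tt N47987 F321017) (tt N58855 (iv6 F323146)) (tt N23941 F304722))
theorem Q44015 : ∀ i, i < 44015 → P i := stepQ 44014 Q44014 (allL N44014 (tt N77631 D155373) (tt N67040 (iv0 F206398)) (tt N63643 (iv2 F188558)) (tt N73380 (iv3 F366077)) (tt N22506 (iv4 D73846)) (tt N77632 D155375) (tt N73377 (iv6 F366074)) (tt N63645 (iv7 F188562)))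
theorem Q44016 : ∀ i, i < 44016 → P i := stepQ 44015 Q44015 (allL N44015 (tt N76468 (iv1 F317623)) (tt N23349 (iv0 F317624)) (tt N73692 (iv2 F322308)) (tt N22507 (iv3 D73848)) (tt N73380 (iv4 F366078)) (tt N76448 (iv5 F317628)) (tt N73378 (iv6 F322087)) (tt N63757 (iv7 F189235)))
theorem Q44017 : ∀ i, i < 44017 → P i := stepQ 44016 Q44016 (allL N44016 (tt N23357 (iv1 F317636)) (tt N64044 (iv0 F317637)) (tt N64043 (iv2 F317638)) (tt N22508 (iv3 D73856)) (tt N77441 (iv4 F242686)) (tt N68292 (iv5 F317639)) (tt N62469 (iv6 F181630)) (tt N41284 F322642))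
theorem Q44018 : ∀ i, i < 44018 → P i := stepQ 44017 Q44017 (allL N44017 (tt N37550 (iv1 F317618)) (tt N42594 (iv0 F317619)) (tt N42593 (iv2 F322659)) (tt N22511 (iv3 D73861)) (tt N52546 (iv4 F319353)) (tt N69668 (iv5 F317621)) (tt N41712 F110671) (tt N42592 F321621))
theorem Q44019 : ∀ i, i < 44019 → P i := stepQ 44018 Q44018 (allL N44018 (tt N63764 (iv1 F189384)) (tt N22512 (iv0 D73863)) (tt N63763 (iv2 F343010)) (tt N77633 D155403) (tt N51287 (iv4 F343009)) (tt N69681 (iv5 F343017)) (tt N73361 (iv6 F343012)) (tt N63762 (iv7 F343014)))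
theorem Q44020 : ∀ i, i < 44020 → P i := stepQ 44019 Q44019 (allL N44019 (tt N22512 (iv1 D73864)) (tt N63764 F189386) (tt N63762 (iv2 F343013)) (tt N73367 (iv3 F346089)) (tt N51298 (iv4 F317611)) (tt N69682 (iv5 F343016)) (tt N46617 F339806) (tt N63763 (iv7 F343011)))
theorem Q44021 : ∀ i, i < 44021 → P i := stepQ 44020 Q44020 (allL N44020 (tt N63763 (iv1 F189385)) (tt N63762 F189381) (tt N22512 (iv2 D73865)) (tt N42642 (iv3 F317591)) (tt N56299 (iv4 F317598)) (tt N36458 (iv5 F317610)) (tt N33834 F315374) (tt N63764 (iv7 F189383)))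
theorem Q44022 : ∀ i, i < 44022 → P i := stepQ 44021 Q44021 (allL N44021 (tt N47163 F303171) (tt N47168 F303172) (tt N47166 F305079) (tt N22514 (iv3 D73909)) (tt N67043 (iv4 F206407)) (tt N66847 (iv5 F309748)) (tt N65305 (iv6 F200728)) (tt N47165 F305080))
theorem Q44023 : ∀ i, i < 44023 → P i := stepQ 44022 Q44022 (allL N44022 (tt N61580 (iv1 F335510)) (tt N76549 F239288) (tt N63738 (iv2 F189137)) (tt N66847 (iv3 F309747)) (tt N43187 (iv4 F309749)) (tt N22514 (iv5 D73910)) (tt N77634 D155443) (tt N43183 F307738))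
theorem Q44024 : ∀ i, i < 44024 → P i := stepQ 44023 Q44023 (allL N44023 (tt N63745 (iv1 F189182)) (tt N63744 F189181) (tt N22518 F110713) (tt N63692 (iv3 F305110)) (tt N77635 D155448) (tt N22515 (iv5 D73919)) (tt N76633 (iv6 F334450)) (tt N63739 (iv7 F189143)))
theorem Q44025 : ∀ i, i < 44025 → P i := stepQ 44024 Q44024 (allL N44024 (tt N63753 (iv1 F189202)) (tt N35133 F331647) (tt N22521 F110716) (tt N77636 D155453) (tt N22516 (iv4 D73921)) (tt N77637 D155454) (tt N75118 (iv6 F230295)) (tt N63741 (iv7 F189150)))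
theorem Q44026 : ∀ i, i < 44026 → P i := stepQ 44025 Q44025 (allL N44025 (tt N24498 F184600) (tt N24497 F184601) (tt N24500 F184602) (tt N22517 (iv3 D73933)) (tt N26146 F184603) (tt N77638 D155458) (tt N24463 F184604) (tt N22965 F184605))
theorem Q44027 : ∀ i, i < 44027 → P i := stepQ 44026 Q44026 (allL N44026 (tt N29808 F162995) (tt N43786 (iv0 F110727)) (tt N49040 F310867) (tt N29811 (iv3 F110728)) (tt N22517 (iv4 D73934)) (tt N75646 (iv5 F233284)) (tt N35477 F184606) (tt N33843 (iv7 F184628)))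
theorem Q44028 : ∀ i, i < 44028 → P i := stepQ 44027 Q44027 (allL N44027 (tt N75661 (iv1 F233315)) (tt N76622 (iv0 F303497)) (tt N63743 (iv2 F189179)) (tt N77638 (iv3 F244450)) (tt N61002 (iv4 F348528)) (tt N22517 (iv5 D73935)) (tt N74827 (iv6 F348638)) (tt N60999 (iv7 F298222)))
theorem Q44029 : ∀ i, i < 44029 → P i := stepQ 44028 Q44028 (allL N44028 (tt N63739 (iv1 F189146)) (tt N22518 (iv0 D73942)) (tt N63745 F233311) (tt N77639 D155465) (tt N61108 (iv4 F356297)) (tt N77640 D155467) (tt N61106 (iv6 F352135)) (tt N63744 F233309))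
theorem Q44030 : ∀ i, i < 44030 → P i := stepQ 44029 Q44029 (allL N44029 (tt N22518 (iv1 D73943)) (tt N63739 F189144) (tt N63744 (iv2 F233308)) (tt N77641 D155469) (tt N77642 D155470) (tt N43329 F189145) (tt N77643 D155471) (tt N63745 (iv7 F233310)))
theorem Q44031 : ∀ i, i < 44031 → P i := stepQ 44030 Q44030 (allL N44030 (tt N77644 D155472) (tt N77645 D155473) (tt N77635 (iv2 F244421)) (tt N72743 (iv3 F363834)) (tt N22518 (iv4 D73944)) (tt N77646 D155475) (tt N64032 (iv6 F334452)) (tt N63746 (iv7 F189183)))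
theorem Q44032 : ∀ i, i < 44032 → P i := stepQ 44031 Q44031 (allL N44031 (tt N69426 (iv1 F334447)) (tt N46001 (iv0 F334448)) (tt N76633 (iv2 F334449)) (tt N64063 (iv3 F303107)) (tt N64032 (iv4 F334451)) (tt N64062 (iv5 F303104)) (tt N22518 (iv6 D73945)) (tt N76634 (iv7 F334453)))
theorem Q44033 : ∀ i, i < 44033 → P i := stepQ 44032 Q44032 (allL N44032 (tt N77647 D155488) (tt N77648 D155489) (tt N63752 (iv2 F189198)) (tt N67832 (iv3 F361424)) (tt N22519 (iv4 D73952)) (tt N77649 D155491) (tt N75051 (iv6 F230192)) (tt N63751 (iv7 F189189)))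
theorem Q44034 : ∀ i, i < 44034 → P i := stepQ 44033 Q44033 (allL N44033 (tt N42307 (iv1 F131180)) (tt N33791 F131179) (tt N42314 (iv2 F188608)) (tt N44439 F311403) (tt N77650 D155492) (tt N22519 (iv5 D73953)) (tt N43339 (iv6 F131185)) (tt N42313 (iv7 F188615)))
theorem Q44035 : ∀ i, i < 44035 → P i := stepQ 44034 Q44034 (allL N44034 (tt N77648 (iv1 F244494)) (tt N77647 F244493) (tt N63751 (iv2 F189188)) (tt N77651 D155493) (tt N22520 (iv4 D73957)) (tt N77652 D155494) (tt N77653 D155495) (tt N63752 (iv7 F189200)))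
theorem Q44036 : ∀ i, i < 44036 → P i := stepQ 44035 Q44035 (allL N44035 (tt N62471 (iv1 F316211)) (tt N48007 (iv0 F131038)) (tt N62514 (iv2 F319167)) (tt N77417 (iv3 F242593)) (tt N77653 (iv4 F244500)) (tt N43346 F131175) (tt N22520 (iv6 D73959)) (tt N62500 (iv7 F316208)))
theorem Q44037 : ∀ i, i < 44037 → P i := stepQ 44036 Q44036 (allL N44036 (tt N63741 (iv1 F189152)) (tt N22521 (iv0 D73960)) (tt N63753 (iv2 F244507)) (tt N31590 (iv3 F331640)) (tt N77654 D155498) (tt N69718 (iv5 F331644)) (tt N31586 F331637) (tt N35133 (iv7 F331646)))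
theorem Q44038 : ∀ i, i < 44038 → P i := stepQ 44037 Q44037 (allL N44037 (tt N22521 (iv1 D73961)) (tt N63741 F189151) (tt N35133 F331649) (tt N77655 D155500) (tt N77656 D155501) (tt N77657 D155502) (tt N77658 D155503) (tt N63753 (iv7 F244508)))
theorem Q44039 : ∀ i, i < 44039 → P i := stepQ 44038 Q44038 (allL N44038 (tt N77659 D155504) (tt N73856 (iv0 F318752)) (tt N77660 D155506) (tt N22521 (iv3 D73962)) (tt N22527 F110737) (tt N77661 D155507) (tt N77662 D155508) (tt N42643 F317169))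
theorem Q44040 : ∀ i, i < 44040 → P i := stepQ 44039 Q44039 (allL N44039 (tt N75576 F231932) (tt N75647 (iv0 F233287)) (tt N77637 (iv2 F244438)) (tt N77661 (iv3 F244525)) (tt N77663 D155509) (tt N22521 (iv5 D73963)) (tt N77664 D155510) (tt N63754 (iv7 F189205)))
theorem Q44041 : ∀ i, i < 44041 → P i := stepQ 44040 Q44040 (allL N44040 (tt N64773 (iv1 F354939)) (tt N62758 (iv0 F184663)) (tt N75118 (iv2 F230294)) (tt N77662 (iv3 F244526)) (tt N22522 F110738) (tt N77665 D155512) (tt N22521 (iv6 D73964)) (tt N74991 (iv7 F230020)))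
theorem Q44042 : ∀ i, i < 44042 → P i := stepQ 44041 Q44041 (allL N44041 (tt N77622 (iv1 F310778)) (tt N77666 D155514) (tt N75119 (iv2 F230296)) (tt N22529 F110739) (tt N77595 (iv4 F305947)) (tt N22522 (iv5 D73967)) (tt N22525 F110740) (tt N69621 (iv7 F215128)))
theorem Q44043 : ∀ i, i < 44043 → P i := stepQ 44042 Q44042 (allL N44042 (tt N63655 F188627) (tt N63653 F188630) (tt N57421 (iv2 F166625)) (tt N22523 (iv3 D73969)) (tt N25435 F300070) (tt N22827 F131192) (tt N42257 F131193) (tt N41034 F305205))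
theorem Q44044 : ∀ i, i < 44044 → P i := stepQ 44043 Q44043 (allL N44043 (tt N25125 F199911) (tt N25134 (iv0 F199934)) (tt N25132 F199944) (tt N42257 (iv3 F131190)) (tt N46982 (iv4 F305941)) (tt N42256 F131189) (tt N22523 (iv6 D73972)) (tt N25131 F199945))
theorem Q44045 : ∀ i, i < 44045 → P i := stepQ 44044 Q44044 (allL N44044 (tt N63717 (iv1 F304070)) (tt N22525 (iv0 D73978)) (tt N33945 (iv2 F131208)) (tt N44437 F307193) (tt N45640 (iv4 F305944)) (tt N33931 F131211) (tt N44480 (iv6 F309103)) (tt N33944 (iv7 F131209)))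
theorem Q44046 : ∀ i, i < 44046 → P i := stepQ 44045 Q44045 (allL N44045 (tt N22525 (iv1 D73979)) (tt N63717 (iv0 F304069)) (tt N33944 F131206) (tt N43420 (iv3 F190826)) (tt N45641 (iv4 F305946)) (tt N33930 (iv5 F131204)) (tt N63568 (iv6 F188128)) (tt N33945 F131207))
theorem Q44047 : ∀ i, i < 44047 → P i := stepQ 44046 Q44046 (allL N44046 (tt N42642 F319822) (tt N22527 (iv0 D74000)) (tt N42645 (iv2 F321720)) (tt N24191 (iv3 F321722)) (tt N77667 D155541) (tt N24190 (iv5 F321724)) (tt N73355 (iv6 F332443)) (tt N42644 (iv7 F321718)))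
theorem Q44048 : ∀ i, i < 44048 → P i := stepQ 44047 Q44047 (allL N44047 (tt N22527 (iv1 D74001)) (tt N42642 F319821) (tt N42644 (iv2 F321717)) (tt N77668 D155545) (tt N77669 D155546) (tt N42890 (iv5 F321719)) (tt N71979 (iv6 F350257)) (tt N42645 (iv7 F321721)))
theorem Q44049 : ∀ i, i < 44049 → P i := stepQ 44048 Q44048 (allL N44048 (tt N42645 F319817) (tt N42644 F319818) (tt N22527 (iv2 D74002)) (tt N63764 (iv3 F189382)) (tt N77660 (iv4 F244524)) (tt N69630 F319819) (tt N73366 (iv6 F332428)) (tt N42642 F319820))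
theorem Q44050 : ∀ i, i < 44050 → P i := stepQ 44049 Q44049 (allL N44049 (tt N73367 F336877) (tt N40273 (iv0 F336881)) (tt N73366 (iv2 F332427)) (tt N22528 F110753) (tt N77662 (iv4 F244527)) (tt N69652 (iv5 F318758)) (tt N22527 (iv6 D74004)) (tt N33832 F316515))
theorem Q44051 : ∀ i, i < 44051 → P i := stepQ 44050 Q44050 (allL N44050 (tt N22529 (iv1 D74007)) (tt N23936 (iv0 F304086)) (tt N23935 F306180) (tt N77670 D155564) (tt N47302 (iv4 F308916)) (tt N63012 (iv5 F184351)) (tt N37476 F184355) (tt N23934 F306182))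
theorem Q44052 : ∀ i, i < 44052 → P i := stepQ 44051 Q44051 (allL N44051 (tt N29586 (iv1 F110759)) (tt N22530 (iv0 D74015)) (tt N32778 (iv2 F110758)) (tt N32829 F110760) (tt N76702 (iv4 F328911)) (tt N45106 (iv5 F114555)) (tt N50931 (iv6 F143086)) (tt N63766 (iv7 F189433)))
theorem Q44053 : ∀ i, i < 44053 → P i := stepQ 44052 Q44052 (allL N44052 (tt N50931 (iv1 F329553)) (tt N50983 (iv0 F329843)) (tt N50827 (iv2 F329558)) (tt N51024 (iv3 F365409)) (tt N22530 (iv4 D74016)) (tt N51326 (iv5 F328907)) (tt N77671 D155577) (tt N51014 (iv7 F329556)))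
theorem Q44054 : ∀ i, i < 44054 → P i := stepQ 44053 Q44053 (allL N44053 (tt N77672 D155578) (tt N77673 D155579) (tt N76284 (iv2 F238075)) (tt N32961 F110761) (tt N77671 (iv4 F244596)) (tt N56423 (iv5 F163733)) (tt N22530 (iv6 D74017)) (tt N77674 D155580))
theorem Q44055 : ∀ i, i < 44055 → P i := stepQ 44054 Q44054 (allL N44054 (tt N40287 F323741) (tt N40289 F323742) (tt N45268 (iv2 F114984)) (tt N77675 D155581) (tt N22531 (iv4 D74018)) (tt N50982 (iv5 F331248)) (tt N40255 F324611) (tt N56107 (iv7 F162679)))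
theorem Q44056 : ∀ i, i < 44056 → P i := stepQ 44055 Q44055 (allL N44055 (tt N40289 F323739) (tt N40287 F323740) (tt N56107 F162678) (tt N52719 (iv3 F349200)) (tt N22532 (iv4 D74020)) (tt N50930 (iv5 F349194)) (tt N77676 D155589) (tt N45268 (iv7 F114985)))
theorem Q44057 : ∀ i, i < 44057 → P i := stepQ 44056 Q44056 (allL N44056 (tt N25159 F232947) (tt N62687 (iv0 F352795)) (tt N63357 (iv2 F186940)) (tt N58620 (iv3 F313708)) (tt N77676 (iv4 F244608)) (tt N58620 (iv5 F313709)) (tt N22532 (iv6 D74021)) (tt N72695 (iv7 F321950)))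
theorem Q44058 : ∀ i, i < 44058 → P i := stepQ 44057 Q44057 (allL N44057 (tt N27006 (iv1 F328901)) (tt N42917 F110767) (tt N49813 (iv2 F328862)) (tt N48939 (iv3 F328898)) (tt N51015 (iv4 F328903)) (tt N22533 (iv5 D74024)) (tt N49824 (iv6 F328904)) (tt N49814 (iv7 F328868)))
theorem Q44059 : ∀ i, i < 44059 → P i := stepQ 44058 Q44058 (allL N44058 (tt N77677 D155603) (tt N77678 D155604) (tt N72594 (iv2 F323768)) (tt N48940 (iv3 F328899)) (tt N22534 F110768) (tt N77679 D155605) (tt N22533 (iv6 D74025)) (tt N77680 D155606))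
theorem Q44060 : ∀ i, i < 44060 → P i := stepQ 44059 Q44059 (allL N44059 (tt N76287 (iv1 F238089)) (tt N22534 (iv0 D74026)) (tt N76285 (iv2 F247795)) (tt N77021 (iv3 F360994)) (tt N77681 D155609) (tt N76018 (iv5 F311957)) (tt N65294 F233207) (tt N76286 (iv7 F247793)))
theorem Q44061 : ∀ i, i < 44061 → P i := stepQ 44060 Q44060 (allL N44060 (tt N22534 (iv1 D74027)) (tt N76287 F238088) (tt N76286 (iv2 F247792)) (tt N63372 (iv3 F247831)) (tt N77682 D155613) (tt N48463 F312014) (tt N74320 (iv6 F333247)) (tt N76285 (iv7 F247798)))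
theorem Q44062 : ∀ i, i < 44062 → P i := stepQ 44061 Q44061 (allL N44061 (tt N76286 (iv1 F238085)) (tt N76285 F238087) (tt N76287 (iv2 F238086)) (tt N22541 F110769) (tt N77680 (iv4 F244637)) (tt N45229 F305351) (tt N63770 (iv6 F189446)) (tt N22534 (iv7 D74028)))
theorem Q44063 : ∀ i, i < 44063 → P i := stepQ 44062 Q44062 (allL N44062 (tt N77683 D155617) (tt N71367 (iv0 F349895)) (tt N77684 D155619) (tt N22536 (iv3 D74031)) (tt N76974 (iv4 F241258)) (tt N42883 F110778) (tt N45622 F325121) (tt N42885 F110779))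
theorem Q44064 : ∀ i, i < 44064 → P i := stepQ 44063 Q44063 (allL N44063 (tt N48942 (iv1 F329035)) (tt N22537 (iv0 D74033)) (tt N51201 (iv2 F329038)) (tt N35998 F324660) (tt N25820 (iv4 F329039)) (tt N52642 (iv5 F329041)) (tt N35996 (iv6 F325776)) (tt N25819 (iv7 F329033)))
theorem Q44065 : ∀ i, i < 44065 → P i := stepQ 44064 Q44064 (allL N44064 (tt N51201 (iv1 F329030)) (tt N25819 (iv0 F329031)) (tt N22537 (iv2 D74035)) (tt N55030 (iv3 F329847)) (tt N29340 (iv4 F328897)) (tt N44093 (iv5 F110832)) (tt N75420 (iv6 F336609)) (tt N48942 (iv7 F329037)))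
theorem Q44066 : ∀ i, i < 44066 → P i := stepQ 44065 Q44065 (allL N44065 (tt N75422 (iv1 F333977)) (tt N75303 (iv0 F333974)) (tt N75420 (iv2 F336605)) (tt N22538 F110784) (tt N48940 (iv4 F328900)) (tt N34636 (iv5 F313860)) (tt N22537 (iv6 D74036)) (tt N45712 (iv7 F311556)))
theorem Q44067 : ∀ i, i < 44067 → P i := stepQ 44066 Q44066 (allL N44066 (tt N54098 F329892) (tt N52642 F329893) (tt N22542 (iv2 D74050)) (tt N48942 F329370) (tt N27296 (iv4 F329937)) (tt N44079 (iv5 F110816)) (tt N77685 D155658) (tt N55030 F329894))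
theorem Q44068 : ∀ i, i < 44068 → P i := stepQ 44067 Q44067 (allL N44067 (tt N54985 (iv1 F346796)) (tt N54987 (iv0 F343380)) (tt N77685 (iv2 F244681)) (tt N22543 F110790) (tt N51807 (iv4 F329941)) (tt N68041 (iv5 F320267)) (tt N22542 (iv6 D74051)) (tt N77686 D155662))
theorem Q44069 : ∀ i, i < 44069 → P i := stepQ 44068 Q44068 (allL N44068 (tt N45714 F313998) (tt N22543 (iv0 D74052)) (tt N42874 (iv2 F113953)) (tt N77687 D155663) (tt N34392 F113954) (tt N46142 F316473) (tt N68043 (iv6 F318735)) (tt N42877 F113955))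
theorem Q44070 : ∀ i, i < 44070 → P i := stepQ 44069 Q44069 (allL N44069 (tt N22543 (iv1 D74053)) (tt N45714 F313997) (tt N42877 F113923) (tt N24839 (iv3 F313973)) (tt N34393 F113924) (tt N24838 F311547) (tt N25141 (iv6 F113922)) (tt N42874 (iv7 F113925)))
theorem Q44071 : ∀ i, i < 44071 → P i := stepQ 44070 Q44070 (allL N44070 (tt N42877 (iv1 F110806)) (tt N42874 (iv0 F110792)) (tt N45714 (iv2 F311557)) (tt N77686 (iv3 F244683)) (tt N22546 F110791) (tt N38094 F318097) (tt N24991 F311435) (tt N22543 (iv7 D74055)))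
theorem Q44072 : ∀ i, i < 44072 → P i := stepQ 44071 Q44071 (allL N44071 (tt N65299 (iv1 F200688)) (tt N63070 (iv0 F184905)) (tt N63772 (iv2 F189476)) (tt N46176 F307104) (tt N70557 (iv4 F322447)) (tt N37481 F110808) (tt N22544 (iv6 D74058)) (tt N25137 F110807))
theorem Q44073 : ∀ i, i < 44073 → P i := stepQ 44072 Q44072 (allL N44072 (tt N42916 (iv1 F110811)) (tt N22547 (iv0 D74059)) (tt N33912 (iv2 F110810)) (tt N27007 (iv3 F329549)) (tt N29778 F110809) (tt N27006 F329249) (tt N77688 D155673) (tt N42908 F110812))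
theorem Q44074 : ∀ i, i < 44074 → P i := stepQ 44073 Q44073 (allL N44073 (tt N77689 D155681) (tt N77690 D155682) (tt N76289 (iv2 F238091)) (tt N55345 (iv3 F329673)) (tt N22548 F110814) (tt N77691 D155683) (tt N22547 (iv6 D74062)) (tt N77692 D155684))
theorem Q44075 : ∀ i, i < 44075 → P i := stepQ 44074 Q44074 (allL N44074 (tt N76292 (iv1 F238097)) (tt N22548 (iv0 D74063)) (tt N76290 (iv2 F252475)) (tt N77693 D155686) (tt N77694 D155687) (tt N77695 D155688) (tt N77696 D155689) (tt N76291 (iv7 F252478)))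
theorem Q44076 : ∀ i, i < 44076 → P i := stepQ 44075 Q44075 (allL N44075 (tt N22548 (iv1 D74064)) (tt N76292 F238096) (tt N76291 (iv2 F252477)) (tt N76221 (iv3 F342556)) (tt N77697 D155692) (tt N73953 (iv5 F338980)) (tt N73954 (iv6 F338991)) (tt N76290 (iv7 F252476)))
theorem Q44077 : ∀ i, i < 44077 → P i := stepQ 44076 Q44076 (allL N44076 (tt N76291 (iv1 F238093)) (tt N76290 F238095) (tt N76292 (iv2 F238094)) (tt N22553 F110815) (tt N77692 (iv4 F244714)) (tt N68406 (iv5 F210129)) (tt N63782 (iv6 F189589)) (tt N22548 (iv7 D74065)))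
theorem Q44078 : ∀ i, i < 44078 → P i := stepQ 44077 Q44077 (allL N44077 (tt N55343 F329794) (tt N22549 (iv0 D74066)) (tt N51215 (iv2 F329896)) (tt N57385 (iv3 F321640)) (tt N27058 (iv4 F329898)) (tt N29159 (iv5 F329899)) (tt N77442 (iv6 F336310)) (tt N51216 (iv7 F329901)))
theorem Q44079 : ∀ i, i < 44079 → P i := stepQ 44078 Q44078 (allL N44078 (tt N22549 (iv1 D74067)) (tt N55343 F329795) (tt N51216 (iv2 F329900)) (tt N77698 D155701) (tt N27057 (iv4 F329902)) (tt N29165 (iv5 F329903)) (tt N57379 (iv6 F336297)) (tt N51215 (iv7 F329897)))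
theorem Q44080 : ∀ i, i < 44080 → P i := stepQ 44079 Q44079 (allL N44079 (tt N51215 F329790) (tt N51216 F329791) (tt N22549 (iv2 D74068)) (tt N55005 (iv3 F328602)) (tt N25766 F329792) (tt N44066 F110816) (tt N77699 D155705) (tt N55343 F329793))
theorem Q44081 : ∀ i, i < 44081 → P i := stepQ 44080 Q44080 (allL N44080 (tt N77700 D155706) (tt N77701 D155707) (tt N77699 (iv2 F244721)) (tt N22550 F110817) (tt N55345 (iv4 F329674)) (tt N77702 D155708) (tt N22549 (iv6 D74069)) (tt N77703 D155709))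
theorem Q44082 : ∀ i, i < 44082 → P i := stepQ 44081 Q44081 (allL N44081 (tt N47309 (iv1 F318534)) (tt N22550 (iv0 D74070)) (tt N47310 (iv2 F317981)) (tt N77704 D155710) (tt N36650 F207953) (tt N46386 F316258) (tt N45706 F311368) (tt N46385 (iv7 F318535)))
theorem Q44083 : ∀ i, i < 44083 → P i := stepQ 44082 Q44082 (allL N44082 (tt N69343 (iv1 F321978)) (tt N37232 (iv0 F320871)) (tt N63778 (iv2 F189512)) (tt N77702 (iv3 F244722)) (tt N37624 (iv4 F321977)) (tt N22550 (iv5 D74072)) (tt N37229 F320269) (tt N69341 F320270))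
theorem Q44084 : ∀ i, i < 44084 → P i := stepQ 44083 Q44083 (allL N44083 (tt N46385 F320127) (tt N47310 F320128) (tt N47309 F320660) (tt N77703 (iv3 F244724)) (tt N22553 F110819) (tt N69341 F320129) (tt N48328 (iv6 F313864)) (tt N22550 (iv7 D74073)))
theorem Q44085 : ∀ i, i < 44085 → P i := stepQ 44084 Q44084 (allL N44084 (tt N63677 F239478) (tt N44507 (iv0 F208109)) (tt N63675 F212308) (tt N22551 (iv3 D74075)) (tt N77705 D155719) (tt N77706 D155720) (tt N33448 F318411) (tt N63676 (iv7 F212311)))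
theorem Q44086 : ∀ i, i < 44086 → P i := stepQ 44085 Q44085 (allL N44085 (tt N63791 F208512) (tt N22562 F208513) (tt N63779 F189578) (tt N77707 D155721) (tt N22551 (iv4 D74076)) (tt N45590 (iv5 F318086)) (tt N45704 F313833) (tt N45589 (iv7 F318090)))
theorem Q44087 : ∀ i, i < 44087 → P i := stepQ 44086 Q44086 (allL N44086 (tt N69421 (iv1 F214311)) (tt N37391 (iv0 F110821)) (tt N63780 (iv2 F189576)) (tt N77706 (iv3 F244731)) (tt N69343 (iv4 F213880)) (tt N22551 (iv5 D74077)) (tt N69577 F214929) (tt N43166 (iv7 F189577)))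
theorem Q44088 : ∀ i, i < 44088 → P i := stepQ 44087 Q44087 (allL N44087 (tt N22562 F208510) (tt N63791 F208511) (tt N45589 (iv2 F318089)) (tt N34181 (iv3 F318955)) (tt N22552 (iv4 D74080)) (tt N24118 (iv5 F318956)) (tt N24119 (iv6 F318957)) (tt N63779 F189574))
theorem Q44089 : ∀ i, i < 44089 → P i := stepQ 44088 Q44088 (allL N44088 (tt N63192 F186070) (tt N22554 (iv0 D74083)) (tt N42746 (iv2 F110826)) (tt N60237 (iv3 F366636)) (tt N42742 F110824) (tt N52188 (iv5 F329975)) (tt N60234 (iv6 F316040)) (tt N63774 (iv7 F189495)))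
theorem Q44090 : ∀ i, i < 44090 → P i := stepQ 44089 Q44089 (allL N44089 (tt N22554 (iv1 D74084)) (tt N63192 (iv0 F186069)) (tt N63774 F189493) (tt N77708 D155727) (tt N33891 (iv4 F110828)) (tt N52189 (iv5 F329976)) (tt N77709 D155728) (tt N42746 F110827))
theorem Q44091 : ∀ i, i < 44091 → P i := stepQ 44090 Q44090 (allL N44090 (tt N29115 (iv1 F327747)) (tt N29116 (iv0 F327748)) (tt N29187 (iv2 F327749)) (tt N22554 (iv3 D74085)) (tt N22556 F110829) (tt N25778 F327289) (tt N77710 D155733) (tt N29186 (iv7 F327751)))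
theorem Q44092 : ∀ i, i < 44092 → P i := stepQ 44091 Q44091 (allL N44091 (tt N77711 D155734) (tt N77712 D155735) (tt N76246 (iv2 F237985)) (tt N25778 (iv3 F326522)) (tt N29317 F325725) (tt N22554 (iv5 D74086)) (tt N77713 D155737) (tt N52478 (iv7 F326527)))
theorem Q44093 : ∀ i, i < 44093 → P i := stepQ 44092 Q44092 (allL N44092 (tt N77714 D155738) (tt N58446 (iv0 F347149)) (tt N40816 F322314) (tt N77710 (iv3 F244741)) (tt N22555 F110830) (tt N58425 (iv5 F347158)) (tt N22554 (iv6 D74087)) (tt N40817 F322315))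
theorem Q44094 : ∀ i, i < 44094 → P i := stepQ 44093 Q44093 (allL N44093 (tt N50400 (iv1 F328598)) (tt N54923 (iv0 F328599)) (tt N22556 (iv2 D74092)) (tt N55343 (iv3 F329732)) (tt N29187 F328219) (tt N44064 F110832) (tt N77715 D155755) (tt N55005 (iv7 F328603)))
theorem Q44095 : ∀ i, i < 44095 → P i := stepQ 44094 Q44094 (allL N44094 (tt N71044 (iv1 F347148)) (tt N77716 D155757) (tt N77715 (iv2 F244764)) (tt N22557 F110833) (tt N77710 (iv4 F244742)) (tt N48326 F318576) (tt N22556 (iv6 D74093)) (tt N77717 D155759))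
theorem Q44096 : ∀ i, i < 44096 → P i := stepQ 44095 Q44095 (allL N44095 (tt N48328 F316314) (tt N22557 (iv0 D74094)) (tt N63784 (iv2 F189609)) (tt N60631 (iv3 F344751)) (tt N36655 F189610) (tt N45390 (iv5 F318536)) (tt N42870 (iv6 F189615)) (tt N63785 F189611))
theorem Q44097 : ∀ i, i < 44097 → P i := stepQ 44096 Q44096 (allL N44096 (tt N63785 (iv1 F189598)) (tt N63784 F189604) (tt N48328 F316257) (tt N77717 (iv3 F244767)) (tt N22560 F110835) (tt N24062 (iv5 F316264)) (tt N47309 F320662) (tt N22557 (iv7 D74097)))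
theorem Q44098 : ∀ i, i < 44098 → P i := stepQ 44097 Q44097 (allL N44097 (tt N58805 F324184) (tt N22564 F189619) (tt N31191 F324185) (tt N77718 D155768) (tt N22558 (iv4 D74100)) (tt N31188 F324186) (tt N45595 F325778) (tt N36150 F321547))
theorem Q44099 : ∀ i, i < 44099 → P i := stepQ 44098 Q44098 (allL N44098 (tt N44894 F113848) (tt N25146 (iv0 F112649)) (tt N44892 (iv2 F185092)) (tt N77509 (iv3 F243413)) (tt N32011 (iv4 F323154)) (tt N22558 (iv5 D74101)) (tt N69135 (iv6 F311298)) (tt N44893 F185088))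
theorem Q44100 : ∀ i, i < 44100 → P i := stepQ 44099 Q44099 (allL N44099 (tt N63078 F184929) (tt N40505 (iv0 F311267)) (tt N63460 (iv2 F187566)) (tt N43537 (iv3 F190291)) (tt N45595 F325777) (tt N42728 F110837) (tt N22558 (iv6 D74102)) (tt N63459 (iv7 F187564)))
theorem Q44101 : ∀ i, i < 44101 → P i := stepQ 44100 Q44100 (allL N44100 (tt N25146 F110839) (tt N44894 F113847) (tt N44893 F185093) (tt N33424 F319162) (tt N58885 (iv4 F323149)) (tt N22559 (iv5 D74106)) (tt N41853 (iv6 F110841)) (tt N44892 F185091))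
theorem Q44102 : ∀ i, i < 44102 → P i := stepQ 44101 Q44101 (allL N44101 (tt N63793 (iv1 F189646)) (tt N22561 (iv0 D74107)) (tt N57398 (iv2 F325771)) (tt N51208 (iv3 F336637)) (tt N77719 D155779) (tt N44108 (iv5 F324691)) (tt N77720 D155781) (tt N63792 (iv7 F338750)))
theorem Q44103 : ∀ i, i < 44103 → P i := stepQ 44102 Q44102 (allL N44102 (tt N22561 (iv1 D74108)) (tt N63793 F189648) (tt N63792 (iv2 F338746)) (tt N77721 D155783) (tt N77722 D155784) (tt N44109 (iv5 F324692)) (tt N65335 (iv6 F351009)) (tt N57398 (iv7 F325772)))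
theorem Q44104 : ∀ i, i < 44104 → P i := stepQ 44103 Q44103 (allL N44103 (tt N57398 (iv1 F325006)) (tt N63792 F189643) (tt N22561 (iv2 D74109)) (tt N63788 (iv3 F189629)) (tt N77723 D155787) (tt N36058 F324658) (tt N77724 D155788) (tt N63793 (iv7 F189645)))
theorem Q44105 : ∀ i, i < 44105 → P i := stepQ 44104 Q44104 (allL N44104 (tt N77725 D155789) (tt N77726 D155790) (tt N77723 (iv2 F244794)) (tt N44136 (iv3 F110884)) (tt N22561 (iv4 D74110)) (tt N77727 D155791) (tt N77728 D155792) (tt N63794 (iv7 F189650)))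
theorem Q44106 : ∀ i, i < 44106 → P i := stepQ 44105 Q44105 (allL N44105 (tt N77729 D155793) (tt N46928 (iv0 F359063)) (tt N77724 (iv2 F244795)) (tt N22562 F110843) (tt N77728 (iv4 F244798)) (tt N77730 D155795) (tt N22561 (iv6 D74111)) (tt N77731 D155796))
theorem Q44107 : ∀ i, i < 44107 → P i := stepQ 44106 Q44106 (allL N44106 (tt N70114 F318540) (tt N38917 (iv0 F320676)) (tt N63790 (iv2 F189636)) (tt N77730 (iv3 F244799)) (tt N38162 (iv4 F320675)) (tt N22562 (iv5 D74114)) (tt N37028 F318541) (tt N70112 (iv7 F318954)))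
theorem Q44108 : ∀ i, i < 44108 → P i := stepQ 44107 Q44107 (allL N44107 (tt N45589 (iv1 F318088)) (tt N63779 (iv0 F207455)) (tt N63791 (iv2 F189637)) (tt N77731 (iv3 F244801)) (tt N44140 (iv4 F110894)) (tt N70112 (iv5 F318953)) (tt N58805 (iv6 F323142)) (tt N22562 (iv7 D74115)))
theorem Q44109 : ∀ i, i < 44109 → P i := stepQ 44108 Q44108 (allL N44108 (tt N63788 (iv1 F189631)) (tt N22563 (iv0 D74116)) (tt N30486 (iv2 F323323)) (tt N29188 F336636) (tt N31028 (iv4 F323325)) (tt N44101 F324691) (tt N30437 (iv6 F323326)) (tt N63787 (iv7 F336644)))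
theorem Q44110 : ∀ i, i < 44110 → P i := stepQ 44109 Q44109 (allL N44109 (tt N22563 (iv1 D74117)) (tt N63788 F189633) (tt N63787 (iv2 F336641)) (tt N77732 D155807) (tt N57788 F321636) (tt N44102 F324692) (tt N71156 (iv6 F323327)) (tt N30486 (iv7 F323324)))
theorem Q44111 : ∀ i, i < 44111 → P i := stepQ 44110 Q44110 (allL N44110 (tt N30486 F321637) (tt N63787 F189628) (tt N22563 (iv2 D74118)) (tt N63793 (iv3 F189644)) (tt N30479 F321638) (tt N44132 (iv5 F110867)) (tt N36102 F321639) (tt N63788 (iv7 F189630)))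
theorem Q44112 : ∀ i, i < 44112 → P i := stepQ 44111 Q44111 (allL N44111 (tt N77732 (iv1 F365599)) (tt N77733 D155827) (tt N55049 (iv2 F349918)) (tt N22565 (iv3 D74125)) (tt N77734 D155829) (tt N55048 (iv5 F349917)) (tt N77735 D155831) (tt N75682 (iv7 F353025)))
theorem Q44113 : ∀ i, i < 44113 → P i := stepQ 44112 Q44112 (allL N44112 (tt N77736 D155833) (tt N77737 D155834) (tt N53654 (iv2 F329943)) (tt N77738 D155835) (tt N22565 (iv4 D74126)) (tt N77739 D155836) (tt N77740 D155837) (tt N75683 (iv7 F353028)))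
theorem Q44114 : ∀ i, i < 44114 → P i := stepQ 44113 Q44113 (allL N44113 (tt N77741 D155839) (tt N42887 F349914) (tt N54928 F349915) (tt N55048 (iv3 F349916)) (tt N77742 D155841) (tt N22565 (iv5 D74127)) (tt N77743 D155842) (tt N75684 (iv7 F353030)))
theorem Q44115 : ∀ i, i < 44115 → P i := stepQ 44114 Q44114 (allL N44114 (tt N47974 (iv1 F353042)) (tt N34181 (iv0 F353043)) (tt N47971 F353041) (tt N77735 (iv3 F244826)) (tt N77740 (iv4 F244830)) (tt N77744 D155846) (tt N22565 (iv6 D74128)) (tt N47972 (iv7 F353049)))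
theorem Q44116 : ∀ i, i < 44116 → P i := stepQ 44115 Q44115 (allL N44115 (tt N77737 (iv1 F244829)) (tt N77736 F244833) (tt N75683 (iv2 F353027)) (tt N29212 F329913) (tt N22566 (iv4 D74131)) (tt N77745 D155856) (tt N77746 D155857) (tt N53654 (iv7 F329944)))
theorem Q44117 : ∀ i, i < 44117 → P i := stepQ 44116 Q44116 (allL N44116 (tt N42887 (iv1 F349911)) (tt N77741 F244837) (tt N75684 (iv2 F353029)) (tt N51209 (iv3 F329972)) (tt N77747 D155858) (tt N22566 (iv5 D74132)) (tt N58813 (iv6 F359976)) (tt N54928 (iv7 F349913)))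
theorem Q44118 : ∀ i, i < 44118 → P i := stepQ 44117 Q44117 (allL N44117 (tt N77718 (iv1 F350834)) (tt N65866 (iv0 F354213)) (tt N75685 (iv2 F353031)) (tt N51210 (iv3 F329973)) (tt N77746 (iv4 F244843)) (tt N58762 (iv5 F350824)) (tt N22566 (iv6 D74133)) (tt N77748 D155863))
theorem Q44119 : ∀ i, i < 44119 → P i := stepQ 44118 Q44118 (allL N44118 (tt N34386 (iv1 F110851)) (tt N34385 F110852) (tt N22568 F110848) (tt N42345 F110849) (tt N77749 D155864) (tt N22567 (iv5 D74134)) (tt N77750 D155865) (tt N34387 F110850))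
theorem Q44120 : ∀ i, i < 44120 → P i := stepQ 44119 Q44119 (allL N44119 (tt N34387 (iv1 F110853)) (tt N22568 (iv0 D74135)) (tt N34386 F347889) (tt N77751 D155867) (tt N62047 (iv4 F347895)) (tt N76155 (iv5 F357010)) (tt N31272 F347894) (tt N34385 F347890))
theorem Q44121 : ∀ i, i < 44121 → P i := stepQ 44120 Q44120 (allL N44120 (tt N22568 (iv1 D74136)) (tt N34387 F110854) (tt N34385 (iv2 F347884)) (tt N55003 (iv3 F347885)) (tt N77752 D155873) (tt N76156 (iv5 F357016)) (tt N77753 D155875) (tt N34386 (iv7 F347888)))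
theorem Q44122 : ∀ i, i < 44122 → P i := stepQ 44121 Q44121 (allL N44121 (tt N61978 (iv1 F354574)) (tt N77754 D155877) (tt N77749 (iv2 F244844)) (tt N33752 F110855) (tt N22568 (iv4 D74137)) (tt N77755 D155878) (tt N77756 D155879) (tt N34269 F110856))
theorem Q44123 : ∀ i, i < 44123 → P i := stepQ 44122 Q44122 (allL N44122 (tt N77757 D155880) (tt N77758 D155881) (tt N77750 (iv2 F244849)) (tt N22569 F110857) (tt N77756 (iv4 F244859)) (tt N65350 (iv5 F200970)) (tt N22568 (iv6 D74138)) (tt N48127 (iv7 F130727)))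
theorem Q44124 : ∀ i, i < 44124 → P i := stepQ 44123 Q44123 (allL N44123 (tt N35462 (iv1 F110858)) (tt N22569 (iv0 D74139)) (tt N42340 (iv2 F199973)) (tt N57375 (iv3 F321594)) (tt N36383 F110859) (tt N64232 (iv5 F323517)) (tt N23595 F322793) (tt N42341 (iv7 F199969)))
theorem Q44125 : ∀ i, i < 44125 → P i := stepQ 44124 Q44124 (allL N44124 (tt N22569 (iv1 D74140)) (tt N35462 F110860) (tt N42341 (iv2 F200084)) (tt N77759 D155884) (tt N36384 F110861) (tt N77760 D155885) (tt N66479 (iv6 F321549)) (tt N42340 F199977))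
theorem Q44126 : ∀ i, i < 44126 → P i := stepQ 44125 Q44125 (allL N44125 (tt N66331 (iv1 F366121)) (tt N77761 D155888) (tt N74359 (iv2 F324695)) (tt N22570 (iv3 D74141)) (tt N22572 F110862) (tt N77762 D155890) (tt N77763 D155891) (tt N63124 (iv7 F185726)))
theorem Q44127 : ∀ i, i < 44127 → P i := stepQ 44126 Q44126 (allL N44126 (tt N63175 (iv1 F185824)) (tt N63174 F185823) (tt N63177 (iv2 F185827)) (tt N77762 (iv3 F244882)) (tt N33901 F110863) (tt N22570 (iv5 D74142)) (tt N77764 D155892) (tt N63125 (iv7 F185728)))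
theorem Q44128 : ∀ i, i < 44128 → P i := stepQ 44127 Q44127 (allL N44127 (tt N77765 D155893) (tt N77766 D155894) (tt N63178 (iv2 F185830)) (tt N77763 (iv3 F244883)) (tt N22571 F110864) (tt N77767 D155895) (tt N22570 (iv6 D74143)) (tt N77768 D155896))
theorem Q44129 : ∀ i, i < 44129 → P i := stepQ 44128 Q44128 (allL N44128 (tt N63157 (iv1 F185784)) (tt N22571 (iv0 D74144)) (tt N63179 (iv2 F264355)) (tt N77769 D155898) (tt N77770 D155899) (tt N77771 D155900) (tt N41414 F110865) (tt N63180 (iv7 F264358)))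
theorem Q44130 : ∀ i, i < 44130 → P i := stepQ 44129 Q44129 (allL N44129 (tt N22571 (iv1 D74145)) (tt N63157 F185783) (tt N63180 (iv2 F264357)) (tt N77772 D155902) (tt N77773 D155903) (tt N77774 D155904) (tt N40228 F333635) (tt N63179 (iv7 F264356)))
theorem Q44131 : ∀ i, i < 44131 → P i := stepQ 44130 Q44130 (allL N44130 (tt N63180 (iv1 F185833)) (tt N63179 F185832) (tt N63157 (iv2 F185779)) (tt N22576 F110866) (tt N77768 (iv4 F244886)) (tt N43987 F305280) (tt N63121 (iv6 F185714)) (tt N22571 (iv7 D74146)))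
theorem Q44132 : ∀ i, i < 44132 → P i := stepQ 44131 Q44131 (allL N44131 (tt N22572 (iv1 D74148)) (tt N63800 F189702) (tt N48946 F331310) (tt N77775 D155912) (tt N77776 D155913) (tt N39381 (iv5 F324694)) (tt N77604 (iv6 F350974)) (tt N39380 (iv7 F324693)))
theorem Q44133 : ∀ i, i < 44133 → P i := stepQ 44132 Q44132 (allL N44132 (tt N39380 F323328) (tt N48946 F331308) (tt N22572 (iv2 D74149)) (tt N39379 F325002) (tt N74359 F325003) (tt N44110 F110867) (tt N77777 D155916) (tt N63800 (iv7 F189699)))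
theorem Q44134 : ∀ i, i < 44134 → P i := stepQ 44133 Q44133 (allL N44133 (tt N65439 (iv1 F351011)) (tt N77778 D155918) (tt N77777 (iv2 F244902)) (tt N22573 F110868) (tt N77763 (iv4 F244884)) (tt N35277 (iv5 F311449)) (tt N22572 (iv6 D74150)) (tt N45781 F309233))
theorem Q44135 : ∀ i, i < 44135 → P i := stepQ 44134 Q44134 (allL N44134 (tt N44983 (iv1 F244923)) (tt N53343 (iv0 F339128)) (tt N47676 (iv2 F311371)) (tt N22575 (iv3 D74160)) (tt N77779 D155935) (tt N33860 (iv5 F311063)) (tt N74254 (iv6 F322413)) (tt N47812 F309177))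
theorem Q44136 : ∀ i, i < 44136 → P i := stepQ 44135 Q44135 (allL N44135 (tt N23387 (iv1 F110882)) (tt N23386 F110881) (tt N22578 (iv2 D74163)) (tt N41437 F110876) (tt N38154 F110877) (tt N43585 F110878) (tt N33507 F110879) (tt N23383 F110880))
theorem Q44137 : ∀ i, i < 44137 → P i := stepQ 44136 Q44136 (allL N44136 (tt N41427 F110886) (tt N41426 F110887) (tt N41430 F110883) (tt N44104 F110884) (tt N22579 (iv4 D74164)) (tt N74514 (iv5 F228103)) (tt N77780 D155940) (tt N36653 F110885))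
theorem Q44138 : ∀ i, i < 44138 → P i := stepQ 44137 Q44137 (allL N44137 (tt N77781 D155941) (tt N77782 D155942) (tt N41431 F110888) (tt N22580 F110889) (tt N77780 (iv4 F244941)) (tt N37504 F110890) (tt N22579 (iv6 D74165)) (tt N77783 D155943))
theorem Q44139 : ∀ i, i < 44139 → P i := stepQ 44138 Q44138 (allL N44138 (tt N36652 (iv1 F110897)) (tt N22580 (iv0 D74166)) (tt N36650 F208054) (tt N77784 D155944) (tt N47310 F320132) (tt N68572 (iv5 F210863)) (tt N44487 (iv6 F112256)) (tt N36651 F208055))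
theorem Q44140 : ∀ i, i < 44140 → P i := stepQ 44139 Q44139 (allL N44139 (tt N22580 (iv1 D74167)) (tt N36652 F110891) (tt N36651 F208058) (tt N75960 (iv3 F309024)) (tt N46385 F320664) (tt N38385 (iv5 F110892)) (tt N40484 F316369) (tt N36650 F208059))
theorem Q44141 : ∀ i, i < 44141 → P i := stepQ 44140 Q44140 (allL N44140 (tt N36651 (iv1 F110898)) (tt N36650 F110899) (tt N36652 F110893) (tt N77783 (iv3 F244946)) (tt N44107 F110894) (tt N37506 F110895) (tt N36656 F110896) (tt N22580 (iv7 D74168)))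
theorem Q44142 : ∀ i, i < 44142 → P i := stepQ 44141 Q44141 (allL N44141 (tt N37539 F110919) (tt N42586 (iv0 F110920)) (tt N42494 F110915) (tt N22583 F110916) (tt N45291 (iv4 F115041)) (tt N22582 (iv5 D74172)) (tt N36523 F110917) (tt N42482 F110918))
theorem Q44143 : ∀ i, i < 44143 → P i := stepQ 44142 Q44142 (allL N44142 (tt N77785 D155948) (tt N77786 D155949) (tt N77787 D155950) (tt N22584 (iv3 D74173)) (tt N29501 F110921) (tt N51979 (iv5 F354588)) (tt N77788 D155952) (tt N32358 F110922))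
theorem Q44144 : ∀ i, i < 44144 → P i := stepQ 44143 Q44143 (allL N44143 (tt N31803 F110926) (tt N31796 F110927) (tt N39596 F110923) (tt N51979 (iv3 F354587)) (tt N31713 F110925) (tt N22584 (iv5 D74174)) (tt N77789 D155953) (tt N35827 F110924))
theorem Q44145 : ∀ i, i < 44145 → P i := stepQ 44144 Q44144 (allL N44144 (tt N59839 F174278) (tt N59841 (iv0 F174287)) (tt N44149 (iv2 F110940)) (tt N77788 (iv3 F244972)) (tt N29850 F110928) (tt N77790 D155954) (tt N22584 (iv6 D74175)) (tt N59869 (iv7 F174347)))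
theorem Q44146 : ∀ i, i < 44146 → P i := stepQ 44145 Q44145 (allL N44145 (tt N59884 F174394) (tt N77791 D155955) (tt N77792 D155956) (tt N22585 (iv3 D74176)) (tt N30803 F110929) (tt N77793 D155957) (tt N77794 D155958) (tt N30961 F110930))
theorem Q44147 : ∀ i, i < 44147 → P i := stepQ 44146 Q44146 (allL N44146 (tt N31796 F110933) (tt N31803 F110934) (tt N35827 F110931) (tt N77793 (iv3 F244988)) (tt N55637 (iv4 F161140)) (tt N22585 (iv5 D74177)) (tt N77795 D155959) (tt N39596 F110932))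
theorem Q44148 : ∀ i, i < 44148 → P i := stepQ 44147 Q44147 (allL N44147 (tt N31175 (iv1 F169930)) (tt N31178 F169929) (tt N35828 F110935) (tt N77794 (iv3 F244990)) (tt N35826 F110936) (tt N77796 D155960) (tt N22585 (iv6 D74178)) (tt N77797 D155961))
theorem Q44149 : ∀ i, i < 44149 → P i := stepQ 44148 Q44148 (allL N44148 (tt N51906 (iv1 F339746)) (tt N77798 D155963) (tt N44155 (iv2 F110951)) (tt N29106 F319384) (tt N41979 F110938) (tt N39228 F110939) (tt N22587 (iv6 D74179)) (tt N29144 F319856))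
theorem Q44150 : ∀ i, i < 44150 → P i := stepQ 44149 Q44149 (allL N44149 (tt N31901 (iv1 F174279)) (tt N31905 F166054) (tt N44144 F110940) (tt N58244 (iv3 F169051)) (tt N56211 (iv4 F163185)) (tt N77799 D155965) (tt N22588 (iv6 D74180)) (tt N77800 D155966))
theorem Q44151 : ∀ i, i < 44151 → P i := stepQ 44150 Q44150 (allL N44150 (tt N58487 (iv1 F169472)) (tt N22589 (iv0 D74181)) (tt N58486 (iv2 F174372)) (tt N77801 D155967) (tt N65755 (iv4 F202350)) (tt N52570 (iv5 F338517)) (tt N77802 D155969) (tt N58485 (iv7 F174374)))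
theorem Q44152 : ∀ i, i < 44152 → P i := stepQ 44151 Q44151 (allL N44151 (tt N22589 (iv1 D74182)) (tt N58487 F169473) (tt N58485 F174373) (tt N46318 F325233) (tt N65758 (iv4 F202354)) (tt N52569 (iv5 F338519)) (tt N46316 (iv6 F326164)) (tt N58486 F174371))
theorem Q44153 : ∀ i, i < 44153 → P i := stepQ 44152 Q44152 (allL N44152 (tt N58486 F169470) (tt N58485 F169468) (tt N22589 (iv2 D74183)) (tt N36334 F110941) (tt N55614 (iv4 F161091)) (tt N41962 (iv5 F110943)) (tt N39233 F110942) (tt N58487 (iv7 F169471)))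
theorem Q44154 : ∀ i, i < 44154 → P i := stepQ 44153 Q44153 (allL N44153 (tt N77803 D155972) (tt N77804 D155973) (tt N41962 F110944) (tt N22590 F110945) (tt N56193 (iv4 F364256)) (tt N22589 (iv5 D74184)) (tt N54569 (iv6 F325808)) (tt N58488 (iv7 F169475)))
theorem Q44155 : ∀ i, i < 44155 → P i := stepQ 44154 Q44154 (allL N44154 (tt N31786 (iv1 F110949)) (tt N22590 (iv0 D74185)) (tt N39590 (iv2 F110948)) (tt N77805 D155976) (tt N32294 F110947) (tt N31794 F110946) (tt N77806 D155977) (tt N39587 F110950))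
theorem Q44156 : ∀ i, i < 44156 → P i := stepQ 44155 Q44155 (allL N44155 (tt N52499 (iv1 F335523)) (tt N54971 (iv0 F319844)) (tt N44148 F110951) (tt N54569 (iv3 F325806)) (tt N59999 (iv4 F175182)) (tt N39237 F110952) (tt N22590 (iv6 D74186)) (tt N54972 (iv7 F319849)))
theorem Q44157 : ∀ i, i < 44157 → P i := stepQ 44156 Q44156 (allL N44156 (tt N22592 (iv1 F110955)) (tt N22591 (iv0 D74187)) (tt N22606 (iv2 F110956)) (tt N77807 D155981) (tt N30580 F110954) (tt N39508 F110953) (tt N77808 D155982) (tt N22607 (iv7 F110957)))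
theorem Q44158 : ∀ i, i < 44158 → P i := stepQ 44157 Q44157 (allL N44157 (tt N22591 (iv1 D74188)) (tt N22592 F110962) (tt N22607 (iv2 F110965)) (tt N68094 (iv3 F209140)) (tt N30377 F110964) (tt N39507 (iv5 F110967)) (tt N33110 (iv6 F110966)) (tt N22606 F110963))
theorem Q44159 : ∀ i, i < 44159 → P i := stepQ 44158 Q44158 (allL N44158 (tt N77809 D155983) (tt N77810 D155984) (tt N77811 D155985) (tt N22591 (iv3 D74189)) (tt N30166 F110968) (tt N77811 F245039) (tt N39696 F110969) (tt N22618 F110970))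
theorem Q44160 : ∀ i, i < 44160 → P i := stepQ 44159 Q44159 (allL N44159 (tt N39505 F110973) (tt N32150 F110974) (tt N22608 F110971) (tt N77811 (iv3 F245033)) (tt N56814 (iv4 F164855)) (tt N22591 (iv5 D74190)) (tt N77812 D155986) (tt N22619 F110972))
theorem Q44161 : ∀ i, i < 44161 → P i := stepQ 44160 Q44160 (allL N44160 (tt N32150 F110976) (tt N39505 F110979) (tt N22619 F110978) (tt N22592 (iv3 D74191)) (tt N44184 (iv4 F111058)) (tt N22592 (iv5 F110977)) (tt N77813 D155987) (tt N22608 F110975))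
theorem Q44162 : ∀ i, i < 44162 → P i := stepQ 44161 Q44161 (allL N44161 (tt N74085 (iv1 F226802)) (tt N33081 (iv0 F110982)) (tt N22620 F110980) (tt N77813 (iv3 F245045)) (tt N22593 F110981) (tt N77814 D155988) (tt N22592 (iv6 D74192)) (tt N74083 (iv7 F226793)))
theorem Q44163 : ∀ i, i < 44163 → P i := stepQ 44162 Q44162 (allL N44162 (tt N22623 (iv1 F110988)) (tt N22593 (iv0 D74193)) (tt N22621 (iv2 F110985)) (tt N38979 F110986) (tt N77815 D155989) (tt N32998 F110983) (tt N33072 F110984) (tt N22622 F110987))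
theorem Q44164 : ∀ i, i < 44164 → P i := stepQ 44163 Q44163 (allL N44163 (tt N22622 (iv1 F110993)) (tt N22621 F110994) (tt N22623 F110989) (tt N40086 F110990) (tt N74083 (iv4 F226794)) (tt N38115 F110991) (tt N22612 F110992) (tt N22593 (iv7 D74194)))
theorem Q44165 : ∀ i, i < 44165 → P i := stepQ 44164 Q44164 (allL N44164 (tt N77816 D155990) (tt N77817 D155991) (tt N44238 (iv2 F111472)) (tt N22594 (iv3 D74195)) (tt N30181 F110996) (tt N44237 F111471) (tt N77818 D155992) (tt N22633 F110997))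
theorem Q44166 : ∀ i, i < 44166 → P i := stepQ 44165 Q44165 (allL N44165 (tt N77819 D155993) (tt N77820 D155994) (tt N22628 F110998) (tt N77818 (iv3 F245056)) (tt N22595 F110999) (tt N77821 D155995) (tt N22594 (iv6 D74196)) (tt N77822 D155996))
theorem Q44167 : ∀ i, i < 44167 → P i := stepQ 44166 Q44166 (allL N44166 (tt N22595 (iv1 D74198)) (tt N22631 F111004) (tt N22630 (iv2 F111006)) (tt N39095 (iv3 F161299)) (tt N77823 D155997) (tt N59686 (iv5 F173503)) (tt N58414 (iv6 F169311)) (tt N22629 F111005))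
theorem Q44168 : ∀ i, i < 44168 → P i := stepQ 44167 Q44167 (allL N44167 (tt N22630 (iv1 F111011)) (tt N22629 F111012) (tt N22631 F111007) (tt N30186 F111008) (tt N77822 (iv4 F245069)) (tt N31806 F111009) (tt N22638 F111010) (tt N22595 (iv7 D74199)))
theorem Q44169 : ∀ i, i < 44169 → P i := stepQ 44168 Q44168 (allL N44168 (tt N77824 D155998) (tt N77825 D155999) (tt N77826 D156000) (tt N22596 (iv3 D74200)) (tt N30468 F111013) (tt N77827 D156001) (tt N77828 D156002) (tt N22642 F111014))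
theorem Q44170 : ∀ i, i < 44170 → P i := stepQ 44169 Q44169 (allL N44169 (tt N39503 F111018) (tt N39038 F111019) (tt N22640 F111015) (tt N77827 (iv3 F245086)) (tt N36063 F111017) (tt N22596 (iv5 D74201)) (tt N77829 D156003) (tt N22643 F111016))
theorem Q44171 : ∀ i, i < 44171 → P i := stepQ 44170 Q44170 (allL N44170 (tt N39954 F166195) (tt N77823 (iv0 F245075)) (tt N22641 F111020) (tt N77828 (iv3 F245089)) (tt N30466 F111021) (tt N72663 F222820) (tt N22596 (iv6 D74202)) (tt N77830 D156004))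
theorem Q44172 : ∀ i, i < 44172 → P i := stepQ 44171 Q44171 (allL N44171 (tt N48017 F316172) (tt N48003 (iv0 F316200)) (tt N44269 F167143) (tt N22597 (iv3 D74203)) (tt N31551 F111022) (tt N44266 (iv5 F167142)) (tt N77831 D156006) (tt N22639 F111023))
theorem Q44173 : ∀ i, i < 44173 → P i := stepQ 44172 Q44172 (allL N44172 (tt N39038 F111026) (tt N39503 F111027) (tt N22643 F111024) (tt N44266 (iv3 F167140)) (tt N57505 (iv4 F166954)) (tt N22597 (iv5 D74204)) (tt N77832 D156007) (tt N22640 F111025))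
theorem Q44174 : ∀ i, i < 44174 → P i := stepQ 44173 Q44173 (allL N44173 (tt N39495 (iv1 F111488)) (tt N39497 (iv0 F111427)) (tt N22644 F111028) (tt N77831 (iv3 F245102)) (tt N36033 F111029) (tt N72829 (iv5 F223381)) (tt N22597 (iv6 D74205)) (tt N77833 D156008))
theorem Q44175 : ∀ i, i < 44175 → P i := stepQ 44174 Q44174 (allL N44174 (tt N77834 D156009) (tt N22598 (iv0 D74206)) (tt N77835 D156010) (tt N77836 D156011) (tt N77837 D156012) (tt N77838 D156013) (tt N77839 D156014) (tt N77840 D156015))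
theorem Q44176 : ∀ i, i < 44176 → P i := stepQ 44175 Q44175 (allL N44175 (tt N22598 (iv1 D74207)) (tt N77834 F245114) (tt N77840 (iv2 F245118)) (tt N77841 D156016) (tt N77842 D156017) (tt N77843 D156018) (tt N77844 D156019) (tt N77835 F245116))
theorem Q44177 : ∀ i, i < 44177 → P i := stepQ 44176 Q44176 (allL N44176 (tt N77835 (iv1 F360781)) (tt N77840 (iv0 F349770)) (tt N22598 (iv2 D74208)) (tt N22647 F111030) (tt N39105 F111031) (tt N77845 D156022) (tt N33055 F111032) (tt N77834 (iv7 F245113)))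
theorem Q44178 : ∀ i, i < 44178 → P i := stepQ 44177 Q44177 (allL N44177 (tt N77846 D156023) (tt N77847 D156024) (tt N77845 (iv2 F245122)) (tt N22599 F111033) (tt N77848 D156025) (tt N22598 (iv5 D74209)) (tt N77849 D156026) (tt N57623 (iv7 F167240)))
theorem Q44179 : ∀ i, i < 44179 → P i := stepQ 44178 Q44178 (allL N44178 (tt N77840 (iv1 F349771)) (tt N77835 (iv0 F360780)) (tt N77834 F245110) (tt N22600 F111034) (tt N39107 F111035) (tt N57623 (iv5 F167239)) (tt N77850 D156027) (tt N22598 (iv7 D74210)))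
theorem Q44180 : ∀ i, i < 44180 → P i := stepQ 44179 Q44179 (allL N44179 (tt N22654 (iv1 F111037)) (tt N22599 (iv0 D74211)) (tt N22650 (iv2 F111038)) (tt N77851 D156028) (tt N57503 (iv4 F166948)) (tt N30443 F111036) (tt N77852 D156029) (tt N22651 (iv7 F111039)))
theorem Q44181 : ∀ i, i < 44181 → P i := stepQ 44180 Q44180 (allL N44180 (tt N22599 (iv1 D74212)) (tt N22654 F111040) (tt N22651 (iv2 F111043)) (tt N48000 F318315) (tt N57501 (iv4 F166944)) (tt N37418 F111042) (tt N77853 D156030) (tt N22650 F111041))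
theorem Q44182 : ∀ i, i < 44182 → P i := stepQ 44181 Q44181 (allL N44181 (tt N77854 D156031) (tt N77855 D156032) (tt N22653 F111044) (tt N77849 (iv3 F245125)) (tt N57628 (iv4 F167245)) (tt N33060 F111045) (tt N22599 (iv6 D74213)) (tt N77856 D156033))
theorem Q44183 : ∀ i, i < 44183 → P i := stepQ 44182 Q44182 (allL N44182 (tt N33204 (iv1 F111049)) (tt N33203 F111050) (tt N22655 F111046) (tt N77850 (iv3 F245127)) (tt N22601 F111047) (tt N77857 D156034) (tt N22600 (iv6 D74214)) (tt N33061 F111048))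
theorem Q44184 : ∀ i, i < 44184 → P i := stepQ 44183 Q44183 (allL N44183 (tt N22602 (iv1 D74215)) (tt N30172 F111051) (tt N30585 (iv2 F111054)) (tt N77858 D156035) (tt N30567 F111053) (tt N57599 (iv5 F167205)) (tt N55924 (iv6 F162157)) (tt N30583 F111052))
theorem Q44185 : ∀ i, i < 44185 → P i := stepQ 44184 Q44184 (allL N44184 (tt N30630 F111059) (tt N30573 F111060) (tt N30626 F111055) (tt N22616 F111056) (tt N44160 F111058) (tt N22602 (iv5 D74216)) (tt N77859 D156036) (tt N30627 F111057))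
theorem Q44186 : ∀ i, i < 44186 → P i := stepQ 44185 Q44185 (allL N44185 (tt N44462 F112178) (tt N66436 (iv0 F204158)) (tt N44189 (iv2 F111068)) (tt N57622 (iv3 F167237)) (tt N22603 F111061) (tt N77860 D156037) (tt N22602 (iv6 D74217)) (tt N74293 (iv7 F227239)))
theorem Q44187 : ∀ i, i < 44187 → P i := stepQ 44186 Q44186 (allL N44186 (tt N44191 (iv1 F111077)) (tt N22603 (iv0 D74218)) (tt N44190 (iv2 F111304)) (tt N31539 (iv3 F111313)) (tt N57543 (iv4 F167084)) (tt N37247 F111063) (tt N33064 F111062) (tt N39876 (iv7 F111320)))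
theorem Q44188 : ∀ i, i < 44188 → P i := stepQ 44187 Q44187 (allL N44187 (tt N39876 (iv1 F111317)) (tt N44190 F111075) (tt N44191 (iv2 F111074)) (tt N22612 F111065) (tt N74293 (iv4 F227238)) (tt N39165 F111066) (tt N40086 F111067) (tt N22603 (iv7 D74220)))
theorem Q44189 : ∀ i, i < 44189 → P i := stepQ 44188 Q44188 (allL N44188 (tt N77861 D156038) (tt N77862 D156039) (tt N77863 D156040) (tt N22604 (iv3 D74221)) (tt N56357 (iv4 F163562)) (tt N57620 (iv5 F167234)) (tt N77864 D156041) (tt N56813 (iv7 F164853)))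
theorem Q44190 : ∀ i, i < 44190 → P i := stepQ 44189 Q44189 (allL N44189 (tt N57547 (iv1 F167092)) (tt N57548 (iv0 F167091)) (tt N44185 F111068) (tt N77864 (iv3 F245167)) (tt N22605 F111069) (tt N77865 D156042) (tt N22604 (iv6 D74222)) (tt N77866 D156043))
theorem Q44191 : ∀ i, i < 44191 → P i := stepQ 44190 Q44190 (allL N44190 (tt N44187 (iv1 F111075)) (tt N22605 (iv0 D74223)) (tt N44186 F111304) (tt N32120 (iv3 F111323)) (tt N66438 (iv4 F204164)) (tt N39257 F111071) (tt N31027 F111070) (tt N37275 (iv7 F111329)))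
theorem Q44192 : ∀ i, i < 44192 → P i := stepQ 44191 Q44191 (allL N44191 (tt N37275 (iv1 F111326)) (tt N44186 F111077) (tt N44187 F111074) (tt N56360 (iv3 F163573)) (tt N77866 (iv4 F245171)) (tt N56351 (iv5 F163534)) (tt N56816 (iv6 F164867)) (tt N22605 (iv7 D74225)))
theorem Q44193 : ∀ i, i < 44193 → P i := stepQ 44192 Q44192 (allL N44192 (tt N77867 D156044) (tt N77868 D156045) (tt N77869 D156046) (tt N22606 (iv3 D74226)) (tt N37709 F111078) (tt N71568 (iv5 F220226)) (tt N62501 (iv6 F330562)) (tt N68094 (iv7 F209142)))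
theorem Q44194 : ∀ i, i < 44194 → P i := stepQ 44193 Q44193 (allL N44193 (tt N70746 F218244) (tt N70747 (iv0 F218248)) (tt N77808 (iv2 F245027)) (tt N62501 (iv3 F330560)) (tt N37691 F111079) (tt N61989 (iv5 F179778)) (tt N22606 (iv6 D74227)) (tt N77870 D156048))
theorem Q44195 : ∀ i, i < 44195 → P i := stepQ 44194 Q44194 (allL N44194 (tt N77871 D156049) (tt N77872 D156050) (tt N77873 D156051) (tt N22607 (iv3 D74228)) (tt N39897 F111080) (tt N71570 (iv5 F220230)) (tt N77874 D156052) (tt N77807 (iv7 F245026)))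
theorem Q44196 : ∀ i, i < 44196 → P i := stepQ 44195 Q44195 (allL N44195 (tt N33039 F111082) (tt N33112 F111083) (tt N33110 F111081) (tt N77874 (iv3 F245185)) (tt N57317 (iv4 F166051)) (tt N76833 (iv5 F351440)) (tt N22607 (iv6 D74229)) (tt N33109 F171692))
theorem Q44197 : ∀ i, i < 44197 → P i := stepQ 44196 Q44196 (allL N44196 (tt N22619 (iv1 F111086)) (tt N22608 (iv0 D74230)) (tt N39505 (iv2 F111087)) (tt N61881 (iv3 F336198)) (tt N31567 F111085) (tt N22626 F111084) (tt N61880 (iv6 F336196)) (tt N32150 (iv7 F111088)))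
theorem Q44198 : ∀ i, i < 44198 → P i := stepQ 44197 Q44197 (allL N44197 (tt N22608 (iv1 D74231)) (tt N22619 F111089) (tt N32150 (iv2 F111092)) (tt N77875 D156056) (tt N60321 (iv4 F176194)) (tt N22627 F111091) (tt N77876 D156057) (tt N39505 F111090))
theorem Q44199 : ∀ i, i < 44199 → P i := stepQ 44198 Q44198 (allL N44198 (tt N77877 D156058) (tt N77878 D156059) (tt N77812 (iv2 F245041)) (tt N22609 F111094) (tt N57622 (iv4 F167238)) (tt N77879 D156060) (tt N22608 (iv6 D74232)) (tt N77880 D156061))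
theorem Q44200 : ∀ i, i < 44200 → P i := stepQ 44199 Q44199 (allL N44199 (tt N39698 (iv1 F111099)) (tt N22609 (iv0 D74233)) (tt N39694 F167023) (tt N77881 D156062) (tt N57320 F166212) (tt N62023 (iv5 F179809)) (tt N33090 (iv6 F166213)) (tt N39695 (iv7 F167021)))
theorem Q44201 : ∀ i, i < 44201 → P i := stepQ 44200 Q44200 (allL N44200 (tt N22609 (iv1 D74234)) (tt N39698 F111095) (tt N39695 (iv2 F167024)) (tt N77882 D156063) (tt N57321 F167032) (tt N53985 (iv5 F346058)) (tt N77883 D156064) (tt N39694 F167025))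
theorem Q44202 : ∀ i, i < 44202 → P i := stepQ 44201 Q44201 (allL N44201 (tt N77884 D156065) (tt N77885 D156066) (tt N39697 F111096) (tt N77879 (iv3 F245199)) (tt N25878 F329340) (tt N22609 (iv5 D74235)) (tt N77879 (iv6 F245200)) (tt N54501 F329341))
theorem Q44203 : ∀ i, i < 44203 → P i := stepQ 44202 Q44202 (allL N44202 (tt N39695 (iv1 F111100)) (tt N39694 F111101) (tt N39698 F111097) (tt N77880 (iv3 F245201)) (tt N22612 F111098) (tt N54501 (iv5 F328984)) (tt N74083 F226796) (tt N22609 (iv7 D74236)))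
theorem Q44204 : ∀ i, i < 44204 → P i := stepQ 44203 Q44203 (allL N44203 (tt N77886 D156069) (tt N57522 F167013) (tt N39691 F111104) (tt N54662 (iv3 F327686)) (tt N22610 (iv4 D74238)) (tt N62068 (iv5 F179934)) (tt N33094 F111105) (tt N39692 F111106))
theorem Q44205 : ∀ i, i < 44205 → P i := stepQ 44204 Q44204 (allL N44204 (tt N57522 F167012) (tt N77886 F245228) (tt N39692 F111108) (tt N43354 F318495) (tt N22611 (iv4 D74240)) (tt N62067 (iv5 F179933)) (tt N74002 (iv6 F226555)) (tt N39691 F111109))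
theorem Q44206 : ∀ i, i < 44206 → P i := stepQ 44205 Q44205 (allL N44205 (tt N58354 (iv1 F337408)) (tt N58351 (iv0 F337403)) (tt N77887 D156074) (tt N22614 (iv3 D74242)) (tt N22618 F111114) (tt N65494 (iv5 F201867)) (tt N74543 (iv6 F228333)) (tt N30166 F111115))
theorem Q44207 : ∀ i, i < 44207 → P i := stepQ 44206 Q44206 (allL N44206 (tt N41246 F111119) (tt N41232 (iv0 F111117)) (tt N41243 F111120) (tt N77859 (iv3 F245159)) (tt N22617 F111116) (tt N77888 D156075) (tt N22616 (iv6 D74243)) (tt N41244 (iv7 F111118)))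
theorem Q44208 : ∀ i, i < 44208 → P i := stepQ 44207 Q44207 (allL N44207 (tt N77811 (iv1 F245037)) (tt N22618 (iv0 D74245)) (tt N77810 (iv2 F245378)) (tt N77889 D156077) (tt N58365 (iv4 F332213)) (tt N77817 (iv5 F245374)) (tt N77890 D156080) (tt N77809 (iv7 F245377)))
theorem Q44209 : ∀ i, i < 44209 → P i := stepQ 44208 Q44208 (allL N44208 (tt N22618 (iv1 D74246)) (tt N77811 F245040) (tt N77809 (iv2 F245376)) (tt N77891 D156082) (tt N58357 (iv4 F332212)) (tt N77816 (iv5 F245249)) (tt N77892 D156084) (tt N77810 (iv7 F245380)))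
theorem Q44210 : ∀ i, i < 44210 → P i := stepQ 44209 Q44209 (allL N44209 (tt N77810 (iv1 F245038)) (tt N77809 F245032) (tt N22618 (iv2 D74247)) (tt N22619 F111123) (tt N77887 (iv4 F245239)) (tt N22618 (iv5 F111124)) (tt N77893 D156085) (tt N77811 (iv7 F245036)))
theorem Q44211 : ∀ i, i < 44211 → P i := stepQ 44210 Q44210 (allL N44210 (tt N77894 D156086) (tt N77895 D156087) (tt N77893 (iv2 F245250)) (tt N22620 F111125) (tt N74543 (iv4 F228332)) (tt N77896 D156088) (tt N22618 (iv6 D74248)) (tt N77897 D156089))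
theorem Q44212 : ∀ i, i < 44212 → P i := stepQ 44211 Q44211 (allL N44211 (tt N77898 D156090) (tt N77899 D156091) (tt N77813 (iv2 F245044)) (tt N77893 (iv3 F245251)) (tt N57621 (iv4 F167236)) (tt N77900 D156092) (tt N22619 (iv6 D74249)) (tt N77901 D156093))
theorem Q44213 : ∀ i, i < 44213 → P i := stepQ 44212 Q44212 (allL N44212 (tt N74083 (iv1 F226792)) (tt N22620 (iv0 D74250)) (tt N74085 (iv2 F226798)) (tt N77902 D156094) (tt N66263 F203866) (tt N77903 D156095) (tt N77904 D156096) (tt N33081 F203867))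
theorem Q44214 : ∀ i, i < 44214 → P i := stepQ 44213 Q44213 (allL N44213 (tt N77905 D156097) (tt N77906 D156098) (tt N77814 (iv2 F245046)) (tt N77896 (iv3 F245252)) (tt N53980 (iv4 F339550)) (tt N22620 (iv5 D74251)) (tt N77900 (iv6 F245255)) (tt N77907 D156100))
theorem Q44215 : ∀ i, i < 44215 → P i := stepQ 44214 Q44214 (allL N44214 (tt N33081 (iv1 F111128)) (tt N74085 F226801) (tt N74083 F226795) (tt N77897 (iv3 F245253)) (tt N22623 F111126) (tt N77907 (iv5 F245267)) (tt N39698 F111127) (tt N22620 (iv7 D74252)))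
theorem Q44216 : ∀ i, i < 44216 → P i := stepQ 44215 Q44215 (allL N44215 (tt N77908 D156101) (tt N57552 (iv0 F167104)) (tt N77815 (iv2 F245047)) (tt N77909 D156102) (tt N22621 (iv4 D74253)) (tt N77910 D156103) (tt N40167 F111130) (tt N33075 F111131))
theorem Q44217 : ∀ i, i < 44217 → P i := stepQ 44216 Q44216 (allL N44216 (tt N57552 F167103) (tt N77908 F245270) (tt N33075 F111132) (tt N77911 D156104) (tt N22622 (iv4 D74254)) (tt N77912 D156105) (tt N30208 F111133) (tt N77815 (iv7 F245049)))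
theorem Q44218 : ∀ i, i < 44218 → P i := stepQ 44217 Q44217 (allL N44217 (tt N57417 F166514) (tt N77913 D156106) (tt N30618 F111134) (tt N71571 (iv3 F220234)) (tt N22625 F111135) (tt N77914 D156107) (tt N22624 (iv6 D74255)) (tt N77915 D156108))
theorem Q44219 : ∀ i, i < 44219 → P i := stepQ 44218 Q44218 (allL N44218 (tt N58071 F168823) (tt N22625 (iv0 D74256)) (tt N59277 F172458) (tt N31545 (iv3 F163555)) (tt N57574 (iv4 F167170)) (tt N77916 D156109) (tt N30294 F163531) (tt N39937 F163556))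
theorem Q44220 : ∀ i, i < 44220 → P i := stepQ 44219 Q44219 (allL N44219 (tt N22625 (iv1 D74257)) (tt N58071 F168825) (tt N39937 (iv2 F168826)) (tt N32212 F168827) (tt N57575 (iv4 F171181)) (tt N77917 D156110) (tt N77918 D156111) (tt N59277 (iv7 F172460)))
theorem Q44221 : ∀ i, i < 44221 → P i := stepQ 44220 Q44220 (allL N44220 (tt N39937 F169195) (tt N59277 F172459) (tt N58071 (iv2 F168819)) (tt N22631 F111136) (tt N77915 (iv4 F245287)) (tt N31873 F111137) (tt N39385 F111138) (tt N22625 (iv7 D74258)))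
theorem Q44222 : ∀ i, i < 44222 → P i := stepQ 44221 Q44221 (allL N44221 (tt N77919 D156112) (tt N48027 F320579) (tt N77920 D156114) (tt N22626 (iv3 D74259)) (tt N32161 F111143) (tt N61881 (iv5 F336199)) (tt N61962 (iv6 F336205)) (tt N32149 F111144))
theorem Q44223 : ∀ i, i < 44223 → P i := stepQ 44222 Q44222 (allL N44222 (tt N33210 F168101) (tt N33207 F168114) (tt N39506 F111145) (tt N61962 (iv3 F336203)) (tt N32151 F111146) (tt N61961 (iv5 F336202)) (tt N22626 (iv6 D74260)) (tt N33123 F111147))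
theorem Q44224 : ∀ i, i < 44224 → P i := stepQ 44223 Q44223 (allL N44223 (tt N77921 D156117) (tt N77922 D156118) (tt N77923 D156119) (tt N22627 (iv3 D74261)) (tt N38663 F111148) (tt N77875 (iv5 F245194)) (tt N33124 F111149) (tt N39504 F111150))
theorem Q44225 : ∀ i, i < 44225 → P i := stepQ 44224 Q44224 (allL N44224 (tt N77822 (iv1 F245072)) (tt N22628 (iv0 D74262)) (tt N77819 F245059) (tt N77924 D156120) (tt N57356 F166290) (tt N77925 D156121) (tt N33150 (iv6 F166291)) (tt N77820 (iv7 F245064)))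
theorem Q44226 : ∀ i, i < 44226 → P i := stepQ 44225 Q44225 (allL N44225 (tt N22628 (iv1 D74263)) (tt N77822 F245071) (tt N77820 F245066) (tt N77926 D156122) (tt N57357 F175905) (tt N77927 D156123) (tt N77928 D156124) (tt N77819 F245061))
theorem Q44227 : ∀ i, i < 44227 → P i := stepQ 44226 Q44226 (allL N44226 (tt N61854 (iv1 F179618)) (tt N77929 D156125) (tt N77821 (iv2 F245067)) (tt N71557 (iv3 F220179)) (tt N77930 D156126) (tt N22628 (iv5 D74264)) (tt N71552 (iv6 F220171)) (tt N77931 D156127))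
theorem Q44228 : ∀ i, i < 44228 → P i := stepQ 44227 Q44227 (allL N44227 (tt N77820 (iv1 F245063)) (tt N77819 F245062) (tt N77822 (iv2 F245068)) (tt N71574 (iv3 F220236)) (tt N22631 F111151) (tt N77931 (iv5 F245337)) (tt N39502 F111152) (tt N22628 (iv7 D74265)))
theorem Q44229 : ∀ i, i < 44229 → P i := stepQ 44228 Q44228 (allL N44228 (tt N77830 (iv1 F245097)) (tt N22641 F161389) (tt N39954 (iv2 F161388)) (tt N77932 D156128) (tt N22629 (iv4 D74267)) (tt N77933 D156129) (tt N33155 F111154) (tt N77823 (iv7 F245074)))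
theorem Q44230 : ∀ i, i < 44230 → P i := stepQ 44229 Q44229 (allL N44229 (tt N40173 F111156) (tt N40170 (iv0 F111157)) (tt N39955 F161381) (tt N39307 (iv3 F161373)) (tt N52230 (iv4 F340579)) (tt N22629 (iv5 D74268)) (tt N39307 F111155) (tt N59686 (iv7 F173504)))
theorem Q44231 : ∀ i, i < 44231 → P i := stepQ 44230 Q44230 (allL N44230 (tt N22641 F111158) (tt N77830 F245096) (tt N77823 (iv2 F245073)) (tt N76255 (iv3 F320478)) (tt N22630 (iv4 D74270)) (tt N77934 D156132) (tt N77935 D156133) (tt N39954 F161257))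
theorem Q44232 : ∀ i, i < 44232 → P i := stepQ 44231 Q44231 (allL N44231 (tt N31902 F111163) (tt N31906 (iv0 F111165)) (tt N58414 (iv2 F169310)) (tt N22707 F161258) (tt N77935 (iv4 F245352)) (tt N31833 (iv5 F161266)) (tt N22630 (iv6 D74272)) (tt N33154 F111162))
theorem Q44233 : ∀ i, i < 44233 → P i := stepQ 44232 Q44232 (allL N44232 (tt N30192 F111167) (tt N22632 (iv0 D74273)) (tt N30190 (iv2 F111455)) (tt N58402 (iv3 F169294)) (tt N41194 (iv4 F164914)) (tt N30234 F111166) (tt N77936 D156134) (tt N30191 F111453))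
theorem Q44234 : ∀ i, i < 44234 → P i := stepQ 44233 Q44233 (allL N44233 (tt N22632 (iv1 D74274)) (tt N30192 F111168) (tt N30191 (iv2 F111451)) (tt N30755 (iv3 F111173)) (tt N41195 F111176) (tt N30235 (iv5 F111169)) (tt N29940 F111174) (tt N30190 (iv7 F111457)))
theorem Q44235 : ∀ i, i < 44235 → P i := stepQ 44234 Q44234 (allL N44234 (tt N30191 (iv1 F111468)) (tt N30190 F111469) (tt N30192 F111464) (tt N22638 F111465) (tt N65477 (iv4 F201845)) (tt N39115 F111466) (tt N30186 F111467) (tt N22632 (iv7 D74275)))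
theorem Q44236 : ∀ i, i < 44236 → P i := stepQ 44235 Q44235 (allL N44235 (tt N44238 (iv1 F111476)) (tt N22633 (iv0 D74276)) (tt N77817 (iv2 F245368)) (tt N48029 F320584) (tt N77937 D156137) (tt N77810 (iv5 F245379)) (tt N33143 (iv6 F351548)) (tt N77816 (iv7 F245372)))
theorem Q44237 : ∀ i, i < 44237 → P i := stepQ 44236 Q44236 (allL N44236 (tt N22633 (iv1 D74277)) (tt N44238 F111475) (tt N77816 (iv2 F245371)) (tt N25119 F316718) (tt N77938 D156142) (tt N77809 (iv5 F245367)) (tt N77939 D156143) (tt N77817 (iv7 F245369)))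
theorem Q44238 : ∀ i, i < 44238 → P i := stepQ 44237 Q44237 (allL N44237 (tt N77817 (iv1 F245053)) (tt N77816 F245052) (tt N22633 (iv2 D74278)) (tt N39509 F111470) (tt N31004 F330476) (tt N44164 (iv5 F111471)) (tt N77940 D156144) (tt N44238 (iv7 F111474)))
theorem Q44239 : ∀ i, i < 44239 → P i := stepQ 44238 Q44238 (allL N44238 (tt N44236 (iv1 F111475)) (tt N44235 F111476) (tt N44164 F111472) (tt N22634 F111473) (tt N31776 F330481) (tt N22633 (iv5 D74279)) (tt N77941 D156145) (tt N44237 F111474))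
theorem Q44240 : ∀ i, i < 44240 → P i := stepQ 44239 Q44239 (allL N44239 (tt N77942 D156146) (tt N63682 (iv0 F366540)) (tt N77940 (iv2 F245384)) (tt N22635 F111477) (tt N65475 (iv4 F201838)) (tt N77943 D156148) (tt N22633 (iv6 D74280)) (tt N77944 D156149))
theorem Q44241 : ∀ i, i < 44241 → P i := stepQ 44240 Q44240 (allL N44240 (tt N77945 D156150) (tt N77946 D156151) (tt N39513 F111478) (tt N77941 (iv3 F245387)) (tt N57600 (iv4 F167211)) (tt N77947 D156152) (tt N22634 (iv6 D74281)) (tt N77948 D156153))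
theorem Q44242 : ∀ i, i < 44242 → P i := stepQ 44241 Q44241 (allL N44241 (tt N39502 (iv1 F111483)) (tt N22635 (iv0 D74282)) (tt N39498 (iv2 F172053)) (tt N76811 (iv3 F366400)) (tt N66277 (iv4 F203891)) (tt N77949 D156155) (tt N77950 D156156) (tt N39499 F172054))
theorem Q44243 : ∀ i, i < 44243 → P i := stepQ 44242 Q44242 (allL N44242 (tt N22635 (iv1 D74283)) (tt N39502 F111479) (tt N39499 F172052) (tt N77951 D156157) (tt N57208 (iv4 F165797)) (tt N77952 D156158) (tt N33133 F165798) (tt N39498 (iv7 F172050)))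
theorem Q44244 : ∀ i, i < 44244 → P i := stepQ 44243 Q44243 (allL N44243 (tt N61891 (iv1 F179642)) (tt N61889 (iv0 F179641)) (tt N39501 F111480) (tt N77943 (iv3 F245388)) (tt N77953 D156159) (tt N22635 (iv5 D74284)) (tt N77947 (iv6 F245392)) (tt N77954 D156160))
theorem Q44245 : ∀ i, i < 44245 → P i := stepQ 44244 Q44244 (allL N44244 (tt N39499 (iv1 F111484)) (tt N39498 F111485) (tt N39502 F111481) (tt N77944 (iv3 F245389)) (tt N22638 F111482) (tt N77954 (iv5 F245418)) (tt N77822 (iv6 F245070)) (tt N22635 (iv7 D74285)))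
theorem Q44246 : ∀ i, i < 44246 → P i := stepQ 44245 Q44245 (allL N44245 (tt N77833 (iv1 F245109)) (tt N22644 F162015) (tt N39495 F111486) (tt N44509 F318377) (tt N22636 (iv4 D74286)) (tt N77955 D156162) (tt N77956 D156163) (tt N39497 F111487))
theorem Q44247 : ∀ i, i < 44247 → P i := stepQ 44246 Q44246 (allL N44246 (tt N33209 F111493) (tt N61693 (iv0 F179276)) (tt N39496 F111489) (tt N22720 F111490) (tt N77956 (iv4 F245428)) (tt N38114 F111491) (tt N22636 (iv6 D74287)) (tt N33141 F111492))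
theorem Q44248 : ∀ i, i < 44248 → P i := stepQ 44247 Q44247 (allL N44247 (tt N22644 F162013) (tt N77833 F245108) (tt N39497 F111494) (tt N77957 D156164) (tt N22637 (iv4 D74288)) (tt N77958 D156165) (tt N33137 F111495) (tt N39495 F111496))
theorem Q44249 : ∀ i, i < 44249 → P i := stepQ 44248 Q44248 (allL N44248 (tt N44269 (iv1 F167146)) (tt N22639 (iv0 D74289)) (tt N48003 (iv2 F316202)) (tt N37420 (iv3 F111498)) (tt N77959 D156166) (tt N37419 F111497) (tt N77960 D156167) (tt N48017 (iv7 F316106)))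
theorem Q44250 : ∀ i, i < 44250 → P i := stepQ 44249 Q44249 (allL N44249 (tt N22639 (iv1 D74290)) (tt N44269 F167147) (tt N48017 F316898) (tt N77961 D156168) (tt N77962 D156169) (tt N47988 F316899) (tt N33158 F339877) (tt N48003 F316900))
theorem Q44251 : ∀ i, i < 44251 → P i := stepQ 44250 Q44250 (allL N44250 (tt N48003 (iv1 F316201)) (tt N48017 F316170) (tt N22639 (iv2 D74291)) (tt N77826 (iv3 F245078)) (tt N59293 (iv4 F172508)) (tt N44271 (iv5 F167135)) (tt N77963 D156171) (tt N44269 (iv7 F167145)))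
theorem Q44252 : ∀ i, i < 44252 → P i := stepQ 44251 Q44251 (allL N44251 (tt N77964 D156172) (tt N77965 D156173) (tt N77963 (iv2 F245439)) (tt N22641 F111500) (tt N59295 (iv4 F172516)) (tt N77966 D156174) (tt N22639 (iv6 D74293)) (tt N77967 D156175))
theorem Q44253 : ∀ i, i < 44253 → P i := stepQ 44252 Q44252 (allL N44252 (tt N22643 (iv1 F111504)) (tt N22640 (iv0 D74294)) (tt N39503 (iv2 F111503)) (tt N77968 D156176) (tt N37896 F111502) (tt N39039 F111501) (tt N62090 (iv6 F360875)) (tt N39038 F111505))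
theorem Q44254 : ∀ i, i < 44254 → P i := stepQ 44253 Q44253 (allL N44253 (tt N77969 D156178) (tt N77970 D156179) (tt N77829 (iv2 F245091)) (tt N44273 (iv3 F167161)) (tt N57589 (iv4 F167195)) (tt N77971 D156180) (tt N22640 (iv6 D74295)) (tt N77972 D156181))
theorem Q44255 : ∀ i, i < 44255 → P i := stepQ 44254 Q44254 (allL N44254 (tt N61835 (iv1 F179575)) (tt N72665 F222823) (tt N72663 (iv2 F222821)) (tt N77966 (iv3 F245440)) (tt N77973 D156182) (tt N22641 (iv5 D74297)) (tt N77971 (iv6 F245447)) (tt N72662 F222819))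
theorem Q44256 : ∀ i, i < 44256 → P i := stepQ 44255 Q44255 (allL N44255 (tt N77823 F245076) (tt N39954 (iv0 F175906)) (tt N77830 (iv2 F245093)) (tt N77967 (iv3 F245441)) (tt N60208 (iv4 F175901)) (tt N72662 (iv5 F222818)) (tt N77833 (iv6 F245107)) (tt N22641 (iv7 D74298)))
theorem Q44257 : ∀ i, i < 44257 → P i := stepQ 44256 Q44256 (allL N44256 (tt N77826 (iv1 F245081)) (tt N22642 (iv0 D74299)) (tt N77825 (iv2 F351395)) (tt N77974 D156184) (tt N25180 (iv4 F325780)) (tt N77975 D156186) (tt N33165 F351322) (tt N77824 (iv7 F359958)))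
theorem Q44258 : ∀ i, i < 44258 → P i := stepQ 44257 Q44257 (allL N44257 (tt N22642 (iv1 D74300)) (tt N77826 F245084) (tt N77824 (iv2 F359956)) (tt N62151 (iv3 F351401)) (tt N25181 F321540) (tt N62119 (iv5 F351402)) (tt N62122 (iv6 F351386)) (tt N77825 (iv7 F351397)))
theorem Q44259 : ∀ i, i < 44259 → P i := stepQ 44258 Q44258 (allL N44258 (tt N77825 (iv1 F245082)) (tt N77824 F245077) (tt N22642 (iv2 D74301)) (tt N44269 (iv3 F167144)) (tt N77976 D156193) (tt N44267 F167148) (tt N77977 D156194) (tt N77826 (iv7 F245080)))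
theorem Q44260 : ∀ i, i < 44260 → P i := stepQ 44259 Q44259 (allL N44259 (tt N77978 D156195) (tt N77979 D156196) (tt N77976 (iv2 F245452)) (tt N29638 F111506) (tt N22642 (iv4 D74302)) (tt N77980 D156197) (tt N77981 D156198) (tt N30468 F111507))
theorem Q44261 : ∀ i, i < 44261 → P i := stepQ 44260 Q44260 (allL N44260 (tt N77982 D156199) (tt N77983 D156200) (tt N44267 (iv2 F167149)) (tt N22643 F111508) (tt N32157 (iv4 F167210)) (tt N22642 (iv5 D74303)) (tt N77984 D156201) (tt N77827 (iv7 F245087)))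
theorem Q44262 : ∀ i, i < 44262 → P i := stepQ 44261 Q44261 (allL N44261 (tt N63796 (iv1 F350660)) (tt N61844 (iv0 F347956)) (tt N77977 (iv2 F245457)) (tt N22644 F111509) (tt N77981 (iv4 F245472)) (tt N77985 D156204) (tt N22642 (iv6 D74304)) (tt N77986 D156205))
theorem Q44263 : ∀ i, i < 44263 → P i := stepQ 44262 Q44262 (allL N44262 (tt N77987 D156206) (tt N77988 D156207) (tt N77832 (iv2 F245104)) (tt N77984 (iv3 F245475)) (tt N57573 (iv4 F167169)) (tt N77989 D156208) (tt N22643 (iv6 D74305)) (tt N77990 D156209))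
theorem Q44264 : ∀ i, i < 44264 → P i := stepQ 44263 Q44263 (allL N44263 (tt N61900 (iv1 F179656)) (tt N61899 (iv0 F179652)) (tt N72829 F223383) (tt N77985 (iv3 F245477)) (tt N77991 D156210) (tt N22644 (iv5 D74308)) (tt N77989 (iv6 F245479)) (tt N72830 (iv7 F223385)))
theorem Q44265 : ∀ i, i < 44265 → P i := stepQ 44264 Q44264 (allL N44264 (tt N39497 (iv1 F111510)) (tt N39495 F111511) (tt N77833 (iv2 F245105)) (tt N77986 (iv3 F245478)) (tt N60210 (iv4 F175911)) (tt N72830 (iv5 F223386)) (tt N77830 (iv6 F245095)) (tt N22644 (iv7 D74309)))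
theorem Q44266 : ∀ i, i < 44266 → P i := stepQ 44265 Q44265 (allL N44265 (tt N22646 (iv1 F111515)) (tt N22645 (iv0 D74310)) (tt N22649 (iv2 F111512)) (tt N77834 (iv3 F245111)) (tt N22732 F111513) (tt N77992 D156211) (tt N77993 D156212) (tt N22647 F111514))
theorem Q44267 : ∀ i, i < 44267 → P i := stepQ 44266 Q44266 (allL N44266 (tt N22649 F167138) (tt N22647 F167139) (tt N22645 (iv2 D74311)) (tt N44172 F167140) (tt N30657 F167141) (tt N44171 F167142) (tt N77994 D156213) (tt N22646 (iv7 F111516)))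
theorem Q44268 : ∀ i, i < 44268 → P i := stepQ 44267 Q44267 (allL N44267 (tt N62151 (iv1 F351400)) (tt N77995 D156215) (tt N44260 F167149) (tt N22645 (iv3 D74312)) (tt N60229 (iv4 F175950)) (tt N44258 (iv5 F167148)) (tt N77996 D156216) (tt N60235 (iv7 F175958)))
theorem Q44269 : ∀ i, i < 44269 → P i := stepQ 44268 Q44268 (allL N44268 (tt N48021 F314365) (tt N39942 (iv0 F212042)) (tt N30657 (iv2 F167150)) (tt N77997 D156218) (tt N22645 (iv4 D74313)) (tt N47397 (iv5 F314997)) (tt N77998 D156220) (tt N76678 (iv7 F315456)))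
theorem Q44270 : ∀ i, i < 44270 → P i := stepQ 44269 Q44269 (allL N44269 (tt N44249 (iv1 F167147)) (tt N44248 F167146) (tt N44171 (iv2 F167143)) (tt N44258 F167144) (tt N59247 (iv4 F172411)) (tt N22645 (iv5 D74314)) (tt N77999 D156222) (tt N44250 F167145))
theorem Q44271 : ∀ i, i < 44271 → P i := stepQ 44270 Q44270 (allL N44270 (tt N76820 (iv1 F423709)) (tt N76255 (iv0 F423710)) (tt N77994 (iv2 F245490)) (tt N77996 (iv3 F245496)) (tt N77998 (iv4 F245524)) (tt N78000 D156225) (tt N22645 (iv6 D74315)) (tt N78001 D156226))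
theorem Q44272 : ∀ i, i < 44272 → P i := stepQ 44271 Q44271 (allL N44271 (tt N22647 F167133) (tt N22649 F167134) (tt N22646 F111517) (tt N60235 F175959) (tt N76678 (iv4 F315455)) (tt N44250 F167135) (tt N63671 (iv6 F316171)) (tt N22645 (iv7 D74316)))
theorem Q44273 : ∀ i, i < 44273 → P i := stepQ 44272 Q44272 (allL N44272 (tt N39942 (iv1 F212043)) (tt N48021 F314364) (tt N76678 (iv2 F315453)) (tt N30660 (iv3 F167154)) (tt N22646 (iv4 D74318)) (tt N33844 (iv5 F314998)) (tt N33865 (iv6 F316715)) (tt N30657 (iv7 F167151)))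
theorem Q44274 : ∀ i, i < 44274 → P i := stepQ 44273 Q44273 (allL N44273 (tt N44509 (iv1 F320452)) (tt N62987 (iv0 F320453)) (tt N63671 F318297) (tt N44253 F167161) (tt N33865 F318298) (tt N76611 (iv5 F320455)) (tt N22646 (iv6 D74320)) (tt N63670 (iv7 F320458)))
theorem Q44275 : ∀ i, i < 44275 → P i := stepQ 44274 Q44274 (allL N44274 (tt N57521 (iv1 F245484)) (tt N78002 D156234) (tt N22648 F111522) (tt N77845 (iv3 F245123)) (tt N78003 D156235) (tt N22647 (iv5 D74323)) (tt N78004 D156236) (tt N77992 (iv7 F245481)))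
theorem Q44276 : ∀ i, i < 44276 → P i := stepQ 44275 Q44275 (allL N44275 (tt N77992 (iv1 F245482)) (tt N22648 (iv0 D74324)) (tt N57521 (iv2 F167009)) (tt N62150 (iv3 F355510)) (tt N78005 D156238) (tt N48001 F318299) (tt N78006 D156239) (tt N78002 (iv7 F245541)))
theorem Q44277 : ∀ i, i < 44277 → P i := stepQ 44276 Q44276 (allL N44276 (tt N22648 (iv1 D74325)) (tt N77992 F245483) (tt N78002 F245543) (tt N37418 (iv3 F111523)) (tt N38464 F111524) (tt N48000 F318300) (tt N78007 D156240) (tt N57521 (iv7 F167007)))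
theorem Q44278 : ∀ i, i < 44278 → P i := stepQ 44277 Q44277 (allL N44277 (tt N78008 D156241) (tt N78009 D156242) (tt N78003 (iv2 F245545)) (tt N78010 D156243) (tt N22648 (iv4 D74326)) (tt N78011 D156244) (tt N78012 D156245) (tt N78013 D156246))
theorem Q44279 : ∀ i, i < 44279 → P i := stepQ 44278 Q44278 (allL N44278 (tt N62145 (iv1 F357050)) (tt N78014 D156248) (tt N78004 (iv2 F245547)) (tt N22653 F111525) (tt N78012 (iv4 F245559)) (tt N33190 F111526) (tt N22648 (iv6 D74327)) (tt N78015 D156249))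
theorem Q44280 : ∀ i, i < 44280 → P i := stepQ 44279 Q44279 (allL N44279 (tt N78002 (iv1 F245540)) (tt N57521 (iv0 F167008)) (tt N77992 (iv2 F245480)) (tt N22654 F111527) (tt N78013 (iv4 F245560)) (tt N22649 F111528) (tt N62051 (iv6 F339876)) (tt N22648 (iv7 D74328)))
theorem Q44281 : ∀ i, i < 44281 → P i := stepQ 44280 Q44280 (allL N44280 (tt N78016 D156251) (tt N78017 D156252) (tt N77993 (iv2 F245485)) (tt N22655 F111529) (tt N22742 F111530) (tt N62052 (iv5 F339873)) (tt N22649 (iv6 D74329)) (tt N33192 F111531))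
theorem Q44282 : ∀ i, i < 44282 → P i := stepQ 44281 Q44281 (allL N44281 (tt N37419 F167082) (tt N47988 (iv0 F314630)) (tt N48001 (iv2 F316100)) (tt N22650 (iv3 D74330)) (tt N65376 F313716) (tt N57521 (iv5 F167006)) (tt N43352 (iv6 F316203)) (tt N48000 (iv7 F316104)))
theorem Q44283 : ∀ i, i < 44283 → P i := stepQ 44282 Q44282 (allL N44282 (tt N78018 D156256) (tt N78019 D156257) (tt N77852 (iv2 F245144)) (tt N43352 F318478) (tt N57558 (iv4 F167109)) (tt N78020 D156258) (tt N22650 (iv6 D74331)) (tt N78021 D156259))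
theorem Q44284 : ∀ i, i < 44284 → P i := stepQ 44283 Q44283 (allL N44283 (tt N77975 (iv1 F355488)) (tt N62119 (iv0 F355490)) (tt N78022 D156262) (tt N22651 (iv3 D74332)) (tt N68681 (iv4 F211370)) (tt N57551 (iv5 F167100)) (tt N78023 D156263) (tt N77851 (iv7 F245131)))
theorem Q44285 : ∀ i, i < 44285 → P i := stepQ 44284 Q44284 (allL N44284 (tt N78024 D156264) (tt N78025 D156265) (tt N77853 (iv2 F245145)) (tt N78023 (iv3 F245578)) (tt N57542 (iv4 F167083)) (tt N78026 D156266) (tt N22651 (iv6 D74333)) (tt N78027 D156267))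
theorem Q44286 : ∀ i, i < 44286 → P i := stepQ 44285 Q44285 (allL N44285 (tt N78028 D156268) (tt N78029 D156269) (tt N78030 D156270) (tt N22652 (iv3 D74334)) (tt N78010 (iv4 F245558)) (tt N57513 (iv5 F166975)) (tt N78031 D156271) (tt N57512 F166972))
theorem Q44287 : ∀ i, i < 44287 → P i := stepQ 44286 Q44286 (allL N44286 (tt N74272 (iv1 F339887)) (tt N78032 D156273) (tt N57628 (iv2 F167244)) (tt N78031 (iv3 F245579)) (tt N22653 F111532) (tt N73337 (iv5 F357024)) (tt N22652 (iv6 D74335)) (tt N78033 D156275))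
theorem Q44288 : ∀ i, i < 44288 → P i := stepQ 44287 Q44287 (allL N44287 (tt N77856 (iv1 F245151)) (tt N22653 (iv0 D74336)) (tt N77854 (iv2 F404282)) (tt N73204 (iv3 F404281)) (tt N78034 D156278) (tt N78035 D156279) (tt N78036 D156280) (tt N77855 (iv7 F404280)))
theorem Q44289 : ∀ i, i < 44289 → P i := stepQ 44288 Q44288 (allL N44288 (tt N22653 (iv1 D74337)) (tt N77856 F245150) (tt N77855 (iv2 F404279)) (tt N62116 (iv3 F404293)) (tt N77767 (iv4 F403816)) (tt N78037 D156284) (tt N78038 D156285) (tt N77854 (iv7 F404283)))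
theorem Q44290 : ∀ i, i < 44290 → P i := stepQ 44289 Q44289 (allL N44289 (tt N77855 (iv1 F245146)) (tt N77854 F245149) (tt N77856 (iv2 F245147)) (tt N78015 (iv3 F245561)) (tt N78033 (iv4 F245580)) (tt N33201 F111533) (tt N78039 D156286) (tt N22653 (iv7 D74338)))
theorem Q44291 : ∀ i, i < 44291 → P i := stepQ 44290 Q44290 (allL N44290 (tt N78040 D156287) (tt N62105 (iv0 F404240)) (tt N57624 (iv2 F167241)) (tt N62051 (iv3 F339875)) (tt N57514 (iv4 F166977)) (tt N62049 (iv5 F351405)) (tt N22654 (iv6 D74339)) (tt N78039 (iv7 F245583)))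
theorem Q44292 : ∀ i, i < 44292 → P i := stepQ 44291 Q44291 (allL N44291 (tt N33061 (iv1 F111534)) (tt N22655 (iv0 D74340)) (tt N33204 F171840) (tt N78041 D156290) (tt N58749 (iv4 F170583)) (tt N78042 D156291) (tt N78043 D156292) (tt N33203 F171850))
theorem Q44293 : ∀ i, i < 44293 → P i := stepQ 44292 Q44292 (allL N44292 (tt N22655 (iv1 D74341)) (tt N33061 F111535) (tt N33203 F171849) (tt N78044 D156293) (tt N36168 (iv4 F111536)) (tt N78045 D156294) (tt N78046 D156295) (tt N33204 (iv7 F171848)))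
theorem Q44294 : ∀ i, i < 44294 → P i := stepQ 44293 Q44293 (allL N44293 (tt N78047 D156296) (tt N78048 D156297) (tt N77857 (iv2 F245152)) (tt N62052 (iv3 F339872)) (tt N78049 D156298) (tt N22655 (iv5 D74342)) (tt N62049 (iv6 F351406)) (tt N33205 F111537))
theorem Q44295 : ∀ i, i < 44295 → P i := stepQ 44294 Q44294 (allL N44294 (tt N30239 F168291) (tt N32207 F168292) (tt N30349 (iv2 F165550)) (tt N22656 (iv3 D74343)) (tt N55994 F162243) (tt N72614 F222754) (tt N78050 D156299) (tt N33206 F111538))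
theorem Q44296 : ∀ i, i < 44296 → P i := stepQ 44295 Q44295 (allL N44295 (tt N33123 F168138) (tt N39506 F168139) (tt N33210 F111539) (tt N78051 D156300) (tt N22656 (iv4 D74344)) (tt N78052 D156301) (tt N78053 D156302) (tt N33207 F111540))
theorem Q44297 : ∀ i, i < 44297 → P i := stepQ 44296 Q44296 (allL N44296 (tt N58414 F169312) (tt N33154 (iv0 F111544)) (tt N31906 F111541) (tt N78050 (iv3 F245603)) (tt N78053 (iv4 F245612)) (tt N31884 F111542) (tt N22656 (iv6 D74345)) (tt N31902 F111543))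
theorem Q44298 : ∀ i, i < 44298 → P i := stepQ 44297 Q44297 (allL N44297 (tt N39506 (iv1 F168141)) (tt N33123 F168140) (tt N33207 F111551) (tt N78054 D156303) (tt N22657 (iv4 D74347)) (tt N78055 D156304) (tt N70026 (iv6 F216433)) (tt N33210 F111552))
theorem Q44299 : ∀ i, i < 44299 → P i := stepQ 44298 Q44298 (allL N44298 (tt N41065 F111556) (tt N39492 (iv0 F111557)) (tt N33208 F111553) (tt N30347 F165671) (tt N78056 D156305) (tt N22657 (iv5 D74348)) (tt N39033 F111554) (tt N33211 F111555))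
theorem Q44300 : ∀ i, i < 44300 → P i := stepQ 44299 Q44299 (allL N44299 (tt N78057 D156306) (tt N78058 D156307) (tt N78059 D156308) (tt N22658 (iv3 D74349)) (tt N77807 (iv4 F245024)) (tt N72295 (iv5 F221899)) (tt N78060 D156309) (tt N39897 F111558))
theorem Q44301 : ∀ i, i < 44301 → P i := stepQ 44300 Q44300 (allL N44300 (tt N72633 (iv1 F222784)) (tt N69558 (iv0 F214872)) (tt N39902 F111559) (tt N78060 (iv3 F245631)) (tt N38691 F111560) (tt N62357 (iv5 F180902)) (tt N22658 (iv6 D74350)) (tt N40401 F111561))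
theorem Q44302 : ∀ i, i < 44302 → P i := stepQ 44301 Q44301 (allL N44301 (tt N78061 D156310) (tt N78062 D156311) (tt N78063 D156312) (tt N22659 (iv3 D74351)) (tt N38179 F111562) (tt N72297 (iv5 F221903)) (tt N40402 F111563) (tt N39900 F111564))
theorem Q44303 : ∀ i, i < 44303 → P i := stepQ 44302 Q44302 (allL N44302 (tt N39903 (iv1 F111565)) (tt N22660 (iv0 D74352)) (tt N35386 F312824) (tt N78064 D156313) (tt N35367 (iv4 F314347)) (tt N72291 (iv5 F245795)) (tt N78065 D156316) (tt N35398 F312825))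
theorem Q44304 : ∀ i, i < 44304 → P i := stepQ 44303 Q44303 (allL N44303 (tt N22660 (iv1 D74353)) (tt N39903 F111569) (tt N35398 F312815) (tt N78066 D156317) (tt N35371 F312816) (tt N72292 (iv5 F245792)) (tt N40387 F342409) (tt N35386 F312817))
theorem Q44305 : ∀ i, i < 44305 → P i := stepQ 44304 Q44304 (allL N44304 (tt N35386 F310663) (tt N35398 F310664) (tt N22660 (iv2 D74354)) (tt N57730 (iv3 F167642)) (tt N22669 F111566) (tt N78067 D156320) (tt N66887 (iv6 F312932)) (tt N39903 F111567))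
theorem Q44306 : ∀ i, i < 44306 → P i := stepQ 44305 Q44305 (allL N44305 (tt N65269 (iv1 F316985)) (tt N65263 (iv0 F316132)) (tt N78067 (iv2 F245653)) (tt N22661 F111571) (tt N78068 D156324) (tt N22660 (iv5 D74355)) (tt N78069 D156325) (tt N39904 F111572))
theorem Q44307 : ∀ i, i < 44307 → P i := stepQ 44306 Q44306 (allL N44306 (tt N78070 D156330) (tt N78071 D156331) (tt N57733 (iv2 F167645)) (tt N78069 (iv3 F245665)) (tt N38753 F111575) (tt N78072 D156332) (tt N22661 (iv6 D74357)) (tt N78073 D156333))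
theorem Q44308 : ∀ i, i < 44308 → P i := stepQ 44307 Q44307 (allL N44307 (tt N57737 (iv1 F167661)) (tt N22662 (iv0 D74358)) (tt N57734 (iv2 F167651)) (tt N78074 D156334) (tt N38694 F167652) (tt N73451 (iv5 F224876)) (tt N33231 F167653) (tt N57735 (iv7 F167655)))
theorem Q44309 : ∀ i, i < 44309 → P i := stepQ 44308 Q44308 (allL N44308 (tt N22662 (iv1 D74359)) (tt N57737 F167660) (tt N57735 F167656) (tt N78075 D156335) (tt N38695 (iv4 F112157)) (tt N73450 (iv5 F224870)) (tt N74011 F226574) (tt N57734 F167649))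
theorem Q44310 : ∀ i, i < 44310 → P i := stepQ 44309 Q44309 (allL N44309 (tt N40707 (iv1 F166464)) (tt N40711 F111576) (tt N57736 (iv2 F167657)) (tt N76176 (iv3 F315252)) (tt N78076 D156336) (tt N22662 (iv5 D74360)) (tt N78072 (iv6 F245670)) (tt N64960 (iv7 F341385)))
theorem Q44311 : ∀ i, i < 44311 → P i := stepQ 44310 Q44310 (allL N44310 (tt N57735 (iv1 F167654)) (tt N57734 (iv0 F167650)) (tt N57737 (iv2 F167658)) (tt N63182 F317474) (tt N22665 F111578) (tt N64960 (iv5 F341384)) (tt N39908 F111579) (tt N22662 (iv7 D74361)))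
theorem Q44312 : ∀ i, i < 44312 → P i := stepQ 44311 Q44311 (allL N44311 (tt N70212 (iv1 F216981)) (tt N54220 (iv0 F352677)) (tt N57738 (iv2 F167662)) (tt N78077 D156338) (tt N22663 (iv4 D74362)) (tt N78078 D156339) (tt N33235 F111580) (tt N57739 (iv7 F167666)))
theorem Q44313 : ∀ i, i < 44313 → P i := stepQ 44312 Q44312 (allL N44312 (tt N54220 (iv1 F352678)) (tt N70212 F216980) (tt N57739 (iv2 F167665)) (tt N78079 D156340) (tt N22664 (iv4 D74363)) (tt N78080 D156341) (tt N74009 (iv6 F226571)) (tt N57738 (iv7 F167664)))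
theorem Q44314 : ∀ i, i < 44314 → P i := stepQ 44313 Q44313 (allL N44313 (tt N65378 (iv1 F316476)) (tt N65377 (iv0 F316478)) (tt N25256 (iv2 F316474)) (tt N30585 F111594) (tt N22666 (iv4 D74368)) (tt N78081 D156348) (tt N40487 F111595) (tt N37895 F111596))
theorem Q44315 : ∀ i, i < 44315 → P i := stepQ 44314 Q44314 (allL N44314 (tt N65373 (iv1 F312678)) (tt N78082 D156356) (tt N75859 (iv2 F312127)) (tt N22667 (iv3 D74370)) (tt N44468 F112205) (tt N64726 (iv5 F314589)) (tt N78083 D156359) (tt N39910 F245751))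
theorem Q44316 : ∀ i, i < 44316 → P i := stepQ 44315 Q44315 (allL N44315 (tt N65230 (iv1 F316707)) (tt N65231 (iv0 F366610)) (tt N39914 F245752) (tt N78084 D156363) (tt N22667 (iv4 D74371)) (tt N65278 (iv5 F350069)) (tt N78085 D156365) (tt N39911 F245753))
theorem Q44317 : ∀ i, i < 44317 → P i := stepQ 44316 Q44316 (allL N44316 (tt N78086 D156372) (tt N41432 (iv0 F341073)) (tt N39915 F245755) (tt N78083 (iv3 F245726)) (tt N78085 (iv4 F245730)) (tt N62389 (iv5 F341070)) (tt N22667 (iv6 D74373)) (tt N40474 F328588))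
theorem Q44318 : ∀ i, i < 44318 → P i := stepQ 44317 Q44317 (allL N44317 (tt N65386 (iv1 F312125)) (tt N25207 (iv0 F312124)) (tt N25494 (iv2 F312131)) (tt N22668 (iv3 D74375)) (tt N78087 D156379) (tt N25197 F309913) (tt N40475 (iv6 F327185)) (tt N25490 (iv7 F309998)))
theorem Q44319 : ∀ i, i < 44319 → P i := stepQ 44318 Q44318 (allL N44318 (tt N65231 (iv1 F366611)) (tt N65230 (iv0 F316706)) (tt N39911 (iv2 F245748)) (tt N70216 (iv3 F217000)) (tt N22668 (iv4 D74376)) (tt N65279 (iv5 F350065)) (tt N40476 (iv6 F327186)) (tt N39914 (iv7 F245750)))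
theorem Q44320 : ∀ i, i < 44320 → P i := stepQ 44319 Q44319 (allL N44319 (tt N39917 (iv1 F111602)) (tt N39916 F111603) (tt N22670 F111599) (tt N39889 F111600) (tt N25724 (iv4 F309285)) (tt N22669 (iv5 D74379)) (tt N45699 (iv6 F308325)) (tt N25441 (iv7 F308477)))
theorem Q44321 : ∀ i, i < 44321 → P i := stepQ 44320 Q44320 (allL N44320 (tt N25441 (iv1 F308475)) (tt N22670 (iv0 D74381)) (tt N39917 (iv2 F245846)) (tt N78088 D156394) (tt N25799 (iv4 F309276)) (tt N22696 F245845) (tt N42857 (iv6 F307574)) (tt N39916 (iv7 F245847)))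
theorem Q44322 : ∀ i, i < 44322 → P i := stepQ 44321 Q44321 (allL N44321 (tt N22670 (iv1 D74382)) (tt N25441 (iv0 F308474)) (tt N39916 F245848) (tt N42843 (iv3 F309277)) (tt N25798 (iv4 F309278)) (tt N22697 (iv5 F245850)) (tt N78089 D156402) (tt N39917 F245849))
theorem Q44323 : ∀ i, i < 44323 → P i := stepQ 44322 Q44322 (allL N44322 (tt N78090 D156440) (tt N57517 (iv0 F166990)) (tt N39278 F111635) (tt N34027 F318492) (tt N22671 (iv4 D74396)) (tt N49136 (iv5 F327682)) (tt N33253 F111636) (tt N39279 F111637))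
theorem Q44324 : ∀ i, i < 44324 → P i := stepQ 44323 Q44323 (allL N44323 (tt N78091 D156448) (tt N52970 (iv0 F328331)) (tt N78092 D156450) (tt N22672 (iv3 D74399)) (tt N30011 F111641) (tt N38556 F111642) (tt N78093 D156451) (tt N37655 F111643))
theorem Q44325 : ∀ i, i < 44325 → P i := stepQ 44324 Q44324 (allL N44324 (tt N37434 F111646) (tt N38480 (iv0 F111645)) (tt N39192 F330995) (tt N78093 (iv3 F245959)) (tt N22673 F111644) (tt N39189 (iv5 F330999)) (tt N22672 (iv6 D74400)) (tt N39196 F330996))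
theorem Q44326 : ∀ i, i < 44326 → P i := stepQ 44325 Q44325 (allL N44325 (tt N58954 (iv1 F171561)) (tt N22673 (iv0 D74401)) (tt N58953 (iv2 F171558)) (tt N35970 F171559) (tt N69735 (iv4 F216008)) (tt N67123 (iv5 F206703)) (tt N67225 (iv6 F206955)) (tt N37813 F171560))
theorem Q44327 : ∀ i, i < 44327 → P i := stepQ 44326 Q44326 (allL N44326 (tt N74731 (iv1 F228695)) (tt N74054 (iv0 F226748)) (tt N38691 F111647) (tt N30015 F111648) (tt N39902 (iv4 F111650)) (tt N22673 (iv5 D74402)) (tt N22674 F111649) (tt N58081 (iv7 F168852)))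
theorem Q44328 : ∀ i, i < 44328 → P i := stepQ 44327 Q44327 (allL N44327 (tt N37813 (iv1 F111653)) (tt N58953 F171554) (tt N58954 (iv2 F171552)) (tt N30016 F111651) (tt N39196 F330993) (tt N58081 (iv5 F168851)) (tt N37660 F111652) (tt N22673 (iv7 D74403)))
theorem Q44329 : ∀ i, i < 44329 → P i := stepQ 44328 Q44328 (allL N44328 (tt N78094 D156453) (tt N78095 D156454) (tt N78096 D156455) (tt N22675 (iv3 D74404)) (tt N38171 F111654) (tt N61026 (iv5 F329102)) (tt N53901 (iv6 F356134)) (tt N39858 F111655))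
theorem Q44330 : ∀ i, i < 44330 → P i := stepQ 44329 Q44329 (allL N44329 (tt N78097 D156458) (tt N78098 D156459) (tt N78099 D156460) (tt N22676 (iv3 D74406)) (tt N39269 F111661) (tt N34967 (iv5 F329209)) (tt N34970 F328881) (tt N39863 F111662))
theorem Q44331 : ∀ i, i < 44331 → P i := stepQ 44330 Q44330 (allL N44330 (tt N78100 D156463) (tt N78101 D156464) (tt N78102 D156465) (tt N22677 (iv3 D74408)) (tt N41199 F111669) (tt N72256 (iv5 F221798)) (tt N72088 (iv6 F329405)) (tt N39865 F111670))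
theorem Q44332 : ∀ i, i < 44332 → P i := stepQ 44331 Q44331 (allL N44331 (tt N22678 (iv1 D74411)) (tt N39867 F111677) (tt N35420 F315857) (tt N78103 D156473) (tt N35416 (iv4 F312354)) (tt N72250 (iv5 F221789)) (tt N78104 D156474) (tt N39866 F315858))
theorem Q44333 : ∀ i, i < 44333 → P i := stepQ 44332 Q44332 (allL N44332 (tt N39866 (iv1 F111678)) (tt N35420 (iv0 F313388)) (tt N22678 (iv2 D74412)) (tt N59284 (iv3 F172465)) (tt N22685 F111674) (tt N78105 D156475) (tt N78106 D156476) (tt N39867 F111675))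
theorem Q44334 : ∀ i, i < 44334 → P i := stepQ 44333 Q44333 (allL N44333 (tt N65327 (iv1 F313392)) (tt N73387 (iv0 F337093)) (tt N78105 (iv2 F245997)) (tt N22679 F111679) (tt N78107 D156479) (tt N22678 (iv5 D74413)) (tt N78108 D156480) (tt N39868 F111680))
theorem Q44335 : ∀ i, i < 44335 → P i := stepQ 44334 Q44334 (allL N44334 (tt N78109 D156481) (tt N40120 (iv0 F340952)) (tt N78106 (iv2 F246003)) (tt N22680 F111681) (tt N22686 F111682) (tt N78110 D156483) (tt N22678 (iv6 D74414)) (tt N74318 (iv7 F227312)))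
theorem Q44336 : ∀ i, i < 44336 → P i := stepQ 44335 Q44335 (allL N44335 (tt N31537 (iv1 F111684)) (tt N22679 (iv0 D74415)) (tt N31402 (iv2 F111685)) (tt N78111 D156484) (tt N58048 (iv4 F168755)) (tt N22708 F111683) (tt N64812 (iv6 F341504)) (tt N39870 (iv7 F111686)))
theorem Q44337 : ∀ i, i < 44337 → P i := stepQ 44336 Q44336 (allL N44336 (tt N22679 (iv1 D74416)) (tt N31537 F111687) (tt N39870 (iv2 F111691)) (tt N78112 D156486) (tt N31385 F111690) (tt N22709 F111689) (tt N78113 D156487) (tt N31402 F111688))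
theorem Q44338 : ∀ i, i < 44338 → P i := stepQ 44337 Q44337 (allL N44337 (tt N34870 F340881) (tt N34490 (iv0 F340882)) (tt N34867 F356484) (tt N78108 (iv3 F246015)) (tt N34885 F328741) (tt N78114 D156490) (tt N22679 (iv6 D74417)) (tt N34868 (iv7 F356488)))
theorem Q44339 : ∀ i, i < 44339 → P i := stepQ 44338 Q44338 (allL N44338 (tt N40097 (iv1 F111696)) (tt N22680 (iv0 D74418)) (tt N40113 (iv2 F111693)) (tt N78115 D156492) (tt N57348 (iv4 F166269)) (tt N78116 D156493) (tt N40105 (iv6 F111695)) (tt N33262 F111694))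
theorem Q44340 : ∀ i, i < 44340 → P i := stepQ 44339 Q44339 (allL N44339 (tt N78117 D156494) (tt N78118 D156495) (tt N59287 (iv2 F172476)) (tt N78110 (iv3 F246016)) (tt N78119 D156496) (tt N22680 (iv5 D74419)) (tt N78114 (iv6 F246025)) (tt N78120 D156497))
theorem Q44341 : ∀ i, i < 44341 → P i := stepQ 44340 Q44340 (allL N44340 (tt N33262 (iv1 F111700)) (tt N40113 F111701) (tt N40097 F111697) (tt N74318 (iv3 F227310)) (tt N22682 F111698) (tt N78120 (iv5 F246042)) (tt N39874 F111699) (tt N22680 (iv7 D74420)))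
theorem Q44342 : ∀ i, i < 44342 → P i := stepQ 44341 Q44341 (allL N44341 (tt N40094 (iv1 F111707)) (tt N38465 (iv0 F111706)) (tt N40096 F111703) (tt N78121 D156498) (tt N22681 (iv4 D74421)) (tt N78122 D156499) (tt N40078 F111704) (tt N33260 F111705))
theorem Q44343 : ∀ i, i < 44343 → P i := stepQ 44342 Q44342 (allL N44342 (tt N65290 (iv1 F314746)) (tt N65288 (iv0 F314740)) (tt N39887 (iv2 F212190)) (tt N78123 D156505) (tt N22683 (iv4 D74424)) (tt N75998 (iv5 F330635)) (tt N76201 (iv6 F313382)) (tt N39883 F212184))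
theorem Q44344 : ∀ i, i < 44344 → P i := stepQ 44343 Q44343 (allL N44343 (tt N78124 D156512) (tt N65376 (iv0 F312528)) (tt N67059 (iv2 F312530)) (tt N22684 (iv3 D74428)) (tt N78125 D156514) (tt N24761 (iv5 F312533)) (tt N78126 D156515) (tt N39886 (iv7 F212178)))
theorem Q44345 : ∀ i, i < 44345 → P i := stepQ 44344 Q44344 (allL N44344 (tt N65288 (iv1 F314741)) (tt N65290 (iv0 F314745)) (tt N39883 (iv2 F212181)) (tt N78127 D156516) (tt N22684 (iv4 D74429)) (tt N78128 D156517) (tt N74922 (iv6 F322559)) (tt N39887 (iv7 F212179)))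
theorem Q44346 : ∀ i, i < 44346 → P i := stepQ 44345 Q44345 (allL N44345 (tt N29737 F320778) (tt N74978 (iv0 F322551)) (tt N39885 (iv2 F212183)) (tt N78126 (iv3 F246109)) (tt N74922 (iv4 F322558)) (tt N41665 F320779) (tt N22684 (iv6 D74431)) (tt N62851 (iv7 F320852)))
theorem Q44347 : ∀ i, i < 44347 → P i := stepQ 44346 Q44346 (allL N44346 (tt N40276 (iv1 F332415)) (tt N33277 F332412) (tt N22686 F111715) (tt N25442 F311026) (tt N78106 (iv4 F246004)) (tt N25440 (iv5 F312801)) (tt N22685 (iv6 D74433)) (tt N40274 F341106))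
theorem Q44348 : ∀ i, i < 44348 → P i := stepQ 44347 Q44347 (allL N44347 (tt N40274 (iv1 F341098)) (tt N22686 (iv0 D74438)) (tt N40276 (iv2 F341099)) (tt N78129 D156540) (tt N78130 D156541) (tt N78131 D156542) (tt N40263 F341097) (tt N33277 (iv7 F341100)))
theorem Q44349 : ∀ i, i < 44349 → P i := stepQ 44348 Q44348 (allL N44348 (tt N43348 (iv1 F316059)) (tt N47998 (iv0 F316060)) (tt N78132 D156566) (tt N22688 (iv3 D74447)) (tt N77909 (iv4 F245273)) (tt N68289 (iv5 F313918)) (tt N40183 F111741) (tt N33241 F111742))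
theorem Q44350 : ∀ i, i < 44350 → P i := stepQ 44349 Q44349 (allL N44349 (tt N40212 F111745) (tt N40211 F111746) (tt N39922 F111743) (tt N68289 (iv3 F313917)) (tt N42872 (iv4 F313865)) (tt N22688 (iv5 D74448)) (tt N22847 (iv6 F313920)) (tt N33242 F111744))
theorem Q44351 : ∀ i, i < 44351 → P i := stepQ 44350 Q44350 (allL N44350 (tt N78133 D156569) (tt N78134 D156570) (tt N73026 (iv2 F345280)) (tt N22689 (iv3 D74449)) (tt N39504 F111747) (tt N38822 F111748) (tt N62336 (iv6 F345297)) (tt N38663 F111749))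
theorem Q44352 : ∀ i, i < 44352 → P i := stepQ 44351 Q44351 (allL N44351 (tt N40300 (iv1 F168104)) (tt N33465 (iv0 F168105)) (tt N38716 F111750) (tt N62336 (iv3 F345295)) (tt N38665 F111751) (tt N62335 (iv5 F345293)) (tt N22689 (iv6 D74450)) (tt N33294 F111752))
theorem Q44353 : ∀ i, i < 44353 → P i := stepQ 44352 Q44352 (allL N44352 (tt N39961 (iv1 F111761)) (tt N39960 F111759) (tt N22690 (iv2 D74453)) (tt N57743 (iv3 F167675)) (tt N22698 F111757) (tt N78135 D156579) (tt N78136 D156580) (tt N39962 F111758))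
theorem Q44354 : ∀ i, i < 44354 → P i := stepQ 44353 Q44353 (allL N44353 (tt N65257 (iv1 F312820)) (tt N65233 (iv0 F312828)) (tt N78135 (iv2 F246242)) (tt N22691 F111762) (tt N78137 D156581) (tt N22690 (iv5 D74454)) (tt N78138 D156582) (tt N39963 F111763))
theorem Q44355 : ∀ i, i < 44355 → P i := stepQ 44354 Q44354 (allL N44354 (tt N75503 (iv1 F316989)) (tt N75501 (iv0 F316990)) (tt N78136 (iv2 F246246)) (tt N22692 F111764) (tt N22700 F111765) (tt N78139 D156585) (tt N22690 (iv6 D74455)) (tt N42919 (iv7 F316991)))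
theorem Q44356 : ∀ i, i < 44356 → P i := stepQ 44355 Q44355 (allL N44355 (tt N59935 (iv1 F343779)) (tt N78140 D156588) (tt N57746 (iv2 F167678)) (tt N78138 (iv3 F246250)) (tt N38786 F111766) (tt N59452 (iv5 F336678)) (tt N22691 (iv6 D74456)) (tt N65548 (iv7 F336673)))
theorem Q44357 : ∀ i, i < 44357 → P i := stepQ 44356 Q44356 (allL N44356 (tt N57749 (iv1 F167685)) (tt N22692 (iv0 D74457)) (tt N40712 (iv2 F171752)) (tt N78141 D156591) (tt N38703 F171755) (tt N59558 (iv5 F337415)) (tt N40672 F171756) (tt N57747 (iv7 F171754)))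
theorem Q44358 : ∀ i, i < 44358 → P i := stepQ 44357 Q44357 (allL N44357 (tt N22692 (iv1 D74458)) (tt N57749 F167684) (tt N57747 F171753) (tt N78142 D156593) (tt N38704 (iv4 F171750)) (tt N78143 D156594) (tt N78144 D156595) (tt N40712 F171751))
theorem Q44359 : ∀ i, i < 44359 → P i := stepQ 44358 Q44358 (allL N44358 (tt N30839 (iv1 F336680)) (tt N59337 (iv0 F336681)) (tt N57748 (iv2 F167680)) (tt N78139 (iv3 F246251)) (tt N40322 (iv4 F336687)) (tt N22692 (iv5 D74459)) (tt N59452 F336679) (tt N58991 (iv7 F336689)))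
theorem Q44360 : ∀ i, i < 44360 → P i := stepQ 44359 Q44359 (allL N44359 (tt N57747 (iv1 F167679)) (tt N40712 (iv0 F167339)) (tt N57749 (iv2 F167682)) (tt N42919 F319260) (tt N22695 F111767) (tt N58991 (iv5 F336688)) (tt N39970 F111768) (tt N22692 (iv7 D74460)))
theorem Q44361 : ∀ i, i < 44361 → P i := stepQ 44360 Q44360 (allL N44360 (tt N30186 F163596) (tt N29932 (iv0 F163597)) (tt N30184 (iv2 F111770)) (tt N22693 (iv3 D74461)) (tt N59072 (iv4 F171976)) (tt N78145 D156597) (tt N29947 (iv6 F163594)) (tt N30185 (iv7 F111771)))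
theorem Q44362 : ∀ i, i < 44362 → P i := stepQ 44361 Q44361 (allL N44361 (tt N31686 F336728) (tt N30759 F111783) (tt N40723 F111773) (tt N78146 D156598) (tt N22693 (iv4 D74462)) (tt N78147 D156599) (tt N40676 F111774) (tt N57750 (iv7 F167687)))
theorem Q44363 : ∀ i, i < 44363 → P i := stepQ 44362 Q44362 (allL N44362 (tt N40359 F111778) (tt N30932 (iv0 F111779)) (tt N40724 F111775) (tt N78145 (iv3 F246273)) (tt N72950 (iv4 F336735)) (tt N22693 (iv5 D74463)) (tt N39936 F111776) (tt N31007 F111777))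
theorem Q44364 : ∀ i, i < 44364 → P i := stepQ 44363 Q44363 (allL N44363 (tt N30732 (iv1 F165262)) (tt N39290 F165263) (tt N39289 (iv2 F164897)) (tt N22694 (iv3 D74464)) (tt N75407 (iv4 F344151)) (tt N59674 (iv5 F173466)) (tt N71615 (iv6 F220303)) (tt N39288 (iv7 F163554)))
theorem Q44365 : ∀ i, i < 44365 → P i := stepQ 44364 Q44364 (allL N44364 (tt N30759 F111782) (tt N31686 F336727) (tt N57750 (iv2 F167686)) (tt N78148 D156602) (tt N22694 (iv4 D74465)) (tt N58173 (iv5 F336732)) (tt N78149 D156604) (tt N40723 F111781))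
theorem Q44366 : ∀ i, i < 44366 → P i := stepQ 44365 Q44365 (allL N44365 (tt N31915 (iv1 F163910)) (tt N40302 F111788) (tt N40415 F111784) (tt N71615 (iv3 F220302)) (tt N78149 (iv4 F246295)) (tt N31634 F111785) (tt N22694 (iv6 D74466)) (tt N40418 F111786))
theorem Q44367 : ∀ i, i < 44367 → P i := stepQ 44366 Q44366 (allL N44366 (tt N30661 F221948) (tt N77997 (iv0 F245509)) (tt N48507 F314601) (tt N22696 (iv3 D74468)) (tt N44414 F112015) (tt N78088 F245868) (tt N78150 D156605) (tt N39974 F221949))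
theorem Q44368 : ∀ i, i < 44368 → P i := stepQ 44367 Q44367 (allL N44367 (tt N35375 F314702) (tt N35411 F314703) (tt N35409 F314704) (tt N78151 D156607) (tt N22696 (iv4 D74469)) (tt N78152 D156608) (tt N78153 D156609) (tt N35408 F314705))
theorem Q44369 : ∀ i, i < 44369 → P i := stepQ 44368 Q44368 (allL N44368 (tt N40734 (iv1 F321303)) (tt N33468 F327173) (tt N39976 F221984) (tt N78150 (iv3 F246300)) (tt N78153 (iv4 F246307)) (tt N78154 D156612) (tt N22696 (iv6 D74471)) (tt N33315 F319281))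
theorem Q44370 : ∀ i, i < 44370 → P i := stepQ 44369 Q44369 (allL N44369 (tt N35411 (iv1 F312320)) (tt N35375 (iv0 F312321)) (tt N35408 (iv2 F312318)) (tt N57755 (iv3 F167697)) (tt N22697 (iv4 D74474)) (tt N78155 D156615) (tt N33317 F319668) (tt N35409 (iv7 F312323)))
theorem Q44371 : ∀ i, i < 44371 → P i := stepQ 44370 Q44370 (allL N44370 (tt N35108 F312132) (tt N35105 (iv0 F312248)) (tt N22699 F111791) (tt N39944 F111792) (tt N64905 (iv4 F313360)) (tt N22698 (iv5 D74477)) (tt N43785 (iv6 F313113)) (tt N36431 (iv7 F312247)))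
theorem Q44372 : ∀ i, i < 44372 → P i := stepQ 44371 Q44371 (allL N44371 (tt N40757 F322976) (tt N42920 (iv0 F317006)) (tt N22700 F111796) (tt N39945 F111797) (tt N78136 (iv4 F246247)) (tt N73143 (iv5 F324398)) (tt N22698 (iv6 D74478)) (tt N36497 (iv7 F316995)))
theorem Q44373 : ∀ i, i < 44373 → P i := stepQ 44372 Q44372 (allL N44372 (tt N36497 (iv1 F316994)) (tt N22700 (iv0 D74483)) (tt N40757 F322977) (tt N78156 D156636) (tt N78157 D156637) (tt N75780 (iv5 F316998)) (tt N40739 F319265) (tt N42920 (iv7 F317000)))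
theorem Q44374 : ∀ i, i < 44374 → P i := stepQ 44373 Q44373 (allL N44373 (tt N22700 (iv1 D74484)) (tt N36497 (iv0 F316993)) (tt N42920 (iv2 F316999)) (tt N74971 (iv3 F330043)) (tt N78158 D156642) (tt N74970 (iv5 F330038)) (tt N78159 D156644) (tt N40757 F322981))
theorem Q44375 : ∀ i, i < 44375 → P i := stepQ 44374 Q44374 (allL N44374 (tt N62230 (iv1 F330018)) (tt N73144 (iv0 F330019)) (tt N73143 (iv2 F324396)) (tt N22704 F111803) (tt N75331 (iv4 F317007)) (tt N22700 (iv5 D74485)) (tt N49043 F314690) (tt N41600 (iv7 F317008)))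
theorem Q44376 : ∀ i, i < 44376 → P i := stepQ 44375 Q44375 (allL N44375 (tt N29747 (iv1 F313115)) (tt N23107 F310863) (tt N36368 (iv2 F311030)) (tt N49043 (iv3 F313114)) (tt N68952 (iv4 F321654)) (tt N22701 (iv5 D74489)) (tt N22704 F111808) (tt N33495 (iv7 F311029)))
theorem Q44377 : ∀ i, i < 44377 → P i := stepQ 44376 Q44376 (allL N44376 (tt N23156 (iv1 F317389)) (tt N35476 (iv0 F317390)) (tt N36384 (iv2 F317391)) (tt N22702 (iv3 D74491)) (tt N42341 (iv4 F317392)) (tt N41662 (iv5 F317393)) (tt N33365 F111815) (tt N36383 (iv7 F317314)))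
theorem Q44378 : ∀ i, i < 44378 → P i := stepQ 44377 Q44377 (allL N44377 (tt N30659 (iv1 F317397)) (tt N33893 (iv0 F317357)) (tt N74736 (iv2 F318624)) (tt N22703 (iv3 D74493)) (tt N78160 D156662) (tt N61449 (iv5 F333647)) (tt N74732 (iv6 F318641)) (tt N39950 F111821))
theorem Q44379 : ∀ i, i < 44379 → P i := stepQ 44378 Q44378 (allL N44378 (tt N40195 F111824) (tt N40197 F111825) (tt N39951 F111822) (tt N61449 (iv3 F333646)) (tt N45577 (iv4 F317398)) (tt N22703 (iv5 D74494)) (tt N48245 (iv6 F317399)) (tt N35493 (iv7 F317312)))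
theorem Q44380 : ∀ i, i < 44380 → P i := stepQ 44379 Q44379 (allL N44379 (tt N47159 (iv1 F324825)) (tt N47171 (iv0 F324828)) (tt N39953 F111826) (tt N78161 D156666) (tt N22704 (iv4 D74495)) (tt N46363 F323546) (tt N68952 (iv6 F321655)) (tt N41602 (iv7 F317406)))
theorem Q44381 : ∀ i, i < 44381 → P i := stepQ 44380 Q44380 (allL N44380 (tt N39331 F176832) (tt N39099 (iv0 F166184)) (tt N39306 (iv2 F161370)) (tt N76257 (iv3 F320467)) (tt N22705 (iv4 D74499)) (tt N78162 D156668) (tt N33368 F111834) (tt N39308 (iv7 F161307)))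
theorem Q44382 : ∀ i, i < 44382 → P i := stepQ 44381 Q44381 (allL N44381 (tt N31176 F161375) (tt N31143 (iv0 F161377)) (tt N39307 F161380) (tt N22706 F111836) (tt N78163 D156669) (tt N22705 (iv5 D74500)) (tt N39955 F111837) (tt N31236 F111838))
theorem Q44383 : ∀ i, i < 44383 → P i := stepQ 44382 Q44382 (allL N44382 (tt N23948 (iv1 F325071)) (tt N24648 (iv0 F325075)) (tt N24885 F323841) (tt N24675 (iv3 F325079)) (tt N22706 (iv4 D74503)) (tt N46120 (iv5 F324836)) (tt N24885 F323842) (tt N31239 F111847))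
theorem Q44384 : ∀ i, i < 44384 → P i := stepQ 44383 Q44383 (allL N44383 (tt N78164 D156684) (tt N78165 D156685) (tt N78166 D156686) (tt N22708 (iv3 D74512)) (tt N39293 F111871) (tt N78111 (iv5 F246017)) (tt N31396 F111872) (tt N39923 F111873))
theorem Q44385 : ∀ i, i < 44385 → P i := stepQ 44384 Q44384 (allL N44384 (tt N78167 D156687) (tt N78168 D156688) (tt N71700 (iv2 F338244)) (tt N22709 (iv3 D74513)) (tt N31467 F111874) (tt N78112 (iv5 F246021)) (tt N70950 (iv6 F338261)) (tt N31401 F111875))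
theorem Q44386 : ∀ i, i < 44386 → P i := stepQ 44385 Q44385 (allL N44385 (tt N33471 (iv1 F111890)) (tt N40054 (iv0 F168212)) (tt N39924 F111876) (tt N70950 (iv3 F338259)) (tt N31403 F111877) (tt N70949 (iv5 F338271)) (tt N22709 (iv6 D74514)) (tt N31448 F111878))
theorem Q44387 : ∀ i, i < 44387 → P i := stepQ 44386 Q44386 (allL N44386 (tt N22710 (iv1 D74516)) (tt N39926 F111902) (tt N25173 (iv2 F316921)) (tt N78169 D156694) (tt N25172 F314654) (tt N73387 (iv5 F337096)) (tt N78170 D156695) (tt N39925 F222093))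
theorem Q44388 : ∀ i, i < 44388 → P i := stepQ 44387 Q44387 (allL N44387 (tt N39925 (iv1 F111903)) (tt N25173 (iv0 F316919)) (tt N22710 (iv2 D74517)) (tt N49819 (iv3 F329726)) (tt N22718 F111899) (tt N49812 (iv5 F337119)) (tt N42908 (iv6 F317010)) (tt N39926 F111900))
theorem Q44389 : ∀ i, i < 44389 → P i := stepQ 44388 Q44388 (allL N44388 (tt N65292 (iv1 F315853)) (tt N72163 (iv0 F221505)) (tt N49812 (iv2 F337117)) (tt N22711 F111904) (tt N43923 (iv4 F328914)) (tt N22710 (iv5 D74518)) (tt N43922 (iv6 F328915)) (tt N39927 F111905))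
theorem Q44390 : ∀ i, i < 44390 → P i := stepQ 44389 Q44389 (allL N44389 (tt N49774 (iv1 F335630)) (tt N49773 (iv0 F335626)) (tt N46759 F329680) (tt N43922 F329259) (tt N38530 F111908) (tt N46724 F329681) (tt N22711 (iv6 D74520)) (tt N46757 (iv7 F329805)))
theorem Q44391 : ∀ i, i < 44391 → P i := stepQ 44390 Q44390 (allL N44390 (tt N72455 (iv1 F222533)) (tt N49449 F329237) (tt N27001 F335658) (tt N42917 F319658) (tt N78171 D156711) (tt N22712 (iv5 D74523)) (tt N46724 (iv6 F329530)) (tt N72599 (iv7 F222711)))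
theorem Q44392 : ∀ i, i < 44392 → P i := stepQ 44391 Q44391 (allL N44391 (tt N40554 (iv1 F171641)) (tt N53516 (iv0 F329239)) (tt N53523 (iv2 F329689)) (tt N33912 F319659) (tt N22715 F111909) (tt N72599 (iv5 F222712)) (tt N39934 F111910) (tt N22712 (iv7 D74524)))
theorem Q44393 : ∀ i, i < 44393 → P i := stepQ 44392 Q44392 (allL N44392 (tt N51205 (iv1 F335379)) (tt N31553 (iv0 F165805)) (tt N59290 (iv2 F172501)) (tt N53879 (iv3 F329910)) (tt N22713 (iv4 D74525)) (tt N25810 F329833) (tt N78172 D156714) (tt N40565 F111911))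
theorem Q44394 : ∀ i, i < 44394 → P i := stepQ 44393 Q44393 (allL N44393 (tt N40056 F111915) (tt N38850 (iv0 F168239)) (tt N40575 F111912) (tt N60294 (iv3 F176157)) (tt N78172 (iv4 F246507)) (tt N38723 F111913) (tt N22713 (iv6 D74526)) (tt N40524 F111914))
theorem Q44395 : ∀ i, i < 44395 → P i := stepQ 44394 Q44394 (allL N44394 (tt N31553 F167967) (tt N51205 (iv0 F335378)) (tt N40565 F111917) (tt N78173 D156715) (tt N22714 (iv4 D74527)) (tt N25809 F329834) (tt N40521 F111918) (tt N59290 (iv7 F172502)))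
theorem Q44396 : ∀ i, i < 44396 → P i := stepQ 44395 Q44395 (allL N44395 (tt N35475 F312150) (tt N36414 F312151) (tt N36618 F312152) (tt N22716 (iv3 D74529)) (tt N44406 F111977) (tt N37213 F208889) (tt N33355 F318053) (tt N36619 F312153))
theorem Q44397 : ∀ i, i < 44397 → P i := stepQ 44396 Q44396 (allL N44396 (tt N48070 (iv1 F314658)) (tt N42978 (iv0 F314643)) (tt N39943 F212029) (tt N78174 D156718) (tt N22716 (iv4 D74530)) (tt N78175 D156719) (tt N33356 F319670) (tt N39940 (iv7 F212039)))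
theorem Q44398 : ∀ i, i < 44398 → P i := stepQ 44397 Q44397 (allL N44397 (tt N76678 (iv1 F315452)) (tt N30657 F245502) (tt N48021 F313375) (tt N22717 (iv3 D74534)) (tt N44418 (iv4 F112061)) (tt N75819 F313376) (tt N78176 D156725) (tt N39942 F212021))
theorem Q44399 : ∀ i, i < 44399 → P i := stepQ 44398 Q44398 (allL N44398 (tt N42978 (iv1 F314644)) (tt N48070 (iv0 F314657)) (tt N39940 F212040) (tt N59291 (iv3 F172505)) (tt N22717 (iv4 D74535)) (tt N78177 D156726) (tt N78178 D156727) (tt N39943 F212022))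
theorem Q44400 : ∀ i, i < 44400 → P i := stepQ 44399 Q44399 (allL N44399 (tt N33473 F318059) (tt N40601 (iv0 F320215)) (tt N39941 (iv2 F212044)) (tt N78176 (iv3 F246530)) (tt N78178 (iv4 F246534)) (tt N47729 (iv5 F321748)) (tt N22717 (iv6 D74537)) (tt N33359 F319671))
theorem Q44401 : ∀ i, i < 44401 → P i := stepQ 44400 Q44400 (allL N44400 (tt N39102 F167837) (tt N39339 F167838) (tt N39322 F111955) (tt N36255 F319660) (tt N22721 (iv4 D74555)) (tt N78179 D156767) (tt N33332 F111956) (tt N39320 F111957))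
theorem Q44402 : ∀ i, i < 44402 → P i := stepQ 44401 Q44401 (allL N44401 (tt N36620 (iv1 F314326)) (tt N78180 D156773) (tt N39993 F214170) (tt N78181 D156774) (tt N22722 (iv4 D74559)) (tt N67452 (iv5 F208895)) (tt N47749 (iv6 F319069)) (tt N39991 F214155))
theorem Q44403 : ∀ i, i < 44403 → P i := stepQ 44402 Q44402 (allL N44402 (tt N40004 F214158) (tt N40008 F214159) (tt N40003 F214165) (tt N22723 (iv3 D74563)) (tt N78182 D156780) (tt N68022 (iv5 F208903)) (tt N33374 F322254) (tt N39992 (iv7 F214168)))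
theorem Q44404 : ∀ i, i < 44404 → P i := stepQ 44403 Q44403 (allL N44403 (tt N78180 (iv1 F246671)) (tt N36620 (iv0 F314325)) (tt N39991 (iv2 F214156)) (tt N56840 (iv3 F164907)) (tt N22723 (iv4 D74564)) (tt N67449 (iv5 F208891)) (tt N33375 F322255) (tt N39993 (iv7 F214169)))
theorem Q44405 : ∀ i, i < 44405 → P i := stepQ 44404 Q44404 (allL N44404 (tt N39997 F111966) (tt N39996 F111967) (tt N22725 F111964) (tt N59068 (iv3 F171966)) (tt N22724 (iv4 D74567)) (tt N59500 (iv5 F348793)) (tt N77105 (iv6 F316139)) (tt N39995 F111965))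
theorem Q44406 : ∀ i, i < 44406 → P i := stepQ 44405 Q44405 (allL N44405 (tt N39995 (iv1 F111975)) (tt N22725 (iv0 D74570)) (tt N39997 F212011) (tt N77938 (iv3 F245365)) (tt N65370 (iv4 F309720)) (tt N67455 F208888) (tt N78183 D156794) (tt N39996 (iv7 F212010)))
theorem Q44407 : ∀ i, i < 44407 → P i := stepQ 44406 Q44406 (allL N44406 (tt N22725 (iv1 D74571)) (tt N39995 F111976) (tt N39996 (iv2 F212012)) (tt N78184 D156795) (tt N44395 (iv4 F111977)) (tt N67454 F208893) (tt N30311 F320212) (tt N39997 F212014))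
theorem Q44408 : ∀ i, i < 44408 → P i := stepQ 44407 Q44407 (allL N44407 (tt N59669 (iv1 F343585)) (tt N78185 D156798) (tt N59500 (iv2 F348791)) (tt N30193 F111978) (tt N78186 D156799) (tt N22725 (iv5 D74572)) (tt N59353 (iv6 F348768)) (tt N39998 F111979))
theorem Q44409 : ∀ i, i < 44409 → P i := stepQ 44408 Q44408 (allL N44408 (tt N77103 (iv1 F346812)) (tt N77102 (iv0 F353404)) (tt N77105 (iv2 F316138)) (tt N30194 F111980) (tt N22727 F111981) (tt N78187 D156803) (tt N22725 (iv6 D74573)) (tt N63199 (iv7 F317570)))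
theorem Q44410 : ∀ i, i < 44410 → P i := stepQ 44409 Q44409 (allL N44409 (tt N52593 (iv1 F334483)) (tt N74698 (iv0 F324925)) (tt N74697 (iv2 F323817)) (tt N22729 F111985) (tt N78188 D156826) (tt N22727 (iv5 D74579)) (tt N74845 F312337) (tt N41957 (iv7 F314721)))
theorem Q44411 : ∀ i, i < 44411 → P i := stepQ 44410 Q44410 (allL N44410 (tt N34714 F320072) (tt N34726 (iv0 F321811)) (tt N34725 (iv2 F321809)) (tt N78189 D156836) (tt N22729 (iv4 D74585)) (tt N24123 (iv5 F321815)) (tt N66755 (iv6 F312202)) (tt N34724 (iv7 F321808)))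
theorem Q44412 : ∀ i, i < 44412 → P i := stepQ 44411 Q44411 (allL N44411 (tt N65329 (iv1 F316036)) (tt N60234 (iv0 F222245)) (tt N25164 (iv2 F314308)) (tt N78190 D156840) (tt N22730 (iv4 D74588)) (tt N78191 D156841) (tt N33392 F321144) (tt N39977 F222088))
theorem Q44413 : ∀ i, i < 44413 → P i := stepQ 44412 Q44412 (allL N44412 (tt N40039 F245869) (tt N22743 F245870) (tt N25165 (iv2 F309705)) (tt N45216 (iv3 F311240)) (tt N76726 (iv4 F311241)) (tt N22730 (iv5 D74589)) (tt N76591 (iv6 F311242)) (tt N39978 F222090))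
theorem Q44414 : ∀ i, i < 44414 → P i := stepQ 44413 Q44413 (allL N44413 (tt N39980 (iv1 F112013)) (tt N22731 (iv0 D74599)) (tt N39983 (iv2 F221942)) (tt N78192 D156869) (tt N57682 (iv4 F167401)) (tt N78193 D156870) (tt N33400 F324394) (tt N39982 (iv7 F221946)))
theorem Q44415 : ∀ i, i < 44415 → P i := stepQ 44414 Q44414 (allL N44414 (tt N22731 (iv1 D74600)) (tt N39980 F112014) (tt N39982 F221947) (tt N74177 (iv3 F339998)) (tt N44366 (iv4 F112015)) (tt N74174 (iv5 F340019)) (tt N78194 D156874) (tt N39983 F221945))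
theorem Q44416 : ∀ i, i < 44416 → P i := stepQ 44415 Q44415 (allL N44415 (tt N78195 D156875) (tt N78196 D156876) (tt N76566 (iv2 F319045)) (tt N30378 F112016) (tt N78197 D156877) (tt N22731 (iv5 D74601)) (tt N78198 D156878) (tt N39984 F112017))
theorem Q44417 : ∀ i, i < 44417 → P i := stepQ 44416 Q44416 (allL N44416 (tt N33449 (iv1 F112045)) (tt N33448 F112046) (tt N22742 F112042) (tt N40000 F112043) (tt N77993 (iv4 F245486)) (tt N63863 (iv5 F314269)) (tt N22732 (iv6 D74616)) (tt N33408 F112044))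
theorem Q44418 : ∀ i, i < 44418 → P i := stepQ 44417 Q44417 (allL N44417 (tt N25119 (iv1 F314366)) (tt N25118 (iv0 F315026)) (tt N22734 F112050) (tt N77921 F246640) (tt N22733 (iv4 D74620)) (tt N78199 D156924) (tt N76819 (iv6 F316169)) (tt N22736 F112051))
theorem Q44419 : ∀ i, i < 44419 → P i := stepQ 44418 Q44418 (allL N44418 (tt N22736 (iv1 F112066)) (tt N22734 (iv0 D74630)) (tt N25119 F315841) (tt N48028 (iv3 F319507)) (tt N44397 F112061) (tt N78200 D156949) (tt N78201 D156950) (tt N25118 F315843))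
theorem Q44420 : ∀ i, i < 44420 → P i := stepQ 44419 Q44419 (allL N44419 (tt N22734 (iv1 D74631)) (tt N22736 F112062) (tt N25118 F315457) (tt N77817 (iv3 F245055)) (tt N57674 F219730) (tt N77889 (iv5 F245375)) (tt N33416 (iv6 F323215)) (tt N25119 F315458))
theorem Q44421 : ∀ i, i < 44421 → P i := stepQ 44420 Q44420 (allL N44420 (tt N71568 F220228) (tt N78202 D156952) (tt N78203 D156953) (tt N22734 (iv3 D74632)) (tt N25184 F318282) (tt N60212 (iv5 F245463)) (tt N78204 D156954) (tt N25120 F318283))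
theorem Q44422 : ∀ i, i < 44422 → P i := stepQ 44421 Q44421 (allL N44421 (tt N48019 (iv1 F321515)) (tt N78205 D156957) (tt N78199 (iv2 F246972)) (tt N60212 F245464) (tt N78206 D156958) (tt N22734 (iv5 D74633)) (tt N78207 D156959) (tt N25121 F318285))
theorem Q44423 : ∀ i, i < 44423 → P i := stepQ 44422 Q44422 (allL N44422 (tt N76817 (iv1 F320445)) (tt N76816 (iv0 F320446)) (tt N76819 F318286) (tt N78204 (iv3 F247027)) (tt N22735 F112063) (tt N78208 D156963) (tt N22734 (iv6 D74634)) (tt N62986 (iv7 F320447)))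
theorem Q44424 : ∀ i, i < 44424 → P i := stepQ 44423 Q44423 (allL N44423 (tt N77923 (iv1 F245327)) (tt N39504 (iv0 F112077)) (tt N77922 F246662) (tt N22736 (iv3 D74652)) (tt N65217 F317014) (tt N70870 (iv5 F247050)) (tt N63383 (iv6 F319280)) (tt N77921 (iv7 F246661)))
theorem Q44425 : ∀ i, i < 44425 → P i := stepQ 44424 Q44424 (allL N44424 (tt N78205 (iv1 F247051)) (tt N48019 (iv0 F321514)) (tt N25121 F318295) (tt N70870 F247049) (tt N78209 D157008) (tt N22736 (iv5 D74653)) (tt N78210 D157009) (tt N78199 (iv7 F246973)))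
theorem Q44426 : ∀ i, i < 44426 → P i := stepQ 44425 Q44425 (allL N44425 (tt N63835 F189778) (tt N63442 F313591) (tt N22740 F112082) (tt N70115 (iv3 F216720)) (tt N22737 (iv4 D74671)) (tt N78211 D157035) (tt N78212 D157036) (tt N63836 (iv7 F189780)))
theorem Q44427 : ∀ i, i < 44427 → P i := stepQ 44426 Q44426 (allL N44426 (tt N47978 (iv1 F315907)) (tt N43943 (iv0 F315906)) (tt N22741 F112083) (tt N40026 F112084) (tt N78212 (iv4 F247130)) (tt N33438 F112085) (tt N22737 (iv6 D74672)) (tt N63377 F313501))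
theorem Q44428 : ∀ i, i < 44428 → P i := stepQ 44427 Q44427 (allL N44427 (tt N63855 F313581) (tt N70098 F247146) (tt N63846 (iv2 F313694)) (tt N47504 (iv3 F316062)) (tt N22738 (iv4 D74675)) (tt N47400 (iv5 F316063)) (tt N43976 (iv6 F316064)) (tt N63253 (iv7 F316066)))
theorem Q44429 : ∀ i, i < 44429 → P i := stepQ 44428 Q44428 (allL N44428 (tt N70098 (iv1 F219731)) (tt N63855 F313587) (tt N63253 (iv2 F316065)) (tt N48978 (iv3 F316067)) (tt N22739 (iv4 D74680)) (tt N47399 (iv5 F316068)) (tt N36482 (iv6 F316069)) (tt N63846 (iv7 F313695)))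
theorem Q44430 : ∀ i, i < 44430 → P i := stepQ 44429 Q44429 (allL N44429 (tt N63836 (iv1 F189781)) (tt N22740 (iv0 D74683)) (tt N63835 (iv2 F212693)) (tt N78213 D157069) (tt N78214 D157070) (tt N47995 F313593) (tt N66031 (iv6 F313820)) (tt N63442 F313594))
theorem Q44431 : ∀ i, i < 44431 → P i := stepQ 44430 Q44430 (allL N44430 (tt N22740 (iv1 D74684)) (tt N63836 F189782) (tt N63442 F313595) (tt N77022 (iv3 F342646)) (tt N42807 F313596) (tt N47994 (iv5 F316075)) (tt N42805 (iv6 F316076)) (tt N63835 (iv7 F212691)))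
theorem Q44432 : ∀ i, i < 44432 → P i := stepQ 44431 Q44431 (allL N44431 (tt N78215 D157076) (tt N63534 (iv0 F342697)) (tt N78211 (iv2 F247127)) (tt N63231 (iv3 F186455)) (tt N78216 D157078) (tt N22740 (iv5 D74685)) (tt N78217 D157079) (tt N63837 (iv7 F189784)))
theorem Q44433 : ∀ i, i < 44433 → P i := stepQ 44432 Q44432 (allL N44432 (tt N63481 (iv1 F353054)) (tt N77744 (iv0 F353047)) (tt N78212 (iv2 F247128)) (tt N63232 (iv3 F186457)) (tt N22741 F112088) (tt N78218 D157082) (tt N22740 (iv6 D74686)) (tt N63865 (iv7 F315909)))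
theorem Q44434 : ∀ i, i < 44434 → P i := stepQ 44433 Q44433 (allL N44433 (tt N22741 (iv1 D74688)) (tt N63377 F313499) (tt N43943 (iv2 F315963)) (tt N43678 (iv3 F315964)) (tt N78219 D157091) (tt N34187 (iv5 F315965)) (tt N62975 (iv6 F315966)) (tt N47978 (iv7 F315967)))
theorem Q44435 : ∀ i, i < 44435 → P i := stepQ 44434 Q44434 (allL N44434 (tt N33408 (iv1 F112091)) (tt N22742 (iv0 D74690)) (tt N33449 F318414) (tt N25176 (iv3 F316174)) (tt N78220 D157096) (tt N57423 (iv5 F316175)) (tt N78221 D157098) (tt N33448 F318415))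
theorem Q44436 : ∀ i, i < 44436 → P i := stepQ 44435 Q44435 (allL N44435 (tt N22742 (iv1 D74691)) (tt N33408 F112092) (tt N33448 F318416) (tt N65272 (iv3 F316178)) (tt N78222 D157101) (tt N63250 (iv5 F316179)) (tt N63675 (iv6 F316180)) (tt N33449 F318417))
theorem Q44437 : ∀ i, i < 44437 → P i := stepQ 44436 Q44436 (allL N44436 (tt N22744 (iv1 D74702)) (tt N34323 F302967) (tt N38348 F112465) (tt N45228 (iv3 F303018)) (tt N22828 F112466) (tt N22830 (iv5 F302972)) (tt N42729 (iv6 F305345)) (tt N22829 F302968))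
theorem Q44438 : ∀ i, i < 44438 → P i := stepQ 44437 Q44437 (allL N44437 (tt N48441 (iv1 F305762)) (tt N42987 (iv0 F307052)) (tt N38349 F112113) (tt N44044 (iv3 F307193)) (tt N34254 (iv4 F306190)) (tt N22744 (iv5 D74703)) (tt N22774 F112114) (tt N43988 F305259))
theorem Q44439 : ∀ i, i < 44439 → P i := stepQ 44438 Q44438 (allL N44438 (tt N76729 (iv1 F311472)) (tt N68023 (iv0 F353867)) (tt N43535 (iv2 F311473)) (tt N22745 (iv3 D74706)) (tt N66879 (iv4 F311475)) (tt N43643 (iv5 F311477)) (tt N43447 F309248) (tt N40041 F200083))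
theorem Q44440 : ∀ i, i < 44440 → P i := stepQ 44439 Q44439 (allL N44439 (tt N42741 (iv1 F311271)) (tt N43981 F309195) (tt N40042 F200077) (tt N44033 (iv3 F311403)) (tt N41263 (iv4 F313989)) (tt N37079 F313283) (tt N22746 (iv6 D74714)) (tt N41262 (iv7 F314912)))
theorem Q44441 : ∀ i, i < 44441 → P i := stepQ 44440 Q44440 (allL N44440 (tt N78223 D157148) (tt N78224 D157149) (tt N78225 D157150) (tt N22749 (iv3 D74715)) (tt N68052 (iv4 F209073)) (tt N74234 (iv5 F227054)) (tt N78226 D157151) (tt N57643 (iv7 F167297)))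
theorem Q44442 : ∀ i, i < 44442 → P i := stepQ 44441 Q44441 (allL N44441 (tt N74228 F227046) (tt N69060 (iv0 F212658)) (tt N57645 (iv2 F167300)) (tt N78226 (iv3 F247325)) (tt N30164 F112134) (tt N57078 (iv5 F165355)) (tt N22749 (iv6 D74716)) (tt N41497 F112135))
theorem Q44443 : ∀ i, i < 44443 → P i := stepQ 44442 Q44442 (allL N44442 (tt N78227 D157152) (tt N78228 D157153) (tt N78229 D157154) (tt N22750 (iv3 D74717)) (tt N39895 F112136) (tt N74236 (iv5 F227056)) (tt N41498 F112137) (tt N57644 (iv7 F167299)))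
theorem Q44444 : ∀ i, i < 44444 → P i := stepQ 44443 Q44443 (allL N44443 (tt N57648 (iv1 F167308)) (tt N22751 (iv0 D74718)) (tt N57647 (iv2 F212176)) (tt N58357 (iv3 F332211)) (tt N36613 F316711) (tt N58356 (iv5 F343563)) (tt N78230 D157155) (tt N57646 F212177))
theorem Q44445 : ∀ i, i < 44445 → P i := stepQ 44444 Q44444 (allL N44444 (tt N22751 (iv1 D74719)) (tt N57648 F167309) (tt N57646 F212175) (tt N78231 D157156) (tt N36616 F313377) (tt N67986 (iv5 F208785)) (tt N41493 F324139) (tt N57647 (iv7 F212174)))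
theorem Q44446 : ∀ i, i < 44446 → P i := stepQ 44445 Q44445 (allL N44445 (tt N57647 F167305) (tt N57646 F167303) (tt N22751 (iv2 D74720)) (tt N59058 (iv3 F171936)) (tt N22759 F112139) (tt N67458 (iv5 F207281)) (tt N43569 (iv6 F314359)) (tt N57648 (iv7 F167307)))
theorem Q44447 : ∀ i, i < 44447 → P i := stepQ 44446 Q44446 (allL N44446 (tt N67455 (iv1 F207272)) (tt N67454 F207282) (tt N67458 (iv2 F207278)) (tt N22752 F112140) (tt N67423 (iv4 F207185)) (tt N22751 (iv5 D74721)) (tt N59441 (iv6 F354464)) (tt N57649 (iv7 F167313)))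
theorem Q44448 : ∀ i, i < 44448 → P i := stepQ 44447 Q44447 (allL N44447 (tt N78232 D157160) (tt N78233 D157161) (tt N43569 (iv2 F314358)) (tt N22753 F112141) (tt N22760 F112142) (tt N78234 D157162) (tt N22751 (iv6 D74722)) (tt N43401 (iv7 F316123)))
theorem Q44449 : ∀ i, i < 44449 → P i := stepQ 44448 Q44448 (allL N44448 (tt N78235 D157164) (tt N78236 D157165) (tt N59060 (iv2 F171940)) (tt N59441 (iv3 F354463)) (tt N56879 (iv4 F164973)) (tt N78237 D157166) (tt N22752 (iv6 D74723)) (tt N78238 D157167))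
theorem Q44450 : ∀ i, i < 44450 → P i := stepQ 44449 Q44449 (allL N44449 (tt N59064 (iv1 F171959)) (tt N22753 (iv0 D74724)) (tt N59061 F171943) (tt N78239 D157168) (tt N30169 F165073) (tt N57093 (iv5 F165375)) (tt N30230 F165074) (tt N59062 (iv7 F171948)))
theorem Q44451 : ∀ i, i < 44451 → P i := stepQ 44450 Q44450 (allL N44450 (tt N22753 (iv1 D74725)) (tt N59064 F171958) (tt N59062 F171950) (tt N78240 D157169) (tt N30170 (iv4 F112143)) (tt N57092 (iv5 F165374)) (tt N78241 D157170) (tt N59061 F171945))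
theorem Q44452 : ∀ i, i < 44452 → P i := stepQ 44451 Q44451 (allL N44451 (tt N59154 (iv1 F172221)) (tt N59157 (iv0 F172233)) (tt N59063 (iv2 F171951)) (tt N78234 (iv3 F247334)) (tt N78242 D157171) (tt N22753 (iv5 D74726)) (tt N78237 (iv6 F247338)) (tt N78243 D157172))
theorem Q44453 : ∀ i, i < 44453 → P i := stepQ 44452 Q44452 (allL N44452 (tt N59062 (iv1 F171947)) (tt N59061 F171946) (tt N59064 (iv2 F171955)) (tt N43401 F318355) (tt N22756 F112144) (tt N78243 (iv5 F247344)) (tt N41264 F112145) (tt N22753 (iv7 D74727)))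
theorem Q44454 : ∀ i, i < 44454 → P i := stepQ 44453 Q44453 (allL N44453 (tt N38440 (iv1 F215967)) (tt N38407 (iv0 F112151)) (tt N38438 F112148) (tt N22754 (iv3 D74728)) (tt N59218 (iv4 F172346)) (tt N38695 F112152) (tt N30369 F112146) (tt N38439 F112147))
theorem Q44455 : ∀ i, i < 44455 → P i := stepQ 44454 Q44454 (allL N44454 (tt N56811 (iv1 F164843)) (tt N56358 F164840) (tt N56808 F164836) (tt N78244 D157173) (tt N22754 (iv4 D74729)) (tt N66795 (iv5 F339918)) (tt N30370 F112158) (tt N56809 F164835))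
theorem Q44456 : ∀ i, i < 44456 → P i := stepQ 44455 Q44455 (allL N44455 (tt N35541 F166216) (tt N57518 F166997) (tt N53977 (iv2 F328166)) (tt N22755 (iv3 D74730)) (tt N53229 (iv4 F327143)) (tt N57320 (iv5 F166211)) (tt N78245 D157175) (tt N54494 (iv7 F328179)))
theorem Q44457 : ∀ i, i < 44457 → P i := stepQ 44456 Q44456 (allL N44456 (tt N56358 F163566) (tt N56811 F164842) (tt N56809 F164834) (tt N78246 D157176) (tt N22755 (iv4 D74731)) (tt N78247 D157177) (tt N78248 D157178) (tt N56808 (iv7 F164839)))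
theorem Q44458 : ∀ i, i < 44458 → P i := stepQ 44457 Q44457 (allL N44457 (tt N31534 F112161) (tt N31532 F112162) (tt N59065 (iv2 F171960)) (tt N78245 (iv3 F247352)) (tt N78248 (iv4 F247362)) (tt N30373 F112159) (tt N22755 (iv6 D74732)) (tt N30373 F112160))
theorem Q44459 : ∀ i, i < 44459 → P i := stepQ 44458 Q44458 (allL N44458 (tt N65384 (iv1 F314350)) (tt N78249 D157182) (tt N57655 (iv2 F212158)) (tt N78250 D157183) (tt N22757 (iv4 D74735)) (tt N67441 F208766) (tt N78251 D157184) (tt N57653 F212196))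
theorem Q44460 : ∀ i, i < 44460 → P i := stepQ 44459 Q44459 (allL N44459 (tt N75280 (iv1 F314354)) (tt N63010 (iv0 F314355)) (tt N57656 F212202) (tt N35387 (iv3 F314348)) (tt N78251 (iv4 F247377)) (tt N62465 (iv5 F318119)) (tt N22757 (iv6 D74737)) (tt N41557 F322228))
theorem Q44461 : ∀ i, i < 44461 → P i := stepQ 44460 Q44460 (allL N44460 (tt N48074 (iv1 F314334)) (tt N69561 (iv0 F247375)) (tt N35393 (iv2 F314336)) (tt N22758 (iv3 D74739)) (tt N78252 D157191) (tt N35391 (iv5 F314339)) (tt N41558 F321160) (tt N57654 (iv7 F212156)))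
theorem Q44462 : ∀ i, i < 44462 → P i := stepQ 44461 Q44461 (allL N44461 (tt N78249 (iv1 F247372)) (tt N65384 (iv0 F314349)) (tt N57653 (iv2 F212159)) (tt N56817 (iv3 F164870)) (tt N22758 (iv4 D74740)) (tt N67433 (iv5 F208765)) (tt N41559 F321161) (tt N57655 (iv7 F212157)))
theorem Q44463 : ∀ i, i < 44463 → P i := stepQ 44462 Q44462 (allL N44462 (tt N77866 (iv1 F245174)) (tt N44185 (iv0 F112178)) (tt N57547 (iv2 F167088)) (tt N33889 (iv3 F318746)) (tt N22761 (iv4 D74750)) (tt N78253 D157218) (tt N33482 F112177) (tt N57548 (iv7 F167090)))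
theorem Q44464 : ∀ i, i < 44464 → P i := stepQ 44463 Q44463 (allL N44463 (tt N22762 (iv1 D74751)) (tt N30456 F112185) (tt N30457 (iv2 F112180)) (tt N38440 (iv3 F112181)) (tt N78254 D157219) (tt N29661 (iv5 F112182)) (tt N30465 (iv6 F112183)) (tt N29660 F112179))
theorem Q44465 : ∀ i, i < 44465 → P i := stepQ 44464 Q44464 (allL N44464 (tt N29660 (iv1 F112190)) (tt N30457 F112189) (tt N22762 (iv2 D74752)) (tt N36127 F112186) (tt N71099 (iv4 F219434)) (tt N30591 F112187) (tt N66502 (iv6 F204307)) (tt N30456 F112188))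
theorem Q44466 : ∀ i, i < 44466 → P i := stepQ 44465 Q44465 (allL N44465 (tt N37245 F166081) (tt N47600 F328142) (tt N71099 F219435) (tt N42880 (iv3 F318747)) (tt N22762 (iv4 D74753)) (tt N66471 (iv5 F204225)) (tt N64116 (iv6 F323021)) (tt N41288 F112191))
theorem Q44467 : ∀ i, i < 44467 → P i := stepQ 44466 Q44466 (allL N44466 (tt N41217 F112195) (tt N57411 (iv0 F166392)) (tt N66502 F204308) (tt N22763 F112192) (tt N64116 (iv4 F323020)) (tt N33486 F112193) (tt N22762 (iv6 D74754)) (tt N33486 F112194))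
theorem Q44468 : ∀ i, i < 44468 → P i := stepQ 44467 Q44467 (allL N44467 (tt N48040 (iv1 F314313)) (tt N22766 (iv0 D74763)) (tt N57637 (iv2 F245772)) (tt N78255 D157225) (tt N48499 (iv4 F314453)) (tt N72321 (iv5 F245801)) (tt N78256 D157226) (tt N57636 F245774))
theorem Q44469 : ∀ i, i < 44469 → P i := stepQ 44468 Q44468 (allL N44468 (tt N22766 (iv1 D74764)) (tt N48040 (iv0 F314312)) (tt N57636 F245771) (tt N78257 D157227) (tt N44314 (iv4 F112205)) (tt N72322 F246567) (tt N78258 D157228) (tt N57637 (iv7 F245768)))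
theorem Q44470 : ∀ i, i < 44470 → P i := stepQ 44469 Q44469 (allL N44469 (tt N57637 F167265) (tt N57636 F167263) (tt N22766 (iv2 D74765)) (tt N60218 (iv3 F175919)) (tt N22772 F112206) (tt N78259 D157229) (tt N78260 D157230) (tt N48040 (iv7 F314315)))
theorem Q44471 : ∀ i, i < 44471 → P i := stepQ 44470 Q44470 (allL N44470 (tt N78193 F246881) (tt N74174 (iv0 F340017)) (tt N78259 (iv2 F247443)) (tt N22767 F112207) (tt N78261 D157231) (tt N22766 (iv5 D74766)) (tt N78262 D157232) (tt N57638 (iv7 F167271)))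
theorem Q44472 : ∀ i, i < 44472 → P i := stepQ 44471 Q44471 (allL N44471 (tt N78263 D157233) (tt N41152 (iv0 F340800)) (tt N78260 (iv2 F247446)) (tt N22768 F112208) (tt N22773 F112209) (tt N78264 D157235) (tt N22766 (iv6 D74767)) (tt N78265 D157236))
theorem Q44473 : ∀ i, i < 44473 → P i := stepQ 44472 Q44472 (allL N44472 (tt N68160 (iv1 F331413)) (tt N68162 (iv0 F376519)) (tt N60220 (iv2 F175925)) (tt N78262 (iv3 F247449)) (tt N32140 F112210) (tt N78266 D157239) (tt N22767 (iv6 D74768)) (tt N78267 D157240))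
theorem Q44474 : ∀ i, i < 44474 → P i := stepQ 44473 Q44473 (allL N44473 (tt N41130 (iv1 F112215)) (tt N22768 (iv0 D74769)) (tt N38189 (iv2 F112211)) (tt N78268 D157241) (tt N32166 F112212) (tt N78269 D157242) (tt N41139 (iv6 F112214)) (tt N33523 F112213))
theorem Q44475 : ∀ i, i < 44475 → P i := stepQ 44474 Q44474 (allL N44474 (tt N78270 D157243) (tt N78271 D157244) (tt N60221 (iv2 F175927)) (tt N78264 (iv3 F247450)) (tt N78272 D157245) (tt N22768 (iv5 D74770)) (tt N78266 (iv6 F247453)) (tt N78273 D157246))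
theorem Q44476 : ∀ i, i < 44476 → P i := stepQ 44475 Q44475 (allL N44475 (tt N33523 (iv1 F112218)) (tt N38189 F112219) (tt N41130 F112216) (tt N78265 (iv3 F247451)) (tt N22770 F112217) (tt N78273 (iv5 F247463)) (tt N57642 (iv6 F167280)) (tt N22768 (iv7 D74771)))
theorem Q44477 : ∀ i, i < 44477 → P i := stepQ 44476 Q44476 (allL N44476 (tt N48042 (iv1 F316052)) (tt N48041 (iv0 F316053)) (tt N35437 (iv2 F316051)) (tt N78274 D157259) (tt N22771 (iv4 D74774)) (tt N78275 D157260) (tt N78276 D157261) (tt N48034 (iv7 F316055)))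
theorem Q44478 : ∀ i, i < 44478 → P i := stepQ 44477 Q44477 (allL N44477 (tt N33547 (iv1 F320428)) (tt N33551 F318268) (tt N33549 F318266) (tt N48072 (iv3 F314642)) (tt N78276 (iv4 F247493)) (tt N76775 (iv5 F316056)) (tt N22771 (iv6 D74776)) (tt N33548 (iv7 F320427)))
theorem Q44479 : ∀ i, i < 44479 → P i := stepQ 44478 Q44478 (allL N44478 (tt N41287 (iv1 F340946)) (tt N33543 (iv0 F340947)) (tt N22773 F112225) (tt N41535 F324905) (tt N78260 (iv4 F247447)) (tt N63221 F311910) (tt N22772 (iv6 D74782)) (tt N41285 F322112))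
theorem Q44480 : ∀ i, i < 44480 → P i := stepQ 44479 Q44479 (allL N44479 (tt N41285 F322109) (tt N22773 (iv0 D74783)) (tt N41287 F322110) (tt N78277 D157284) (tt N78278 D157285) (tt N78279 D157286) (tt N41277 (iv6 F323786)) (tt N33543 F322111))
theorem Q44481 : ∀ i, i < 44481 → P i := stepQ 44480 Q44480 (allL N44480 (tt N46108 F331876) (tt N34415 (iv0 F311237)) (tt N63221 (iv2 F311238)) (tt N22774 F112226) (tt N34255 (iv4 F311239)) (tt N22773 (iv5 D74785)) (tt N44044 F309103) (tt N44511 (iv7 F310194)))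
theorem Q44482 : ∀ i, i < 44482 → P i := stepQ 44481 Q44481 (allL N44481 (tt N33543 F340948) (tt N41287 F340949) (tt N41285 F322113) (tt N22775 F112227) (tt N78265 (iv4 F247452)) (tt N44511 F312476) (tt N34050 (iv6 F314918)) (tt N22773 (iv7 D74786)))
theorem Q44483 : ∀ i, i < 44483 → P i := stepQ 44482 Q44482 (allL N44482 (tt N30464 (iv1 F112239)) (tt N22776 (iv0 D74791)) (tt N30465 (iv2 F112238)) (tt N41119 (iv3 F112241)) (tt N71358 (iv4 F219945)) (tt N37811 F112237) (tt N30457 (iv6 F112242)) (tt N30434 F112240))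
theorem Q44484 : ∀ i, i < 44484 → P i := stepQ 44483 Q44483 (allL N44483 (tt N30465 (iv1 F112248)) (tt N30434 F112247) (tt N22776 (iv2 D74792)) (tt N41234 F112243) (tt N69427 (iv4 F214343)) (tt N35942 F112244) (tt N36040 F112245) (tt N30464 F112246))
theorem Q44485 : ∀ i, i < 44485 → P i := stepQ 44484 Q44484 (allL N44484 (tt N67021 (iv1 F332333)) (tt N57785 (iv0 F167731)) (tt N69427 F214344) (tt N72239 (iv3 F221754)) (tt N22776 (iv4 D74793)) (tt N66974 (iv5 F332341)) (tt N41213 F112249) (tt N33475 F112250))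
theorem Q44486 : ∀ i, i < 44486 → P i := stepQ 44485 Q44485 (allL N44485 (tt N64362 (iv1 F305311)) (tt N30545 F247541) (tt N46454 F313842) (tt N22777 (iv3 D74795)) (tt N39806 F339042) (tt N72063 (iv5 F316241)) (tt N72750 (iv6 F314534)) (tt N57705 (iv7 F208072)))
theorem Q44487 : ∀ i, i < 44487 → P i := stepQ 44486 Q44486 (allL N44486 (tt N36205 (iv1 F316235)) (tt N25498 (iv0 F112252)) (tt N36230 F318501) (tt N72063 (iv3 F316240)) (tt N45754 (iv4 F307238)) (tt N22777 (iv5 D74797)) (tt N41579 F316867) (tt N36229 F318502))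
theorem Q44488 : ∀ i, i < 44488 → P i := stepQ 44487 Q44487 (allL N44487 (tt N25498 F112255) (tt N36205 (iv0 F316234)) (tt N36229 F318506) (tt N46453 (iv3 F307230)) (tt N44929 (iv4 F307235)) (tt N22778 (iv5 D74802)) (tt N44138 F112256) (tt N36230 F318507))
theorem Q44489 : ∀ i, i < 44489 → P i := stepQ 44488 Q44488 (allL N44488 (tt N30530 (iv1 F112264)) (tt N30520 F112263) (tt N22780 (iv2 D74804)) (tt N41358 F112259) (tt N23838 F112260) (tt N61345 (iv5 F178647)) (tt N33562 F112261) (tt N23834 F112262))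
theorem Q44490 : ∀ i, i < 44490 → P i := stepQ 44489 Q44489 (allL N44489 (tt N68490 (iv1 F210663)) (tt N68492 (iv0 F210671)) (tt N47376 F315649) (tt N63205 (iv3 F316889)) (tt N68421 (iv4 F210362)) (tt N22782 (iv5 D74805)) (tt N44776 (iv6 F317942)) (tt N41445 F112266))
theorem Q44491 : ∀ i, i < 44491 → P i := stepQ 44490 Q44490 (allL N44490 (tt N38308 F112301) (tt N38311 F112302) (tt N45240 (iv2 F114873)) (tt N60175 F175865) (tt N78280 D157348) (tt N22784 (iv5 D74828)) (tt N78281 D157349) (tt N34703 F112300))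
theorem Q44492 : ∀ i, i < 44492 → P i := stepQ 44491 Q44491 (allL N44491 (tt N68284 (iv1 F335009)) (tt N63850 (iv0 F335006)) (tt N45251 (iv2 F114916)) (tt N68531 (iv3 F210776)) (tt N46509 (iv4 F310076)) (tt N45224 (iv5 F114845)) (tt N22785 (iv6 D74830)) (tt N76441 (iv7 F238605)))
theorem Q44493 : ∀ i, i < 44493 → P i := stepQ 44492 Q44492 (allL N44492 (tt N25449 (iv1 F311644)) (tt N32863 (iv0 F310770)) (tt N22793 F112306) (tt N35043 F309434) (tt N42464 (iv4 F310925)) (tt N33768 F112308) (tt N22787 (iv6 D74831)) (tt N42698 (iv7 F309452)))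
theorem Q44494 : ∀ i, i < 44494 → P i := stepQ 44493 Q44493 (allL N44493 (tt N37515 F112312) (tt N29580 F112313) (tt N32123 F112309) (tt N32811 F112310) (tt N78282 D157355) (tt N22788 (iv5 D74832)) (tt N78283 D157356) (tt N34683 F112311))
theorem Q44495 : ∀ i, i < 44495 → P i := stepQ 44494 Q44494 (allL N44494 (tt N78284 D157357) (tt N78285 D157358) (tt N68432 (iv2 F210439)) (tt N30424 (iv3 F316778)) (tt N22789 (iv4 D74833)) (tt N42460 F314441) (tt N78286 D157361) (tt N30418 (iv7 F316779)))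
theorem Q44496 : ∀ i, i < 44496 → P i := stepQ 44495 Q44495 (allL N44495 (tt N78287 D157362) (tt N78288 D157363) (tt N68433 (iv2 F210440)) (tt N30059 F112314) (tt N78286 (iv4 F247679)) (tt N55742 (iv5 F161551)) (tt N22789 (iv6 D74834)) (tt N78289 D157364))
theorem Q44497 : ∀ i, i < 44497 → P i := stepQ 44496 Q44496 (allL N44496 (tt N40015 F232704) (tt N40024 F232705) (tt N25489 F309908) (tt N68461 (iv3 F210579)) (tt N25198 F309909) (tt N43013 F112319) (tt N22790 (iv6 D74836)) (tt N25493 F309910))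
theorem Q44498 : ∀ i, i < 44498 → P i := stepQ 44497 Q44497 (allL N44497 (tt N63869 F233138) (tt N78290 D157372) (tt N45273 (iv2 F114992)) (tt N43010 F112323) (tt N64269 (iv4 F312033)) (tt N45254 (iv5 F114932)) (tt N22791 (iv6 D74838)) (tt N76024 (iv7 F312142)))
theorem Q44499 : ∀ i, i < 44499 → P i := stepQ 44498 Q44498 (allL N44498 (tt N42295 F312173) (tt N37628 F112324) (tt N42293 F312174) (tt N63721 (iv3 F314474)) (tt N42451 (iv4 F314407)) (tt N22792 (iv5 D74839)) (tt N33772 (iv6 F314475)) (tt N42294 F312175))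
theorem Q44500 : ∀ i, i < 44500 → P i := stepQ 44499 Q44499 (allL N44499 (tt N38263 (iv1 F112346)) (tt N22795 (iv0 D74850)) (tt N34089 (iv2 F112345)) (tt N50009 (iv3 F138533)) (tt N78291 D157391) (tt N30505 F112344) (tt N50008 (iv6 F138531)) (tt N34090 F112347))
theorem Q44501 : ∀ i, i < 44501 → P i := stepQ 44500 Q44500 (allL N44500 (tt N37457 F112348) (tt N69583 (iv0 F215038)) (tt N68269 (iv2 F209445)) (tt N78292 D157392) (tt N22795 (iv4 D74851)) (tt N78293 D157393) (tt N76636 (iv6 F364637)) (tt N56437 (iv7 F163749)))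
theorem Q44502 : ∀ i, i < 44502 → P i := stepQ 44501 Q44501 (allL N44501 (tt N74464 (iv1 F319885)) (tt N78294 D157396) (tt N68270 (iv2 F209448)) (tt N30066 F112349) (tt N76636 (iv4 F364636)) (tt N78295 D157397) (tt N22795 (iv6 D74852)) (tt N78296 D157398))
theorem Q44503 : ∀ i, i < 44503 → P i := stepQ 44502 Q44502 (allL N44502 (tt N43203 F112354) (tt N34072 F112353) (tt N43276 F112350) (tt N30067 F112351) (tt N78297 D157399) (tt N22796 (iv5 D74853)) (tt N78295 (iv6 F247877)) (tt N32426 F112352))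
theorem Q44504 : ∀ i, i < 44504 → P i := stepQ 44503 Q44503 (allL N44503 (tt N37469 (iv1 F112355)) (tt N22797 (iv0 D74854)) (tt N57426 F166674) (tt N78298 D157400) (tt N57441 (iv4 F166750)) (tt N78299 D157401) (tt N78300 D157402) (tt N57425 F166670))
theorem Q44505 : ∀ i, i < 44505 → P i := stepQ 44504 Q44504 (allL N44504 (tt N63453 (iv1 F187526)) (tt N53735 (iv0 F311794)) (tt N68271 (iv2 F209449)) (tt N65225 (iv3 F313361)) (tt N78301 D157403) (tt N22797 (iv5 D74855)) (tt N78302 D157404) (tt N57427 (iv7 F166675)))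
theorem Q44506 : ∀ i, i < 44506 → P i := stepQ 44505 Q44505 (allL N44505 (tt N68273 (iv1 F209460)) (tt N22798 (iv0 D74857)) (tt N25425 (iv2 F305572)) (tt N23932 F303446) (tt N78303 D157409) (tt N62219 (iv5 F313691)) (tt N23931 F303447) (tt N68267 (iv7 F209430)))
theorem Q44507 : ∀ i, i < 44507 → P i := stepQ 44506 Q44506 (allL N44506 (tt N22798 (iv1 D74858)) (tt N68273 F209459) (tt N68267 F209431) (tt N25429 (iv3 F306655)) (tt N35179 (iv4 F307071)) (tt N62220 (iv5 F341169)) (tt N45715 (iv6 F305746)) (tt N25425 (iv7 F305573)))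
theorem Q44508 : ∀ i, i < 44508 → P i := stepQ 44507 Q44507 (allL N44507 (tt N44084 F208109) (tt N78304 D157411) (tt N34265 F112359) (tt N22802 F112360) (tt N78305 D157412) (tt N22798 (iv5 D74859)) (tt N22799 F112361) (tt N62397 (iv7 F312472)))
theorem Q44509 : ∀ i, i < 44509 → P i := stepQ 44508 Q44508 (allL N44508 (tt N68267 (iv1 F209433)) (tt N25425 F306030) (tt N68273 (iv2 F209457)) (tt N22803 F112362) (tt N65171 (iv4 F307980)) (tt N62397 (iv5 F312471)) (tt N23893 (iv6 F307415)) (tt N22798 (iv7 D74860)))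
theorem Q44510 : ∀ i, i < 44510 → P i := stepQ 44509 Q44509 (allL N44509 (tt N78306 D157414) (tt N44273 F320452) (tt N34264 F112364) (tt N44245 (iv3 F318377)) (tt N22799 (iv4 D74861)) (tt N76844 (iv5 F240055)) (tt N78305 (iv6 F247900)) (tt N34266 F112365))
theorem Q44511 : ∀ i, i < 44511 → P i := stepQ 44510 Q44510 (allL N44510 (tt N27703 F308538) (tt N22811 F190823) (tt N74679 (iv2 F350135)) (tt N22800 (iv3 D74862)) (tt N78307 D157416) (tt N30647 (iv5 F309113)) (tt N43421 F190824) (tt N57428 (iv7 F166701)))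
theorem Q44512 : ∀ i, i < 44512 → P i := stepQ 44511 Q44511 (allL N44511 (tt N63826 F189763) (tt N63833 F189774) (tt N63832 F189770) (tt N22801 (iv3 D74865)) (tt N52778 (iv4 F309895)) (tt N44481 (iv5 F312476)) (tt N63651 (iv6 F188573)) (tt N44480 F310194))
theorem Q44513 : ∀ i, i < 44513 → P i := stepQ 44512 Q44512 (allL N44512 (tt N74679 (iv1 F350134)) (tt N57428 F190805) (tt N22811 F112386) (tt N25427 F308490) (tt N35307 F308491) (tt N42931 F112388) (tt N22806 (iv6 D74875)) (tt N27703 F308492))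
theorem Q44514 : ∀ i, i < 44514 → P i := stepQ 44513 Q44513 (allL N44513 (tt N46526 F308554) (tt N46525 (iv0 F310645)) (tt N46528 F308555) (tt N22811 F112389) (tt N68464 (iv4 F210587)) (tt N76044 (iv5 F236049)) (tt N22808 (iv6 D74876)) (tt N46524 (iv7 F309650)))
theorem Q44515 : ∀ i, i < 44515 → P i := stepQ 44514 Q44514 (allL N44514 (tt N68483 (iv1 F234333)) (tt N68461 F234332) (tt N48133 F311655) (tt N22810 (iv3 D74877)) (tt N68462 (iv4 F210584)) (tt N24266 F312411) (tt N47382 F319115) (tt N68415 (iv7 F210325)))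
theorem Q44516 : ∀ i, i < 44516 → P i := stepQ 44515 Q44515 (allL N44515 (tt N46553 F308650) (tt N78308 D157426) (tt N35307 F308667) (tt N47382 F319114) (tt N22811 F112393) (tt N24269 (iv5 F313013)) (tt N22810 (iv6 D74879)) (tt N78309 D157427))
theorem Q44517 : ∀ i, i < 44517 → P i := stepQ 44516 Q44516 (allL N44516 (tt N22811 (iv1 D74881)) (tt N27703 F308537) (tt N57428 F240172) (tt N63832 (iv3 F240173)) (tt N78310 D157428) (tt N62588 (iv5 F340810)) (tt N54148 (iv6 F308436)) (tt N74679 (iv7 F350139)))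
theorem Q44518 : ∀ i, i < 44518 → P i := stepQ 44517 Q44517 (allL N44517 (tt N62561 (iv1 F313666)) (tt N78311 D157429) (tt N42931 F112395) (tt N76044 (iv3 F236048)) (tt N67083 (iv4 F206504)) (tt N22811 (iv5 D74882)) (tt N22812 F112396) (tt N62464 (iv7 F321227)))
theorem Q44519 : ∀ i, i < 44519 → P i := stepQ 44518 Q44518 (allL N44518 (tt N57428 F190804) (tt N74679 (iv0 F350133)) (tt N27703 F307647) (tt N46524 (iv3 F309649)) (tt N78309 (iv4 F247952)) (tt N62464 (iv5 F321226)) (tt N27701 F307648) (tt N22811 (iv7 D74883)))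
theorem Q44520 : ∀ i, i < 44520 → P i := stepQ 44519 Q44519 (allL N44519 (tt N76515 (iv1 F339003)) (tt N78312 D157433) (tt N68354 (iv2 F209792)) (tt N22817 F112400) (tt N75842 (iv4 F234357)) (tt N75508 (iv5 F231681)) (tt N22815 (iv6 D74886)) (tt N78313 D157434))
theorem Q44521 : ∀ i, i < 44521 → P i := stepQ 44520 Q44520 (allL N44520 (tt N46570 (iv1 F312410)) (tt N46569 (iv0 F312409)) (tt N44901 (iv2 F312414)) (tt N22816 (iv3 D74887)) (tt N63557 (iv4 F312731)) (tt N48132 F310259) (tt N75826 (iv6 F234328)) (tt N43448 F112401))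
theorem Q44522 : ∀ i, i < 44522 → P i := stepQ 44521 Q44521 (allL N44521 (tt N43840 (iv1 F185291)) (tt N22817 (iv0 D74890)) (tt N69669 (iv2 F215536)) (tt N22833 F209890) (tt N54140 (iv4 F309046)) (tt N65271 (iv5 F200542)) (tt N78314 D157438) (tt N57424 F209891))
theorem Q44523 : ∀ i, i < 44523 → P i := stepQ 44522 Q44522 (allL N44522 (tt N57424 F209848) (tt N69669 F215539) (tt N43840 F185286) (tt N78313 (iv3 F247973)) (tt N22824 F185287) (tt N75512 (iv5 F231693)) (tt N43445 F112407) (tt N22817 (iv7 D74892)))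
theorem Q44524 : ∀ i, i < 44524 → P i := stepQ 44523 Q44523 (allL N44523 (tt N78315 D157439) (tt N78316 D157440) (tt N78317 D157441) (tt N22818 (iv3 D74893)) (tt N63963 (iv4 F366736)) (tt N25398 F309903) (tt N54136 F309904) (tt N66818 (iv7 F205674)))
theorem Q44525 : ∀ i, i < 44525 → P i := stepQ 44524 Q44524 (allL N44524 (tt N40025 (iv1 F112409)) (tt N22819 (iv0 D74896)) (tt N27740 (iv2 F308068)) (tt N46593 (iv3 F309846)) (tt N42842 (iv4 F309847)) (tt N64892 (iv5 F310015)) (tt N27739 F307822) (tt N40030 F210939))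
theorem Q44526 : ∀ i, i < 44526 → P i := stepQ 44525 Q44525 (allL N44525 (tt N22819 (iv1 D74897)) (tt N40025 F112413) (tt N40030 (iv2 F210934)) (tt N27742 F310078) (tt N42845 (iv4 F312364)) (tt N64518 (iv5 F307644)) (tt N37630 (iv6 F210309)) (tt N27740 F310079))
theorem Q44527 : ∀ i, i < 44527 → P i := stepQ 44526 Q44526 (allL N44526 (tt N27740 (iv1 F308067)) (tt N40030 F112412) (tt N22819 (iv2 D74898)) (tt N37652 F209880) (tt N22837 F112410) (tt N48466 F307959) (tt N37651 (iv6 F209878)) (tt N40025 F112411))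
theorem Q44528 : ∀ i, i < 44528 → P i := stepQ 44527 Q44527 (allL N44527 (tt N48462 F307946) (tt N36461 (iv0 F112417)) (tt N48466 F307947) (tt N22820 F112415) (tt N63987 (iv4 F315990)) (tt N22819 (iv5 D74899)) (tt N72799 (iv6 F323571)) (tt N40031 F112416))
theorem Q44529 : ∀ i, i < 44529 → P i := stepQ 44528 Q44528 (allL N44528 (tt N24313 (iv1 F312802)) (tt N72238 (iv0 F314686)) (tt N23086 F312314) (tt N72799 (iv3 F323570)) (tt N23083 (iv4 F312865)) (tt N46182 F312315) (tt N22820 (iv6 D74904)) (tt N46456 (iv7 F314572)))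
theorem Q44530 : ∀ i, i < 44530 → P i := stepQ 44529 Q44529 (allL N44529 (tt N22821 (iv1 D74907)) (tt N37649 F209895) (tt N69643 (iv2 F215314)) (tt N78318 D157456) (tt N38365 (iv4 F162876)) (tt N78319 D157457) (tt N36455 F185326) (tt N36462 (iv7 F185324)))
theorem Q44531 : ∀ i, i < 44531 → P i := stepQ 44530 Q44530 (allL N44530 (tt N39976 F314714) (tt N33315 F319272) (tt N33468 F316245) (tt N40601 F321893) (tt N78320 D157460) (tt N22821 (iv5 D74908)) (tt N46182 F312316) (tt N40734 (iv7 F327711)))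
theorem Q44532 : ∀ i, i < 44532 → P i := stepQ 44531 Q44531 (allL N44531 (tt N69643 (iv1 F215318)) (tt N36462 (iv0 F185325)) (tt N37649 (iv2 F209853)) (tt N69624 (iv3 F248028)) (tt N22825 F112430) (tt N40734 F328205) (tt N78321 D157462) (tt N22821 (iv7 D74909)))
theorem Q44533 : ∀ i, i < 44533 → P i := stepQ 44532 Q44532 (allL N44532 (tt N68566 F247989) (tt N68569 (iv0 F247730)) (tt N64029 F311221) (tt N40032 F112431) (tt N22826 F112432) (tt N67072 (iv5 F206495)) (tt N22822 (iv6 D74910)) (tt N78321 (iv7 F248090)))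
theorem Q44534 : ∀ i, i < 44534 → P i := stepQ 44533 Q44533 (allL N44533 (tt N63091 F232784) (tt N75827 F234293) (tt N27713 (iv2 F311823)) (tt N22824 (iv3 D74914)) (tt N25083 (iv4 F311824)) (tt N43619 F112436) (tt N25082 F309606) (tt N75826 (iv7 F234329)))
theorem Q44535 : ∀ i, i < 44535 → P i := stepQ 44534 Q44534 (allL N44534 (tt N76903 (iv1 F240645)) (tt N76902 F240660) (tt N76904 (iv2 F240655)) (tt N22845 F112440) (tt N78321 (iv4 F248089)) (tt N51864 (iv5 F338156)) (tt N22825 (iv6 D74917)) (tt N22826 F112441))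
theorem Q44536 : ∀ i, i < 44536 → P i := stepQ 44535 Q44535 (allL N44535 (tt N76904 (iv1 F240662)) (tt N22826 (iv0 D74918)) (tt N76902 F241217) (tt N38155 F241218) (tt N41536 F324909) (tt N78322 D157465) (tt N46564 F310546) (tt N76903 F241219))
theorem Q44537 : ∀ i, i < 44537 → P i := stepQ 44536 Q44536 (allL N44536 (tt N22826 (iv1 D74919)) (tt N76904 F240661) (tt N76903 (iv2 F241220)) (tt N76480 (iv3 F248113)) (tt N78323 D157468) (tt N78324 D157469) (tt N78323 F248114) (tt N76902 (iv7 F241221)))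
theorem Q44538 : ∀ i, i < 44538 → P i := stepQ 44537 Q44537 (allL N44537 (tt N63653 (iv1 F188629)) (tt N63655 (iv0 F188628)) (tt N41034 (iv2 F302853)) (tt N47300 (iv3 F302855)) (tt N25434 F300068) (tt N22828 (iv5 D74928)) (tt N23897 F112448) (tt N57421 (iv7 F166626)))
theorem Q44539 : ∀ i, i < 44539 → P i := stepQ 44538 Q44538 (allL N44538 (tt N40209 (iv1 F309339)) (tt N42849 (iv0 F305347)) (tt N41036 F307321) (tt N46650 (iv3 F305342)) (tt N42729 (iv4 F305344)) (tt N33455 (iv5 F308900)) (tt N22828 (iv6 D74929)) (tt N41943 (iv7 F305348)))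
theorem Q44540 : ∀ i, i < 44540 → P i := stepQ 44539 Q44539 (allL N44539 (tt N63455 (iv1 F187531)) (tt N53758 (iv0 F357927)) (tt N63456 (iv2 F187534)) (tt N55356 (iv3 F309286)) (tt N63424 (iv4 F187375)) (tt N22831 (iv5 D74932)) (tt N78325 D157475) (tt N55349 (iv7 F307759)))
theorem Q44541 : ∀ i, i < 44541 → P i := stepQ 44540 Q44540 (allL N44540 (tt N53569 (iv1 F311802)) (tt N53183 (iv0 F311803)) (tt N53568 F309597) (tt N25762 F309598) (tt N22832 F112469) (tt N78326 D157478) (tt N22831 (iv6 D74933)) (tt N25755 F309599))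
theorem Q44542 : ∀ i, i < 44542 → P i := stepQ 44541 Q44541 (allL N44541 (tt N22832 (iv1 D74935)) (tt N52754 F305751) (tt N41046 F318428) (tt N46451 (iv3 F307745)) (tt N46729 (iv4 F307746)) (tt N40776 (iv5 F322123)) (tt N46577 (iv6 F307747)) (tt N46461 (iv7 F307609)))
theorem Q44543 : ∀ i, i < 44543 → P i := stepQ 44542 Q44542 (allL N44542 (tt N39922 F311460) (tt N33242 F311461) (tt N40211 (iv2 F313664)) (tt N78314 (iv3 F247984)) (tt N43981 F309194) (tt N37085 (iv5 F312205)) (tt N22833 (iv6 D74940)) (tt N40212 (iv7 F313359)))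
theorem Q44544 : ∀ i, i < 44544 → P i := stepQ 44543 Q44543 (allL N44543 (tt N63213 (iv1 F208108)) (tt N63224 (iv0 F208106)) (tt N63250 (iv2 F209897)) (tt N22834 (iv3 D74942)) (tt N68976 (iv4 F212243)) (tt N33448 F318410) (tt N68975 (iv6 F212239)) (tt N57423 F189568))
theorem Q44545 : ∀ i, i < 44545 → P i := stepQ 44544 Q44544 (allL N44544 (tt N68022 (iv1 F222368)) (tt N65266 (iv0 F311683)) (tt N63325 (iv2 F311687)) (tt N22835 (iv3 D74946)) (tt N57690 F167418) (tt N69561 (iv5 F214876)) (tt N43431 F309499) (tt N40027 F209828))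
theorem Q44546 : ∀ i, i < 44546 → P i := stepQ 44545 Q44545 (allL N44545 (tt N76134 (iv1 F310090)) (tt N76135 F309500) (tt N40029 F209840) (tt N76012 F309501) (tt N22835 (iv4 D74947)) (tt N64898 (iv5 F314465)) (tt N42853 F309502) (tt N40028 F209829))
theorem Q44547 : ∀ i, i < 44547 → P i := stepQ 44546 Q44546 (allL N44546 (tt N76135 F311604) (tt N76134 F311605) (tt N40028 F209835) (tt N22843 F209814) (tt N22836 (iv4 D74952)) (tt N34308 F305969) (tt N22842 F209816) (tt N40029 (iv7 F209823)))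
theorem Q44548 : ∀ i, i < 44548 → P i := stepQ 44547 Q44547 (allL N44547 (tt N43980 F309191) (tt N37629 F209817) (tt N34313 (iv2 F310518)) (tt N47940 (iv3 F311398)) (tt N22842 F209818) (tt N34303 (iv5 F311399)) (tt N22836 (iv6 D74954)) (tt N34317 F309192))
theorem Q44549 : ∀ i, i < 44549 → P i := stepQ 44548 Q44548 (allL N44548 (tt N45230 (iv1 F309379)) (tt N22838 (iv0 D74956)) (tt N45231 (iv2 F309384)) (tt N63092 (iv3 F309952)) (tt N45249 (iv4 F210469)) (tt N68355 (iv5 F309953)) (tt N37627 F210467) (tt N34710 F307965))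
theorem Q44550 : ∀ i, i < 44550 → P i := stepQ 44549 Q44549 (allL N44549 (tt N43092 (iv1 F314058)) (tt N76019 (iv0 F314059)) (tt N63860 F311602) (tt N22840 F112479) (tt N34969 (iv4 F314060)) (tt N22838 (iv5 D74958)) (tt N40038 F112480) (tt N69582 F311603))
theorem Q44551 : ∀ i, i < 44551 → P i := stepQ 44550 Q44550 (allL N44550 (tt N34710 F307960) (tt N45231 (iv0 F309383)) (tt N45230 (iv2 F309380)) (tt N22841 F112481) (tt N69624 (iv4 F248029)) (tt N69582 (iv5 F309945)) (tt N40035 F112482) (tt N22838 (iv7 D74959)))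
theorem Q44552 : ∀ i, i < 44552 → P i := stepQ 44551 Q44551 (allL N44551 (tt N22840 (iv1 D74967)) (tt N37484 F311040) (tt N43150 F311041) (tt N25411 (iv3 F313284)) (tt N45383 (iv4 F115599)) (tt N42479 F112488) (tt N37481 (iv6 F313286)) (tt N23933 F311042))
theorem Q44553 : ∀ i, i < 44553 → P i := stepQ 44552 Q44552 (allL N44552 (tt N23583 F312556) (tt N45395 F115706) (tt N45396 (iv2 F115718)) (tt N78327 D157527) (tt N22840 (iv4 D74968)) (tt N23110 F112489) (tt N40043 F112490) (tt N23126 (iv7 F112491)))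
theorem Q44554 : ∀ i, i < 44554 → P i := stepQ 44553 Q44553 (allL N44553 (tt N76441 (iv1 F252506)) (tt N45251 F252505) (tt N68284 (iv2 F237548)) (tt N22846 (iv3 D74989)) (tt N63334 (iv4 F313521)) (tt N56074 (iv5 F340864)) (tt N42866 F311586) (tt N63850 (iv7 F200164)))
theorem Q44555 : ∀ i, i < 44555 → P i := stepQ 44554 Q44554 (allL N44554 (tt N41828 F112525) (tt N78328 D157550) (tt N63849 (iv2 F200123)) (tt N56074 (iv3 F340863)) (tt N75304 (iv4 F334590)) (tt N22846 (iv5 D74991)) (tt N73719 (iv6 F313156)) (tt N63851 F200122))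
theorem Q44556 : ∀ i, i < 44556 → P i := stepQ 44555 Q44555 (allL N44555 (tt N78328 (iv1 F248273)) (tt N41828 (iv0 F112529)) (tt N63851 F200120) (tt N68288 (iv3 F237549)) (tt N75437 (iv4 F334583)) (tt N22847 (iv5 D74996)) (tt N40192 F316364) (tt N63849 F200119))
theorem Q44557 : ∀ i, i < 44557 → P i := stepQ 44556 Q44556 (allL N44556 (tt N40875 F322355) (tt N74678 (iv0 F322650)) (tt N34593 F112532) (tt N34588 F112533) (tt N51238 F144549) (tt N43424 F112534) (tt N22850 (iv6 D74998)) (tt N68416 (iv7 F210337)))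
theorem Q44558 : ∀ i, i < 44558 → P i := stepQ 44557 Q44557 (allL N44557 (tt N54154 (iv1 F307553)) (tt N77276 (iv0 F242217)) (tt N63934 (iv2 F191862)) (tt N49658 F305545) (tt N78329 D157563) (tt N22851 (iv5 D75005)) (tt N64707 (iv6 F198166)) (tt N25539 F305546))
theorem Q44559 : ∀ i, i < 44559 → P i := stepQ 44558 Q44558 (allL N44558 (tt N49390 F305307) (tt N22852 (iv0 D75006)) (tt N49388 F301843) (tt N45287 F115031) (tt N25660 F112541) (tt N42960 F112540) (tt N78330 D157564) (tt N49389 F301844))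
theorem Q44560 : ∀ i, i < 44560 → P i := stepQ 44559 Q44559 (allL N44559 (tt N22852 (iv1 D75007)) (tt N49390 (iv0 F302941)) (tt N49389 F301846) (tt N34842 (iv3 F112544)) (tt N25661 F112543) (tt N36465 F112542) (tt N30542 (iv6 F309238)) (tt N49388 F301847))
theorem Q44561 : ∀ i, i < 44561 → P i := stepQ 44560 Q44560 (allL N44560 (tt N78331 D157570) (tt N78332 D157571) (tt N45437 (iv2 F115837)) (tt N22853 (iv3 D75013)) (tt N34472 F112546) (tt N42420 F112547) (tt N78333 D157572) (tt N63938 (iv7 F191879)))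
theorem Q44562 : ∀ i, i < 44562 → P i := stepQ 44561 Q44561 (allL N44561 (tt N78334 D157573) (tt N78335 D157574) (tt N42426 F112548) (tt N78333 (iv3 F248333)) (tt N22854 F112549) (tt N78336 D157575) (tt N22853 (iv6 D75014)) (tt N78337 D157576))
theorem Q44563 : ∀ i, i < 44563 → P i := stepQ 44562 Q44562 (allL N44562 (tt N76920 (iv1 F240831)) (tt N22854 (iv0 D75015)) (tt N76382 (iv2 F350760)) (tt N54487 (iv3 F350723)) (tt N75020 (iv4 F350721)) (tt N54188 (iv5 F357284)) (tt N78338 D157581) (tt N76918 (iv7 F350784)))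
theorem Q44564 : ∀ i, i < 44564 → P i := stepQ 44563 Q44563 (allL N44563 (tt N22854 (iv1 D75016)) (tt N76920 F240830) (tt N76918 (iv2 F350783)) (tt N73909 (iv3 F350757)) (tt N75019 (iv4 F350764)) (tt N54187 (iv5 F357287)) (tt N78339 D157586) (tt N76382 (iv7 F350761)))
theorem Q44565 : ∀ i, i < 44565 → P i := stepQ 44564 Q44564 (allL N44564 (tt N78340 D157587) (tt N78341 D157588) (tt N76919 (iv2 F240825)) (tt N45343 (iv3 F115366)) (tt N78342 D157589) (tt N22854 (iv5 D75017)) (tt N22857 F112550) (tt N78343 D157590))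
theorem Q44566 : ∀ i, i < 44566 → P i := stepQ 44565 Q44565 (allL N44565 (tt N76918 (iv1 F240824)) (tt N76382 (iv0 F353680)) (tt N76920 (iv2 F240827)) (tt N45344 (iv3 F115368)) (tt N78337 (iv4 F248339)) (tt N78343 (iv5 F248347)) (tt N63943 (iv6 F191885)) (tt N22854 (iv7 D75018)))
theorem Q44567 : ∀ i, i < 44567 → P i := stepQ 44566 Q44566 (allL N44566 (tt N28836 (iv1 F307569)) (tt N28840 (iv0 F307570)) (tt N28671 F305549) (tt N22855 (iv3 D75020)) (tt N76734 (iv4 F239801)) (tt N53368 (iv5 F307572)) (tt N28256 F305550) (tt N49644 (iv7 F307562)))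
theorem Q44568 : ∀ i, i < 44568 → P i := stepQ 44567 Q44567 (allL N44567 (tt N54101 (iv1 F306904)) (tt N54099 (iv0 F307575)) (tt N54149 F305551) (tt N53368 (iv3 F307571)) (tt N78344 D157596) (tt N22855 (iv5 D75021)) (tt N78345 D157597) (tt N54150 (iv7 F307565)))
theorem Q44569 : ∀ i, i < 44569 → P i := stepQ 44568 Q44568 (allL N44568 (tt N78330 (iv1 F339028)) (tt N76482 (iv0 F339117)) (tt N76516 (iv2 F339100)) (tt N22856 (iv3 D75024)) (tt N41011 F339077) (tt N40914 (iv5 F339061)) (tt N78346 D157603) (tt N76518 (iv7 F339069)))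
theorem Q44570 : ∀ i, i < 44570 → P i := stepQ 44569 Q44569 (allL N44569 (tt N54099 (iv1 F307576)) (tt N54101 (iv0 F306903)) (tt N54150 (iv2 F307563)) (tt N40914 F339062) (tt N71904 (iv4 F339063)) (tt N22856 (iv5 D75026)) (tt N40912 (iv6 F339064)) (tt N54149 (iv7 F304671)))
theorem Q44571 : ∀ i, i < 44571 → P i := stepQ 44570 Q44570 (allL N44570 (tt N76875 F240124) (tt N76869 F242054) (tt N76874 (iv2 F308313)) (tt N78346 (iv3 F248354)) (tt N76141 (iv4 F236812)) (tt N54126 (iv5 F306915)) (tt N22856 (iv6 D75027)) (tt N48997 (iv7 F307579)))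
theorem Q44572 : ∀ i, i < 44572 → P i := stepQ 44571 Q44571 (allL N44571 (tt N22857 (iv1 D75029)) (tt N28731 (iv0 F306615)) (tt N28733 (iv2 F306614)) (tt N78347 D157610) (tt N78348 D157611) (tt N28700 F305553) (tt N78349 D157612) (tt N28699 F305554))
theorem Q44573 : ∀ i, i < 44573 → P i := stepQ 44572 Q44572 (allL N44572 (tt N78350 D157613) (tt N77472 F242859) (tt N76921 (iv2 F240844)) (tt N41068 (iv3 F321646)) (tt N22857 (iv4 D75030)) (tt N41067 F319708) (tt N78342 (iv6 F248346)) (tt N78351 D157616))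
theorem Q44574 : ∀ i, i < 44574 → P i := stepQ 44573 Q44573 (allL N44573 (tt N28733 (iv1 F306613)) (tt N28699 (iv0 F304947)) (tt N28731 (iv2 F306616)) (tt N45352 (iv3 F115374)) (tt N78351 (iv4 F248368)) (tt N22858 F112555) (tt N78352 D157617) (tt N22857 (iv7 D75031)))
theorem Q44575 : ∀ i, i < 44575 → P i := stepQ 44574 Q44574 (allL N44574 (tt N42816 F112566) (tt N36436 (iv0 F112567)) (tt N42813 F155556) (tt N78353 D157618) (tt N22859 (iv4 D75041)) (tt N78354 D157619) (tt N46812 F302484) (tt N42814 F155553))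
theorem Q44576 : ∀ i, i < 44576 → P i := stepQ 44575 Q44575 (allL N44575 (tt N76942 (iv1 F351925)) (tt N76938 (iv0 F347432)) (tt N76941 (iv2 F345836)) (tt N22860 (iv3 D75046)) (tt N78353 (iv4 F248370)) (tt N78355 D157626) (tt N55353 (iv6 F307397)) (tt N76923 (iv7 F240858)))
theorem Q44577 : ∀ i, i < 44577 → P i := stepQ 44576 Q44576 (allL N44576 (tt N77272 (iv1 F242194)) (tt N39834 F351597) (tt N76922 (iv2 F240849)) (tt N78355 (iv3 F248385)) (tt N78356 D157628) (tt N22860 (iv5 D75047)) (tt N39323 (iv6 F338909)) (tt N39702 F338930))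
theorem Q44578 : ∀ i, i < 44578 → P i := stepQ 44577 Q44577 (allL N44577 (tt N78357 D157631) (tt N56123 F310060) (tt N45599 F310061) (tt N22865 F112581) (tt N45598 (iv4 F312351)) (tt N22863 (iv5 D75059)) (tt N68459 (iv6 F232769)) (tt N75824 (iv7 F234288)))
theorem Q44579 : ∀ i, i < 44579 → P i := stepQ 44578 Q44578 (allL N44578 (tt N77003 F242771) (tt N63329 F243631) (tt N75825 (iv2 F234290)) (tt N22866 F112582) (tt N75831 (iv4 F234296)) (tt N77239 (iv5 F242058)) (tt N22863 (iv6 D75060)) (tt N76877 (iv7 F240141)))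
theorem Q44580 : ∀ i, i < 44580 → P i := stepQ 44579 Q44579 (allL N44579 (tt N53177 (iv1 F196516)) (tt N64380 (iv0 F196515)) (tt N64378 (iv2 F384698)) (tt N22864 (iv3 D75061)) (tt N75829 (iv4 F234295)) (tt N78358 D157634) (tt N78359 D157635) (tt N53711 (iv7 F308574)))
theorem Q44581 : ∀ i, i < 44581 → P i := stepQ 44580 Q44580 (allL N44580 (tt N39834 (iv1 F351596)) (tt N77272 (iv0 F242193)) (tt N39702 (iv2 F338925)) (tt N78358 (iv3 F248392)) (tt N78360 D157636) (tt N22864 (iv5 D75062)) (tt N39184 (iv6 F338926)) (tt N76922 (iv7 F240850)))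
theorem Q44582 : ∀ i, i < 44582 → P i := stepQ 44581 Q44581 (allL N44581 (tt N77065 F241546) (tt N76965 F242044) (tt N76876 (iv2 F240139)) (tt N78359 (iv3 F248393)) (tt N22866 F112583) (tt N48785 (iv5 F310389)) (tt N22864 (iv6 D75063)) (tt N55352 (iv7 F308502)))
theorem Q44583 : ∀ i, i < 44583 → P i := stepQ 44582 Q44582 (allL N44582 (tt N47746 (iv1 F309641)) (tt N46552 F307654) (tt N47680 (iv2 F309635)) (tt N47739 (iv3 F309669)) (tt N22865 (iv4 D75064)) (tt N65273 (iv5 F200552)) (tt N68364 F209981) (tt N47747 (iv7 F309638)))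
theorem Q44584 : ∀ i, i < 44584 → P i := stepQ 44583 Q44583 (allL N44583 (tt N66850 F205867) (tt N43424 (iv0 F112584)) (tt N68363 F209978) (tt N68459 F232770) (tt N68364 (iv4 F209982)) (tt N77241 (iv5 F242061)) (tt N22865 (iv6 D75065)) (tt N68364 (iv7 F209980)))
theorem Q44585 : ∀ i, i < 44585 → P i := stepQ 44584 Q44584 (allL N44584 (tt N78361 D157641) (tt N58508 (iv0 F169516)) (tt N78362 D157642) (tt N22869 (iv3 D75068)) (tt N22886 F112588) (tt N58493 (iv5 F169494)) (tt N64009 (iv6 F192151)) (tt N66653 (iv7 F204860)))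
theorem Q44586 : ∀ i, i < 44586 → P i := stepQ 44585 Q44585 (allL N44585 (tt N36324 F112590) (tt N27313 F318905) (tt N52270 (iv2 F320056)) (tt N58493 (iv3 F169495)) (tt N41977 F112589) (tt N22869 (iv5 D75069)) (tt N78363 D157643) (tt N52271 (iv7 F320062)))
theorem Q44587 : ∀ i, i < 44587 → P i := stepQ 44586 Q44586 (allL N44586 (tt N78364 D157664) (tt N77604 (iv0 F243956)) (tt N66373 (iv2 F323811)) (tt N25263 F322588) (tt N78365 D157665) (tt N22874 (iv5 D75114)) (tt N25262 (iv6 F324091)) (tt N63867 (iv7 F191431)))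
theorem Q44588 : ∀ i, i < 44588 → P i := stepQ 44587 Q44587 (allL N44587 (tt N76760 F244466) (tt N76586 (iv0 F239418)) (tt N76741 (iv2 F239813)) (tt N45478 (iv3 F115993)) (tt N22876 F112622) (tt N63710 (iv5 F316420)) (tt N22874 (iv6 D75115)) (tt N76759 F239893))
theorem Q44589 : ∀ i, i < 44589 → P i := stepQ 44588 Q44588 (allL N44588 (tt N46089 (iv1 F130996)) (tt N22875 (iv0 D75116)) (tt N45715 (iv2 F305744)) (tt N43150 (iv3 F130998)) (tt N78366 D157668) (tt N54308 (iv5 F344071)) (tt N68267 (iv6 F209429)) (tt N43147 F130997))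
theorem Q44590 : ∀ i, i < 44590 → P i := stepQ 44589 Q44589 (allL N44589 (tt N78367 D157669) (tt N28076 (iv0 F317748)) (tt N63096 (iv2 F305767)) (tt N48472 F315513) (tt N22875 (iv4 D75118)) (tt N78368 D157672) (tt N78369 D157673) (tt N63868 (iv7 F191435)))
theorem Q44591 : ∀ i, i < 44591 → P i := stepQ 44590 Q44590 (allL N44590 (tt N37474 (iv1 F187498)) (tt N34114 (iv0 F131031)) (tt N37472 F130970) (tt N22878 F112623) (tt N78369 (iv4 F248447)) (tt N42280 F319984) (tt N22875 (iv6 D75119)) (tt N37473 (iv7 F130971)))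
theorem Q44592 : ∀ i, i < 44592 → P i := stepQ 44591 Q44591 (allL N44591 (tt N25226 (iv1 F309006)) (tt N35497 (iv0 F311133)) (tt N35498 (iv2 F309392)) (tt N48474 (iv3 F313126)) (tt N22878 F112625) (tt N34392 (iv5 F311136)) (tt N22877 (iv6 D75124)) (tt N33856 (iv7 F311138)))
theorem Q44593 : ∀ i, i < 44593 → P i := stepQ 44592 Q44592 (allL N44592 (tt N42399 (iv1 F112642)) (tt N22882 (iv0 D75128)) (tt N41834 (iv2 F112636)) (tt N33759 F183646) (tt N25346 (iv4 F316331)) (tt N25145 F112635) (tt N33621 F112634) (tt N42398 (iv7 F112637)))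
theorem Q44594 : ∀ i, i < 44594 → P i := stepQ 44593 Q44593 (allL N44593 (tt N22882 (iv1 D75129)) (tt N42399 F112638) (tt N42398 F112641) (tt N42064 F243077) (tt N31952 (iv4 F316332)) (tt N25144 (iv5 F112640)) (tt N78328 F248276) (tt N41834 F112639))
theorem Q44595 : ∀ i, i < 44595 → P i := stepQ 44594 Q44594 (allL N44594 (tt N33669 F112654) (tt N33668 F112653) (tt N41309 F112650) (tt N23266 F112651) (tt N32530 (iv4 F112655)) (tt N22883 (iv5 D75131)) (tt N61729 (iv6 F327859)) (tt N41310 F112652))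
theorem Q44596 : ∀ i, i < 44596 → P i := stepQ 44595 Q44595 (allL N44595 (tt N75350 (iv1 F350729)) (tt N75347 (iv0 F350787)) (tt N66937 (iv2 F312502)) (tt N22884 (iv3 D75132)) (tt N33714 F112656) (tt N41850 F112657) (tt N36442 F310230) (tt N41849 F112658))
theorem Q44597 : ∀ i, i < 44597 → P i := stepQ 44596 Q44596 (allL N44596 (tt N45411 (iv1 F307305)) (tt N69679 (iv0 F215803)) (tt N42404 F112659) (tt N36442 (iv3 F308216)) (tt N22885 F112660) (tt N28141 (iv5 F308217)) (tt N22884 (iv6 D75133)) (tt N66938 (iv7 F307302)))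
theorem Q44598 : ∀ i, i < 44598 → P i := stepQ 44597 Q44597 (allL N44597 (tt N42406 (iv1 F112665)) (tt N22885 (iv0 D75134)) (tt N42248 (iv2 F130318)) (tt N25655 (iv3 F308123)) (tt N41608 (iv4 F215670)) (tt N27279 F306168) (tt N42279 F313210) (tt N42405 F112667))
theorem Q44599 : ∀ i, i < 44599 → P i := stepQ 44598 Q44598 (allL N44598 (tt N42405 (iv1 F112666)) (tt N42248 (iv0 F130316)) (tt N42406 F112661) (tt N33718 F112662) (tt N66938 (iv4 F307300)) (tt N37477 F112663) (tt N42399 F112664) (tt N22885 (iv7 D75135)))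
theorem Q44600 : ∀ i, i < 44600 → P i := stepQ 44599 Q44599 (allL N44599 (tt N74835 (iv1 F229432)) (tt N22886 (iv0 D75136)) (tt N74834 (iv2 F357687)) (tt N78370 D157697) (tt N78371 D157698) (tt N74758 (iv5 F347965)) (tt N78372 D157700) (tt N74833 (iv7 F347920)))
theorem Q44601 : ∀ i, i < 44601 → P i := stepQ 44600 Q44600 (allL N44600 (tt N22886 (iv1 D75137)) (tt N74835 F229434) (tt N74833 (iv2 F347919)) (tt N78373 D157702) (tt N78374 D157703) (tt N74759 (iv5 F353675)) (tt N78375 D157705) (tt N74834 (iv7 F357689)))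
theorem Q44602 : ∀ i, i < 44602 → P i := stepQ 44601 Q44601 (allL N44601 (tt N74834 (iv1 F229433)) (tt N74833 F229429) (tt N22886 (iv2 D75138)) (tt N42414 F112672) (tt N78362 (iv4 F248413)) (tt N75754 (iv5 F233674)) (tt N64020 (iv6 F192211)) (tt N74835 (iv7 F229431)))
theorem Q44603 : ∀ i, i < 44603 → P i := stepQ 44602 Q44602 (allL N44602 (tt N61106 (iv1 F352132)) (tt N61103 (iv0 F352068)) (tt N78376 D157708) (tt N22887 (iv3 D75139)) (tt N41378 F112673) (tt N33404 F112674) (tt N76655 (iv6 F318695)) (tt N40810 F112675))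
theorem Q44604 : ∀ i, i < 44604 → P i := stepQ 44603 Q44603 (allL N44603 (tt N25346 (iv1 F316330)) (tt N31952 F318598) (tt N33498 F112676) (tt N76655 (iv3 F318693)) (tt N22888 F112677) (tt N31340 (iv5 F320719)) (tt N22887 (iv6 D75140)) (tt N45933 (iv7 F315667)))
theorem Q44605 : ∀ i, i < 44605 → P i := stepQ 44604 Q44604 (allL N44604 (tt N33501 F112680) (tt N22888 (iv0 D75141)) (tt N33499 F131544) (tt N75339 (iv3 F243346)) (tt N25335 F313265) (tt N25214 F112679) (tt N33578 F112678) (tt N33500 F131542))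
theorem Q44606 : ∀ i, i < 44606 → P i := stepQ 44605 Q44605 (allL N44605 (tt N22888 (iv1 D75142)) (tt N33501 F112681) (tt N33500 (iv2 F131543)) (tt N75554 (iv3 F231805)) (tt N42107 F312522) (tt N25213 (iv5 F112682)) (tt N78377 D157712) (tt N33499 F131539))
theorem Q44607 : ∀ i, i < 44607 → P i := stepQ 44606 Q44606 (allL N44606 (tt N33500 (iv1 F112688)) (tt N33499 (iv0 F112689)) (tt N33501 F112684) (tt N32824 (iv3 F309316)) (tt N45933 (iv4 F315666)) (tt N36656 F112686) (tt N32822 F307294) (tt N22888 (iv7 D75143)))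
theorem Q44608 : ∀ i, i < 44608 → P i := stepQ 44607 Q44607 (allL N44607 (tt N61610 (iv1 F179127)) (tt N78378 D157719) (tt N32768 F145385) (tt N62784 (iv3 F316819)) (tt N78379 D157720) (tt N22889 (iv5 D75147)) (tt N50349 F157811) (tt N32770 F145377))
theorem Q44609 : ∀ i, i < 44609 → P i := stepQ 44608 Q44608 (allL N44608 (tt N34405 F177780) (tt N78380 D157721) (tt N32769 (iv2 F145368)) (tt N62785 (iv3 F316820)) (tt N55787 (iv4 F161739)) (tt N27226 F112691) (tt N22889 (iv6 D75148)) (tt N45145 (iv7 F145360)))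
theorem Q44610 : ∀ i, i < 44610 → P i := stepQ 44609 Q44609 (allL N44609 (tt N32809 F290469) (tt N32827 (iv0 F290470)) (tt N32825 (iv2 F290331)) (tt N22890 (iv3 D75150)) (tt N42219 F315234) (tt N78381 D157726) (tt N70713 (iv6 F338634)) (tt N32767 (iv7 F145383)))
theorem Q44611 : ∀ i, i < 44611 → P i := stepQ 44610 Q44610 (allL N44610 (tt N78378 (iv1 F248560)) (tt N61610 (iv0 F179126)) (tt N32770 F145378) (tt N78381 (iv3 F248581)) (tt N78382 D157728) (tt N22890 (iv5 D75152)) (tt N78383 D157729) (tt N32768 (iv7 F145384)))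
theorem Q44612 : ∀ i, i < 44612 → P i := stepQ 44611 Q44611 (allL N44611 (tt N32563 (iv1 F177324)) (tt N32567 F177323) (tt N32771 F145379) (tt N70713 (iv3 F338633)) (tt N55789 (iv4 F161750)) (tt N55824 (iv5 F161857)) (tt N22890 (iv6 D75153)) (tt N61569 (iv7 F179046)))
theorem Q44613 : ∀ i, i < 44613 → P i := stepQ 44612 Q44612 (allL N44612 (tt N32775 (iv1 F112699)) (tt N22891 (iv0 D75154)) (tt N32772 F153460) (tt N41771 F325419) (tt N66785 (iv4 F205554)) (tt N41770 F325420) (tt N78384 D157731) (tt N32773 F153458))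
theorem Q44614 : ∀ i, i < 44614 → P i := stepQ 44613 Q44613 (allL N44613 (tt N22891 (iv1 D75155)) (tt N32775 F112693) (tt N32773 (iv2 F153457)) (tt N78385 D157732) (tt N66786 (iv4 F205560)) (tt N32896 (iv5 F112694)) (tt N78386 D157733) (tt N32772 (iv7 F153459)))
theorem Q44615 : ∀ i, i < 44615 → P i := stepQ 44614 Q44614 (allL N44614 (tt N61184 F178552) (tt N61187 (iv0 F178301)) (tt N32774 F112695) (tt N73020 (iv3 F345316)) (tt N22891 (iv4 D75156)) (tt N62339 (iv5 F331532)) (tt N22894 F112696) (tt N73024 (iv7 F331526)))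
theorem Q44616 : ∀ i, i < 44616 → P i := stepQ 44615 Q44615 (allL N44615 (tt N32773 (iv1 F112700)) (tt N32772 F112701) (tt N32775 F112697) (tt N63311 (iv3 F186811)) (tt N73024 (iv4 F331525)) (tt N22892 F112698) (tt N78387 D157737) (tt N22891 (iv7 D75157)))
theorem Q44617 : ∀ i, i < 44617 → P i := stepQ 44616 Q44616 (allL N44616 (tt N78388 D157738) (tt N78389 D157739) (tt N32777 F112702) (tt N74520 (iv3 F228216)) (tt N66809 (iv4 F205642)) (tt N78390 D157740) (tt N22893 (iv6 D75158)) (tt N78391 D157741))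
theorem Q44618 : ∀ i, i < 44618 → P i := stepQ 44617 Q44617 (allL N44617 (tt N58283 (iv1 F349732)) (tt N50128 (iv0 F351314)) (tt N73021 (iv2 F331537)) (tt N22894 (iv3 D75159)) (tt N63321 (iv4 F186824)) (tt N61325 (iv5 F178595)) (tt N73020 (iv6 F345317)) (tt N38715 F331539))
theorem Q44619 : ∀ i, i < 44619 → P i := stepQ 44618 Q44618 (allL N44618 (tt N78392 D157745) (tt N78393 D157746) (tt N32785 F112703) (tt N63324 (iv3 F186826)) (tt N38713 F331543) (tt N32735 F112704) (tt N22895 (iv6 D75160)) (tt N78387 (iv7 F248609)))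
theorem Q44620 : ∀ i, i < 44620 → P i := stepQ 44619 Q44619 (allL N44619 (tt N51614 (iv1 F146898)) (tt N51612 (iv0 F146891)) (tt N48406 (iv2 F132353)) (tt N38430 F328352) (tt N25582 F112706) (tt N22896 (iv5 D75162)) (tt N38429 (iv6 F328765)) (tt N24246 F112707))
theorem Q44621 : ∀ i, i < 44621 → P i := stepQ 44620 Q44620 (allL N44620 (tt N78394 D157752) (tt N78395 D157753) (tt N78396 D157754) (tt N22897 (iv3 D75163)) (tt N48394 (iv4 F132332)) (tt N55601 (iv5 F160971)) (tt N47684 (iv6 F129470)) (tt N52251 (iv7 F148282)))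
theorem Q44622 : ∀ i, i < 44622 → P i := stepQ 44621 Q44621 (allL N44621 (tt N25477 (iv1 F296233)) (tt N25478 (iv0 F296234)) (tt N45495 F296048) (tt N31312 F327059) (tt N22899 F112714) (tt N52658 (iv5 F296312)) (tt N22898 (iv6 D75167)) (tt N45494 (iv7 F296285)))
theorem Q44623 : ∀ i, i < 44623 → P i := stepQ 44622 Q44622 (allL N44622 (tt N25478 F112717) (tt N25477 F112718) (tt N45494 F116032) (tt N39022 (iv3 F330369)) (tt N22900 (iv4 D75171)) (tt N48764 F294094) (tt N39021 (iv6 F330370)) (tt N45495 (iv7 F116034)))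
theorem Q44624 : ∀ i, i < 44624 → P i := stepQ 44623 Q44623 (allL N44623 (tt N34682 (iv1 F296319)) (tt N45990 (iv0 F296318)) (tt N45989 (iv2 F296313)) (tt N22902 F112719) (tt N39021 F330387) (tt N44623 F112720) (tt N22900 (iv6 D75172)) (tt N22902 F296076))
theorem Q44625 : ∀ i, i < 44625 → P i := stepQ 44624 Q44624 (allL N44624 (tt N67485 (iv1 F343671)) (tt N67488 (iv0 F341793)) (tt N60468 (iv2 F327653)) (tt N22901 (iv3 D75173)) (tt N39022 F330371) (tt N78397 D157777) (tt N36754 (iv6 F330390)) (tt N48287 (iv7 F132074)))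
theorem Q44626 : ∀ i, i < 44626 → P i := stepQ 44625 Q44625 (allL N44625 (tt N48798 F294524) (tt N48801 F294525) (tt N48285 (iv2 F132065)) (tt N78397 (iv3 F248672)) (tt N25536 F294526) (tt N22901 (iv5 D75174)) (tt N54128 (iv6 F295126)) (tt N48288 (iv7 F132077)))
theorem Q44627 : ∀ i, i < 44627 → P i := stepQ 44626 Q44626 (allL N44626 (tt N45844 (iv1 F296433)) (tt N45842 (iv0 F296434)) (tt N48286 (iv2 F132070)) (tt N36754 (iv3 F330389)) (tt N22902 F112722) (tt N36789 (iv5 F330394)) (tt N22901 (iv6 D75175)) (tt N39021 F330388))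
theorem Q44628 : ∀ i, i < 44628 → P i := stepQ 44627 Q44627 (allL N44627 (tt N22902 (iv1 D75177)) (tt N45989 F120024) (tt N34682 (iv2 F120025)) (tt N34676 (iv3 F296429)) (tt N67448 (iv4 F337370)) (tt N35800 F325654) (tt N41587 (iv6 F325658)) (tt N45990 (iv7 F120028)))
theorem Q44629 : ∀ i, i < 44629 → P i := stepQ 44628 Q44628 (allL N44628 (tt N35686 F328128) (tt N78398 D157786) (tt N78399 D157787) (tt N22903 (iv3 D75179)) (tt N49303 (iv4 F135891)) (tt N52315 (iv5 F148588)) (tt N74651 (iv6 F332891)) (tt N27293 F112725))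
theorem Q44630 : ∀ i, i < 44630 → P i := stepQ 44629 Q44629 (allL N44629 (tt N34953 (iv1 F296412)) (tt N45388 (iv0 F126152)) (tt N23700 (iv2 F296379)) (tt N74651 (iv3 F332889)) (tt N23699 F296336) (tt N74650 (iv5 F357901)) (tt N22903 (iv6 D75180)) (tt N48434 (iv7 F297284)))
theorem Q44631 : ∀ i, i < 44631 → P i := stepQ 44630 Q44630 (allL N44630 (tt N60427 (iv1 F323109)) (tt N22904 (iv0 D75181)) (tt N45893 (iv2 F254368)) (tt N78400 D157792) (tt N45892 (iv4 F254402)) (tt N67273 (iv5 F332752)) (tt N60637 (iv6 F355859)) (tt N65425 (iv7 F254367)))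
theorem Q44632 : ∀ i, i < 44632 → P i := stepQ 44631 Q44631 (allL N44631 (tt N22904 (iv1 D75182)) (tt N60427 (iv0 F323108)) (tt N65425 (iv2 F254366)) (tt N35688 (iv3 F327555)) (tt N45896 (iv4 F254372)) (tt N67279 (iv5 F332755)) (tt N46860 F330698) (tt N45893 (iv7 F254369)))
theorem Q44633 : ∀ i, i < 44633 → P i := stepQ 44632 Q44632 (allL N44632 (tt N45893 F119819) (tt N65425 F201652) (tt N22904 (iv2 D75183)) (tt N78396 (iv3 F248632)) (tt N22908 F112727) (tt N78401 D157800) (tt N47763 (iv6 F129710)) (tt N60427 (iv7 F323112)))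
theorem Q44634 : ∀ i, i < 44634 → P i := stepQ 44633 Q44633 (allL N44633 (tt N78402 D157801) (tt N78403 D157802) (tt N78401 (iv2 F248689)) (tt N22905 F112728) (tt N78404 D157803) (tt N22904 (iv5 D75184)) (tt N67334 (iv6 F345248)) (tt N65426 (iv7 F201659)))
theorem Q44635 : ∀ i, i < 44635 → P i := stepQ 44634 Q44634 (allL N44634 (tt N25586 (iv1 F112731)) (tt N22905 (iv0 D75185)) (tt N48292 (iv2 F132092)) (tt N56720 (iv3 F359001)) (tt N25578 F112730) (tt N25575 F112729) (tt N56717 (iv6 F337807)) (tt N25683 F294510))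
theorem Q44636 : ∀ i, i < 44636 → P i := stepQ 44635 Q44635 (allL N44635 (tt N22905 (iv1 D75186)) (tt N25586 F112732) (tt N25683 F294508) (tt N78405 D157807) (tt N25527 F294509) (tt N23951 F112733) (tt N78406 D157808) (tt N48292 (iv7 F132094)))
theorem Q44637 : ∀ i, i < 44637 → P i := stepQ 44636 Q44636 (allL N44636 (tt N78407 D157809) (tt N67984 (iv0 F358873)) (tt N55602 (iv2 F160973)) (tt N67334 (iv3 F345245)) (tt N52300 (iv4 F148512)) (tt N47769 (iv5 F129714)) (tt N22905 (iv6 D75187)) (tt N78408 D157811))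
theorem Q44638 : ∀ i, i < 44638 → P i := stepQ 44637 Q44637 (allL N44637 (tt N46332 (iv1 F254260)) (tt N78409 D157819) (tt N64080 (iv2 F256570)) (tt N22906 (iv3 D75189)) (tt N48353 F132216) (tt N45639 (iv5 F248724)) (tt N64114 (iv6 F333778)) (tt N64083 (iv7 F256554)))
theorem Q44639 : ∀ i, i < 44639 → P i := stepQ 44638 Q44638 (allL N44638 (tt N48377 F132261) (tt N78410 D157824) (tt N65430 (iv2 F256546)) (tt N78411 D157825) (tt N22906 (iv4 D75190)) (tt N78412 D157826) (tt N78413 D157827) (tt N65428 (iv7 F256556)))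
theorem Q44640 : ∀ i, i < 44640 → P i := stepQ 44639 Q44639 (allL N44639 (tt N78414 D157834) (tt N45389 (iv0 F333774)) (tt N47276 (iv2 F329454)) (tt N64114 (iv3 F333777)) (tt N78413 (iv4 F248709)) (tt N47265 F329144) (tt N22906 (iv6 D75192)) (tt N47280 (iv7 F329455)))
theorem Q44641 : ∀ i, i < 44641 → P i := stepQ 44640 Q44640 (allL N44640 (tt N64983 F248713) (tt N46301 (iv0 F257952)) (tt N78415 D157840) (tt N22907 (iv3 D75194)) (tt N78416 D157841) (tt N48340 F248720) (tt N78417 D157842) (tt N65429 (iv7 F256545)))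
theorem Q44642 : ∀ i, i < 44642 → P i := stepQ 44641 Q44641 (allL N44641 (tt N78410 (iv1 F248708)) (tt N48377 F248712) (tt N65428 (iv2 F256555)) (tt N78418 D157843) (tt N22907 (iv4 D75195)) (tt N78419 D157844) (tt N78420 D157845) (tt N65430 (iv7 F256547)))
theorem Q44643 : ∀ i, i < 44643 → P i := stepQ 44642 Q44642 (allL N44642 (tt N22989 (iv1 F329438)) (tt N28011 (iv0 F329439)) (tt N28009 F329119) (tt N78417 (iv3 F248747)) (tt N78420 (iv4 F248749)) (tt N24623 F329120) (tt N22907 (iv6 D75197)) (tt N28008 (iv7 F329447)))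
theorem Q44644 : ∀ i, i < 44644 → P i := stepQ 44643 Q44643 (allL N44643 (tt N24075 F112738) (tt N22909 (iv0 D75198)) (tt N24073 F114047) (tt N23009 F112737) (tt N24392 F117617) (tt N24146 (iv5 F298109)) (tt N78421 D157851) (tt N24074 (iv7 F114008)))
theorem Q44645 : ∀ i, i < 44645 → P i := stepQ 44644 Q44644 (allL N44644 (tt N24074 (iv1 F112745)) (tt N24073 F112746) (tt N24075 F112740) (tt N34841 F112741) (tt N34566 F112742) (tt N24347 F112743) (tt N27974 F112744) (tt N22909 (iv7 D75200)))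
theorem Q44646 : ∀ i, i < 44646 → P i := stepQ 44645 Q44645 (allL N44645 (tt N24047 F112750) (tt N24045 F112751) (tt N45415 F115769) (tt N78422 D157852) (tt N22910 (iv4 D75201)) (tt N78423 D157853) (tt N46921 (iv6 F298027)) (tt N24356 F112749))
theorem Q44647 : ∀ i, i < 44647 → P i := stepQ 44646 Q44646 (allL N44646 (tt N78424 D157854) (tt N78425 D157855) (tt N78426 D157856) (tt N22911 (iv3 D75202)) (tt N78422 (iv4 F248763)) (tt N78427 D157857) (tt N64311 (iv6 F195833)) (tt N24371 F112752))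
theorem Q44648 : ∀ i, i < 44648 → P i := stepQ 44647 Q44647 (allL N44647 (tt N64289 (iv1 F195618)) (tt N64288 F195615) (tt N44651 (iv2 F112757)) (tt N78427 (iv3 F248774)) (tt N40700 F341316) (tt N22911 (iv5 D75203)) (tt N30841 (iv6 F341331)) (tt N24372 F112753))
theorem Q44649 : ∀ i, i < 44649 → P i := stepQ 44648 Q44648 (allL N44648 (tt N78428 D157859) (tt N78429 D157860) (tt N78430 D157861) (tt N22912 (iv3 D75204)) (tt N46539 (iv4 F125353)) (tt N78431 D157862) (tt N47831 (iv6 F129874)) (tt N46704 (iv7 F126230)))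
theorem Q44650 : ∀ i, i < 44650 → P i := stepQ 44649 Q44649 (allL N44649 (tt N45507 (iv1 F116163)) (tt N40700 F341309) (tt N22922 F112754) (tt N78431 (iv3 F248777)) (tt N25314 F112755) (tt N22912 (iv5 D75205)) (tt N78432 D157863) (tt N44669 (iv7 F112784)))
theorem Q44651 : ∀ i, i < 44651 → P i := stepQ 44650 Q44650 (allL N44650 (tt N30946 F327609) (tt N78433 D157865) (tt N78434 D157866) (tt N22914 (iv3 D75206)) (tt N64057 (iv4 F192512)) (tt N78435 D157867) (tt N46738 (iv6 F126411)) (tt N34776 F112756))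
theorem Q44652 : ∀ i, i < 44652 → P i := stepQ 44651 Q44651 (allL N44651 (tt N46718 (iv1 F126262)) (tt N46717 F126261) (tt N44647 F112757) (tt N78435 (iv3 F248787)) (tt N40365 F341328) (tt N22914 (iv5 D75207)) (tt N30922 F341329) (tt N34777 F112758))
theorem Q44653 : ∀ i, i < 44653 → P i := stepQ 44652 Q44652 (allL N44652 (tt N22918 (iv1 F112760)) (tt N22915 (iv0 D75208)) (tt N45626 (iv2 F119130)) (tt N78436 D157869) (tt N23511 F112759) (tt N46718 (iv5 F126263)) (tt N58702 (iv6 F325633)) (tt N45493 (iv7 F116027)))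
theorem Q44654 : ∀ i, i < 44654 → P i := stepQ 44653 Q44653 (allL N44653 (tt N59325 (iv1 F327454)) (tt N78437 D157872) (tt N78438 D157873) (tt N22915 (iv3 D75209)) (tt N45632 (iv4 F119161)) (tt N78439 D157874) (tt N78440 D157875) (tt N45946 (iv7 F298601)))
theorem Q44655 : ∀ i, i < 44655 → P i := stepQ 44654 Q44654 (allL N44654 (tt N64286 (iv1 F195596)) (tt N58709 (iv0 F327006)) (tt N48305 (iv2 F132104)) (tt N78439 (iv3 F248793)) (tt N44663 (iv4 F112774)) (tt N22915 (iv5 D75210)) (tt N78441 D157876) (tt N45949 (iv7 F298603)))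
theorem Q44656 : ∀ i, i < 44656 → P i := stepQ 44655 Q44655 (allL N44655 (tt N78442 D157877) (tt N78443 D157878) (tt N48306 (iv2 F132108)) (tt N78440 (iv3 F248794)) (tt N22916 F112761) (tt N78444 D157879) (tt N22915 (iv6 D75211)) (tt N34675 (iv7 F299592)))
theorem Q44657 : ∀ i, i < 44657 → P i := stepQ 44656 Q44656 (allL N44656 (tt N34671 (iv1 F297996)) (tt N22916 (iv0 D75212)) (tt N34677 (iv2 F298658)) (tt N45990 (iv3 F120026)) (tt N78445 D157881) (tt N35214 (iv5 F299557)) (tt N34798 F112762) (tt N34676 F297401))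
theorem Q44658 : ∀ i, i < 44658 → P i := stepQ 44657 Q44657 (allL N44657 (tt N23479 F112764) (tt N23477 F112765) (tt N26762 F296006) (tt N78446 D157882) (tt N22917 (iv4 D75215)) (tt N78447 D157883) (tt N22939 (iv6 F296122)) (tt N45406 F115752))
theorem Q44659 : ∀ i, i < 44659 → P i := stepQ 44658 Q44658 (allL N44658 (tt N78448 D157888) (tt N78449 D157889) (tt N78450 D157890) (tt N22918 (iv3 D75217)) (tt N78446 (iv4 F248799)) (tt N78451 D157891) (tt N45937 (iv6 F297994)) (tt N48304 (iv7 F132103)))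
theorem Q44660 : ∀ i, i < 44660 → P i := stepQ 44659 Q44659 (allL N44659 (tt N58709 (iv1 F327007)) (tt N64286 (iv0 F195595)) (tt N45949 (iv2 F298602)) (tt N78451 (iv3 F248805)) (tt N44661 (iv4 F112771)) (tt N22918 (iv5 D75218)) (tt N73033 (iv6 F360101)) (tt N48305 (iv7 F132105)))
theorem Q44661 : ∀ i, i < 44661 → P i := stepQ 44660 Q44660 (allL N44660 (tt N78452 D157899) (tt N78453 D157900) (tt N56807 (iv2 F337387)) (tt N22919 (iv3 D75223)) (tt N56822 (iv4 F337392)) (tt N78454 D157902) (tt N35565 F337384) (tt N48307 (iv7 F132110)))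
theorem Q44662 : ∀ i, i < 44662 → P i := stepQ 44661 Q44661 (allL N44661 (tt N48335 (iv1 F132161)) (tt N25326 F112772) (tt N48309 (iv2 F132120)) (tt N78454 (iv3 F248810)) (tt N44659 F112771) (tt N22919 (iv5 D75224)) (tt N40395 F360107) (tt N48308 (iv7 F132112)))
theorem Q44663 : ∀ i, i < 44663 → P i := stepQ 44662 Q44662 (allL N44662 (tt N78445 (iv1 F257769)) (tt N45993 (iv0 F257770)) (tt N48310 (iv2 F132125)) (tt N35565 (iv3 F337381)) (tt N49306 (iv4 F135925)) (tt N56357 (iv5 F337383)) (tt N22919 (iv6 D75225)) (tt N56820 F337380))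
theorem Q44664 : ∀ i, i < 44664 → P i := stepQ 44663 Q44663 (allL N44663 (tt N25326 F112775) (tt N48335 (iv0 F132160)) (tt N48308 (iv2 F132111)) (tt N58484 (iv3 F326835)) (tt N44654 F112774) (tt N22920 (iv5 D75227)) (tt N58327 (iv6 F363343)) (tt N48309 (iv7 F132122)))
theorem Q44665 : ∀ i, i < 44665 → P i := stepQ 44664 Q44664 (allL N44664 (tt N48312 (iv1 F132130)) (tt N22921 (iv0 D75229)) (tt N46335 (iv2 F258219)) (tt N78455 D157918) (tt N46334 (iv4 F258217)) (tt N78456 D157920) (tt N78457 D157921) (tt N48311 (iv7 F258231)))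
theorem Q44666 : ∀ i, i < 44666 → P i := stepQ 44665 Q44665 (allL N44665 (tt N22921 (iv1 D75230)) (tt N48312 F132131) (tt N48311 (iv2 F258229)) (tt N78458 D157923) (tt N45917 (iv4 F119847)) (tt N78459 D157924) (tt N63885 (iv6 F330795)) (tt N46335 (iv7 F258220)))
theorem Q44667 : ∀ i, i < 44667 → P i := stepQ 44666 Q44666 (allL N44666 (tt N46335 F122842) (tt N48311 F132127) (tt N22921 (iv2 D75231)) (tt N78430 (iv3 F248776)) (tt N22925 F112777) (tt N78460 D157926) (tt N47893 (iv6 F130007)) (tt N48312 (iv7 F132129)))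
theorem Q44668 : ∀ i, i < 44668 → P i := stepQ 44667 Q44667 (allL N44667 (tt N78461 D157927) (tt N78462 D157928) (tt N78460 (iv2 F248824)) (tt N22922 F112778) (tt N54036 (iv4 F345253)) (tt N22921 (iv5 D75232)) (tt N54035 (iv6 F345257)) (tt N48313 (iv7 F132133)))
theorem Q44669 : ∀ i, i < 44669 → P i := stepQ 44668 Q44668 (allL N44668 (tt N44669 (iv1 F112787)) (tt N22922 (iv0 D75233)) (tt N45507 (iv2 F116159)) (tt N78463 D157931) (tt N24372 (iv4 F112780)) (tt N25367 F112779) (tt N30832 F341292) (tt N40700 (iv7 F341302)))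
theorem Q44670 : ∀ i, i < 44670 → P i := stepQ 44669 Q44669 (allL N44669 (tt N40365 (iv1 F341311)) (tt N44668 F112787) (tt N25314 F112783) (tt N78464 D157935) (tt N22922 (iv4 D75235)) (tt N24365 F112785) (tt N59658 (iv6 F345270)) (tt N44649 F112784))
theorem Q44671 : ∀ i, i < 44671 → P i := stepQ 44670 Q44670 (allL N44670 (tt N78465 D157937) (tt N72295 (iv0 F357949)) (tt N78432 (iv2 F248778)) (tt N54035 (iv3 F345255)) (tt N59658 (iv4 F345269)) (tt N47899 (iv5 F130011)) (tt N22922 (iv6 D75236)) (tt N78466 D157939))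
theorem Q44672 : ∀ i, i < 44672 → P i := stepQ 44671 Q44671 (allL N44671 (tt N78467 D157952) (tt N78468 D157953) (tt N48322 (iv2 F261316)) (tt N58824 (iv3 F327419)) (tt N22923 (iv4 D75239)) (tt N78469 D157955) (tt N78470 D157956) (tt N48319 (iv7 F261309)))
theorem Q44673 : ∀ i, i < 44673 → P i := stepQ 44672 Q44672 (allL N44672 (tt N24707 (iv1 F330871)) (tt N45994 (iv0 F330872)) (tt N48323 (iv2 F261318)) (tt N58826 (iv3 F327256)) (tt N78470 (iv4 F248849)) (tt N45553 F330869) (tt N22923 (iv6 D75241)) (tt N78471 D157966))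
theorem Q44674 : ∀ i, i < 44674 → P i := stepQ 44673 Q44673 (allL N44673 (tt N78472 D157968) (tt N64132 (iv0 F257783)) (tt N58820 (iv2 F327245)) (tt N22924 (iv3 D75243)) (tt N78473 D157971) (tt N48301 (iv5 F256339)) (tt N78474 D157973) (tt N48321 (iv7 F261315)))
theorem Q44675 : ∀ i, i < 44675 → P i := stepQ 44674 Q44674 (allL N44674 (tt N78468 (iv1 F248848)) (tt N78467 F248852) (tt N48319 (iv2 F261308)) (tt N78475 D157974) (tt N22924 (iv4 D75244)) (tt N78476 D157975) (tt N78477 D157976) (tt N48322 (iv7 F261317)))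
theorem Q44676 : ∀ i, i < 44676 → P i := stepQ 44675 Q44675 (allL N44675 (tt N37170 (iv1 F336082)) (tt N78478 D157980) (tt N48320 (iv2 F261310)) (tt N78474 (iv3 F248861)) (tt N78477 (iv4 F248862)) (tt N68248 (iv5 F334621)) (tt N22924 (iv6 D75246)) (tt N68256 (iv7 F330886)))
theorem Q44677 : ∀ i, i < 44677 → P i := stepQ 44676 Q44676 (allL N44676 (tt N22950 (iv1 F112790)) (tt N22926 (iv0 D75247)) (tt N22949 F125564) (tt N46590 (iv3 F125563)) (tt N64385 (iv4 F196523)) (tt N24542 F115312) (tt N78479 D157983) (tt N22948 F125565))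
theorem Q44678 : ∀ i, i < 44678 → P i := stepQ 44677 Q44677 (allL N44677 (tt N22926 (iv1 D75248)) (tt N22950 F112791) (tt N22948 F125572) (tt N37642 F306571) (tt N28026 (iv4 F301555)) (tt N24543 F115317) (tt N28025 (iv6 F301558)) (tt N22949 F125573))
theorem Q44679 : ∀ i, i < 44679 → P i := stepQ 44678 Q44678 (allL N44678 (tt N78480 D157985) (tt N69318 (iv0 F331996)) (tt N63426 (iv2 F187381)) (tt N22927 F112792) (tt N45333 (iv4 F115320)) (tt N78481 D157987) (tt N22926 (iv6 D75249)) (tt N78482 D157988))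
theorem Q44680 : ∀ i, i < 44680 → P i := stepQ 44679 Q44679 (allL N44679 (tt N22927 (iv1 D75251)) (tt N23014 F112799) (tt N23016 F114020) (tt N45676 F314796) (tt N25974 (iv4 F114041)) (tt N45675 (iv5 F317074)) (tt N64271 (iv6 F301155)) (tt N23015 F114022))
theorem Q44681 : ∀ i, i < 44681 → P i := stepQ 44680 Q44680 (allL N44680 (tt N37233 F316720) (tt N45676 (iv0 F300814)) (tt N23017 F112800) (tt N78481 (iv3 F248865)) (tt N78483 D157994) (tt N22927 (iv5 D75252)) (tt N22979 F304812) (tt N69188 F316721))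
theorem Q44682 : ∀ i, i < 44682 → P i := stepQ 44681 Q44681 (allL N44681 (tt N23016 (iv1 F112805)) (tt N23015 (iv0 F112807)) (tt N23014 F112802) (tt N78482 (iv3 F248867)) (tt N22931 F112803) (tt N69188 (iv5 F314805)) (tt N22955 F112804) (tt N22927 (iv7 D75253)))
theorem Q44683 : ∀ i, i < 44683 → P i := stepQ 44682 Q44682 (allL N44682 (tt N24583 (iv1 F298709)) (tt N24585 F298681) (tt N23043 (iv2 F113027)) (tt N24624 F298682) (tt N45692 (iv4 F300448)) (tt N22929 (iv5 D75260)) (tt N23817 (iv6 F112822)) (tt N23040 (iv7 F113055)))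
theorem Q44684 : ∀ i, i < 44684 → P i := stepQ 44683 Q44683 (allL N44683 (tt N45414 F297468) (tt N45677 (iv0 F298043)) (tt N23045 F112830) (tt N78484 D158000) (tt N22930 (iv4 D75263)) (tt N74140 (iv5 F356125)) (tt N22932 F112831) (tt N47058 (iv7 F298037)))
theorem Q44685 : ∀ i, i < 44685 → P i := stepQ 44684 Q44684 (allL N44684 (tt N78485 D158003) (tt N78486 D158004) (tt N78487 D158005) (tt N22932 (iv3 D75265)) (tt N45340 (iv4 F115364)) (tt N29094 F112838) (tt N78484 (iv6 F248907)) (tt N24417 F112839))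
theorem Q44686 : ∀ i, i < 44686 → P i := stepQ 44685 Q44685 (allL N44685 (tt N23477 F112859) (tt N23479 F112860) (tt N45406 F115751) (tt N46167 (iv3 F122359)) (tt N22935 (iv4 D75273)) (tt N78488 D158015) (tt N45976 (iv6 F296945)) (tt N26762 F296208))
theorem Q44687 : ∀ i, i < 44687 → P i := stepQ 44686 Q44686 (allL N44686 (tt N24045 F112863) (tt N24047 F112864) (tt N24356 F112862) (tt N78489 D158019) (tt N22936 (iv4 D75275)) (tt N78490 D158020) (tt N24676 (iv6 F298026)) (tt N45415 (iv7 F115771)))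
theorem Q44688 : ∀ i, i < 44688 → P i := stepQ 44687 Q44687 (allL N44687 (tt N78491 D158024) (tt N55468 (iv0 F361129)) (tt N78492 D158026) (tt N22937 (iv3 D75277)) (tt N22941 F112868) (tt N78493 D158027) (tt N47060 (iv6 F128171)) (tt N46323 (iv7 F122812)))
theorem Q44689 : ∀ i, i < 44689 → P i := stepQ 44688 Q44688 (allL N44688 (tt N23722 F112869) (tt N45802 (iv0 F119681)) (tt N46321 (iv2 F122802)) (tt N78493 (iv3 F248970)) (tt N45467 (iv4 F115959)) (tt N22937 (iv5 D75278)) (tt N78494 D158028) (tt N46324 (iv7 F122815)))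
theorem Q44690 : ∀ i, i < 44690 → P i := stepQ 44689 Q44689 (allL N44689 (tt N78495 D158031) (tt N78496 D158032) (tt N78497 D158033) (tt N22939 (iv3 D75280)) (tt N45937 (iv4 F119921)) (tt N50718 (iv5 F142018)) (tt N78446 (iv6 F296211)) (tt N45961 (iv7 F119986)))
theorem Q44691 : ∀ i, i < 44691 → P i := stepQ 44690 Q44690 (allL N44690 (tt N78498 D158041) (tt N78499 D158042) (tt N78500 D158043) (tt N22940 (iv3 D75284)) (tt N23916 F112879) (tt N52147 (iv5 F328695)) (tt N47791 (iv6 F300483)) (tt N46158 (iv7 F122306)))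
theorem Q44692 : ∀ i, i < 44692 → P i := stepQ 44691 Q44691 (allL N44691 (tt N24897 F112881) (tt N24896 F112882) (tt N44707 F112911) (tt N52147 (iv3 F328694)) (tt N26017 F112880) (tt N22940 (iv5 D75285)) (tt N78501 D158045) (tt N44708 (iv7 F112913)))
theorem Q44693 : ∀ i, i < 44693 → P i := stepQ 44692 Q44692 (allL N44692 (tt N59894 (iv1 F326840)) (tt N22941 (iv0 D75286)) (tt N78502 D158047) (tt N78503 D158048) (tt N78504 D158049) (tt N78505 D158050) (tt N78506 D158051) (tt N78507 D158052))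
theorem Q44694 : ∀ i, i < 44694 → P i := stepQ 44693 Q44693 (allL N44693 (tt N22941 (iv1 D75287)) (tt N59894 (iv0 F326839)) (tt N78507 (iv2 F249003)) (tt N78508 D158053) (tt N55487 (iv4 F358096)) (tt N27908 (iv5 F358097)) (tt N27910 (iv6 F358098)) (tt N78502 F249002))
theorem Q44695 : ∀ i, i < 44695 → P i := stepQ 44694 Q44694 (allL N44694 (tt N78502 (iv1 F358444)) (tt N78507 (iv0 F358089)) (tt N22941 (iv2 D75288)) (tt N59898 (iv3 F326837)) (tt N78492 (iv4 F248969)) (tt N78509 D158059) (tt N47149 (iv6 F128369)) (tt N59894 (iv7 F326842)))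
theorem Q44696 : ∀ i, i < 44696 → P i := stepQ 44695 Q44695 (allL N44695 (tt N78510 D158060) (tt N78511 D158061) (tt N78509 (iv2 F249006)) (tt N22942 F112883) (tt N78512 D158062) (tt N22941 (iv5 D75289)) (tt N78513 D158063) (tt N51558 (iv7 F293605)))
theorem Q44697 : ∀ i, i < 44697 → P i := stepQ 44696 Q44696 (allL N44696 (tt N78507 (iv1 F358090)) (tt N78502 (iv0 F358443)) (tt N59894 (iv2 F326841)) (tt N22943 F112884) (tt N46323 (iv4 F122811)) (tt N51558 (iv5 F293604)) (tt N59892 (iv6 F325594)) (tt N22941 (iv7 D75290)))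
theorem Q44698 : ∀ i, i < 44698 → P i := stepQ 44697 Q44697 (allL N44697 (tt N24898 (iv1 F112887)) (tt N22942 (iv0 D75291)) (tt N47628 (iv2 F129325)) (tt N78514 D158066) (tt N26658 F112886) (tt N22945 F112885) (tt N78515 D158067) (tt N28138 F292424))
theorem Q44699 : ∀ i, i < 44699 → P i := stepQ 44698 Q44698 (allL N44698 (tt N22942 (iv1 D75292)) (tt N24898 F112888) (tt N28138 F292216) (tt N78516 D158068) (tt N26385 F292217) (tt N22944 F112889) (tt N78517 D158069) (tt N47628 (iv7 F129327)))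
theorem Q44700 : ∀ i, i < 44700 → P i := stepQ 44699 Q44699 (allL N44699 (tt N78518 D158070) (tt N78519 D158071) (tt N51550 (iv2 F293636)) (tt N78513 (iv3 F249008)) (tt N29088 F112891) (tt N47155 (iv5 F128372)) (tt N22942 (iv6 D75293)) (tt N78520 D158072))
theorem Q44701 : ∀ i, i < 44701 → P i := stepQ 44700 Q44700 (allL N44700 (tt N78521 D158092) (tt N78522 D158093) (tt N78523 D158094) (tt N22944 (iv3 D75301)) (tt N48289 (iv4 F132082)) (tt N78516 (iv5 F249014)) (tt N78524 D158095) (tt N47627 (iv7 F129324)))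
theorem Q44702 : ∀ i, i < 44702 → P i := stepQ 44701 Q44701 (allL N44701 (tt N45977 (iv1 F258667)) (tt N45979 (iv0 F258666)) (tt N47626 (iv2 F129322)) (tt N78524 (iv3 F249044)) (tt N26656 F112905) (tt N78525 D158098) (tt N22944 (iv6 D75302)) (tt N64122 (iv7 F296609)))
theorem Q44703 : ∀ i, i < 44703 → P i := stepQ 44702 Q44702 (allL N44702 (tt N78526 D158100) (tt N78363 (iv0 F363843)) (tt N78527 D158102) (tt N22945 (iv3 D75303)) (tt N23726 (iv4 F297201)) (tt N78514 (iv5 F249012)) (tt N23721 F296267) (tt N47625 (iv7 F129316)))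
theorem Q44704 : ∀ i, i < 44704 → P i := stepQ 44703 Q44703 (allL N44703 (tt N31790 (iv1 F327194)) (tt N22946 (iv0 D75305)) (tt N31819 F326928) (tt N78528 D158107) (tt N65549 F326929) (tt N59922 (iv5 F327527)) (tt N78529 D158110) (tt N31818 (iv7 F327198)))
theorem Q44705 : ∀ i, i < 44705 → P i := stepQ 44704 Q44704 (allL N44704 (tt N22946 (iv1 D75306)) (tt N31790 (iv0 F327193)) (tt N31818 (iv2 F327197)) (tt N78530 D158112) (tt N31286 F326930) (tt N59923 (iv5 F327528)) (tt N58382 (iv6 F327529)) (tt N31819 F326931))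
theorem Q44706 : ∀ i, i < 44706 → P i := stepQ 44705 Q44705 (allL N44705 (tt N31819 F326922) (tt N31818 (iv0 F327196)) (tt N22946 (iv2 D75307)) (tt N47631 (iv3 F129332)) (tt N31793 F326923) (tt N78531 D158116) (tt N47249 (iv6 F128575)) (tt N31790 (iv7 F327195)))
theorem Q44707 : ∀ i, i < 44707 → P i := stepQ 44706 Q44706 (allL N44706 (tt N78532 D158117) (tt N78533 D158118) (tt N78531 (iv2 F249055)) (tt N22947 F112908) (tt N78534 D158119) (tt N22946 (iv5 D75308)) (tt N78535 D158120) (tt N31820 (iv7 F327200)))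
theorem Q44708 : ∀ i, i < 44708 → P i := stepQ 44707 Q44707 (allL N44707 (tt N44848 (iv1 F113676)) (tt N22947 (iv0 D75309)) (tt N44691 (iv2 F112911)) (tt N78536 D158121) (tt N25991 F112910) (tt N25977 F112909) (tt N78537 D158122) (tt N27964 (iv7 F112912)))
theorem Q44709 : ∀ i, i < 44709 → P i := stepQ 44708 Q44708 (allL N44708 (tt N22947 (iv1 D75310)) (tt N44848 (iv0 F113675)) (tt N27964 (iv2 F112916)) (tt N27566 F328693) (tt N25989 F112915) (tt N23947 F112914) (tt N27563 (iv6 F329089)) (tt N44691 F112913))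
theorem Q44710 : ∀ i, i < 44710 → P i := stepQ 44709 Q44709 (allL N44709 (tt N78538 D158125) (tt N78539 D158126) (tt N47633 (iv2 F129334)) (tt N78535 (iv3 F249056)) (tt N49855 (iv4 F137620)) (tt N47254 (iv5 F128579)) (tt N22947 (iv6 D75311)) (tt N78540 D158127))
theorem Q44711 : ∀ i, i < 44711 → P i := stepQ 44710 Q44710 (allL N44710 (tt N28001 (iv1 F149198)) (tt N78541 D158128) (tt N46587 (iv2 F125555)) (tt N22948 (iv3 D75313)) (tt N27733 F112922) (tt N28789 F112921) (tt N63222 (iv6 F305809)) (tt N46590 (iv7 F125562)))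
theorem Q44712 : ∀ i, i < 44712 → P i := stepQ 44711 Q44711 (allL N44711 (tt N46821 (iv1 F127173)) (tt N43098 (iv0 F112923)) (tt N28026 (iv2 F301554)) (tt N48768 (iv3 F301171)) (tt N22948 (iv4 D75314)) (tt N78542 D158130) (tt N28021 (iv6 F302445)) (tt N64385 (iv7 F196527)))
theorem Q44713 : ∀ i, i < 44713 → P i := stepQ 44712 Q44712 (allL N44712 (tt N28687 (iv1 F302446)) (tt N24385 (iv0 F302447)) (tt N28025 (iv2 F301557)) (tt N63222 (iv3 F305806)) (tt N28021 (iv4 F302444)) (tt N34582 (iv5 F302448)) (tt N22948 (iv6 D75315)) (tt N48976 (iv7 F302449)))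
theorem Q44714 : ∀ i, i < 44714 → P i := stepQ 44713 Q44713 (allL N44713 (tt N37641 F304849) (tt N24481 (iv0 F112928)) (tt N37643 F306574) (tt N22949 (iv3 D75317)) (tt N24654 F112927) (tt N24639 F112926) (tt N78543 D158137) (tt N37642 F306575))
theorem Q44715 : ∀ i, i < 44715 → P i := stepQ 44714 Q44714 (allL N44714 (tt N43098 F112929) (tt N46821 (iv0 F127172)) (tt N64385 F196525) (tt N28032 (iv3 F300532)) (tt N22949 (iv4 D75318)) (tt N78544 D158138) (tt N53539 (iv6 F302451)) (tt N28026 (iv7 F301556)))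
theorem Q44716 : ∀ i, i < 44716 → P i := stepQ 44715 Q44715 (allL N44715 (tt N24472 (iv1 F315278)) (tt N63486 (iv0 F315279)) (tt N78479 (iv2 F248863)) (tt N78543 (iv3 F249086)) (tt N53539 (iv4 F302450)) (tt N78545 D158142) (tt N22949 (iv6 D75319)) (tt N53535 (iv7 F315067)))
theorem Q44717 : ∀ i, i < 44717 → P i := stepQ 44716 Q44716 (allL N44716 (tt N26171 (iv1 F112933)) (tt N26170 F112934) (tt N22951 F112930) (tt N22995 F112931) (tt N42795 F303955) (tt N22950 (iv5 D75320)) (tt N43331 (iv6 F305324)) (tt N26172 F112932))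
theorem Q44718 : ∀ i, i < 44718 → P i := stepQ 44717 Q44717 (allL N44717 (tt N37635 (iv1 F315460)) (tt N69298 (iv0 F315461)) (tt N22952 F112935) (tt N22996 F112936) (tt N63891 (iv4 F191559)) (tt N69214 (iv5 F315468)) (tt N22950 (iv6 D75321)) (tt N69238 (iv7 F315436)))
theorem Q44719 : ∀ i, i < 44719 → P i := stepQ 44718 Q44718 (allL N44718 (tt N43212 (iv1 F306644)) (tt N43210 (iv0 F306645)) (tt N43331 (iv2 F305322)) (tt N22953 F112940) (tt N48566 (iv4 F133479)) (tt N69215 (iv5 F317542)) (tt N22951 (iv6 D75323)) (tt N43295 F304613))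
theorem Q44720 : ∀ i, i < 44720 → P i := stepQ 44719 Q44719 (allL N44719 (tt N69238 F317689) (tt N22952 (iv0 D75324)) (tt N37635 (iv2 F319887)) (tt N69304 (iv3 F319888)) (tt N43133 (iv4 F319890)) (tt N69546 (iv5 F319891)) (tt N78546 D158157) (tt N69298 (iv7 F319886)))
theorem Q44721 : ∀ i, i < 44721 → P i := stepQ 44720 Q44720 (allL N44720 (tt N69298 (iv1 F315462)) (tt N37635 (iv0 F315459)) (tt N69238 (iv2 F315434)) (tt N22955 F112942) (tt N63894 (iv4 F191563)) (tt N37133 (iv5 F316616)) (tt N78482 (iv6 F248868)) (tt N22952 (iv7 D75327)))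
theorem Q44722 : ∀ i, i < 44722 → P i := stepQ 44721 Q44721 (allL N44721 (tt N22953 (iv1 D75329)) (tt N23006 F112943) (tt N23004 F273738) (tt N23003 (iv3 F307485)) (tt N28044 F274639) (tt N78547 D158174) (tt N78548 D158175) (tt N23003 F273739))
theorem Q44723 : ∀ i, i < 44723 → P i := stepQ 44722 Q44722 (allL N44722 (tt N23004 (iv1 F112950)) (tt N23003 F112951) (tt N23006 F112946) (tt N43295 (iv3 F303262)) (tt N26185 F112947) (tt N37158 F322822) (tt N23525 F300407) (tt N22953 (iv7 D75331)))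
theorem Q44724 : ∀ i, i < 44724 → P i := stepQ 44723 Q44723 (allL N44723 (tt N24319 F299471) (tt N31309 F325049) (tt N46120 (iv2 F120394)) (tt N22959 F112984) (tt N46370 (iv4 F123138)) (tt N24885 (iv5 F112985)) (tt N22956 (iv6 D75352)) (tt N46121 F299472))
theorem Q44725 : ∀ i, i < 44725 → P i := stepQ 44724 Q44724 (allL N44724 (tt N70045 (iv1 F317027)) (tt N24488 F155406) (tt N63254 F314723) (tt N22957 (iv3 D75354)) (tt N37597 F314724) (tt N69044 (iv5 F317031)) (tt N78549 D158209) (tt N23031 F113040))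
theorem Q44726 : ∀ i, i < 44726 → P i := stepQ 44725 Q44725 (allL N44725 (tt N37010 F317494) (tt N25363 F298291) (tt N23022 (iv2 F113065)) (tt N69044 F317495) (tt N69544 (iv4 F319734)) (tt N22957 (iv5 D75355)) (tt N66469 (iv6 F326572)) (tt N23032 F113041))
theorem Q44727 : ∀ i, i < 44727 → P i := stepQ 44726 Q44726 (allL N44726 (tt N24468 F127204) (tt N46477 (iv0 F300497)) (tt N23023 (iv2 F113064)) (tt N78549 (iv3 F249223)) (tt N22959 F112987) (tt N46216 (iv5 F300736)) (tt N22957 (iv6 D75356)) (tt N46475 F299508))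
theorem Q44728 : ∀ i, i < 44728 → P i := stepQ 44727 Q44727 (allL N44727 (tt N22959 (iv1 D75360)) (tt N23026 F113071) (tt N23024 F113074) (tt N47828 (iv3 F299669)) (tt N69335 (iv4 F316627)) (tt N31839 F326231) (tt N24476 (iv6 F113073)) (tt N22978 F113072))
theorem Q44729 : ∀ i, i < 44729 → P i := stepQ 44728 Q44728 (allL N44728 (tt N23024 (iv1 F113078)) (tt N22978 F113079) (tt N23026 F113075) (tt N46121 (iv3 F297976)) (tt N46475 (iv4 F298792)) (tt N24414 F113076) (tt N23037 F113077) (tt N22959 (iv7 D75361)))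
theorem Q44730 : ∀ i, i < 44730 → P i := stepQ 44729 Q44729 (allL N44729 (tt N25363 F298292) (tt N37010 F317496) (tt N23032 F113100) (tt N36937 (iv3 F319737)) (tt N69543 (iv4 F319739)) (tt N22961 (iv5 D75368)) (tt N78550 D158220) (tt N23022 F113101))
theorem Q44731 : ∀ i, i < 44731 → P i := stepQ 44730 Q44730 (allL N44730 (tt N23466 F297006) (tt N23451 F297007) (tt N23033 F113102) (tt N63257 (iv3 F321351)) (tt N22962 F113103) (tt N78551 D158221) (tt N22961 (iv6 D75369)) (tt N23464 F297008))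
theorem Q44732 : ∀ i, i < 44732 → P i := stepQ 44731 Q44731 (allL N44731 (tt N24423 (iv1 F113132)) (tt N22963 (iv0 D75377)) (tt N24422 (iv2 F113133)) (tt N63435 (iv3 F298217)) (tt N43180 F113130) (tt N32815 F113129) (tt N68362 (iv6 F330273)) (tt N24421 (iv7 F113134)))
theorem Q44733 : ∀ i, i < 44733 → P i := stepQ 44732 Q44732 (allL N44732 (tt N22963 (iv1 D75378)) (tt N24423 F113135) (tt N24421 (iv2 F113139)) (tt N52855 (iv3 F151718)) (tt N27998 F113138) (tt N43168 F113137) (tt N70089 (iv6 F323002)) (tt N24422 F113136))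
theorem Q44734 : ∀ i, i < 44734 → P i := stepQ 44733 Q44733 (allL N44733 (tt N78552 D158230) (tt N78553 D158231) (tt N24499 F296696) (tt N60999 (iv3 F177554)) (tt N45429 (iv4 F115806)) (tt N22965 (iv5 F297058)) (tt N22964 (iv6 D75380)) (tt N77638 (iv7 F298235)))
theorem Q44735 : ∀ i, i < 44735 → P i := stepQ 44734 Q44734 (allL N44734 (tt N24480 (iv1 F113246)) (tt N22967 (iv0 D75458)) (tt N24479 (iv2 F113259)) (tt N26171 F113245) (tt N37641 F304850) (tt N46764 (iv5 F126892)) (tt N37599 (iv6 F306791)) (tt N24478 F113260))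
theorem Q44736 : ∀ i, i < 44736 → P i := stepQ 44735 Q44735 (allL N44735 (tt N22967 (iv1 D75459)) (tt N24480 F113248) (tt N24478 F113258) (tt N37609 F305047) (tt N24481 (iv4 F113247)) (tt N46968 (iv5 F127905)) (tt N69317 (iv6 F306992)) (tt N24479 (iv7 F113257)))
theorem Q44737 : ∀ i, i < 44737 → P i := stepQ 44736 Q44736 (allL N44736 (tt N24479 (iv1 F113253)) (tt N24478 F113252) (tt N22967 (iv2 D75460)) (tt N43304 F113249) (tt N22971 F113250) (tt N37641 F303881) (tt N69230 (iv6 F305916)) (tt N24480 F113251))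
theorem Q44738 : ∀ i, i < 44738 → P i := stepQ 44737 Q44737 (allL N44737 (tt N63254 (iv1 F312342)) (tt N23031 F205694) (tt N24488 F113286) (tt N53257 (iv3 F153243)) (tt N46905 (iv4 F127676)) (tt N68778 (iv5 F320705)) (tt N22969 (iv6 D75478)) (tt N70045 (iv7 F317030)))
theorem Q44739 : ∀ i, i < 44739 → P i := stepQ 44738 Q44738 (allL N44738 (tt N36572 (iv1 F312579)) (tt N70105 (iv0 F330192)) (tt N24486 F113287) (tt N63385 (iv3 F187160)) (tt N47178 (iv4 F128479)) (tt N52812 F310294) (tt N22970 (iv6 D75479)) (tt N77284 (iv7 F312577)))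
theorem Q44740 : ∀ i, i < 44740 → P i := stepQ 44739 Q44739 (allL N44739 (tt N63478 F249406) (tt N78554 D158315) (tt N22973 F113288) (tt N24453 F113289) (tt N69230 (iv4 F305915)) (tt N48278 F324622) (tt N22971 (iv6 D75480)) (tt N78555 D158317))
theorem Q44741 : ∀ i, i < 44741 → P i := stepQ 44740 Q44740 (allL N44740 (tt N69264 F315825) (tt N37545 F315826) (tt N63694 (iv2 F188731)) (tt N22974 F113290) (tt N24650 F113291) (tt N67415 (iv5 F318045)) (tt N22972 (iv6 D75481)) (tt N78556 D158321))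
theorem Q44742 : ∀ i, i < 44742 → P i := stepQ 44741 Q44741 (allL N44741 (tt N78555 (iv1 F249443)) (tt N22973 (iv0 D75482)) (tt N63478 (iv2 F234201)) (tt N77025 (iv3 F354018)) (tt N76752 (iv4 F239874)) (tt N78557 D158323) (tt N78558 D158324) (tt N78554 (iv7 F249435)))
theorem Q44743 : ∀ i, i < 44743 → P i := stepQ 44742 Q44742 (allL N44742 (tt N22973 (iv1 D75483)) (tt N78555 F249442) (tt N78554 F249436) (tt N63444 (iv3 F234199)) (tt N76587 (iv4 F239419)) (tt N78559 D158325) (tt N78560 D158326) (tt N63478 F234200))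
theorem Q44744 : ∀ i, i < 44744 → P i := stepQ 44743 Q44743 (allL N44743 (tt N78561 D158327) (tt N64145 (iv0 F344719)) (tt N48278 F324621) (tt N22975 F113292) (tt N67416 (iv4 F341628)) (tt N22973 (iv5 D75484)) (tt N67415 (iv6 F318046)) (tt N78562 D158330))
theorem Q44745 : ∀ i, i < 44745 → P i := stepQ 44744 Q44744 (allL N44744 (tt N78554 (iv1 F249434)) (tt N63478 (iv0 F187611)) (tt N78555 (iv2 F249439)) (tt N22976 F113293) (tt N37222 F306316) (tt N78562 (iv5 F249453)) (tt N23459 F297039) (tt N22973 (iv7 D75485)))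
theorem Q44746 : ∀ i, i < 44746 → P i := stepQ 44745 Q44745 (allL N44745 (tt N65839 (iv1 F327356)) (tt N78563 D158332) (tt N24462 F113296) (tt N67415 F320208) (tt N36794 (iv4 F321880)) (tt N22974 (iv5 D75488)) (tt N22975 F113297) (tt N78564 D158334))
theorem Q44747 : ∀ i, i < 44747 → P i := stepQ 44746 Q44746 (allL N44746 (tt N24461 (iv1 F113302)) (tt N24460 F113303) (tt N24463 F113298) (tt N78556 (iv3 F249448)) (tt N26132 F113299) (tt N78564 (iv5 F249459)) (tt N24500 F113300) (tt N22974 (iv7 D75489)))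
theorem Q44748 : ∀ i, i < 44748 → P i := stepQ 44747 Q44747 (allL N44747 (tt N24426 F299517) (tt N22975 (iv0 D75500)) (tt N24469 F127215) (tt N48270 F332118) (tt N52836 (iv4 F151596)) (tt N24870 F113316) (tt N78565 D158336) (tt N24470 F127216))
theorem Q44749 : ∀ i, i < 44749 → P i := stepQ 44748 Q44748 (allL N44748 (tt N22975 (iv1 D75501)) (tt N24426 F299518) (tt N24470 F127214) (tt N77027 (iv3 F302488)) (tt N52837 (iv4 F151600)) (tt N24177 F299519) (tt N48375 (iv6 F330688)) (tt N24469 (iv7 F127213)))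
theorem Q44750 : ∀ i, i < 44750 → P i := stepQ 44749 Q44749 (allL N44749 (tt N78566 D158339) (tt N78420 (iv0 F329442)) (tt N24471 F113311) (tt N36798 (iv3 F324890)) (tt N22975 (iv4 D75502)) (tt N46796 (iv5 F300707)) (tt N36794 F323562) (tt N46864 (iv7 F127229)))
theorem Q44751 : ∀ i, i < 44751 → P i := stepQ 44750 Q44750 (allL N44750 (tt N24470 (iv1 F113315)) (tt N24469 F113317) (tt N24426 (iv2 F298236)) (tt N78562 (iv3 F249452)) (tt N46864 (iv4 F127228)) (tt N22976 F113313) (tt N78567 D158342) (tt N22975 (iv7 D75503)))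
theorem Q44752 : ∀ i, i < 44752 → P i := stepQ 44751 Q44751 (allL N44751 (tt N78479 (iv1 F319727)) (tt N53535 (iv0 F344415)) (tt N63486 (iv2 F187671)) (tt N22977 (iv3 D75519)) (tt N63915 (iv4 F191774)) (tt N78568 D158345) (tt N78569 D158346) (tt N24472 F113341))
theorem Q44753 : ∀ i, i < 44753 → P i := stepQ 44752 Q44752 (allL N44752 (tt N35506 F322044) (tt N47012 (iv0 F127990)) (tt N24340 (iv2 F117798)) (tt N78568 (iv3 F249483)) (tt N78570 D158347) (tt N22977 (iv5 D75520)) (tt N78571 D158348) (tt N24473 F113343))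
theorem Q44754 : ∀ i, i < 44754 → P i := stepQ 44753 Q44753 (allL N44753 (tt N45451 F299526) (tt N23010 F113520) (tt N24341 (iv2 F117794)) (tt N78569 (iv3 F249485)) (tt N22978 F113345) (tt N47542 (iv5 F128972)) (tt N22977 (iv6 D75521)) (tt N69335 (iv7 F316630)))
theorem Q44755 : ∀ i, i < 44755 → P i := stepQ 44754 Q44754 (allL N44754 (tt N22993 (iv1 F113350)) (tt N33927 (iv0 F113351)) (tt N43180 (iv2 F113349)) (tt N22979 (iv3 D75522)) (tt N24422 F113348) (tt N23878 F113346) (tt N78481 (iv6 F306785)) (tt N27998 F113347))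
theorem Q44756 : ∀ i, i < 44756 → P i := stepQ 44755 Q44755 (allL N44755 (tt N25613 F113356) (tt N28492 F113357) (tt N28002 F113352) (tt N28378 F113353) (tt N22979 (iv4 D75523)) (tt N27342 F113355) (tt N78483 (iv6 F306787)) (tt N27999 F113354))
theorem Q44757 : ∀ i, i < 44757 → P i := stepQ 44756 Q44756 (allL N44756 (tt N46587 F125556) (tt N46590 F125576) (tt N78541 (iv2 F249070)) (tt N22980 (iv3 D75525)) (tt N45301 (iv4 F115102)) (tt N37607 F307221) (tt N69176 (iv6 F321675)) (tt N28001 F113360))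
theorem Q44758 : ∀ i, i < 44758 → P i := stepQ 44757 Q44757 (allL N44757 (tt N28492 F113364) (tt N25613 (iv0 F113366)) (tt N27999 F113361) (tt N34783 F113365) (tt N22980 (iv4 D75526)) (tt N27341 F113363) (tt N69182 (iv6 F321677)) (tt N28002 F113362))
theorem Q44759 : ∀ i, i < 44759 → P i := stepQ 44758 Q44758 (allL N44758 (tt N43473 (iv1 F298175)) (tt N32756 (iv0 F298176)) (tt N22984 F113368) (tt N28139 F113369) (tt N28591 F113370) (tt N32887 (iv5 F298178)) (tt N22981 (iv6 D75528)) (tt N45428 (iv7 F298166)))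
theorem Q44760 : ∀ i, i < 44760 → P i := stepQ 44759 Q44759 (allL N44759 (tt N22984 (iv1 D75532)) (tt N45428 (iv0 F298165)) (tt N32756 (iv2 F298169)) (tt N63206 (iv3 F305795)) (tt N34855 (iv4 F298171)) (tt N32746 (iv5 F298172)) (tt N63210 (iv6 F311484)) (tt N43473 (iv7 F298167)))
theorem Q44761 : ∀ i, i < 44761 → P i := stepQ 44760 Q44760 (allL N44760 (tt N24781 (iv1 F113385)) (tt N22985 (iv0 D75535)) (tt N24778 F184698) (tt N78572 D158383) (tt N26143 (iv4 F184700)) (tt N78573 D158384) (tt N45621 (iv6 F306603)) (tt N24779 F184699))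
theorem Q44762 : ∀ i, i < 44762 → P i := stepQ 44761 Q44761 (allL N44761 (tt N22985 (iv1 D75536)) (tt N24781 F113379) (tt N24779 F184695) (tt N63596 (iv3 F188251)) (tt N26144 F184696) (tt N78574 D158386) (tt N24695 (iv6 F305490)) (tt N24778 F184697))
theorem Q44763 : ∀ i, i < 44763 → P i := stepQ 44762 Q44762 (allL N44762 (tt N78575 D158388) (tt N78576 D158389) (tt N24780 F113380) (tt N24790 F311749) (tt N24425 (iv4 F298186)) (tt N22985 (iv5 D75537)) (tt N22986 F113381) (tt N78577 D158391))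
theorem Q44764 : ∀ i, i < 44764 → P i := stepQ 44763 Q44763 (allL N44763 (tt N24779 (iv1 F113386)) (tt N24778 F113387) (tt N24781 F113382) (tt N24550 F310854) (tt N26101 F113383) (tt N78577 (iv5 F249561)) (tt N24777 F113384) (tt N22985 (iv7 D75538)))
theorem Q44765 : ∀ i, i < 44765 → P i := stepQ 44764 Q44764 (allL N44764 (tt N22986 (iv1 D75550)) (tt N24064 F296649) (tt N24353 F296650) (tt N64061 (iv3 F298183)) (tt N24419 F296651) (tt N23439 F296652) (tt N78578 D158394) (tt N24419 F296653))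
theorem Q44766 : ∀ i, i < 44766 → P i := stepQ 44765 Q44765 (allL N44765 (tt N25287 F317785) (tt N22987 (iv0 D75555)) (tt N45556 F305786) (tt N78579 D158406) (tt N37648 F302501) (tt N23938 (iv5 F319789)) (tt N69341 (iv6 F304934)) (tt N45557 F305787))
theorem Q44767 : ∀ i, i < 44767 → P i := stepQ 44766 Q44766 (allL N44766 (tt N22987 (iv1 D75556)) (tt N25287 F317784) (tt N45557 (iv2 F303710)) (tt N36486 (iv3 F303596)) (tt N37622 F302502) (tt N23670 (iv5 F319788)) (tt N37228 (iv6 F304936)) (tt N45556 (iv7 F303711)))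
theorem Q44768 : ∀ i, i < 44768 → P i := stepQ 44767 Q44767 (allL N44767 (tt N24777 (iv1 F113415)) (tt N22988 (iv0 D75559)) (tt N24774 F156430) (tt N37557 F313251) (tt N26129 F155416) (tt N48300 F330866) (tt N45553 (iv6 F308850)) (tt N24775 F156431))
theorem Q44769 : ∀ i, i < 44769 → P i := stepQ 44768 Q44768 (allL N44768 (tt N22988 (iv1 D75560)) (tt N24777 F113407) (tt N24775 F156438) (tt N78580 D158420) (tt N26130 (iv4 F155419)) (tt N78581 D158421) (tt N78582 D158422) (tt N24774 F156439))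
theorem Q44770 : ∀ i, i < 44770 → P i := stepQ 44769 Q44769 (allL N44769 (tt N78583 D158423) (tt N78584 D158424) (tt N24776 F113408) (tt N25282 F322420) (tt N60659 (iv4 F326206)) (tt N22988 (iv5 D75561)) (tt N22989 F113410) (tt N78585 D158426))
theorem Q44771 : ∀ i, i < 44771 → P i := stepQ 44770 Q44770 (allL N44770 (tt N24775 (iv1 F113416)) (tt N24774 F113417) (tt N24777 F113411) (tt N24860 F113412) (tt N25233 F113413) (tt N78585 (iv5 F249615)) (tt N24781 F113414) (tt N22988 (iv7 D75562)))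
theorem Q44772 : ∀ i, i < 44772 → P i := stepQ 44771 Q44771 (allL N44771 (tt N28011 (iv1 F113425)) (tt N22989 (iv0 D75573)) (tt N28008 F118943) (tt N78586 D158427) (tt N78566 (iv4 F249470)) (tt N24820 F113427) (tt N47280 F333788) (tt N28009 F118942))
theorem Q44773 : ∀ i, i < 44773 → P i := stepQ 44772 Q44772 (allL N44772 (tt N46858 F127208) (tt N46860 (iv0 F127218)) (tt N28010 F113422) (tt N25280 (iv3 F323857)) (tt N22989 (iv4 D75575)) (tt N52840 (iv5 F151608)) (tt N60659 (iv6 F326207)) (tt N52839 (iv7 F151603)))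
theorem Q44774 : ∀ i, i < 44774 → P i := stepQ 44773 Q44773 (allL N44773 (tt N75937 F300638) (tt N64061 F300639) (tt N51905 F300640) (tt N35095 (iv3 F303422)) (tt N27812 (iv4 F303427)) (tt N22992 (iv5 D75582)) (tt N63597 (iv6 F188259)) (tt N36484 F300641))
theorem Q44775 : ∀ i, i < 44775 → P i := stepQ 44774 Q44774 (allL N44774 (tt N33927 (iv1 F113441)) (tt N22993 (iv0 D75584)) (tt N27998 (iv2 F113440)) (tt N78541 F249069) (tt N24421 F113439) (tt N23877 F113438) (tt N69670 (iv6 F322999)) (tt N43180 F113442))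
theorem Q44776 : ∀ i, i < 44776 → P i := stepQ 44775 Q44775 (allL N44775 (tt N78587 D158441) (tt N78588 D158442) (tt N43191 F113443) (tt N22994 F113444) (tt N66842 (iv4 F205813)) (tt N78589 D158443) (tt N22993 (iv6 D75585)) (tt N76539 (iv7 F303429)))
theorem Q44777 : ∀ i, i < 44777 → P i := stepQ 44776 Q44776 (allL N44776 (tt N78586 F249621) (tt N78590 D158444) (tt N63853 (iv2 F189854)) (tt N78589 (iv3 F249643)) (tt N78591 D158445) (tt N22994 (iv5 D75588)) (tt N44489 F317942) (tt N76878 (iv7 F240157)))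
theorem Q44778 : ∀ i, i < 44778 → P i := stepQ 44777 Q44777 (allL N44777 (tt N43332 (iv1 F305383)) (tt N78592 D158447) (tt N22998 F113445) (tt N43331 (iv3 F305323)) (tt N52367 (iv4 F149002)) (tt N78593 D158448) (tt N22995 (iv6 D75590)) (tt N78594 D158449))
theorem Q44779 : ∀ i, i < 44779 → P i := stepQ 44778 Q44778 (allL N44778 (tt N23002 (iv1 F113450)) (tt N22996 (iv0 D75591)) (tt N22999 F233746) (tt N69671 (iv3 F315442)) (tt N42431 (iv4 F113452)) (tt N69541 (iv5 F315445)) (tt N63624 (iv6 F188510)) (tt N23000 F233747))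
theorem Q44780 : ∀ i, i < 44780 → P i := stepQ 44779 Q44779 (allL N44779 (tt N37197 (iv1 F315469)) (tt N37173 F313033) (tt N23001 F113447) (tt N69214 (iv3 F315467)) (tt N37038 (iv4 F315471)) (tt N22996 (iv5 D75593)) (tt N78593 (iv6 F249649)) (tt N37196 (iv7 F315439)))
theorem Q44781 : ∀ i, i < 44781 → P i := stepQ 44780 Q44780 (allL N44780 (tt N23000 (iv1 F113451)) (tt N22999 F113453) (tt N23002 F113448) (tt N69238 (iv3 F315435)) (tt N23054 F113449) (tt N37196 (iv5 F315438)) (tt N63430 (iv6 F187392)) (tt N22996 (iv7 D75594)))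
theorem Q44782 : ∀ i, i < 44782 → P i := stepQ 44781 Q44781 (allL N44781 (tt N24320 F303001) (tt N78595 D158458) (tt N52367 (iv2 F149001)) (tt N53929 (iv3 F155037)) (tt N22998 F113454) (tt N63032 (iv5 F346218)) (tt N22997 (iv6 D75595)) (tt N78596 D158460))
theorem Q44783 : ∀ i, i < 44783 → P i := stepQ 44782 Q44782 (allL N44782 (tt N78594 (iv1 F249653)) (tt N22998 (iv0 D75596)) (tt N43332 F307425) (tt N69327 (iv3 F344383)) (tt N69668 (iv4 F344382)) (tt N78597 D158464) (tt N69666 (iv6 F344381)) (tt N78592 (iv7 F344400)))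
theorem Q44784 : ∀ i, i < 44784 → P i := stepQ 44783 Q44783 (allL N44783 (tt N22998 (iv1 D75597)) (tt N78594 F249652) (tt N78592 (iv2 F344397)) (tt N43212 (iv3 F307279)) (tt N42864 (iv4 F307280)) (tt N78598 D158469) (tt N74316 (iv6 F366561)) (tt N43332 (iv7 F307281)))
theorem Q44785 : ∀ i, i < 44785 → P i := stepQ 44784 Q44784 (allL N44784 (tt N69323 (iv1 F359263)) (tt N78599 D158472) (tt N78593 (iv2 F249648)) (tt N23005 F113455) (tt N69148 (iv4 F319893)) (tt N22998 (iv5 D75598)) (tt N23001 F113456) (tt N69177 (iv7 F321681)))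
theorem Q44786 : ∀ i, i < 44786 → P i := stepQ 44785 Q44785 (allL N44785 (tt N78592 (iv1 F249647)) (tt N43332 (iv0 F305382)) (tt N78594 (iv2 F249650)) (tt N23006 F113457) (tt N78596 (iv4 F249673)) (tt N69177 (iv5 F321680)) (tt N37607 F305321) (tt N22998 (iv7 D75599)))
theorem Q44787 : ∀ i, i < 44787 → P i := stepQ 44786 Q44786 (allL N44786 (tt N69008 (iv1 F315448)) (tt N37348 (iv0 F315301)) (tt N69541 (iv2 F315444)) (tt N36931 F313019) (tt N67622 (iv4 F315450)) (tt N22999 (iv5 D75603)) (tt N78600 D158483) (tt N68944 F313020))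
theorem Q44788 : ∀ i, i < 44788 → P i := stepQ 44787 Q44787 (allL N44787 (tt N63488 (iv1 F233267)) (tt N75638 (iv0 F233266)) (tt N63624 F233765) (tt N37214 F313021) (tt N76078 (iv4 F236232)) (tt N63515 F187779) (tt N22999 (iv6 D75604)) (tt N63623 (iv7 F233768)))
theorem Q44789 : ∀ i, i < 44789 → P i := stepQ 44788 Q44788 (allL N44788 (tt N69670 (iv1 F315472)) (tt N69185 (iv0 F315474)) (tt N37210 (iv2 F315476)) (tt N23000 (iv3 D75606)) (tt N38634 (iv4 F315477)) (tt N69393 (iv5 F315479)) (tt N70103 (iv6 F334174)) (tt N69671 (iv7 F315443)))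
theorem Q44790 : ∀ i, i < 44790 → P i := stepQ 44789 Q44789 (allL N44789 (tt N37348 (iv1 F315302)) (tt N69008 (iv0 F315447)) (tt N68944 F313037) (tt N69393 (iv3 F315478)) (tt N67623 (iv4 F315480)) (tt N23000 (iv5 D75608)) (tt N78601 D158491) (tt N69541 (iv7 F315446)))
theorem Q44791 : ∀ i, i < 44791 → P i := stepQ 44790 Q44790 (allL N44790 (tt N43976 F236239) (tt N43978 F243884) (tt N69677 (iv2 F308676)) (tt N70103 (iv3 F334173)) (tt N76080 (iv4 F236238)) (tt N66033 (iv5 F326675)) (tt N23000 (iv6 D75609)) (tt N76520 (iv7 F239092)))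
theorem Q44792 : ∀ i, i < 44792 → P i := stepQ 44791 Q44791 (allL N44791 (tt N23001 (iv1 D75611)) (tt N37196 (iv0 F315437)) (tt N37173 F315345) (tt N37178 (iv3 F317567)) (tt N67813 (iv4 F317568)) (tt N47363 (iv5 F128708)) (tt N78602 D158497) (tt N37197 (iv7 F315470)))
theorem Q44793 : ∀ i, i < 44793 → P i := stepQ 44792 Q44792 (allL N44792 (tt N69407 (iv1 F334627)) (tt N78603 D158517) (tt N46418 (iv2 F306710)) (tt N78547 (iv3 F307486)) (tt N50235 (iv4 F340914)) (tt N23003 (iv5 D75617)) (tt N50234 (iv6 F319945)) (tt N78547 (iv7 F273743)))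
theorem Q44794 : ∀ i, i < 44794 → P i := stepQ 44793 Q44793 (allL N44793 (tt N47314 (iv1 F272022)) (tt N78604 D158522) (tt N46419 (iv2 F306712)) (tt N78548 (iv3 F307487)) (tt N53542 (iv4 F249127)) (tt N47001 F127941) (tt N23003 (iv6 D75618)) (tt N47472 (iv7 F273725)))
theorem Q44795 : ∀ i, i < 44795 → P i := stepQ 44794 Q44794 (allL N44794 (tt N78603 (iv1 F249704)) (tt N69407 (iv0 F334626)) (tt N78547 (iv2 F273742)) (tt N38923 (iv3 F306713)) (tt N78605 D158531) (tt N23004 (iv5 D75622)) (tt N68951 (iv6 F306715)) (tt N46418 (iv7 F306711)))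
theorem Q44796 : ∀ i, i < 44796 → P i := stepQ 44795 Q44795 (allL N44795 (tt N78606 D158533) (tt N47288 F273747) (tt N78548 (iv2 F273745)) (tt N46363 (iv3 F306718)) (tt N53544 (iv4 F249130)) (tt N78161 (iv5 F346427)) (tt N23004 (iv6 D75623)) (tt N78607 D158536))
theorem Q44797 : ∀ i, i < 44797 → P i := stepQ 44796 Q44796 (allL N44796 (tt N37158 F322819) (tt N23005 (iv0 D75624)) (tt N37236 F308630) (tt N69183 (iv3 F321103)) (tt N78608 D158539) (tt N78609 D158540) (tt N78610 D158541) (tt N69183 (iv7 F321106)))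
theorem Q44798 : ∀ i, i < 44798 → P i := stepQ 44797 Q44797 (allL N44797 (tt N78611 D158546) (tt N78612 D158547) (tt N69216 F318975) (tt N75700 (iv3 F327791)) (tt N23005 (iv4 D75626)) (tt N78613 D158549) (tt N23013 F113466) (tt N69181 (iv7 F321682)))
theorem Q44799 : ∀ i, i < 44799 → P i := stepQ 44798 Q44798 (allL N44798 (tt N69328 F315089) (tt N28251 F205695) (tt N37226 F315090) (tt N24392 (iv3 F117619)) (tt N23008 (iv4 D75641)) (tt N64503 (iv5 F304265)) (tt N78614 D158578) (tt N64301 (iv7 F195689)))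
theorem Q44800 : ∀ i, i < 44800 → P i := stepQ 44799 Q44799 (allL N44799 (tt N78615 D158583) (tt N78616 D158584) (tt N37227 F315092) (tt N23010 F113486) (tt N78614 (iv4 F249761)) (tt N78617 D158585) (tt N23008 (iv6 D75643)) (tt N78618 D158586))
theorem Q44801 : ∀ i, i < 44801 → P i := stepQ 44800 Q44800 (allL N44800 (tt N24171 F299287) (tt N24181 F299288) (tt N24180 F299289) (tt N78421 (iv3 F248757)) (tt N23010 F113490) (tt N23982 F299290) (tt N23009 (iv6 D75646)) (tt N24179 F299291))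
theorem Q44802 : ∀ i, i < 44802 → P i := stepQ 44801 Q44801 (allL N44801 (tt N23010 (iv1 D75654)) (tt N45451 F300932) (tt N69335 (iv2 F316626)) (tt N75638 (iv3 F233263)) (tt N23024 F113517) (tt N47543 F128979) (tt N47241 (iv6 F128561)) (tt N24341 F117802))
theorem Q44803 : ∀ i, i < 44803 → P i := stepQ 44802 Q44802 (allL N44802 (tt N24408 F113516) (tt N24835 (iv0 F113518)) (tt N24841 F114006) (tt N78617 (iv3 F249763)) (tt N71999 (iv4 F325114)) (tt N23010 (iv5 D75655)) (tt N69554 (iv6 F319759)) (tt N24840 (iv7 F121907)))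
theorem Q44804 : ∀ i, i < 44804 → P i := stepQ 44803 Q44803 (allL N44803 (tt N69335 (iv1 F316625)) (tt N24341 F126930) (tt N45451 F300626) (tt N78618 (iv3 F249765)) (tt N24179 F300627) (tt N24840 F121906) (tt N45424 F300628) (tt N23010 (iv7 D75656)))
theorem Q44805 : ∀ i, i < 44805 → P i := stepQ 44804 Q44804 (allL N44804 (tt N45424 (iv1 F298138)) (tt N23012 (iv0 D75668)) (tt N45446 (iv2 F298150)) (tt N43976 F122407) (tt N23035 F122408) (tt N46944 (iv5 F127840)) (tt N47504 F128919) (tt N24404 F122409))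
theorem Q44806 : ∀ i, i < 44806 → P i := stepQ 44805 Q44805 (allL N44805 (tt N24627 (iv1 F127719)) (tt N24622 (iv0 F118804)) (tt N45448 F300617) (tt N23427 F315915) (tt N64436 (iv4 F318101)) (tt N23012 (iv5 D75670)) (tt N37357 (iv6 F311787)) (tt N44939 (iv7 F316543)))
theorem Q44807 : ∀ i, i < 44807 → P i := stepQ 44806 Q44806 (allL N44806 (tt N23013 (iv1 D75679)) (tt N24832 F113535) (tt N25935 (iv2 F326530)) (tt N61744 (iv3 F321098)) (tt N24874 (iv4 F113536)) (tt N24851 F113537) (tt N25927 (iv6 F326533)) (tt N61748 F318973))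
theorem Q44808 : ∀ i, i < 44808 → P i := stepQ 44807 Q44807 (allL N44807 (tt N45676 (iv1 F300815)) (tt N37233 F316722) (tt N69188 F316723) (tt N63844 (iv3 F319078)) (tt N78619 D158669) (tt N23014 (iv5 D75684)) (tt N37155 (iv6 F317541)) (tt N23017 F113546))
theorem Q44809 : ∀ i, i < 44809 → P i := stepQ 44808 Q44808 (allL N44808 (tt N69188 F314794) (tt N23017 (iv0 F314372)) (tt N37233 F314795) (tt N23015 (iv3 D75686)) (tt N28594 F155508) (tt N25359 (iv5 F315037)) (tt N63973 (iv6 F298358)) (tt N45676 F312594))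
theorem Q44810 : ∀ i, i < 44810 → P i := stepQ 44809 Q44809 (allL N44809 (tt N65039 (iv1 F302568)) (tt N47281 F333792) (tt N69344 (iv2 F312792)) (tt N25359 F315782) (tt N34908 (iv4 F318027)) (tt N23015 (iv5 D75687)) (tt N25357 (iv6 F317572)) (tt N45675 (iv7 F317075)))
theorem Q44811 : ∀ i, i < 44811 → P i := stepQ 44810 Q44810 (allL N44810 (tt N24387 F296751) (tt N47504 (iv0 F128920)) (tt N24150 (iv2 F298143)) (tt N63973 (iv3 F298356)) (tt N24137 F296752) (tt N24558 F113550) (tt N23015 (iv6 D75688)) (tt N24147 (iv7 F298140)))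
theorem Q44812 : ∀ i, i < 44812 → P i := stepQ 44811 Q44811 (allL N44811 (tt N47281 F333793) (tt N65039 (iv0 F302567)) (tt N45675 (iv2 F317073)) (tt N37231 F315246) (tt N78620 D158685) (tt N23016 (iv5 D75691)) (tt N47259 F331915) (tt N69344 F315247))
theorem Q44813 : ∀ i, i < 44813 → P i := stepQ 44812 Q44812 (allL N44812 (tt N47241 F128565) (tt N24474 F128567) (tt N64271 (iv2 F301153)) (tt N37232 F315248) (tt N27995 F113554) (tt N65141 (iv5 F199342)) (tt N23016 (iv6 D75692)) (tt N64272 (iv7 F298351)))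
theorem Q44814 : ∀ i, i < 44814 → P i := stepQ 44813 Q44813 (allL N44813 (tt N47051 (iv1 F301369)) (tt N48928 F312375) (tt N78483 (iv2 F248885)) (tt N46720 (iv3 F307505)) (tt N23017 (iv4 D75695)) (tt N78621 D158696) (tt N28002 F305474) (tt N78619 (iv7 F249824)))
theorem Q44815 : ∀ i, i < 44815 → P i := stepQ 44814 Q44814 (allL N44814 (tt N24150 F113858) (tt N24147 F113555) (tt N47504 (iv2 F298164)) (tt N78622 D158697) (tt N23018 (iv4 D75696)) (tt N47005 (iv5 F298377)) (tt N45446 F115860) (tt N24387 (iv7 F117596)))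
theorem Q44816 : ∀ i, i < 44816 → P i := stepQ 44815 Q44815 (allL N44815 (tt N24846 (iv1 F300727)) (tt N24595 (iv0 F298441)) (tt N46437 (iv2 F123622)) (tt N70095 (iv3 F321355)) (tt N24829 (iv4 F300962)) (tt N23019 (iv5 D75703)) (tt N78623 D158707) (tt N46440 (iv7 F123627)))
theorem Q44817 : ∀ i, i < 44817 → P i := stepQ 44816 Q44816 (allL N44816 (tt N24465 (iv1 F298882)) (tt N47218 (iv0 F300964)) (tt N46438 (iv2 F123623)) (tt N66473 (iv3 F327817)) (tt N23020 F113563) (tt N45655 F119273) (tt N23019 (iv6 D75704)) (tt N52817 (iv7 F300787)))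
theorem Q44818 : ∀ i, i < 44818 → P i := stepQ 44817 Q44817 (allL N44817 (tt N38900 F311275) (tt N69653 F311276) (tt N68977 (iv2 F311917)) (tt N23021 (iv3 D75713)) (tt N46239 (iv4 F302475)) (tt N38869 (iv5 F313634)) (tt N52815 (iv6 F151511)) (tt N24443 F113569))
theorem Q44819 : ∀ i, i < 44819 → P i := stepQ 44818 Q44818 (allL N44818 (tt N23032 (iv1 F113576)) (tt N23022 (iv0 D75720)) (tt N37010 F317497) (tt N65369 (iv3 F300833)) (tt N38230 (iv4 F318966)) (tt N24668 F113575) (tt N78624 D158744) (tt N25363 F298293))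
theorem Q44820 : ∀ i, i < 44820 → P i := stepQ 44819 Q44819 (allL N44819 (tt N37352 F317504) (tt N37349 F317505) (tt N69544 (iv2 F319733)) (tt N71779 (iv3 F324636)) (tt N23022 (iv4 D75722)) (tt N24830 F113581) (tt N45023 (iv6 F324639)) (tt N69543 (iv7 F319741)))
theorem Q44821 : ∀ i, i < 44821 → P i := stepQ 44820 Q44820 (allL N44820 (tt N23023 (iv1 D75725)) (tt N46475 F300438) (tt N46477 (iv2 F300499)) (tt N78625 D158754) (tt N46466 F300439) (tt N47601 F129239) (tt N47218 (iv6 F128531)) (tt N24468 F118737))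
theorem Q44822 : ∀ i, i < 44822 → P i := stepQ 44821 Q44821 (allL N44821 (tt N46477 (iv1 F300498)) (tt N24468 (iv0 F126964)) (tt N46475 (iv2 F298791)) (tt N66474 (iv3 F327820)) (tt N23026 F113583) (tt N46217 (iv5 F300734)) (tt N23464 F298316) (tt N23023 (iv7 D75727)))
theorem Q44823 : ∀ i, i < 44823 → P i := stepQ 44822 Q44822 (allL N44822 (tt N25282 F321438) (tt N45561 (iv0 F303141)) (tt N45560 (iv2 F302053)) (tt N69310 (iv3 F312345)) (tt N31185 F323608) (tt N23029 (iv5 D75744)) (tt N31184 F323609) (tt N45559 (iv7 F302050)))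
theorem Q44824 : ∀ i, i < 44824 → P i := stepQ 44823 Q44823 (allL N44823 (tt N23031 (iv1 D75754)) (tt N63254 F314732) (tt N70045 (iv2 F317028)) (tt N36961 F314733) (tt N68579 (iv4 F317034)) (tt N37060 (iv5 F317036)) (tt N77284 (iv6 F312576)) (tt N24488 F205693))
theorem Q44825 : ∀ i, i < 44825 → P i := stepQ 44824 Q44824 (allL N44824 (tt N69045 (iv1 F317043)) (tt N36955 (iv0 F317044)) (tt N68237 (iv2 F317041)) (tt N23032 F113615) (tt N68612 (iv4 F317045)) (tt N23031 (iv5 D75756)) (tt N78626 D158788) (tt N69044 (iv7 F317032)))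
theorem Q44826 : ∀ i, i < 44826 → P i := stepQ 44825 Q44825 (allL N44825 (tt N78627 D158789) (tt N78628 D158790) (tt N70088 (iv2 F317042)) (tt N23033 F113616) (tt N46387 (iv4 F300894)) (tt N78629 D158791) (tt N23031 (iv6 D75757)) (tt N78630 D158792))
theorem Q44827 : ∀ i, i < 44827 → P i := stepQ 44826 Q44826 (allL N44826 (tt N37349 F317506) (tt N37352 F317507) (tt N69543 (iv2 F319738)) (tt N69513 (iv3 F319743)) (tt N23032 (iv4 D75758)) (tt N24829 F113617) (tt N78631 D158794) (tt N69544 (iv7 F319736)))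
theorem Q44828 : ∀ i, i < 44828 → P i := stepQ 44827 Q44827 (allL N44827 (tt N68981 (iv1 F362641)) (tt N78632 D158796) (tt N78550 (iv2 F249249)) (tt N78626 (iv3 F249995)) (tt N78631 (iv4 F249999)) (tt N78633 D158797) (tt N23032 (iv6 D75759)) (tt N78634 D158798))
theorem Q44829 : ∀ i, i < 44829 → P i := stepQ 44828 Q44828 (allL N44828 (tt N23464 F297018) (tt N23033 (iv0 D75760)) (tt N23466 F297019) (tt N63834 (iv3 F311404)) (tt N23455 F297020) (tt N46915 (iv5 F127711)) (tt N46428 F297021) (tt N23451 F297022))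
theorem Q44830 : ∀ i, i < 44830 → P i := stepQ 44829 Q44829 (allL N44829 (tt N24616 (iv1 F127698)) (tt N24613 F113618) (tt N78551 (iv2 F249250)) (tt N78629 (iv3 F249996)) (tt N78635 D158800) (tt N23033 (iv5 D75762)) (tt N78633 (iv6 F250000)) (tt N78636 D158801))
theorem Q44831 : ∀ i, i < 44831 → P i := stepQ 44830 Q44830 (allL N44830 (tt N23451 F297009) (tt N23466 F297010) (tt N23464 F297011) (tt N78630 (iv3 F249997)) (tt N23037 F113619) (tt N78636 (iv5 F250005)) (tt N46475 (iv6 F298793)) (tt N23033 (iv7 D75763)))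
theorem Q44832 : ∀ i, i < 44832 → P i := stepQ 44831 Q44831 (allL N44831 (tt N78637 D158802) (tt N78213 (iv0 F348453)) (tt N70091 (iv2 F342735)) (tt N23034 (iv3 D75764)) (tt N46371 (iv4 F300965)) (tt N36571 (iv5 F317250)) (tt N36572 F315034) (tt N46436 (iv7 F298797)))
theorem Q44833 : ∀ i, i < 44833 → P i := stepQ 44832 Q44832 (allL N44832 (tt N24595 F113625) (tt N24846 F113623) (tt N46440 (iv2 F298804)) (tt N36571 F319549) (tt N24830 F113622) (tt N23034 (iv5 D75765)) (tt N32751 (iv6 F321524)) (tt N46437 (iv7 F298799)))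
theorem Q44834 : ∀ i, i < 44834 → P i := stepQ 44833 Q44833 (allL N44833 (tt N59716 (iv1 F325190)) (tt N46250 F300698) (tt N65058 (iv2 F199059)) (tt N59700 (iv3 F327056)) (tt N23036 (iv4 D75768)) (tt N78638 D158810) (tt N45691 (iv6 F301561)) (tt N65059 (iv7 F199077)))
theorem Q44835 : ∀ i, i < 44835 → P i := stepQ 44834 Q44834 (allL N44834 (tt N45677 (iv1 F298044)) (tt N45414 F297467) (tt N47058 (iv2 F298036)) (tt N78639 D158811) (tt N23038 (iv4 D75770)) (tt N78640 D158812) (tt N24875 F113633) (tt N23045 F113634))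
theorem Q44836 : ∀ i, i < 44836 → P i := stepQ 44835 Q44835 (allL N44835 (tt N34632 (iv1 F300821)) (tt N45679 (iv0 F300818)) (tt N36570 F319546) (tt N70108 (iv3 F330186)) (tt N65177 (iv4 F321522)) (tt N23039 (iv5 D75776)) (tt N36569 (iv6 F321523)) (tt N45685 (iv7 F300786)))
theorem Q44837 : ∀ i, i < 44837 → P i := stepQ 44836 Q44836 (allL N44836 (tt N34635 (iv1 F300441)) (tt N45680 F299496) (tt N45691 (iv2 F301559)) (tt N78641 D158829) (tt N23040 (iv4 D75779)) (tt N78642 D158830) (tt N65058 (iv6 F199060)) (tt N45692 (iv7 F300450)))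
theorem Q44838 : ∀ i, i < 44838 → P i := stepQ 44837 Q44837 (allL N44837 (tt N31309 F325046) (tt N24319 F125675) (tt N46121 (iv2 F120436)) (tt N23044 F113652) (tt N46389 (iv4 F123254)) (tt N31239 F325047) (tt N23041 (iv6 D75784)) (tt N46120 F299469))
theorem Q44839 : ∀ i, i < 44839 → P i := stepQ 44838 Q44838 (allL N44838 (tt N24486 F155517) (tt N77284 (iv0 F312573)) (tt N70105 (iv2 F330194)) (tt N23042 (iv3 D75785)) (tt N46388 (iv4 F123248)) (tt N36573 (iv5 F312592)) (tt N78643 D158835) (tt N36572 (iv7 F312580)))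
theorem Q44840 : ∀ i, i < 44840 → P i := stepQ 44839 Q44839 (allL N44839 (tt N45679 (iv1 F300819)) (tt N34632 (iv0 F300820)) (tt N45685 (iv2 F300784)) (tt N36573 F315036) (tt N65180 (iv4 F317252)) (tt N23042 (iv5 D75786)) (tt N54241 (iv6 F317253)) (tt N36570 (iv7 F317247)))
theorem Q44841 : ∀ i, i < 44841 → P i := stepQ 44840 Q44840 (allL N44840 (tt N47218 (iv1 F128530)) (tt N24465 F128532) (tt N52817 (iv2 F151523)) (tt N78643 (iv3 F250086)) (tt N23044 F113653) (tt N45654 (iv5 F300605)) (tt N23042 (iv6 D75787)) (tt N46438 F299497))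
theorem Q44842 : ∀ i, i < 44842 → P i := stepQ 44841 Q44841 (allL N44841 (tt N45680 F299498) (tt N34635 (iv0 F300440)) (tt N45692 (iv2 F300447)) (tt N59753 (iv3 F348119)) (tt N23043 (iv4 D75788)) (tt N78644 D158840) (tt N78645 D158841) (tt N45691 (iv7 F301562)))
theorem Q44843 : ∀ i, i < 44843 → P i := stepQ 44842 Q44842 (allL N44842 (tt N23819 F113664) (tt N23812 (iv0 F113656)) (tt N23817 F113654) (tt N31238 F326192) (tt N78645 (iv4 F250092)) (tt N31237 F326193) (tt N23043 (iv6 D75789)) (tt N23818 F113655))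
theorem Q44844 : ∀ i, i < 44844 → P i := stepQ 44843 Q44843 (allL N44843 (tt N47058 (iv1 F298035)) (tt N23045 (iv0 D75799)) (tt N45414 F296597) (tt N78646 D158852) (tt N24046 F296598) (tt N78647 D158853) (tt N24045 F296599) (tt N45677 (iv7 F298046)))
theorem Q44845 : ∀ i, i < 44845 → P i := stepQ 44844 Q44844 (allL N44844 (tt N23045 (iv1 D75800)) (tt N47058 (iv0 F298034)) (tt N45677 (iv2 F298045)) (tt N62666 (iv3 F346883)) (tt N27996 (iv4 F122689)) (tt N78648 D158856) (tt N59880 (iv6 F324462)) (tt N45414 F297469))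
theorem Q44846 : ∀ i, i < 44846 → P i := stepQ 44845 Q44845 (allL N44845 (tt N78649 D158858) (tt N78650 D158859) (tt N78651 D158860) (tt N23045 (iv3 D75801)) (tt N23125 F113667) (tt N78652 D158861) (tt N23050 F113668) (tt N78639 (iv7 F250038)))
theorem Q44847 : ∀ i, i < 44847 → P i := stepQ 44846 Q44846 (allL N44846 (tt N78653 D158862) (tt N60549 (iv0 F356136)) (tt N74140 (iv2 F356124)) (tt N78652 (iv3 F250114)) (tt N78654 D158864) (tt N23045 (iv5 D75802)) (tt N62643 (iv6 F357479)) (tt N78640 (iv7 F250039)))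
theorem Q44848 : ∀ i, i < 44848 → P i := stepQ 44847 Q44847 (allL N44847 (tt N78655 D158868) (tt N78656 D158869) (tt N59687 (iv2 F327732)) (tt N23047 (iv3 D75804)) (tt N45796 (iv4 F119667)) (tt N78657 D158871) (tt N51725 (iv6 F340710)) (tt N24895 F113671))
theorem Q44849 : ∀ i, i < 44849 → P i := stepQ 44848 Q44848 (allL N44848 (tt N44708 F113675) (tt N44707 F113676) (tt N24897 F113672) (tt N78657 (iv3 F250133)) (tt N26298 F113673) (tt N23047 (iv5 D75805)) (tt N78658 D158873) (tt N24896 F113674))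
theorem Q44850 : ∀ i, i < 44850 → P i := stepQ 44849 Q44849 (allL N44849 (tt N55466 (iv1 F361133)) (tt N78659 D158878) (tt N78660 D158879) (tt N23048 (iv3 D75810)) (tt N58706 (iv4 F327004)) (tt N51565 (iv5 F292432)) (tt N58703 (iv6 F325604)) (tt N24899 F113693))
theorem Q44851 : ∀ i, i < 44851 → P i := stepQ 44850 Q44850 (allL N44850 (tt N59929 (iv1 F360323)) (tt N78661 D158887) (tt N78662 D158888) (tt N23049 (iv3 D75813)) (tt N45491 (iv4 F116024)) (tt N51563 (iv5 F292455)) (tt N78663 D158890) (tt N24902 F113701))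
theorem Q44852 : ∀ i, i < 44852 → P i := stepQ 44851 Q44851 (allL N44851 (tt N35280 F118558) (tt N46921 (iv0 F127728)) (tt N24901 F113707) (tt N78663 (iv3 F250180)) (tt N25402 F113708) (tt N78664 D158892) (tt N23049 (iv6 D75815)) (tt N45454 (iv7 F298327)))
theorem Q44853 : ∀ i, i < 44853 → P i := stepQ 44852 Q44852 (allL N44852 (tt N24907 (iv1 F113709)) (tt N23050 (iv0 D75816)) (tt N24906 F254224) (tt N78665 D158894) (tt N78666 D158895) (tt N78667 D158896) (tt N78668 D158897) (tt N24905 F254225))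
theorem Q44854 : ∀ i, i < 44854 → P i := stepQ 44853 Q44853 (allL N44853 (tt N23050 (iv1 D75817)) (tt N24907 F113713) (tt N24905 (iv2 F254222)) (tt N55469 (iv3 F361134)) (tt N46330 (iv4 F122831)) (tt N78669 D158900) (tt N78670 D158901) (tt N24906 (iv7 F254223)))
theorem Q44855 : ∀ i, i < 44855 → P i := stepQ 44854 Q44854 (allL N44854 (tt N24906 (iv1 F113714)) (tt N24905 F113712) (tt N23050 (iv2 D75818)) (tt N78487 (iv3 F248916)) (tt N23129 F113710) (tt N78671 D158902) (tt N78651 (iv6 F250113)) (tt N24907 F113711))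
theorem Q44856 : ∀ i, i < 44856 → P i := stepQ 44855 Q44855 (allL N44855 (tt N78672 D158903) (tt N78673 D158904) (tt N78671 (iv2 F250190)) (tt N23051 F113715) (tt N78674 D158905) (tt N23050 (iv5 D75819)) (tt N78675 D158906) (tt N24908 F113716))
theorem Q44857 : ∀ i, i < 44857 → P i := stepQ 44856 Q44856 (allL N44856 (tt N74179 (iv1 F357482)) (tt N62659 (iv0 F355658)) (tt N29095 F113717) (tt N78675 (iv3 F250199)) (tt N27934 F113718) (tt N62643 (iv5 F357478)) (tt N23051 (iv6 D75820)) (tt N74138 (iv7 F357467)))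
theorem Q44858 : ∀ i, i < 44858 → P i := stepQ 44857 Q44857 (allL N44857 (tt N48162 F131622) (tt N42253 F131623) (tt N23055 F113767) (tt N33796 F130906) (tt N78676 D158911) (tt N23052 (iv5 D75824)) (tt N42318 (iv6 F130904)) (tt N23059 F113768))
theorem Q44859 : ∀ i, i < 44859 → P i := stepQ 44858 Q44858 (allL N44858 (tt N42253 (iv1 F131624)) (tt N48162 (iv0 F131599)) (tt N23059 F113775) (tt N37628 F312181) (tt N78677 D158914) (tt N23053 (iv5 D75828)) (tt N33789 (iv6 F130862)) (tt N23055 F113776))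
theorem Q44860 : ∀ i, i < 44860 → P i := stepQ 44859 Q44859 (allL N44859 (tt N23059 (iv1 F113745)) (tt N23055 (iv0 D75849)) (tt N48162 (iv2 F131596)) (tt N52006 (iv3 F312742)) (tt N78678 D158933) (tt N25089 F113741) (tt N78679 D158934) (tt N42253 (iv7 F130327)))
theorem Q44861 : ∀ i, i < 44861 → P i := stepQ 44860 Q44860 (allL N44860 (tt N23055 (iv1 D75850)) (tt N23059 F113742) (tt N42253 F130332) (tt N23067 F130333) (tt N78680 D158935) (tt N23930 F301362) (tt N42237 F130335) (tt N48162 (iv7 F131598)))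
theorem Q44862 : ∀ i, i < 44862 → P i := stepQ 44861 Q44861 (allL N44861 (tt N78681 D158936) (tt N64454 (iv0 F311645)) (tt N78676 (iv2 F250209)) (tt N78682 D158938) (tt N23055 (iv4 D75851)) (tt N58946 (iv5 F336959)) (tt N78683 D158940) (tt N78677 (iv7 F250220)))
theorem Q44863 : ∀ i, i < 44863 → P i := stepQ 44862 Q44862 (allL N44862 (tt N42316 (iv1 F130922)) (tt N41826 (iv0 F181021)) (tt N42318 F130905) (tt N69661 (iv3 F313519)) (tt N78683 (iv4 F250273)) (tt N62913 (iv5 F184117)) (tt N23055 (iv6 D75852)) (tt N42308 (iv7 F130920)))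
theorem Q44864 : ∀ i, i < 44864 → P i := stepQ 44863 Q44863 (allL N44863 (tt N66031 (iv1 F313817)) (tt N59996 (iv0 F315490)) (tt N36962 (iv2 F311380)) (tt N68976 (iv3 F311387)) (tt N23060 F113784) (tt N45902 F328019) (tt N23058 (iv6 D75866)) (tt N60382 (iv7 F315494)))
theorem Q44865 : ∀ i, i < 44865 → P i := stepQ 44864 Q44864 (allL N44864 (tt N64454 (iv1 F311646)) (tt N78681 F250270) (tt N78677 (iv2 F250218)) (tt N78684 D158948) (tt N23059 (iv4 D75867)) (tt N58947 (iv5 F336962)) (tt N33790 F131042) (tt N78676 (iv7 F250211)))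
theorem Q44866 : ∀ i, i < 44866 → P i := stepQ 44865 Q44865 (allL N44865 (tt N75139 (iv1 F230335)) (tt N58949 (iv0 F336965)) (tt N74985 (iv2 F229958)) (tt N78685 D158950) (tt N23061 (iv4 D75872)) (tt N78686 D158951) (tt N78687 D158952) (tt N48009 (iv7 F130445)))
theorem Q44867 : ∀ i, i < 44867 → P i := stepQ 44866 Q44866 (allL N44866 (tt N62770 F230373) (tt N78688 D158953) (tt N74986 (iv2 F229962)) (tt N55809 (iv3 F314152)) (tt N78687 (iv4 F250288)) (tt N39986 F318392) (tt N23061 (iv6 D75874)) (tt N76253 (iv7 F238005)))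
theorem Q44868 : ∀ i, i < 44868 → P i := stepQ 44867 Q44867 (allL N44867 (tt N58949 (iv1 F336966)) (tt N75139 F230334) (tt N48009 (iv2 F130444)) (tt N78689 D158954) (tt N23062 (iv4 D75877)) (tt N69150 (iv5 F336980)) (tt N73723 (iv6 F316210)) (tt N74985 (iv7 F229959)))
theorem Q44869 : ∀ i, i < 44869 → P i := stepQ 44868 Q44868 (allL N44868 (tt N75128 (iv1 F230316)) (tt N23063 (iv0 D75879)) (tt N75125 (iv2 F230314)) (tt N38550 (iv3 F331614)) (tt N74768 F230317) (tt N78690 D158958) (tt N78691 D158959) (tt N75126 F230315))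
theorem Q44870 : ∀ i, i < 44870 → P i := stepQ 44869 Q44869 (allL N44869 (tt N23063 (iv1 D75880)) (tt N75128 F230308) (tt N75126 F230303) (tt N78692 D158960) (tt N74769 (iv4 F229091)) (tt N78693 D158961) (tt N78694 D158962) (tt N75125 (iv7 F230313)))
theorem Q44871 : ∀ i, i < 44871 → P i := stepQ 44870 Q44870 (allL N44870 (tt N78695 D158963) (tt N78696 D158964) (tt N78697 D158965) (tt N23063 (iv3 D75881)) (tt N23080 F113791) (tt N78698 D158966) (tt N42396 F113792) (tt N65349 (iv7 F200968)))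
theorem Q44872 : ∀ i, i < 44872 → P i := stepQ 44871 Q44871 (allL N44871 (tt N38542 (iv1 F336984)) (tt N78699 D158968) (tt N75127 (iv2 F230304)) (tt N78698 (iv3 F250300)) (tt N69014 (iv4 F336985)) (tt N23063 (iv5 D75882)) (tt N70383 (iv6 F363953)) (tt N78700 D158971))
theorem Q44873 : ∀ i, i < 44873 → P i := stepQ 44872 Q44872 (allL N44872 (tt N75126 (iv1 F230301)) (tt N75125 F230307) (tt N75128 (iv2 F230305)) (tt N65349 (iv3 F200967)) (tt N23064 F113793) (tt N78700 (iv5 F250302)) (tt N75117 (iv6 F230293)) (tt N23063 (iv7 D75883)))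
theorem Q44874 : ∀ i, i < 44874 → P i := stepQ 44873 Q44873 (allL N44873 (tt N78701 D158972) (tt N78702 D158973) (tt N76727 (iv2 F239779)) (tt N45501 (iv3 F116130)) (tt N59538 (iv4 F358652)) (tt N23065 (iv5 D75898)) (tt N48349 (iv6 F324630)) (tt N64014 (iv7 F192175)))
theorem Q44875 : ∀ i, i < 44875 → P i := stepQ 44874 Q44874 (allL N44874 (tt N33742 (iv1 F130927)) (tt N23066 (iv0 D75899)) (tt N63709 (iv2 F188832)) (tt N33795 F184515) (tt N78703 D158976) (tt N25131 F199942) (tt N78704 D158977) (tt N42256 (iv7 F184518)))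
theorem Q44876 : ∀ i, i < 44876 → P i := stepQ 44875 Q44875 (allL N44875 (tt N23066 (iv1 D75900)) (tt N33742 F130929) (tt N42256 (iv2 F184519)) (tt N42095 F190459) (tt N78705 D158978) (tt N25132 F199946) (tt N33717 F186335) (tt N63709 (iv7 F188835)))
theorem Q44877 : ∀ i, i < 44877 → P i := stepQ 44876 Q44876 (allL N44876 (tt N72256 (iv1 F345978)) (tt N78706 D158980) (tt N76728 (iv2 F239780)) (tt N43699 F330642) (tt N23066 (iv4 D75901)) (tt N58975 (iv5 F361441)) (tt N75664 (iv6 F233321)) (tt N64015 (iv7 F192180)))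
theorem Q44878 : ∀ i, i < 44878 → P i := stepQ 44877 Q44877 (allL N44877 (tt N23095 F113800) (tt N23106 F113801) (tt N48058 (iv2 F130595)) (tt N78707 D158983) (tt N23067 (iv4 D75903)) (tt N35425 F113799) (tt N41609 F113802) (tt N48055 (iv7 F130590)))
theorem Q44879 : ∀ i, i < 44879 → P i := stepQ 44878 Q44878 (allL N44878 (tt N23070 (iv1 F113806)) (tt N23068 (iv0 D75904)) (tt N42614 (iv2 F113807)) (tt N78708 D158984) (tt N23993 F113805) (tt N25208 F113804) (tt N78709 D158985) (tt N44913 (iv7 F113919)))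
theorem Q44880 : ∀ i, i < 44880 → P i := stepQ 44879 Q44879 (allL N44879 (tt N23068 (iv1 D75905)) (tt N23070 F113808) (tt N44913 (iv2 F113916)) (tt N76644 (iv3 F326619)) (tt N23923 F303825) (tt N25211 F113810) (tt N69679 (iv6 F215801)) (tt N42614 F113809))
theorem Q44881 : ∀ i, i < 44881 → P i := stepQ 44880 Q44880 (allL N44880 (tt N57350 (iv1 F342709)) (tt N64684 (iv0 F345974)) (tt N66940 (iv2 F345967)) (tt N23068 (iv3 D75906)) (tt N43699 (iv4 F330641)) (tt N25175 F113812) (tt N46238 (iv6 F317963)) (tt N64016 (iv7 F192182)))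
theorem Q44882 : ∀ i, i < 44882 → P i := stepQ 44881 Q44881 (allL N44881 (tt N27852 (iv1 F332446)) (tt N74764 (iv0 F332447)) (tt N73389 (iv2 F334927)) (tt N65110 (iv3 F350197)) (tt N23069 (iv4 D75926)) (tt N73355 F332445) (tt N56069 F184249) (tt N64012 (iv7 F192171)))
theorem Q44883 : ∀ i, i < 44883 → P i := stepQ 44882 Q44882 (allL N44882 (tt N72375 (iv1 F310040)) (tt N41732 F232270) (tt N33739 (iv2 F130893)) (tt N23071 F113819) (tt N56069 (iv4 F184248)) (tt N77614 (iv5 F243996)) (tt N23069 (iv6 D75927)) (tt N78710 D159001))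
theorem Q44884 : ∀ i, i < 44884 → P i := stepQ 44883 Q44883 (allL N44883 (tt N75161 (iv1 F339817)) (tt N78711 D159003) (tt N78712 D159004) (tt N23070 (iv3 D75930)) (tt N65110 (iv4 F350198)) (tt N25167 F113820) (tt N65109 (iv6 F341961)) (tt N64013 (iv7 F192173)))
theorem Q44885 : ∀ i, i < 44885 → P i := stepQ 44884 Q44884 (allL N44884 (tt N33581 (iv1 F113831)) (tt N41700 F113832) (tt N33743 (iv2 F130897)) (tt N78710 (iv3 F250335)) (tt N37959 (iv4 F320207)) (tt N63109 (iv5 F185643)) (tt N41827 F113830) (tt N23071 (iv7 D75933)))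
theorem Q44886 : ∀ i, i < 44886 → P i := stepQ 44885 Q44885 (allL N44885 (tt N58977 (iv1 F338238)) (tt N62857 (iv0 F183939)) (tt N74983 (iv2 F229955)) (tt N77053 (iv3 F348681)) (tt N23072 (iv4 D75937)) (tt N72160 (iv5 F348678)) (tt N77050 (iv6 F348677)) (tt N48051 (iv7 F130586)))
theorem Q44887 : ∀ i, i < 44887 → P i := stepQ 44886 Q44886 (allL N44886 (tt N62779 F233279) (tt N78713 D159012) (tt N74984 (iv2 F229956)) (tt N23074 F113833) (tt N77050 (iv4 F348676)) (tt N39956 F318400) (tt N23072 (iv6 D75938)) (tt N73708 (iv7 F320613)))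
theorem Q44888 : ∀ i, i < 44888 → P i := stepQ 44887 Q44887 (allL N44887 (tt N57380 (iv1 F336346)) (tt N78714 D159014) (tt N78715 D159015) (tt N23073 (iv3 D75939)) (tt N77053 (iv4 F348682)) (tt N25162 F113834) (tt N77051 (iv6 F348672)) (tt N48068 (iv7 F130611)))
theorem Q44889 : ∀ i, i < 44889 → P i := stepQ 44888 Q44888 (allL N44888 (tt N34728 F316423) (tt N34715 F316424) (tt N45544 F316425) (tt N77051 (iv3 F348670)) (tt N23074 F113835) (tt N46389 (iv5 F318678)) (tt N23073 (iv6 D75940)) (tt N45545 F316426))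
theorem Q44890 : ∀ i, i < 44890 → P i := stepQ 44889 Q44889 (allL N44889 (tt N23074 (iv1 D75941)) (tt N39958 F317149) (tt N40189 F317150) (tt N78688 (iv3 F250291)) (tt N23574 F318676) (tt N31109 F317151) (tt N68268 (iv6 F209443)) (tt N40191 F317152))
theorem Q44891 : ∀ i, i < 44891 → P i := stepQ 44890 Q44890 (allL N44890 (tt N41936 (iv1 F323950)) (tt N42018 (iv0 F323951)) (tt N74393 (iv2 F323952)) (tt N23076 (iv3 D75947)) (tt N36309 (iv4 F323668)) (tt N25142 F113840) (tt N36308 F322505) (tt N64017 (iv7 F192197)))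
theorem Q44892 : ∀ i, i < 44892 → P i := stepQ 44891 Q44891 (allL N44891 (tt N67929 (iv1 F317154)) (tt N65403 (iv0 F318680)) (tt N48066 (iv2 F130603)) (tt N36308 (iv3 F320737)) (tt N23077 F113841) (tt N23794 F318585) (tt N23076 (iv6 D75948)) (tt N59937 (iv7 F318683)))
theorem Q44893 : ∀ i, i < 44893 → P i := stepQ 44892 Q44892 (allL N44892 (tt N48067 F130609) (tt N23077 (iv0 D75949)) (tt N44098 F185092) (tt N62514 (iv3 F319168)) (tt N46175 F320522) (tt N34378 F113842) (tt N63654 F188592) (tt N44100 (iv7 F185091)))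
theorem Q44894 : ∀ i, i < 44894 → P i := stepQ 44893 Q44893 (allL N44893 (tt N23077 (iv1 D75950)) (tt N48067 F130608) (tt N44100 (iv2 F185093)) (tt N78716 D159036) (tt N31343 (iv4 F323587)) (tt N34379 (iv5 F113843)) (tt N42409 F113845) (tt N44098 (iv7 F185088)))
theorem Q44895 : ∀ i, i < 44895 → P i := stepQ 44894 Q44894 (allL N44894 (tt N44100 (iv1 F113847)) (tt N44098 (iv0 F113848)) (tt N48067 (iv2 F130605)) (tt N29715 (iv3 F322595)) (tt N59937 F320839) (tt N35430 F113846) (tt N39958 F318403) (tt N23077 (iv7 D75951)))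
theorem Q44896 : ∀ i, i < 44896 → P i := stepQ 44895 Q44895 (allL N44895 (tt N78717 D159037) (tt N73699 (iv0 F339408)) (tt N75155 (iv2 F339414)) (tt N23078 (iv3 D75952)) (tt N62512 (iv4 F321863)) (tt N25262 F113849) (tt N63710 (iv6 F315899)) (tt N48160 (iv7 F131573)))
theorem Q44897 : ∀ i, i < 44897 → P i := stepQ 44896 Q44896 (allL N44896 (tt N64218 (iv1 F316413)) (tt N23574 (iv0 F316414)) (tt N64018 (iv2 F192206)) (tt N63710 (iv3 F315898)) (tt N25227 F113850) (tt N45478 (iv5 F316421)) (tt N23078 (iv6 D75953)) (tt N64221 (iv7 F316422)))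
theorem Q44898 : ∀ i, i < 44898 → P i := stepQ 44897 Q44897 (allL N44897 (tt N46175 (iv1 F318369)) (tt N31343 (iv0 F323585)) (tt N48157 (iv2 F131560)) (tt N67738 (iv3 F318491)) (tt N25270 F113852) (tt N23790 (iv5 F316326)) (tt N23079 (iv6 D75955)) (tt N48350 F316323))
theorem Q44899 : ∀ i, i < 44899 → P i := stepQ 44898 Q44898 (allL N44898 (tt N65346 (iv1 F200964)) (tt N23080 (iv0 D75956)) (tt N65348 (iv2 F354746)) (tt N78718 D159051) (tt N78719 D159052) (tt N78720 D159053) (tt N78721 D159054) (tt N65347 (iv7 F354750)))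
theorem Q44900 : ∀ i, i < 44900 → P i := stepQ 44899 Q44899 (allL N44899 (tt N23080 (iv1 D75957)) (tt N65346 F200963) (tt N65347 (iv2 F354748)) (tt N78722 D159056) (tt N38473 (iv4 F331622)) (tt N78723 D159058) (tt N78724 D159059) (tt N65348 (iv7 F354747)))
theorem Q44901 : ∀ i, i < 44901 → P i := stepQ 44900 Q44900 (allL N44900 (tt N65348 (iv1 F200966)) (tt N65347 F200965) (tt N23080 (iv2 D75958)) (tt N64020 (iv3 F192209)) (tt N78697 (iv4 F250298)) (tt N57840 (iv5 F319277)) (tt N42414 F113853) (tt N65346 (iv7 F200962)))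
theorem Q44902 : ∀ i, i < 44902 → P i := stepQ 44901 Q44901 (allL N44901 (tt N76913 F312412) (tt N76912 F312413) (tt N44520 F312414) (tt N23082 (iv3 D75961)) (tt N47950 (iv4 F130124)) (tt N68415 (iv5 F314378)) (tt N52370 (iv6 F149009)) (tt N24266 (iv7 F117113)))
theorem Q44903 : ∀ i, i < 44903 → P i := stepQ 44902 Q44902 (allL N44902 (tt N23083 (iv1 D75982)) (tt N23091 F113872) (tt N23090 (iv2 F116889)) (tt N31309 F325287) (tt N69415 (iv4 F310655)) (tt N31308 F325288) (tt N24327 (iv6 F116845)) (tt N23089 F116880))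
theorem Q44904 : ∀ i, i < 44904 → P i := stepQ 44903 Q44903 (allL N44903 (tt N23090 (iv1 F113876)) (tt N23089 F113880) (tt N23091 F113873) (tt N24337 (iv3 F299694)) (tt N46456 (iv4 F297845)) (tt N24239 (iv5 F116816)) (tt N24274 (iv6 F297674)) (tt N23083 (iv7 D75983)))
theorem Q44905 : ∀ i, i < 44905 → P i := stepQ 44904 Q44904 (allL N44904 (tt N68587 F313735) (tt N78725 D159078) (tt N68978 F313736) (tt N23084 (iv3 D75984)) (tt N37020 (iv4 F316227)) (tt N68480 F313737) (tt N52385 (iv6 F149208)) (tt N24291 F113881))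
theorem Q44906 : ∀ i, i < 44906 → P i := stepQ 44905 Q44905 (allL N44905 (tt N23086 (iv1 D75996)) (tt N46456 F299403) (tt N72238 (iv2 F312837)) (tt N72396 (iv3 F305220)) (tt N23999 F299404) (tt N48248 F148171) (tt N46498 (iv6 F301035)) (tt N24313 F148172))
theorem Q44907 : ∀ i, i < 44907 → P i := stepQ 44906 Q44906 (allL N44906 (tt N24930 F113887) (tt N34737 F301075) (tt N46182 F301076) (tt N33469 F312230) (tt N77491 (iv4 F314542)) (tt N23086 (iv5 D75997)) (tt N33468 (iv6 F313526)) (tt N46181 F301077))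
theorem Q44908 : ∀ i, i < 44908 → P i := stepQ 44907 Q44907 (allL N44907 (tt N72238 (iv1 F312836)) (tt N24313 (iv0 F125652)) (tt N46456 F299114) (tt N41261 F316859) (tt N23091 F113888) (tt N46181 F299115) (tt N46448 F299116) (tt N23086 (iv7 D75998)))
theorem Q44909 : ∀ i, i < 44909 → P i := stepQ 44908 Q44908 (allL N44908 (tt N23088 (iv1 D76015)) (tt N24284 (iv0 F116777)) (tt N24327 F116918) (tt N23090 (iv3 F299547)) (tt N43493 F312877) (tt N35292 (iv5 F116923)) (tt N23090 F116920) (tt N24259 F116921))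
theorem Q44910 : ∀ i, i < 44910 → P i := stepQ 44909 Q44909 (allL N44909 (tt N64268 (iv1 F299137)) (tt N52379 F149154) (tt N24330 F117036) (tt N78726 D159114) (tt N23089 (iv4 D76018)) (tt N72982 (iv5 F324144)) (tt N24260 (iv6 F117037)) (tt N69415 (iv7 F310657)))
theorem Q44911 : ∀ i, i < 44911 → P i := stepQ 44910 Q44910 (allL N44910 (tt N52379 F149153) (tt N64268 F301899) (tt N69415 (iv2 F310654)) (tt N68562 (iv3 F310658)) (tt N23090 (iv4 D76023)) (tt N74667 (iv5 F324155)) (tt N43493 (iv6 F310620)) (tt N24330 (iv7 F116913)))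
theorem Q44912 : ∀ i, i < 44912 → P i := stepQ 44911 Q44911 (allL N44911 (tt N29746 F131074) (tt N23092 (iv0 D76038)) (tt N36371 (iv2 F131116)) (tt N48069 (iv3 F307106)) (tt N41706 (iv4 F308778)) (tt N25205 F199784) (tt N41618 (iv6 F131078)) (tt N33570 (iv7 F131104)))
theorem Q44913 : ∀ i, i < 44913 → P i := stepQ 44912 Q44912 (allL N44912 (tt N42433 F188472) (tt N42437 (iv0 F206133)) (tt N78727 D159121) (tt N23094 (iv3 D76044)) (tt N75368 (iv4 F231360)) (tt N25217 F113914) (tt N41615 F113915) (tt N46233 (iv7 F122593)))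
theorem Q44914 : ∀ i, i < 44914 → P i := stepQ 44913 Q44913 (allL N44913 (tt N34554 F113920) (tt N34558 F113921) (tt N44879 F113916) (tt N48389 (iv3 F309318)) (tt N23094 (iv4 D76045)) (tt N25141 F113917) (tt N41616 F113918) (tt N44878 F113919))
theorem Q44915 : ∀ i, i < 44915 → P i := stepQ 44914 Q44914 (allL N44914 (tt N78728 D159123) (tt N75996 (iv0 F315585)) (tt N61759 (iv2 F320635)) (tt N23095 (iv3 D76046)) (tt N41926 F313192) (tt N25179 F113958) (tt N46279 F317871) (tt N64031 (iv7 F192322)))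
theorem Q44916 : ∀ i, i < 44916 → P i := stepQ 44915 Q44915 (allL N44915 (tt N48980 (iv1 F134986)) (tt N48979 F134992) (tt N48982 (iv2 F134990)) (tt N23097 (iv3 D76069)) (tt N78622 (iv4 F249851)) (tt N78729 D159129) (tt N64307 (iv6 F195776)) (tt N24390 (iv7 F117621)))
theorem Q44917 : ∀ i, i < 44917 → P i := stepQ 44916 Q44916 (allL N44916 (tt N34938 F301454) (tt N34939 F301455) (tt N35152 F301456) (tt N78729 (iv3 F250544)) (tt N31765 F336745) (tt N23097 (iv5 D76070)) (tt N31417 (iv6 F336747)) (tt N24394 (iv7 F117622)))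
theorem Q44918 : ∀ i, i < 44918 → P i := stepQ 44917 Q44917 (allL N44917 (tt N64294 (iv1 F323356)) (tt N78730 D159133) (tt N76091 (iv2 F236276)) (tt N23098 (iv3 D76073)) (tt N40031 F313766) (tt N78731 D159134) (tt N45355 (iv6 F301783)) (tt N63987 (iv7 F301664)))
theorem Q44919 : ∀ i, i < 44919 → P i := stepQ 44918 Q44918 (allL N44918 (tt N45550 (iv1 F300525)) (tt N48203 (iv0 F131774)) (tt N23101 F114057) (tt N78731 (iv3 F250553)) (tt N64508 (iv4 F302062)) (tt N23098 (iv5 D76074)) (tt N78732 D159137) (tt N63988 (iv7 F301666)))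
theorem Q44920 : ∀ i, i < 44920 → P i := stepQ 44919 Q44919 (allL N44919 (tt N25249 F114072) (tt N34946 (iv0 F301671)) (tt N33270 (iv2 F329235)) (tt N53213 (iv3 F153022)) (tt N31653 F329129) (tt N23099 (iv5 D76081)) (tt N31444 (iv6 F329448)) (tt N24398 F114071))
theorem Q44921 : ∀ i, i < 44921 → P i := stepQ 44920 Q44920 (allL N44920 (tt N64589 (iv1 F306464)) (tt N64907 (iv0 F306493)) (tt N39365 F318997) (tt N23101 F114074) (tt N39253 (iv4 F321113)) (tt N23100 (iv5 D76085)) (tt N39111 (iv6 F321114)) (tt N64021 (iv7 F192256)))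
theorem Q44922 : ∀ i, i < 44922 → P i := stepQ 44921 Q44921 (allL N44921 (tt N39843 (iv1 F321118)) (tt N39842 (iv0 F321119)) (tt N39366 F319005) (tt N23102 F114075) (tt N23105 F114076) (tt N39112 (iv5 F321120)) (tt N23100 (iv6 D76086)) (tt N39209 (iv7 F321117)))
theorem Q44923 : ∀ i, i < 44923 → P i := stepQ 44922 Q44922 (allL N44922 (tt N78733 D159159) (tt N78734 D159160) (tt N78732 (iv2 F250556)) (tt N39111 F322825) (tt N64863 (iv4 F306415)) (tt N39107 (iv5 F324295)) (tt N23101 (iv6 D76090)) (tt N39106 (iv7 F324297)))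
theorem Q44924 : ∀ i, i < 44924 → P i := stepQ 44923 Q44923 (allL N44923 (tt N64570 F303340) (tt N45609 (iv0 F117152)) (tt N45356 F303341) (tt N39112 F322851) (tt N77850 (iv4 F324311)) (tt N23102 (iv5 D76093)) (tt N39107 (iv6 F324296)) (tt N39200 (iv7 F324299)))
theorem Q44925 : ∀ i, i < 44925 → P i := stepQ 44924 Q44924 (allL N44924 (tt N73083 (iv1 F325842)) (tt N45612 (iv0 F117626)) (tt N45357 F304315) (tt N78735 D159184) (tt N23103 (iv4 D76121)) (tt N78736 D159185) (tt N45381 (iv6 F115593)) (tt N45359 F304316))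
theorem Q44926 : ∀ i, i < 44926 → P i := stepQ 44925 Q44925 (allL N44925 (tt N42492 (iv1 F155394)) (tt N23104 (iv0 D76134)) (tt N48241 (iv2 F155387)) (tt N78737 D159186) (tt N45203 (iv4 F312206)) (tt N35490 F155388) (tt N32806 F309970) (tt N48238 F155389))
theorem Q44927 : ∀ i, i < 44927 → P i := stepQ 44926 Q44926 (allL N44926 (tt N36372 (iv1 F130844)) (tt N33566 (iv0 F155379)) (tt N29745 (iv2 F130837)) (tt N23107 F114097) (tt N75691 (iv4 F315076)) (tt N72119 (iv5 F322857)) (tt N23104 (iv6 D76137)) (tt N36373 F130841))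
theorem Q44928 : ∀ i, i < 44928 → P i := stepQ 44927 Q44927 (allL N44927 (tt N33495 (iv1 F114117)) (tt N36368 (iv0 F130831)) (tt N29747 (iv2 F130815)) (tt N36373 (iv3 F130843)) (tt N37951 (iv4 F318748)) (tt N42856 F114115) (tt N41669 F114116) (tt N23107 (iv7 D76143)))
theorem Q44929 : ∀ i, i < 44929 → P i := stepQ 44928 Q44928 (allL N44928 (tt N60077 (iv1 F349924)) (tt N78738 D159201) (tt N47299 (iv2 F320973)) (tt N23109 (iv3 D76151)) (tt N78735 (iv4 F250664)) (tt N47327 (iv5 F320976)) (tt N45382 (iv6 F115595)) (tt N45707 (iv7 F119461)))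
theorem Q44930 : ∀ i, i < 44930 → P i := stepQ 44929 Q44929 (allL N44929 (tt N23698 F114129) (tt N23702 F114130) (tt N45706 (iv2 F119458)) (tt N47327 (iv3 F320975)) (tt N44487 F307235) (tt N23109 (iv5 D76152)) (tt N47310 F320133) (tt N45708 (iv7 F119462)))
theorem Q44931 : ∀ i, i < 44931 → P i := stepQ 44930 Q44930 (allL N44930 (tt N78739 D159205) (tt N76533 (iv0 F345821)) (tt N78740 D159207) (tt N23110 (iv3 D76153)) (tt N78639 (iv4 F250036)) (tt N78327 (iv5 F248237)) (tt N25271 F114131) (tt N23125 F114132))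
theorem Q44932 : ∀ i, i < 44932 → P i := stepQ 44931 Q44931 (allL N44931 (tt N45719 (iv1 F301856)) (tt N34626 F299825) (tt N45730 (iv2 F301254)) (tt N78741 D159215) (tt N23111 (iv4 D76161)) (tt N78742 D159216) (tt N64030 (iv6 F192317)) (tt N45386 (iv7 F115634)))
theorem Q44933 : ∀ i, i < 44933 → P i := stepQ 44932 Q44932 (allL N44932 (tt N47283 (iv1 F318158)) (tt N47282 (iv0 F318159)) (tt N47285 (iv2 F318160)) (tt N23112 (iv3 D76162)) (tt N78741 (iv4 F250713)) (tt N47267 F315960) (tt N45705 (iv6 F119457)) (tt N45387 (iv7 F115637)))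
theorem Q44934 : ∀ i, i < 44934 → P i := stepQ 44933 Q44933 (allL N44933 (tt N46312 (iv1 F122775)) (tt N23490 F114134) (tt N45383 (iv2 F115597)) (tt N47267 (iv3 F313490)) (tt N43150 F311183) (tt N23112 (iv5 D76163)) (tt N46386 (iv6 F313491)) (tt N23527 (iv7 F311628)))
theorem Q44935 : ∀ i, i < 44935 → P i := stepQ 44934 Q44934 (allL N44934 (tt N58618 (iv1 F332926)) (tt N45617 (iv0 F302024)) (tt N53519 (iv2 F153921)) (tt N76075 (iv3 F236215)) (tt N72900 F332914) (tt N23113 (iv5 D76169)) (tt N39932 (iv6 F332928)) (tt N45380 (iv7 F115590)))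
theorem Q44936 : ∀ i, i < 44936 → P i := stepQ 44935 Q44935 (allL N44935 (tt N47859 (iv1 F129946)) (tt N46412 (iv0 F123443)) (tt N53520 (iv2 F153923)) (tt N76076 (iv3 F236218)) (tt N23115 F114137) (tt N64526 (iv5 F301754)) (tt N23113 (iv6 D76170)) (tt N63905 (iv7 F301823)))
theorem Q44937 : ∀ i, i < 44937 → P i := stepQ 44936 Q44936 (allL N44936 (tt N78743 D159227) (tt N45620 F302539) (tt N64310 (iv2 F195815)) (tt N46946 F320315) (tt N23114 (iv4 D76173)) (tt N57981 (iv5 F343738)) (tt N64162 F302540) (tt N45381 (iv7 F115594)))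
theorem Q44938 : ∀ i, i < 44938 → P i := stepQ 44937 Q44937 (allL N44937 (tt N48434 F297380) (tt N23700 F297381) (tt N34953 F297382) (tt N60638 (iv3 F327209)) (tt N23117 (iv4 D76181)) (tt N78744 D159237) (tt N23756 F297383) (tt N45388 (iv7 F115670)))
theorem Q44939 : ∀ i, i < 44939 → P i := stepQ 44938 Q44938 (allL N44938 (tt N47280 F334674) (tt N47276 (iv0 F334675)) (tt N78414 (iv2 F333770)) (tt N23118 (iv3 D76183)) (tt N60638 (iv4 F327210)) (tt N38089 F316544) (tt N38149 (iv6 F318822)) (tt N45389 (iv7 F115673)))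
theorem Q44940 : ∀ i, i < 44940 → P i := stepQ 44939 Q44939 (allL N44939 (tt N35272 (iv1 F318816)) (tt N46919 (iv0 F318817)) (tt N47129 (iv2 F318818)) (tt N23121 (iv3 D76191)) (tt N59586 (iv4 F343722)) (tt N23471 F316542) (tt N59624 (iv6 F325226)) (tt N44805 F316543))
theorem Q44941 : ∀ i, i < 44941 → P i := stepQ 44940 Q44940 (allL N44940 (tt N31184 F323944) (tt N31187 F323945) (tt N45390 (iv2 F115677)) (tt N59624 (iv3 F325225)) (tt N23122 F114156) (tt N63784 (iv5 F318532)) (tt N23121 (iv6 D76193)) (tt N46154 (iv7 F299774)))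
theorem Q44942 : ∀ i, i < 44942 → P i := stepQ 44941 Q44941 (allL N44941 (tt N34666 F330761) (tt N78745 D159266) (tt N60380 (iv2 F320947)) (tt N23124 (iv3 D76198)) (tt N34645 (iv4 F304261)) (tt N68980 (iv5 F313451)) (tt N58674 (iv6 F321904)) (tt N34615 F302570))
theorem Q44943 : ∀ i, i < 44943 → P i := stepQ 44942 Q44942 (allL N44942 (tt N78740 (iv1 F250701)) (tt N23125 (iv0 D76201)) (tt N76533 (iv2 F330172)) (tt N76115 (iv3 F330170)) (tt N78746 D159276) (tt N38902 F330171) (tt N72094 (iv6 F359072)) (tt N78739 (iv7 F345830)))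
theorem Q44944 : ∀ i, i < 44944 → P i := stepQ 44943 Q44943 (allL N44943 (tt N23125 (iv1 D76202)) (tt N78740 F250703) (tt N78739 (iv2 F345828)) (tt N60388 (iv3 F381050)) (tt N78747 D159281) (tt N76534 (iv5 F330174)) (tt N60385 (iv6 F381052)) (tt N76533 (iv7 F330173)))
theorem Q44945 : ∀ i, i < 44945 → P i := stepQ 44944 Q44944 (allL N44944 (tt N76533 (iv1 F345822)) (tt N78739 F250698) (tt N23125 (iv2 D76203)) (tt N45393 (iv3 F115698)) (tt N78651 (iv4 F250112)) (tt N78748 D159284) (tt N23129 F114166) (tt N78740 (iv7 F250700)))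
theorem Q44946 : ∀ i, i < 44946 → P i := stepQ 44945 Q44945 (allL N44945 (tt N67011 (iv1 F364579)) (tt N64458 (iv0 F330177)) (tt N78748 (iv2 F250764)) (tt N23126 F114167) (tt N78749 D159287) (tt N23125 (iv5 D76204)) (tt N35521 F114168) (tt N78327 (iv7 F248239)))
theorem Q44947 : ∀ i, i < 44947 → P i := stepQ 44946 Q44946 (allL N44946 (tt N45396 (iv1 F115723)) (tt N23126 (iv0 D76205)) (tt N45395 F115707) (tt N25077 (iv3 F311681)) (tt N46516 F309497) (tt N24168 F114169) (tt N46403 (iv6 F311682)) (tt N23583 (iv7 F311140)))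
theorem Q44948 : ∀ i, i < 44948 → P i := stepQ 44947 Q44947 (allL N44947 (tt N34667 (iv1 F254267)) (tt N78750 D159299) (tt N78751 D159300) (tt N23127 (iv3 D76208)) (tt N45869 F119778) (tt N45950 (iv5 F250798)) (tt N78752 D159302) (tt N25348 (iv7 F254283)))
theorem Q44949 : ∀ i, i < 44949 → P i := stepQ 44948 Q44948 (allL N44948 (tt N78753 D159304) (tt N59921 (iv0 F326843)) (tt N25353 F254278) (tt N78754 D159306) (tt N23127 (iv4 D76209)) (tt N78755 D159307) (tt N59903 (iv6 F330671)) (tt N25349 (iv7 F254285)))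
theorem Q44950 : ∀ i, i < 44950 → P i := stepQ 44949 Q44949 (allL N44949 (tt N78756 D159315) (tt N45931 (iv0 F330668)) (tt N25355 F254280) (tt N78752 (iv3 F250779)) (tt N59903 (iv4 F330670)) (tt N42258 F330659) (tt N23127 (iv6 D76211)) (tt N78757 D159318))
theorem Q44951 : ∀ i, i < 44951 → P i := stepQ 44950 Q44950 (allL N44950 (tt N45892 (iv1 F254400)) (tt N45896 (iv0 F254370)) (tt N45891 (iv2 F254266)) (tt N23128 (iv3 D76213)) (tt N78758 D159322) (tt N45953 F250794) (tt N78759 D159323) (tt N25352 F254273))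
theorem Q44952 : ∀ i, i < 44952 → P i := stepQ 44951 Q44951 (allL N44951 (tt N59921 (iv1 F326844)) (tt N78753 F250786) (tt N25349 (iv2 F254284)) (tt N52784 (iv3 F151333)) (tt N23128 (iv4 D76214)) (tt N78760 D159324) (tt N78761 D159325) (tt N25353 F254281))
theorem Q44953 : ∀ i, i < 44953 → P i := stepQ 44952 Q44952 (allL N44952 (tt N34638 F336479) (tt N45768 (iv0 F336480)) (tt N25351 (iv2 F254288)) (tt N78759 (iv3 F250822)) (tt N78761 (iv4 F250823)) (tt N72133 (iv5 F336486)) (tt N23128 (iv6 D76216)) (tt N45767 F338776))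
theorem Q44954 : ∀ i, i < 44954 → P i := stepQ 44953 Q44953 (allL N44953 (tt N43356 (iv1 F114178)) (tt N23130 (iv0 D76217)) (tt N50298 (iv2 F139470)) (tt N29979 (iv3 F114179)) (tt N76496 (iv4 F366223)) (tt N29977 F114177) (tt N57274 (iv6 F322883)) (tt N36245 (iv7 F114180)))
theorem Q44955 : ∀ i, i < 44955 → P i := stepQ 44954 Q44954 (allL N44954 (tt N23130 (iv1 D76218)) (tt N43356 F114181) (tt N36245 F114183) (tt N50107 (iv3 F138881)) (tt N78762 D159332) (tt N36243 (iv5 F114182)) (tt N78763 D159333) (tt N50298 (iv7 F139472)))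
theorem Q44956 : ∀ i, i < 44956 → P i := stepQ 44955 Q44955 (allL N44955 (tt N78764 D159334) (tt N78765 D159335) (tt N63312 (iv2 F186813)) (tt N78766 D159336) (tt N23130 (iv4 D76219)) (tt N78767 D159337) (tt N61511 (iv6 F178960)) (tt N63313 (iv7 F186814)))
theorem Q44957 : ∀ i, i < 44957 → P i := stepQ 44956 Q44956 (allL N44956 (tt N23132 (iv1 D76220)) (tt N23133 F114184) (tt N32959 (iv2 F114187)) (tt N63282 F186714) (tt N67118 (iv4 F206679)) (tt N32977 F114186) (tt N78390 (iv6 F248614)) (tt N32958 F114185))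
theorem Q44958 : ∀ i, i < 44958 → P i := stepQ 44957 Q44957 (allL N44957 (tt N45177 (iv1 F114685)) (tt N61205 (iv0 F178315)) (tt N32960 F114188) (tt N78768 D159338) (tt N23132 (iv4 D76221)) (tt N44964 (iv5 F114205)) (tt N78769 D159339) (tt N32963 F114189))
theorem Q44959 : ∀ i, i < 44959 → P i := stepQ 44958 Q44958 (allL N44958 (tt N78770 D159340) (tt N78771 D159341) (tt N32961 F114190) (tt N50978 (iv3 F143188)) (tt N78769 (iv4 F250837)) (tt N30058 F114191) (tt N23132 (iv6 D76222)) (tt N78772 D159342))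
theorem Q44960 : ∀ i, i < 44960 → P i := stepQ 44959 Q44959 (allL N44959 (tt N61205 (iv1 F178316)) (tt N45177 (iv0 F114684)) (tt N32963 F114192) (tt N78773 D159343) (tt N23133 (iv4 D76223)) (tt N44962 (iv5 F114200)) (tt N78774 D159344) (tt N32960 F114193))
theorem Q44961 : ∀ i, i < 44961 → P i := stepQ 44960 Q44960 (allL N44960 (tt N78775 D159345) (tt N78776 D159346) (tt N32964 F114194) (tt N63767 (iv3 F189438)) (tt N78774 (iv4 F250847)) (tt N46114 (iv5 F120350)) (tt N23133 (iv6 D76224)) (tt N78777 D159347))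
theorem Q44962 : ∀ i, i < 44962 → P i := stepQ 44961 Q44961 (allL N44961 (tt N61295 (iv1 F178539)) (tt N32745 (iv0 F114398)) (tt N26939 F114195) (tt N23134 (iv3 D76225)) (tt N78778 D159348) (tt N26553 F114196) (tt N78779 D159349) (tt N26942 F114197))
theorem Q44963 : ∀ i, i < 44963 → P i := stepQ 44962 Q44962 (allL N44962 (tt N45018 (iv1 F114340)) (tt N23166 F114201) (tt N32966 F114198) (tt N78780 D159350) (tt N23134 (iv4 D76226)) (tt N44959 F114200) (tt N78781 D159351) (tt N32968 F114199))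
theorem Q44964 : ∀ i, i < 44964 → P i := stepQ 44963 Q44963 (allL N44963 (tt N78782 D159352) (tt N78783 D159353) (tt N32967 F114202) (tt N78779 (iv3 F250864)) (tt N78781 (iv4 F250869)) (tt N37462 F114203) (tt N23134 (iv6 D76227)) (tt N78784 D159354))
theorem Q44965 : ∀ i, i < 44965 → P i := stepQ 44964 Q44964 (allL N44964 (tt N23166 F114207) (tt N45018 (iv0 F114339)) (tt N32968 F114204) (tt N78785 D159355) (tt N23135 (iv4 D76228)) (tt N44957 F114205) (tt N78786 D159356) (tt N32966 F114206))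
theorem Q44966 : ∀ i, i < 44966 → P i := stepQ 44965 Q44965 (allL N44965 (tt N78787 D159357) (tt N78788 D159358) (tt N32969 F114208) (tt N76349 (iv3 F238407)) (tt N78786 (iv4 F250880)) (tt N42371 F114209) (tt N23135 (iv6 D76229)) (tt N78789 D159359))
theorem Q44967 : ∀ i, i < 44967 → P i := stepQ 44966 Q44966 (allL N44966 (tt N32573 (iv1 F114211)) (tt N23136 (iv0 D76230)) (tt N32970 F114213) (tt N78790 D159360) (tt N29924 F114210) (tt N36666 (iv5 F114212)) (tt N78791 D159361) (tt N32971 F114214))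
theorem Q44968 : ∀ i, i < 44968 → P i := stepQ 44967 Q44967 (allL N44967 (tt N23136 (iv1 D76231)) (tt N32573 F114215) (tt N32971 (iv2 F114218)) (tt N78792 D159362) (tt N29925 F114217) (tt N44973 (iv5 F114236)) (tt N78793 D159363) (tt N32970 F114216))
theorem Q44969 : ∀ i, i < 44969 → P i := stepQ 44968 Q44968 (allL N44968 (tt N78794 D159364) (tt N78795 D159365) (tt N78796 D159366) (tt N23136 (iv3 D76232)) (tt N78766 (iv4 F250834)) (tt N60977 (iv5 F177500)) (tt N61537 (iv6 F179006)) (tt N61652 (iv7 F179173)))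
theorem Q44970 : ∀ i, i < 44970 → P i := stepQ 44969 Q44969 (allL N44969 (tt N78797 D159367) (tt N78798 D159368) (tt N32572 F114219) (tt N63314 (iv3 F186815)) (tt N61653 (iv4 F179175)) (tt N29551 F114220) (tt N23137 (iv6 D76233)) (tt N61540 (iv7 F179010)))
theorem Q44971 : ∀ i, i < 44971 → P i := stepQ 44970 Q44970 (allL N44970 (tt N32667 (iv1 F114224)) (tt N23138 (iv0 D76234)) (tt N32479 (iv2 F114223)) (tt N29771 F114221) (tt N32671 F114222) (tt N78799 D159369) (tt N26513 (iv6 F114226)) (tt N29561 F114225))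
theorem Q44972 : ∀ i, i < 44972 → P i := stepQ 44971 Q44971 (allL N44971 (tt N32479 (iv1 F114232)) (tt N29561 F114231) (tt N23138 (iv2 D76235)) (tt N32652 F114227) (tt N27233 F114228) (tt N78800 D159370) (tt N27231 F114229) (tt N32667 F114230))
theorem Q44973 : ∀ i, i < 44973 → P i := stepQ 44972 Q44972 (allL N44972 (tt N50742 (iv1 F142202)) (tt N43282 (iv0 F139469)) (tt N78800 (iv2 F250903)) (tt N23139 F114233) (tt N78801 D159371) (tt N23138 (iv5 D76236)) (tt N78802 D159372) (tt N32979 F114234))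
theorem Q44974 : ∀ i, i < 44974 → P i := stepQ 44973 Q44973 (allL N44973 (tt N45162 (iv1 F114662)) (tt N67118 F206681) (tt N32975 F114235) (tt N78803 D159373) (tt N23139 (iv4 D76237)) (tt N44967 F114236) (tt N78804 D159374) (tt N32980 F114237))
theorem Q44975 : ∀ i, i < 44975 → P i := stepQ 44974 Q44974 (allL N44974 (tt N78805 D159375) (tt N78806 D159376) (tt N32976 F114238) (tt N78802 (iv3 F250913)) (tt N78804 (iv4 F250918)) (tt N29995 F114239) (tt N23139 (iv6 D76238)) (tt N78807 D159377))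
theorem Q44976 : ∀ i, i < 44976 → P i := stepQ 44975 Q44975 (allL N44975 (tt N78808 D159382) (tt N43286 (iv0 F114926)) (tt N29772 F114242) (tt N36467 F114243) (tt N78809 D159383) (tt N23141 (iv5 D76240)) (tt N63013 (iv6 F314117)) (tt N42905 F114244))
theorem Q44977 : ∀ i, i < 44977 → P i := stepQ 44976 Q44976 (allL N44976 (tt N33994 F114254) (tt N29752 (iv0 F114256)) (tt N23146 F114251) (tt N29905 F114255) (tt N23143 (iv4 D76243)) (tt N78810 D159389) (tt N37524 F114252) (tt N23149 F114253))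
theorem Q44978 : ∀ i, i < 44978 → P i := stepQ 44977 Q44977 (allL N44977 (tt N23154 F114260) (tt N23144 (iv0 D76244)) (tt N23151 (iv2 F114258)) (tt N42744 F178719) (tt N72384 (iv4 F314663)) (tt N35917 F114257) (tt N69637 (iv6 F215255)) (tt N23152 (iv7 F114259)))
theorem Q44979 : ∀ i, i < 44979 → P i := stepQ 44978 Q44978 (allL N44978 (tt N23144 (iv1 D76245)) (tt N23154 F114261) (tt N23152 (iv2 F114265)) (tt N33909 (iv3 F114264)) (tt N72385 (iv4 F314668)) (tt N23278 F114263) (tt N66548 (iv6 F321574)) (tt N23151 F114262))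
theorem Q44980 : ∀ i, i < 44980 → P i := stepQ 44979 Q44979 (allL N44979 (tt N63344 (iv1 F186929)) (tt N36255 F114267) (tt N23153 F114266) (tt N78811 D159393) (tt N23144 (iv4 D76246)) (tt N63365 (iv5 F186949)) (tt N39346 F312160) (tt N76218 (iv7 F237879)))
theorem Q44981 : ∀ i, i < 44981 → P i := stepQ 44980 Q44980 (allL N44980 (tt N23152 (iv1 F114271)) (tt N23151 F114272) (tt N23154 F114268) (tt N36282 F114269) (tt N76218 (iv4 F237876)) (tt N23145 F114270) (tt N78812 D159394) (tt N23144 (iv7 D76247)))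
theorem Q44982 : ∀ i, i < 44982 → P i := stepQ 44981 Q44981 (allL N44981 (tt N53665 (iv1 F154340)) (tt N78813 D159395) (tt N78810 (iv2 F250958)) (tt N42905 F114273) (tt N78814 D159396) (tt N23146 (iv5 D76248)) (tt N78815 D159397) (tt N36467 F114274))
theorem Q44983 : ∀ i, i < 44983 → P i := stepQ 44982 Q44982 (allL N44982 (tt N34037 F114277) (tt N34035 F114276) (tt N75980 (iv2 F235105)) (tt N78349 (iv3 F346614)) (tt N23147 (iv4 D76249)) (tt N78816 D159399) (tt N78347 (iv6 F348207)) (tt N36476 F114275))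
theorem Q44984 : ∀ i, i < 44984 → P i := stepQ 44983 Q44983 (allL N44983 (tt N78817 D159401) (tt N44134 F244923) (tt N57464 (iv2 F166809)) (tt N36504 F114278) (tt N78347 (iv4 F348206)) (tt N57454 (iv5 F166790)) (tt N23147 (iv6 D76250)) (tt N78818 D159402))
theorem Q44985 : ∀ i, i < 44985 → P i := stepQ 44984 Q44984 (allL N44984 (tt N63496 (iv1 F187727)) (tt N33897 (iv0 F114283)) (tt N32820 F114279) (tt N23150 F114280) (tt N41156 F323190) (tt N23148 (iv5 D76251)) (tt N75816 (iv6 F234191)) (tt N42743 F114281))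
theorem Q44986 : ∀ i, i < 44986 → P i := stepQ 44985 Q44985 (allL N44985 (tt N78813 (iv1 F250983)) (tt N53665 (iv0 F154339)) (tt N36467 F114284) (tt N29904 F114285) (tt N78819 D159403) (tt N23149 (iv5 D76252)) (tt N78820 D159404) (tt N78810 (iv7 F250960)))
theorem Q44987 : ∀ i, i < 44987 → P i := stepQ 44986 Q44986 (allL N44986 (tt N34035 F114288) (tt N34037 F114287) (tt N36476 F114286) (tt N28339 (iv3 F339161)) (tt N23150 (iv4 D76253)) (tt N78821 D159406) (tt N28306 F339160) (tt N75980 (iv7 F235106)))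
theorem Q44988 : ∀ i, i < 44988 → P i := stepQ 44987 Q44987 (allL N44987 (tt N42873 F237070) (tt N78822 D159408) (tt N36473 F114289) (tt N75816 (iv3 F234190)) (tt N28306 (iv4 F339155)) (tt N36464 F114290) (tt N23150 (iv6 D76254)) (tt N28305 F339154))
theorem Q44989 : ∀ i, i < 44989 → P i := stepQ 44988 Q44988 (allL N44988 (tt N34032 F114291) (tt N34030 F114292) (tt N72384 (iv2 F314662)) (tt N78823 D159410) (tt N23151 (iv4 D76255)) (tt N78824 D159411) (tt N75961 (iv6 F309992)) (tt N72385 (iv7 F314669)))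
theorem Q44990 : ∀ i, i < 44990 → P i := stepQ 44989 Q44989 (allL N44989 (tt N42742 (iv1 F114299)) (tt N33891 F114298) (tt N42745 F114295) (tt N23152 (iv3 D76257)) (tt N42949 (iv4 F114297)) (tt N41370 F114296) (tt N73685 (iv6 F344494)) (tt N42744 (iv7 F178718)))
theorem Q44991 : ∀ i, i < 44991 → P i := stepQ 44990 Q44990 (allL N44990 (tt N34030 F114300) (tt N34032 F114301) (tt N72385 (iv2 F314666)) (tt N71209 (iv3 F352872)) (tt N23152 (iv4 D76258)) (tt N78825 D159416) (tt N73799 (iv6 F321996)) (tt N72384 (iv7 F314664)))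
theorem Q44992 : ∀ i, i < 44992 → P i := stepQ 44991 Q44991 (allL N44991 (tt N66551 F323278) (tt N39764 (iv0 F324685)) (tt N66548 (iv2 F321571)) (tt N73685 (iv3 F344492)) (tt N73799 (iv4 F321995)) (tt N78826 D159419) (tt N23152 (iv6 D76259)) (tt N66549 (iv7 F321575)))
theorem Q44993 : ∀ i, i < 44993 → P i := stepQ 44992 Q44992 (allL N44992 (tt N23153 (iv1 D76260)) (tt N76218 F237878) (tt N36255 (iv2 F114303)) (tt N78827 D159421) (tt N36253 F114302) (tt N78828 D159422) (tt N39770 F343292) (tt N63344 (iv7 F186927)))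
theorem Q44994 : ∀ i, i < 44994 → P i := stepQ 44993 Q44993 (allL N44993 (tt N78829 D159423) (tt N78830 D159424) (tt N78831 D159425) (tt N23153 (iv3 D76261)) (tt N23155 F114304) (tt N78832 D159426) (tt N39347 F314606) (tt N67116 (iv7 F206676)))
theorem Q44995 : ∀ i, i < 44995 → P i := stepQ 44994 Q44994 (allL N44994 (tt N63369 F186954) (tt N63293 (iv0 F186774)) (tt N63365 F186950) (tt N78832 (iv3 F251059)) (tt N78833 D159427) (tt N23153 (iv5 D76262)) (tt N78834 D159428) (tt N63366 (iv7 F186951)))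
theorem Q44996 : ∀ i, i < 44996 → P i := stepQ 44995 Q44995 (allL N44995 (tt N36255 (iv1 F114306)) (tt N63344 (iv0 F186928)) (tt N76218 F237877) (tt N67116 (iv3 F206675)) (tt N23154 F114305) (tt N63366 (iv5 F186952)) (tt N78835 D159429) (tt N23153 (iv7 D76263)))
theorem Q44997 : ∀ i, i < 44997 → P i := stepQ 44996 Q44996 (allL N44996 (tt N74971 (iv1 F330041)) (tt N78836 D159431) (tt N78812 (iv2 F250977)) (tt N23156 F114307) (tt N78835 (iv4 F251061)) (tt N29743 F114308) (tt N23154 (iv6 D76264)) (tt N48139 (iv7 F131406)))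
theorem Q44998 : ∀ i, i < 44998 → P i := stepQ 44997 Q44997 (allL N44997 (tt N67113 (iv1 F206672)) (tt N23155 (iv0 D76265)) (tt N67115 (iv2 F349891)) (tt N78837 D159433) (tt N78838 D159434) (tt N76153 (iv5 F346535)) (tt N78839 D159436) (tt N67114 (iv7 F349886)))
theorem Q44999 : ∀ i, i < 44999 → P i := stepQ 44998 Q44998 (allL N44998 (tt N23155 (iv1 D76266)) (tt N67113 F206671) (tt N67114 (iv2 F349885)) (tt N66327 (iv3 F346527)) (tt N71784 (iv4 F360743)) (tt N66326 (iv5 F346526)) (tt N71782 (iv6 F349931)) (tt N67115 (iv7 F349894)))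
theorem Q45000 : ∀ i, i < 45000 → P i := stepQ 44999 Q44999 (allL N44999 (tt N67115 (iv1 F206674)) (tt N67114 F206673) (tt N23155 (iv2 D76267)) (tt N36659 F114309) (tt N78831 (iv4 F251057)) (tt N66767 (iv5 F205391)) (tt N48512 (iv6 F133109)) (tt N67113 (iv7 F206670)))
theorem Q45001 : ∀ i, i < 45001 → P i := stepQ 45000 Q45000 (allL N45000 (tt N46044 F120140) (tt N61115 (iv0 F290564)) (tt N29836 F114325) (tt N63399 (iv3 F187317)) (tt N52568 (iv4 F149962)) (tt N30086 F114326) (tt N23157 (iv6 D76270)) (tt N61114 (iv7 F290563)))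
theorem Q45002 : ∀ i, i < 45002 → P i := stepQ 45001 Q45001 (allL N45001 (tt N39665 (iv1 F331307)) (tt N78840 D159446) (tt N51629 (iv2 F146945)) (tt N29839 F114327) (tt N23159 F114328) (tt N37270 F331290) (tt N23158 (iv6 D76271)) (tt N78841 D159448))
theorem Q45003 : ∀ i, i < 45003 → P i := stepQ 45002 Q45002 (allL N45002 (tt N61085 (iv1 F177955)) (tt N23159 (iv0 D76272)) (tt N61084 (iv2 F350568)) (tt N63392 (iv3 F390817)) (tt N55123 F190337) (tt N78842 D159451) (tt N78843 D159452) (tt N55209 (iv7 F350580)))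
theorem Q45004 : ∀ i, i < 45004 → P i := stepQ 45003 Q45003 (allL N45003 (tt N23159 (iv1 D76273)) (tt N61085 F177954) (tt N55209 (iv2 F350579)) (tt N78844 D159454) (tt N55208 (iv4 F350565)) (tt N78845 D159456) (tt N78846 D159457) (tt N61084 (iv7 F350569)))
theorem Q45005 : ∀ i, i < 45005 → P i := stepQ 45004 Q45004 (allL N45004 (tt N55209 (iv1 F234603)) (tt N61084 F177953) (tt N61085 (iv2 F177951)) (tt N23163 F114329) (tt N78841 (iv4 F251085)) (tt N61197 (iv5 F178311)) (tt N29842 F114330) (tt N23159 (iv7 D76274)))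
theorem Q45006 : ∀ i, i < 45006 → P i := stepQ 45005 Q45005 (allL N45005 (tt N78847 D159464) (tt N78848 D159465) (tt N32927 F177789) (tt N76623 (iv3 F333223)) (tt N78849 D159466) (tt N23160 (iv5 D76278)) (tt N78850 D159467) (tt N32941 F177790))
theorem Q45007 : ∀ i, i < 45007 → P i := stepQ 45006 Q45006 (allL N45006 (tt N55771 (iv1 F177674)) (tt N61020 (iv0 F177671)) (tt N32928 F177783) (tt N38228 (iv3 F333216)) (tt N29601 F177784) (tt N38227 F333208) (tt N23160 (iv6 D76279)) (tt N61018 F177785))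
theorem Q45008 : ∀ i, i < 45008 → P i := stepQ 45007 Q45007 (allL N45007 (tt N55764 (iv1 F356462)) (tt N61047 (iv0 F356463)) (tt N61045 (iv2 F355674)) (tt N23161 (iv3 D76281)) (tt N78851 D159471) (tt N78852 D159472) (tt N78853 D159473) (tt N32926 F177794))
theorem Q45009 : ∀ i, i < 45009 → P i := stepQ 45008 Q45008 (allL N45008 (tt N78848 (iv1 F251107)) (tt N78847 F251104) (tt N32941 F177796) (tt N78852 (iv3 F251124)) (tt N78854 D159474) (tt N23161 (iv5 D76283)) (tt N78855 D159475) (tt N32927 F177797))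
theorem Q45010 : ∀ i, i < 45010 → P i := stepQ 45009 Q45009 (allL N45009 (tt N61072 (iv1 F177901)) (tt N23857 F177798) (tt N32942 F177799) (tt N78853 (iv3 F251126)) (tt N29604 F177800) (tt N66770 (iv5 F205408)) (tt N23161 (iv6 D76284)) (tt N61071 F177894))
theorem Q45011 : ∀ i, i < 45011 → P i := stepQ 45010 Q45010 (allL N45010 (tt N56323 (iv1 F163413)) (tt N23162 (iv0 D76285)) (tt N56320 (iv2 F193507)) (tt N76625 (iv3 F239580)) (tt N61615 (iv4 F179136)) (tt N61121 (iv5 F178032)) (tt N78856 D159476) (tt N56321 F193505))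
theorem Q45012 : ∀ i, i < 45012 → P i := stepQ 45011 Q45011 (allL N45011 (tt N23162 (iv1 D76286)) (tt N56323 F163412) (tt N56321 F193511) (tt N78857 D159477) (tt N61616 (iv4 F179139)) (tt N45067 (iv5 F114468)) (tt N78858 D159478) (tt N56320 (iv7 F193510)))
theorem Q45013 : ∀ i, i < 45013 → P i := stepQ 45012 Q45012 (allL N45012 (tt N61530 F179001) (tt N61533 (iv0 F179003)) (tt N56322 (iv2 F163407)) (tt N78859 D159479) (tt N23162 (iv4 D76287)) (tt N78860 D159480) (tt N23166 F114333) (tt N78861 D159481))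
theorem Q45014 : ∀ i, i < 45014 → P i := stepQ 45013 Q45013 (allL N45013 (tt N56321 (iv1 F163406)) (tt N56320 F163411) (tt N56323 (iv2 F163409)) (tt N61197 (iv3 F178310)) (tt N78861 (iv4 F251156)) (tt N23163 F114334) (tt N78862 D159482) (tt N23162 (iv7 D76288)))
theorem Q45015 : ∀ i, i < 45015 → P i := stepQ 45014 Q45014 (allL N45014 (tt N78863 D159483) (tt N78864 D159484) (tt N56346 (iv2 F163520)) (tt N76628 (iv3 F239585)) (tt N61646 (iv4 F179170)) (tt N37278 F114335) (tt N23164 (iv6 D76289)) (tt N78865 D159485))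
theorem Q45016 : ∀ i, i < 45016 → P i := stepQ 45015 Q45015 (allL N45015 (tt N55772 (iv1 F161707)) (tt N60824 (iv0 F176977)) (tt N61125 (iv2 F178049)) (tt N23165 (iv3 D76290)) (tt N78866 D159486) (tt N26941 F114336) (tt N78867 D159487) (tt N56345 (iv7 F163517)))
theorem Q45017 : ∀ i, i < 45017 → P i := stepQ 45016 Q45016 (allL N45016 (tt N78868 D159488) (tt N78869 D159489) (tt N56348 (iv2 F163526)) (tt N78867 (iv3 F251163)) (tt N61648 (iv4 F179171)) (tt N45182 (iv5 F114708)) (tt N23165 (iv6 D76291)) (tt N78870 D159490))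
theorem Q45018 : ∀ i, i < 45018 → P i := stepQ 45017 Q45017 (allL N45017 (tt N78871 D159491) (tt N78872 D159492) (tt N78873 D159493) (tt N23166 (iv3 D76292)) (tt N61195 (iv4 F178308)) (tt N78874 D159494) (tt N78859 (iv6 F251155)) (tt N78875 D159495))
theorem Q45019 : ∀ i, i < 45019 → P i := stepQ 45018 Q45018 (allL N45018 (tt N44964 F114339) (tt N44962 F114340) (tt N45019 (iv2 F114341)) (tt N78874 (iv3 F251167)) (tt N29887 F114337) (tt N23166 (iv5 D76293)) (tt N78876 D159496) (tt N29926 F114338))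
theorem Q45020 : ∀ i, i < 45020 → P i := stepQ 45019 Q45019 (allL N45019 (tt N32968 (iv1 F114344)) (tt N32966 F114345) (tt N45018 F114341) (tt N78875 (iv3 F251169)) (tt N23167 F114342) (tt N29926 F114343) (tt N78877 D159497) (tt N23166 (iv7 D76294)))
theorem Q45021 : ∀ i, i < 45021 → P i := stepQ 45020 Q45020 (allL N45020 (tt N78878 D159498) (tt N78879 D159499) (tt N56282 (iv2 F163321)) (tt N36402 F114346) (tt N78877 (iv4 F251174)) (tt N29835 F114347) (tt N23167 (iv6 D76295)) (tt N78862 (iv7 F251161)))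
theorem Q45022 : ∀ i, i < 45022 → P i := stepQ 45021 Q45021 (allL N45021 (tt N46112 F120344) (tt N29582 F114351) (tt N32750 F114348) (tt N32794 F114349) (tt N32677 F114350) (tt N23169 (iv5 D76296)) (tt N78880 D159500) (tt N50966 (iv7 F143171)))
theorem Q45023 : ∀ i, i < 45023 → P i := stepQ 45022 Q45022 (allL N45022 (tt N42372 (iv1 F114379)) (tt N23170 (iv0 D76297)) (tt N23191 (iv2 F114375)) (tt N23218 F114376) (tt N45179 (iv4 F114693)) (tt N78881 D159501) (tt N26554 F114377) (tt N41341 F114378))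
theorem Q45024 : ∀ i, i < 45024 → P i := stepQ 45023 Q45023 (allL N45023 (tt N26922 F114383) (tt N42378 F114382) (tt N50281 F139402) (tt N39631 F114380) (tt N36143 F114381) (tt N23170 (iv5 D76298)) (tt N44819 F324639) (tt N50280 F139400))
theorem Q45025 : ∀ i, i < 45025 → P i := stepQ 45024 Q45024 (allL N45024 (tt N41341 (iv1 F114389)) (tt N23191 F114390) (tt N42372 F114385) (tt N29821 F114386) (tt N29864 F114387) (tt N50280 (iv5 F139397)) (tt N29971 F114388) (tt N23170 (iv7 D76299)))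
theorem Q45026 : ∀ i, i < 45026 → P i := stepQ 45025 Q45025 (allL N45025 (tt N30070 F114393) (tt N30075 (iv0 F114392)) (tt N58905 (iv2 F171421)) (tt N23173 F114391) (tt N58905 F171419) (tt N61342 (iv5 F178634)) (tt N23171 (iv6 D76300)) (tt N56603 (iv7 F164403)))
theorem Q45027 : ∀ i, i < 45027 → P i := stepQ 45026 Q45026 (allL N45026 (tt N29582 F114397) (tt N46112 (iv0 F120343)) (tt N50966 (iv2 F143169)) (tt N29571 F114394) (tt N32678 F114395) (tt N23172 (iv5 D76301)) (tt N78882 D159502) (tt N32750 F114396))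
theorem Q45028 : ∀ i, i < 45028 → P i := stepQ 45027 Q45027 (allL N45027 (tt N27234 F114399) (tt N27232 (iv0 F114400)) (tt N56283 (iv2 F163323)) (tt N61342 F178635) (tt N78883 D159503) (tt N23173 (iv5 D76302)) (tt N61282 (iv6 F178509)) (tt N56594 (iv7 F164381)))
theorem Q45029 : ∀ i, i < 45029 → P i := stepQ 45028 Q45028 (allL N45028 (tt N32888 F114405) (tt N32887 F114406) (tt N23177 F114401) (tt N78884 D159504) (tt N23174 (iv4 D76303)) (tt N43649 F114402) (tt N27109 F114403) (tt N32885 F114404))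
theorem Q45030 : ∀ i, i < 45030 → P i := stepQ 45029 Q45029 (allL N45029 (tt N61514 F206232) (tt N32952 F206233) (tt N32744 F114407) (tt N61267 (iv3 F178468)) (tt N66994 (iv4 F206340)) (tt N78885 D159505) (tt N23175 (iv6 D76304)) (tt N61513 (iv7 F191126)))
theorem Q45031 : ∀ i, i < 45031 → P i := stepQ 45030 Q45030 (allL N45030 (tt N50072 (iv1 F138814)) (tt N32638 F114411) (tt N32738 F114408) (tt N64039 F192371) (tt N23176 (iv4 D76305)) (tt N43416 F114410) (tt N78886 D159506) (tt N32743 F114409))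
theorem Q45032 : ∀ i, i < 45032 → P i := stepQ 45031 Q45031 (allL N45031 (tt N29599 F234963) (tt N32936 F234964) (tt N32739 F114412) (tt N73785 (iv3 F320227)) (tt N78886 (iv4 F251203)) (tt N78887 D159507) (tt N23176 (iv6 D76306)) (tt N32935 F206247))
theorem Q45033 : ∀ i, i < 45033 → P i := stepQ 45032 Q45032 (allL N45032 (tt N32885 (iv1 F114414)) (tt N23177 (iv0 D76307)) (tt N32888 (iv2 F114413)) (tt N75010 (iv3 F309307)) (tt N50745 (iv4 F142214)) (tt N45428 (iv5 F115802)) (tt N75009 (iv6 F334692)) (tt N32887 F114415))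
theorem Q45034 : ∀ i, i < 45034 → P i := stepQ 45033 Q45033 (allL N45033 (tt N54879 (iv1 F293793)) (tt N26958 F161635) (tt N23238 F153452) (tt N74801 (iv3 F319717)) (tt N55018 (iv4 F158486)) (tt N23178 (iv5 D76311)) (tt N54886 (iv6 F293762)) (tt N23241 F153453))
theorem Q45035 : ∀ i, i < 45035 → P i := stepQ 45034 Q45034 (allL N45034 (tt N29589 (iv1 F145326)) (tt N51491 (iv0 F145325)) (tt N44004 F322018) (tt N23179 (iv3 D76314)) (tt N34350 (iv4 F323669)) (tt N50249 (iv5 F145327)) (tt N78888 D159519) (tt N23237 F153442))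
theorem Q45036 : ∀ i, i < 45036 → P i := stepQ 45035 Q45035 (allL N45035 (tt N26958 F161632) (tt N54879 (iv0 F293792)) (tt N23241 F153438) (tt N50249 F145328) (tt N55019 F158481) (tt N23179 (iv5 D76316)) (tt N49260 (iv6 F135564)) (tt N23238 F153439))
theorem Q45037 : ∀ i, i < 45037 → P i := stepQ 45036 Q45036 (allL N45036 (tt N61521 (iv1 F178977)) (tt N32951 F161793) (tt N23242 F153443) (tt N78888 (iv3 F251259)) (tt N34695 F136676) (tt N66121 (iv5 F327778)) (tt N23179 (iv6 D76317)) (tt N61520 (iv7 F178968)))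
theorem Q45038 : ∀ i, i < 45038 → P i := stepQ 45037 Q45037 (allL N45037 (tt N78889 D159520) (tt N78890 D159521) (tt N52198 (iv2 F148003)) (tt N52196 (iv3 F147995)) (tt N23182 F114419) (tt N78891 D159522) (tt N23181 (iv6 D76318)) (tt N78892 D159523))
theorem Q45039 : ∀ i, i < 45039 → P i := stepQ 45038 Q45038 (allL N45038 (tt N61083 (iv1 F177949)) (tt N23182 (iv0 D76319)) (tt N61082 (iv2 F177947)) (tt N78893 D159524) (tt N51753 (iv4 F261858)) (tt N67355 (iv5 F342932)) (tt N78894 D159527) (tt N52017 (iv7 F346183)))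
theorem Q45040 : ∀ i, i < 45040 → P i := stepQ 45039 Q45039 (allL N45039 (tt N23182 (iv1 D76320)) (tt N61083 F177945) (tt N52017 (iv2 F346180)) (tt N47523 (iv3 F332635)) (tt N52016 (iv4 F361700)) (tt N56276 (iv5 F163312)) (tt N61068 (iv6 F178025)) (tt N61082 (iv7 F177946)))
theorem Q45041 : ∀ i, i < 45041 → P i := stepQ 45040 Q45040 (allL N45040 (tt N52017 (iv1 F346179)) (tt N61082 F177944) (tt N61083 (iv2 F177941)) (tt N23186 F114420) (tt N78892 (iv4 F251261)) (tt N60723 (iv5 F176781)) (tt N60992 (iv6 F177528)) (tt N23182 (iv7 D76321)))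
theorem Q45042 : ∀ i, i < 45042 → P i := stepQ 45041 Q45041 (allL N45041 (tt N32695 (iv1 F178185)) (tt N66780 F205541) (tt N56173 F177861) (tt N66072 (iv3 F332575)) (tt N45997 F177623) (tt N29884 F114422) (tt N23183 (iv6 D76326)) (tt N56170 F177874))
theorem Q45043 : ∀ i, i < 45043 → P i := stepQ 45042 Q45042 (allL N45042 (tt N32674 (iv1 F332618)) (tt N61034 (iv0 F332619)) (tt N61032 (iv2 F336951)) (tt N23184 (iv3 D76328)) (tt N78895 D159543) (tt N70013 F332616) (tt N78896 D159545) (tt N60983 F177877))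
theorem Q45044 : ∀ i, i < 45044 → P i := stepQ 45043 Q45043 (allL N45043 (tt N66071 F332594) (tt N66070 F332595) (tt N38853 F332596) (tt N70013 (iv3 F332606)) (tt N66119 (iv4 F332607)) (tt N23184 (iv5 D76330)) (tt N78897 D159547) (tt N60984 F177878))
theorem Q45045 : ∀ i, i < 45045 → P i := stepQ 45044 Q45044 (allL N45044 (tt N61065 (iv1 F290506)) (tt N32663 (iv0 F178010)) (tt N60985 (iv2 F177772)) (tt N78896 (iv3 F251277)) (tt N45999 (iv4 F177664)) (tt N46034 (iv5 F120132)) (tt N23184 (iv6 D76331)) (tt N78898 D159548))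
theorem Q45046 : ∀ i, i < 45046 → P i := stepQ 45045 Q45045 (allL N45045 (tt N23185 (iv1 D76333)) (tt N60988 F177522) (tt N38227 F333206) (tt N68186 (iv3 F333214)) (tt N67510 F333207) (tt N32928 (iv5 F177624)) (tt N78899 D159552) (tt N60986 (iv7 F177860)))
theorem Q45047 : ∀ i, i < 45047 → P i := stepQ 45046 Q45046 (allL N45046 (tt N67543 (iv1 F327307)) (tt N78900 D159554) (tt N60987 (iv2 F177517)) (tt N67530 (iv3 F362910)) (tt N23185 (iv4 D76334)) (tt N70584 (iv5 F362915)) (tt N23189 F114424) (tt N78901 D159557))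
theorem Q45048 : ∀ i, i < 45048 → P i := stepQ 45047 Q45047 (allL N45047 (tt N38227 F333204) (tt N60986 F177521) (tt N60988 (iv2 F177519)) (tt N60723 (iv3 F176780)) (tt N78901 (iv4 F251297)) (tt N23186 F114425) (tt N78902 D159558) (tt N23185 (iv7 D76335)))
theorem Q45049 : ∀ i, i < 45049 → P i := stepQ 45048 Q45048 (allL N45048 (tt N78903 D159559) (tt N66634 F204788) (tt N26478 F114426) (tt N33684 F114427) (tt N75722 (iv4 F233554)) (tt N26475 F114428) (tt N23187 (iv6 D76336)) (tt N68312 (iv7 F326592)))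
theorem Q45050 : ∀ i, i < 45050 → P i := stepQ 45049 Q45049 (allL N45049 (tt N50902 (iv1 F142971)) (tt N41884 F114433) (tt N33670 F114429) (tt N23188 (iv3 D76337)) (tt N39455 (iv4 F114432)) (tt N26485 F114430) (tt N68308 (iv6 F324651)) (tt N26484 F114431))
theorem Q45051 : ∀ i, i < 45051 → P i := stepQ 45050 Q45050 (allL N45050 (tt N68310 (iv1 F326587)) (tt N68309 (iv0 F326585)) (tt N32473 F114434) (tt N68308 F325760) (tt N67672 (iv4 F326595)) (tt N29531 F114435) (tt N23188 (iv6 D76338)) (tt N68311 F325761))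
theorem Q45052 : ∀ i, i < 45052 → P i := stepQ 45051 Q45051 (allL N45051 (tt N45053 (iv1 F114442)) (tt N23189 (iv0 D76339)) (tt N42376 (iv2 F114437)) (tt N78904 D159565) (tt N23214 F114436) (tt N45059 (iv5 F114459)) (tt N50276 (iv6 F139386)) (tt N42379 F114438))
theorem Q45053 : ∀ i, i < 45053 → P i := stepQ 45052 Q45052 (allL N45052 (tt N78905 D159566) (tt N67693 (iv0 F365647)) (tt N78906 D159568) (tt N23189 (iv3 D76340)) (tt N57255 F165903) (tt N78907 D159569) (tt N67530 (iv6 F362911)) (tt N78908 D159570))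
theorem Q45054 : ∀ i, i < 45054 → P i := stepQ 45053 Q45053 (allL N45053 (tt N32492 F114441) (tt N45051 F114442) (tt N45054 (iv2 F114443)) (tt N78907 (iv3 F251329)) (tt N30095 F114439) (tt N23189 (iv5 D76341)) (tt N78909 D159571) (tt N32583 F114440))
theorem Q45055 : ∀ i, i < 45055 → P i := stepQ 45054 Q45054 (allL N45054 (tt N42379 (iv1 F114446)) (tt N42376 F114447) (tt N45053 F114443) (tt N78908 (iv3 F251331)) (tt N23190 F114444) (tt N32583 F114445) (tt N78910 D159572) (tt N23189 (iv7 D76342)))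
theorem Q45056 : ∀ i, i < 45056 → P i := stepQ 45055 Q45055 (allL N45055 (tt N68203 (iv1 F362425)) (tt N78911 D159574) (tt N56675 (iv2 F164576)) (tt N32470 F114448) (tt N78910 (iv4 F251336)) (tt N30001 F114449) (tt N23190 (iv6 D76343)) (tt N78902 (iv7 F251302)))
theorem Q45057 : ∀ i, i < 45057 → P i := stepQ 45056 Q45056 (allL N45056 (tt N50944 F143110) (tt N50943 (iv0 F143105)) (tt N78881 (iv2 F251179)) (tt N23192 F114450) (tt N71774 (iv4 F220552)) (tt N23191 (iv5 D76344)) (tt N78912 D159575) (tt N42373 F114451))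
theorem Q45058 : ∀ i, i < 45058 → P i := stepQ 45057 Q45057 (allL N45057 (tt N60818 (iv1 F176961)) (tt N29827 F114455) (tt N42370 F114452) (tt N78913 D159576) (tt N23192 (iv4 D76345)) (tt N32492 F114454) (tt N78914 D159577) (tt N42374 F114453))
theorem Q45059 : ∀ i, i < 45059 → P i := stepQ 45058 Q45058 (allL N45058 (tt N70684 (iv1 F325507)) (tt N78915 D159579) (tt N42371 F114456) (tt N78912 (iv3 F251337)) (tt N78914 (iv4 F251342)) (tt N32969 F114457) (tt N23192 (iv6 D76346)) (tt N78916 D159580))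
theorem Q45060 : ∀ i, i < 45060 → P i := stepQ 45059 Q45059 (allL N45059 (tt N29827 F114461) (tt N60818 (iv0 F176960)) (tt N42374 F114458) (tt N78917 D159581) (tt N23195 (iv4 D76347)) (tt N45051 F114459) (tt N78918 D159582) (tt N42370 F114460))
theorem Q45061 : ∀ i, i < 45061 → P i := stepQ 45060 Q45060 (allL N45060 (tt N78919 D159583) (tt N78920 D159584) (tt N42375 F114462) (tt N75751 (iv3 F233635)) (tt N78918 (iv4 F251354)) (tt N37460 F114463) (tt N23195 (iv6 D76348)) (tt N78921 D159585))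
theorem Q45062 : ∀ i, i < 45062 → P i := stepQ 45061 Q45061 (allL N45061 (tt N32661 F290344) (tt N62452 (iv0 F318237)) (tt N29898 F114464) (tt N42961 F114465) (tt N45321 (iv4 F115233)) (tt N56637 (iv5 F164508)) (tt N23198 (iv6 D76349)) (tt N73147 (iv7 F318363)))
theorem Q45063 : ∀ i, i < 45063 → P i := stepQ 45062 Q45062 (allL N45062 (tt N75267 (iv1 F230931)) (tt N23199 (iv0 D76350)) (tt N75265 F230923) (tt N75628 (iv3 F307829)) (tt N46230 F190446) (tt N68105 (iv5 F335872)) (tt N46229 (iv6 F190447)) (tt N75266 F230922))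
theorem Q45064 : ∀ i, i < 45064 → P i := stepQ 45063 Q45063 (allL N45063 (tt N23199 (iv1 D76351)) (tt N75267 F230930) (tt N75266 (iv2 F230925)) (tt N64204 (iv3 F261873)) (tt N75633 (iv4 F313179)) (tt N78922 D159593) (tt N75624 (iv6 F366731)) (tt N75265 F230924))
theorem Q45065 : ∀ i, i < 45065 → P i := stepQ 45064 Q45064 (allL N45064 (tt N75266 (iv1 F230920)) (tt N75265 F230926) (tt N75267 (iv2 F230927)) (tt N23202 F114466) (tt N73980 (iv4 F315733)) (tt N56646 (iv5 F164517)) (tt N60981 (iv6 F177510)) (tt N23199 (iv7 D76352)))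
theorem Q45066 : ∀ i, i < 45066 → P i := stepQ 45065 Q45065 (allL N45065 (tt N61029 F193481) (tt N32676 F193482) (tt N61027 F193483) (tt N23200 (iv3 D76354)) (tt N78923 D159595) (tt N78924 D159596) (tt N78925 D159597) (tt N54832 (iv7 F290596)))
theorem Q45067 : ∀ i, i < 45067 → P i := stepQ 45066 Q45066 (allL N45066 (tt N46046 F120142) (tt N78926 D159598) (tt N60993 (iv2 F193517)) (tt N78924 (iv3 F251383)) (tt N68750 (iv4 F341602)) (tt N23200 (iv5 D76356)) (tt N78927 D159600) (tt N60994 (iv7 F193516)))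
theorem Q45068 : ∀ i, i < 45068 → P i := stepQ 45067 Q45067 (allL N45067 (tt N32666 F178441) (tt N78928 D159601) (tt N60967 (iv2 F193509)) (tt N78925 (iv3 F251385)) (tt N42362 F177809) (tt N45011 F114468) (tt N23200 (iv6 D76357)) (tt N60959 F193508))
theorem Q45069 : ∀ i, i < 45069 → P i := stepQ 45068 Q45068 (allL N45068 (tt N23836 F258961) (tt N43253 F258962) (tt N43251 F239631) (tt N23201 (iv3 D76359)) (tt N46995 F327774) (tt N78929 D159605) (tt N78930 D159606) (tt N43250 (iv7 F239632)))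
theorem Q45070 : ∀ i, i < 45070 → P i := stepQ 45069 Q45069 (allL N45069 (tt N78926 (iv1 F251387)) (tt N46046 F193524) (tt N60994 (iv2 F193523)) (tt N78929 (iv3 F251409)) (tt N68754 (iv4 F341592)) (tt N23201 (iv5 D76361)) (tt N78931 D159608) (tt N60993 F193522))
theorem Q45071 : ∀ i, i < 45071 → P i := stepQ 45070 Q45070 (allL N45070 (tt N61022 F193468) (tt N32692 F193469) (tt N54831 (iv2 F290549)) (tt N78930 (iv3 F251412)) (tt N42365 (iv4 F177838)) (tt N54830 (iv5 F290541)) (tt N23201 (iv6 D76362)) (tt N66774 (iv7 F205424)))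
theorem Q45072 : ∀ i, i < 45072 → P i := stepQ 45071 Q45071 (allL N45071 (tt N23388 F114473) (tt N33768 F309431) (tt N23205 F114470) (tt N78932 D159610) (tt N23203 (iv4 D76363)) (tt N42466 F114471) (tt N78933 D159611) (tt N33772 F309432))
theorem Q45073 : ∀ i, i < 45073 → P i := stepQ 45072 Q45072 (allL N45072 (tt N78934 D159612) (tt N78935 D159613) (tt N23206 F114475) (tt N42349 F114476) (tt N78933 (iv4 F251434)) (tt N41757 F114477) (tt N23203 (iv6 D76364)) (tt N78936 D159614))
theorem Q45074 : ∀ i, i < 45074 → P i := stepQ 45073 Q45073 (allL N45073 (tt N73865 (iv1 F333253)) (tt N73722 (iv0 F315212)) (tt N78933 (iv2 F251433)) (tt N34396 F114478) (tt N23206 F114479) (tt N78937 D159616) (tt N23205 (iv6 D76365)) (tt N78938 D159617))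
theorem Q45075 : ∀ i, i < 45075 → P i := stepQ 45074 Q45074 (allL N45074 (tt N78936 (iv1 F251442)) (tt N23206 (iv0 D76366)) (tt N78934 (iv2 F336846)) (tt N42734 F333237) (tt N52579 F230422) (tt N70619 (iv5 F333165)) (tt N72775 (iv6 F334969)) (tt N78935 (iv7 F336824)))
theorem Q45076 : ∀ i, i < 45076 → P i := stepQ 45075 Q45075 (allL N45075 (tt N23206 (iv1 D76367)) (tt N78936 F251441) (tt N78935 (iv2 F336821)) (tt N78939 D159623) (tt N78940 D159624) (tt N70616 (iv5 F333164)) (tt N78941 D159626) (tt N78934 (iv7 F336848)))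
theorem Q45077 : ∀ i, i < 45077 → P i := stepQ 45076 Q45076 (allL N45076 (tt N70590 (iv1 F359577)) (tt N70588 F333171) (tt N41757 F114480) (tt N23212 F114481) (tt N39056 (iv4 F333172)) (tt N23206 (iv5 D76368)) (tt N23208 F114482) (tt N70670 (iv7 F333178)))
theorem Q45078 : ∀ i, i < 45078 → P i := stepQ 45077 Q45077 (allL N45077 (tt N78935 (iv1 F251435)) (tt N78934 F251440) (tt N78936 (iv2 F251436)) (tt N23213 F114483) (tt N78938 (iv4 F251446)) (tt N70670 (iv5 F333176)) (tt N42460 F114484) (tt N23206 (iv7 D76369)))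
theorem Q45079 : ∀ i, i < 45079 → P i := stepQ 45078 Q45078 (allL N45078 (tt N66656 (iv1 F204897)) (tt N74855 (iv0 F229654)) (tt N41756 F114485) (tt N39058 (iv3 F333183)) (tt N23208 (iv4 D76370)) (tt N75538 (iv5 F231783)) (tt N39056 F333179) (tt N41758 F114486))
theorem Q45080 : ∀ i, i < 45080 → P i := stepQ 45079 Q45079 (allL N45079 (tt N45142 F114610) (tt N78942 D159635) (tt N42361 F193520) (tt N38017 F326549) (tt N67776 (iv4 F327301)) (tt N23210 (iv5 D76374)) (tt N60968 (iv6 F177491)) (tt N42364 (iv7 F193526)))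
theorem Q45081 : ∀ i, i < 45081 → P i := stepQ 45080 Q45080 (allL N45080 (tt N23217 F336796) (tt N43042 F336797) (tt N43041 F332643) (tt N23211 (iv3 D76376)) (tt N78943 D159640) (tt N61701 (iv5 F327306)) (tt N78944 D159642) (tt N42360 F193518))
theorem Q45082 : ∀ i, i < 45082 → P i := stepQ 45081 Q45081 (allL N45081 (tt N78942 (iv1 F251472)) (tt N45142 (iv0 F139382)) (tt N42364 F193527) (tt N61701 (iv3 F327305)) (tt N78945 D159643) (tt N23211 (iv5 D76378)) (tt N78946 D159644) (tt N42361 F193519))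
theorem Q45083 : ∀ i, i < 45083 → P i := stepQ 45082 Q45082 (allL N45082 (tt N61245 F178432) (tt N55787 F178265) (tt N42365 (iv2 F193467)) (tt N78944 (iv3 F251492)) (tt N54831 (iv4 F290550)) (tt N61484 (iv5 F178910)) (tt N23211 (iv6 D76379)) (tt N60960 (iv7 F177483)))
theorem Q45084 : ∀ i, i < 45084 → P i := stepQ 45083 Q45083 (allL N45083 (tt N42369 (iv1 F114495)) (tt N23212 (iv0 D76380)) (tt N42366 (iv2 F177841)) (tt N38245 F326567) (tt N67543 (iv4 F327309)) (tt N61521 (iv5 F178974)) (tt N76245 (iv6 F237977)) (tt N42367 F177842))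
theorem Q45085 : ∀ i, i < 45085 → P i := stepQ 45084 Q45084 (allL N45084 (tt N23212 (iv1 D76381)) (tt N42369 F114489) (tt N42367 F177840) (tt N78947 D159646) (tt N78900 (iv4 F251294)) (tt N32951 (iv5 F114490)) (tt N78948 D159647) (tt N42366 (iv7 F177839)))
theorem Q45086 : ∀ i, i < 45086 → P i := stepQ 45085 Q45085 (allL N45085 (tt N68991 (iv1 F333191)) (tt N36879 (iv0 F333192)) (tt N42368 F114491) (tt N35947 F333190) (tt N23212 (iv4 D76382)) (tt N35946 (iv5 F333193)) (tt N23215 F114492) (tt N66178 (iv7 F333195)))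
theorem Q45087 : ∀ i, i < 45087 → P i := stepQ 45086 Q45086 (allL N45086 (tt N42367 (iv1 F114496)) (tt N42366 F114497) (tt N42369 F114493) (tt N70670 (iv3 F333175)) (tt N66178 (iv4 F333194)) (tt N23213 F114494) (tt N78949 D159653) (tt N23212 (iv7 D76383)))
theorem Q45088 : ∀ i, i < 45088 → P i := stepQ 45087 Q45087 (allL N45087 (tt N42385 (iv1 F114500)) (tt N23215 (iv0 D76384)) (tt N42381 (iv2 F114499)) (tt N71952 F221049) (tt N29825 F114498) (tt N45183 (iv5 F114710)) (tt N50178 (iv6 F139170)) (tt N42382 F114501))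
theorem Q45089 : ∀ i, i < 45089 → P i := stepQ 45088 Q45088 (allL N45088 (tt N78950 D159654) (tt N78951 D159655) (tt N66188 (iv2 F333187)) (tt N23215 (iv3 D76385)) (tt N39058 F333184) (tt N75728 (iv5 F233567)) (tt N35947 (iv6 F333189)) (tt N75727 F233564))
theorem Q45090 : ∀ i, i < 45090 → P i := stepQ 45089 Q45089 (allL N45089 (tt N78952 D159657) (tt N78953 D159658) (tt N42386 F114502) (tt N41759 F114503) (tt N75729 (iv4 F233568)) (tt N30425 F114504) (tt N23216 (iv6 D76386)) (tt N78949 (iv7 F251519)))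
theorem Q45091 : ∀ i, i < 45091 → P i := stepQ 45090 Q45090 (allL N45090 (tt N68244 (iv1 F328832)) (tt N78947 (iv0 F343524)) (tt N41344 F114506) (tt N35920 F328434) (tt N57794 (iv4 F328834)) (tt N23217 (iv5 D76389)) (tt N23219 F114507) (tt N57323 (iv7 F328838)))
theorem Q45092 : ∀ i, i < 45092 → P i := stepQ 45091 Q45091 (allL N45091 (tt N43041 (iv1 F114511)) (tt N42360 F332641) (tt N43042 F114508) (tt N33033 F329169) (tt N77313 (iv4 F242374)) (tt N57323 F329170) (tt N43038 F114509) (tt N23217 (iv7 D76390)))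
theorem Q45093 : ∀ i, i < 45093 → P i := stepQ 45092 Q45092 (allL N45092 (tt N29541 F114515) (tt N29536 F114516) (tt N29537 F114513) (tt N78881 (iv3 F251180)) (tt N78954 D159673) (tt N23218 (iv5 D76391)) (tt N78955 D159674) (tt N29538 F114514))
theorem Q45094 : ∀ i, i < 45094 → P i := stepQ 45093 Q45093 (allL N45093 (tt N23236 F114521) (tt N41436 (iv0 F114523)) (tt N41340 F114517) (tt N26554 F114518) (tt N23301 F114519) (tt N42909 F114522) (tt N23218 (iv6 D76392)) (tt N26937 F114520))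
theorem Q45095 : ∀ i, i < 45095 → P i := stepQ 45094 Q45094 (allL N45094 (tt N56049 (iv1 F162425)) (tt N56040 (iv0 F162411)) (tt N41343 F114524) (tt N40559 (iv3 F322909)) (tt N23219 (iv4 D76393)) (tt N40543 F321259) (tt N57794 (iv6 F328835)) (tt N40542 (iv7 F322578)))
theorem Q45096 : ∀ i, i < 45096 → P i := stepQ 45095 Q45095 (allL N45095 (tt N33665 (iv1 F114528)) (tt N41342 F114529) (tt N32054 F114525) (tt N39655 F327578) (tt N40542 F324065) (tt N23220 F114527) (tt N78956 D159677) (tt N23219 (iv7 D76394)))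
theorem Q45097 : ∀ i, i < 45097 → P i := stepQ 45096 Q45096 (allL N45096 (tt N78682 (iv1 F347363)) (tt N78957 D159679) (tt N43034 F114530) (tt N77286 (iv3 F242297)) (tt N23222 F114531) (tt N73844 (iv5 F355778)) (tt N23221 (iv6 D76395)) (tt N78958 D159681))
theorem Q45098 : ∀ i, i < 45098 → P i := stepQ 45097 Q45097 (allL N45097 (tt N23222 (iv1 D76397)) (tt N43038 F114532) (tt N43036 F238442) (tt N51553 F151793) (tt N69762 (iv4 F355345)) (tt N51548 (iv5 F151792)) (tt N78959 D159683) (tt N43035 (iv7 F238446)))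
theorem Q45099 : ∀ i, i < 45099 → P i := stepQ 45098 Q45098 (allL N45098 (tt N58933 (iv1 F258980)) (tt N78960 D159685) (tt N43037 F114533) (tt N32169 F114534) (tt N78961 D159686) (tt N23222 (iv5 D76398)) (tt N23224 F114535) (tt N78962 D159687))
theorem Q45100 : ∀ i, i < 45100 → P i := stepQ 45099 Q45099 (allL N45099 (tt N43036 (iv1 F114539)) (tt N43035 F114540) (tt N43038 F114536) (tt N46074 (iv3 F120180)) (tt N78958 (iv4 F251554)) (tt N78962 (iv5 F251573)) (tt N43042 F114537) (tt N23222 (iv7 D76399)))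
theorem Q45101 : ∀ i, i < 45101 → P i := stepQ 45100 Q45100 (allL N45100 (tt N56092 (iv1 F162602)) (tt N68425 (iv0 F210413)) (tt N64167 (iv2 F193431)) (tt N68105 (iv3 F209150)) (tt N23224 (iv4 D76400)) (tt N75628 (iv5 F312177)) (tt N78961 (iv6 F251570)) (tt N60165 (iv7 F175833)))
theorem Q45102 : ∀ i, i < 45102 → P i := stepQ 45101 Q45101 (allL N45101 (tt N77337 (iv1 F242419)) (tt N52857 (iv0 F304318)) (tt N61036 (iv2 F177714)) (tt N23225 (iv3 D76401)) (tt N78884 (iv4 F251191)) (tt N34964 F114541) (tt N78963 D159689) (tt N64168 (iv7 F193434)))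
theorem Q45103 : ∀ i, i < 45103 → P i := stepQ 45102 Q45102 (allL N45102 (tt N78964 D159690) (tt N78965 D159691) (tt N23229 F114542) (tt N78963 (iv3 F251579)) (tt N23226 F114543) (tt N78966 D159692) (tt N23225 (iv6 D76402)) (tt N78967 D159693))
theorem Q45104 : ∀ i, i < 45104 → P i := stepQ 45103 Q45103 (allL N45103 (tt N23233 (iv1 F114548)) (tt N23226 (iv0 D76403)) (tt N23230 (iv2 F251602)) (tt N64201 (iv3 F251677)) (tt N78968 D159696) (tt N78969 D159697) (tt N76399 (iv6 F238518)) (tt N23231 F251601))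
theorem Q45105 : ∀ i, i < 45105 → P i := stepQ 45104 Q45104 (allL N45104 (tt N23226 (iv1 D76404)) (tt N23233 F114544) (tt N23231 F251600) (tt N61738 (iv3 F335481)) (tt N64719 (iv4 F354948)) (tt N78970 D159701) (tt N61736 (iv6 F335480)) (tt N23230 (iv7 F251603)))
theorem Q45106 : ∀ i, i < 45106 → P i := stepQ 45105 Q45105 (allL N45105 (tt N23231 (iv1 F114549)) (tt N23230 F114550) (tt N23233 F114545) (tt N27110 F114546) (tt N78967 (iv4 F251591)) (tt N27107 F114547) (tt N64172 (iv6 F193441)) (tt N23226 (iv7 D76405)))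
theorem Q45107 : ∀ i, i < 45107 → P i := stepQ 45106 Q45106 (allL N45106 (tt N26937 F114554) (tt N41340 (iv0 F114556)) (tt N23236 F114551) (tt N34583 F114552) (tt N23375 F114553) (tt N44051 F114555) (tt N23227 (iv6 D76406)) (tt N41436 F114557))
theorem Q45108 : ∀ i, i < 45108 → P i := stepQ 45107 Q45107 (allL N45107 (tt N35191 F312099) (tt N34945 (iv0 F314442)) (tt N34965 F114558) (tt N43650 F114559) (tt N43117 F307896) (tt N71297 (iv5 F309898)) (tt N23228 (iv6 D76407)) (tt N35190 (iv7 F314443)))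
theorem Q45109 : ∀ i, i < 45109 → P i := stepQ 45108 Q45108 (allL N45108 (tt N78967 (iv1 F251593)) (tt N23229 (iv0 D76408)) (tt N78964 (iv2 F251584)) (tt N74784 (iv3 F354946)) (tt N74791 (iv4 F317464)) (tt N78971 D159709) (tt N74783 (iv6 F341537)) (tt N78965 (iv7 F251586)))
theorem Q45110 : ∀ i, i < 45110 → P i := stepQ 45109 Q45109 (allL N45109 (tt N23229 (iv1 D76409)) (tt N78967 F251592) (tt N78965 F251587) (tt N64812 (iv3 F346101)) (tt N50782 (iv4 F142432)) (tt N78972 D159712) (tt N78111 (iv6 F360941)) (tt N78964 F251582))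
theorem Q45111 : ∀ i, i < 45111 → P i := stepQ 45110 Q45110 (allL N45110 (tt N78973 D159714) (tt N78974 D159715) (tt N78966 (iv2 F251588)) (tt N61051 (iv3 F177747)) (tt N78975 D159716) (tt N23229 (iv5 D76410)) (tt N71297 (iv6 F309899)) (tt N78976 D159717))
theorem Q45112 : ∀ i, i < 45112 → P i := stepQ 45111 Q45111 (allL N45111 (tt N78965 (iv1 F251585)) (tt N78964 (iv0 F251583)) (tt N78967 (iv2 F251590)) (tt N61052 (iv3 F177748)) (tt N23233 F114560) (tt N78976 (iv5 F251638)) (tt N64176 (iv6 F193448)) (tt N23229 (iv7 D76411)))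
theorem Q45113 : ∀ i, i < 45113 → P i := stepQ 45112 Q45112 (allL N45112 (tt N78977 D159718) (tt N43171 (iv0 F342992)) (tt N78978 D159720) (tt N23230 (iv3 D76413)) (tt N78979 D159721) (tt N78980 D159722) (tt N74766 (iv6 F342988)) (tt N61738 (iv7 F335482)))
theorem Q45114 : ∀ i, i < 45114 → P i := stepQ 45113 Q45113 (allL N45113 (tt N78981 D159724) (tt N76338 (iv0 F355767)) (tt N78968 (iv2 F251613)) (tt N64698 (iv3 F352397)) (tt N23230 (iv4 D76414)) (tt N78982 D159727) (tt N73849 (iv6 F355737)) (tt N64719 (iv7 F354949)))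
theorem Q45115 : ∀ i, i < 45115 → P i := stepQ 45114 Q45114 (allL N45114 (tt N49245 F251567) (tt N78983 D159729) (tt N78969 (iv2 F251614)) (tt N78980 (iv3 F251648)) (tt N78984 D159730) (tt N23230 (iv5 D76415)) (tt N50325 F177435) (tt N78970 F251604))
theorem Q45116 : ∀ i, i < 45116 → P i := stepQ 45115 Q45115 (allL N45115 (tt N76353 (iv1 F259142)) (tt N78985 D159732) (tt N76399 (iv2 F251615)) (tt N74766 (iv3 F342987)) (tt N73849 (iv4 F355735)) (tt N76318 F238182) (tt N23230 (iv6 D76416)) (tt N76396 (iv7 F251618)))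
theorem Q45117 : ∀ i, i < 45117 → P i := stepQ 45116 Q45116 (allL N45116 (tt N27113 F251646) (tt N64195 F251647) (tt N64202 (iv2 F251673)) (tt N23231 (iv3 D76418)) (tt N78986 D159734) (tt N50352 (iv5 F367165)) (tt N78987 D159736) (tt N64201 (iv7 F251679)))
theorem Q45118 : ∀ i, i < 45118 → P i := stepQ 45117 Q45117 (allL N45117 (tt N76338 (iv1 F355768)) (tt N78981 F251650) (tt N64719 (iv2 F354947)) (tt N78988 D159737) (tt N23231 (iv4 D76419)) (tt N78989 D159738) (tt N78990 D159739) (tt N78968 F251623))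
theorem Q45119 : ∀ i, i < 45119 → P i := stepQ 45118 Q45118 (allL N45118 (tt N78983 (iv1 F251653)) (tt N49245 F151790) (tt N78970 F251599) (tt N50352 (iv3 F367163)) (tt N78991 D159740) (tt N23231 (iv5 D76420)) (tt N26917 (iv6 F114563)) (tt N78969 F251621))
theorem Q45120 : ∀ i, i < 45120 → P i := stepQ 45119 Q45119 (allL N45119 (tt N78992 D159741) (tt N76344 (iv0 F335490)) (tt N61736 (iv2 F335479)) (tt N78987 (iv3 F251683)) (tt N78990 (iv4 F251684)) (tt N61735 (iv5 F336798)) (tt N23231 (iv6 D76421)) (tt N78993 D159744))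
theorem Q45121 : ∀ i, i < 45121 → P i := stepQ 45120 Q45120 (allL N45120 (tt N27107 (iv1 F114569)) (tt N23232 (iv0 D76422)) (tt N27105 (iv2 F283531)) (tt N78994 D159746) (tt N78995 D159747) (tt N78996 D159748) (tt N78997 D159749) (tt N27106 (iv7 F283532)))
theorem Q45122 : ∀ i, i < 45122 → P i := stepQ 45121 Q45121 (allL N45121 (tt N23232 (iv1 D76423)) (tt N27107 F114564) (tt N27106 F283533) (tt N27112 F138035) (tt N78998 D159751) (tt N78999 D159752) (tt N51528 (iv6 F288161)) (tt N27105 F283534))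
theorem Q45123 : ∀ i, i < 45123 → P i := stepQ 45122 Q45122 (allL N45122 (tt N27106 (iv1 F114570)) (tt N27105 F114571) (tt N27107 F114565) (tt N23246 F114566) (tt N28149 F114567) (tt N23233 F114568) (tt N51485 (iv6 F145288)) (tt N23232 (iv7 D76424)))
theorem Q45124 : ∀ i, i < 45124 → P i := stepQ 45123 Q45123 (allL N45123 (tt N33988 F114573) (tt N34013 F114574) (tt N34011 F114572) (tt N61372 (iv3 F178707)) (tt N79000 D159754) (tt N23235 (iv5 D76425)) (tt N50242 (iv6 F139318)) (tt N34010 F114581))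
theorem Q45125 : ∀ i, i < 45125 → P i := stepQ 45124 Q45124 (allL N45124 (tt N36243 (iv1 F114578)) (tt N29977 F114579) (tt N36244 F114575) (tt N56033 (iv3 F162379)) (tt N41437 F114576) (tt N34010 (iv5 F114580)) (tt N41436 F114577) (tt N23235 (iv7 D76426)))
theorem Q45126 : ∀ i, i < 45126 → P i := stepQ 45125 Q45125 (allL N45125 (tt N44004 (iv1 F320313)) (tt N23237 (iv0 D76433)) (tt N51491 (iv2 F145311)) (tt N64195 (iv3 F193565)) (tt N36608 F318144) (tt N51485 (iv5 F145308)) (tt N61500 (iv6 F178944)) (tt N29589 F145307))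
theorem Q45127 : ∀ i, i < 45127 → P i := stepQ 45126 Q45126 (allL N45126 (tt N51491 (iv1 F153470)) (tt N29589 F153469) (tt N23237 (iv2 D76435)) (tt N32846 F290304) (tt N34351 (iv4 F323670)) (tt N54833 (iv5 F291707)) (tt N62721 (iv6 F339785)) (tt N44004 F322020))
theorem Q45128 : ∀ i, i < 45128 → P i := stepQ 45127 Q45127 (allL N45127 (tt N54834 (iv1 F291709)) (tt N50117 (iv0 F161629)) (tt N54833 (iv2 F291706)) (tt N23238 F114590) (tt N79001 D159764) (tt N23237 (iv5 D76437)) (tt N49848 (iv6 F292540)) (tt N50249 F153468))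
theorem Q45129 : ∀ i, i < 45129 → P i := stepQ 45128 Q45128 (allL N45128 (tt N74795 (iv1 F361627)) (tt N74794 (iv0 F339794)) (tt N62721 (iv2 F339784)) (tt N23239 F114591) (tt N40944 (iv4 F323671)) (tt N79002 D159768) (tt N23237 (iv6 D76438)) (tt N40943 (iv7 F323672)))
theorem Q45130 : ∀ i, i < 45130 → P i := stepQ 45129 Q45129 (allL N45129 (tt N23238 (iv1 D76447)) (tt N23241 F114599) (tt N26958 F161620) (tt N78983 (iv3 F251655)) (tt N55506 F161621) (tt N78380 (iv5 F248569)) (tt N26955 F161622) (tt N54879 (iv7 F293797)))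
theorem Q45131 : ∀ i, i < 45131 → P i := stepQ 45130 Q45130 (allL N45130 (tt N54829 (iv1 F290545)) (tt N55013 F161628) (tt N55018 F158484) (tt N55490 (iv3 F161646)) (tt N23238 (iv4 D76448)) (tt N79003 D159771) (tt N49301 F292587) (tt N55019 (iv7 F158483)))
theorem Q45132 : ∀ i, i < 45132 → P i := stepQ 45131 Q45131 (allL N45131 (tt N49276 F157810) (tt N54887 (iv0 F293643)) (tt N54886 (iv2 F293760)) (tt N49848 F292585) (tt N49301 F292586) (tt N52112 (iv5 F331384)) (tt N23238 (iv6 D76449)) (tt N50273 (iv7 F139385)))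
theorem Q45133 : ∀ i, i < 45133 → P i := stepQ 45132 Q45132 (allL N45132 (tt N23239 (iv1 D76452)) (tt N32945 F161763) (tt N32947 (iv2 F161764)) (tt N78985 (iv3 F258981)) (tt N61071 (iv4 F177892)) (tt N61242 F178424) (tt N32934 (iv6 F161766)) (tt N29604 (iv7 F161788)))
theorem Q45134 : ∀ i, i < 45134 → P i := stepQ 45133 Q45133 (allL N45133 (tt N29576 F114603) (tt N32733 (iv0 F114604)) (tt N32731 F153456) (tt N79002 (iv3 F251727)) (tt N52113 (iv4 F340453)) (tt N23239 (iv5 D76453)) (tt N52112 (iv6 F331385)) (tt N32730 (iv7 F161796)))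
theorem Q45135 : ∀ i, i < 45135 → P i := stepQ 45134 Q45134 (allL N45134 (tt N32947 (iv1 F161861)) (tt N29604 (iv0 F161859)) (tt N32945 (iv2 F161761)) (tt N40943 F324995) (tt N61309 (iv4 F178562)) (tt N32730 (iv5 F161795)) (tt N61520 F178970) (tt N23239 (iv7 D76454)))
theorem Q45136 : ∀ i, i < 45136 → P i := stepQ 45135 Q45135 (allL N45135 (tt N23240 (iv1 D76457)) (tt N32846 F290300) (tt N32848 F290301) (tt N78977 (iv3 F342998)) (tt N41368 (iv4 F316454)) (tt N79004 D159783) (tt N32857 (iv6 F290313)) (tt N32834 F290302))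
theorem Q45137 : ∀ i, i < 45137 → P i := stepQ 45136 Q45136 (allL N45136 (tt N32834 F321657) (tt N32848 F321658) (tt N23240 (iv2 D76458)) (tt N44004 F322019) (tt N74427 (iv4 F315226)) (tt N79005 D159786) (tt N74799 (iv6 F338546)) (tt N32846 F290309))
theorem Q45138 : ∀ i, i < 45138 → P i := stepQ 45137 Q45137 (allL N45137 (tt N32859 F143141) (tt N74426 (iv0 F315218)) (tt N74427 (iv2 F315225)) (tt N61489 (iv3 F178916)) (tt N23240 (iv4 D76459)) (tt N76481 (iv5 F335216)) (tt N74442 (iv6 F355273)) (tt N62700 (iv7 F315222)))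
theorem Q45139 : ∀ i, i < 45139 → P i := stepQ 45138 Q45138 (allL N45138 (tt N79006 D159791) (tt N79007 D159792) (tt N79005 (iv2 F251788)) (tt N23241 F114606) (tt N53788 (iv4 F161656)) (tt N23240 (iv5 D76460)) (tt N50270 (iv6 F139379)) (tt N74801 (iv7 F319719)))
theorem Q45140 : ∀ i, i < 45140 → P i := stepQ 45139 Q45139 (allL N45139 (tt N74782 (iv1 F355274)) (tt N65393 (iv0 F338622)) (tt N74799 (iv2 F338545)) (tt N23242 F114607) (tt N74442 (iv4 F355272)) (tt N33005 F328238) (tt N23240 (iv6 D76461)) (tt N62722 (iv7 F323349)))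
theorem Q45141 : ∀ i, i < 45141 → P i := stepQ 45140 Q45140 (allL N45140 (tt N55013 (iv1 F161627)) (tt N54829 (iv0 F290544)) (tt N55019 (iv2 F158482)) (tt N79008 D159797) (tt N23241 (iv4 D76465)) (tt N79009 D159798) (tt N29249 F135566) (tt N55018 F158485))
theorem Q45142 : ∀ i, i < 45142 → P i := stepQ 45141 Q45141 (allL N45141 (tt N61520 (iv1 F178967)) (tt N23242 (iv0 D76466)) (tt N61521 (iv2 F178972)) (tt N78992 (iv3 F347569)) (tt N56334 F177835) (tt N42366 F114609) (tt N61529 (iv6 F178991)) (tt N32951 (iv7 F177836)))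
theorem Q45143 : ∀ i, i < 45143 → P i := stepQ 45142 Q45142 (allL N45142 (tt N45081 F139382) (tt N45079 (iv0 F114610)) (tt N66121 (iv2 F327777)) (tt N33005 (iv3 F327781)) (tt N66120 (iv4 F327782)) (tt N23242 (iv5 D76468)) (tt N50271 (iv6 F139381)) (tt N66125 (iv7 F327788)))
theorem Q45144 : ∀ i, i < 45144 → P i := stepQ 45143 Q45143 (allL N45143 (tt N32951 F161792) (tt N61521 F178976) (tt N61520 (iv2 F178971)) (tt N62722 (iv3 F323348)) (tt N55828 (iv4 F161877)) (tt N66125 (iv5 F327786)) (tt N32945 (iv6 F161762)) (tt N23242 (iv7 D76469)))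
theorem Q45145 : ∀ i, i < 45145 → P i := stepQ 45144 Q45144 (allL N45144 (tt N27477 F136450) (tt N27470 (iv0 F114612)) (tt N27474 F145363) (tt N27456 (iv3 F114613)) (tt N23243 (iv4 D76472)) (tt N79010 D159801) (tt N52649 (iv6 F283806)) (tt N27475 F145359))
theorem Q45146 : ∀ i, i < 45146 → P i := stepQ 45145 Q45145 (allL N45145 (tt N51006 F177328) (tt N45999 F177470) (tt N51501 (iv2 F145386)) (tt N42285 F321216) (tt N61495 (iv4 F178925)) (tt N23243 (iv5 D76473)) (tt N60958 F177320) (tt N44608 F145360))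
theorem Q45147 : ∀ i, i < 45147 → P i := stepQ 45146 Q45146 (allL N45146 (tt N27141 F251945) (tt N79011 D159804) (tt N51502 (iv2 F145388)) (tt N51487 (iv3 F145294)) (tt N52649 (iv4 F283804)) (tt N32501 F114614) (tt N23243 (iv6 D76474)) (tt N79012 D159805))
theorem Q45148 : ∀ i, i < 45148 → P i := stepQ 45147 Q45147 (allL N45147 (tt N32847 F290311) (tt N79004 (iv0 F251780)) (tt N51488 (iv2 F145297)) (tt N23244 (iv3 D76476)) (tt N28028 F114616) (tt N61302 F178548) (tt N79013 D159806) (tt N51500 F145350))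
theorem Q45149 : ∀ i, i < 45149 → P i := stepQ 45148 Q45148 (allL N45148 (tt N27470 F136440) (tt N27477 F136447) (tt N27475 (iv2 F145362)) (tt N79014 D159807) (tt N23244 (iv4 D76477)) (tt N79015 D159808) (tt N74049 (iv6 F340048)) (tt N27474 (iv7 F145364)))
theorem Q45150 : ∀ i, i < 45150 → P i := stepQ 45149 Q45149 (allL N45149 (tt N79016 D159810) (tt N50374 (iv0 F345181)) (tt N51503 (iv2 F145389)) (tt N79013 (iv3 F251831)) (tt N74049 (iv4 F340047)) (tt N61306 (iv5 F178555)) (tt N23244 (iv6 D76478)) (tt N74192 (iv7 F350469)))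
theorem Q45151 : ∀ i, i < 45151 → P i := stepQ 45150 Q45150 (allL N45150 (tt N26313 (iv1 F114623)) (tt N23245 (iv0 D76479)) (tt N27394 F178251) (tt N79017 D159813) (tt N26389 (iv4 F114625)) (tt N79018 D159814) (tt N79019 D159815) (tt N27395 F178252))
theorem Q45152 : ∀ i, i < 45152 → P i := stepQ 45151 Q45151 (allL N45151 (tt N23245 (iv1 D76480)) (tt N26313 F114617) (tt N27395 F178238) (tt N50735 (iv3 F142182)) (tt N26390 F114618) (tt N79020 D159816) (tt N52687 (iv6 F350542)) (tt N27394 F178239))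
theorem Q45153 : ∀ i, i < 45153 → P i := stepQ 45152 Q45152 (allL N45152 (tt N79021 D159818) (tt N79022 D159819) (tt N27396 F114620) (tt N52456 (iv3 F149705)) (tt N79023 D159820) (tt N23245 (iv5 D76481)) (tt N79024 D159821) (tt N79025 D159822))
theorem Q45154 : ∀ i, i < 45154 → P i := stepQ 45153 Q45153 (allL N45153 (tt N27395 (iv1 F114624)) (tt N27394 (iv0 F114634)) (tt N26313 F114621) (tt N49929 (iv3 F137978)) (tt N23246 F114622) (tt N79025 (iv5 F251894)) (tt N52402 (iv6 F149556)) (tt N23245 (iv7 D76482)))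
theorem Q45155 : ∀ i, i < 45155 → P i := stepQ 45154 Q45154 (allL N45154 (tt N27112 (iv1 F114637)) (tt N27111 F114638) (tt N27114 F114635) (tt N51485 (iv3 F145286)) (tt N52402 (iv4 F149555)) (tt N64195 (iv5 F193567)) (tt N23246 (iv6 D76483)) (tt N23257 F114636))
theorem Q45156 : ∀ i, i < 45156 → P i := stepQ 45155 Q45155 (allL N45155 (tt N23254 F114647) (tt N27102 F114649) (tt N27076 F114644) (tt N42347 F114645) (tt N26135 F114648) (tt N23248 (iv5 D76487)) (tt N79026 D159823) (tt N42347 F114646))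
theorem Q45157 : ∀ i, i < 45157 → P i := stepQ 45156 Q45156 (allL N45156 (tt N50095 F177334) (tt N54014 F177335) (tt N50241 (iv2 F139315)) (tt N23251 F114650) (tt N50216 (iv4 F139250)) (tt N79027 D159824) (tt N23249 (iv6 D76488)) (tt N53780 F177336))
theorem Q45158 : ∀ i, i < 45158 → P i := stepQ 45157 Q45157 (allL N45157 (tt N23250 (iv1 D76489)) (tt N56033 (iv0 F162381)) (tt N42356 (iv2 F114654)) (tt N41303 (iv3 F114655)) (tt N41356 (iv4 F114652)) (tt N32883 (iv5 F114656)) (tt N41302 F114653) (tt N38205 F114651))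
theorem Q45159 : ∀ i, i < 45159 → P i := stepQ 45158 Q45158 (allL N45158 (tt N56095 (iv1 F162630)) (tt N60904 (iv0 F177184)) (tt N61372 (iv2 F178706)) (tt N23252 F114658) (tt N76582 (iv4 F239387)) (tt N23250 (iv5 D76490)) (tt N79027 (iv6 F251903)) (tt N61371 F178702))
theorem Q45160 : ∀ i, i < 45160 → P i := stepQ 45159 Q45159 (allL N45159 (tt N26954 (iv1 F177344)) (tt N23251 (iv0 D76491)) (tt N26846 F177329) (tt N26948 F177330) (tt N29301 F177331) (tt N79028 D159825) (tt N49853 F293599) (tt N26955 F177332))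
theorem Q45161 : ∀ i, i < 45161 → P i := stepQ 45160 Q45160 (allL N45160 (tt N79029 D159827) (tt N26966 F157675) (tt N50269 (iv2 F139370)) (tt N79027 (iv3 F251902)) (tt N79030 D159828) (tt N23251 (iv5 D76493)) (tt N23252 F114659) (tt N79031 D159829))
theorem Q45162 : ∀ i, i < 45162 → P i := stepQ 45161 Q45161 (allL N45161 (tt N26955 (iv1 F177350)) (tt N26846 (iv0 F177347)) (tt N26954 (iv2 F177345)) (tt N53780 F177337) (tt N50397 (iv4 F177341)) (tt N79031 (iv5 F251921)) (tt N42657 F114660) (tt N23251 (iv7 D76494)))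
theorem Q45163 : ∀ i, i < 45163 → P i := stepQ 45162 Q45162 (allL N45162 (tt N36666 F114661) (tt N44973 F114662) (tt N61619 (iv2 F179144)) (tt N79032 D159830) (tt N23252 (iv4 D76495)) (tt N61619 (iv5 F179145)) (tt N79030 (iv6 F251919)) (tt N61620 (iv7 F179148)))
theorem Q45164 : ∀ i, i < 45164 → P i := stepQ 45163 Q45163 (allL N45163 (tt N29086 F293782) (tt N51555 F214551) (tt N38216 F114663) (tt N51480 (iv3 F145264)) (tt N68629 (iv4 F211243)) (tt N23253 (iv5 D76498)) (tt N29974 F114664) (tt N51533 F157296))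
theorem Q45165 : ∀ i, i < 45165 → P i := stepQ 45164 Q45164 (allL N45164 (tt N51468 F157571) (tt N79033 D159831) (tt N51481 (iv2 F145272)) (tt N23255 F114665) (tt N28020 F114666) (tt N37458 F114667) (tt N23254 (iv6 D76500)) (tt N79034 D159832))
theorem Q45166 : ∀ i, i < 45166 → P i := stepQ 45165 Q45165 (allL N45165 (tt N27137 F157575) (tt N23255 (iv0 D76501)) (tt N27086 F157576) (tt N27131 F157577) (tt N27545 F157578) (tt N79035 D159833) (tt N79036 D159834) (tt N27138 F157579))
theorem Q45167 : ∀ i, i < 45167 → P i := stepQ 45166 Q45166 (allL N45166 (tt N27138 (iv1 F157585)) (tt N27086 (iv0 F157582)) (tt N27137 F157580) (tt N79034 (iv3 F251927)) (tt N50676 (iv4 F293687)) (tt N37468 F114668) (tt N50716 (iv6 F294535)) (tt N23255 (iv7 D76503)))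
theorem Q45168 : ∀ i, i < 45168 → P i := stepQ 45167 Q45167 (allL N45167 (tt N79037 D159835) (tt N61016 (iv0 F177603)) (tt N27393 F114669) (tt N52455 (iv3 F149702)) (tt N27113 F114670) (tt N79024 (iv5 F251891)) (tt N23256 (iv6 D76504)) (tt N79038 D159836))
theorem Q45169 : ∀ i, i < 45169 → P i := stepQ 45168 Q45168 (allL N45168 (tt N27114 (iv1 F114671)) (tt N23257 (iv0 D76505)) (tt N27111 (iv2 F283535)) (tt N27105 (iv3 F138027)) (tt N49940 F138026) (tt N79039 D159838) (tt N51541 (iv6 F350455)) (tt N27112 (iv7 F283538)))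
theorem Q45170 : ∀ i, i < 45170 → P i := stepQ 45169 Q45169 (allL N45169 (tt N23257 (iv1 D76506)) (tt N27114 F114672) (tt N27112 F283539) (tt N79040 D159841) (tt N49939 (iv4 F138024)) (tt N79041 D159842) (tt N79042 D159843) (tt N27111 F283540))
theorem Q45171 : ∀ i, i < 45171 → P i := stepQ 45170 Q45170 (allL N45170 (tt N50096 F205434) (tt N50099 F205435) (tt N50875 (iv2 F142861)) (tt N23261 F114673) (tt N50875 (iv4 F142863)) (tt N79043 D159844) (tt N23259 (iv6 D76510)) (tt N79044 D159845))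
theorem Q45172 : ∀ i, i < 45172 → P i := stepQ 45171 Q45171 (allL N45171 (tt N23260 (iv1 D76512)) (tt N36247 F114674) (tt N56632 (iv2 F164491)) (tt N45319 (iv3 F115173)) (tt N50291 F139435) (tt N56318 F163401) (tt N36241 F115176) (tt N56627 (iv7 F164483)))
theorem Q45173 : ∀ i, i < 45173 → P i := stepQ 45172 Q45172 (allL N45172 (tt N29904 F114677) (tt N66789 (iv0 F205576)) (tt N32708 F114675) (tt N23262 F114676) (tt N79045 D159846) (tt N23260 (iv5 D76513)) (tt N79043 (iv6 F251979)) (tt N66802 (iv7 F205623)))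
theorem Q45174 : ∀ i, i < 45174 → P i := stepQ 45173 Q45173 (allL N45173 (tt N56632 (iv1 F164496)) (tt N56627 F164485) (tt N36247 F114678) (tt N23263 F114679) (tt N45173 F114680) (tt N66802 (iv5 F205622)) (tt N36247 F114681) (tt N23260 (iv7 D76514)))
theorem Q45175 : ∀ i, i < 45175 → P i := stepQ 45174 Q45174 (allL N45174 (tt N23261 (iv1 D76516)) (tt N26614 (iv0 F205436)) (tt N26458 F205429) (tt N26635 F205430) (tt N29162 F205431) (tt N78856 (iv5 F251133)) (tt N61015 F205432) (tt N26615 F205433))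
theorem Q45176 : ∀ i, i < 45176 → P i := stepQ 45175 Q45175 (allL N45175 (tt N79046 D159847) (tt N79047 D159848) (tt N50874 (iv2 F142852)) (tt N79043 (iv3 F251978)) (tt N79048 D159849) (tt N23261 (iv5 D76517)) (tt N23262 F114683) (tt N79049 D159850))
theorem Q45177 : ∀ i, i < 45177 → P i := stepQ 45176 Q45176 (allL N45176 (tt N26458 F176031) (tt N26615 F176032) (tt N26614 (iv2 F205437)) (tt N79044 (iv3 F251980)) (tt N29300 F176033) (tt N79049 (iv5 F251990)) (tt N50842 (iv6 F176016)) (tt N23261 (iv7 D76518)))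
theorem Q45178 : ∀ i, i < 45178 → P i := stepQ 45177 Q45177 (allL N45177 (tt N44959 F114684) (tt N44957 F114685) (tt N61023 (iv2 F177683)) (tt N79050 D159851) (tt N23262 (iv4 D76519)) (tt N61023 (iv5 F177684)) (tt N79048 (iv6 F251987)) (tt N61621 (iv7 F179152)))
theorem Q45179 : ∀ i, i < 45179 → P i := stepQ 45178 Q45178 (allL N45178 (tt N32621 (iv1 F114689)) (tt N23264 (iv0 D76520)) (tt N32416 (iv2 F114688)) (tt N34707 F114686) (tt N29524 F114687) (tt N50183 (iv5 F139183)) (tt N30062 (iv6 F114691)) (tt N29552 F114690))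
theorem Q45180 : ∀ i, i < 45180 → P i := stepQ 45179 Q45179 (allL N45179 (tt N32416 (iv1 F114696)) (tt N29552 F114695) (tt N23264 (iv2 D76521)) (tt N32588 F114692) (tt N45022 F114693) (tt N79051 D159852) (tt N50016 F138562) (tt N32621 F114694))
theorem Q45181 : ∀ i, i < 45181 → P i := stepQ 45180 Q45180 (allL N45180 (tt N50901 (iv1 F142969)) (tt N41878 (iv0 F114702)) (tt N79051 (iv2 F251996)) (tt N23265 F114697) (tt N39463 (iv4 F114700)) (tt N23264 (iv5 D76522)) (tt N79052 D159853) (tt N42389 F114698))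
theorem Q45182 : ∀ i, i < 45182 → P i := stepQ 45181 Q45181 (allL N45181 (tt N41697 F114706) (tt N74897 (iv0 F229767)) (tt N42387 F114703) (tt N67676 (iv3 F328624)) (tt N23265 (iv4 D76523)) (tt N32476 F114705) (tt N79053 D159854) (tt N42390 F114704))
theorem Q45183 : ∀ i, i < 45183 → P i := stepQ 45182 Q45182 (allL N45182 (tt N79054 D159855) (tt N79055 D159856) (tt N42388 F114707) (tt N79052 (iv3 F252002)) (tt N79053 (iv4 F252006)) (tt N45016 F114708) (tt N23265 (iv6 D76524)) (tt N79056 D159857))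
theorem Q45184 : ∀ i, i < 45184 → P i := stepQ 45183 Q45183 (allL N45183 (tt N74897 (iv1 F229768)) (tt N41697 F114712) (tt N42390 F114709) (tt N69162 (iv3 F328661)) (tt N23266 (iv4 D76525)) (tt N45087 F114710) (tt N69160 (iv6 F365592)) (tt N42387 F114711))
theorem Q45185 : ∀ i, i < 45185 → P i := stepQ 45184 Q45184 (allL N45184 (tt N79057 D159860) (tt N66622 (iv0 F331443)) (tt N42391 F114713) (tt N61729 (iv3 F327858)) (tt N69160 (iv4 F365591)) (tt N38197 F114714) (tt N23266 (iv6 D76526)) (tt N70468 (iv7 F328784)))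
theorem Q45186 : ∀ i, i < 45186 → P i := stepQ 45185 Q45185 (allL N45185 (tt N41788 (iv1 F316588)) (tt N46024 (iv0 F337872)) (tt N42450 F114715) (tt N42964 F114716) (tt N41780 F314147) (tt N42964 F114717) (tt N23267 (iv6 D76527)) (tt N79058 D159865))
theorem Q45187 : ∀ i, i < 45187 → P i := stepQ 45186 Q45186 (allL N45186 (tt N42586 F114722) (tt N37539 F114723) (tt N42482 F114718) (tt N23271 F114719) (tt N36574 F114721) (tt N23268 (iv5 D76528)) (tt N48493 (iv6 F133023)) (tt N42494 F114720))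
theorem Q45188 : ∀ i, i < 45188 → P i := stepQ 45187 Q45187 (allL N45187 (tt N33490 F114730) (tt N36301 F114731) (tt N23277 F114727) (tt N33720 F114728) (tt N41723 F114732) (tt N23272 (iv5 D76530)) (tt N78826 (iv6 F251046)) (tt N23281 F114729))
theorem Q45189 : ∀ i, i < 45189 → P i := stepQ 45188 Q45188 (allL N45188 (tt N33631 F114736) (tt N33627 F114737) (tt N41720 F114733) (tt N41336 F114734) (tt N74894 (iv4 F229755)) (tt N23276 (iv5 D76531)) (tt N79059 D159869) (tt N41719 F114735))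
theorem Q45190 : ∀ i, i < 45190 → P i := stepQ 45189 Q45189 (allL N45189 (tt N28472 F114742) (tt N45258 F114957) (tt N42635 F114738) (tt N41337 F114739) (tt N23278 F114740) (tt N79060 D159870) (tt N23276 (iv6 D76532)) (tt N42634 F114741))
theorem Q45191 : ∀ i, i < 45191 → P i := stepQ 45190 Q45190 (allL N45190 (tt N33632 F114745) (tt N33628 F114746) (tt N41723 F114743) (tt N79061 D159871) (tt N23277 (iv4 D76533)) (tt N74924 (iv5 F229817)) (tt N55795 (iv6 F314504)) (tt N36326 F114744))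
theorem Q45192 : ∀ i, i < 45192 → P i := stepQ 45191 Q45191 (allL N45191 (tt N75551 F243218) (tt N75554 F243219) (tt N78826 (iv2 F251044)) (tt N36316 F114747) (tt N55795 (iv4 F314503)) (tt N66548 (iv5 F321573)) (tt N23277 (iv6 D76534)) (tt N52220 (iv7 F309967)))
theorem Q45193 : ∀ i, i < 45193 → P i := stepQ 45192 Q45192 (allL N45192 (tt N36284 F114751) (tt N33567 F114752) (tt N33724 F114748) (tt N23281 F114749) (tt N33698 F114753) (tt N23279 (iv5 D76535)) (tt N52180 (iv6 F309682)) (tt N33720 F114750))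
theorem Q45194 : ∀ i, i < 45194 → P i := stepQ 45193 Q45193 (allL N45193 (tt N33627 F114757) (tt N33631 F114758) (tt N41719 F114754) (tt N29876 F114755) (tt N60970 (iv4 F335963)) (tt N23280 (iv5 D76536)) (tt N79062 D159875) (tt N41720 F114756))
theorem Q45195 : ∀ i, i < 45195 → P i := stepQ 45194 Q45194 (allL N45194 (tt N62709 F243197) (tt N74823 F243202) (tt N56044 (iv2 F162413)) (tt N60863 (iv3 F177061)) (tt N32908 F319823) (tt N41349 F114765) (tt N23282 (iv6 D76539)) (tt N74818 F243247))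
theorem Q45196 : ∀ i, i < 45196 → P i := stepQ 45195 Q45195 (allL N45195 (tt N79063 D159880) (tt N79064 D159881) (tt N79065 D159882) (tt N23283 (iv3 D76540)) (tt N23284 F114766) (tt N75540 (iv5 F231785)) (tt N76128 (iv6 F236566)) (tt N41786 F114767))
theorem Q45197 : ∀ i, i < 45197 → P i := stepQ 45196 Q45196 (allL N45196 (tt N74831 (iv1 F229414)) (tt N23284 (iv0 D76541)) (tt N47502 (iv2 F327360)) (tt N79066 D159884) (tt N79067 D159885) (tt N64344 F326660) (tt N47004 (iv6 F327361)) (tt N74830 (iv7 F334748)))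
theorem Q45198 : ∀ i, i < 45198 → P i := stepQ 45197 Q45197 (allL N45197 (tt N23284 (iv1 D76542)) (tt N74831 F229416) (tt N74830 (iv2 F334747)) (tt N75390 (iv3 F346410)) (tt N61607 (iv4 F353830)) (tt N74753 (iv5 F342097)) (tt N61605 (iv6 F334721)) (tt N47502 F327894))
theorem Q45199 : ∀ i, i < 45199 → P i := stepQ 45198 Q45198 (allL N45198 (tt N47502 F334745) (tt N74830 F229410) (tt N23284 (iv2 D76543)) (tt N42447 F114768) (tt N79065 (iv4 F252111)) (tt N74745 (iv5 F228854)) (tt N76132 (iv6 F236574)) (tt N74831 (iv7 F229413)))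
theorem Q45200 : ∀ i, i < 45200 → P i := stepQ 45199 Q45199 (allL N45199 (tt N42490 (iv1 F114778)) (tt N23285 (iv0 D76544)) (tt N42489 F233077) (tt N34538 F233078) (tt N28654 F233079) (tt N79068 D159892) (tt N42171 F233080) (tt N34545 F233081))
theorem Q45201 : ∀ i, i < 45201 → P i := stepQ 45200 Q45200 (allL N45200 (tt N23285 (iv1 D76545)) (tt N42490 F114769) (tt N34545 F233082) (tt N43412 F233083) (tt N28655 F233084) (tt N75317 F233085) (tt N77255 (iv6 F242140)) (tt N42489 F233086))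
theorem Q45202 : ∀ i, i < 45202 → P i := stepQ 45201 Q45201 (allL N45201 (tt N79069 D159893) (tt N74398 F233094) (tt N41373 F114770) (tt N23299 F114771) (tt N41644 (iv4 F114773)) (tt N23285 (iv5 D76546)) (tt N23287 F114772) (tt N79070 D159894))
theorem Q45203 : ∀ i, i < 45203 → P i := stepQ 45202 Q45202 (allL N45202 (tt N34545 F232452) (tt N42489 F114780) (tt N42490 F114774) (tt N23300 F114775) (tt N42790 F114776) (tt N79070 (iv5 F252138)) (tt N42506 F114777) (tt N23285 (iv7 D76547)))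
theorem Q45204 : ∀ i, i < 45204 → P i := stepQ 45203 Q45203 (allL N45203 (tt N78893 (iv1 F347603)) (tt N79071 D159896) (tt N34084 F114781) (tt N23292 F114782) (tt N44925 F312206) (tt N41888 F114783) (tt N23288 (iv6 D76548)) (tt N79072 D159897))
theorem Q45205 : ∀ i, i < 45205 → P i := stepQ 45204 Q45204 (allL N45204 (tt N74473 (iv1 F343295)) (tt N62706 (iv0 F343309)) (tt N42961 F114784) (tt N29756 F114785) (tt N73910 (iv4 F321914)) (tt N79073 D159900) (tt N23289 (iv6 D76549)) (tt N74472 (iv7 F324897)))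
theorem Q45206 : ∀ i, i < 45206 → P i := stepQ 45205 Q45205 (allL N45205 (tt N74498 (iv1 F347729)) (tt N75527 (iv0 F318935)) (tt N36466 F114786) (tt N29903 F114787) (tt N72802 (iv4 F314120)) (tt N78820 (iv5 F251012)) (tt N23290 (iv6 D76550)) (tt N73145 (iv7 F318940)))
theorem Q45207 : ∀ i, i < 45207 → P i := stepQ 45206 Q45206 (allL N45206 (tt N33716 F310227) (tt N35007 F114792) (tt N34890 F114788) (tt N23291 (iv3 D76551)) (tt N46588 (iv4 F125558)) (tt N34889 F114789) (tt N78706 (iv6 F312498)) (tt N35005 F114790))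
theorem Q45208 : ∀ i, i < 45208 → P i := stepQ 45207 Q45207 (allL N45207 (tt N47425 F336792) (tt N78943 (iv0 F347608)) (tt N34967 F114793) (tt N78706 (iv3 F312497)) (tt N23292 F114794) (tt N78099 (iv5 F329207)) (tt N23291 (iv6 D76552)) (tt N79074 D159909))
theorem Q45209 : ∀ i, i < 45209 → P i := stepQ 45208 Q45208 (allL N45208 (tt N64211 (iv1 F193607)) (tt N23292 (iv0 D76553)) (tt N64208 (iv2 F349060)) (tt N79075 D159911) (tt N76368 (iv4 F335191)) (tt N70366 (iv5 F335192)) (tt N79076 D159914) (tt N64209 (iv7 F349076)))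
theorem Q45210 : ∀ i, i < 45210 → P i := stepQ 45209 Q45209 (allL N45209 (tt N23292 (iv1 D76554)) (tt N64211 F193606) (tt N64209 (iv2 F349073)) (tt N52585 (iv3 F360928)) (tt N76369 (iv4 F342710)) (tt N70362 (iv5 F363108)) (tt N79077 D159919) (tt N64208 (iv7 F349061)))
theorem Q45211 : ∀ i, i < 45211 → P i := stepQ 45210 Q45210 (allL N45210 (tt N79078 D159920) (tt N79079 D159921) (tt N64210 (iv2 F193599)) (tt N41888 F114795) (tt N79080 D159922) (tt N23292 (iv5 D76555)) (tt N23293 F114796) (tt N79081 D159923))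
theorem Q45212 : ∀ i, i < 45212 → P i := stepQ 45211 Q45211 (allL N45211 (tt N64209 (iv1 F193598)) (tt N64208 F193605) (tt N64211 (iv2 F193602)) (tt N79072 (iv3 F252145)) (tt N79074 (iv4 F252174)) (tt N79081 (iv5 F252184)) (tt N64206 (iv6 F193588)) (tt N23292 (iv7 D76556)))
theorem Q45213 : ∀ i, i < 45213 → P i := stepQ 45212 Q45212 (allL N45212 (tt N64213 (iv1 F193614)) (tt N23293 (iv0 D76557)) (tt N29723 (iv2 F114798)) (tt N36303 (iv3 F114799)) (tt N73270 (iv4 F324061)) (tt N29714 F114797) (tt N53662 (iv6 F154326)) (tt N29713 (iv7 F114800)))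
theorem Q45214 : ∀ i, i < 45214 → P i := stepQ 45213 Q45213 (allL N45213 (tt N23293 (iv1 D76558)) (tt N64213 F193613) (tt N29713 (iv2 F114803)) (tt N29869 (iv3 F114804)) (tt N73269 (iv4 F324057)) (tt N29708 F114802) (tt N70591 (iv6 F335892)) (tt N29723 F114801))
theorem Q45215 : ∀ i, i < 45215 → P i := stepQ 45214 Q45214 (allL N45214 (tt N55717 (iv1 F161509)) (tt N41768 F114805) (tt N64212 (iv2 F193608)) (tt N79082 D159925) (tt N23293 (iv4 D76559)) (tt N79083 D159926) (tt N79080 (iv6 F252182)) (tt N79084 D159927))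
theorem Q45216 : ∀ i, i < 45216 → P i := stepQ 45215 Q45215 (allL N45215 (tt N29713 (iv1 F114808)) (tt N29723 F114809) (tt N64213 (iv2 F193610)) (tt N32463 F114806) (tt N79084 (iv4 F252192)) (tt N23294 F114807) (tt N79085 D159928) (tt N23293 (iv7 D76560)))
theorem Q45217 : ∀ i, i < 45217 → P i := stepQ 45216 Q45216 (allL N45216 (tt N43095 F232313) (tt N34015 F232314) (tt N34552 F232315) (tt N44412 F311240) (tt N23298 (iv4 D76570)) (tt N35443 (iv5 F307107)) (tt N73890 (iv6 F316963)) (tt N43078 F305870))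
theorem Q45218 : ∀ i, i < 45218 → P i := stepQ 45217 Q45217 (allL N45217 (tt N43924 F114825) (tt N43906 F308166) (tt N34553 F232318) (tt N43300 F232319) (tt N52576 (iv4 F332450)) (tt N23298 (iv5 D76571)) (tt N74963 F229895) (tt N43085 (iv7 F232545)))
theorem Q45219 : ∀ i, i < 45219 → P i := stepQ 45218 Q45218 (allL N45218 (tt N34024 F232238) (tt N42292 F232239) (tt N33800 F232240) (tt N42307 F232241) (tt N73890 (iv4 F316961)) (tt N33798 F232242) (tt N23298 (iv6 D76572)) (tt N42287 F232243))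
theorem Q45220 : ∀ i, i < 45220 → P i := stepQ 45219 Q45219 (allL N45219 (tt N43088 (iv1 F114833)) (tt N23299 (iv0 D76578)) (tt N25154 F306224) (tt N41812 F232459) (tt N56053 (iv4 F322913)) (tt N25151 F306225) (tt N72376 (iv6 F319253)) (tt N43086 F232461))
theorem Q45221 : ∀ i, i < 45221 → P i := stepQ 45220 Q45220 (allL N45220 (tt N74417 F233095) (tt N45222 (iv0 F323527)) (tt N43087 F114829) (tt N62798 (iv3 F324747)) (tt N23299 (iv4 D76580)) (tt N72167 (iv5 F356816)) (tt N23303 F114830) (tt N62827 (iv7 F324745)))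
theorem Q45222 : ∀ i, i < 45222 → P i := stepQ 45221 Q45221 (allL N45221 (tt N43086 (iv1 F114834)) (tt N25154 F306229) (tt N43088 F114831) (tt N79070 (iv3 F252136)) (tt N62827 (iv4 F324744)) (tt N23300 F114832) (tt N77624 (iv6 F335015)) (tt N23299 (iv7 D76581)))
theorem Q45223 : ∀ i, i < 45223 → P i := stepQ 45222 Q45222 (allL N45222 (tt N45220 F323527) (tt N76445 F323528) (tt N41810 F114836) (tt N33682 F114837) (tt N41351 F323529) (tt N75994 (iv5 F235299)) (tt N23302 (iv6 D76582)) (tt N76443 F323530))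
theorem Q45224 : ∀ i, i < 45224 → P i := stepQ 45223 Q45223 (allL N45223 (tt N29715 (iv1 F114841)) (tt N29725 F114842) (tt N41775 F114839) (tt N63760 (iv3 F323333)) (tt N23304 F114840) (tt N73415 (iv5 F326865)) (tt N63629 (iv6 F340848)) (tt N23303 (iv7 D76585)))
theorem Q45225 : ∀ i, i < 45225 → P i := stepQ 45224 Q45224 (allL N45224 (tt N56142 (iv1 F340868)) (tt N56139 (iv0 F335017)) (tt N41776 F114843) (tt N41362 F114844) (tt N63629 (iv4 F340847)) (tt N44491 F114845) (tt N23304 (iv6 D76586)) (tt N77624 (iv7 F335016)))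
theorem Q45226 : ∀ i, i < 45226 → P i := stepQ 45225 Q45225 (allL N45225 (tt N24304 F114848) (tt N34064 F114849) (tt N43246 F114846) (tt N38378 F305842) (tt N23305 (iv4 D76587)) (tt N24295 F114847) (tt N46131 (iv6 F303022)) (tt N41612 (iv7 F306029)))
theorem Q45227 : ∀ i, i < 45227 → P i := stepQ 45226 Q45226 (allL N45226 (tt N75628 (iv1 F307828)) (tt N68576 (iv0 F312182)) (tt N43247 F114854) (tt N61024 (iv3 F177688)) (tt N46131 F305413) (tt N69632 (iv5 F334830)) (tt N23305 (iv6 D76588)) (tt N75627 (iv7 F307835)))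
theorem Q45228 : ∀ i, i < 45228 → P i := stepQ 45227 Q45227 (allL N45227 (tt N42962 F114855) (tt N43100 F114856) (tt N57432 (iv2 F166720)) (tt N60260 (iv3 F176068)) (tt N43071 (iv4 F114857)) (tt N23306 (iv5 D76589)) (tt N69632 (iv6 F334831)) (tt N57431 (iv7 F166718)))
theorem Q45229 : ∀ i, i < 45229 → P i := stepQ 45228 Q45228 (allL N45228 (tt N25484 F114862) (tt N25480 F114863) (tt N34068 F300289) (tt N44436 F303018) (tt N24294 F114864) (tt N23307 (iv5 D76591)) (tt N73881 (iv6 F320356)) (tt N34062 F300290))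
theorem Q45230 : ∀ i, i < 45230 → P i := stepQ 45229 Q45229 (allL N45229 (tt N75792 (iv1 F234068)) (tt N73950 (iv0 F339071)) (tt N64216 (iv2 F193617)) (tt N23688 F302971) (tt N23308 F114865) (tt N44061 (iv5 F305351)) (tt N23307 (iv6 D76592)) (tt N30511 (iv7 F307343)))
theorem Q45231 : ∀ i, i < 45231 → P i := stepQ 45230 Q45230 (allL N45230 (tt N23308 (iv1 D76594)) (tt N44548 F309379) (tt N44550 F309380) (tt N34098 F232721) (tt N38384 F309381) (tt N64547 (iv5 F307790)) (tt N72390 F309382) (tt N34441 F232723))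
theorem Q45232 : ∀ i, i < 45232 → P i := stepQ 45231 Q45231 (allL N45231 (tt N44550 F309383) (tt N34441 F232774) (tt N44548 F309384) (tt N23319 F114866) (tt N30511 F309385) (tt N43130 F114867) (tt N30510 F309386) (tt N23308 (iv7 D76595)))
theorem Q45233 : ∀ i, i < 45233 → P i := stepQ 45232 Q45232 (allL N45232 (tt N63813 F189728) (tt N69762 (iv0 F355342)) (tt N43043 F114869) (tt N34900 F114870) (tt N23310 F114871) (tt N38441 F328715) (tt N23309 (iv6 D76596)) (tt N69926 (iv7 F329097)))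
theorem Q45234 : ∀ i, i < 45234 → P i := stepQ 45233 Q45233 (allL N45233 (tt N64206 (iv1 F193591)) (tt N23310 (iv0 D76597)) (tt N64203 (iv2 F261868)) (tt N75265 (iv3 F253035)) (tt N76354 (iv4 F253047)) (tt N79086 D159981) (tt N79087 D159982) (tt N64204 (iv7 F261875)))
theorem Q45235 : ∀ i, i < 45235 → P i := stepQ 45234 Q45234 (allL N45234 (tt N23310 (iv1 D76598)) (tt N64206 F193590) (tt N64204 (iv2 F261872)) (tt N68576 (iv3 F312185)) (tt N76355 (iv4 F253051)) (tt N79088 D159986) (tt N75621 (iv6 F366754)) (tt N64203 (iv7 F261871)))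
theorem Q45236 : ∀ i, i < 45236 → P i := stepQ 45235 Q45235 (allL N45235 (tt N79089 D159988) (tt N79090 D159989) (tt N64205 (iv2 F193583)) (tt N61028 (iv3 F177697)) (tt N79091 D159990) (tt N23310 (iv5 D76599)) (tt N23313 F114872) (tt N79092 D159991))
theorem Q45237 : ∀ i, i < 45237 → P i := stepQ 45236 Q45236 (allL N45236 (tt N64204 (iv1 F193582)) (tt N64203 F193589) (tt N64206 (iv2 F193586)) (tt N61029 (iv3 F177699)) (tt N69926 (iv4 F329095)) (tt N79092 (iv5 F252362)) (tt N64211 (iv6 F193604)) (tt N23310 (iv7 D76600)))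
theorem Q45238 : ∀ i, i < 45238 → P i := stepQ 45237 Q45237 (allL N45237 (tt N56091 (iv1 F162601)) (tt N56090 (iv0 F162596)) (tt N57433 (iv2 F166723)) (tt N56619 (iv3 F164453)) (tt N68435 (iv4 F210443)) (tt N23311 (iv5 D76601)) (tt N79093 D159992) (tt N56628 (iv7 F164488)))
theorem Q45239 : ∀ i, i < 45239 → P i := stepQ 45238 Q45238 (allL N45238 (tt N56090 (iv1 F162597)) (tt N56091 (iv0 F162600)) (tt N56628 (iv2 F164486)) (tt N57436 (iv3 F166728)) (tt N68434 (iv4 F210442)) (tt N23312 (iv5 D76602)) (tt N76322 (iv6 F334833)) (tt N57433 (iv7 F166725)))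
theorem Q45240 : ∀ i, i < 45240 → P i := stepQ 45239 Q45239 (allL N45239 (tt N55796 (iv1 F161802)) (tt N68430 (iv0 F210436)) (tt N64207 (iv2 F193592)) (tt N51372 (iv3 F364514)) (tt N23313 (iv4 D76603)) (tt N75789 (iv5 F314440)) (tt N79091 (iv6 F252361)) (tt N51365 (iv7 F334842)))
theorem Q45241 : ∀ i, i < 45241 → P i := stepQ 45240 Q45240 (allL N45240 (tt N37510 (iv1 F114875)) (tt N29759 F114876) (tt N44490 F114873) (tt N56607 (iv3 F164413)) (tt N51365 (iv4 F334841)) (tt N23314 F114874) (tt N51364 (iv6 F334838)) (tt N23313 (iv7 D76604)))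
theorem Q45242 : ∀ i, i < 45242 → P i := stepQ 45241 Q45241 (allL N45241 (tt N75794 (iv1 F308762)) (tt N75793 (iv0 F308764)) (tt N34950 F114882) (tt N23690 F306993) (tt N34966 F114883) (tt N23687 (iv5 F307151)) (tt N23315 (iv6 D76607)) (tt N64065 (iv7 F307147)))
theorem Q45243 : ∀ i, i < 45243 → P i := stepQ 45242 Q45242 (allL N45242 (tt N42709 F305772) (tt N23316 (iv0 D76608)) (tt N42714 F305773) (tt N42438 F305774) (tt N75817 (iv4 F234209)) (tt N76016 (iv5 F307769)) (tt N42435 F305775) (tt N42713 F305776))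
theorem Q45244 : ∀ i, i < 45244 → P i := stepQ 45243 Q45243 (allL N45243 (tt N23316 (iv1 D76609)) (tt N42709 F305748) (tt N42713 F305749) (tt N79094 D160009) (tt N42712 F309475) (tt N42829 (iv5 F307742)) (tt N79095 D160011) (tt N42714 F305750))
theorem Q45245 : ∀ i, i < 45245 → P i := stepQ 45244 Q45244 (allL N45244 (tt N34016 F232567) (tt N43093 F232568) (tt N34450 F232569) (tt N63563 (iv3 F305466)) (tt N23317 (iv4 D76619)) (tt N37629 F312188) (tt N42287 (iv6 F306297)) (tt N43076 (iv7 F232526)))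
theorem Q45246 : ∀ i, i < 45246 → P i := stepQ 45245 Q45245 (allL N45245 (tt N42707 (iv1 F307765)) (tt N29795 (iv0 F306108)) (tt N34451 F232572) (tt N43312 F232573) (tt N34318 (iv4 F307768)) (tt N23317 (iv5 D76620)) (tt N68399 F232574) (tt N43077 (iv7 F232530)))
theorem Q45247 : ∀ i, i < 45247 → P i := stepQ 45246 Q45246 (allL N45246 (tt N72400 (iv1 F353449)) (tt N34022 F232695) (tt N34452 F232575) (tt N43313 F232576) (tt N42287 (iv4 F306296)) (tt N43917 (iv5 F114895)) (tt N23317 (iv6 D76621)) (tt N73890 (iv7 F316964)))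
theorem Q45248 : ∀ i, i < 45248 → P i := stepQ 45247 Q45247 (allL N45247 (tt N66957 (iv1 F311668)) (tt N24213 (iv0 F309845)) (tt N42829 (iv2 F309676)) (tt N45702 F309486) (tt N23318 (iv4 D76624)) (tt N42713 (iv5 F311670)) (tt N23323 F114899) (tt N76016 (iv7 F309679)))
theorem Q45249 : ∀ i, i < 45249 → P i := stepQ 45248 Q45248 (allL N45248 (tt N29788 F307067) (tt N42602 (iv0 F307423)) (tt N30517 F114906) (tt N37378 F114907) (tt N34173 F307068) (tt N63345 (iv5 F186932)) (tt N23320 (iv6 D76626)) (tt N48495 (iv7 F307421)))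
theorem Q45250 : ∀ i, i < 45250 → P i := stepQ 45249 Q45249 (allL N45249 (tt N73950 (iv1 F339072)) (tt N75792 (iv0 F307337)) (tt N30511 F114908) (tt N34120 F114909) (tt N44548 F210469) (tt N42980 F114910) (tt N23322 (iv6 D76627)) (tt N64216 F306111))
theorem Q45251 : ∀ i, i < 45251 → P i := stepQ 45250 Q45250 (allL N45250 (tt N68442 (iv1 F210458)) (tt N42612 (iv0 F312021)) (tt N42828 (iv2 F309927)) (tt N27745 (iv3 F312023)) (tt N75790 (iv4 F312024)) (tt N23323 (iv5 D76629)) (tt N66678 (iv6 F309821)) (tt N42825 (iv7 F309822)))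
theorem Q45252 : ∀ i, i < 45252 → P i := stepQ 45251 Q45251 (allL N45251 (tt N44553 (iv1 F252505)) (tt N79096 D160037) (tt N44491 F114916) (tt N41781 F114917) (tt N42826 (iv4 F309925)) (tt N41776 F114918) (tt N23324 (iv6 D76631)) (tt N77630 (iv7 F244324)))
theorem Q45253 : ∀ i, i < 45253 → P i := stepQ 45252 Q45252 (allL N45252 (tt N45317 (iv1 F115158)) (tt N45319 (iv0 F115172)) (tt N23340 F114922) (tt N41417 F114923) (tt N23329 F114924) (tt N43286 (iv5 F114925)) (tt N23327 (iv6 D76633)) (tt N57447 (iv7 F166773)))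
theorem Q45254 : ∀ i, i < 45254 → P i := stepQ 45253 Q45253 (allL N45253 (tt N40767 F319502) (tt N40945 (iv0 F320389)) (tt N23342 F114927) (tt N40978 (iv3 F319642)) (tt N53701 (iv4 F154480)) (tt N41265 (iv5 F321509)) (tt N23328 (iv6 D76634)) (tt N33777 F321938))
theorem Q45255 : ∀ i, i < 45255 → P i := stepQ 45254 Q45254 (allL N45254 (tt N40205 F314017) (tt N73858 (iv0 F314027)) (tt N23347 F114930) (tt N23349 F114931) (tt N64404 (iv4 F196559)) (tt N44497 F114932) (tt N23330 (iv6 D76635)) (tt N73857 (iv7 F314026)))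
theorem Q45256 : ∀ i, i < 45256 → P i := stepQ 45255 Q45255 (allL N45255 (tt N23331 (iv1 D76636)) (tt N23354 F114933) (tt N23351 (iv2 F114938)) (tt N43021 (iv3 F114936)) (tt N33831 F114935) (tt N43745 F114937) (tt N79097 D160041) (tt N23350 F114934))
theorem Q45257 : ∀ i, i < 45257 → P i := stepQ 45256 Q45256 (allL N45256 (tt N23351 (iv1 F114942)) (tt N23350 F114943) (tt N23354 F114939) (tt N34927 (iv3 F114944)) (tt N23332 F114940) (tt N28145 F114941) (tt N63531 (iv6 F187905)) (tt N23331 (iv7 D76637)))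
theorem Q45258 : ∀ i, i < 45258 → P i := stepQ 45257 Q45257 (allL N45257 (tt N36467 F114953) (tt N78810 (iv0 F250961)) (tt N53665 (iv2 F154336)) (tt N34135 F114952) (tt N79098 D160044) (tt N23335 (iv5 D76639)) (tt N53663 (iv6 F154329)) (tt N78813 (iv7 F250984)))
theorem Q45259 : ∀ i, i < 45259 → P i := stepQ 45258 Q45258 (allL N45258 (tt N45189 (iv1 F114957)) (tt N53664 F154333) (tt N36254 F114954) (tt N41423 F114955) (tt N23339 F114956) (tt N78813 (iv5 F250985)) (tt N57447 F166774) (tt N23335 (iv7 D76640)))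
theorem Q45260 : ∀ i, i < 45260 → P i := stepQ 45259 Q45259 (allL N45259 (tt N23378 F114960) (tt N40989 F321922) (tt N33655 F114958) (tt N63947 (iv3 F191893)) (tt N23336 (iv4 D76641)) (tt N47836 (iv5 F129895)) (tt N79099 D160045) (tt N42631 F114959))
theorem Q45261 : ∀ i, i < 45261 → P i := stepQ 45260 Q45260 (allL N45260 (tt N41004 F314568) (tt N78937 (iv0 F314750)) (tt N33652 F114962) (tt N41875 F114963) (tt N79099 (iv4 F252545)) (tt N33637 F114964) (tt N23336 (iv6 D76642)) (tt N79100 D160047))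
theorem Q45262 : ∀ i, i < 45262 → P i := stepQ 45261 Q45261 (allL N45261 (tt N51645 (iv1 F146967)) (tt N51710 (iv0 F147100)) (tt N34972 F114965) (tt N23337 (iv3 D76643)) (tt N28574 F114966) (tt N28030 F303332) (tt N40981 F321937) (tt N47269 (iv7 F128609)))
theorem Q45263 : ∀ i, i < 45263 → P i := stepQ 45262 Q45262 (allL N45262 (tt N36476 F114973) (tt N75980 (iv0 F235107)) (tt N34037 F114971) (tt N79101 D160058) (tt N23338 (iv4 D76649)) (tt N79102 D160059) (tt N40199 (iv6 F319248)) (tt N34035 F114972))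
theorem Q45264 : ∀ i, i < 45264 → P i := stepQ 45263 Q45263 (allL N45263 (tt N29772 F114975) (tt N42905 F114976) (tt N43286 F114974) (tt N50742 (iv3 F142200)) (tt N50240 (iv4 F329721)) (tt N23340 (iv5 D76650)) (tt N50869 (iv6 F142824)) (tt N78808 (iv7 F250940)))
theorem Q45265 : ∀ i, i < 45265 → P i := stepQ 45264 Q45264 (allL N45264 (tt N45319 F115174) (tt N45317 (iv0 F115157)) (tt N57447 F166771) (tt N50743 (iv3 F142204)) (tt N23344 F114977) (tt N78808 (iv5 F250936)) (tt N36254 F114978) (tt N23340 (iv7 D76651)))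
theorem Q45266 : ∀ i, i < 45266 → P i := stepQ 45265 Q45265 (allL N45265 (tt N62316 F320213) (tt N62313 F320214) (tt N53701 (iv2 F154479)) (tt N34974 F114979) (tt N23342 F114980) (tt N79103 D160063) (tt N23341 (iv6 D76652)) (tt N40983 (iv7 F320244)))
theorem Q45267 : ∀ i, i < 45267 → P i := stepQ 45266 Q45266 (allL N45266 (tt N23342 (iv1 D76654)) (tt N33777 F321939) (tt N40945 F318913) (tt N33393 F318914) (tt N40285 F318915) (tt N33391 F318916) (tt N77541 (iv6 F243472)) (tt N40767 F318917))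
theorem Q45268 : ∀ i, i < 45268 → P i := stepQ 45267 Q45267 (allL N45267 (tt N40115 (iv1 F322918)) (tt N33541 (iv0 F322919)) (tt N41265 (iv2 F321508)) (tt N31115 F321288) (tt N62294 (iv4 F322920)) (tt N23342 (iv5 D76655)) (tt N23343 F114983) (tt N40200 F321289))
theorem Q45269 : ∀ i, i < 45269 → P i := stepQ 45268 Q45268 (allL N45268 (tt N29779 F114986) (tt N42906 F114987) (tt N44054 F114984) (tt N79104 D160070) (tt N23343 (iv4 D76657)) (tt N79105 D160071) (tt N62294 (iv6 F322921)) (tt N44055 F114985))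
theorem Q45270 : ∀ i, i < 45270 → P i := stepQ 45269 Q45269 (allL N45269 (tt N73777 (iv1 F334999)) (tt N46640 F313098) (tt N75244 (iv2 F230852)) (tt N23347 F114988) (tt N51736 (iv4 F147124)) (tt N37542 F114989) (tt N23345 (iv6 D76658)) (tt N79106 D160074))
theorem Q45271 : ∀ i, i < 45271 → P i := stepQ 45270 Q45270 (allL N45270 (tt N28584 F115022) (tt N28031 F304502) (tt N45547 (iv2 F116499)) (tt N23346 (iv3 D76659)) (tt N49543 (iv4 F136804)) (tt N24772 F114990) (tt N79107 D160075) (tt N53554 (iv7 F305513)))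
theorem Q45272 : ∀ i, i < 45272 → P i := stepQ 45271 Q45271 (allL N45271 (tt N73861 (iv1 F325373)) (tt N75985 (iv0 F252641)) (tt N64404 (iv2 F196557)) (tt N79107 (iv3 F252623)) (tt N23347 F114991) (tt N79108 D160077) (tt N23346 (iv6 D76660)) (tt N79109 D160078))
theorem Q45273 : ∀ i, i < 45273 → P i := stepQ 45272 Q45272 (allL N45272 (tt N23347 (iv1 D76662)) (tt N73857 (iv0 F314022)) (tt N73858 (iv2 F314029)) (tt N23358 F252508) (tt N77659 (iv4 F319414)) (tt N42866 F311569) (tt N73717 (iv6 F314031)) (tt N40205 F311587))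
theorem Q45274 : ∀ i, i < 45274 → P i := stepQ 45273 Q45273 (allL N45273 (tt N68399 F233101) (tt N69580 F233102) (tt N44497 F114992) (tt N37542 F114993) (tt N42716 F312456) (tt N23347 (iv5 D76663)) (tt N30515 F114994) (tt N48503 F312457))
theorem Q45275 : ∀ i, i < 45275 → P i := stepQ 45274 Q45274 (allL N45274 (tt N73858 (iv1 F314028)) (tt N40205 F314016) (tt N73857 (iv2 F314023)) (tt N79106 (iv3 F252621)) (tt N79109 (iv4 F252625)) (tt N48503 F312455) (tt N76468 (iv6 F238976)) (tt N23347 (iv7 D76664)))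
theorem Q45276 : ∀ i, i < 45276 → P i := stepQ 45275 Q45275 (allL N45275 (tt N72798 (iv1 F340976)) (tt N54631 (iv0 F346087)) (tt N76467 (iv2 F238972)) (tt N63907 (iv3 F191645)) (tt N23349 F114995) (tt N79110 D160088) (tt N23348 (iv6 D76665)) (tt N79111 D160089))
theorem Q45277 : ∀ i, i < 45277 → P i := stepQ 45276 Q45276 (allL N45276 (tt N23349 (iv1 D76667)) (tt N76468 F238978) (tt N63757 (iv2 F316411)) (tt N64043 (iv3 F247846)) (tt N79112 D160093) (tt N76449 (iv5 F332483)) (tt N73720 (iv6 F364174)) (tt N73692 (iv7 F322309)))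
theorem Q45278 : ∀ i, i < 45278 → P i := stepQ 45277 Q45277 (allL N45277 (tt N63757 (iv1 F337193)) (tt N73692 (iv0 F337190)) (tt N76468 (iv2 F238974)) (tt N73857 (iv3 F314024)) (tt N79111 (iv4 F252658)) (tt N63037 (iv5 F316799)) (tt N73857 (iv6 F314025)) (tt N23349 (iv7 D76668)))
theorem Q45279 : ∀ i, i < 45279 → P i := stepQ 45278 Q45278 (allL N45278 (tt N28153 F115000) (tt N28155 F115001) (tt N35036 F114996) (tt N35084 F114997) (tt N43683 F114999) (tt N23350 (iv5 D76669)) (tt N79113 D160095) (tt N43745 F114998))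
theorem Q45280 : ∀ i, i < 45280 → P i := stepQ 45279 Q45279 (allL N45279 (tt N73856 (iv1 F316511)) (tt N77659 (iv0 F319412)) (tt N42643 F115002) (tt N76265 (iv3 F238043)) (tt N42642 F115003) (tt N79114 D160096) (tt N23350 (iv6 D76670)) (tt N77660 (iv7 F319418)))
theorem Q45281 : ∀ i, i < 45281 → P i := stepQ 45280 Q45280 (allL N45280 (tt N34496 F115007) (tt N35115 (iv0 F161600)) (tt N35034 F115004) (tt N23351 (iv3 D76671)) (tt N23362 F115005) (tt N34912 (iv5 F115008)) (tt N74991 (iv6 F310211)) (tt N35038 F115006))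
theorem Q45282 : ∀ i, i < 45282 → P i := stepQ 45281 Q45281 (allL N45281 (tt N28155 F115013) (tt N28153 F115014) (tt N43745 F115009) (tt N34912 F115010) (tt N43682 F115011) (tt N23351 (iv5 D76672)) (tt N79115 D160099) (tt N35036 F115012))
theorem Q45283 : ∀ i, i < 45283 → P i := stepQ 45282 Q45282 (allL N45282 (tt N73380 (iv1 F366076)) (tt N79112 (iv0 F252668)) (tt N79097 (iv2 F252524)) (tt N74991 (iv3 F310210)) (tt N33832 F115016) (tt N79116 D160100) (tt N23351 (iv6 D76673)) (tt N77662 (iv7 F318757)))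
theorem Q45284 : ∀ i, i < 45284 → P i := stepQ 45283 Q45283 (allL N45283 (tt N64764 F198283) (tt N23352 (iv0 D76674)) (tt N46595 (iv2 F125585)) (tt N35057 F115017) (tt N46592 (iv4 F125579)) (tt N35055 (iv5 F115018)) (tt N79117 D160102) (tt N79118 D160103))
theorem Q45285 : ∀ i, i < 45285 → P i := stepQ 45284 Q45284 (allL N45284 (tt N23352 (iv1 D76675)) (tt N64764 F198282) (tt N79118 (iv2 F252686)) (tt N26182 F308362) (tt N24935 (iv4 F115019)) (tt N42556 F307580) (tt N67040 (iv6 F318175)) (tt N46595 (iv7 F125587)))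
theorem Q45286 : ∀ i, i < 45286 → P i := stepQ 45285 Q45285 (allL N45285 (tt N46595 F125589) (tt N79118 F252690) (tt N23352 (iv2 D76676)) (tt N34928 F115023) (tt N23365 F115024) (tt N42764 F304521) (tt N62869 (iv6 F310781)) (tt N64764 (iv7 F198280)))
theorem Q45287 : ∀ i, i < 45287 → P i := stepQ 45286 Q45286 (allL N45286 (tt N79118 (iv1 F252691)) (tt N46595 (iv0 F125588)) (tt N64764 (iv2 F198278)) (tt N23354 F115026) (tt N23367 F115027) (tt N42798 F304609) (tt N79119 D160107) (tt N23352 (iv7 D76678)))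
theorem Q45288 : ∀ i, i < 45288 → P i := stepQ 45287 Q45287 (allL N45287 (tt N28145 (iv1 F115030)) (tt N23353 (iv0 D76679)) (tt N42632 (iv2 F115032)) (tt N44558 (iv3 F115031)) (tt N43505 F115029) (tt N40989 F321924) (tt N79120 D160108) (tt N53698 (iv7 F154448)))
theorem Q45289 : ∀ i, i < 45289 → P i := stepQ 45288 Q45288 (allL N45288 (tt N23353 (iv1 D76680)) (tt N28145 F115033) (tt N53698 F154451) (tt N34494 F115037) (tt N28270 F115036) (tt N23378 F115035) (tt N79121 D160109) (tt N42632 F115034))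
theorem Q45290 : ∀ i, i < 45290 → P i := stepQ 45289 Q45289 (allL N45289 (tt N79122 D160113) (tt N42618 (iv0 F185064)) (tt N63531 (iv2 F187904)) (tt N79119 (iv3 F252703)) (tt N23355 F115040) (tt N79123 D160114) (tt N23354 (iv6 D76682)) (tt N77567 (iv7 F243675)))
theorem Q45291 : ∀ i, i < 45291 → P i := stepQ 45290 Q45290 (allL N45290 (tt N63532 (iv1 F187913)) (tt N23355 (iv0 D76683)) (tt N63529 F241361) (tt N65194 F199516) (tt N77044 (iv4 F261541)) (tt N72389 (iv5 F313498)) (tt N73715 (iv6 F356835)) (tt N63530 F241358))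
theorem Q45292 : ∀ i, i < 45292 → P i := stepQ 45291 Q45291 (allL N45291 (tt N23356 (iv1 D76685)) (tt N62885 (iv0 F184007)) (tt N64038 (iv2 F192365)) (tt N32743 (iv3 F115042)) (tt N44141 F115041) (tt N48974 (iv5 F134969)) (tt N66930 (iv6 F206159)) (tt N64039 (iv7 F192368)))
theorem Q45293 : ∀ i, i < 45293 → P i := stepQ 45292 Q45292 (allL N45292 (tt N57391 (iv1 F326212)) (tt N79124 D160119) (tt N64042 (iv2 F192377)) (tt N65352 (iv3 F309862)) (tt N23357 F115043) (tt N41213 (iv5 F326213)) (tt N23356 (iv6 D76686)) (tt N41212 F325308))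
theorem Q45294 : ∀ i, i < 45294 → P i := stepQ 45293 Q45293 (allL N45293 (tt N64043 (iv1 F192379)) (tt N41284 F322638) (tt N64044 (iv2 F192380)) (tt N23359 F115044) (tt N41212 F325307) (tt N63228 (iv5 F186448)) (tt N56152 (iv6 F316405)) (tt N23357 (iv7 D76689)))
theorem Q45295 : ∀ i, i < 45295 → P i := stepQ 45294 Q45294 (allL N45294 (tt N73121 (iv1 F324348)) (tt N46495 F313085) (tt N75269 (iv2 F230944)) (tt N32835 F115047) (tt N23361 F115048) (tt N75269 (iv5 F230947)) (tt N23360 (iv6 D76698)) (tt N67097 (iv7 F318184)))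
theorem Q45296 : ∀ i, i < 45296 → P i := stepQ 45295 Q45295 (allL N45295 (tt N42647 (iv1 F115053)) (tt N23362 (iv0 D76707)) (tt N35044 (iv2 F115054)) (tt N68268 F308198) (tt N79125 D160143) (tt N35040 F115052) (tt N78688 (iv6 F310206)) (tt N42646 (iv7 F115066)))
theorem Q45297 : ∀ i, i < 45297 → P i := stepQ 45296 Q45296 (allL N45296 (tt N23362 (iv1 D76708)) (tt N42647 (iv0 F115058)) (tt N42646 F115065) (tt N24268 (iv3 F115056)) (tt N53884 (iv4 F154889)) (tt N27280 F115057) (tt N62748 (iv6 F310204)) (tt N35044 F115055))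
theorem Q45298 : ∀ i, i < 45298 → P i := stepQ 45297 Q45297 (allL N45297 (tt N35044 (iv1 F115072)) (tt N42646 F115071) (tt N23362 (iv2 D76709)) (tt N32861 F115067) (tt N35034 F115068) (tt N42693 F115069) (tt N62754 (iv6 F310208)) (tt N42647 F115070))
theorem Q45299 : ∀ i, i < 45299 → P i := stepQ 45298 Q45298 (allL N45298 (tt N23364 (iv1 F115097)) (tt N23363 (iv0 D76720)) (tt N23367 (iv2 F115094)) (tt N46551 (iv3 F125393)) (tt N64764 (iv4 F198281)) (tt N23896 F115095) (tt N78713 (iv6 F349385)) (tt N23365 F115096))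
theorem Q45300 : ∀ i, i < 45300 → P i := stepQ 45299 Q45299 (allL N45299 (tt N23367 F151576) (tt N23365 F151577) (tt N23363 (iv2 D76721)) (tt N75007 F308134) (tt N63908 (iv4 F191740)) (tt N75592 F308135) (tt N41315 (iv6 F310167)) (tt N23364 (iv7 F115098)))
theorem Q45301 : ∀ i, i < 45301 → P i := stepQ 45300 Q45300 (allL N45300 (tt N53308 (iv1 F153308)) (tt N32837 (iv0 F115100)) (tt N53332 F153362) (tt N23363 (iv3 D76722)) (tt N29257 F115099) (tt N53926 (iv5 F155018)) (tt N74930 (iv6 F314864)) (tt N53331 F153357))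
theorem Q45302 : ∀ i, i < 45302 → P i := stepQ 45301 Q45301 (allL N45301 (tt N45569 F116546) (tt N34122 F115101) (tt N75592 (iv2 F306158)) (tt N53926 (iv3 F155020)) (tt N44756 F115102) (tt N23363 (iv5 D76724)) (tt N67757 (iv6 F323354)) (tt N52822 (iv7 F151568)))
theorem Q45303 : ∀ i, i < 45303 → P i := stepQ 45302 Q45302 (allL N45302 (tt N41311 (iv1 F314861)) (tt N41316 (iv0 F314862)) (tt N41315 F312419) (tt N74930 (iv3 F314863)) (tt N64425 (iv4 F196845)) (tt N69617 (iv5 F314865)) (tt N23363 (iv6 D76725)) (tt N41314 (iv7 F314866)))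
theorem Q45304 : ∀ i, i < 45304 → P i := stepQ 45303 Q45303 (allL N45303 (tt N46521 F125584) (tt N68268 (iv0 F306214)) (tt N69579 (iv2 F306154)) (tt N23364 (iv3 D76727)) (tt N67921 (iv4 F304577)) (tt N37449 F304119) (tt N63517 (iv6 F306215)) (tt N75007 (iv7 F306164)))
theorem Q45305 : ∀ i, i < 45305 → P i := stepQ 45304 Q45304 (allL N45304 (tt N34122 (iv1 F125525)) (tt N45569 (iv0 F116545)) (tt N52822 (iv2 F151566)) (tt N37449 F304116) (tt N52821 (iv4 F151562)) (tt N23364 (iv5 D76728)) (tt N34422 (iv6 F306212)) (tt N75592 (iv7 F306161)))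
theorem Q45306 : ∀ i, i < 45306 → P i := stepQ 45305 Q45305 (allL N45305 (tt N23895 (iv1 F115111)) (tt N23894 (iv0 F115109)) (tt N23366 F115106) (tt N27700 F115107) (tt N23581 F115110) (tt N23365 (iv5 D76732)) (tt N77666 (iv6 F306839)) (tt N23896 F115108))
theorem Q45307 : ∀ i, i < 45307 → P i := stepQ 45306 Q45306 (allL N45306 (tt N23366 (iv1 D76734)) (tt N23896 F115114) (tt N23894 F120311) (tt N37477 (iv3 F308142)) (tt N63583 (iv4 F188194)) (tt N33718 (iv5 F308140)) (tt N63833 (iv6 F309657)) (tt N23895 F120312))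
theorem Q45308 : ∀ i, i < 45308 → P i := stepQ 45307 Q45307 (allL N45307 (tt N75119 (iv1 F310775)) (tt N69621 (iv0 F310776)) (tt N77666 F308665) (tt N23368 F115115) (tt N25081 F115116) (tt N74994 (iv5 F310777)) (tt N23366 (iv6 D76735)) (tt N77622 (iv7 F244145)))
theorem Q45309 : ∀ i, i < 45309 → P i := stepQ 45308 Q45308 (allL N45308 (tt N74984 (iv1 F345706)) (tt N73708 (iv0 F345703)) (tt N78713 (iv2 F349383)) (tt N23369 F115117) (tt N79119 (iv4 F252704)) (tt N40181 F321134) (tt N23367 (iv6 D76736)) (tt N62779 (iv7 F313296)))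
theorem Q45310 : ∀ i, i < 45310 → P i := stepQ 45309 Q45309 (allL N45309 (tt N63737 (iv1 F189136)) (tt N23368 (iv0 D76737)) (tt N33823 (iv2 F131140)) (tt N48775 F304550) (tt N33815 F131141) (tt N42417 (iv5 F308193)) (tt N48468 F304551) (tt N33825 (iv7 F131142)))
theorem Q45311 : ∀ i, i < 45311 → P i := stepQ 45310 Q45310 (allL N45310 (tt N23368 (iv1 D76738)) (tt N63737 F189135) (tt N33825 F131143) (tt N56133 (iv3 F306549)) (tt N33816 F130255) (tt N42418 (iv5 F312479)) (tt N37488 F310197) (tt N33823 (iv7 F131088)))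
theorem Q45312 : ∀ i, i < 45312 → P i := stepQ 45311 Q45311 (allL N45311 (tt N34865 F115126) (tt N43110 F115127) (tt N42625 F115123) (tt N43478 F115128) (tt N23373 (iv4 D76751)) (tt N28494 F301777) (tt N49487 (iv6 F304492)) (tt N42449 F115124))
theorem Q45313 : ∀ i, i < 45313 → P i := stepQ 45312 Q45312 (allL N45312 (tt N77560 (iv1 F243659)) (tt N42653 (iv0 F188378)) (tt N42626 F115129) (tt N36508 F115130) (tt N49487 (iv4 F304491)) (tt N36505 F115131) (tt N23373 (iv6 D76752)) (tt N73596 (iv7 F320165)))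
theorem Q45314 : ∀ i, i < 45314 → P i := stepQ 45313 Q45313 (allL N45313 (tt N42631 F115135) (tt N33655 F115136) (tt N23378 F115132) (tt N43032 F115133) (tt N23374 (iv4 D76753)) (tt N53698 (iv5 F154449)) (tt N40277 (iv6 F316570)) (tt N40989 F321925))
theorem Q45315 : ∀ i, i < 45315 → P i := stepQ 45314 Q45314 (allL N45314 (tt N74850 (iv1 F229614)) (tt N62735 (iv0 F228962)) (tt N42630 F115139) (tt N42624 F115140) (tt N72163 (iv4 F328073)) (tt N41346 F115141) (tt N23376 (iv6 D76755)) (tt N74846 (iv7 F243384)))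
theorem Q45316 : ∀ i, i < 45316 → P i := stepQ 45315 Q45315 (allL N45315 (tt N42580 F115146) (tt N42530 F115147) (tt N42582 F115142) (tt N23377 (iv3 D76756)) (tt N42662 F115143) (tt N38327 F115144) (tt N79126 D160201) (tt N42581 F115145))
theorem Q45317 : ∀ i, i < 45317 → P i := stepQ 45316 Q45316 (allL N45316 (tt N42609 F191342) (tt N79127 D160202) (tt N42629 F115148) (tt N79126 (iv3 F252885)) (tt N65198 (iv4 F199531)) (tt N66655 (iv5 F204895)) (tt N23377 (iv6 D76757)) (tt N79128 D160203))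
theorem Q45318 : ∀ i, i < 45318 → P i := stepQ 45317 Q45317 (allL N45317 (tt N45264 F115157) (tt N45252 F115158) (tt N30534 F115152) (tt N42634 F115153) (tt N23379 (iv4 D76762)) (tt N42973 F115156) (tt N30527 F115154) (tt N41337 F115155))
theorem Q45319 : ∀ i, i < 45319 → P i := stepQ 45318 Q45318 (allL N45318 (tt N41416 F115165) (tt N41383 (iv0 F115164)) (tt N41356 F115159) (tt N23380 (iv3 D76763)) (tt N42356 F115163) (tt N42914 F115160) (tt N32095 F115161) (tt N30532 F115162))
theorem Q45320 : ∀ i, i < 45320 → P i := stepQ 45319 Q45319 (allL N45319 (tt N45252 F115172) (tt N45264 (iv0 F115174)) (tt N41337 F115169) (tt N45171 F115173) (tt N23380 (iv4 D76764)) (tt N42974 F115175) (tt N32096 F115170) (tt N30534 F115171))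
theorem Q45321 : ∀ i, i < 45321 → P i := stepQ 45320 Q45320 (allL N45320 (tt N42652 F191339) (tt N56311 F206240) (tt N42620 F115228) (tt N29789 F115229) (tt N61335 (iv4 F178626)) (tt N29785 F115230) (tt N23381 (iv6 D76780)) (tt N73598 (iv7 F320178)))
theorem Q45322 : ∀ i, i < 45322 → P i := stepQ 45321 Q45321 (allL N45321 (tt N40278 F321027) (tt N40470 (iv0 F318253)) (tt N23385 F115231) (tt N40987 F321028) (tt N45061 F115233) (tt N40250 (iv5 F322806)) (tt N23382 (iv6 D76781)) (tt N40457 (iv7 F318252)))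
theorem Q45323 : ∀ i, i < 45323 → P i := stepQ 45322 Q45322 (allL N45322 (tt N42530 F115237) (tt N42580 (iv0 F115238)) (tt N42581 F115234) (tt N23384 (iv3 D76782)) (tt N42663 F115235) (tt N46111 (iv5 F120335)) (tt N79129 D160239) (tt N42582 F115236))
theorem Q45324 : ∀ i, i < 45324 → P i := stepQ 45323 Q45323 (allL N45323 (tt N79130 D160240) (tt N42300 F313170) (tt N42624 F115239) (tt N79129 (iv3 F253028)) (tt N61280 (iv4 F178507)) (tt N42442 F115240) (tt N23384 (iv6 D76783)) (tt N79131 D160241))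
theorem Q45325 : ∀ i, i < 45325 → P i := stepQ 45324 Q45324 (allL N45324 (tt N40457 (iv1 F318251)) (tt N23385 (iv0 D76784)) (tt N40278 F318789) (tt N66737 (iv3 F320936)) (tt N61337 (iv4 F320376)) (tt N40595 (iv5 F318790)) (tt N46562 F316532) (tt N40470 F320407))
theorem Q45326 : ∀ i, i < 45326 → P i := stepQ 45325 Q45325 (allL N45325 (tt N23385 (iv1 D76785)) (tt N40457 (iv0 F318250)) (tt N40470 F320405) (tt N33283 F316589) (tt N61338 F253014) (tt N33355 F316590) (tt N42599 (iv6 F206213)) (tt N40278 F316591))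
theorem Q45327 : ∀ i, i < 45327 → P i := stepQ 45326 Q45326 (allL N45326 (tt N41383 F115248) (tt N41416 (iv0 F115251)) (tt N30532 F115243) (tt N23386 (iv3 D76787)) (tt N38205 F115244) (tt N36623 F115245) (tt N30530 F115246) (tt N41356 F115247))
theorem Q45328 : ∀ i, i < 45328 → P i := stepQ 45327 Q45327 (allL N45327 (tt N31917 F326032) (tt N27973 F296596) (tt N31972 (iv2 F326969)) (tt N24046 F115291) (tt N45373 (iv4 F115545)) (tt N23391 (iv5 D76803)) (tt N23392 F115292) (tt N31224 F326163))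
theorem Q45329 : ∀ i, i < 45329 → P i := stepQ 45328 Q45328 (allL N45328 (tt N23414 (iv1 F115302)) (tt N23393 (iv0 D76805)) (tt N34457 (iv2 F115301)) (tt N79132 D160261) (tt N31978 F327207) (tt N63888 (iv5 F191549)) (tt N58300 (iv6 F324501)) (tt N34458 F115303))
theorem Q45330 : ∀ i, i < 45330 → P i := stepQ 45329 Q45329 (allL N45329 (tt N79133 D160263) (tt N79134 D160264) (tt N79135 D160265) (tt N23393 (iv3 D76806)) (tt N37357 F320279) (tt N79136 D160266) (tt N64436 (iv6 F197115)) (tt N35228 F115304))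
theorem Q45331 : ∀ i, i < 45331 → P i := stepQ 45330 Q45330 (allL N45330 (tt N64955 (iv1 F198723)) (tt N45628 (iv0 F119156)) (tt N34460 F115305) (tt N79136 (iv3 F253111)) (tt N45370 (iv4 F115536)) (tt N23393 (iv5 D76807)) (tt N79137 D160267) (tt N35229 F115306))
theorem Q45332 : ∀ i, i < 45332 → P i := stepQ 45331 Q45331 (allL N45331 (tt N34471 (iv1 F115308)) (tt N23394 (iv0 D76808)) (tt N34470 F115311) (tt N28145 F115307) (tt N43157 F306768) (tt N34927 (iv5 F115309)) (tt N79138 D160268) (tt N34469 (iv7 F115310)))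
theorem Q45333 : ∀ i, i < 45333 → P i := stepQ 45332 Q45332 (allL N45332 (tt N23394 (iv1 D76809)) (tt N34471 F115313) (tt N34469 (iv2 F115315)) (tt N42764 (iv3 F301834)) (tt N43156 F306803) (tt N34928 (iv5 F115316)) (tt N25789 F299055) (tt N34470 F115314))
theorem Q45334 : ∀ i, i < 45334 → P i := stepQ 45333 Q45333 (allL N45333 (tt N70549 (iv1 F331998)) (tt N70546 (iv0 F330217)) (tt N43450 F115318) (tt N23395 F115319) (tt N44678 F115320) (tt N79139 D160272) (tt N23394 (iv6 D76810)) (tt N79140 D160273))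
theorem Q45335 : ∀ i, i < 45335 → P i := stepQ 45334 Q45334 (allL N45334 (tt N23403 F115322) (tt N23395 (iv0 D76811)) (tt N23400 F115870) (tt N79141 D160274) (tt N23467 (iv4 F115323)) (tt N79142 D160275) (tt N34788 F298321) (tt N23401 F115871))
theorem Q45336 : ∀ i, i < 45336 → P i := stepQ 45335 Q45335 (allL N45335 (tt N23395 (iv1 D76812)) (tt N23403 F115325) (tt N23401 F115910) (tt N76744 (iv3 F311977)) (tt N46374 (iv4 F123178)) (tt N79143 D160277) (tt N46661 (iv6 F196914)) (tt N23400 F115911))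
theorem Q45337 : ∀ i, i < 45337 → P i := stepQ 45336 Q45336 (allL N45336 (tt N49304 (iv1 F299209)) (tt N64880 (iv0 F198426)) (tt N23402 F115326) (tt N79139 (iv3 F253119)) (tt N65027 (iv4 F301835)) (tt N23395 (iv5 D76813)) (tt N63952 (iv6 F191904)) (tt N79144 D160280))
theorem Q45338 : ∀ i, i < 45338 → P i := stepQ 45337 Q45337 (allL N45337 (tt N23401 (iv1 F115330)) (tt N23400 F115331) (tt N23403 F115327) (tt N79140 (iv3 F253121)) (tt N23397 F115328) (tt N79144 (iv5 F253144)) (tt N34478 F115329) (tt N23395 (iv7 D76814)))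
theorem Q45339 : ∀ i, i < 45339 → P i := stepQ 45338 Q45338 (allL N45338 (tt N24089 F115344) (tt N34854 F115345) (tt N23407 F115416) (tt N71962 (iv3 F339038)) (tt N23396 (iv4 D76821)) (tt N70992 (iv5 F325437)) (tt N46668 (iv6 F125758)) (tt N23405 F115417))
theorem Q45340 : ∀ i, i < 45340 → P i := stepQ 45339 Q45339 (allL N45339 (tt N35025 F115346) (tt N34989 (iv0 F115352)) (tt N23408 (iv2 F115461)) (tt N41587 F326479) (tt N79145 D160286) (tt N23396 (iv5 D76822)) (tt N34676 (iv6 F115347)) (tt N23406 (iv7 F115462)))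
theorem Q45341 : ∀ i, i < 45341 → P i := stepQ 45340 Q45340 (allL N45340 (tt N79146 D160293) (tt N79147 D160294) (tt N79148 D160295) (tt N23398 (iv3 D76827)) (tt N44684 F115364) (tt N64997 (iv5 F198789)) (tt N65047 (iv6 F302231)) (tt N34831 F115365))
theorem Q45342 : ∀ i, i < 45342 → P i := stepQ 45341 Q45341 (allL N45341 (tt N63953 (iv1 F191910)) (tt N23399 (iv0 D76828)) (tt N63950 (iv2 F355544)) (tt N79149 D160297) (tt N64375 (iv4 F350731)) (tt N79150 D160299) (tt N79151 D160300) (tt N63951 (iv7 F357684)))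
theorem Q45343 : ∀ i, i < 45343 → P i := stepQ 45342 Q45342 (allL N45342 (tt N23399 (iv1 D76829)) (tt N63953 F191909) (tt N63951 (iv2 F357681)) (tt N71786 (iv3 F350751)) (tt N64376 (iv4 F350732)) (tt N71785 (iv5 F355559)) (tt N79152 D160305) (tt N63950 (iv7 F355545)))
theorem Q45344 : ∀ i, i < 45344 → P i := stepQ 45343 Q45343 (allL N45343 (tt N69990 (iv1 F342819)) (tt N79153 D160307) (tt N63952 (iv2 F191903)) (tt N44564 F115366) (tt N79154 D160308) (tt N23399 (iv5 D76830)) (tt N23402 F115367) (tt N79155 D160309))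
theorem Q45345 : ∀ i, i < 45345 → P i := stepQ 45344 Q45344 (allL N45344 (tt N63951 (iv1 F191902)) (tt N63950 F191908) (tt N63953 (iv2 F191905)) (tt N44565 F115368) (tt N63897 (iv4 F191568)) (tt N79155 (iv5 F253211)) (tt N34517 F115369) (tt N23399 (iv7 D76831)))
theorem Q45346 : ∀ i, i < 45346 → P i := stepQ 45345 Q45345 (allL N45345 (tt N35264 (iv1 F301963)) (tt N35260 (iv0 F301960)) (tt N79142 (iv2 F253130)) (tt N76743 (iv3 F311976)) (tt N79156 D160317) (tt N23400 (iv5 D76834)) (tt N79157 D160318) (tt N79143 (iv7 F253137)))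
theorem Q45347 : ∀ i, i < 45347 → P i := stepQ 45346 Q45346 (allL N45346 (tt N64418 (iv1 F356075)) (tt N54389 (iv0 F305528)) (tt N71772 (iv2 F345498)) (tt N23401 (iv3 D76837)) (tt N79158 D160322) (tt N70966 (iv5 F345496)) (tt N79159 D160324) (tt N79141 (iv7 F253129)))
theorem Q45348 : ∀ i, i < 45348 → P i := stepQ 45347 Q45347 (allL N45347 (tt N35260 F303346) (tt N35264 F303347) (tt N79143 (iv2 F253136)) (tt N70966 (iv3 F345494)) (tt N79160 D160325) (tt N23401 (iv5 D76839)) (tt N69835 (iv6 F328518)) (tt N79142 (iv7 F253132)))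
theorem Q45349 : ∀ i, i < 45349 → P i := stepQ 45348 Q45348 (allL N45348 (tt N46664 F125738) (tt N34817 F303348) (tt N46661 F196912) (tt N79159 (iv3 F253230)) (tt N46377 (iv4 F123215)) (tt N38773 F328116) (tt N23401 (iv6 D76840)) (tt N46662 (iv7 F196911)))
theorem Q45350 : ∀ i, i < 45350 → P i := stepQ 45349 Q45349 (allL N45349 (tt N79144 (iv1 F253146)) (tt N23402 (iv0 D76841)) (tt N49304 F301396) (tt N79161 D160327) (tt N79162 D160328) (tt N24349 F301397) (tt N53464 (iv6 F302073)) (tt N64880 (iv7 F198425)))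
theorem Q45351 : ∀ i, i < 45351 → P i := stepQ 45350 Q45350 (allL N45350 (tt N23402 (iv1 D76842)) (tt N79144 F253145) (tt N64880 (iv2 F198424)) (tt N54333 (iv3 F324286)) (tt N79163 D160331) (tt N49305 F301965) (tt N71486 (iv6 F362162)) (tt N49304 F301966))
theorem Q45352 : ∀ i, i < 45352 → P i := stepQ 45351 Q45351 (allL N45351 (tt N65005 F303364) (tt N65030 (iv0 F304501)) (tt N65027 F303365) (tt N74007 (iv3 F323332)) (tt N23402 (iv4 D76843)) (tt N79164 D160336) (tt N79154 (iv6 F253209)) (tt N65026 (iv7 F304598)))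
theorem Q45353 : ∀ i, i < 45353 → P i := stepQ 45352 Q45352 (allL N45352 (tt N64880 F198427) (tt N49304 F301964) (tt N79144 (iv2 F253143)) (tt N44573 F115374) (tt N65026 (iv4 F304597)) (tt N23403 F115375) (tt N79165 D160338) (tt N23402 (iv7 D76844)))
theorem Q45354 : ∀ i, i < 45354 → P i := stepQ 45353 Q45353 (allL N45353 (tt N24161 F115387) (tt N24153 (iv0 F115388)) (tt N24158 F115471) (tt N57463 (iv3 F309200)) (tt N23404 (iv4 D76854)) (tt N47725 (iv5 F299108)) (tt N27731 F297120) (tt N24159 F115470))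
theorem Q45355 : ∀ i, i < 45355 → P i := stepQ 45354 Q45354 (allL N45354 (tt N23407 (iv1 F115397)) (tt N23405 (iv0 D76858)) (tt N34854 (iv2 F115394)) (tt N79166 D160343) (tt N24093 F115393) (tt N65004 (iv5 F301971)) (tt N34529 (iv6 F115396)) (tt N24089 F115395))
theorem Q45356 : ∀ i, i < 45356 → P i := stepQ 45355 Q45355 (allL N45355 (tt N57467 F337498) (tt N34857 (iv0 F337499)) (tt N71306 (iv2 F319006)) (tt N23405 (iv3 D76859)) (tt N57463 (iv4 F309201)) (tt N71269 (iv5 F339058)) (tt N44917 F301783) (tt N71962 (iv7 F339041)))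
theorem Q45357 : ∀ i, i < 45357 → P i := stepQ 45356 Q45356 (allL N45356 (tt N35255 (iv1 F304331)) (tt N35253 (iv0 F304326)) (tt N44923 (iv2 F303341)) (tt N71269 (iv3 F339057)) (tt N79167 D160352) (tt N23405 (iv5 D76860)) (tt N70867 (iv6 F341517)) (tt N70992 (iv7 F325438)))
theorem Q45358 : ∀ i, i < 45358 → P i := stepQ 45357 Q45357 (allL N45357 (tt N40421 F325846) (tt N79168 D160358) (tt N44924 (iv2 F304315)) (tt N79169 D160359) (tt N23406 (iv4 D76865)) (tt N79170 D160360) (tt N46736 (iv6 F304011)) (tt N79145 (iv7 F253166)))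
theorem Q45359 : ∀ i, i < 45359 → P i := stepQ 45358 Q45358 (allL N45358 (tt N64602 (iv1 F197823)) (tt N34809 F301785) (tt N46668 (iv2 F125757)) (tt N66489 (iv3 F322828)) (tt N23409 F115482) (tt N38776 F325791) (tt N23407 (iv6 D76874)) (tt N34569 F301787))
theorem Q45360 : ∀ i, i < 45360 → P i := stepQ 45359 Q45359 (allL N45359 (tt N79168 (iv1 F253286)) (tt N40421 F325845) (tt N79145 (iv2 F253164)) (tt N79171 D160372) (tt N23408 (iv4 D76875)) (tt N79172 D160373) (tt N45993 F302622) (tt N44924 (iv7 F304316)))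
theorem Q45361 : ∀ i, i < 45361 → P i := stepQ 45360 Q45360 (allL N45360 (tt N47875 F298896) (tt N23410 (iv0 D76887)) (tt N46710 F298897) (tt N79173 D160386) (tt N31212 F326985) (tt N79174 D160387) (tt N34775 F298899) (tt N31205 F326986))
theorem Q45362 : ∀ i, i < 45362 → P i := stepQ 45361 Q45361 (allL N45361 (tt N23410 (iv1 D76888)) (tt N47875 F299358) (tt N31205 F326973) (tt N79175 D160389) (tt N31196 F326974) (tt N79176 D160390) (tt N31194 F326975) (tt N46710 F299359))
theorem Q45363 : ∀ i, i < 45363 → P i := stepQ 45362 Q45362 (allL N45362 (tt N79177 D160392) (tt N79178 D160393) (tt N79179 D160394) (tt N23410 (iv3 D76889)) (tt N23432 F115501) (tt N79180 D160395) (tt N23418 F115502) (tt N65045 (iv7 F302226)))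
theorem Q45364 : ∀ i, i < 45364 → P i := stepQ 45363 Q45363 (allL N45363 (tt N79181 D160397) (tt N79182 D160398) (tt N65048 (iv2 F302232)) (tt N79180 (iv3 F253342)) (tt N79183 D160399) (tt N23410 (iv5 D76890)) (tt N79184 D160400) (tt N65046 (iv7 F302227)))
theorem Q45365 : ∀ i, i < 45365 → P i := stepQ 45364 Q45364 (allL N45364 (tt N79185 D160404) (tt N79186 D160405) (tt N79187 D160406) (tt N23412 (iv3 D76893)) (tt N49196 (iv4 F135380)) (tt N79188 D160407) (tt N79189 D160408) (tt N35222 F115507))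
theorem Q45366 : ∀ i, i < 45366 → P i := stepQ 45365 Q45365 (allL N45365 (tt N45633 (iv1 F119177)) (tt N63888 F191552) (tt N35225 F115508) (tt N79188 (iv3 F253366)) (tt N45378 F115562) (tt N23412 (iv5 D76894)) (tt N79190 D160409) (tt N35223 F115509))
theorem Q45367 : ∀ i, i < 45367 → P i := stepQ 45366 Q45366 (allL N45366 (tt N31828 (iv1 F325550)) (tt N47888 F303322) (tt N35226 F115510) (tt N79189 (iv3 F253368)) (tt N23413 F115511) (tt N58308 (iv5 F326095)) (tt N23412 (iv6 D76895)) (tt N57986 (iv7 F325543)))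
theorem Q45368 : ∀ i, i < 45368 → P i := stepQ 45367 Q45367 (allL N45367 (tt N79191 D160415) (tt N79192 D160416) (tt N79193 D160417) (tt N23414 (iv3 D76899)) (tt N45867 (iv4 F119776)) (tt N79194 D160418) (tt N31757 F326167) (tt N34459 F115526))
theorem Q45369 : ∀ i, i < 45369 → P i := stepQ 45368 Q45368 (allL N45368 (tt N45628 (iv1 F119157)) (tt N64955 (iv0 F198722)) (tt N35229 F115527) (tt N79194 (iv3 F253405)) (tt N45372 (iv4 F115541)) (tt N23414 (iv5 D76900)) (tt N79195 D160420) (tt N34460 F115528))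
theorem Q45370 : ∀ i, i < 45370 → P i := stepQ 45369 Q45369 (allL N45369 (tt N79196 D160432) (tt N79197 D160433) (tt N79198 D160434) (tt N23416 (iv3 D76904)) (tt N46542 (iv4 F125357)) (tt N79199 D160435) (tt N58715 (iv6 F325244)) (tt N35231 F115533))
theorem Q45371 : ∀ i, i < 45371 → P i := stepQ 45370 Q45370 (allL N45370 (tt N45947 (iv1 F119946)) (tt N23803 F115537) (tt N35235 F115534) (tt N79199 (iv3 F253427)) (tt N45330 F115536) (tt N23416 (iv5 D76905)) (tt N79200 D160437) (tt N35232 F115535))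
theorem Q45372 : ∀ i, i < 45372 → P i := stepQ 45371 Q45371 (allL N45371 (tt N79201 D160441) (tt N59549 (iv0 F358384)) (tt N79202 D160443) (tt N23417 (iv3 D76907)) (tt N46314 (iv4 F122781)) (tt N79203 D160444) (tt N79204 D160445) (tt N35234 F115539))
theorem Q45373 : ∀ i, i < 45373 → P i := stepQ 45372 Q45372 (allL N45372 (tt N23803 F115543) (tt N45947 (iv0 F119945)) (tt N35232 F115540) (tt N79203 (iv3 F253444)) (tt N45368 F115541) (tt N23417 (iv5 D76908)) (tt N59556 (iv6 F343784)) (tt N35235 F115542))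
theorem Q45374 : ∀ i, i < 45374 → P i := stepQ 45373 Q45373 (allL N45373 (tt N24981 F120874) (tt N34799 F298030) (tt N35233 F115544) (tt N79204 (iv3 F253446)) (tt N45327 F115545) (tt N59350 (iv5 F341339)) (tt N23417 (iv6 D76909)) (tt N46737 (iv7 F300474)))
theorem Q45375 : ∀ i, i < 45375 → P i := stepQ 45374 Q45374 (allL N45374 (tt N23418 (iv1 D76911)) (tt N35238 F115550) (tt N35236 (iv2 F257948)) (tt N79205 D160454) (tt N45882 (iv4 F119798)) (tt N79206 D160455) (tt N79207 D160456) (tt N35237 F257947))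
theorem Q45376 : ∀ i, i < 45376 → P i := stepQ 45375 Q45375 (allL N45375 (tt N35237 (iv1 F115551)) (tt N35236 F115549) (tt N23418 (iv2 D76912)) (tt N79148 (iv3 F253199)) (tt N23437 F115547) (tt N79208 D160457) (tt N79179 (iv6 F253341)) (tt N35238 F115548))
theorem Q45377 : ∀ i, i < 45377 → P i := stepQ 45376 Q45376 (allL N45376 (tt N79209 D160458) (tt N79210 D160459) (tt N79208 (iv2 F253456)) (tt N23419 F115552) (tt N79211 D160460) (tt N23418 (iv5 D76913)) (tt N79212 D160461) (tt N35239 F115553))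
theorem Q45378 : ∀ i, i < 45378 → P i := stepQ 45377 Q45377 (allL N45377 (tt N34832 (iv1 F115555)) (tt N23419 (iv0 D76914)) (tt N35241 F115557) (tt N79213 D160462) (tt N34468 (iv4 F115556)) (tt N34672 F115554) (tt N79214 D160463) (tt N35240 F115558))
theorem Q45379 : ∀ i, i < 45379 → P i := stepQ 45378 Q45378 (allL N45378 (tt N23419 (iv1 D76915)) (tt N34832 F115559) (tt N35240 F115563) (tt N79215 D160464) (tt N45365 (iv4 F115562)) (tt N34464 F115561) (tt N73552 (iv6 F343804)) (tt N35241 F115560))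
theorem Q45380 : ∀ i, i < 45380 → P i := stepQ 45379 Q45379 (allL N45379 (tt N79216 D160466) (tt N79217 D160467) (tt N64998 (iv2 F198791)) (tt N79212 (iv3 F253464)) (tt N64361 (iv4 F196335)) (tt N79184 (iv5 F253346)) (tt N23419 (iv6 D76916)) (tt N79218 D160468))
theorem Q45381 : ∀ i, i < 45381 → P i := stepQ 45380 Q45380 (allL N45380 (tt N34980 (iv1 F302775)) (tt N34977 (iv0 F302772)) (tt N46735 (iv2 F126397)) (tt N75802 (iv3 F234109)) (tt N59015 (iv4 F332915)) (tt N23420 (iv5 D76925)) (tt N59014 (iv6 F332943)) (tt N44934 F115590))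
theorem Q45382 : ∀ i, i < 45382 → P i := stepQ 45381 Q45381 (allL N45381 (tt N59524 (iv1 F343759)) (tt N47890 (iv0 F254132)) (tt N46736 (iv2 F126398)) (tt N79219 D160476) (tt N23421 (iv4 D76928)) (tt N59748 (iv5 F343753)) (tt N44924 F115593) (tt N44936 F115594))
theorem Q45383 : ∀ i, i < 45383 → P i := stepQ 45382 Q45382 (allL N45382 (tt N24710 (iv1 F318830)) (tt N24709 (iv0 F318831)) (tt N24712 (iv2 F318832)) (tt N23422 (iv3 D76929)) (tt N79219 (iv4 F253488)) (tt N24526 F316547) (tt N44928 F115595) (tt N24525 F316548))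
theorem Q45384 : ∀ i, i < 45384 → P i := stepQ 45383 Q45383 (allL N45383 (tt N45484 (iv1 F116017)) (tt N24042 F115600) (tt N44933 F115597) (tt N24526 (iv3 F315684)) (tt N44551 F115599) (tt N23422 (iv5 D76930)) (tt N24718 (iv6 F315685)) (tt N24080 F313285))
theorem Q45385 : ∀ i, i < 45385 → P i := stepQ 45384 Q45384 (allL N45384 (tt N46629 F151617) (tt N24192 (iv0 F299199)) (tt N46582 (iv2 F125545)) (tt N30688 F311259) (tt N23425 F115629) (tt N48479 (iv5 F299085)) (tt N23423 (iv6 D76941)) (tt N30680 F311260))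
theorem Q45386 : ∀ i, i < 45386 → P i := stepQ 45385 Q45385 (allL N45385 (tt N27719 (iv1 F116790)) (tt N23424 (iv0 D76942)) (tt N34952 F297505) (tt N31304 F324778) (tt N79220 D160487) (tt N24325 (iv5 F116828)) (tt N24326 (iv6 F116934)) (tt N31301 (iv7 F324934)))
theorem Q45387 : ∀ i, i < 45387 → P i := stepQ 45386 Q45386 (allL N45386 (tt N48433 (iv1 F299820)) (tt N23681 (iv0 F299826)) (tt N46583 (iv2 F125547)) (tt N79221 D160490) (tt N23424 (iv4 D76944)) (tt N60488 (iv5 F358953)) (tt N45991 (iv6 F120031)) (tt N44931 F115634))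
theorem Q45388 : ∀ i, i < 45388 → P i := stepQ 45387 Q45387 (allL N45387 (tt N79222 D160492) (tt N79223 D160493) (tt N24703 (iv2 F318841)) (tt N23426 (iv3 D76947)) (tt N79221 (iv4 F253518)) (tt N24697 F316549) (tt N45519 (iv6 F318843)) (tt N44932 F115637))
theorem Q45389 : ∀ i, i < 45389 → P i := stepQ 45388 Q45388 (allL N45388 (tt N44629 F126152) (tt N34637 (iv0 F297535)) (tt N35908 F325587) (tt N32369 (iv3 F326414)) (tt N23428 (iv4 D76960)) (tt N65729 (iv5 F341728)) (tt N32366 F325588) (tt N44937 F115670))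
theorem Q45390 : ∀ i, i < 45390 → P i := stepQ 45389 Q45389 (allL N45389 (tt N44639 F333774) (tt N52834 (iv0 F333783)) (tt N79224 D160514) (tt N23429 (iv3 D76962)) (tt N32369 (iv4 F326415)) (tt N69332 (iv5 F313454)) (tt N32367 F325716) (tt N44938 F115673))
theorem Q45391 : ∀ i, i < 45391 → P i := stepQ 45390 Q45390 (allL N45390 (tt N31956 F323174) (tt N31954 F323175) (tt N44940 F115677) (tt N32367 (iv3 F324594)) (tt N23430 F115678) (tt N44095 F318536) (tt N23429 (iv6 D76964)) (tt N35910 F323176))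
theorem Q45392 : ∀ i, i < 45392 → P i := stepQ 45391 Q45391 (allL N45391 (tt N47085 F319511) (tt N23432 (iv0 D76972)) (tt N79225 D160537) (tt N79226 D160538) (tt N79227 D160539) (tt N38632 F331722) (tt N64076 (iv6 F341232)) (tt N79228 D160542))
theorem Q45393 : ∀ i, i < 45393 → P i := stepQ 45392 Q45392 (allL N45392 (tt N23432 (iv1 D76973)) (tt N47085 F319510) (tt N79228 (iv2 F253624)) (tt N45444 (iv3 F331727)) (tt N79229 D160544) (tt N45443 (iv5 F331728)) (tt N71750 (iv6 F331732)) (tt N79225 F253623))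
theorem Q45394 : ∀ i, i < 45394 → P i := stepQ 45393 Q45393 (allL N45393 (tt N79225 (iv1 F331724)) (tt N79228 (iv0 F331729)) (tt N23432 (iv2 D76974)) (tt N44944 F115698) (tt N79179 (iv4 F253340)) (tt N47076 F319515) (tt N23437 F115699) (tt N47085 F319516))
theorem Q45395 : ∀ i, i < 45395 → P i := stepQ 45394 Q45394 (allL N45394 (tt N79228 (iv1 F331730)) (tt N79225 (iv0 F331723)) (tt N47085 (iv2 F317227)) (tt N23434 F115702) (tt N65045 (iv4 F302225)) (tt N47077 F315012) (tt N35500 F115703) (tt N23432 (iv7 D76976)))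
theorem Q45396 : ∀ i, i < 45396 → P i := stepQ 45395 Q45395 (allL N45395 (tt N44552 (iv1 F115706)) (tt N23433 (iv0 D76977)) (tt N44946 (iv2 F115707)) (tt N47109 (iv3 F313448)) (tt N42841 F311132) (tt N23485 F115704) (tt N45590 (iv6 F313449)) (tt N24112 (iv7 F311622)))
theorem Q45397 : ∀ i, i < 45397 → P i := stepQ 45396 Q45396 (allL N45396 (tt N24112 (iv1 F311621)) (tt N44946 F115723) (tt N44552 F115718) (tt N47077 (iv3 F312557)) (tt N34426 F115719) (tt N23434 F115720) (tt N41057 F115721) (tt N23433 (iv7 D76979)))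
theorem Q45398 : ∀ i, i < 45398 → P i := stepQ 45397 Q45397 (allL N45397 (tt N23778 (iv1 F254421)) (tt N79230 D160564) (tt N75214 (iv2 F344724)) (tt N23435 (iv3 D76981)) (tt N46326 F122822) (tt N50701 (iv5 F250804)) (tt N65841 (iv6 F336509)) (tt N35534 (iv7 F254331)))
theorem Q45399 : ∀ i, i < 45399 → P i := stepQ 45398 Q45398 (allL N45398 (tt N78416 F248719) (tt N79231 D160568) (tt N35538 F254326) (tt N79232 D160569) (tt N23435 (iv4 D76982)) (tt N79233 D160570) (tt N79234 D160571) (tt N35535 (iv7 F254333)))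
theorem Q45400 : ∀ i, i < 45400 → P i := stepQ 45399 Q45399 (allL N45399 (tt N59537 F336503) (tt N48349 (iv0 F336504)) (tt N35539 F254328) (tt N65841 (iv3 F336508)) (tt N79234 (iv4 F253653)) (tt N43268 (iv5 F336472)) (tt N23435 (iv6 D76984)) (tt N75215 (iv7 F339249)))
theorem Q45401 : ∀ i, i < 45401 → P i := stepQ 45400 Q45400 (allL N45400 (tt N47108 F330705) (tt N45894 (iv0 F254319)) (tt N64138 (iv2 F254351)) (tt N23436 (iv3 D76986)) (tt N79235 D160581) (tt N50704 (iv5 F250816)) (tt N79236 D160582) (tt N35537 F254321))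
theorem Q45402 : ∀ i, i < 45402 → P i := stepQ 45401 Q45401 (allL N45401 (tt N79231 (iv1 F253652)) (tt N78416 F253656) (tt N35535 (iv2 F254332)) (tt N79237 D160583) (tt N23436 (iv4 D76987)) (tt N79238 D160584) (tt N79239 D160585) (tt N35538 F254329))
theorem Q45403 : ∀ i, i < 45403 → P i := stepQ 45402 Q45402 (allL N45402 (tt N23703 F339259) (tt N64105 F339260) (tt N35536 (iv2 F254336)) (tt N79236 (iv3 F253664)) (tt N79239 (iv4 F253666)) (tt N79240 D160588) (tt N23436 (iv6 D76989)) (tt N64104 (iv7 F341249)))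
theorem Q45404 : ∀ i, i < 45404 → P i := stepQ 45403 Q45403 (allL N45403 (tt N79241 D160594) (tt N79242 D160595) (tt N48389 (iv2 F132305)) (tt N47529 (iv3 F323367)) (tt N24578 F115743) (tt N79243 D160596) (tt N23440 (iv6 D76996)) (tt N47522 F323232))
theorem Q45405 : ∀ i, i < 45405 → P i := stepQ 45404 Q45404 (allL N45404 (tt N79244 D160603) (tt N46674 (iv0 F301009)) (tt N24839 F299447) (tt N64665 (iv3 F198018)) (tt N79245 D160605) (tt N23441 (iv5 D76999)) (tt N79243 (iv6 F253682)) (tt N24837 (iv7 F301549)))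
theorem Q45406 : ∀ i, i < 45406 → P i := stepQ 45405 Q45405 (allL N45405 (tt N59762 (iv1 F325349)) (tt N46676 (iv0 F298006)) (tt N45465 (iv2 F115945)) (tt N55156 (iv3 F353170)) (tt N23442 (iv4 D77013)) (tt N79246 D160609) (tt N23443 F115747) (tt N64233 (iv7 F194108)))
theorem Q45407 : ∀ i, i < 45407 → P i := stepQ 45406 Q45406 (allL N45406 (tt N23717 (iv1 F115750)) (tt N23443 (iv0 D77015)) (tt N44685 (iv2 F115751)) (tt N79247 D160610) (tt N24891 F115749) (tt N79248 D160611) (tt N79249 D160612) (tt N44657 (iv7 F115752)))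
theorem Q45408 : ∀ i, i < 45408 → P i := stepQ 45407 Q45407 (allL N45407 (tt N79250 D160616) (tt N79251 D160617) (tt N79252 D160618) (tt N23443 (iv3 D77017)) (tt N63883 (iv4 F191540)) (tt N79253 D160619) (tt N55156 (iv6 F353171)) (tt N45458 (iv7 F115939)))
theorem Q45409 : ∀ i, i < 45409 → P i := stepQ 45408 Q45408 (allL N45408 (tt N78423 (iv1 F248768)) (tt N78490 (iv0 F248951)) (tt N45464 (iv2 F115944)) (tt N79253 (iv3 F253720)) (tt N45797 (iv4 F119669)) (tt N23443 (iv5 D77018)) (tt N79254 D160620) (tt N45459 (iv7 F115940)))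
theorem Q45410 : ∀ i, i < 45410 → P i := stepQ 45409 Q45409 (allL N45409 (tt N48388 (iv1 F132298)) (tt N23444 (iv0 D77019)) (tt N36527 (iv2 F115758)) (tt N63593 (iv3 F188245)) (tt N37369 F306091) (tt N79255 D160621) (tt N24715 (iv6 F302239)) (tt N36922 (iv7 F308039)))
theorem Q45411 : ∀ i, i < 45411 → P i := stepQ 45410 Q45410 (allL N45410 (tt N36527 F132282) (tt N36922 F308928) (tt N23444 (iv2 D77020)) (tt N47532 F317573) (tt N37373 F308929) (tt N41613 F307978) (tt N38102 (iv6 F311080)) (tt N48388 (iv7 F132297)))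
theorem Q45412 : ∀ i, i < 45412 → P i := stepQ 45411 Q45411 (allL N45411 (tt N42110 F308226) (tt N44596 F307305) (tt N41613 F307306) (tt N23445 F115759) (tt N41596 F307307) (tt N23444 (iv5 D77021)) (tt N47530 F321686) (tt N41616 F307308))
theorem Q45413 : ∀ i, i < 45413 → P i := stepQ 45412 Q45412 (allL N45412 (tt N47264 (iv1 F321888)) (tt N47491 (iv0 F321526)) (tt N47016 F319550) (tt N47530 (iv3 F321527)) (tt N45436 (iv4 F115836)) (tt N68045 (iv5 F316724)) (tt N23445 (iv6 D77023)) (tt N47520 (iv7 F321525)))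
theorem Q45414 : ∀ i, i < 45414 → P i := stepQ 45413 Q45413 (allL N45413 (tt N23644 F121307) (tt N23446 (iv0 D77024)) (tt N24582 F121308) (tt N63617 (iv3 F302562)) (tt N24570 F121309) (tt N47281 (iv5 F333791)) (tt N24820 F299615) (tt N24584 F121310))
theorem Q45415 : ∀ i, i < 45415 → P i := stepQ 45414 Q45414 (allL N45414 (tt N44834 (iv1 F297467)) (tt N44683 (iv0 F297468)) (tt N44843 (iv2 F296597)) (tt N79256 D160638) (tt N23447 (iv4 D77040)) (tt N79257 D160639) (tt N23448 F115766) (tt N44844 (iv7 F297469)))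
theorem Q45416 : ∀ i, i < 45416 → P i := stepQ 45415 Q45415 (allL N45415 (tt N23481 (iv1 F115770)) (tt N23448 (iv0 D77042)) (tt N44645 (iv2 F115769)) (tt N64075 (iv3 F192936)) (tt N23514 F115768) (tt N79258 D160640) (tt N24631 (iv6 F297012)) (tt N44686 F115771))
theorem Q45417 : ∀ i, i < 45417 → P i := stepQ 45416 Q45416 (allL N45416 (tt N58663 (iv1 F358146)) (tt N79259 D160642) (tt N79260 D160643) (tt N23448 (iv3 D77043)) (tt N46540 (iv4 F125354)) (tt N79261 D160644) (tt N79256 (iv6 F253749)) (tt N46316 (iv7 F122788)))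
theorem Q45418 : ∀ i, i < 45418 → P i := stepQ 45417 Q45417 (allL N45417 (tt N50700 (iv1 F296205)) (tt N79248 (iv0 F253706)) (tt N46315 (iv2 F122783)) (tt N79261 (iv3 F253755)) (tt N45468 (iv4 F115962)) (tt N23448 (iv5 D77044)) (tt N79262 D160645) (tt N46317 (iv7 F122790)))
theorem Q45419 : ∀ i, i < 45419 → P i := stepQ 45418 Q45418 (allL N45418 (tt N42420 (iv1 F115772)) (tt N23449 (iv0 D77045)) (tt N46425 F156518) (tt N63251 (iv3 F298805)) (tt N54296 (iv4 F156517)) (tt N64709 (iv5 F198191)) (tt N52842 (iv6 F298808)) (tt N46424 F156519))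
theorem Q45420 : ∀ i, i < 45420 → P i := stepQ 45419 Q45419 (allL N45419 (tt N23449 (iv1 D77046)) (tt N42420 F115773) (tt N46424 (iv2 F156520)) (tt N23573 (iv3 F298563)) (tt N54299 (iv4 F156529)) (tt N64708 (iv5 F198185)) (tt N23571 (iv6 F298811)) (tt N46425 (iv7 F156521)))
theorem Q45421 : ∀ i, i < 45421 → P i := stepQ 45420 Q45420 (allL N45420 (tt N78332 (iv1 F248327)) (tt N78331 F248324) (tt N63938 (iv2 F191876)) (tt N23450 F115774) (tt N43449 F115775) (tt N23449 (iv5 D77047)) (tt N79263 D160648) (tt N45437 (iv7 F115840)))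
theorem Q45422 : ∀ i, i < 45422 → P i := stepQ 45421 Q45421 (allL N45421 (tt N68976 (iv1 F311386)) (tt N68980 (iv0 F330748)) (tt N66831 (iv2 F205776)) (tt N23451 F115776) (tt N46447 (iv4 F123673)) (tt N47118 (iv5 F298815)) (tt N23449 (iv6 D77048)) (tt N63834 (iv7 F311406)))
theorem Q45423 : ∀ i, i < 45423 → P i := stepQ 45422 Q45422 (allL N45422 (tt N76656 (iv1 F353592)) (tt N42066 (iv0 F353593)) (tt N23463 F115777) (tt N79263 (iv3 F253756)) (tt N24141 F115778) (tt N47120 (iv5 F298819)) (tt N23450 (iv6 D77049)) (tt N79264 D160656))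
theorem Q45424 : ∀ i, i < 45424 → P i := stepQ 45423 Q45423 (allL N45423 (tt N25984 (iv1 F299335)) (tt N25983 F298136) (tt N23469 F115886) (tt N34624 F298137) (tt N47132 (iv4 F300620)) (tt N23452 (iv5 D77056)) (tt N34634 (iv6 F121368)) (tt N23472 F115887))
theorem Q45425 : ∀ i, i < 45425 → P i := stepQ 45424 Q45424 (allL N45424 (tt N34792 (iv1 F117598)) (tt N44804 F298138) (tt N23471 F115877) (tt N79158 (iv3 F253227)) (tt N23453 (iv4 D77058)) (tt N47129 (iv5 F300624)) (tt N44803 (iv6 F300628)) (tt N23468 F115878))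
theorem Q45426 : ∀ i, i < 45426 → P i := stepQ 45425 Q45425 (allL N45425 (tt N25983 (iv1 F298070)) (tt N25984 (iv0 F299334)) (tt N23472 (iv2 F115908)) (tt N45611 (iv3 F299372)) (tt N47133 (iv4 F299377)) (tt N23453 (iv5 D77059)) (tt N34656 (iv6 F115789)) (tt N23469 F115907))
theorem Q45427 : ∀ i, i < 45427 → P i := stepQ 45426 Q45426 (allL N45426 (tt N79265 D160675) (tt N79266 D160676) (tt N79267 D160677) (tt N23456 (iv3 D77065)) (tt N46282 (iv4 F122676)) (tt N79268 D160678) (tt N47145 (iv6 F299763)) (tt N46313 (iv7 F122780)))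
theorem Q45428 : ∀ i, i < 45428 → P i := stepQ 45427 Q45427 (allL N45427 (tt N45797 (iv1 F119672)) (tt N45795 (iv0 F119664)) (tt N23484 F115799) (tt N79268 (iv3 F253817)) (tt N24052 F115800) (tt N23456 (iv5 D77066)) (tt N79269 D160679) (tt N45475 (iv7 F115972)))
theorem Q45429 : ∀ i, i < 45429 → P i := stepQ 45428 Q45428 (allL N45428 (tt N44759 F298165) (tt N43257 F115803) (tt N23457 (iv2 D77067)) (tt N46349 (iv3 F122891)) (tt N34499 F115801) (tt N45032 F115802) (tt N48269 F318106) (tt N44758 F298166))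
theorem Q45430 : ∀ i, i < 45430 → P i := stepQ 45429 Q45429 (allL N45429 (tt N65161 (iv1 F342137)) (tt N65156 (iv0 F336447)) (tt N46351 (iv2 F122899)) (tt N61470 (iv3 F178894)) (tt N44733 F115806) (tt N52841 (iv5 F300664)) (tt N23458 (iv6 D77069)) (tt N79270 D160687))
theorem Q45431 : ∀ i, i < 45431 → P i := stepQ 45430 Q45430 (allL N45430 (tt N24489 F297032) (tt N23459 (iv0 D77106)) (tt N24495 F297033) (tt N43415 F115821) (tt N47066 F128208) (tt N42093 (iv5 F305671)) (tt N78637 (iv6 F348445)) (tt N24494 F297034))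
theorem Q45432 : ∀ i, i < 45432 → P i := stepQ 45431 Q45431 (allL N45431 (tt N23459 (iv1 D77107)) (tt N24489 F297027) (tt N24494 F297028) (tt N51974 (iv3 F147523)) (tt N47064 (iv4 F128185)) (tt N42036 (iv5 F305670)) (tt N78628 (iv6 F307478)) (tt N24495 F297029))
theorem Q45433 : ∀ i, i < 45433 → P i := stepQ 45432 Q45432 (allL N45432 (tt N24495 F297024) (tt N24494 F297025) (tt N23459 (iv2 D77108)) (tt N24423 F115822) (tt N43304 F115823) (tt N61003 (iv5 F177566)) (tt N78555 (iv6 F298828)) (tt N24489 F297026))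
theorem Q45434 : ∀ i, i < 45434 → P i := stepQ 45433 Q45433 (allL N45433 (tt N64054 (iv1 F192418)) (tt N52376 (iv0 F149127)) (tt N61003 (iv2 F177565)) (tt N23460 F115824) (tt N79271 D160712) (tt N23459 (iv5 D77109)) (tt N79272 D160713) (tt N24496 F296813))
theorem Q45435 : ∀ i, i < 45435 → P i := stepQ 45434 Q45434 (allL N45434 (tt N79273 D160717) (tt N79274 D160718) (tt N24425 F115826) (tt N79272 (iv3 F253864)) (tt N24780 F296814) (tt N78567 (iv5 F298396)) (tt N23460 (iv6 D77111)) (tt N79275 D160720))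
theorem Q45436 : ∀ i, i < 45436 → P i := stepQ 45435 Q45435 (allL N45435 (tt N42093 F307674) (tt N42036 F307675) (tt N42091 F307676) (tt N23461 (iv3 D77116)) (tt N74750 F307677) (tt N23629 F115835) (tt N79276 D160724) (tt N42092 F307678))
theorem Q45437 : ∀ i, i < 45437 → P i := stepQ 45436 Q45436 (allL N45436 (tt N79277 D160725) (tt N79278 D160726) (tt N46431 (iv2 F123617)) (tt N79276 (iv3 F253883)) (tt N45412 F115836) (tt N47608 (iv5 F300890)) (tt N23461 (iv6 D77117)) (tt N79279 D160728))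
theorem Q45438 : ∀ i, i < 45438 → P i := stepQ 45437 Q45437 (allL N45437 (tt N66912 (iv1 F206070)) (tt N66911 (iv0 F206066)) (tt N44560 F115837) (tt N23462 (iv3 D77118)) (tt N43736 F115838) (tt N24134 F115839) (tt N74758 (iv6 F347966)) (tt N45420 F115840))
theorem Q45439 : ∀ i, i < 45439 → P i := stepQ 45438 Q45438 (allL N45438 (tt N79280 D160730) (tt N75338 (iv0 F350710)) (tt N24141 F115841) (tt N74758 (iv3 F347963)) (tt N23463 F115842) (tt N78370 (iv5 F347970)) (tt N23462 (iv6 D77119)) (tt N79281 D160733))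
theorem Q45440 : ∀ i, i < 45440 → P i := stepQ 45439 Q45439 (allL N45439 (tt N79264 (iv1 F253767)) (tt N23463 (iv0 D77120)) (tt N76656 (iv2 F347989)) (tt N42029 (iv3 F347976)) (tt N62598 (iv4 F347977)) (tt N79282 D160737) (tt N79283 D160738) (tt N42066 (iv7 F347978)))
theorem Q45441 : ∀ i, i < 45441 → P i := stepQ 45440 Q45440 (allL N45440 (tt N23463 (iv1 D77121)) (tt N79264 F253766) (tt N42066 F347979) (tt N65446 (iv3 F347987)) (tt N74754 (iv4 F347980)) (tt N65443 (iv5 F347988)) (tt N79284 D160743) (tt N76656 (iv7 F347990)))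
theorem Q45442 : ∀ i, i < 45442 → P i := stepQ 45441 Q45441 (allL N45441 (tt N75204 (iv1 F353650)) (tt N79285 D160745) (tt N47120 (iv2 F298818)) (tt N76113 (iv3 F236445)) (tt N72905 (iv4 F353648)) (tt N23463 (iv5 D77122)) (tt N23465 F115843) (tt N79286 D160747))
theorem Q45443 : ∀ i, i < 45443 → P i := stepQ 45442 Q45442 (allL N45442 (tt N42066 F353594) (tt N76656 (iv0 F353591)) (tt N79264 (iv2 F253763)) (tt N76114 (iv3 F236447)) (tt N79281 (iv4 F253893)) (tt N79286 (iv5 F253901)) (tt N46435 (iv6 F123620)) (tt N23463 (iv7 D77123)))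
theorem Q45444 : ∀ i, i < 45444 → P i := stepQ 45443 Q45443 (allL N45443 (tt N68362 (iv1 F353088)) (tt N70093 (iv0 F331733)) (tt N70094 (iv2 F330199)) (tt N23464 (iv3 D77127)) (tt N52816 (iv4 F151518)) (tt N45392 F331728) (tt N66474 (iv6 F327821)) (tt N63257 (iv7 F321353)))
theorem Q45445 : ∀ i, i < 45445 → P i := stepQ 45444 Q45444 (allL N45444 (tt N24613 (iv1 F300897)) (tt N24616 (iv0 F300896)) (tt N78636 (iv2 F298790)) (tt N45392 F331727) (tt N79287 D160763) (tt N23464 (iv5 D77128)) (tt N79288 D160764) (tt N78551 (iv7 F298787)))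
theorem Q45446 : ∀ i, i < 45446 → P i := stepQ 45445 Q45445 (allL N45445 (tt N24711 (iv1 F300902)) (tt N79219 (iv0 F318833)) (tt N47119 (iv2 F298821)) (tt N72908 (iv3 F353652)) (tt N23465 (iv4 D77132)) (tt N59584 (iv5 F343712)) (tt N72905 (iv6 F353649)) (tt N47116 (iv7 F300912)))
theorem Q45447 : ∀ i, i < 45447 → P i := stepQ 45446 Q45446 (allL N45446 (tt N23471 (iv1 F115865)) (tt N23468 (iv0 D77145)) (tt N44804 F298150) (tt N79289 D160779) (tt N24630 F298151) (tt N24709 (iv5 F300635)) (tt N44814 (iv6 F115860)) (tt N34792 F117576))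
theorem Q45448 : ∀ i, i < 45448 → P i := stepQ 45447 Q45447 (allL N45447 (tt N79290 D160781) (tt N76940 (iv0 F345840)) (tt N38089 (iv2 F314211)) (tt N23468 (iv3 D77147)) (tt N79141 (iv4 F253127)) (tt N78414 (iv5 F333772)) (tt N38087 (iv6 F314209)) (tt N79158 (iv7 F253228)))
theorem Q45449 : ∀ i, i < 45449 → P i := stepQ 45448 Q45448 (allL N45448 (tt N46919 (iv1 F300915)) (tt N35272 (iv0 F300916)) (tt N44805 (iv2 F300617)) (tt N78414 (iv3 F333771)) (tt N79291 D160788) (tt N23468 (iv5 D77148)) (tt N68250 (iv6 F336018)) (tt N47129 (iv7 F300625)))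
theorem Q45450 : ∀ i, i < 45450 → P i := stepQ 45449 Q45449 (allL N45449 (tt N23472 (iv1 F115919)) (tt N23469 (iv0 D77151)) (tt N25984 (iv2 F299336)) (tt N45721 F121410) (tt N59716 (iv4 F325192)) (tt N24615 (iv5 F297797)) (tt N49842 F297260) (tt N25983 (iv7 F298073)))
theorem Q45451 : ∀ i, i < 45451 → P i := stepQ 45450 Q45450 (allL N45450 (tt N46920 (iv1 F300923)) (tt N35275 (iv0 F300436)) (tt N47132 (iv2 F300619)) (tt N71050 (iv3 F359248)) (tt N23469 (iv4 D77153)) (tt N59579 (iv5 F343717)) (tt N45688 (iv6 F121470)) (tt N47133 (iv7 F299379)))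
theorem Q45452 : ∀ i, i < 45452 → P i := stepQ 45451 Q45451 (allL N45451 (tt N44801 (iv1 F300932)) (tt N44753 (iv0 F299526)) (tt N44803 (iv2 F300626)) (tt N38097 F311790) (tt N23473 F115927) (tt N46771 (iv5 F299448)) (tt N23471 (iv6 D77163)) (tt N38093 (iv7 F314221)))
theorem Q45453 : ∀ i, i < 45453 → P i := stepQ 45452 Q45452 (allL N45452 (tt N35275 (iv1 F300437)) (tt N46920 (iv0 F300922)) (tt N47133 (iv2 F299376)) (tt N79292 D160810) (tt N23472 (iv4 D77164)) (tt N79293 D160811) (tt N45974 F298322) (tt N47132 (iv7 F300622)))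
theorem Q45454 : ∀ i, i < 45454 → P i := stepQ 45453 Q45453 (allL N45453 (tt N25987 F296610) (tt N34652 (iv0 F115929)) (tt N34656 F115928) (tt N45727 F296611) (tt N45974 (iv4 F298086)) (tt N46222 (iv5 F122553)) (tt N23472 (iv6 D77165)) (tt N34657 (iv7 F115930)))
theorem Q45455 : ∀ i, i < 45455 → P i := stepQ 45454 Q45454 (allL N45454 (tt N24631 F298323) (tt N24629 F298324) (tt N47643 F298325) (tt N79294 D160819) (tt N23474 (iv4 D77177)) (tt N79295 D160820) (tt N47650 F298326) (tt N44851 F298327))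
theorem Q45456 : ∀ i, i < 45456 → P i := stepQ 45455 Q45455 (allL N45455 (tt N31183 F323962) (tt N31213 (iv0 F323967)) (tt N31193 F323963) (tt N31198 F323964) (tt N47650 (iv4 F297250)) (tt N29070 (iv5 F297235)) (tt N23474 (iv6 D77179)) (tt N26768 F296273))
theorem Q45457 : ∀ i, i < 45457 → P i := stepQ 45456 Q45456 (allL N45456 (tt N79296 D160831) (tt N79297 D160832) (tt N79298 D160833) (tt N23475 (iv3 D77182)) (tt N23489 F115935) (tt N55554 (iv5 F343699)) (tt N23483 F115936) (tt N47143 (iv7 F300944)))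
theorem Q45458 : ∀ i, i < 45458 → P i := stepQ 45457 Q45457 (allL N45457 (tt N78638 (iv1 F300945)) (tt N79299 D160837) (tt N47146 (iv2 F300465)) (tt N55554 (iv3 F343698)) (tt N59585 (iv4 F343707)) (tt N23475 (iv5 D77183)) (tt N55553 (iv6 F348743)) (tt N47144 (iv7 F300953)))
theorem Q45459 : ∀ i, i < 45459 → P i := stepQ 45458 Q45458 (allL N45458 (tt N79300 D160842) (tt N79301 D160843) (tt N79302 D160844) (tt N23477 (iv3 D77186)) (tt N45941 (iv4 F119935)) (tt N79303 D160845) (tt N79304 D160846) (tt N45407 F115939))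
theorem Q45460 : ∀ i, i < 45460 → P i := stepQ 45459 Q45459 (allL N45459 (tt N46692 (iv1 F125880)) (tt N79258 (iv0 F253753)) (tt N45791 (iv2 F119651)) (tt N79303 (iv3 F254008)) (tt N45474 F115970) (tt N23477 (iv5 D77187)) (tt N79305 D160847) (tt N45408 F115940))
theorem Q45461 : ∀ i, i < 45461 → P i := stepQ 45460 Q45460 (allL N45460 (tt N31877 (iv1 F325629)) (tt N31875 F324862) (tt N45792 (iv2 F119653)) (tt N79304 (iv3 F254010)) (tt N23478 F115941) (tt N54484 (iv5 F344511)) (tt N23477 (iv6 D77188)) (tt N58478 (iv7 F325207)))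
theorem Q45462 : ∀ i, i < 45462 → P i := stepQ 45461 Q45461 (allL N45461 (tt N45794 (iv1 F119660)) (tt N23478 (iv0 D77189)) (tt N31310 F323922) (tt N45720 F121382) (tt N31046 (iv4 F325200)) (tt N49842 (iv5 F296276)) (tt N34631 (iv6 F121267)) (tt N45793 (iv7 F121494)))
theorem Q45463 : ∀ i, i < 45463 → P i := stepQ 45462 Q45462 (allL N45462 (tt N45793 (iv1 F119655)) (tt N31310 F323923) (tt N45794 (iv2 F119656)) (tt N31063 (iv3 F325185)) (tt N58478 (iv4 F325205)) (tt N31222 F323924) (tt N34730 (iv6 F120788)) (tt N23478 (iv7 D77191)))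
theorem Q45464 : ∀ i, i < 45464 → P i := stepQ 45463 Q45463 (allL N45463 (tt N58468 (iv1 F365805)) (tt N79306 D160854) (tt N79307 D160855) (tt N23479 (iv3 D77192)) (tt N52248 (iv4 F148259)) (tt N79308 D160856) (tt N79309 D160857) (tt N45790 (iv7 F119650)))
theorem Q45465 : ∀ i, i < 45465 → P i := stepQ 45464 Q45464 (allL N45464 (tt N79258 (iv1 F253754)) (tt N46692 (iv0 F125879)) (tt N45408 F115944) (tt N79308 (iv3 F254018)) (tt N45473 F115968) (tt N23479 (iv5 D77193)) (tt N79310 D160858) (tt N45791 (iv7 F119652)))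
theorem Q45466 : ∀ i, i < 45466 → P i := stepQ 45465 Q45465 (allL N45465 (tt N47604 (iv1 F298055)) (tt N47135 (iv0 F298057)) (tt N45405 F115945) (tt N79309 (iv3 F254019)) (tt N23480 F115946) (tt N47621 (iv5 F298061)) (tt N23479 (iv6 D77194)) (tt N46211 (iv7 F122513)))
theorem Q45467 : ∀ i, i < 45467 → P i := stepQ 45466 Q45466 (allL N45466 (tt N79311 D160864) (tt N79312 D160865) (tt N79313 D160866) (tt N23481 (iv3 D77199)) (tt N35234 F115958) (tt N79314 D160867) (tt N59956 (iv6 F325572)) (tt N46314 (iv7 F122782)))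
theorem Q45468 : ∀ i, i < 45468 → P i := stepQ 45467 Q45467 (allL N45467 (tt N79248 (iv1 F253707)) (tt N50700 (iv0 F296204)) (tt N46317 (iv2 F122789)) (tt N79314 (iv3 F254033)) (tt N44688 F115959) (tt N23481 (iv5 D77200)) (tt N79315 D160869) (tt N46315 (iv7 F122784)))
theorem Q45469 : ∀ i, i < 45469 → P i := stepQ 45468 Q45468 (allL N45468 (tt N45802 (iv1 F119682)) (tt N23722 F115963) (tt N46324 (iv2 F122813)) (tt N31173 F326402) (tt N45417 F115962) (tt N23482 (iv5 D77206)) (tt N79316 D160888) (tt N46321 (iv7 F122803)))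
theorem Q45470 : ∀ i, i < 45470 → P i := stepQ 45469 Q45469 (allL N45469 (tt N46327 (iv1 F122826)) (tt N23483 (iv0 D77208)) (tt N46326 (iv2 F254343)) (tt N79317 D160894) (tt N75214 (iv4 F344726)) (tt N79318 D160896) (tt N52265 (iv6 F336507)) (tt N46325 (iv7 F254348)))
theorem Q45471 : ∀ i, i < 45471 → P i := stepQ 45470 Q45470 (allL N45470 (tt N23483 (iv1 D77209)) (tt N46327 F122827) (tt N46325 (iv2 F254347)) (tt N79319 D160899) (tt N35534 (iv4 F115964)) (tt N79320 D160900) (tt N79321 D160901) (tt N46326 (iv7 F254344)))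
theorem Q45472 : ∀ i, i < 45472 → P i := stepQ 45471 Q45471 (allL N45471 (tt N46326 F122823) (tt N46325 F122820) (tt N23483 (iv2 D77210)) (tt N79267 (iv3 F253816)) (tt N23494 F115965) (tt N79322 D160902) (tt N79298 (iv6 F253993)) (tt N46327 (iv7 F122825)))
theorem Q45473 : ∀ i, i < 45473 → P i := stepQ 45472 Q45472 (allL N45472 (tt N79323 D160903) (tt N51830 (iv0 F344656)) (tt N79322 (iv2 F254100)) (tt N23484 F115966) (tt N49909 (iv4 F348733)) (tt N23483 (iv5 D77211)) (tt N49908 (iv6 F348740)) (tt N46328 (iv7 F122829)))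
theorem Q45474 : ∀ i, i < 45474 → P i := stepQ 45473 Q45473 (allL N45473 (tt N45475 (iv1 F115975)) (tt N23484 (iv0 D77212)) (tt N45797 (iv2 F119668)) (tt N31056 F327203) (tt N45464 (iv4 F115968)) (tt N31050 F327204) (tt N79324 D160908) (tt N45795 (iv7 F119662)))
theorem Q45475 : ∀ i, i < 45475 → P i := stepQ 45474 Q45474 (allL N45474 (tt N23484 (iv1 D77213)) (tt N45475 (iv0 F115974)) (tt N45795 (iv2 F119661)) (tt N51876 (iv3 F326723)) (tt N45459 (iv4 F115970)) (tt N24892 F115969) (tt N51871 (iv6 F365878)) (tt N45797 (iv7 F119670)))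
theorem Q45476 : ∀ i, i < 45476 → P i := stepQ 45475 Q45475 (allL N45475 (tt N45474 F115974) (tt N45473 F115975) (tt N24052 F115971) (tt N79325 D160911) (tt N23484 (iv4 D77214)) (tt N24044 F115973) (tt N79326 D160912) (tt N45427 F115972))
theorem Q45477 : ∀ i, i < 45477 → P i := stepQ 45476 Q45476 (allL N45476 (tt N79327 D160913) (tt N79328 D160914) (tt N79269 (iv2 F253818)) (tt N49908 (iv3 F348739)) (tt N79326 (iv4 F254110)) (tt N55553 (iv5 F348742)) (tt N23484 (iv6 D77215)) (tt N79329 D160915))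
theorem Q45478 : ∀ i, i < 45478 → P i := stepQ 45477 Q45477 (allL N45477 (tt N47118 (iv1 F318085)) (tt N46272 (iv0 F330768)) (tt N79330 D160926) (tt N23485 (iv3 D77223)) (tt N45703 (iv4 F305662)) (tt N47109 F315912) (tt N45703 (iv6 F119452)) (tt N46464 (iv7 F123721)))
theorem Q45479 : ∀ i, i < 45479 → P i := stepQ 45478 Q45478 (allL N45478 (tt N46408 F192009) (tt N46361 (iv0 F123008)) (tt N46391 (iv2 F123275)) (tt N44587 F115993) (tt N23487 F115994) (tt N44896 F316421) (tt N23486 (iv6 D77227)) (tt N46373 F302378))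
theorem Q45480 : ∀ i, i < 45480 → P i := stepQ 45479 Q45479 (allL N45479 (tt N79331 D160946) (tt N23489 (iv0 D77242)) (tt N68590 (iv2 F336540)) (tt N79332 D160948) (tt N79333 D160949) (tt N38074 F336539) (tt N46159 (iv6 F336530)) (tt N79334 D160952))
theorem Q45481 : ∀ i, i < 45481 → P i := stepQ 45480 Q45480 (allL N45480 (tt N23489 (iv1 D77243)) (tt N79331 F254161) (tt N79334 (iv2 F254163)) (tt N79335 D160953) (tt N71038 (iv4 F349862)) (tt N68591 (iv5 F336544)) (tt N71037 (iv6 F351978)) (tt N68590 (iv7 F336543)))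
theorem Q45482 : ∀ i, i < 45482 → P i := stepQ 45481 Q45481 (allL N45481 (tt N68590 (iv1 F334241)) (tt N79334 (iv0 F336546)) (tt N23489 (iv2 D77244)) (tt N46307 (iv3 F122762)) (tt N79298 (iv4 F253992)) (tt N79336 D160959) (tt N23494 F116006) (tt N79331 (iv7 F254160)))
theorem Q45483 : ∀ i, i < 45483 → P i := stepQ 45482 Q45482 (allL N45482 (tt N79337 D160960) (tt N79338 D160961) (tt N79336 (iv2 F254166)) (tt N23490 F116007) (tt N79339 D160962) (tt N23489 (iv5 D77245)) (tt N45887 (iv6 F119803)) (tt N79340 D160963))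
theorem Q45484 : ∀ i, i < 45484 → P i := stepQ 45483 Q45483 (allL N45483 (tt N79334 (iv1 F336547)) (tt N68590 (iv0 F334240)) (tt N79331 F254159) (tt N23491 F116008) (tt N47143 F302610) (tt N79340 (iv5 F254168)) (tt N45674 (iv6 F119327)) (tt N23489 (iv7 D77246)))
theorem Q45485 : ∀ i, i < 45485 → P i := stepQ 45484 Q45484 (allL N45484 (tt N23527 F311675) (tt N45383 F116017) (tt N46312 (iv2 F122771)) (tt N79340 (iv3 F254167)) (tt N30556 F116014) (tt N23491 F116015) (tt N57699 (iv6 F167447)) (tt N23490 (iv7 D77248)))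
theorem Q45486 : ∀ i, i < 45486 → P i := stepQ 45485 Q45485 (allL N45485 (tt N48402 (iv1 F254411)) (tt N79341 D160971) (tt N78666 (iv2 F254226)) (tt N23492 (iv3 D77250)) (tt N24906 F116019) (tt N64118 F254070) (tt N33445 (iv6 F334011)) (tt N46330 (iv7 F254216)))
theorem Q45487 : ∀ i, i < 45487 → P i := stepQ 45486 Q45486 (allL N45486 (tt N45907 F119834) (tt N79342 D160975) (tt N36336 F333994) (tt N79343 D160976) (tt N23492 (iv4 D77251)) (tt N79344 D160977) (tt N36317 (iv6 F334012)) (tt N46331 (iv7 F254218)))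
theorem Q45488 : ∀ i, i < 45488 → P i := stepQ 45487 Q45487 (allL N45487 (tt N64080 F254200) (tt N64083 (iv0 F256571)) (tt N78409 F254190) (tt N23493 (iv3 D77255)) (tt N79345 D160986) (tt N32233 F327437) (tt N79346 D160987) (tt N46332 (iv7 F254205)))
theorem Q45489 : ∀ i, i < 45489 → P i := stepQ 45488 Q45488 (allL N45488 (tt N79342 (iv1 F254191)) (tt N45907 F254199) (tt N46331 (iv2 F254217)) (tt N79347 D160988) (tt N23493 (iv4 D77256)) (tt N79348 D160989) (tt N79349 D160990) (tt N36336 F334009))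
theorem Q45490 : ∀ i, i < 45490 → P i := stepQ 45489 Q45489 (allL N45489 (tt N23697 (iv1 F336339)) (tt N42134 (iv0 F334032)) (tt N42136 F334018) (tt N79346 (iv3 F254493)) (tt N79349 (iv4 F254495)) (tt N79350 D160993) (tt N23493 (iv6 D77258)) (tt N42050 F334019))
theorem Q45491 : ∀ i, i < 45491 → P i := stepQ 45490 Q45490 (allL N45490 (tt N23729 (iv1 F116022)) (tt N23495 (iv0 D77259)) (tt N46152 (iv2 F122217)) (tt N79351 D160995) (tt N24967 F296281) (tt N52243 (iv5 F148142)) (tt N24966 (iv6 F297279)) (tt N27699 F116023))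
theorem Q45492 : ∀ i, i < 45492 → P i := stepQ 45491 Q45491 (allL N45491 (tt N79352 D160996) (tt N79353 D160997) (tt N79354 D160998) (tt N23495 (iv3 D77260)) (tt N44850 F116024) (tt N79355 D160999) (tt N48435 (iv6 F132697)) (tt N46286 (iv7 F122697)))
theorem Q45493 : ∀ i, i < 45493 → P i := stepQ 45492 Q45492 (allL N45492 (tt N52679 (iv1 F294047)) (tt N52397 (iv0 F294043)) (tt N27883 F293056) (tt N79355 (iv3 F254500)) (tt N25918 F116025) (tt N23495 (iv5 D77261)) (tt N79356 D161002) (tt N27886 F293057))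
theorem Q45494 : ∀ i, i < 45494 → P i := stepQ 45493 Q45493 (allL N45493 (tt N25309 F116028) (tt N23804 (iv0 F296924)) (tt N29061 F116026) (tt N79357 D161003) (tt N23496 (iv4 D77262)) (tt N64288 (iv5 F195613)) (tt N48440 (iv6 F132711)) (tt N44652 F116027))
theorem Q45495 : ∀ i, i < 45495 → P i := stepQ 45494 Q45494 (allL N45494 (tt N23733 (iv1 F116031)) (tt N23497 (iv0 D77263)) (tt N44622 (iv2 F116032)) (tt N32032 F326754) (tt N25576 F116030) (tt N52397 (iv5 F294045)) (tt N70722 (iv6 F330386)) (tt N44621 F296285))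
theorem Q45496 : ∀ i, i < 45496 → P i := stepQ 45495 Q45495 (allL N45495 (tt N23497 (iv1 D77264)) (tt N23733 F116033) (tt N44621 (iv2 F296048)) (tt N70727 (iv3 F330372)) (tt N25300 F116035) (tt N52679 (iv5 F294048)) (tt N25301 F295943) (tt N44622 F116034))
theorem Q45497 : ∀ i, i < 45497 → P i := stepQ 45496 Q45496 (allL N45496 (tt N79358 D161007) (tt N79359 D161008) (tt N79360 D161009) (tt N23497 (iv3 D77265)) (tt N79357 (iv4 F254510)) (tt N79361 D161010) (tt N48449 (iv6 F132770)) (tt N48490 (iv7 F133006)))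
theorem Q45498 : ∀ i, i < 45498 → P i := stepQ 45497 Q45497 (allL N45497 (tt N52692 (iv1 F292820)) (tt N52352 (iv0 F148944)) (tt N27880 (iv2 F293067)) (tt N79361 (iv3 F254518)) (tt N26373 F116036) (tt N23497 (iv5 D77266)) (tt N79362 D161012) (tt N27873 (iv7 F293061)))
theorem Q45499 : ∀ i, i < 45499 → P i := stepQ 45498 Q45498 (allL N45498 (tt N23498 (iv1 D77268)) (tt N42452 F116038) (tt N46445 (iv2 F123666)) (tt N48919 (iv3 F134891)) (tt N79363 D161015) (tt N25829 F116039) (tt N79364 D161016) (tt N46446 (iv7 F123669)))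
theorem Q45500 : ∀ i, i < 45500 → P i := stepQ 45499 Q45499 (allL N45499 (tt N25382 F116109) (tt N23999 F119033) (tt N34759 F119048) (tt N34762 F296907) (tt N46576 (iv4 F298546)) (tt N27284 (iv5 F297423)) (tt N23500 (iv6 D77308)) (tt N34758 (iv7 F119041)))
theorem Q45501 : ∀ i, i < 45501 → P i := stepQ 45500 Q45500 (allL N45500 (tt N23755 F116111) (tt N23763 (iv0 F116112)) (tt N23762 F116110) (tt N34732 (iv3 F297241)) (tt N79365 D161099) (tt N23501 (iv5 D77311)) (tt N27284 (iv6 F297424)) (tt N23761 F119515))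
theorem Q45502 : ∀ i, i < 45502 → P i := stepQ 45501 Q45501 (allL N45501 (tt N45586 (iv1 F300362)) (tt N25290 F321511) (tt N45584 (iv2 F300355)) (tt N44873 F116130) (tt N25283 (iv4 F323210)) (tt N23505 (iv5 D77326)) (tt N25341 (iv6 F323211)) (tt N45585 (iv7 F300360)))
theorem Q45503 : ∀ i, i < 45503 → P i := stepQ 45502 Q45502 (allL N45502 (tt N46361 F302391) (tt N46408 (iv0 F302592)) (tt N46373 (iv2 F123160)) (tt N42315 F116131) (tt N23506 F116132) (tt N45577 F117116) (tt N23505 (iv6 D77327)) (tt N46391 F302392))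
theorem Q45504 : ∀ i, i < 45504 → P i := stepQ 45503 Q45503 (allL N45503 (tt N45615 (iv1 F300806)) (tt N45537 (iv0 F299398)) (tt N45619 F298984) (tt N45729 (iv3 F119519)) (tt N47774 (iv4 F301653)) (tt N23507 (iv5 D77336)) (tt N45610 F119081) (tt N45618 F298985))
theorem Q45505 : ∀ i, i < 45505 → P i := stepQ 45504 Q45504 (allL N45504 (tt N45537 (iv1 F299399)) (tt N45615 (iv0 F300805)) (tt N45618 F298987) (tt N34633 F298988) (tt N47775 (iv4 F301656)) (tt N23508 (iv5 D77338)) (tt N45631 F298989) (tt N45619 F298990))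
theorem Q45506 : ∀ i, i < 45506 → P i := stepQ 45505 Q45505 (allL N45505 (tt N46417 (iv1 F194676)) (tt N46410 F194674) (tt N46415 (iv2 F135873)) (tt N34761 F298991) (tt N46733 (iv4 F126394)) (tt N45662 F298992) (tt N23508 (iv6 D77339)) (tt N46416 (iv7 F135872)))
theorem Q45507 : ∀ i, i < 45507 → P i := stepQ 45506 Q45506 (allL N45506 (tt N34897 (iv1 F299729)) (tt N34995 (iv0 F299702)) (tt N34992 F297553) (tt N31150 F326254) (tt N23509 (iv4 D77342)) (tt N31829 (iv5 F343736)) (tt N23513 F116152) (tt N34991 (iv7 F299744)))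
theorem Q45508 : ∀ i, i < 45508 → P i := stepQ 45507 Q45507 (allL N45507 (tt N25314 F116162) (tt N44649 F116163) (tt N44668 F116159) (tt N59935 (iv3 F326854)) (tt N34777 F116161) (tt N23513 (iv5 D77347)) (tt N30966 F341301) (tt N40365 (iv7 F341312)))
theorem Q45509 : ∀ i, i < 45509 → P i := stepQ 45508 Q45508 (allL N45508 (tt N34204 (iv1 F116176)) (tt N23885 F116175) (tt N23516 (iv2 D77363)) (tt N24480 F116173) (tt N24489 F296585) (tt N36449 F304847) (tt N24480 (iv6 F297350)) (tt N43304 F116174))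
theorem Q45510 : ∀ i, i < 45510 → P i := stepQ 45509 Q45509 (allL N45509 (tt N69297 (iv1 F333403)) (tt N69317 (iv0 F334189)) (tt N69315 (iv2 F334206)) (tt N23517 (iv3 D77369)) (tt N36572 F315032) (tt N73191 (iv5 F325014)) (tt N46371 (iv6 F300966)) (tt N46388 (iv7 F123249)))
theorem Q45511 : ∀ i, i < 45511 → P i := stepQ 45510 Q45510 (allL N45510 (tt N43305 F130973) (tt N79366 D161165) (tt N79367 D161166) (tt N23518 (iv3 D77371)) (tt N78630 (iv4 F298788)) (tt N65325 (iv5 F325016)) (tt N79368 D161168) (tt N46387 (iv7 F123243)))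
theorem Q45512 : ∀ i, i < 45512 → P i := stepQ 45511 Q45511 (allL N45511 (tt N46420 F128461) (tt N46363 (iv0 F254854)) (tt N46389 (iv2 F123253)) (tt N79368 (iv3 F254849)) (tt N46121 (iv4 F120437)) (tt N45544 (iv5 F301950)) (tt N23518 (iv6 D77373)) (tt N46370 (iv7 F302052)))
theorem Q45513 : ∀ i, i < 45513 → P i := stepQ 45512 Q45512 (allL N45512 (tt N46390 (iv1 F123264)) (tt N23519 (iv0 D77374)) (tt N40504 (iv2 F323639)) (tt N79369 D161173) (tt N31154 F323534) (tt N23549 F299909) (tt N47303 (iv6 F302724)) (tt N40497 (iv7 F324870)))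
theorem Q45514 : ∀ i, i < 45514 → P i := stepQ 45513 Q45513 (allL N45513 (tt N23519 (iv1 D77375)) (tt N46390 F123262) (tt N40497 (iv2 F324869)) (tt N79370 D161177) (tt N33291 F323535) (tt N23601 F300404) (tt N63075 (iv6 F324873)) (tt N40504 (iv7 F323641)))
theorem Q45515 : ∀ i, i < 45515 → P i := stepQ 45514 Q45514 (allL N45514 (tt N40497 (iv1 F324868)) (tt N40504 (iv0 F323637)) (tt N46390 (iv2 F123259)) (tt N47318 (iv3 F128656)) (tt N40485 (iv4 F324262)) (tt N23520 F116185) (tt N45708 F323533) (tt N23519 (iv7 D77377)))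
theorem Q45516 : ∀ i, i < 45516 → P i := stepQ 45515 Q45515 (allL N45515 (tt N77606 (iv1 F304779)) (tt N46359 F306776) (tt N77616 (iv2 F304781)) (tt N23521 (iv3 D77378)) (tt N34557 F302371) (tt N33557 F324029) (tt N34555 F302372) (tt N41582 F324030))
theorem Q45517 : ∀ i, i < 45517 → P i := stepQ 45516 Q45516 (allL N45516 (tt N46410 F299051) (tt N46417 (iv0 F301657)) (tt N46416 (iv2 F300562)) (tt N34759 F299052) (tt N34520 F116230) (tt N46185 F299053) (tt N23522 (iv6 D77419)) (tt N46415 F299054))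
theorem Q45518 : ∀ i, i < 45518 → P i := stepQ 45517 Q45517 (allL N45517 (tt N47273 (iv1 F128621)) (tt N23526 (iv0 D77434)) (tt N47271 (iv2 F234134)) (tt N37565 F314754) (tt N43122 (iv4 F317060)) (tt N78583 (iv5 F303267)) (tt N78604 (iv6 F303268)) (tt N37594 (iv7 F314844)))
theorem Q45519 : ∀ i, i < 45519 → P i := stepQ 45518 Q45518 (allL N45518 (tt N23526 (iv1 D77435)) (tt N47273 F128620) (tt N37594 F317097) (tt N43296 F205240) (tt N53241 (iv4 F303269)) (tt N78584 (iv5 F303271)) (tt N46954 (iv6 F303272)) (tt N47271 F234133))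
theorem Q45520 : ∀ i, i < 45520 → P i := stepQ 45519 Q45519 (allL N45519 (tt N47435 (iv1 F303273)) (tt N47434 (iv0 F303274)) (tt N47272 (iv2 F128614)) (tt N23529 F116246) (tt N79371 D161298) (tt N23526 (iv5 D77436)) (tt N45387 F318843) (tt N45858 (iv7 F320980)))
theorem Q45521 : ∀ i, i < 45521 → P i := stepQ 45520 Q45520 (allL N45520 (tt N37594 F317096) (tt N47271 F128619) (tt N47273 (iv2 F128617)) (tt N23530 F116247) (tt N53566 (iv4 F301810)) (tt N45858 F322741) (tt N46383 (iv6 F123232)) (tt N23526 (iv7 D77437)))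
theorem Q45522 : ∀ i, i < 45522 → P i := stepQ 45521 Q45521 (allL N45521 (tt N79372 D161311) (tt N47332 (iv0 F263052)) (tt N69311 (iv2 F312340)) (tt N23528 (iv3 D77442)) (tt N46436 (iv4 F123621)) (tt N79373 D161314) (tt N79374 D161315) (tt N46371 (iv7 F123139)))
theorem Q45523 : ∀ i, i < 45523 → P i := stepQ 45522 Q45522 (allL N45522 (tt N45561 (iv1 F303142)) (tt N25282 F321435) (tt N45559 (iv2 F302048)) (tt N79373 (iv3 F255135)) (tt N23797 (iv4 F321956)) (tt N23528 (iv5 D77443)) (tt N23796 F321436) (tt N45560 (iv7 F302055)))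
theorem Q45524 : ∀ i, i < 45524 → P i := stepQ 45523 Q45523 (allL N45523 (tt N46363 (iv1 F302119)) (tt N46420 (iv0 F303227)) (tt N46370 (iv2 F123137)) (tt N79374 (iv3 F255136)) (tt N46120 (iv4 F120396)) (tt N45545 F116431) (tt N23528 (iv6 D77444)) (tt N46389 (iv7 F302388)))
theorem Q45525 : ∀ i, i < 45525 → P i := stepQ 45524 Q45524 (allL N45524 (tt N46356 (iv1 F306314)) (tt N79375 D161331) (tt N72314 (iv2 F311897)) (tt N23531 (iv3 D77449)) (tt N34449 (iv4 F302908)) (tt N79376 D161333) (tt N34447 F302393) (tt N46372 (iv7 F123157)))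
theorem Q45526 : ∀ i, i < 45526 → P i := stepQ 45525 Q45525 (allL N45525 (tt N25290 F321512) (tt N45586 (iv0 F300361)) (tt N45585 (iv2 F300358)) (tt N79376 (iv3 F255153)) (tt N25284 F324573) (tt N23531 (iv5 D77450)) (tt N31960 F324574) (tt N45584 (iv7 F300357)))
theorem Q45527 : ∀ i, i < 45527 → P i := stepQ 45526 Q45526 (allL N45526 (tt N28763 F116496) (tt N52968 (iv0 F306537)) (tt N43728 (iv2 F116271)) (tt N23533 (iv3 D77459)) (tt N35075 F116269) (tt N53067 (iv5 F152395)) (tt N79377 D161345) (tt N43730 (iv7 F116272)))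
theorem Q45528 : ∀ i, i < 45528 → P i := stepQ 45527 Q45527 (allL N45527 (tt N25127 (iv1 F305096)) (tt N65307 (iv0 F305097)) (tt N64217 (iv2 F193648)) (tt N79377 (iv3 F255170)) (tt N49038 (iv4 F135085)) (tt N78702 (iv5 F305098)) (tt N23533 (iv6 D77461)) (tt N63701 (iv7 F305099)))
theorem Q45529 : ∀ i, i < 45529 → P i := stepQ 45528 Q45528 (allL N45528 (tt N66980 (iv1 F340197)) (tt N66975 (iv0 F340202)) (tt N66977 (iv2 F319367)) (tt N23536 F116284) (tt N52926 (iv4 F340200)) (tt N79378 D161353) (tt N23534 (iv6 D77462)) (tt N66978 (iv7 F340216)))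
theorem Q45530 : ∀ i, i < 45530 → P i := stepQ 45529 Q45529 (allL N45529 (tt N63740 (iv1 F305101)) (tt N23535 (iv0 D77463)) (tt N63749 (iv2 F305106)) (tt N79379 D161356) (tt N79380 D161357) (tt N78364 (iv5 F350970)) (tt N65314 (iv6 F350953)) (tt N63748 (iv7 F305104)))
theorem Q45531 : ∀ i, i < 45531 → P i := stepQ 45530 Q45530 (allL N45530 (tt N79381 D161365) (tt N43320 (iv0 F305107)) (tt N77579 (iv2 F243835)) (tt N23539 F116285) (tt N79382 D161367) (tt N23535 (iv5 D77465)) (tt N79378 (iv6 F255174)) (tt N63750 (iv7 F304785)))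
theorem Q45532 : ∀ i, i < 45532 → P i := stepQ 45531 Q45531 (allL N45531 (tt N23536 (iv1 D77468)) (tt N23587 F116287) (tt N23585 F308713) (tt N52779 (iv3 F343993)) (tt N68420 (iv4 F309902)) (tt N63773 (iv5 F320677)) (tt N66910 (iv6 F310825)) (tt N23584 F308714))
theorem Q45533 : ∀ i, i < 45533 → P i := stepQ 45532 Q45532 (allL N45532 (tt N58676 (iv1 F348338)) (tt N37029 (iv0 F306855)) (tt N23586 F116288) (tt N79378 (iv3 F255173)) (tt N40489 (iv4 F324265)) (tt N23536 (iv5 D77469)) (tt N23539 F116289) (tt N66479 (iv7 F323276)))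
theorem Q45534 : ∀ i, i < 45534 → P i := stepQ 45533 Q45533 (allL N45533 (tt N23585 (iv1 F116293)) (tt N23584 F116294) (tt N23587 F116290) (tt N66978 (iv3 F340215)) (tt N23936 F116291) (tt N66479 (iv5 F323275)) (tt N37486 (iv6 F305928)) (tt N23536 (iv7 D77470)))
theorem Q45535 : ∀ i, i < 45535 → P i := stepQ 45534 Q45534 (allL N45534 (tt N79383 D161383) (tt N63437 (iv0 F333719)) (tt N79384 D161385) (tt N23537 (iv3 D77472)) (tt N24952 F116297) (tt N62693 (iv5 F324092)) (tt N69352 (iv6 F307468)) (tt N23591 F116894))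
theorem Q45536 : ∀ i, i < 45536 → P i := stepQ 45535 Q45535 (allL N45535 (tt N52777 (iv1 F344050)) (tt N79385 D161393) (tt N79386 D161394) (tt N23538 (iv3 D77476)) (tt N48430 (iv4 F132663)) (tt N74715 (iv5 F324095)) (tt N23591 F302732) (tt N23588 F116901))
theorem Q45537 : ∀ i, i < 45537 → P i := stepQ 45536 Q45536 (allL N45536 (tt N23595 (iv1 F116313)) (tt N23539 (iv0 D77480)) (tt N23593 F117140) (tt N79387 D161401) (tt N48107 (iv4 F323606)) (tt N34766 F302380) (tt N45765 F322786) (tt N23594 F117141))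
theorem Q45538 : ∀ i, i < 45538 → P i := stepQ 45537 Q45537 (allL N45537 (tt N45503 F299398) (tt N45504 F299399) (tt N63870 (iv2 F191472)) (tt N23543 F116329) (tt N47890 (iv4 F302260)) (tt N23541 (iv5 D77488)) (tt N31879 (iv6 F324118)) (tt N23607 F116330))
theorem Q45539 : ∀ i, i < 45539 → P i := stepQ 45538 Q45538 (allL N45538 (tt N47442 F306604) (tt N47258 (iv0 F191367)) (tt N47483 F309562) (tt N23542 (iv3 D77491)) (tt N34976 F121528) (tt N40491 F325020) (tt N46423 (iv6 F305423)) (tt N23608 F116335))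
theorem Q45540 : ∀ i, i < 45540 → P i := stepQ 45539 Q45539 (allL N45539 (tt N63881 (iv1 F298975)) (tt N23547 (iv0 D77538)) (tt N58737 (iv2 F358816)) (tt N45864 F195509) (tt N64282 (iv4 F195574)) (tt N79388 D161504) (tt N31229 F327353) (tt N45880 F195510))
theorem Q45541 : ∀ i, i < 45541 → P i := stepQ 45540 Q45540 (allL N45540 (tt N23547 (iv1 D77539)) (tt N63881 (iv0 F298974)) (tt N45880 F126971) (tt N23982 (iv3 F298253)) (tt N64283 (iv4 F195580)) (tt N78421 (iv5 F248759)) (tt N45636 (iv6 F298309)) (tt N58737 (iv7 F358820)))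
theorem Q45542 : ∀ i, i < 45542 → P i := stepQ 45541 Q45541 (allL N45541 (tt N66363 (iv1 F331974)) (tt N77613 (iv0 F344042)) (tt N76561 (iv2 F239300)) (tt N23549 F116428) (tt N47036 (iv4 F128085)) (tt N79369 (iv5 F302720)) (tt N23548 (iv6 D77542)) (tt N59885 (iv7 F325795)))
theorem Q45543 : ∀ i, i < 45543 → P i := stepQ 45542 Q45542 (allL N45542 (tt N63706 (iv1 F304585)) (tt N47162 F315771) (tt N79389 D161515) (tt N23550 (iv3 D77548)) (tt N46773 (iv4 F126932)) (tt N42144 (iv5 F334575)) (tt N59885 (iv6 F325794)) (tt N47158 F301947))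
theorem Q45544 : ∀ i, i < 45544 → P i := stepQ 45543 Q45543 (allL N45543 (tt N39953 F323544) (tt N41602 F323545) (tt N47171 F301948) (tt N42144 F334576) (tt N39990 (iv4 F324827)) (tt N23550 (iv5 D77550)) (tt N42141 (iv6 F334579)) (tt N47159 F301949))
theorem Q45545 : ∀ i, i < 45545 → P i := stepQ 45544 Q45544 (allL N45544 (tt N47170 (iv1 F302737)) (tt N23551 (iv0 D77557)) (tt N44888 (iv2 F316425)) (tt N75000 (iv3 F339820)) (tt N34561 (iv4 F316429)) (tt N45511 F301950) (tt N34560 (iv6 F316431)) (tt N64219 F193760))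
theorem Q45546 : ∀ i, i < 45546 → P i := stepQ 45545 Q45545 (allL N45545 (tt N23551 (iv1 D77558)) (tt N47170 (iv0 F302736)) (tt N64219 (iv2 F193750)) (tt N66846 (iv3 F339314)) (tt N42956 (iv4 F316435)) (tt N45523 (iv5 F116431)) (tt N45936 F320069) (tt N44888 (iv7 F316426)))
theorem Q45547 : ∀ i, i < 45547 → P i := stepQ 45546 Q45546 (allL N45546 (tt N34956 (iv1 F116495)) (tt N23555 (iv0 D77602)) (tt N34955 (iv2 F116558)) (tt N46765 (iv3 F126897)) (tt N28763 F116494) (tt N51710 (iv5 F147099)) (tt N52961 (iv6 F306534)) (tt N34954 (iv7 F116561)))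
theorem Q45548 : ∀ i, i < 45548 → P i := stepQ 45547 Q45547 (allL N45547 (tt N51850 F147344) (tt N28420 F305514) (tt N45270 F116499) (tt N23556 F116500) (tt N49655 (iv4 F307541)) (tt N23555 (iv5 D77604)) (tt N79390 D161571) (tt N34863 F116501))
theorem Q45549 : ∀ i, i < 45549 → P i := stepQ 45548 Q45548 (allL N45548 (tt N49464 (iv1 F310434)) (tt N53119 (iv0 F310437)) (tt N47429 (iv2 F128796)) (tt N23557 F116502) (tt N23560 F116503) (tt N79391 D161574) (tt N23555 (iv6 D77605)) (tt N35188 (iv7 F116504)))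
theorem Q45550 : ∀ i, i < 45550 → P i := stepQ 45549 Q45549 (allL N45549 (tt N64810 (iv1 F341513)) (tt N64812 (iv0 F341510)) (tt N34866 F116505) (tt N79390 (iv3 F255567)) (tt N34864 F116506) (tt N79392 D161577) (tt N23556 (iv6 D77606)) (tt N79393 D161578))
theorem Q45551 : ∀ i, i < 45551 → P i := stepQ 45550 Q45550 (allL N45550 (tt N34568 F300524) (tt N44918 F300525) (tt N34961 F116507) (tt N79391 (iv3 F255570)) (tt N64848 F198402) (tt N23557 (iv5 D77607)) (tt N79392 (iv6 F255574)) (tt N35189 F116508))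
theorem Q45552 : ∀ i, i < 45552 → P i := stepQ 45551 Q45551 (allL N45551 (tt N47161 F128413) (tt N46981 (iv0 F127924)) (tt N54295 (iv2 F156501)) (tt N23559 (iv3 D77608)) (tt N43090 F116509) (tt N46106 F120307) (tt N79394 D161580) (tt N47262 (iv7 F128590)))
theorem Q45553 : ∀ i, i < 45553 → P i := stepQ 45552 Q45552 (allL N45552 (tt N47483 F309561) (tt N23608 F198061) (tt N47258 (iv2 F128585)) (tt N79394 (iv3 F255586)) (tt N53381 (iv4 F307519)) (tt N47315 (iv5 F307525)) (tt N23559 (iv6 D77609)) (tt N47442 F305489))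
theorem Q45554 : ∀ i, i < 45554 → P i := stepQ 45553 Q45553 (allL N45553 (tt N46999 (iv1 F309547)) (tt N23560 (iv0 D77610)) (tt N47430 (iv2 F198136)) (tt N68482 (iv3 F333445)) (tt N49565 (iv4 F310376)) (tt N44672 (iv5 F330869)) (tt N44767 F308850) (tt N47431 (iv7 F198138)))
theorem Q45555 : ∀ i, i < 45555 → P i := stepQ 45554 Q45554 (allL N45554 (tt N23560 (iv1 D77611)) (tt N46999 (iv0 F309546)) (tt N47431 F198137) (tt N63204 (iv3 F200281)) (tt N54045 F308584) (tt N47291 (iv5 F310668)) (tt N54320 (iv6 F310669)) (tt N47430 F198135))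
theorem Q45556 : ∀ i, i < 45556 → P i := stepQ 45555 Q45555 (allL N45555 (tt N58850 (iv1 F332201)) (tt N79395 D161588) (tt N47432 (iv2 F128800)) (tt N23563 F116510) (tt N79396 D161589) (tt N23560 (iv5 D77612)) (tt N35509 F322769) (tt N47469 F309555))
theorem Q45557 : ∀ i, i < 45557 → P i := stepQ 45556 Q45556 (allL N45556 (tt N35514 F317616) (tt N23561 (iv0 D77614)) (tt N44765 (iv2 F305786)) (tt N43536 (iv3 F301001)) (tt N38383 F304580) (tt N25277 F317617) (tt N68042 (iv6 F306592)) (tt N44766 F303711))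
theorem Q45558 : ∀ i, i < 45558 → P i := stepQ 45557 Q45557 (allL N45557 (tt N23561 (iv1 D77615)) (tt N35514 F316318) (tt N44766 F303710) (tt N79397 D161596) (tt N38359 F304581) (tt N24206 (iv5 F317566)) (tt N38094 (iv6 F306594)) (tt N44765 (iv7 F305787)))
theorem Q45559 : ∀ i, i < 45559 → P i := stepQ 45558 Q45558 (allL N45558 (tt N65305 F200730) (tt N47373 F274205) (tt N70047 (iv2 F313253)) (tt N23562 (iv3 D77618)) (tt N24873 F299931) (tt N34661 F322747) (tt N45855 F322748) (tt N47573 (iv7 F129140)))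
theorem Q45560 : ∀ i, i < 45560 → P i := stepQ 45559 Q45559 (allL N45559 (tt N45992 F321434) (tt N23563 (iv0 D77621)) (tt N45522 F302048) (tt N68537 (iv3 F314725)) (tt N31949 (iv4 F321437)) (tt N24081 F302049) (tt N31948 (iv6 F322473)) (tt N44822 F302050))
theorem Q45561 : ∀ i, i < 45561 → P i := stepQ 45560 Q45560 (allL N45560 (tt N23563 (iv1 D77622)) (tt N45992 F322037) (tt N44822 F302053) (tt N79398 D161611) (tt N31957 F324178) (tt N24082 F302054) (tt N31956 F324179) (tt N45522 F302055))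
theorem Q45562 : ∀ i, i < 45562 → P i := stepQ 45561 Q45561 (allL N45561 (tt N44822 F303141) (tt N45522 F303142) (tt N45992 F322028) (tt N47469 F310716) (tt N34681 F322029) (tt N23564 F116523) (tt N23971 F322030) (tt N23563 (iv7 D77624)))
theorem Q45563 : ∀ i, i < 45563 → P i := stepQ 45562 Q45562 (allL N45562 (tt N64217 (iv1 F303117)) (tt N63701 (iv0 F303118)) (tt N65307 (iv2 F200735)) (tt N23565 (iv3 D77625)) (tt N25134 (iv4 F302833)) (tt N64166 (iv5 F320254)) (tt N65317 (iv6 F303127)) (tt N25127 F300350))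
theorem Q45564 : ∀ i, i < 45564 → P i := stepQ 45563 Q45563 (allL N45563 (tt N23590 (iv1 F300418)) (tt N23590 F123485) (tt N46421 F300354) (tt N65317 (iv3 F303126)) (tt N23566 F116524) (tt N37364 F307031) (tt N23565 (iv6 D77627)) (tt N46421 (iv7 F123482)))
theorem Q45565 : ∀ i, i < 45565 → P i := stepQ 45564 Q45564 (allL N45564 (tt N63386 (iv1 F343986)) (tt N63441 (iv0 F343977)) (tt N63439 (iv2 F343971)) (tt N24459 F116527) (tt N41447 F307995) (tt N79399 D161630) (tt N23567 (iv6 D77630)) (tt N63438 (iv7 F315080)))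
theorem Q45566 : ∀ i, i < 45566 → P i := stepQ 45565 Q45565 (allL N45565 (tt N43419 (iv1 F300716)) (tt N52792 F151357) (tt N24457 F116528) (tt N23568 (iv3 D77631)) (tt N66932 (iv4 F206166)) (tt N24591 F116529) (tt N79400 D161632) (tt N52790 (iv7 F151347)))
theorem Q45567 : ∀ i, i < 45567 → P i := stepQ 45566 Q45566 (allL N45566 (tt N23588 (iv1 F311869)) (tt N79386 (iv0 F311870)) (tt N52777 (iv2 F151266)) (tt N79400 (iv3 F255641)) (tt N42802 F307994) (tt N79401 D161636) (tt N23568 (iv6 D77633)) (tt N79385 (iv7 F357002)))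
theorem Q45568 : ∀ i, i < 45568 → P i := stepQ 45567 Q45567 (allL N45567 (tt N43908 (iv1 F116533)) (tt N29793 F116532) (tt N23570 F116531) (tt N48425 (iv3 F132633)) (tt N23569 (iv4 D77634)) (tt N43843 F306681) (tt N61422 (iv6 F309815)) (tt N48427 (iv7 F132647)))
theorem Q45569 : ∀ i, i < 45569 → P i := stepQ 45568 Q45568 (allL N45568 (tt N64226 (iv1 F303157)) (tt N52966 F151932) (tt N23572 F116535) (tt N63386 (iv3 F187163)) (tt N61422 (iv4 F309814)) (tt N52866 (iv5 F335214)) (tt N23569 (iv6 D77635)) (tt N64227 (iv7 F303163)))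
theorem Q45570 : ∀ i, i < 45570 → P i := stepQ 45569 Q45569 (allL N45569 (tt N45304 F116545) (tt N45301 (iv0 F116546)) (tt N42255 (iv2 F305799)) (tt N27722 F116544) (tt N23571 (iv4 D77638)) (tt N33717 (iv5 F305936)) (tt N54299 (iv6 F297879)) (tt N46579 (iv7 F125524)))
theorem Q45571 : ∀ i, i < 45571 → P i := stepQ 45570 Q45570 (allL N45570 (tt N64227 (iv1 F303161)) (tt N23572 (iv0 D77640)) (tt N64226 (iv2 F303158)) (tt N24497 F184761) (tt N74501 (iv4 F333714)) (tt N79402 D161651) (tt N79383 (iv6 F333713)) (tt N52966 (iv7 F268275)))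
theorem Q45572 : ∀ i, i < 45572 → P i := stepQ 45571 Q45571 (allL N45571 (tt N23572 (iv1 D77641)) (tt N64227 (iv0 F303160)) (tt N52966 (iv2 F268274)) (tt N77585 F317254) (tt N76015 (iv4 F319557)) (tt N79403 D161656) (tt N23576 (iv6 F319559)) (tt N64226 (iv7 F303159)))
theorem Q45573 : ∀ i, i < 45573 → P i := stepQ 45572 Q45572 (allL N45572 (tt N78721 (iv1 F348501)) (tt N68514 (iv0 F337066)) (tt N52866 (iv2 F335213)) (tt N23574 F116548) (tt N52852 (iv4 F343384)) (tt N23572 (iv5 D77642)) (tt N64708 (iv6 F298810)) (tt N64228 (iv7 F303164)))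
theorem Q45574 : ∀ i, i < 45574 → P i := stepQ 45573 Q45573 (allL N45573 (tt N48277 (iv1 F317764)) (tt N23573 (iv0 D77644)) (tt N63435 (iv2 F298564)) (tt N52853 (iv3 F298566)) (tt N38275 (iv4 F304049)) (tt N41611 F309790) (tt N36966 (iv6 F305937)) (tt N41610 F309791))
theorem Q45575 : ∀ i, i < 45575 → P i := stepQ 45574 Q45574 (allL N45574 (tt N23573 (iv1 D77645)) (tt N48277 F319962) (tt N41610 F309787) (tt N24421 (iv3 F298220)) (tt N46567 F296915) (tt N41595 F309788) (tt N41702 (iv6 F311998)) (tt N63435 (iv7 F298565)))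
theorem Q45576 : ∀ i, i < 45576 → P i := stepQ 45575 Q45575 (allL N45575 (tt N63088 (iv1 F309854)) (tt N75987 (iv0 F310115)) (tt N63436 (iv2 F187433)) (tt N64708 (iv3 F298809)) (tt N68268 (iv4 F320831)) (tt N23573 (iv5 D77646)) (tt N23574 F116550) (tt N74825 (iv7 F310163)))
theorem Q45577 : ∀ i, i < 45577 → P i := stepQ 45576 Q45576 (allL N45576 (tt N41610 F310241) (tt N63435 F187440) (tt N48277 (iv2 F317765)) (tt N46425 F298334) (tt N37646 F303884) (tt N74825 F310242) (tt N35517 F315920) (tt N23573 (iv7 D77647)))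
theorem Q45578 : ∀ i, i < 45578 → P i := stepQ 45577 Q45577 (allL N45577 (tt N23574 (iv1 D77659)) (tt N64218 (iv0 F302271)) (tt N64221 (iv2 F193813)) (tt N75661 (iv3 F233314)) (tt N44378 F317398) (tt N45502 (iv5 F117116)) (tt N48350 (iv6 F322475)) (tt N64018 (iv7 F316418)))
theorem Q45579 : ∀ i, i < 45579 → P i := stepQ 45578 Q45578 (allL N45578 (tt N43730 F116556) (tt N43728 (iv0 F116559)) (tt N28763 F116554) (tt N23575 (iv3 D77662)) (tt N34955 F116557) (tt N25067 F116555) (tt N79404 D161682) (tt N52968 (iv7 F306540)))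
theorem Q45580 : ∀ i, i < 45580 → P i := stepQ 45579 Q45579 (allL N45579 (tt N79384 (iv1 F316556)) (tt N23591 (iv0 F316557)) (tt N63437 (iv2 F187453)) (tt N79404 (iv3 F255692)) (tt N73339 (iv4 F343409)) (tt N79405 D161685) (tt N23575 (iv6 D77663)) (tt N79383 (iv7 F333716)))
theorem Q45581 : ∀ i, i < 45581 → P i := stepQ 45580 Q45580 (allL N45580 (tt N68487 (iv1 F317511)) (tt N42518 (iv0 F316777)) (tt N63477 (iv2 F187598)) (tt N23579 F116563) (tt N68511 (iv4 F317512)) (tt N23577 (iv5 D77667)) (tt N35515 F322778) (tt N68511 F315277))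
theorem Q45582 : ∀ i, i < 45582 → P i := stepQ 45581 Q45581 (allL N45581 (tt N37531 (iv1 F312917)) (tt N37548 (iv0 F312918)) (tt N37544 (iv2 F312914)) (tt N23580 F116564) (tt N25187 (iv4 F117108)) (tt N68511 (iv5 F312921)) (tt N63441 (iv6 F187459)) (tt N23577 (iv7 D77668)))
theorem Q45583 : ∀ i, i < 45583 → P i := stepQ 45582 Q45582 (allL N45582 (tt N35517 F316273) (tt N23578 (iv0 D77669)) (tt N48273 (iv2 F317629)) (tt N24454 F192687) (tt N42278 F316274) (tt N23939 (iv5 F318549)) (tt N70112 (iv6 F306021)) (tt N46678 F316275))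
theorem Q45584 : ∀ i, i < 45584 → P i := stepQ 45583 Q45583 (allL N45583 (tt N23578 (iv1 D77670)) (tt N35517 F316269) (tt N46678 F316270) (tt N79406 D161708) (tt N38160 F303935) (tt N23940 (iv5 F318545)) (tt N37027 (iv6 F306025)) (tt N48273 (iv7 F317631)))
theorem Q45585 : ∀ i, i < 45585 → P i := stepQ 45584 Q45584 (allL N45584 (tt N45860 F322715) (tt N23579 (iv0 D77683)) (tt N45501 F300355) (tt N77588 F243901) (tt N35510 (iv4 F322742)) (tt N24084 F300356) (tt N23791 (iv6 F324183)) (tt N45525 F300357))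
theorem Q45586 : ∀ i, i < 45586 → P i := stepQ 45585 Q45585 (allL N45585 (tt N23579 (iv1 D77684)) (tt N45860 F322779) (tt N45525 F300358) (tt N64014 (iv3 F303136)) (tt N35511 F322780) (tt N24086 F300359) (tt N31189 (iv6 F324575)) (tt N45501 F300360))
theorem Q45587 : ∀ i, i < 45587 → P i := stepQ 45586 Q45586 (allL N45586 (tt N45525 F300361) (tt N45501 F300362) (tt N45860 F322689) (tt N68511 (iv3 F312920)) (tt N34662 F322690) (tt N23580 F116568) (tt N34734 (iv6 F324180)) (tt N23579 (iv7 D77686)))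
theorem Q45588 : ∀ i, i < 45588 → P i := stepQ 45587 Q45587 (allL N45587 (tt N24665 F252830) (tt N66916 (iv0 F300870)) (tt N25081 F116569) (tt N23582 F116570) (tt N77666 (iv4 F306838)) (tt N79407 D161725) (tt N23581 (iv6 D77687)) (tt N66914 (iv7 F300867)))
theorem Q45589 : ∀ i, i < 45589 → P i := stepQ 45588 Q45588 (allL N45588 (tt N46403 (iv1 F123376)) (tt N23582 (iv0 D77688)) (tt N46402 (iv2 F308032)) (tt N66974 (iv3 F332343)) (tt N37482 F306034) (tt N72239 (iv5 F332344)) (tt N66973 (iv6 F304008)) (tt N36950 (iv7 F307984)))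
theorem Q45590 : ∀ i, i < 45590 → P i := stepQ 45589 Q45589 (allL N45589 (tt N34382 F318087) (tt N44107 F318088) (tt N44087 F318089) (tt N79407 (iv3 F255731)) (tt N34372 (iv4 F320248)) (tt N23582 (iv5 D77690)) (tt N23594 F302370) (tt N44085 F318090))
theorem Q45591 : ∀ i, i < 45591 → P i := stepQ 45590 Q45590 (allL N45590 (tt N36950 F306038) (tt N46402 F123374) (tt N46403 (iv2 F123370)) (tt N66914 (iv3 F300865)) (tt N37365 F306039) (tt N44085 F318086) (tt N45395 F313449) (tt N23582 (iv7 D77691)))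
theorem Q45592 : ∀ i, i < 45592 → P i := stepQ 45591 Q45591 (allL N45591 (tt N46212 (iv1 F331881)) (tt N52776 (iv0 F331882)) (tt N52778 (iv2 F331883)) (tt N23584 (iv3 D77704)) (tt N63832 (iv4 F331884)) (tt N76148 (iv5 F320686)) (tt N70554 (iv6 F307027)) (tt N52779 (iv7 F343996)))
theorem Q45593 : ∀ i, i < 45593 → P i := stepQ 45592 Q45592 (allL N45592 (tt N38337 (iv1 F307909)) (tt N35000 (iv0 F307906)) (tt N41434 F307874) (tt N78310 (iv3 F309886)) (tt N23584 (iv4 D77705)) (tt N33506 (iv5 F309887)) (tt N40592 F315951) (tt N68420 (iv7 F307911)))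
theorem Q45594 : ∀ i, i < 45594 → P i := stepQ 45593 Q45593 (allL N45593 (tt N35000 (iv1 F307907)) (tt N38337 (iv0 F307908)) (tt N68420 (iv2 F307910)) (tt N29801 (iv3 F310120)) (tt N23585 (iv4 D77710)) (tt N41435 (iv5 F305989)) (tt N37368 (iv6 F305990)) (tt N41434 (iv7 F305992)))
theorem Q45595 : ∀ i, i < 45595 → P i := stepQ 45594 Q45594 (allL N45594 (tt N36942 (iv1 F308090)) (tt N66973 (iv0 F306122)) (tt N66910 (iv2 F306123)) (tt N63525 (iv3 F306125)) (tt N37368 F307876) (tt N74749 (iv5 F306167)) (tt N23585 (iv6 D77712)) (tt N67835 (iv7 F308040)))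
theorem Q45596 : ∀ i, i < 45596 → P i := stepQ 45595 Q45595 (allL N45595 (tt N66479 F324662) (tt N23586 (iv0 D77713)) (tt N58676 (iv2 F348339)) (tt N79408 D161814) (tt N44099 (iv4 F325777)) (tt N37030 (iv5 F309889)) (tt N44097 (iv6 F325778)) (tt N37029 (iv7 F309890)))
theorem Q45597 : ∀ i, i < 45597 → P i := stepQ 45596 Q45596 (allL N45596 (tt N37029 F307879) (tt N58676 (iv0 F348337)) (tt N66479 F324664) (tt N56012 F324665) (tt N33365 (iv4 F325779)) (tt N23587 F116588) (tt N42341 F324666) (tt N23586 (iv7 D77716)))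
theorem Q45598 : ∀ i, i < 45598 → P i := stepQ 45597 Q45597 (allL N45597 (tt N79386 (iv1 F255220)) (tt N23588 (iv0 D77723)) (tt N79385 (iv2 F356998)) (tt N28812 F314289) (tt N76073 (iv4 F337583)) (tt N79409 D161832) (tt N63438 (iv6 F316657)) (tt N52777 F314290))
theorem Q45599 : ∀ i, i < 45599 → P i := stepQ 45598 Q45598 (allL N45598 (tt N79385 (iv1 F255221)) (tt N52777 (iv0 F344049)) (tt N23588 (iv2 D77725)) (tt N79384 (iv3 F255194)) (tt N44577 F312351) (tt N74714 (iv5 F325024)) (tt N79410 D161841) (tt N79386 (iv7 F255219)))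
theorem Q45600 : ∀ i, i < 45600 → P i := stepQ 45599 Q45599 (allL N45599 (tt N79411 D161842) (tt N76446 (iv0 F255588)) (tt N44577 (iv2 F310061)) (tt N46648 F301848) (tt N23588 (iv4 D77726)) (tt N42504 (iv5 F311954)) (tt N46646 (iv6 F302704)) (tt N48430 (iv7 F132664)))
theorem Q45601 : ∀ i, i < 45601 → P i := stepQ 45600 Q45600 (allL N45600 (tt N79412 D161849) (tt N37547 (iv0 F316719)) (tt N79410 (iv2 F255810)) (tt N23590 F116599) (tt N46646 F303286) (tt N37239 F307534) (tt N23588 (iv6 D77728)) (tt N69352 F307535))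
theorem Q45602 : ∀ i, i < 45602 → P i := stepQ 45601 Q45601 (allL N45601 (tt N23591 (iv1 D77745)) (tt N79384 F255199) (tt N79383 (iv2 F333715)) (tt N77598 (iv3 F360165)) (tt N73338 (iv4 F333729)) (tt N79413 D161879) (tt N64226 (iv6 F333717)) (tt N63437 (iv7 F316558)))
theorem Q45603 : ∀ i, i < 45603 → P i := stepQ 45602 Q45602 (allL N45602 (tt N63437 (iv1 F333720)) (tt N79383 F255193) (tt N23591 (iv2 D77746)) (tt N79386 (iv3 F255218)) (tt N63599 (iv4 F316601)) (tt N79414 D161882) (tt N79386 (iv6 F305073)) (tt N79384 (iv7 F255196)))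
theorem Q45604 : ∀ i, i < 45604 → P i := stepQ 45603 Q45603 (allL N45603 (tt N52349 (iv1 F309921)) (tt N63601 (iv0 F314160)) (tt N63599 (iv2 F316599)) (tt N24922 F117123) (tt N23591 (iv4 D77747)) (tt N72336 (iv5 F321155)) (tt N48430 (iv6 F299950)) (tt N24952 F117124))
theorem Q45605 : ∀ i, i < 45605 → P i := stepQ 45604 Q45604 (allL N45604 (tt N79415 D161888) (tt N33198 F351489) (tt N79414 (iv2 F255867)) (tt N23592 F117125) (tt N76828 (iv4 F365961)) (tt N23591 (iv5 D77748)) (tt N63765 (iv6 F326220)) (tt N62693 (iv7 F324093)))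
theorem Q45606 : ∀ i, i < 45606 → P i := stepQ 45605 Q45605 (allL N45605 (tt N79409 (iv1 F337582)) (tt N79401 (iv0 F348503)) (tt N79416 D161909) (tt N23593 (iv3 D77759)) (tt N79417 D161910) (tt N46401 F303198) (tt N74739 (iv6 F323461)) (tt N46400 F303199))
theorem Q45607 : ∀ i, i < 45607 → P i := stepQ 45606 Q45606 (allL N45606 (tt N34641 (iv1 F323619)) (tt N34639 (iv0 F323620)) (tt N45765 (iv2 F322716)) (tt N74739 (iv3 F323460)) (tt N35452 (iv4 F323621)) (tt N23665 F321960) (tt N23593 (iv6 D77762)) (tt N45766 (iv7 F323622)))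
theorem Q45608 : ∀ i, i < 45608 → P i := stepQ 45607 Q45607 (allL N45607 (tt N79405 (iv1 F343415)) (tt N79413 (iv0 F333718)) (tt N79418 D161924) (tt N23594 (iv3 D77764)) (tt N79419 D161925) (tt N34765 F300211) (tt N79407 (iv6 F302958)) (tt N79387 (iv7 F255239)))
theorem Q45609 : ∀ i, i < 45609 → P i := stepQ 45608 Q45608 (allL N45608 (tt N40509 F325818) (tt N40508 F325819) (tt N23599 F117145) (tt N63870 (iv3 F191473)) (tt N79168 (iv4 F303292)) (tt N23597 (iv5 D77783)) (tt N52809 (iv6 F151438)) (tt N40510 F325820))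
theorem Q45610 : ∀ i, i < 45610 → P i := stepQ 45609 Q45609 (allL N45609 (tt N44923 F117152) (tt N70992 (iv0 F325435)) (tt N35253 F117150) (tt N52941 (iv3 F314156)) (tt N79420 D161958) (tt N23598 (iv5 D77786)) (tt N79421 D161959) (tt N35255 F117151))
theorem Q45611 : ∀ i, i < 45611 → P i := stepQ 45610 Q45610 (allL N45610 (tt N40510 F325816) (tt N23599 (iv0 D77787)) (tt N40509 F325831) (tt N23680 (iv3 F119080)) (tt N65034 (iv4 F198957)) (tt N24090 F298501) (tt N45503 (iv6 F119081)) (tt N40508 F325832))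
theorem Q45612 : ∀ i, i < 45612 → P i := stepQ 45611 Q45611 (allL N45611 (tt N23599 (iv1 D77788)) (tt N40510 F325817) (tt N40508 F325826) (tt N45425 F299372) (tt N65035 (iv4 F198960)) (tt N24091 F299373) (tt N58736 (iv6 F326639)) (tt N40509 F325827))
theorem Q45613 : ∀ i, i < 45613 → P i := stepQ 45612 Q45612 (allL N45612 (tt N44924 F117626) (tt N79145 F301967) (tt N79168 (iv2 F303291)) (tt N40423 (iv3 F326229)) (tt N23599 (iv4 D77789)) (tt N79422 D161962) (tt N35027 F301968) (tt N40421 F325821))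
theorem Q45614 : ∀ i, i < 45614 → P i := stepQ 45613 Q45613 (allL N45613 (tt N54311 (iv1 F334218)) (tt N79339 (iv0 F318081)) (tt N79423 D161965) (tt N23601 (iv3 D77794)) (tt N46909 (iv4 F127679)) (tt N79370 (iv5 F303249)) (tt N47168 (iv6 F128420)) (tt N46902 F127662))
theorem Q45615 : ∀ i, i < 45615 → P i := stepQ 45614 Q45614 (allL N45614 (tt N23609 (iv1 F117632)) (tt N23602 (iv0 D77807)) (tt N40490 F323775) (tt N79424 D161987) (tt N33552 (iv4 F324739)) (tt N24099 F302382) (tt N47813 (iv6 F324471)) (tt N35442 F323776))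
theorem Q45616 : ∀ i, i < 45616 → P i := stepQ 45615 Q45615 (allL N45615 (tt N45504 F300805) (tt N45503 F300806) (tt N23607 F117647) (tt N40510 F325823) (tt N59524 (iv4 F343761)) (tt N23605 (iv5 D77828)) (tt N31832 F325824) (tt N63870 (iv7 F191474)))
theorem Q45617 : ∀ i, i < 45617 → P i := stepQ 45616 Q45616 (allL N45616 (tt N52961 (iv1 F311768)) (tt N49508 (iv0 F343473)) (tt N52944 F309564) (tt N23606 (iv3 D77831)) (tt N23608 F117649) (tt N79425 D162025) (tt N35254 (iv6 F304329)) (tt N34976 (iv7 F121526)))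
theorem Q45618 : ∀ i, i < 45618 → P i := stepQ 45617 Q45617 (allL N45617 (tt N44934 F302024) (tt N46735 F302025) (tt N34980 (iv2 F121529)) (tt N79425 (iv3 F256040)) (tt N59276 (iv4 F332946)) (tt N23606 (iv5 D77832)) (tt N59051 (iv6 F332947)) (tt N34977 (iv7 F121527)))
theorem Q45619 : ∀ i, i < 45619 → P i := stepQ 45618 Q45618 (allL N45618 (tt N63870 (iv1 F191476)) (tt N23607 (iv0 D77834)) (tt N45504 (iv2 F298987)) (tt N24166 F297171) (tt N64576 (iv4 F197609)) (tt N24164 F297172) (tt N58733 (iv6 F326649)) (tt N45503 (iv7 F298985)))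
theorem Q45620 : ∀ i, i < 45620 → P i := stepQ 45619 Q45619 (allL N45619 (tt N23607 (iv1 D77835)) (tt N63870 (iv0 F191475)) (tt N45503 (iv2 F298984)) (tt N23652 F123182) (tt N64575 (iv4 F197603)) (tt N27972 F297170) (tt N40509 F325840) (tt N45504 (iv7 F298990)))
theorem Q45621 : ∀ i, i < 45621 → P i := stepQ 45620 Q45620 (allL N45620 (tt N44936 (iv1 F302539)) (tt N46736 (iv0 F304010)) (tt N59524 (iv2 F343760)) (tt N31829 (iv3 F326230)) (tt N23607 (iv4 D77836)) (tt N31150 F343755) (tt N31828 F325825) (tt N47890 (iv7 F302261)))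
theorem Q45622 : ∀ i, i < 45622 → P i := stepQ 45621 Q45621 (allL N45621 (tt N23608 (iv1 D77843)) (tt N47483 F309560) (tt N47442 F306602) (tt N66372 (iv3 F331970)) (tt N49590 (iv4 F306920)) (tt N47316 (iv5 F308413)) (tt N44760 F306603) (tt N47258 F198060))
theorem Q45623 : ∀ i, i < 45623 → P i := stepQ 45622 Q45622 (allL N45622 (tt N79426 D162043) (tt N66367 (iv0 F331959)) (tt N54321 (iv2 F312798)) (tt N23609 F117654) (tt N79427 D162045) (tt N23608 (iv5 D77845)) (tt N44062 (iv6 F325121)) (tt N40491 F325021))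
theorem Q45624 : ∀ i, i < 45624 → P i := stepQ 45623 Q45623 (allL N45623 (tt N31196 F326978) (tt N31212 F326979) (tt N23610 (iv2 D77862)) (tt N52800 F298901) (tt N35268 (iv4 F118753)) (tt N46375 F298902) (tt N64366 F298903) (tt N31211 F326990))
theorem Q45625 : ∀ i, i < 45625 → P i := stepQ 45624 Q45624 (allL N45624 (tt N30982 F324503) (tt N35249 (iv0 F119112)) (tt N35268 F118752) (tt N30931 F326044) (tt N23610 (iv4 D77863)) (tt N79428 D162074) (tt N64936 (iv6 F299748)) (tt N35269 F118749))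
theorem Q45626 : ∀ i, i < 45626 → P i := stepQ 45625 Q45625 (allL N45625 (tt N46185 (iv1 F194672)) (tt N45662 F299031) (tt N64366 F299032) (tt N23611 F118756) (tt N64936 (iv4 F299746)) (tt N25017 (iv5 F118757)) (tt N23610 (iv6 D77865)) (tt N23620 F299033))
theorem Q45627 : ∀ i, i < 45627 → P i := stepQ 45626 Q45626 (allL N45626 (tt N23804 (iv1 F296925)) (tt N25309 F119133) (tt N44652 F119130) (tt N79429 D162162) (tt N23613 (iv4 D77908)) (tt N64289 (iv5 F195620)) (tt N31218 F326389) (tt N29061 F119131))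
theorem Q45628 : ∀ i, i < 45628 → P i := stepQ 45627 Q45627 (allL N45627 (tt N58736 (iv1 F326635)) (tt N58733 (iv0 F326644)) (tt N23616 F119153) (tt N49306 (iv3 F135924)) (tt N56820 (iv4 F337378)) (tt N45627 F119154) (tt N23614 (iv6 D77939)) (tt N49306 (iv7 F297433)))
theorem Q45629 : ∀ i, i < 45629 → P i := stepQ 45628 Q45628 (allL N45628 (tt N45330 F119156) (tt N45368 F119157) (tt N63880 F191513) (tt N58038 (iv3 F326833)) (tt N63879 (iv4 F191508)) (tt N23615 (iv5 D77941)) (tt N79430 D162235) (tt N63879 F191510))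
theorem Q45630 : ∀ i, i < 45630 → P i := stepQ 45629 Q45629 (allL N45629 (tt N45993 (iv1 F299718)) (tt N78445 (iv0 F299555)) (tt N56820 (iv2 F337377)) (tt N58039 (iv3 F326653)) (tt N23616 F119158) (tt N56819 (iv5 F358806)) (tt N23615 (iv6 D77942)) (tt N48310 (iv7 F299553)))
theorem Q45631 : ∀ i, i < 45631 → P i := stepQ 45630 Q45630 (allL N45630 (tt N49306 F298413) (tt N23616 (iv0 D77943)) (tt N58736 (iv2 F326636)) (tt N23741 F298414) (tt N64157 (iv4 F256385)) (tt N31229 (iv5 F326651)) (tt N40508 F325830) (tt N58733 (iv7 F326650)))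
theorem Q45632 : ∀ i, i < 45632 → P i := stepQ 45631 Q45631 (allL N45631 (tt N23616 (iv1 D77944)) (tt N49306 F298089) (tt N58733 (iv2 F326646)) (tt N49309 F298091) (tt N64158 F256104) (tt N31230 F328279) (tt N45504 (iv6 F298989)) (tt N58736 (iv7 F326640)))
theorem Q45633 : ∀ i, i < 45633 → P i := stepQ 45632 Q45632 (allL N45632 (tt N79431 D162242) (tt N38896 F339518) (tt N79432 D162244) (tt N23617 (iv3 D77946)) (tt N44653 F119161) (tt N37363 (iv5 F322723)) (tt N64166 (iv6 F302607)) (tt N23808 F299716))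
theorem Q45634 : ∀ i, i < 45634 → P i := stepQ 45633 Q45633 (allL N45633 (tt N34468 F119176) (tt N45365 F119177) (tt N63873 (iv2 F191499)) (tt N59557 (iv3 F326022)) (tt N63871 (iv4 F191495)) (tt N23619 (iv5 D77965)) (tt N79433 D162293) (tt N63871 (iv7 F191494)))
theorem Q45635 : ∀ i, i < 45635 → P i := stepQ 45634 Q45634 (allL N45634 (tt N64352 (iv1 F196314)) (tt N63990 (iv0 F192015)) (tt N63874 (iv2 F191502)) (tt N59558 (iv3 F323808)) (tt N23620 F119178) (tt N78141 (iv5 F360035)) (tt N23619 (iv6 D77966)) (tt N64936 (iv7 F198703)))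
theorem Q45636 : ∀ i, i < 45636 → P i := stepQ 45635 Q45635 (allL N45635 (tt N64366 (iv1 F196426)) (tt N23620 (iv0 D77967)) (tt N45662 (iv2 F123643)) (tt N27283 (iv3 F133775)) (tt N35216 (iv4 F148258)) (tt N46415 F299029) (tt N31231 F327887) (tt N46185 F299030))
theorem Q45637 : ∀ i, i < 45637 → P i := stepQ 45636 Q45636 (allL N45636 (tt N23620 (iv1 D77968)) (tt N64366 F196425) (tt N46185 F298308) (tt N45644 F123639) (tt N35217 F123642) (tt N46416 (iv5 F300564)) (tt N45540 F298309) (tt N45662 (iv7 F123641)))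
theorem Q45638 : ∀ i, i < 45638 → P i := stepQ 45637 Q45637 (allL N45637 (tt N31714 (iv1 F326912)) (tt N46304 (iv0 F257641)) (tt N35901 F326791) (tt N79341 F254178) (tt N23623 (iv4 D78004)) (tt N79434 D162408) (tt N35886 (iv6 F327430)) (tt N35898 F326792))
theorem Q45639 : ∀ i, i < 45639 → P i := stepQ 45638 Q45638 (allL N45638 (tt N70204 (iv1 F327055)) (tt N29853 (iv0 F327420)) (tt N58215 (iv2 F327421)) (tt N23624 (iv3 D78008)) (tt N57910 (iv4 F327423)) (tt N57720 (iv5 F326948)) (tt N74252 (iv6 F327424)) (tt N35900 F326786))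
theorem Q45640 : ∀ i, i < 45640 → P i := stepQ 45639 Q45639 (allL N45639 (tt N46304 (iv1 F257642)) (tt N31714 (iv0 F326911)) (tt N35898 F326787) (tt N25331 (iv3 F119216)) (tt N23624 (iv4 D78009)) (tt N44637 F248724) (tt N74253 (iv6 F327429)) (tt N35901 F326788))
theorem Q45641 : ∀ i, i < 45641 → P i := stepQ 45640 Q45640 (allL N45640 (tt N36412 (iv1 F119231)) (tt N23626 (iv0 D78044)) (tt N36511 F123977) (tt N34257 (iv3 F298299)) (tt N44044 F305944) (tt N78332 (iv5 F248329)) (tt N34255 (iv6 F298300)) (tt N36512 (iv7 F123976)))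
theorem Q45642 : ∀ i, i < 45642 → P i := stepQ 45641 Q45641 (allL N45641 (tt N23626 (iv1 D78045)) (tt N36412 F119233) (tt N36512 (iv2 F123975)) (tt N67609 (iv3 F307892)) (tt N44045 F305946) (tt N78331 (iv5 F248322)) (tt N63861 (iv6 F314483)) (tt N36511 F123978))
theorem Q45643 : ∀ i, i < 45643 → P i := stepQ 45642 Q45642 (allL N45642 (tt N79435 D162537) (tt N69208 (iv0 F344834)) (tt N23631 F119237) (tt N77135 (iv3 F241655)) (tt N25362 F119238) (tt N47213 (iv5 F298302)) (tt N23627 (iv6 D78047)) (tt N79436 D162540))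
theorem Q45644 : ∀ i, i < 45644 → P i := stepQ 45643 Q45643 (allL N45643 (tt N23639 (iv1 F119255)) (tt N23628 (iv0 D78059)) (tt N23636 F119311) (tt N23962 F296733) (tt N65145 (iv4 F298307)) (tt N27995 (iv5 F298274)) (tt N64131 (iv6 F193225)) (tt N23637 F119312))
theorem Q45645 : ∀ i, i < 45645 → P i := stepQ 45644 Q45644 (allL N45644 (tt N23628 (iv1 D78060)) (tt N23639 F119248) (tt N23637 F119308) (tt N45636 (iv3 F123639)) (tt N65144 (iv4 F298311)) (tt N24148 (iv5 F119249)) (tt N23982 (iv6 F121377)) (tt N23636 F119309))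
theorem Q45646 : ∀ i, i < 45646 → P i := stepQ 45645 Q45645 (allL N45645 (tt N47233 (iv1 F298312)) (tt N47234 (iv0 F298313)) (tt N23638 F119250) (tt N79437 D162554) (tt N23628 (iv4 D78061)) (tt N47251 (iv5 F298314)) (tt N24044 F119251) (tt N49346 (iv7 F298315)))
theorem Q45647 : ∀ i, i < 45647 → P i := stepQ 45646 Q45646 (allL N45646 (tt N47035 (iv1 F128078)) (tt N23629 (iv0 D78063)) (tt N47034 F128080) (tt N36568 F119258) (tt N46807 F127146) (tt N46891 F298865) (tt N70046 (iv6 F317948)) (tt N47033 F128073))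
theorem Q45648 : ∀ i, i < 45648 → P i := stepQ 45647 Q45647 (allL N45647 (tt N23629 (iv1 D78064)) (tt N47035 F128083) (tt N47033 (iv2 F128082)) (tt N47968 (iv3 F301503)) (tt N43440 F302463) (tt N43838 (iv5 F304870)) (tt N47179 (iv6 F301507)) (tt N47034 F128081))
theorem Q45649 : ∀ i, i < 45649 → P i := stepQ 45648 Q45648 (allL N45648 (tt N47034 (iv1 F128079)) (tt N47033 F128072) (tt N23629 (iv2 D78065)) (tt N43956 F119260) (tt N47157 (iv4 F128377)) (tt N42091 F308683) (tt N47175 (iv6 F301371)) (tt N47035 (iv7 F128077)))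
theorem Q45650 : ∀ i, i < 45650 → P i := stepQ 45649 Q45649 (allL N45649 (tt N79438 D162570) (tt N79439 D162571) (tt N25362 F119266) (tt N67830 (iv3 F342212)) (tt N23631 F119267) (tt N68960 (iv5 F315273)) (tt N23630 (iv6 D78070)) (tt N79440 D162573))
theorem Q45651 : ∀ i, i < 45651 → P i := stepQ 45650 Q45650 (allL N45650 (tt N79436 (iv1 F256748)) (tt N23631 (iv0 D78071)) (tt N79435 (iv2 F354963)) (tt N43834 F342205) (tt N69209 (iv4 F342203)) (tt N79441 D162577) (tt N79442 D162578) (tt N69208 (iv7 F342207)))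
theorem Q45652 : ∀ i, i < 45652 → P i := stepQ 45651 Q45651 (allL N45651 (tt N23631 (iv1 D78072)) (tt N79436 F256747) (tt N69208 (iv2 F342206)) (tt N57397 (iv3 F344840)) (tt N47499 (iv4 F344838)) (tt N79443 D162582) (tt N47498 (iv6 F344839)) (tt N79435 (iv7 F354965)))
theorem Q45653 : ∀ i, i < 45653 → P i := stepQ 45652 Q45652 (allL N45652 (tt N79444 D162584) (tt N79445 D162585) (tt N47213 F298876) (tt N36580 F119268) (tt N79446 D162586) (tt N23631 (iv5 D78073)) (tt N23632 F119269) (tt N79447 D162587))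
theorem Q45654 : ∀ i, i < 45654 → P i := stepQ 45653 Q45653 (allL N45653 (tt N69208 (iv1 F344835)) (tt N79435 F256746) (tt N79436 (iv2 F256744)) (tt N36581 F119270) (tt N79440 (iv4 F256816)) (tt N79447 (iv5 F256825)) (tt N48393 (iv6 F132315)) (tt N23631 (iv7 D78074)))
theorem Q45655 : ∀ i, i < 45655 → P i := stepQ 45654 Q45654 (allL N45654 (tt N46933 F300603) (tt N23632 (iv0 D78084)) (tt N47210 F300604) (tt N79448 D162604) (tt N79449 D162605) (tt N44840 F300605) (tt N79450 D162606) (tt N47211 F300606))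
theorem Q45656 : ∀ i, i < 45656 → P i := stepQ 45655 Q45655 (allL N45655 (tt N23632 (iv1 D78085)) (tt N46933 F300607) (tt N47211 F300608) (tt N79451 D162607) (tt N79452 D162608) (tt N44816 (iv5 F119273)) (tt N79453 D162609) (tt N47210 F300609))
theorem Q45657 : ∀ i, i < 45657 → P i := stepQ 45656 Q45656 (allL N45656 (tt N79454 D162610) (tt N79455 D162611) (tt N47212 F300610) (tt N79456 D162612) (tt N23632 (iv4 D78086)) (tt N79457 D162613) (tt N79446 (iv6 F256823)) (tt N47214 (iv7 F303402)))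
theorem Q45658 : ∀ i, i < 45658 → P i := stepQ 45657 Q45657 (allL N45657 (tt N31879 F325195) (tt N47886 F299325) (tt N31209 (iv2 F325721)) (tt N23635 F119284) (tt N79458 D162617) (tt N23633 (iv5 D78097)) (tt N31195 F325196) (tt N29062 F299328))
theorem Q45659 : ∀ i, i < 45659 → P i := stepQ 45658 Q45658 (allL N45658 (tt N67953 (iv1 F337523)) (tt N64663 (iv0 F337511)) (tt N79459 D162623) (tt N23634 (iv3 D78102)) (tt N53861 (iv4 F302305)) (tt N79460 D162624) (tt N24704 (iv6 F302234)) (tt N24529 F300612))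
theorem Q45660 : ∀ i, i < 45660 → P i := stepQ 45659 Q45659 (allL N45659 (tt N24724 (iv1 F301013)) (tt N24723 (iv0 F302240)) (tt N24726 F300613) (tt N79460 (iv3 F256856)) (tt N79461 D162628) (tt N23634 (iv5 D78103)) (tt N79462 D162629) (tt N24531 F300614))
theorem Q45661 : ∀ i, i < 45661 → P i := stepQ 45660 Q45660 (allL N45660 (tt N24683 F299329) (tt N24681 F299330) (tt N49349 F299331) (tt N79463 D162635) (tt N23635 (iv4 D78108)) (tt N79464 D162636) (tt N59756 (iv6 F323918)) (tt N29064 F299332))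
theorem Q45662 : ∀ i, i < 45662 → P i := stepQ 45661 Q45661 (allL N45661 (tt N29069 (iv1 F297228)) (tt N29068 (iv0 F297225)) (tt N29070 (iv2 F297234)) (tt N31195 (iv3 F323916)) (tt N59756 (iv4 F323917)) (tt N31193 (iv5 F323919)) (tt N23635 (iv6 D78109)) (tt N26291 F296278))
theorem Q45663 : ∀ i, i < 45663 → P i := stepQ 45662 Q45662 (allL N45662 (tt N45625 (iv1 F299031)) (tt N34838 F148246) (tt N45635 F123643) (tt N23636 (iv3 D78131)) (tt N64353 (iv4 F196321)) (tt N45505 (iv5 F298992)) (tt N31230 F328280) (tt N45636 F123641))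
theorem Q45664 : ∀ i, i < 45664 → P i := stepQ 45663 Q45663 (allL N45663 (tt N24680 F300456) (tt N24676 F300457) (tt N65145 F300458) (tt N79465 D162652) (tt N23636 (iv4 D78132)) (tt N79466 D162653) (tt N79467 D162654) (tt N65144 F300459))
theorem Q45665 : ∀ i, i < 45665 → P i := stepQ 45664 Q45664 (allL N45664 (tt N79468 D162655) (tt N58670 (iv0 F323965)) (tt N64131 (iv2 F193222)) (tt N31230 F328278) (tt N79467 (iv4 F256893)) (tt N49309 F298092) (tt N23636 (iv6 D78134)) (tt N58734 (iv7 F358813)))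
theorem Q45666 : ∀ i, i < 45666 → P i := stepQ 45665 Q45665 (allL N45665 (tt N24676 F300460) (tt N24680 F300461) (tt N65144 F300462) (tt N79469 D162657) (tt N23637 (iv4 D78137)) (tt N79470 D162658) (tt N24888 F300463) (tt N65145 F300464))
theorem Q45667 : ∀ i, i < 45667 → P i := stepQ 45666 Q45666 (allL N45666 (tt N49346 F298762) (tt N23638 (iv0 D78140)) (tt N47233 F298763) (tt N58740 (iv3 F325044)) (tt N35320 F298764) (tt N79471 D162660) (tt N58738 (iv6 F326191)) (tt N47234 F298765))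
theorem Q45668 : ∀ i, i < 45668 → P i := stepQ 45667 Q45667 (allL N45667 (tt N23638 (iv1 D78141)) (tt N49346 F298766) (tt N47234 F298767) (tt N51728 (iv3 F327919)) (tt N35319 F298768) (tt N79472 D162663) (tt N28864 F327387) (tt N47233 F298769))
theorem Q45669 : ∀ i, i < 45669 → P i := stepQ 45668 Q45668 (allL N45668 (tt N79473 D162664) (tt N51664 (iv0 F344666)) (tt N79474 D162666) (tt N23638 (iv3 D78142)) (tt N23641 F119314) (tt N79475 D162667) (tt N24051 F119315) (tt N79476 D162668))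
theorem Q45670 : ∀ i, i < 45670 → P i := stepQ 45669 Q45669 (allL N45669 (tt N47255 (iv1 F301423)) (tt N46942 F299370) (tt N47251 F299371) (tt N79475 (iv3 F256906)) (tt N79477 D162671) (tt N23638 (iv5 D78143)) (tt N79478 D162672) (tt N47252 (iv7 F302248)))
theorem Q45671 : ∀ i, i < 45671 → P i := stepQ 45670 Q45670 (allL N45670 (tt N47234 F300452) (tt N47233 F300453) (tt N49346 F300454) (tt N79476 (iv3 F256907)) (tt N23639 F119316) (tt N47252 (iv5 F302247)) (tt N24632 F300455) (tt N23638 (iv7 D78144)))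
theorem Q45672 : ∀ i, i < 45672 → P i := stepQ 45671 Q45671 (allL N45671 (tt N66883 (iv1 F333984)) (tt N23641 (iv0 D78148)) (tt N66884 (iv2 F333989)) (tt N55524 (iv3 F343041)) (tt N55463 (iv4 F340309)) (tt N46480 (iv5 F333990)) (tt N75412 (iv6 F336602)) (tt N55460 (iv7 F333991)))
theorem Q45673 : ∀ i, i < 45673 → P i := stepQ 45672 Q45672 (allL N45672 (tt N66884 (iv1 F340266)) (tt N55460 (iv0 F335287)) (tt N23641 (iv2 D78150)) (tt N45884 (iv3 F119801)) (tt N79474 (iv4 F256904)) (tt N79479 D162692) (tt N24055 F119324) (tt N66883 (iv7 F333988)))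
theorem Q45674 : ∀ i, i < 45674 → P i := stepQ 45673 Q45673 (allL N45673 (tt N79480 D162693) (tt N37204 F340264) (tt N79479 (iv2 F256930)) (tt N23642 F119325) (tt N77280 (iv4 F318946)) (tt N23641 (iv5 D78151)) (tt N46310 (iv6 F122764)) (tt N66964 (iv7 F317565)))
theorem Q45675 : ∀ i, i < 45675 → P i := stepQ 45674 Q45674 (allL N45674 (tt N55460 (iv1 F335288)) (tt N66884 (iv0 F340265)) (tt N66883 (iv2 F333985)) (tt N23643 F119326) (tt N79476 (iv4 F256908)) (tt N66964 (iv5 F317564)) (tt N45483 F119327) (tt N23641 (iv7 D78152)))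
theorem Q45676 : ∀ i, i < 45676 → P i := stepQ 45675 Q45675 (allL N45675 (tt N47054 F317071) (tt N47056 F317072) (tt N44811 F317073) (tt N23644 (iv3 D78161)) (tt N54246 (iv4 F303605)) (tt N44679 F317074) (tt N24836 (iv6 F301546)) (tt N44809 F317075))
theorem Q45677 : ∀ i, i < 45677 → P i := stepQ 45676 Q45676 (allL N45676 (tt N44680 F300814) (tt N44807 F300815) (tt N38098 F314373) (tt N44679 (iv3 F314796)) (tt N46731 F312372) (tt N23644 (iv5 D78162)) (tt N79481 D162702) (tt N44808 (iv7 F312594)))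
theorem Q45678 : ∀ i, i < 45678 → P i := stepQ 45677 Q45677 (allL N45677 (tt N44683 F298043) (tt N44834 F298044) (tt N44844 F298045) (tt N79482 D162703) (tt N23645 (iv4 D78167)) (tt N79483 D162704) (tt N58665 (iv6 F323955)) (tt N44843 F298046))
theorem Q45679 : ∀ i, i < 45679 → P i := stepQ 45678 Q45678 (allL N45678 (tt N63864 (iv1 F332077)) (tt N63861 (iv0 F332058)) (tt N77281 (iv2 F242261)) (tt N23646 (iv3 D78186)) (tt N48432 (iv4 F132673)) (tt N63561 (iv5 F344895)) (tt N47593 (iv6 F301024)) (tt N47048 (iv7 F128116)))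
theorem Q45680 : ∀ i, i < 45680 → P i := stepQ 45679 Q45679 (allL N45679 (tt N44835 F300818) (tt N44839 F300819) (tt N23650 F119392) (tt N63561 (iv3 F344894)) (tt N79484 D162709) (tt N23646 (iv5 D78187)) (tt N63560 (iv6 F334401)) (tt N47049 (iv7 F128118)))
theorem Q45681 : ∀ i, i < 45681 → P i := stepQ 45680 Q45680 (allL N45680 (tt N44836 (iv1 F299496)) (tt N44841 (iv0 F299498)) (tt N23654 F119395) (tt N79485 D162711) (tt N23647 (iv4 D78189)) (tt N79486 D162712) (tt N46940 F299367) (tt N58441 (iv7 F326132)))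
theorem Q45682 : ∀ i, i < 45682 → P i := stepQ 45681 Q45681 (allL N45681 (tt N45683 (iv1 F314797)) (tt N66971 (iv0 F314798)) (tt N76026 (iv2 F314800)) (tt N23648 (iv3 D78191)) (tt N59885 (iv4 F325793)) (tt N52814 F312373) (tt N46773 F300825) (tt N47036 F128086))
theorem Q45683 : ∀ i, i < 45683 → P i := stepQ 45682 Q45682 (allL N45682 (tt N24449 F299509) (tt N47050 F128127) (tt N47052 (iv2 F128125)) (tt N52814 (iv3 F310109)) (tt N48928 (iv4 F310110)) (tt N23648 (iv5 D78192)) (tt N79487 D162718) (tt N47037 (iv7 F128088)))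
theorem Q45684 : ∀ i, i < 45684 → P i := stepQ 45683 Q45683 (allL N45683 (tt N79488 D162719) (tt N45681 F314797) (tt N77282 (iv2 F242264)) (tt N23650 F119404) (tt N79489 D162721) (tt N23649 (iv5 D78196)) (tt N79490 D162722) (tt N42718 F119405))
theorem Q45685 : ∀ i, i < 45685 → P i := stepQ 45684 Q45684 (allL N45684 (tt N79491 D162723) (tt N79492 D162724) (tt N77283 (iv2 F242268)) (tt N23651 F119406) (tt N23661 F119407) (tt N46857 F303459) (tt N23649 (iv6 D78197)) (tt N46478 (iv7 F123783)))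
theorem Q45686 : ∀ i, i < 45686 → P i := stepQ 45685 Q45685 (allL N45685 (tt N23650 (iv1 D78199)) (tt N47049 F128119) (tt N44839 F300784) (tt N79493 D162729) (tt N79494 D162730) (tt N27992 F300785) (tt N79495 D162731) (tt N44835 F300786))
theorem Q45687 : ∀ i, i < 45687 → P i := stepQ 45686 Q45686 (allL N45686 (tt N34908 F320206) (tt N78620 (iv0 F306238)) (tt N79484 (iv2 F256942)) (tt N28314 (iv3 F334408)) (tt N23650 (iv4 D78200)) (tt N79496 D162735) (tt N28311 F334407) (tt N64093 (iv7 F193030)))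
theorem Q45688 : ∀ i, i < 45688 → P i := stepQ 45687 Q45687 (allL N45687 (tt N79497 D162737) (tt N79498 D162738) (tt N63560 (iv2 F334399)) (tt N79490 (iv3 F256957)) (tt N28311 (iv4 F334406)) (tt N46859 F304295) (tt N23650 (iv6 D78201)) (tt N28809 F334392))
theorem Q45689 : ∀ i, i < 45689 → P i := stepQ 45688 Q45688 (allL N45688 (tt N59831 (iv1 F326440)) (tt N65151 (iv0 F302200)) (tt N64096 (iv2 F193044)) (tt N79499 D162745) (tt N23652 (iv4 D78207)) (tt N78653 (iv5 F302427)) (tt N45450 F121470) (tt N64095 (iv7 F193037)))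
theorem Q45690 : ∀ i, i < 45690 → P i := stepQ 45689 Q45689 (allL N45689 (tt N47724 F195251) (tt N23684 (iv0 F297460)) (tt N24166 F297125) (tt N23653 (iv3 D78211)) (tt N74654 (iv4 F326465)) (tt N24155 F297126) (tt N23740 F297127) (tt N24163 F297128))
theorem Q45691 : ∀ i, i < 45691 → P i := stepQ 45690 Q45690 (allL N45690 (tt N65151 (iv1 F302201)) (tt N59831 (iv0 F326439)) (tt N64095 (iv2 F193036)) (tt N60550 (iv3 F357440)) (tt N23653 (iv4 D78212)) (tt N60549 (iv5 F356139)) (tt N64130 (iv6 F193221)) (tt N64096 (iv7 F193045)))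
theorem Q45692 : ∀ i, i < 45692 → P i := stepQ 45691 Q45691 (allL N45691 (tt N58441 (iv1 F326128)) (tt N23654 (iv0 D78215)) (tt N44836 F301559) (tt N40506 (iv3 F327362)) (tt N40507 F326668) (tt N79500 D162751) (tt N44833 F301561) (tt N44841 F301562))
theorem Q45693 : ∀ i, i < 45693 → P i := stepQ 45692 Q45692 (allL N45692 (tt N23654 (iv1 D78216)) (tt N58441 (iv0 F326127)) (tt N44841 F300447) (tt N79501 D162753) (tt N44682 F300448) (tt N79502 D162754) (tt N45977 F300449) (tt N44836 F300450))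
theorem Q45694 : ∀ i, i < 45694 → P i := stepQ 45693 Q45693 (allL N45693 (tt N79503 D162756) (tt N79504 D162757) (tt N79505 D162758) (tt N23654 (iv3 D78217)) (tt N23668 F119413) (tt N79506 D162759) (tt N47246 F304731) (tt N64097 (iv7 F193052)))
theorem Q45695 : ∀ i, i < 45695 → P i := stepQ 45694 Q45694 (allL N45694 (tt N59853 (iv1 F326154)) (tt N47061 (iv0 F128172)) (tt N79486 (iv2 F256944)) (tt N79506 (iv3 F256986)) (tt N79507 D162762) (tt N23654 (iv5 D78218)) (tt N79508 D162763) (tt N64098 (iv7 F193053)))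
theorem Q45696 : ∀ i, i < 45696 → P i := stepQ 45695 Q45695 (allL N45695 (tt N24623 F300598) (tt N24820 F300599) (tt N24822 F300600) (tt N64833 (iv3 F198387)) (tt N23656 (iv4 D78224)) (tt N46671 (iv5 F301008)) (tt N24812 F300601) (tt N24556 (iv7 F300841)))
theorem Q45697 : ∀ i, i < 45697 → P i := stepQ 45696 Q45696 (allL N45696 (tt N33853 F188056) (tt N47335 (iv0 F189959)) (tt N47336 F189955) (tt N23658 (iv3 D78233)) (tt N34216 (iv4 F189964)) (tt N77600 (iv5 F243936)) (tt N36524 F189956) (tt N34213 F189957))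
theorem Q45698 : ∀ i, i < 45698 → P i := stepQ 45697 Q45697 (allL N45697 (tt N36553 (iv1 F189936)) (tt N36552 (iv0 F189933)) (tt N36555 (iv2 F191391)) (tt N79509 D162770) (tt N23658 (iv4 D78234)) (tt N38082 F311890) (tt N36537 F191390) (tt N36509 (iv7 F191392)))
theorem Q45699 : ∀ i, i < 45699 → P i := stepQ 45698 Q45698 (allL N45698 (tt N36557 F190964) (tt N33855 F190965) (tt N36558 (iv2 F190967)) (tt N77600 (iv3 F243938)) (tt N35083 F190966) (tt N23658 (iv5 D78235)) (tt N43735 (iv6 F190968)) (tt N35078 (iv7 F190969)))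
theorem Q45700 : ∀ i, i < 45700 → P i := stepQ 45699 Q45699 (allL N45699 (tt N42721 (iv1 F119424)) (tt N42720 F119425) (tt N23660 F119421) (tt N42709 F119422) (tt N29336 F306432) (tt N23659 (iv5 D78242)) (tt N44319 F308325) (tt N29332 F306433))
theorem Q45701 : ∀ i, i < 45701 → P i := stepQ 45700 Q45700 (allL N45700 (tt N36617 (iv1 F201234)) (tt N46486 F123837) (tt N23661 F119426) (tt N42710 F119427) (tt N77283 (iv4 F242269)) (tt N36493 (iv5 F190679)) (tt N23659 (iv6 D78243)) (tt N46487 (iv7 F123838)))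
theorem Q45702 : ∀ i, i < 45702 → P i := stepQ 45701 Q45701 (allL N45701 (tt N29332 F306419) (tt N23660 (iv0 D78244)) (tt N42721 F233742) (tt N76104 F238784) (tt N28619 F306420) (tt N42838 (iv5 F206120)) (tt N75429 (iv6 F231475)) (tt N42720 F233716))
theorem Q45703 : ∀ i, i < 45703 → P i := stepQ 45702 Q45702 (allL N45702 (tt N23660 (iv1 D78245)) (tt N29332 F305398) (tt N42720 F233719) (tt N45247 (iv3 F309486)) (tt N28692 F305400) (tt N42839 (iv5 F204992)) (tt N42690 F204994) (tt N42721 (iv7 F233741)))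
theorem Q45704 : ∀ i, i < 45704 → P i := stepQ 45703 Q45703 (allL N45703 (tt N79510 D162789) (tt N79511 D162790) (tt N79512 D162791) (tt N23664 (iv3 D78257)) (tt N45477 F305662) (tt N79513 D162792) (tt N45477 F119452) (tt N64089 (iv7 F193006)))
theorem Q45705 : ∀ i, i < 45705 → P i := stepQ 45704 Q45704 (allL N45704 (tt N34639 F119453) (tt N34641 F119454) (tt N45766 F119615) (tt N79513 (iv3 F257074)) (tt N35453 F311392) (tt N23664 (iv5 D78258)) (tt N44085 (iv6 F313833)) (tt N45765 F119611))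
theorem Q45706 : ∀ i, i < 45706 → P i := stepQ 45705 Q45705 (allL N45705 (tt N79514 D162799) (tt N78571 (iv0 F333798)) (tt N79515 D162801) (tt N23666 (iv3 D78261)) (tt N79516 D162802) (tt N79517 D162803) (tt N44932 F119457) (tt N47778 (iv7 F129727)))
theorem Q45707 : ∀ i, i < 45707 → P i := stepQ 45706 Q45706 (allL N45706 (tt N24983 F119459) (tt N24985 F119460) (tt N44929 F119458) (tt N79517 (iv3 F257081)) (tt N36229 F318508) (tt N23666 (iv5 D78262)) (tt N44081 (iv6 F311368)) (tt N45754 (iv7 F119592)))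
theorem Q45708 : ∀ i, i < 45708 → P i := stepQ 45707 Q45707 (allL N45707 (tt N79518 D162805) (tt N79519 D162806) (tt N79520 D162807) (tt N23667 (iv3 D78263)) (tt N79171 (iv4 F305000)) (tt N79521 D162809) (tt N45994 (iv6 F120051)) (tt N44928 F119461))
theorem Q45709 : ∀ i, i < 45709 → P i := stepQ 45708 Q45708 (allL N45708 (tt N24985 F119463) (tt N24983 F119464) (tt N45754 F119590) (tt N79521 (iv3 F257091)) (tt N36230 F318504) (tt N23667 (iv5 D78264)) (tt N45514 (iv6 F323533)) (tt N44929 F119462))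
theorem Q45710 : ∀ i, i < 45710 → P i := stepQ 45709 Q45709 (allL N45709 (tt N64101 (iv1 F193076)) (tt N23668 (iv0 D78265)) (tt N64100 (iv2 F362182)) (tt N79522 D162812) (tt N79523 D162813) (tt N79524 D162814) (tt N79525 D162815) (tt N64099 (iv7 F336599)))
theorem Q45711 : ∀ i, i < 45711 → P i := stepQ 45710 Q45710 (allL N45710 (tt N23668 (iv1 D78266)) (tt N64101 F193078) (tt N64099 (iv2 F336598)) (tt N68551 (iv3 F336596)) (tt N79526 D162818) (tt N79527 D162819) (tt N38080 (iv6 F336597)) (tt N64100 (iv7 F362185)))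
theorem Q45712 : ∀ i, i < 45712 → P i := stepQ 45711 Q45711 (allL N45711 (tt N64100 (iv1 F193077)) (tt N64099 F193073) (tt N23668 (iv2 D78267)) (tt N64092 (iv3 F193008)) (tt N79505 (iv4 F256985)) (tt N79528 D162821) (tt N77030 (iv6 F323498)) (tt N64101 (iv7 F193075)))
theorem Q45713 : ∀ i, i < 45713 → P i := stepQ 45712 Q45712 (allL N45712 (tt N42135 F336611) (tt N79350 (iv0 F336617)) (tt N79528 (iv2 F257095)) (tt N23669 F119465) (tt N79529 D162825) (tt N23668 (iv5 D78268)) (tt N66943 (iv6 F336613)) (tt N44065 F311556))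
theorem Q45714 : ∀ i, i < 45714 → P i := stepQ 45713 Q45713 (allL N45713 (tt N79530 D162827) (tt N75195 (iv0 F336614)) (tt N77030 (iv2 F323495)) (tt N23670 F119466) (tt N47246 F302658) (tt N36486 F321786) (tt N23668 (iv6 D78269)) (tt N48254 (iv7 F131982)))
theorem Q45715 : ∀ i, i < 45715 → P i := stepQ 45714 Q45714 (allL N45714 (tt N44069 (iv1 F313997)) (tt N44068 (iv0 F313998)) (tt N44070 F311557) (tt N66943 (iv3 F336612)) (tt N34366 F311558) (tt N37228 F318579) (tt N23669 (iv6 D78270)) (tt N34363 (iv7 F313999)))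
theorem Q45716 : ∀ i, i < 45716 → P i := stepQ 45715 Q45715 (allL N45715 (tt N34448 F305742) (tt N43312 F305743) (tt N44588 F305744) (tt N23671 (iv3 D78272)) (tt N64875 (iv4 F304177)) (tt N34342 F305745) (tt N44506 F305746) (tt N43979 F305747))
theorem Q45717 : ∀ i, i < 45717 → P i := stepQ 45716 Q45716 (allL N45716 (tt N27716 F300243) (tt N43817 (iv0 F308078)) (tt N43816 (iv2 F308082)) (tt N34342 F306113) (tt N79531 D162838) (tt N23671 (iv5 D78273)) (tt N77034 (iv6 F308085)) (tt N43723 F306114))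
theorem Q45718 : ∀ i, i < 45718 → P i := stepQ 45717 Q45717 (allL N45717 (tt N27720 F298910) (tt N46586 F298911) (tt N35854 (iv2 F325582)) (tt N79532 D162840) (tt N23672 (iv4 D78274)) (tt N79533 D162841) (tt N31199 F325222) (tt N46288 F122722))
theorem Q45719 : ∀ i, i < 45719 → P i := stepQ 45718 Q45718 (allL N45718 (tt N48419 F309985) (tt N79534 D162844) (tt N75818 F309484) (tt N23673 (iv3 D78276)) (tt N47048 (iv4 F128115)) (tt N42817 (iv5 F311667)) (tt N47111 F299939) (tt N48432 (iv7 F132674)))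
theorem Q45720 : ∀ i, i < 45720 → P i := stepQ 45719 Q45719 (allL N45719 (tt N46583 F301855) (tt N44931 F301856) (tt N23681 F119474) (tt N35703 (iv3 F330148)) (tt N23674 (iv4 D78279)) (tt N35700 (iv5 F330149)) (tt N65633 (iv6 F325535)) (tt N48433 (iv7 F132682)))
theorem Q45721 : ∀ i, i < 45721 → P i := stepQ 45720 Q45720 (allL N45720 (tt N31200 F324454) (tt N23734 (iv0 F119476)) (tt N23682 F119475) (tt N45461 (iv3 F121382)) (tt N65633 (iv4 F325534)) (tt N51616 (iv5 F296828)) (tt N23674 (iv6 D78280)) (tt N48492 (iv7 F133013)))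
theorem Q45722 : ∀ i, i < 45722 → P i := stepQ 45721 Q45721 (allL N45721 (tt N24166 F119479) (tt N24163 (iv0 F119480)) (tt N23684 F119478) (tt N45449 (iv3 F121410)) (tt N79535 D162858) (tt N23675 (iv5 D78283)) (tt N51616 F297853) (tt N47724 F297854))
theorem Q45723 : ∀ i, i < 45723 → P i := stepQ 45722 Q45722 (allL N45722 (tt N75793 (iv1 F308765)) (tt N75794 (iv0 F308761)) (tt N64065 (iv2 F307145)) (tt N23676 (iv3 D78290)) (tt N34971 F121564) (tt N48464 F313374) (tt N46532 F299944) (tt N34950 (iv7 F121565)))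
theorem Q45724 : ∀ i, i < 45724 → P i := stepQ 45723 Q45723 (allL N45723 (tt N24300 F299942) (tt N36605 F310568) (tt N36604 F310569) (tt N48464 (iv3 F311103)) (tt N47105 (iv4 F312366)) (tt N23676 (iv5 D78291)) (tt N46487 (iv6 F312800)) (tt N34951 F121566))
theorem Q45725 : ∀ i, i < 45725 → P i := stepQ 45724 Q45724 (allL N45724 (tt N23677 (iv1 D78293)) (tt N42708 F119493) (tt N42711 F119492) (tt N46516 (iv3 F124129)) (tt N25066 (iv4 F119491)) (tt N63719 (iv5 F307144)) (tt N42605 (iv6 F130343)) (tt N25063 F119490))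
theorem Q45726 : ∀ i, i < 45726 → P i := stepQ 45725 Q45725 (allL N45725 (tt N25063 (iv1 F119497)) (tt N42711 F119496) (tt N23677 (iv2 D78294)) (tt N75818 (iv3 F307435)) (tt N23686 F119494) (tt N75817 (iv5 F307438)) (tt N47729 F302839) (tt N42708 F119495))
theorem Q45727 : ∀ i, i < 45727 → P i := stepQ 45726 Q45726 (allL N45726 (tt N64520 (iv1 F197447)) (tt N58832 (iv0 F325932)) (tt N64086 (iv2 F192990)) (tt N79536 D162894) (tt N23679 (iv4 D78306)) (tt N79537 D162895) (tt N70724 (iv6 F330381)) (tt N64085 (iv7 F192983)))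
theorem Q45728 : ∀ i, i < 45728 → P i := stepQ 45727 Q45727 (allL N45727 (tt N23732 F119516) (tt N23742 F119517) (tt N23741 F119719) (tt N45453 (iv3 F296611)) (tt N70724 (iv4 F330380)) (tt N45879 (iv5 F119795)) (tt N23679 (iv6 D78308)) (tt N23740 F119542))
theorem Q45729 : ∀ i, i < 45729 → P i := stepQ 45728 Q45728 (allL N45728 (tt N58832 (iv1 F325933)) (tt N64520 F197448) (tt N64085 (iv2 F192981)) (tt N79538 D162898) (tt N23680 (iv4 D78309)) (tt N79539 D162899) (tt N74655 (iv6 F326473)) (tt N64086 (iv7 F192992)))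
theorem Q45730 : ∀ i, i < 45730 → P i := stepQ 45729 Q45729 (allL N45729 (tt N23684 F119522) (tt N47724 (iv0 F297294)) (tt N24163 F119518) (tt N45503 F119519) (tt N74655 (iv4 F326471)) (tt N24154 F119520) (tt N23680 (iv6 D78310)) (tt N24166 (iv7 F119521)))
theorem Q45731 : ∀ i, i < 45731 → P i := stepQ 45730 Q45730 (allL N45730 (tt N23681 (iv1 D78312)) (tt N48433 F132683) (tt N44931 F301254) (tt N79540 D162904) (tt N27719 F301255) (tt N79541 D162905) (tt N47741 F301256) (tt N46583 F301257))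
theorem Q45732 : ∀ i, i < 45732 → P i := stepQ 45731 Q45731 (allL N45731 (tt N67472 (iv1 F395573)) (tt N79542 D162907) (tt N79543 D162908) (tt N23681 (iv3 D78313)) (tt N23691 F119523) (tt N79544 D162909) (tt N79545 D162910) (tt N64087 (iv7 F192997)))
theorem Q45733 : ∀ i, i < 45733 → P i := stepQ 45732 Q45732 (allL N45732 (tt N78744 (iv1 F299544)) (tt N66057 (iv0 F326140)) (tt N35700 F330153) (tt N79544 (iv3 F257225)) (tt N79546 D162913) (tt N23681 (iv5 D78314)) (tt N35698 (iv6 F330159)) (tt N64088 (iv7 F192998)))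
theorem Q45734 : ∀ i, i < 45734 → P i := stepQ 45733 Q45733 (allL N45733 (tt N48253 F299412) (tt N49197 (iv0 F135384)) (tt N65633 (iv2 F325533)) (tt N79545 (iv3 F257226)) (tt N23682 F119524) (tt N79547 D162916) (tt N23681 (iv6 D78315)) (tt N58846 F324458))
theorem Q45735 : ∀ i, i < 45735 → P i := stepQ 45734 Q45734 (allL N45734 (tt N48492 (iv1 F133012)) (tt N23682 (iv0 D78316)) (tt N31200 F324435) (tt N29070 (iv3 F119526)) (tt N58829 (iv4 F325554)) (tt N31198 F324436) (tt N23959 F119525) (tt N23734 (iv7 F119527)))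
theorem Q45736 : ∀ i, i < 45736 → P i := stepQ 45735 Q45735 (allL N45735 (tt N24922 F297767) (tt N24920 F297768) (tt N24951 F297769) (tt N64639 (iv3 F300030)) (tt N23683 (iv4 D78325)) (tt N76211 (iv5 F308516)) (tt N48409 (iv6 F132374)) (tt N24229 F297770))
theorem Q45737 : ∀ i, i < 45737 → P i := stepQ 45736 Q45736 (allL N45736 (tt N47742 F299610) (tt N47741 (iv0 F299841)) (tt N79535 (iv2 F257152)) (tt N79548 D162928) (tt N23684 (iv4 D78327)) (tt N47767 (iv5 F299651)) (tt N58894 (iv6 F323046)) (tt N64064 (iv7 F299809)))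
theorem Q45738 : ∀ i, i < 45738 → P i := stepQ 45737 Q45737 (allL N45737 (tt N77581 (iv1 F243859)) (tt N33850 F188983) (tt N77600 F243939) (tt N23685 (iv3 D78334)) (tt N43972 (iv4 F119546)) (tt N47336 F189939) (tt N42550 (iv6 F191146)) (tt N29792 F189941))
theorem Q45739 : ∀ i, i < 45739 → P i := stepQ 45738 Q45738 (allL N45738 (tt N43077 F307902) (tt N34451 F307903) (tt N42707 (iv2 F190009)) (tt N79411 (iv3 F255811)) (tt N23685 (iv4 D78335)) (tt N34309 (iv5 F309901)) (tt N42602 (iv6 F191150)) (tt N29795 F189944))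
theorem Q45740 : ∀ i, i < 45740 → P i := stepQ 45739 Q45739 (allL N45739 (tt N33857 F119548) (tt N36545 F189945) (tt N36546 F189946) (tt N47336 F189947) (tt N46603 F311177) (tt N23685 (iv5 D78336)) (tt N63263 (iv6 F307089)) (tt N29796 F189948))
theorem Q45741 : ∀ i, i < 45741 → P i := stepQ 45740 Q45740 (allL N45740 (tt N48461 F303927) (tt N29807 F191332) (tt N23687 F119556) (tt N34951 F308941) (tt N47729 F304985) (tt N34950 F308942) (tt N23686 (iv6 D78339)) (tt N48464 F306945))
theorem Q45742 : ∀ i, i < 45742 → P i := stepQ 45741 Q45741 (allL N45741 (tt N23687 (iv1 D78344)) (tt N48464 (iv0 F305005)) (tt N29807 F257172) (tt N79549 D162940) (tt N76018 (iv4 F306939)) (tt N30552 F257173) (tt N29782 F257174) (tt N48461 F303929))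
theorem Q45743 : ∀ i, i < 45743 → P i := stepQ 45742 Q45742 (allL N45742 (tt N48228 (iv1 F185568)) (tt N33854 (iv0 F184651)) (tt N68528 (iv2 F210764)) (tt N23689 (iv3 D78348)) (tt N34891 F303476) (tt N30557 F119567) (tt N23918 F303477) (tt N29815 F119569))
theorem Q45744 : ∀ i, i < 45744 → P i := stepQ 45743 Q45743 (allL N45743 (tt N64092 (iv1 F193010)) (tt N23691 (iv0 D78349)) (tt N64091 (iv2 F348411)) (tt N79550 D162948) (tt N79551 D162949) (tt N79552 D162950) (tt N79553 D162951) (tt N64090 (iv7 F348417)))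
theorem Q45745 : ∀ i, i < 45745 → P i := stepQ 45744 Q45744 (allL N45744 (tt N23691 (iv1 D78350)) (tt N64092 F193012) (tt N64090 (iv2 F348416)) (tt N58777 (iv3 F348409)) (tt N79554 D162954) (tt N79555 D162955) (tt N79556 D162956) (tt N64091 (iv7 F348413)))
theorem Q45746 : ∀ i, i < 45746 → P i := stepQ 45745 Q45745 (allL N45745 (tt N64091 (iv1 F193011)) (tt N64090 F193007) (tt N23691 (iv2 D78351)) (tt N64101 (iv3 F193074)) (tt N79543 (iv4 F257224)) (tt N79557 D162957) (tt N79558 D162958) (tt N64092 (iv7 F193009)))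
theorem Q45747 : ∀ i, i < 45747 → P i := stepQ 45746 Q45746 (allL N45746 (tt N79559 D162959) (tt N79560 D162960) (tt N79557 (iv2 F257322)) (tt N23692 F119570) (tt N55057 (iv4 F361898)) (tt N23691 (iv5 D78352)) (tt N34356 (iv6 F316262)) (tt N47811 (iv7 F129784)))
theorem Q45748 : ∀ i, i < 45748 → P i := stepQ 45747 Q45747 (allL N45747 (tt N79561 D162963) (tt N32231 (iv0 F323180)) (tt N79558 (iv2 F257323)) (tt N23693 F119571) (tt N79545 (iv4 F257227)) (tt N63783 (iv5 F318577)) (tt N23691 (iv6 D78353)) (tt N48327 (iv7 F132149)))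
theorem Q45749 : ∀ i, i < 45749 → P i := stepQ 45748 Q45748 (allL N45748 (tt N79562 D162973) (tt N79556 (iv0 F341873)) (tt N66838 (iv2 F318828)) (tt N23694 (iv3 D78361)) (tt N79548 (iv4 F257259)) (tt N42724 F316546) (tt N58895 (iv6 F319442)) (tt N47920 F130059))
theorem Q45750 : ∀ i, i < 45750 → P i := stepQ 45749 Q45749 (allL N45749 (tt N47062 (iv1 F128176)) (tt N46322 F122810) (tt N23696 F119579) (tt N79563 D162978) (tt N23695 (iv4 D78373)) (tt N53903 (iv5 F356143)) (tt N46214 (iv6 F122519)) (tt N47059 (iv7 F128167)))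
theorem Q45751 : ∀ i, i < 45751 → P i := stepQ 45750 Q45750 (allL N45750 (tt N79564 D162982) (tt N79321 (iv0 F353254)) (tt N79565 D162984) (tt N23696 (iv3 D78376)) (tt N23697 F119584) (tt N79566 D162985) (tt N46223 (iv6 F122555)) (tt N47791 (iv7 F129761)))
theorem Q45752 : ∀ i, i < 45752 → P i := stepQ 45751 Q45751 (allL N45751 (tt N78644 (iv1 F302222)) (tt N78642 (iv0 F302217)) (tt N53903 (iv2 F356142)) (tt N79566 (iv3 F257341)) (tt N53874 (iv4 F310107)) (tt N23696 (iv5 D78377)) (tt N53882 (iv6 F357425)) (tt N52818 (iv7 F300488)))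
theorem Q45753 : ∀ i, i < 45753 → P i := stepQ 45752 Q45752 (allL N45752 (tt N42050 F333962) (tt N42136 F333963) (tt N23697 (iv2 D78383)) (tt N47788 (iv3 F129744)) (tt N79565 (iv4 F257340)) (tt N79567 D163002) (tt N46237 (iv6 F122603)) (tt N42134 F336337))
theorem Q45754 : ∀ i, i < 45754 → P i := stepQ 45753 Q45753 (allL N45753 (tt N66505 (iv1 F360762)) (tt N79568 D163004) (tt N79567 (iv2 F257361)) (tt N23698 F119588) (tt N79569 D163005) (tt N23697 (iv5 D78384)) (tt N25175 (iv6 F313852)) (tt N47792 (iv7 F129763)))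
theorem Q45755 : ∀ i, i < 45755 → P i := stepQ 45754 Q45754 (allL N45754 (tt N23702 (iv1 F119591)) (tt N23698 (iv0 D78385)) (tt N45708 (iv2 F119590)) (tt N54325 (iv3 F333802)) (tt N44486 F307238) (tt N24976 F119589) (tt N46390 (iv6 F324236)) (tt N45706 F119592))
theorem Q45756 : ∀ i, i < 45756 → P i := stepQ 45755 Q45755 (allL N45755 (tt N79570 D163018) (tt N79571 D163019) (tt N79572 D163020) (tt N23700 (iv3 D78391)) (tt N23701 F119595) (tt N79573 D163021) (tt N46151 F297533) (tt N47789 (iv7 F129750)))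
theorem Q45757 : ∀ i, i < 45757 → P i := stepQ 45756 Q45756 (allL N45756 (tt N78742 (iv1 F299712)) (tt N76121 (iv0 F341692)) (tt N74650 (iv2 F357899)) (tt N79573 (iv3 F257378)) (tt N79562 (iv4 F334234)) (tt N23700 (iv5 D78392)) (tt N79574 D163026) (tt N64102 (iv7 F193088)))
theorem Q45758 : ∀ i, i < 45758 → P i := stepQ 45757 Q45757 (allL N45757 (tt N47788 (iv1 F129746)) (tt N23701 (iv0 D78396)) (tt N46306 F329605) (tt N79575 D163034) (tt N79576 D163035) (tt N79559 (iv5 F341870)) (tt N23764 (iv6 F329761)) (tt N47787 (iv7 F338324)))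
theorem Q45759 : ∀ i, i < 45759 → P i := stepQ 45758 Q45758 (allL N45758 (tt N23701 (iv1 D78397)) (tt N47788 F129748) (tt N47787 (iv2 F338323)) (tt N55638 F328213) (tt N35840 (iv4 F328589)) (tt N79560 (iv5 F341867)) (tt N35838 F329021) (tt N46306 (iv7 F329368)))
theorem Q45760 : ∀ i, i < 45760 → P i := stepQ 45759 Q45759 (allL N45759 (tt N46306 F338322) (tt N47787 F129743) (tt N23701 (iv2 D78398)) (tt N42134 F336331) (tt N79572 (iv4 F257377)) (tt N79577 D163043) (tt N46157 F302615) (tt N47788 (iv7 F129745)))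
theorem Q45761 : ∀ i, i < 45761 → P i := stepQ 45760 Q45760 (allL N45760 (tt N67049 (iv1 F341636)) (tt N79578 D163046) (tt N79577 (iv2 F257393)) (tt N23702 F119597) (tt N79579 D163047) (tt N23701 (iv5 D78399)) (tt N66552 (iv6 F321550)) (tt N47790 (iv7 F129752)))
theorem Q45762 : ∀ i, i < 45762 → P i := stepQ 45761 Q45761 (allL N45761 (tt N64105 (iv1 F193108)) (tt N23703 (iv0 D78406)) (tt N64104 (iv2 F341248)) (tt N75216 (iv3 F336519)) (tt N79580 D163061) (tt N79581 D163062) (tt N75215 (iv6 F336518)) (tt N35536 (iv7 F339258)))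
theorem Q45763 : ∀ i, i < 45763 → P i := stepQ 45762 Q45762 (allL N45762 (tt N64104 (iv1 F193109)) (tt N35536 (iv0 F341250)) (tt N23703 (iv2 D78408)) (tt N48372 F338770) (tt N79582 D163069) (tt N79583 D163070) (tt N47910 (iv6 F130026)) (tt N64105 (iv7 F193107)))
theorem Q45764 : ∀ i, i < 45764 → P i := stepQ 45763 Q45763 (allL N45763 (tt N59347 (iv1 F353988)) (tt N79207 (iv0 F329865)) (tt N79582 (iv2 F257402)) (tt N24981 F119606) (tt N23703 (iv4 D78409)) (tt N79584 D163073) (tt N47906 (iv6 F130025)) (tt N46738 F303309))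
theorem Q45765 : ∀ i, i < 45765 → P i := stepQ 45764 Q45764 (allL N45764 (tt N79585 D163074) (tt N79586 D163075) (tt N79583 (iv2 F257403)) (tt N23704 F119607) (tt N79587 D163076) (tt N23703 (iv5 D78410)) (tt N25179 (iv6 F316253)) (tt N64106 (iv7 F193114)))
theorem Q45766 : ∀ i, i < 45766 → P i := stepQ 45765 Q45765 (allL N45765 (tt N23706 (iv1 F119609)) (tt N23704 (iv0 D78411)) (tt N45606 F322716) (tt N79588 D163078) (tt N25176 F311560) (tt N34628 F119608) (tt N45536 (iv6 F322786)) (tt N45704 (iv7 F119611)))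
theorem Q45767 : ∀ i, i < 45767 → P i := stepQ 45766 Q45766 (allL N45766 (tt N23704 (iv1 D78412)) (tt N23706 F119612) (tt N45704 (iv2 F119615)) (tt N79589 D163080) (tt N25177 F311559) (tt N34627 F119614) (tt N63779 (iv6 F314000)) (tt N45606 F323622))
theorem Q45768 : ∀ i, i < 45768 → P i := stepQ 45767 Q45767 (allL N45767 (tt N23705 (iv1 D78415)) (tt N48372 F338768) (tt N48374 (iv2 F338774)) (tt N79590 D163091) (tt N79591 D163092) (tt N79592 D163093) (tt N48387 (iv6 F338775)) (tt N44952 (iv7 F338776)))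
theorem Q45769 : ∀ i, i < 45769 → P i := stepQ 45768 Q45768 (allL N45768 (tt N44952 F336480) (tt N48374 F336481) (tt N23705 (iv2 D78416)) (tt N64105 (iv3 F193106)) (tt N79593 D163095) (tt N36021 F320714) (tt N39822 (iv6 F322470)) (tt N48372 F338772))
theorem Q45770 : ∀ i, i < 45770 → P i := stepQ 45769 Q45769 (allL N45769 (tt N47654 (iv1 F353272)) (tt N75398 (iv0 F336340)) (tt N79593 (iv2 F257416)) (tt N24631 F119616) (tt N23705 (iv4 D78417)) (tt N79594 D163100) (tt N64075 F298794) (tt N64103 (iv7 F193101)))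
theorem Q45771 : ∀ i, i < 45771 → P i := stepQ 45770 Q45770 (allL N45770 (tt N79590 (iv1 F351046)) (tt N79595 D163123) (tt N79596 D163124) (tt N23707 (iv3 D78424)) (tt N65681 (iv4 F341718)) (tt N79597 D163126) (tt N79598 D163127) (tt N65846 (iv7 F327212)))
theorem Q45772 : ∀ i, i < 45772 → P i := stepQ 45771 Q45771 (allL N45771 (tt N29494 (iv1 F327217)) (tt N59340 (iv0 F327216)) (tt N59339 (iv2 F327218)) (tt N30912 (iv3 F327224)) (tt N23707 (iv4 D78425)) (tt N57169 (iv5 F327225)) (tt N79599 D163133) (tt N59338 (iv7 F327213)))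
theorem Q45773 : ∀ i, i < 45773 → P i := stepQ 45772 Q45772 (allL N45772 (tt N79600 D163135) (tt N79589 (iv0 F359730)) (tt N65345 (iv2 F350817)) (tt N79597 (iv3 F257444)) (tt N79601 D163137) (tt N23707 (iv5 D78426)) (tt N65341 (iv6 F352301)) (tt N65847 (iv7 F327215)))
theorem Q45774 : ∀ i, i < 45774 → P i := stepQ 45773 Q45773 (allL N45773 (tt N79602 D163140) (tt N46199 (iv0 F332171)) (tt N65849 (iv2 F327223)) (tt N79598 (iv3 F257445)) (tt N79599 (iv4 F257449)) (tt N60102 (iv5 F326510)) (tt N23707 (iv6 D78427)) (tt N65876 (iv7 F332163)))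
theorem Q45775 : ∀ i, i < 45775 → P i := stepQ 45774 Q45774 (allL N45774 (tt N79603 D163145) (tt N75216 (iv0 F353265)) (tt N79604 D163147) (tt N23708 (iv3 D78429)) (tt N59870 (iv4 F359601)) (tt N79605 D163149) (tt N65877 (iv6 F327219)) (tt N65848 (iv7 F327220)))
theorem Q45776 : ∀ i, i < 45776 → P i := stepQ 45775 Q45775 (allL N45775 (tt N79589 (iv1 F359731)) (tt N79600 F257456) (tt N65847 (iv2 F327214)) (tt N79605 (iv3 F257461)) (tt N79606 D163154) (tt N23708 (iv5 D78431)) (tt N67764 (iv6 F342313)) (tt N65345 (iv7 F350819)))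
theorem Q45777 : ∀ i, i < 45777 → P i := stepQ 45776 Q45776 (allL N45776 (tt N65850 (iv1 F325667)) (tt N58796 (iv0 F325666)) (tt N23710 F119626) (tt N58765 (iv3 F323130)) (tt N79607 D163172) (tt N23709 (iv5 D78435)) (tt N58764 (iv6 F325677)) (tt N65833 (iv7 F325663)))
theorem Q45778 : ∀ i, i < 45778 → P i := stepQ 45777 Q45777 (allL N45777 (tt N65833 (iv1 F325662)) (tt N23710 (iv0 D78436)) (tt N65850 (iv2 F327229)) (tt N79608 D163175) (tt N79609 D163176) (tt N58797 (iv5 F342299)) (tt N79610 D163178) (tt N58796 (iv7 F327227)))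
theorem Q45779 : ∀ i, i < 45779 → P i := stepQ 45778 Q45778 (allL N45778 (tt N23710 (iv1 D78437)) (tt N65833 F326494) (tt N58796 (iv2 F327226)) (tt N79611 D163180) (tt N79612 D163181) (tt N32079 (iv5 F327228)) (tt N63799 (iv6 F347901)) (tt N65850 (iv7 F327230)))
theorem Q45780 : ∀ i, i < 45780 → P i := stepQ 45779 Q45779 (allL N45779 (tt N79613 D163184) (tt N79614 D163185) (tt N79607 (iv2 F257470)) (tt N79615 D163186) (tt N23710 (iv4 D78438)) (tt N79616 D163187) (tt N79617 D163188) (tt N65851 (iv7 F325668)))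
theorem Q45781 : ∀ i, i < 45781 → P i := stepQ 45780 Q45780 (allL N45780 (tt N79618 D163190) (tt N79619 D163191) (tt N58764 (iv2 F325676)) (tt N23714 F119627) (tt N79617 (iv4 F257476)) (tt N23786 F119628) (tt N23710 (iv6 D78439)) (tt N79620 D163192))
theorem Q45782 : ∀ i, i < 45782 → P i := stepQ 45781 Q45781 (allL N45781 (tt N79581 (iv1 F339266)) (tt N79240 (iv0 F353965)) (tt N79621 D163199) (tt N23711 (iv3 D78442)) (tt N79622 D163200) (tt N24977 F119633) (tt N79623 D163201) (tt N44133 (iv7 F309233)))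
theorem Q45783 : ∀ i, i < 45783 → P i := stepQ 45782 Q45782 (allL N45782 (tt N42879 (iv1 F309235)) (tt N42878 (iv0 F309236)) (tt N42880 (iv2 F309184)) (tt N79623 (iv3 F257486)) (tt N34394 F307245) (tt N37027 F316268) (tt N23711 (iv6 D78443)) (tt N34391 (iv7 F309237)))
theorem Q45784 : ∀ i, i < 45784 → P i := stepQ 45783 Q45783 (allL N45783 (tt N48373 F338766) (tt N79592 (iv0 F338801)) (tt N71343 (iv2 F323016)) (tt N23712 (iv3 D78444)) (tt N33486 F321404) (tt N24978 F119634) (tt N33485 (iv6 F322042)) (tt N64116 (iv7 F193135)))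
theorem Q45785 : ∀ i, i < 45785 → P i := stepQ 45784 Q45784 (allL N45784 (tt N43866 F308645) (tt N42193 (iv0 F309673)) (tt N43864 (iv2 F309674)) (tt N23713 (iv3 D78446)) (tt N79615 (iv4 F257475)) (tt N47746 (iv5 F129626)) (tt N48065 (iv6 F310754)) (tt N43865 (iv7 F309640)))
theorem Q45786 : ∀ i, i < 45786 → P i := stepQ 45785 Q45785 (allL N45785 (tt N32080 F321461) (tt N23714 (iv0 D78448)) (tt N48151 (iv2 F313804)) (tt N79624 D163223) (tt N35489 F311443) (tt N31960 (iv5 F322527)) (tt N41564 F321633) (tt N35486 (iv7 F313807)))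
theorem Q45787 : ∀ i, i < 45787 → P i := stepQ 45786 Q45786 (allL N45786 (tt N35486 (iv1 F313806)) (tt N48151 (iv0 F313802)) (tt N32080 F321460) (tt N79620 (iv3 F257478)) (tt N35429 (iv4 F313898)) (tt N23789 F119636) (tt N75006 (iv6 F313800)) (tt N23714 (iv7 D78450)))
theorem Q45788 : ∀ i, i < 45788 → P i := stepQ 45787 Q45787 (allL N45787 (tt N79625 D163230) (tt N41208 F322545) (tt N64117 (iv2 F193155)) (tt N65844 (iv3 F325669)) (tt N42328 F311379) (tt N59940 (iv5 F319474)) (tt N23715 (iv6 D78451)) (tt N75006 (iv7 F313801)))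
theorem Q45789 : ∀ i, i < 45789 → P i := stepQ 45788 Q45788 (allL N45788 (tt N79626 D163235) (tt N79627 D163236) (tt N79628 D163237) (tt N23716 (iv3 D78454)) (tt N50666 (iv4 F140912)) (tt N79629 D163238) (tt N47627 F296125) (tt N64121 (iv7 F193184)))
theorem Q45790 : ∀ i, i < 45790 → P i := stepQ 45789 Q45789 (allL N45789 (tt N46324 (iv1 F122817)) (tt N46321 (iv0 F122805)) (tt N23722 F119641) (tt N79629 (iv3 F257516)) (tt N34654 F119642) (tt N23716 (iv5 D78455)) (tt N79630 D163240) (tt N45802 (iv7 F119679)))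
theorem Q45791 : ∀ i, i < 45791 → P i := stepQ 45790 Q45790 (allL N45790 (tt N79631 D163246) (tt N79632 D163247) (tt N79633 D163248) (tt N23717 (iv3 D78459)) (tt N51613 (iv4 F146893)) (tt N79634 D163249) (tt N59787 (iv6 F326099)) (tt N45463 F119650))
theorem Q45792 : ∀ i, i < 45792 → P i := stepQ 45791 Q45791 (allL N45791 (tt N78490 (iv1 F248952)) (tt N78423 (iv0 F248767)) (tt N45459 F119651) (tt N79634 (iv3 F257543)) (tt N45795 (iv4 F119663)) (tt N23717 (iv5 D78460)) (tt N79635 D163251) (tt N45464 F119652))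
theorem Q45793 : ∀ i, i < 45793 → P i := stepQ 45792 Q45792 (allL N45792 (tt N31069 F325182) (tt N31070 F325183) (tt N45460 F119653) (tt N59787 (iv3 F326098)) (tt N23718 F119654) (tt N79636 D163254) (tt N23717 (iv6 D78461)) (tt N59826 F325184))
theorem Q45794 : ∀ i, i < 45794 → P i := stepQ 45793 Q45793 (allL N45793 (tt N23718 (iv1 D78463)) (tt N45462 F119655) (tt N24061 (iv2 F121495)) (tt N48492 F133016) (tt N31861 (iv4 F325557)) (tt N29069 (iv5 F297231)) (tt N29065 (iv6 F297216)) (tt N45461 F121494))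
theorem Q45795 : ∀ i, i < 45795 → P i := stepQ 45794 Q45794 (allL N45794 (tt N24061 (iv1 F121380)) (tt N45461 F119660) (tt N45462 F119656) (tt N48485 (iv3 F296832)) (tt N59826 (iv4 F324863)) (tt N46320 (iv5 F122795)) (tt N23976 (iv6 F120809)) (tt N23718 (iv7 D78464)))
theorem Q45796 : ∀ i, i < 45796 → P i := stepQ 45795 Q45795 (allL N45795 (tt N45427 F119664) (tt N24052 F119665) (tt N45474 F119661) (tt N58464 (iv3 F326236)) (tt N45791 F119663) (tt N23719 (iv5 D78466)) (tt N52460 (iv6 F365876)) (tt N45473 F119662))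
theorem Q45797 : ∀ i, i < 45797 → P i := stepQ 45796 Q45796 (allL N45796 (tt N79637 D163264) (tt N79638 D163265) (tt N58380 (iv2 F328211)) (tt N23720 (iv3 D78468)) (tt N44847 F119667) (tt N79639 D163267) (tt N58378 (iv6 F326134)) (tt N47624 (iv7 F129309)))
theorem Q45798 : ∀ i, i < 45798 → P i := stepQ 45797 Q45797 (allL N45797 (tt N24052 F119671) (tt N45427 F119672) (tt N45473 F119668) (tt N79639 (iv3 F257574)) (tt N45408 F119669) (tt N23720 (iv5 D78469)) (tt N79640 D163269) (tt N45474 F119670))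
theorem Q45799 : ∀ i, i < 45799 → P i := stepQ 45798 Q45798 (allL N45798 (tt N64124 (iv1 F193201)) (tt N23721 (iv0 D78471)) (tt N52286 F344655) (tt N79641 D163272) (tt N64260 (iv4 F194340)) (tt N52474 (iv5 F344661)) (tt N27321 (iv6 F344663)) (tt N64123 F254311))
theorem Q45800 : ∀ i, i < 45800 → P i := stepQ 45799 Q45799 (allL N45799 (tt N23721 (iv1 D78472)) (tt N64124 F193203) (tt N64123 F254310) (tt N79642 D163275) (tt N48363 (iv4 F254085)) (tt N79643 D163276) (tt N79644 D163277) (tt N52286 (iv7 F344654)))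
theorem Q45801 : ∀ i, i < 45801 → P i := stepQ 45800 Q45800 (allL N45800 (tt N52286 (iv1 F344652)) (tt N64123 F193197) (tt N23721 (iv2 D78473)) (tt N79628 (iv3 F257515)) (tt N23725 F119674) (tt N79645 D163278) (tt N78527 (iv6 F297236)) (tt N64124 (iv7 F193200)))
theorem Q45802 : ∀ i, i < 45802 → P i := stepQ 45801 Q45801 (allL N45801 (tt N79318 (iv1 F254312)) (tt N79320 (iv0 F254098)) (tt N79645 (iv2 F257593)) (tt N23722 F119675) (tt N79646 D163280) (tt N23721 (iv5 D78474)) (tt N79647 D163281) (tt N64125 (iv7 F193205)))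
theorem Q45803 : ∀ i, i < 45803 → P i := stepQ 45802 Q45802 (allL N45802 (tt N44688 F119681) (tt N45468 F119682) (tt N34654 F119678) (tt N79648 D163286) (tt N23722 (iv4 D78476)) (tt N34651 F119680) (tt N79649 D163287) (tt N45789 F119679))
theorem Q45804 : ∀ i, i < 45804 → P i := stepQ 45803 Q45803 (allL N45803 (tt N79650 D163288) (tt N79651 D163289) (tt N79630 (iv2 F257518)) (tt N79647 (iv3 F257596)) (tt N79649 (iv4 F257603)) (tt N78515 (iv5 F297237)) (tt N23722 (iv6 D78477)) (tt N79652 D163291))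
theorem Q45805 : ∀ i, i < 45805 → P i := stepQ 45804 Q45804 (allL N45804 (tt N48321 (iv1 F258469)) (tt N58820 (iv0 F327243)) (tt N78472 (iv2 F257971)) (tt N23723 (iv3 D78492)) (tt N45968 F120002) (tt N46301 F254081) (tt N79653 D163322) (tt N64132 (iv7 F257938)))
theorem Q45806 : ∀ i, i < 45806 → P i := stepQ 45805 Q45805 (allL N45805 (tt N79654 D163324) (tt N79655 D163325) (tt N55173 F340621) (tt N49971 (iv3 F340622)) (tt N23723 (iv4 D78493)) (tt N26326 (iv5 F340624)) (tt N26329 (iv6 F340625)) (tt N64133 (iv7 F257940)))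
theorem Q45807 : ∀ i, i < 45807 → P i := stepQ 45806 Q45806 (allL N45806 (tt N27322 (iv1 F340627)) (tt N24006 (iv0 F340628)) (tt N47914 (iv2 F340629)) (tt N79653 (iv3 F257631)) (tt N26329 F340626) (tt N79656 D163332) (tt N23723 (iv6 D78495)) (tt N47913 (iv7 F340630)))
theorem Q45808 : ∀ i, i < 45808 → P i := stepQ 45807 Q45807 (allL N45807 (tt N58821 (iv1 F327249)) (tt N48298 (iv0 F256632)) (tt N79657 D163336) (tt N23724 (iv3 D78497)) (tt N46337 (iv4 F122846)) (tt N46304 F254094) (tt N79658 D163337) (tt N60552 (iv7 F327436)))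
theorem Q45809 : ∀ i, i < 45809 → P i := stepQ 45808 Q45808 (allL N45808 (tt N79655 (iv1 F257634)) (tt N79654 F257638) (tt N64133 (iv2 F257939)) (tt N79659 D163338) (tt N23724 (iv4 D78498)) (tt N79660 D163339) (tt N59779 (iv6 F353515)) (tt N55173 (iv7 F340620)))
theorem Q45810 : ∀ i, i < 45810 → P i := stepQ 45809 Q45809 (allL N45809 (tt N48326 F351992) (tt N79661 D163342) (tt N64134 (iv2 F257941)) (tt N79658 (iv3 F257645)) (tt N59779 (iv4 F353514)) (tt N79662 D163343) (tt N23724 (iv6 D78500)) (tt N79663 D163344))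
theorem Q45811 : ∀ i, i < 45811 → P i := stepQ 45810 Q45810 (allL N45810 (tt N37206 F334289) (tt N64070 (iv0 F302189)) (tt N23726 F119688) (tt N64069 F299312) (tt N78527 F299313) (tt N67652 (iv5 F323646)) (tt N23725 (iv6 D78501)) (tt N64071 (iv7 F302176)))
theorem Q45812 : ∀ i, i < 45812 → P i := stepQ 45811 Q45811 (allL N45811 (tt N64071 (iv1 F302175)) (tt N23726 (iv0 D78502)) (tt N37206 F334285) (tt N79664 D163350) (tt N79665 D163351) (tt N37195 (iv5 F334291)) (tt N79530 (iv6 F340269)) (tt N64070 (iv7 F302181)))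
theorem Q45813 : ∀ i, i < 45813 → P i := stepQ 45812 Q45812 (allL N45812 (tt N23726 (iv1 D78503)) (tt N64071 (iv0 F302174)) (tt N64070 (iv2 F302180)) (tt N79666 D163355) (tt N74813 (iv4 F334281)) (tt N37207 (iv5 F334282)) (tt N42104 (iv6 F334283)) (tt N37206 (iv7 F334284)))
theorem Q45814 : ∀ i, i < 45814 → P i := stepQ 45813 Q45813 (allL N45813 (tt N48320 F330895) (tt N68256 F330896) (tt N78478 (iv2 F336083)) (tt N23727 (iv3 D78508)) (tt N35224 (iv4 F299011)) (tt N37171 (iv5 F324233)) (tt N58868 (iv6 F320725)) (tt N37170 F324073))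
theorem Q45815 : ∀ i, i < 45815 → P i := stepQ 45814 Q45814 (allL N45814 (tt N32028 F318602) (tt N24002 F119981) (tt N45960 (iv2 F119977)) (tt N58868 (iv3 F320723)) (tt N26767 F119694) (tt N69212 F321783) (tt N23727 (iv6 D78510)) (tt N35504 F119695))
theorem Q45816 : ∀ i, i < 45816 → P i := stepQ 45815 Q45815 (allL N45815 (tt N79667 D163410) (tt N79668 D163411) (tt N79669 D163412) (tt N23729 (iv3 D78533)) (tt N46711 (iv4 F126257)) (tt N79670 D163413) (tt N35855 F326412) (tt N46287 (iv7 F122716)))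
theorem Q45817 : ∀ i, i < 45817 → P i := stepQ 45816 Q45816 (allL N45816 (tt N52397 (iv1 F294044)) (tt N52679 (iv0 F294046)) (tt N27886 F293053) (tt N79670 (iv3 F257693)) (tt N25916 F119712) (tt N23729 (iv5 D78534)) (tt N79671 D163415) (tt N27883 F293054))
theorem Q45818 : ∀ i, i < 45818 → P i := stepQ 45817 Q45817 (allL N45817 (tt N23730 (iv1 D78537)) (tt N31198 (iv0 F323069)) (tt N23795 F255038) (tt N46319 F255039) (tt N60603 (iv4 F323930)) (tt N31962 (iv5 F323935)) (tt N79672 D163421) (tt N31197 (iv7 F323074)))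
theorem Q45819 : ∀ i, i < 45819 → P i := stepQ 45818 Q45818 (allL N45818 (tt N65502 (iv1 F365832)) (tt N79673 D163423) (tt N79674 D163424) (tt N23731 (iv3 D78538)) (tt N64121 (iv4 F193183)) (tt N27890 F294907) (tt N79675 D163425) (tt N50666 (iv7 F140913)))
theorem Q45820 : ∀ i, i < 45820 → P i := stepQ 45819 Q45819 (allL N45819 (tt N67448 (iv1 F337368)) (tt N45991 (iv0 F296427)) (tt N23739 F119714) (tt N79675 (iv3 F257708)) (tt N23732 F119715) (tt N67428 (iv5 F333479)) (tt N23731 (iv6 D78539)) (tt N48290 (iv7 F296838)))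
theorem Q45821 : ∀ i, i < 45821 → P i := stepQ 45820 Q45820 (allL N45820 (tt N23742 (iv1 F119721)) (tt N23732 (iv0 D78540)) (tt N23740 (iv2 F119717)) (tt N58733 (iv3 F326647)) (tt N70723 (iv4 F330376)) (tt N51607 (iv5 F297306)) (tt N24166 F119716) (tt N23741 (iv7 F119718)))
theorem Q45822 : ∀ i, i < 45822 → P i := stepQ 45821 Q45821 (allL N45821 (tt N23741 (iv1 F119724)) (tt N23740 F119725) (tt N23742 F119722) (tt N26656 F296167) (tt N48290 (iv4 F296837)) (tt N45821 F119723) (tt N23950 F296168) (tt N23732 (iv7 D78541)))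
theorem Q45823 : ∀ i, i < 45823 → P i := stepQ 45822 Q45822 (allL N45822 (tt N79676 D163430) (tt N79677 D163431) (tt N79678 D163432) (tt N23733 (iv3 D78542)) (tt N29066 F119726) (tt N79679 D163433) (tt N71734 (iv6 F325718)) (tt N48489 (iv7 F133002)))
theorem Q45824 : ∀ i, i < 45824 → P i := stepQ 45823 Q45823 (allL N45823 (tt N52352 (iv1 F148945)) (tt N52692 (iv0 F292819)) (tt N27873 (iv2 F293060)) (tt N79679 (iv3 F257723)) (tt N26374 F119727) (tt N23733 (iv5 D78543)) (tt N79680 D163435) (tt N27880 (iv7 F293068)))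
theorem Q45825 : ∀ i, i < 45825 → P i := stepQ 45824 Q45824 (allL N45824 (tt N58830 (iv1 F325171)) (tt N31067 (iv0 F325168)) (tt N48491 (iv2 F133010)) (tt N71734 (iv3 F325717)) (tt N23734 F119728) (tt N35721 (iv5 F325719)) (tt N23733 (iv6 D78544)) (tt N58829 (iv7 F325556)))
theorem Q45826 : ∀ i, i < 45826 → P i := stepQ 45825 Q45825 (allL N45825 (tt N79681 D163439) (tt N65605 (iv0 F334369)) (tt N79682 D163441) (tt N23735 (iv3 D78545)) (tt N45959 (iv4 F297298)) (tt N79683 D163442) (tt N65573 (iv6 F325537)) (tt N49195 (iv7 F135347)))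
theorem Q45827 : ∀ i, i < 45827 → P i := stepQ 45826 Q45826 (allL N45826 (tt N26375 F119730) (tt N24033 F119731) (tt N27899 F294037) (tt N79683 (iv3 F257729)) (tt N25513 F119729) (tt N23735 (iv5 D78546)) (tt N79684 D163444) (tt N27907 F294038))
theorem Q45828 : ∀ i, i < 45828 → P i := stepQ 45827 Q45827 (allL N45827 (tt N67447 (iv1 F354389)) (tt N67460 (iv0 F354390)) (tt N67459 (iv2 F341823)) (tt N23736 (iv3 D78548)) (tt N35222 F119733) (tt N79685 D163449) (tt N79686 D163450) (tt N49196 (iv7 F135381)))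
theorem Q45829 : ∀ i, i < 45829 → P i := stepQ 45828 Q45828 (allL N45828 (tt N24033 F119735) (tt N26375 F119736) (tt N27907 F294035) (tt N79685 (iv3 F257733)) (tt N26369 F119734) (tt N23736 (iv5 D78549)) (tt N79685 (iv6 F354387)) (tt N27899 F294036))
theorem Q45830 : ∀ i, i < 45830 → P i := stepQ 45829 Q45829 (allL N45829 (tt N23998 F121536) (tt N48251 (iv0 F297292)) (tt N35505 (iv2 F296414)) (tt N79686 (iv3 F257734)) (tt N25510 F119737) (tt N79686 (iv5 F354383)) (tt N23736 (iv6 D78550)) (tt N46534 (iv7 F297297)))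
theorem Q45831 : ∀ i, i < 45831 → P i := stepQ 45830 Q45830 (allL N45830 (tt N50669 (iv1 F140958)) (tt N23737 (iv0 D78551)) (tt N50668 (iv2 F254430)) (tt N67219 (iv3 F358306)) (tt N79687 D163454) (tt N79688 D163455) (tt N79689 D163456) (tt N50667 (iv7 F254431)))
theorem Q45832 : ∀ i, i < 45832 → P i := stepQ 45831 Q45831 (allL N45831 (tt N23737 (iv1 D78552)) (tt N50669 F140960) (tt N50667 F254425) (tt N79690 D163457) (tt N50701 (iv4 F141802)) (tt N79691 D163458) (tt N79692 D163459) (tt N50668 F254429))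
theorem Q45833 : ∀ i, i < 45833 → P i := stepQ 45832 Q45832 (allL N45832 (tt N50668 (iv1 F140959)) (tt N50667 F140953) (tt N23737 (iv2 D78553)) (tt N79674 (iv3 F257707)) (tt N23745 F119738) (tt N79693 D163460) (tt N67406 (iv6 F339687)) (tt N50669 (iv7 F140957)))
theorem Q45834 : ∀ i, i < 45834 → P i := stepQ 45833 Q45833 (allL N45833 (tt N79694 D163462) (tt N79695 D163463) (tt N79693 (iv2 F257743)) (tt N23738 F119739) (tt N79696 D163464) (tt N23737 (iv5 D78554)) (tt N79697 D163465) (tt N50670 (iv7 F140962)))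
theorem Q45835 : ∀ i, i < 45835 → P i := stepQ 45834 Q45834 (allL N45834 (tt N67216 (iv1 F349821)) (tt N67470 (iv0 F349822)) (tt N67406 (iv2 F339685)) (tt N23739 F119740) (tt N23746 F119741) (tt N67188 (iv5 F354995)) (tt N23737 (iv6 D78555)) (tt N67409 (iv7 F347511)))
theorem Q45836 : ∀ i, i < 45836 → P i := stepQ 45835 Q45835 (allL N45835 (tt N26750 (iv1 F119744)) (tt N23738 (iv0 D78556)) (tt N27888 (iv2 F294088)) (tt N79698 D163470) (tt N25914 F119743) (tt N23756 F119742) (tt N79699 D163471) (tt N27889 (iv7 F294084)))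
theorem Q45837 : ∀ i, i < 45837 → P i := stepQ 45836 Q45836 (allL N45836 (tt N23738 (iv1 D78557)) (tt N26750 F119745) (tt N27889 (iv2 F294082)) (tt N79700 D163472) (tt N25508 (iv4 F119747)) (tt N23757 F119746) (tt N79701 D163473) (tt N27888 (iv7 F294090)))
theorem Q45838 : ∀ i, i < 45838 → P i := stepQ 45837 Q45837 (allL N45837 (tt N79702 D163474) (tt N79703 D163475) (tt N27867 F294345) (tt N79697 (iv3 F257747)) (tt N27692 F294346) (tt N79704 D163476) (tt N23738 (iv6 D78558)) (tt N79705 D163477))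
theorem Q45839 : ∀ i, i < 45839 → P i := stepQ 45838 Q45838 (allL N45838 (tt N48290 F297412) (tt N23739 (iv0 D78559)) (tt N67448 (iv2 F337369)) (tt N79706 D163478) (tt N34682 F297414) (tt N70813 (iv5 F333449)) (tt N47742 (iv6 F299565)) (tt N45991 F297415))
theorem Q45840 : ∀ i, i < 45840 → P i := stepQ 45839 Q45839 (allL N45839 (tt N23739 (iv1 D78560)) (tt N48290 F297402) (tt N45991 F297403) (tt N67446 (iv3 F345574)) (tt N45990 F297404) (tt N70804 (iv5 F333454)) (tt N46583 (iv6 F299559)) (tt N67448 (iv7 F337372)))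
theorem Q45841 : ∀ i, i < 45841 → P i := stepQ 45840 Q45840 (allL N45840 (tt N39070 F330405) (tt N39075 (iv0 F330407)) (tt N67428 (iv2 F333478)) (tt N67188 (iv3 F354994)) (tt N79707 D163484) (tt N23739 (iv5 D78561)) (tt N79704 (iv6 F257755)) (tt N67407 (iv7 F355007)))
theorem Q45842 : ∀ i, i < 45842 → P i := stepQ 45841 Q45841 (allL N45841 (tt N45991 (iv1 F296428)) (tt N67448 (iv0 F337367)) (tt N48290 (iv2 F296836)) (tt N67409 (iv3 F347508)) (tt N23742 F119748) (tt N67407 (iv5 F355006)) (tt N23951 F296333) (tt N23739 (iv7 D78562)))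
theorem Q45843 : ∀ i, i < 45843 → P i := stepQ 45842 Q45842 (allL N45842 (tt N44626 F296434) (tt N70722 (iv0 F330383)) (tt N70723 (iv2 F330375)) (tt N79708 D163489) (tt N23740 (iv4 D78564)) (tt N67260 (iv5 F333461)) (tt N74654 (iv6 F326467)) (tt N70724 (iv7 F330382)))
theorem Q45844 : ∀ i, i < 45844 → P i := stepQ 45843 Q45843 (allL N45843 (tt N79709 D163491) (tt N45934 (iv0 F257902)) (tt N51607 F297444) (tt N64131 F297445) (tt N65906 (iv4 F330430)) (tt N23740 (iv5 D78565)) (tt N23962 F119751) (tt N45879 (iv7 F119796)))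
theorem Q45845 : ∀ i, i < 45845 → P i := stepQ 45844 Q45844 (allL N45844 (tt N70722 (iv1 F330384)) (tt N44626 F296433) (tt N70724 (iv2 F330379)) (tt N79710 D163495) (tt N23741 (iv4 D78567)) (tt N67259 (iv5 F341951)) (tt N64086 (iv6 F192991)) (tt N70723 (iv7 F330378)))
theorem Q45846 : ∀ i, i < 45846 → P i := stepQ 45845 Q45845 (allL N45845 (tt N45934 (iv1 F257903)) (tt N79709 F257772) (tt N45879 (iv2 F119794)) (tt N31229 F327352) (tt N65907 (iv4 F327889)) (tt N23741 (iv5 D78568)) (tt N45864 (iv6 F119765)) (tt N51607 (iv7 F297307)))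
theorem Q45847 : ∀ i, i < 45847 → P i := stepQ 45846 Q45846 (allL N45846 (tt N48301 (iv1 F257967)) (tt N79711 D163499) (tt N79712 D163500) (tt N23743 (iv3 D78570)) (tt N45943 F119937) (tt N46330 F250800) (tt N79713 D163501) (tt N64118 (iv7 F254243)))
theorem Q45848 : ∀ i, i < 45848 → P i := stepQ 45847 Q45847 (allL N45847 (tt N46344 F122857) (tt N79714 D163502) (tt N64120 (iv2 F254253)) (tt N79715 D163503) (tt N23743 (iv4 D78571)) (tt N79716 D163504) (tt N65553 (iv6 F329025)) (tt N64119 (iv7 F254244)))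
theorem Q45849 : ∀ i, i < 45849 → P i := stepQ 45848 Q45848 (allL N45848 (tt N79558 (iv1 F329022)) (tt N48327 (iv0 F329023)) (tt N32231 F328590) (tt N79713 (iv3 F257784)) (tt N65553 (iv4 F329024)) (tt N79717 D163508) (tt N23743 (iv6 D78573)) (tt N79561 (iv7 F341860)))
theorem Q45850 : ∀ i, i < 45850 → P i := stepQ 45849 Q45849 (allL N45849 (tt N58766 F326782) (tt N48318 F256616) (tt N58819 (iv2 F327239)) (tt N23744 (iv3 D78575)) (tt N32236 F326783) (tt N46332 F250819) (tt N58863 (iv6 F327417)) (tt N32233 (iv7 F327242)))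
theorem Q45851 : ∀ i, i < 45851 → P i := stepQ 45850 Q45850 (allL N45850 (tt N79714 (iv1 F257785)) (tt N46344 F254258) (tt N64119 (iv2 F254257)) (tt N58847 (iv3 F327078)) (tt N23744 (iv4 D78576)) (tt N79718 D163514) (tt N79719 D163515) (tt N64120 F254256))
theorem Q45852 : ∀ i, i < 45852 → P i := stepQ 45851 Q45851 (allL N45851 (tt N24001 (iv1 F334029)) (tt N47917 (iv0 F334030)) (tt N42152 F334016) (tt N58863 (iv3 F327416)) (tt N79719 (iv4 F257792)) (tt N41945 F334017) (tt N23744 (iv6 D78578)) (tt N47916 F335060))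
theorem Q45853 : ∀ i, i < 45853 → P i := stepQ 45852 Q45852 (allL N45852 (tt N79720 D163520) (tt N79553 (iv0 F342739)) (tt N23746 F119754) (tt N64135 (iv3 F193230)) (tt N67406 (iv4 F339686)) (tt N79721 D163522) (tt N23745 (iv6 D78579)) (tt N79722 D163523))
theorem Q45854 : ∀ i, i < 45854 → P i := stepQ 45853 Q45853 (allL N45853 (tt N79722 (iv1 F257798)) (tt N23746 (iv0 D78580)) (tt N79720 (iv2 F337587)) (tt N46095 (iv3 F323678)) (tt N79574 (iv4 F359800)) (tt N46091 (iv5 F323679)) (tt N79562 (iv6 F334236)) (tt N79553 (iv7 F342744)))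
theorem Q45855 : ∀ i, i < 45855 → P i := stepQ 45854 Q45854 (allL N45854 (tt N23746 (iv1 D78581)) (tt N79722 F257797) (tt N79553 (iv2 F342741)) (tt N79723 D163530) (tt N79724 D163531) (tt N79725 D163532) (tt N64091 (iv6 F348415)) (tt N79720 (iv7 F337591)))
theorem Q45856 : ∀ i, i < 45856 → P i := stepQ 45855 Q45855 (allL N45855 (tt N79726 D163534) (tt N79727 D163535) (tt N79721 (iv2 F257794)) (tt N23749 F119755) (tt N24562 (iv4 F323696)) (tt N23746 (iv5 D78582)) (tt N45558 (iv6 F322748)) (tt N24861 (iv7 F322745)))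
theorem Q45857 : ∀ i, i < 45857 → P i := stepQ 45856 Q45856 (allL N45856 (tt N79553 (iv1 F342740)) (tt N79720 F257796) (tt N79722 (iv2 F257795)) (tt N23750 F119756) (tt N67409 (iv4 F347509)) (tt N24861 (iv5 F322744)) (tt N23952 F299578) (tt N23746 (iv7 D78583)))
theorem Q45858 : ∀ i, i < 45858 → P i := stepQ 45857 Q45857 (allL N45857 (tt N78471 F330875) (tt N48323 F330876) (tt N24707 (iv2 F320314)) (tt N23747 (iv3 D78584)) (tt N79728 D163541) (tt N24077 (iv5 F320327)) (tt N24525 F318145) (tt N45994 (iv7 F120052)))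
theorem Q45859 : ∀ i, i < 45859 → P i := stepQ 45858 Q45858 (allL N45858 (tt N48300 F330862) (tt N78581 (iv0 F322734)) (tt N79729 D163549) (tt N23748 (iv3 D78586)) (tt N79706 (iv4 F299561)) (tt N45520 (iv5 F322741)) (tt N47778 (iv6 F129726)) (tt N45519 F320980))
theorem Q45860 : ∀ i, i < 45860 → P i := stepQ 45859 Q45859 (allL N45859 (tt N64259 (iv1 F350920)) (tt N58817 (iv0 F332175)) (tt N63556 (iv2 F320249)) (tt N23751 (iv3 D78592)) (tt N35914 (iv4 F319904)) (tt N25073 (iv5 F320250)) (tt N25076 F318091) (tt N64137 (iv7 F193263)))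
theorem Q45861 : ∀ i, i < 45861 → P i := stepQ 45860 Q45860 (allL N45860 (tt N45585 (iv1 F322779)) (tt N45584 (iv0 F322715)) (tt N45586 (iv2 F322689)) (tt N35803 (iv3 F324769)) (tt N23752 (iv4 D78594)) (tt N25502 (iv5 F321957)) (tt N23969 F119761) (tt N25290 F119762))
theorem Q45862 : ∀ i, i < 45862 → P i := stepQ 45861 Q45861 (allL N45861 (tt N24058 F330824) (tt N37546 (iv0 F322686)) (tt N75841 (iv2 F322687)) (tt N23753 (iv3 D78596)) (tt N46396 F320937) (tt N37576 (iv5 F322688)) (tt N64089 (iv6 F193005)) (tt N46396 F320938))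
theorem Q45863 : ∀ i, i < 45863 → P i := stepQ 45862 Q45862 (allL N45862 (tt N60619 (iv1 F327625)) (tt N60608 (iv0 F358160)) (tt N60617 (iv2 F358150)) (tt N23754 (iv3 D78598)) (tt N46313 (iv4 F122779)) (tt N49999 (iv5 F138384)) (tt N67579 (iv6 F341771)) (tt N46282 (iv7 F122677)))
theorem Q45864 : ∀ i, i < 45864 → P i := stepQ 45863 Q45863 (allL N45863 (tt N64935 F198699) (tt N65116 (iv0 F297828)) (tt N23760 F119763) (tt N67579 (iv3 F341769)) (tt N23755 F119764) (tt N65132 (iv5 F297832)) (tt N23754 (iv6 D78599)) (tt N47760 (iv7 F297475)))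
theorem Q45865 : ∀ i, i < 45865 → P i := stepQ 45864 Q45864 (allL N45864 (tt N23763 (iv1 F119768)) (tt N23755 (iv0 D78600)) (tt N23761 (iv2 F119766)) (tt N45539 (iv3 F195509)) (tt N79730 D163590) (tt N46489 (iv5 F123851)) (tt N45845 F119765) (tt N23762 F119767))
theorem Q45866 : ∀ i, i < 45866 → P i := stepQ 45865 Q45865 (allL N45865 (tt N23762 (iv1 F119772)) (tt N23761 F119773) (tt N23763 F119769) (tt N26003 (iv3 F296734)) (tt N47760 (iv4 F297474)) (tt N25376 F119771) (tt N46285 (iv6 F122693)) (tt N23755 (iv7 D78601)))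
theorem Q45867 : ∀ i, i < 45867 → P i := stepQ 45866 Q45866 (allL N45866 (tt N60645 (iv1 F327272)) (tt N60574 (iv0 F361882)) (tt N60647 (iv2 F327286)) (tt N23756 (iv3 D78602)) (tt N38149 F320967) (tt N79698 (iv5 F257751)) (tt N60638 (iv6 F327211)) (tt N46289 (iv7 F122724)))
theorem Q45868 : ∀ i, i < 45868 → P i := stepQ 45867 Q45867 (allL N45867 (tt N79731 D163594) (tt N79732 D163595) (tt N60641 (iv2 F327276)) (tt N23757 (iv3 D78604)) (tt N45367 F119776) (tt N79700 (iv5 F257753)) (tt N59627 (iv6 F325589)) (tt N46290 (iv7 F122733)))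
theorem Q45869 : ∀ i, i < 45869 → P i := stepQ 45868 Q45868 (allL N45868 (tt N46293 (iv1 F122744)) (tt N23758 (iv0 D78606)) (tt N46292 F254295) (tt N79733 D163599) (tt N48362 (iv4 F254292)) (tt N79694 (iv5 F262194)) (tt N79570 (iv6 F357783)) (tt N46291 (iv7 F254296)))
theorem Q45870 : ∀ i, i < 45870 → P i := stepQ 45869 Q45869 (allL N45869 (tt N23758 (iv1 D78607)) (tt N46293 F122745) (tt N46291 (iv2 F254298)) (tt N55670 (iv3 F343685)) (tt N44947 (iv4 F119778)) (tt N79695 (iv5 F257746)) (tt N55668 (iv6 F353616)) (tt N46292 F254297))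
theorem Q45871 : ∀ i, i < 45871 → P i := stepQ 45870 Q45870 (allL N45870 (tt N46292 F122741) (tt N46291 F122739) (tt N23758 (iv2 D78608)) (tt N60617 (iv3 F358151)) (tt N23766 F119779) (tt N79734 D163604) (tt N79735 D163605) (tt N46293 (iv7 F122743)))
theorem Q45872 : ∀ i, i < 45872 → P i := stepQ 45871 Q45871 (allL N45871 (tt N79736 D163606) (tt N79737 D163607) (tt N79734 (iv2 F257867)) (tt N23759 F119780) (tt N52661 (iv4 F327101)) (tt N23758 (iv5 D78609)) (tt N79738 D163609) (tt N46294 (iv7 F122747)))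
theorem Q45873 : ∀ i, i < 45873 → P i := stepQ 45872 Q45872 (allL N45872 (tt N67416 (iv1 F341627)) (tt N79739 D163611) (tt N79735 (iv2 F257870)) (tt N23760 F119781) (tt N23767 F119782) (tt N79740 D163612) (tt N23758 (iv6 D78610)) (tt N79741 D163613))
theorem Q45874 : ∀ i, i < 45874 → P i := stepQ 45873 Q45873 (allL N45873 (tt N68774 (iv1 F357665)) (tt N68784 (iv0 F340300)) (tt N50000 (iv2 F138386)) (tt N79738 (iv3 F257878)) (tt N49982 (iv4 F138250)) (tt N67577 (iv5 F340304)) (tt N23759 (iv6 D78613)) (tt N68781 (iv7 F340297)))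
theorem Q45875 : ∀ i, i < 45875 → P i := stepQ 45874 Q45874 (allL N45874 (tt N47760 F297778) (tt N23760 (iv0 D78614)) (tt N64935 (iv2 F198696)) (tt N79742 D163622) (tt N25038 F297779) (tt N79743 D163623) (tt N65910 (iv6 F325644)) (tt N65116 (iv7 F297831)))
theorem Q45876 : ∀ i, i < 45876 → P i := stepQ 45875 Q45875 (allL N45875 (tt N23760 (iv1 D78615)) (tt N47760 F297781) (tt N65116 (iv2 F297830)) (tt N79744 D163625) (tt N47755 F297782) (tt N36848 F347420) (tt N46187 F148928) (tt N64935 (iv7 F198697)))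
theorem Q45877 : ∀ i, i < 45877 → P i := stepQ 45876 Q45876 (allL N45876 (tt N65136 (iv1 F301894)) (tt N65095 (iv0 F301895)) (tt N65132 F299102) (tt N79740 (iv3 F257879)) (tt N67589 (iv4 F342198)) (tt N23760 (iv5 D78616)) (tt N67577 (iv6 F340305)) (tt N65133 (iv7 F299761)))
theorem Q45878 : ∀ i, i < 45878 → P i := stepQ 45877 Q45877 (allL N45877 (tt N65116 (iv1 F297829)) (tt N64935 (iv0 F198698)) (tt N47760 F297569) (tt N79741 (iv3 F257880)) (tt N23763 F119793) (tt N65133 (iv5 F299760)) (tt N46298 (iv6 F122751)) (tt N23760 (iv7 D78617)))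
theorem Q45879 : ∀ i, i < 45879 → P i := stepQ 45878 Q45878 (allL N45878 (tt N35309 F299098) (tt N35306 F299099) (tt N79730 (iv2 F257858)) (tt N79745 D163632) (tt N23761 (iv4 D78619)) (tt N79746 D163633) (tt N65787 (iv6 F330423)) (tt N79365 (iv7 F254666)))
theorem Q45880 : ∀ i, i < 45880 → P i := stepQ 45879 Q45879 (allL N45879 (tt N79672 F257706) (tt N59941 (iv0 F324475)) (tt N45845 F119794) (tt N46222 (iv3 F298088)) (tt N65787 (iv4 F330421)) (tt N45727 F119795) (tt N23761 (iv6 D78620)) (tt N45843 F119796))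
theorem Q45881 : ∀ i, i < 45881 → P i := stepQ 45880 Q45880 (allL N45880 (tt N34768 F123094) (tt N34727 F298973) (tt N45540 (iv2 F126971)) (tt N23762 (iv3 D78621)) (tt N46702 (iv4 F126227)) (tt N46364 F123093) (tt N46185 (iv6 F122425)) (tt N45539 (iv7 F195510)))
theorem Q45882 : ∀ i, i < 45882 → P i := stepQ 45881 Q45881 (allL N45881 (tt N35306 F299100) (tt N35309 F299101) (tt N79365 (iv2 F254664)) (tt N79747 D163636) (tt N23762 (iv4 D78622)) (tt N37187 F354341) (tt N46186 (iv6 F122426)) (tt N79730 (iv7 F257860)))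
theorem Q45883 : ∀ i, i < 45883 → P i := stepQ 45882 Q45882 (allL N45882 (tt N65429 (iv1 F257782)) (tt N78415 F256588) (tt N64983 (iv2 F257950)) (tt N23764 (iv3 D78624)) (tt N45374 F119798) (tt N64132 (iv5 F250809)) (tt N79575 (iv6 F329757)) (tt N46301 (iv7 F257935)))
theorem Q45884 : ∀ i, i < 45884 → P i := stepQ 45883 Q45883 (allL N45883 (tt N60563 (iv1 F328090)) (tt N60562 (iv0 F328085)) (tt N46305 (iv2 F257926)) (tt N79748 D163648) (tt N23764 (iv4 D78625)) (tt N79749 D163649) (tt N79576 (iv6 F329759)) (tt N46302 F257979))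
theorem Q45885 : ∀ i, i < 45885 → P i := stepQ 45884 Q45884 (allL N45884 (tt N79750 D163662) (tt N79751 D163663) (tt N23767 F119800) (tt N45672 F119801) (tt N79735 (iv4 F257871)) (tt N79752 D163664) (tt N23766 (iv6 D78633)) (tt N79753 D163665))
theorem Q45886 : ∀ i, i < 45886 → P i := stepQ 45885 Q45885 (allL N45885 (tt N79753 (iv1 F258002)) (tt N23767 (iv0 D78634)) (tt N79750 (iv2 F363239)) (tt N78545 (iv3 F363226)) (tt N79754 D163668) (tt N78543 (iv5 F341884)) (tt N79755 D163670) (tt N79751 (iv7 F341668)))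
theorem Q45887 : ∀ i, i < 45887 → P i := stepQ 45886 Q45886 (allL N45886 (tt N23767 (iv1 D78635)) (tt N79753 F258001) (tt N79751 (iv2 F341664)) (tt N79756 D163672) (tt N79757 D163673) (tt N79758 D163674) (tt N46206 F341657) (tt N79750 (iv7 F363240)))
theorem Q45888 : ∀ i, i < 45888 → P i := stepQ 45887 Q45887 (allL N45887 (tt N79759 D163676) (tt N38066 (iv0 F341881)) (tt N79752 (iv2 F257995)) (tt N23768 F119802) (tt N69325 (iv4 F346989)) (tt N23767 (iv5 D78636)) (tt N45482 F119803) (tt N66753 (iv7 F205329)))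
theorem Q45889 : ∀ i, i < 45889 → P i := stepQ 45888 Q45888 (allL N45888 (tt N79751 (iv1 F257994)) (tt N79750 F258000) (tt N79753 (iv2 F257998)) (tt N23769 F119804) (tt N79741 (iv4 F257881)) (tt N66753 (iv5 F205328)) (tt N46311 (iv6 F122766)) (tt N23767 (iv7 D78637)))
theorem Q45890 : ∀ i, i < 45890 → P i := stepQ 45889 Q45889 (allL N45889 (tt N75214 (iv1 F344723)) (tt N35534 F254382) (tt N79230 (iv2 F254420)) (tt N23772 (iv3 D78643)) (tt N66703 (iv4 F334003)) (tt N34667 F254383) (tt N79760 D163682) (tt N23778 F119812))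
theorem Q45891 : ∀ i, i < 45891 → P i := stepQ 45890 Q45890 (allL N45890 (tt N35884 (iv1 F327021)) (tt N32244 (iv0 F327022)) (tt N23776 F119817) (tt N79760 (iv3 F258013)) (tt N31138 (iv4 F327020)) (tt N34192 (iv5 F327023)) (tt N23772 (iv6 D78646)) (tt N35882 (iv7 F327024)))
theorem Q45892 : ∀ i, i < 45892 → P i := stepQ 45891 Q45891 (allL N45891 (tt N23773 (iv1 D78648)) (tt N48375 F254408) (tt N44950 F254266) (tt N48362 (iv3 F254291)) (tt N78410 F254261) (tt N79761 D163690) (tt N79595 (iv6 F357780)) (tt N48376 (iv7 F254316)))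
theorem Q45893 : ∀ i, i < 45893 → P i := stepQ 45892 Q45892 (allL N45892 (tt N48376 (iv1 F254407)) (tt N44950 F254400) (tt N23773 (iv2 D78649)) (tt N79230 F254401) (tt N44630 F254402) (tt N65440 F254403) (tt N54336 (iv6 F334390)) (tt N48375 F254404))
theorem Q45894 : ∀ i, i < 45894 → P i := stepQ 45893 Q45893 (allL N45893 (tt N35527 F119818) (tt N44632 (iv0 F119819)) (tt N44630 F254368) (tt N36757 (iv3 F332756)) (tt N23773 (iv4 D78650)) (tt N36753 F332753) (tt N79762 D163695) (tt N44631 F254369))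
theorem Q45895 : ∀ i, i < 45895 → P i := stepQ 45894 Q45894 (allL N45894 (tt N45400 F254319) (tt N65441 (iv0 F254061)) (tt N65440 F254392) (tt N23775 F119820) (tt N48397 F248737) (tt N23773 (iv5 D78651)) (tt N79763 D163696) (tt N34664 F254393))
theorem Q45896 : ∀ i, i < 45896 → P i := stepQ 45895 Q45895 (allL N45895 (tt N79764 D163697) (tt N79765 D163698) (tt N54336 (iv2 F334388)) (tt N23776 F119821) (tt N79762 (iv4 F258048)) (tt N47951 (iv5 F328022)) (tt N23773 (iv6 D78652)) (tt N78565 (iv7 F334385)))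
theorem Q45897 : ∀ i, i < 45897 → P i := stepQ 45896 Q45896 (allL N45896 (tt N44950 F254370) (tt N48376 F254371) (tt N48375 (iv2 F254406)) (tt N23777 F119822) (tt N44631 F254372) (tt N34664 F254373) (tt N24470 F330685) (tt N23773 (iv7 D78653)))
theorem Q45898 : ∀ i, i < 45898 → P i := stepQ 45897 Q45897 (allL N45897 (tt N29476 F327092) (tt N32264 F327093) (tt N31177 F327094) (tt N23774 (iv3 D78656)) (tt N36757 F332760) (tt N30100 (iv5 F327665)) (tt N29495 (iv6 F327667)) (tt N32263 F327095))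
theorem Q45899 : ∀ i, i < 45899 → P i := stepQ 45898 Q45898 (allL N45898 (tt N32235 F327530) (tt N38510 F327531) (tt N38509 F327532) (tt N30100 (iv3 F327664)) (tt N67793 F327533) (tt N23774 (iv5 D78657)) (tt N38933 (iv6 F328002)) (tt N38508 F327534))
theorem Q45900 : ∀ i, i < 45900 → P i := stepQ 45899 Q45899 (allL N45899 (tt N32241 (iv1 F328012)) (tt N30789 (iv0 F328013)) (tt N31138 F327548) (tt N29495 (iv3 F327666)) (tt N23776 F119825) (tt N79766 D163720) (tt N23774 (iv6 D78658)) (tt N32240 (iv7 F328015)))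
theorem Q45901 : ∀ i, i < 45901 → P i := stepQ 45900 Q45900 (allL N45900 (tt N79345 (iv1 F254203)) (tt N79767 D163723) (tt N34668 F254394) (tt N79768 D163724) (tt N23775 (iv4 D78662)) (tt N79769 D163725) (tt N79770 D163726) (tt N34665 F254395))
theorem Q45902 : ∀ i, i < 45902 → P i := stepQ 45901 Q45901 (allL N45901 (tt N34142 (iv1 F328798)) (tt N25291 (iv0 F328799)) (tt N34669 F254396) (tt N79763 (iv3 F258049)) (tt N79770 (iv4 F258086)) (tt N47953 F328400) (tt N23775 (iv6 D78663)) (tt N65409 (iv7 F330726)))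
theorem Q45903 : ∀ i, i < 45903 → P i := stepQ 45902 Q45902 (allL N45902 (tt N35882 F327549) (tt N23776 (iv0 D78665)) (tt N35884 (iv2 F328016)) (tt N64066 (iv3 F328017)) (tt N35880 (iv4 F328018)) (tt N44863 (iv5 F328019)) (tt N64059 (iv6 F328020)) (tt N32244 (iv7 F328021)))
theorem Q45904 : ∀ i, i < 45904 → P i := stepQ 45903 Q45903 (allL N45903 (tt N32244 F327552) (tt N35884 F327553) (tt N35882 F327554) (tt N78565 (iv3 F334384)) (tt N32240 (iv4 F328014)) (tt N34193 (iv5 F328023)) (tt N48270 F332121) (tt N23776 (iv7 D78668)))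
theorem Q45905 : ∀ i, i < 45905 → P i := stepQ 45904 Q45904 (allL N45904 (tt N48271 (iv1 F330689)) (tt N35516 (iv0 F330690)) (tt N23781 F119833) (tt N24470 F330684) (tt N59535 (iv4 F327019)) (tt N67905 (iv5 F330692)) (tt N23777 (iv6 D78669)) (tt N48270 F332122))
theorem Q45906 : ∀ i, i < 45906 → P i := stepQ 45905 Q45905 (allL N45905 (tt N79230 (iv1 F254422)) (tt N23778 (iv0 D78670)) (tt N35534 F254349) (tt N64138 F193274) (tt N46325 F122821) (tt N79687 (iv5 F257740)) (tt N79603 (iv6 F353264)) (tt N75214 (iv7 F344728)))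
theorem Q45907 : ∀ i, i < 45907 → P i := stepQ 45906 Q45906 (allL N45906 (tt N35534 F254415) (tt N75214 (iv0 F344722)) (tt N23778 (iv2 D78672)) (tt N48375 F254417) (tt N66702 (iv4 F333999)) (tt N78750 F254418) (tt N77027 (iv6 F330687)) (tt N79230 F254419))
theorem Q45908 : ∀ i, i < 45908 → P i := stepQ 45907 Q45907 (allL N45907 (tt N45488 (iv1 F254199)) (tt N45486 (iv0 F119834)) (tt N66702 (iv2 F333997)) (tt N31175 F327091) (tt N23778 (iv4 D78673)) (tt N79771 D163753) (tt N55461 (iv6 F340616)) (tt N66703 (iv7 F334004)))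
theorem Q45909 : ∀ i, i < 45909 → P i := stepQ 45908 Q45908 (allL N45908 (tt N78751 F254300) (tt N25348 F254423) (tt N78750 F254387) (tt N23780 F119835) (tt N60563 (iv4 F328092)) (tt N23778 (iv5 D78674)) (tt N79772 D163755) (tt N34667 F254388))
theorem Q45910 : ∀ i, i < 45910 → P i := stepQ 45909 Q45909 (allL N45909 (tt N76167 (iv1 F344691)) (tt N76110 (iv0 F344676)) (tt N77027 (iv2 F330686)) (tt N23781 F119836) (tt N55461 (iv4 F340615)) (tt N79773 D163758) (tt N23778 (iv6 D78675)) (tt N77028 (iv7 F344693)))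
theorem Q45911 : ∀ i, i < 45911 → P i := stepQ 45910 Q45910 (allL N45910 (tt N59674 (iv1 F327658)) (tt N79774 D163766) (tt N59535 F327089) (tt N31176 F327090) (tt N23781 F119837) (tt N39369 (iv5 F327659)) (tt N23779 (iv6 D78678)) (tt N71354 (iv7 F327661)))
theorem Q45912 : ∀ i, i < 45912 → P i := stepQ 45911 Q45911 (allL N45911 (tt N79767 (iv1 F258078)) (tt N79345 (iv0 F254302)) (tt N34665 F254389) (tt N69225 (iv3 F337541)) (tt N23780 (iv4 D78679)) (tt N69224 (iv5 F334329)) (tt N79775 D163771) (tt N34668 F254390))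
theorem Q45913 : ∀ i, i < 45913 → P i := stepQ 45912 Q45912 (allL N45912 (tt N34615 (iv1 F344877)) (tt N60380 (iv0 F344878)) (tt N34666 F254391) (tt N79772 (iv3 F258115)) (tt N79775 (iv4 F258128)) (tt N63552 (iv5 F330710)) (tt N23780 (iv6 D78680)) (tt N78745 (iv7 F330765)))
theorem Q45914 : ∀ i, i < 45914 → P i := stepQ 45913 Q45913 (allL N45913 (tt N23781 (iv1 D78682)) (tt N48270 F332114) (tt N35516 F332115) (tt N48275 (iv3 F332123)) (tt N57374 (iv4 F358729)) (tt N52842 (iv5 F332129)) (tt N79602 (iv6 F332169)) (tt N48271 F332116))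
theorem Q45915 : ∀ i, i < 45915 → P i := stepQ 45914 Q45914 (allL N45914 (tt N31348 F332099) (tt N67902 (iv0 F342308)) (tt N67905 (iv2 F330691)) (tt N79773 (iv3 F258116)) (tt N69641 (iv4 F344124)) (tt N23781 (iv5 D78683)) (tt N63552 (iv6 F330711)) (tt N67906 (iv7 F332090)))
theorem Q45916 : ∀ i, i < 45916 → P i := stepQ 45915 Q45915 (allL N45915 (tt N35516 F330701) (tt N48271 F330702) (tt N48270 F332117) (tt N77028 (iv3 F344692)) (tt N71354 (iv4 F327660)) (tt N67906 (iv5 F332088)) (tt N35882 F327557) (tt N23781 (iv7 D78684)))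
theorem Q45917 : ∀ i, i < 45917 → P i := stepQ 45916 Q45916 (allL N45916 (tt N23955 (iv1 F119843)) (tt N23954 F119844) (tt N23785 F119841) (tt N31991 F326087) (tt N23782 (iv4 D78695)) (tt N67566 (iv5 F334322)) (tt N31990 F326088) (tt N23956 F119842))
theorem Q45918 : ∀ i, i < 45918 → P i := stepQ 45917 Q45917 (allL N45917 (tt N48378 (iv1 F258033)) (tt N79761 (iv0 F258032)) (tt N79776 D163801) (tt N23783 (iv3 D78698)) (tt N44665 F119847) (tt N58815 (iv5 F325693)) (tt N79777 D163802) (tt N24056 F258208))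
theorem Q45919 : ∀ i, i < 45919 → P i := stepQ 45918 Q45918 (allL N45918 (tt N79778 D163804) (tt N79666 (iv0 F302182)) (tt N24060 F258209) (tt N79779 D163806) (tt N23783 (iv4 D78699)) (tt N79780 D163807) (tt N58821 (iv6 F330784)) (tt N24057 F258210))
theorem Q45920 : ∀ i, i < 45920 → P i := stepQ 45919 Q45919 (allL N45919 (tt N23956 (iv1 F330780)) (tt N23785 (iv0 F330781)) (tt N23955 F330777) (tt N79777 (iv3 F258168)) (tt N58821 (iv4 F330783)) (tt N37864 (iv5 F330785)) (tt N23783 (iv6 D78701)) (tt N23954 (iv7 F330786)))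
theorem Q45921 : ∀ i, i < 45921 → P i := stepQ 45920 Q45920 (allL N45920 (tt N79687 F258182) (tt N50701 F258183) (tt N79781 D163815) (tt N23784 (iv3 D78703)) (tt N79782 D163816) (tt N58816 (iv5 F325700)) (tt N79783 D163817) (tt N24059 (iv7 F258195)))
theorem Q45922 : ∀ i, i < 45922 → P i := stepQ 45921 Q45921 (allL N45921 (tt N79666 (iv1 F302183)) (tt N79778 F258180) (tt N24057 (iv2 F258200)) (tt N69229 (iv3 F323706)) (tt N23784 (iv4 D78704)) (tt N79784 D163819) (tt N68496 (iv6 F330817)) (tt N24060 (iv7 F258203)))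
theorem Q45923 : ∀ i, i < 45923 → P i := stepQ 45922 Q45922 (allL N45922 (tt N46396 (iv1 F330814)) (tt N75841 (iv0 F330815)) (tt N24058 (iv2 F258202)) (tt N79783 (iv3 F258260)) (tt N68496 (iv4 F330816)) (tt N37548 (iv5 F330818)) (tt N23784 (iv6 D78706)) (tt N37546 (iv7 F330819)))
theorem Q45924 : ∀ i, i < 45924 → P i := stepQ 45923 Q45923 (allL N45923 (tt N23785 (iv1 D78708)) (tt N23956 F119850) (tt N23954 (iv2 F261319)) (tt N79785 D163830) (tt N48298 (iv4 F132101)) (tt N37865 F324207) (tt N37546 F330827) (tt N23955 (iv7 F261321)))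
theorem Q45925 : ∀ i, i < 45925 → P i := stepQ 45924 Q45924 (allL N45924 (tt N58854 (iv1 F325154)) (tt N58853 (iv0 F325155)) (tt N31990 (iv2 F325156)) (tt N23957 F119853) (tt N23786 F119854) (tt N79786 D163838) (tt N23785 (iv6 D78710)) (tt N58855 F323893))
theorem Q45926 : ∀ i, i < 45926 → P i := stepQ 45925 Q45925 (allL N45925 (tt N32061 (iv1 F325674)) (tt N23786 (iv0 D78711)) (tt N58762 (iv2 F342288)) (tt N79787 D163841) (tt N79788 D163842) (tt N75685 (iv5 F353032)) (tt N79510 (iv6 F359358)) (tt N58763 (iv7 F342287)))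
theorem Q45927 : ∀ i, i < 45927 → P i := stepQ 45926 Q45926 (allL N45926 (tt N23786 (iv1 D78712)) (tt N32061 (iv0 F325673)) (tt N58763 (iv2 F342285)) (tt N79789 D163846) (tt N79790 D163847) (tt N77748 (iv5 F350830)) (tt N63480 (iv6 F330807)) (tt N58762 (iv7 F342289)))
theorem Q45928 : ∀ i, i < 45928 → P i := stepQ 45927 Q45927 (allL N45927 (tt N58763 (iv1 F325671)) (tt N58762 (iv0 F325672)) (tt N32061 (iv2 F325675)) (tt N23789 F119855) (tt N58855 F324569) (tt N79620 (iv5 F257479)) (tt N24018 F119856) (tt N23786 (iv7 D78713)))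
theorem Q45929 : ∀ i, i < 45929 → P i := stepQ 45928 Q45928 (allL N45928 (tt N79791 D163863) (tt N50706 (iv0 F338779)) (tt N79792 D163865) (tt N23787 (iv3 D78717)) (tt N59757 (iv4 F325302)) (tt N63795 (iv5 F318522)) (tt N24978 F119859) (tt N58804 F324020))
theorem Q45930 : ∀ i, i < 45930 → P i := stepQ 45929 Q45929 (allL N45929 (tt N48371 (iv1 F338757)) (tt N79793 D163871) (tt N58088 (iv2 F325293)) (tt N23788 (iv3 D78719)) (tt N57871 (iv4 F325297)) (tt N36104 F320720) (tt N65400 (iv6 F201494)) (tt N58092 F324015))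
theorem Q45931 : ∀ i, i < 45931 → P i := stepQ 45930 Q45930 (allL N45930 (tt N75215 (iv1 F323591)) (tt N35539 (iv0 F339250)) (tt N59537 (iv2 F323594)) (tt N23790 (iv3 D78722)) (tt N59344 (iv4 F323597)) (tt N67738 (iv5 F318594)) (tt N59944 (iv6 F323992)) (tt N48349 (iv7 F132203)))
theorem Q45932 : ∀ i, i < 45932 → P i := stepQ 45931 Q45931 (allL N45931 (tt N44949 F330668) (tt N48387 (iv0 F330673)) (tt N48385 F345363) (tt N23791 (iv3 D78726)) (tt N58614 (iv4 F323582)) (tt N62511 (iv5 F323584)) (tt N77588 (iv6 F324182)) (tt N48347 (iv7 F132192)))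
theorem Q45933 : ∀ i, i < 45933 → P i := stepQ 45932 Q45932 (allL N45932 (tt N31343 (iv1 F323586)) (tt N46175 F303803) (tt N48350 (iv2 F132204)) (tt N62511 (iv3 F323583)) (tt N40645 F318591) (tt N23791 (iv5 D78727)) (tt N64221 (iv6 F318592)) (tt N48157 F316319))
theorem Q45934 : ∀ i, i < 45934 → P i := stepQ 45933 Q45933 (allL N45933 (tt N48360 (iv1 F132238)) (tt N23792 (iv0 D78729)) (tt N48359 (iv2 F132228)) (tt N61366 (iv3 F319481)) (tt N44606 F315666) (tt N32010 (iv5 F319482)) (tt N61365 (iv6 F317962)) (tt N44603 F315667))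
theorem Q45935 : ∀ i, i < 45935 → P i := stepQ 45934 Q45934 (allL N45934 (tt N45843 F257902) (tt N45845 F257903) (tt N79672 (iv2 F257703)) (tt N23797 F119912) (tt N66049 (iv4 F323931)) (tt N59941 (iv5 F324478)) (tt N23795 (iv6 D78754)) (tt N59941 (iv7 F324479)))
theorem Q45936 : ∀ i, i < 45936 → P i := stepQ 45935 Q45935 (allL N45935 (tt N46303 F328754) (tt N35838 (iv0 F320733)) (tt N42129 (iv2 F320734)) (tt N23796 (iv3 D78755)) (tt N66047 (iv4 F320735)) (tt N79794 D163930) (tt N79373 (iv6 F323068)) (tt N59939 (iv7 F319451)))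
theorem Q45937 : ∀ i, i < 45937 → P i := stepQ 45936 Q45936 (allL N45936 (tt N65403 (iv1 F201511)) (tt N67929 (iv0 F318682)) (tt N59937 (iv2 F319448)) (tt N79794 (iv3 F258364)) (tt N48067 F316436) (tt N23796 (iv5 D78756)) (tt N45545 (iv6 F320069)) (tt N48066 (iv7 F318684)))
theorem Q45938 : ∀ i, i < 45938 → P i := stepQ 45937 Q45937 (allL N45937 (tt N79795 D163938) (tt N79796 D163939) (tt N79797 D163940) (tt N23799 (iv3 D78760)) (tt N44689 F119921) (tt N79798 D163941) (tt N44658 F297994) (tt N64149 (iv7 F193356)))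
theorem Q45939 : ∀ i, i < 45939 → P i := stepQ 45938 Q45938 (allL N45938 (tt N35235 F119924) (tt N35232 F119925) (tt N23803 F119922) (tt N79798 (iv3 F258392)) (tt N34674 F119923) (tt N23799 (iv5 D78761)) (tt N79799 D163943) (tt N45947 (iv7 F119943)))
theorem Q45940 : ∀ i, i < 45940 → P i := stepQ 45939 Q45939 (allL N45939 (tt N79800 D163949) (tt N79801 D163950) (tt N79802 D163951) (tt N23800 (iv3 D78765)) (tt N51611 (iv4 F146887)) (tt N64993 (iv5 F198785)) (tt N79803 D163952) (tt N64151 (iv7 F193371)))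
theorem Q45941 : ∀ i, i < 45941 → P i := stepQ 45940 Q45940 (allL N45940 (tt N64444 F197173) (tt N25044 (iv0 F121547)) (tt N63882 (iv2 F191530)) (tt N79803 (iv3 F258411)) (tt N35220 F119934) (tt N40349 F341278) (tt N23800 (iv6 D78766)) (tt N59955 (iv7 F326116)))
theorem Q45942 : ∀ i, i < 45942 → P i := stepQ 45941 Q45941 (allL N45941 (tt N79804 D163954) (tt N58026 (iv0 F365874)) (tt N79805 D163956) (tt N23801 (iv3 D78767)) (tt N45458 F119935) (tt N64995 (iv5 F198787)) (tt N57993 (iv6 F326453)) (tt N63883 (iv7 F191541)))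
theorem Q45943 : ∀ i, i < 45943 → P i := stepQ 45942 Q45942 (allL N45942 (tt N64153 (iv1 F193379)) (tt N23802 (iv0 D78769)) (tt N64152 (iv2 F254247)) (tt N57879 (iv3 F326832)) (tt N79806 D163960) (tt N64989 (iv5 F253460)) (tt N58104 (iv6 F353069)) (tt N57874 (iv7 F341848)))
theorem Q45944 : ∀ i, i < 45944 → P i := stepQ 45943 Q45943 (allL N45943 (tt N23802 (iv1 D78770)) (tt N64153 F193380) (tt N57874 (iv2 F341845)) (tt N58007 (iv3 F341839)) (tt N45846 (iv4 F119937)) (tt N64990 (iv5 F250820)) (tt N57872 (iv6 F341850)) (tt N64152 F254245))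
theorem Q45945 : ∀ i, i < 45945 → P i := stepQ 45944 Q45944 (allL N45944 (tt N64152 F193376) (tt N57874 (iv0 F341843)) (tt N23802 (iv2 D78771)) (tt N79797 (iv3 F258390)) (tt N23807 F119938) (tt N79807 D163964) (tt N79808 D163965) (tt N64153 (iv7 F193378)))
theorem Q45946 : ∀ i, i < 45946 → P i := stepQ 45945 Q45945 (allL N45945 (tt N59544 (iv1 F327524)) (tt N79206 (iv0 F253455)) (tt N79807 (iv2 F258433)) (tt N23803 F119939) (tt N79809 D163966) (tt N23802 (iv5 D78772)) (tt N79810 D163967) (tt N64154 (iv7 F193382)))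
theorem Q45947 : ∀ i, i < 45947 → P i := stepQ 45946 Q45946 (allL N45946 (tt N79811 D163968) (tt N79812 D163969) (tt N79808 (iv2 F258436)) (tt N23804 F119940) (tt N23808 F119941) (tt N79813 D163970) (tt N23802 (iv6 D78773)) (tt N44653 F298601))
theorem Q45948 : ∀ i, i < 45948 → P i := stepQ 45947 Q45947 (allL N45947 (tt N45372 F119945) (tt N45370 F119946) (tt N34674 F119942) (tt N79814 D163972) (tt N23803 (iv4 D78774)) (tt N34670 F119944) (tt N79815 D163973) (tt N45938 F119943))
theorem Q45949 : ∀ i, i < 45949 → P i := stepQ 45948 Q45948 (allL N45948 (tt N79816 D163974) (tt N79817 D163975) (tt N79799 (iv2 F258395)) (tt N79810 (iv3 F258438)) (tt N79815 (iv4 F258445)) (tt N58021 (iv5 F343787)) (tt N23803 (iv6 D78775)) (tt N79818 D163977))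
theorem Q45950 : ∀ i, i < 45950 → P i := stepQ 45949 Q45949 (allL N45949 (tt N46712 (iv1 F301272)) (tt N46709 (iv0 F301273)) (tt N44659 F298602) (tt N79813 (iv3 F258439)) (tt N48309 (iv4 F301274)) (tt N23804 (iv5 D78778)) (tt N58021 (iv6 F343788)) (tt N44654 F298603))
theorem Q45951 : ∀ i, i < 45951 → P i := stepQ 45950 Q45950 (allL N45950 (tt N58816 (iv1 F325697)) (tt N64261 (iv0 F258228)) (tt N64260 F254303) (tt N23805 (iv3 D78790)) (tt N52286 (iv4 F344653)) (tt N44947 F250798) (tt N52285 (iv6 F330288)) (tt N48363 (iv7 F254308)))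
theorem Q45952 : ∀ i, i < 45952 → P i := stepQ 45951 Q45951 (allL N45951 (tt N79819 D164000) (tt N79820 D164001) (tt N48383 F254478) (tt N79821 D164002) (tt N23805 (iv4 D78791)) (tt N79822 D164003) (tt N79823 D164004) (tt N48370 F254470))
theorem Q45953 : ∀ i, i < 45953 → P i := stepQ 45952 Q45952 (allL N45952 (tt N64244 (iv1 F330285)) (tt N24011 (iv0 F330286)) (tt N48384 (iv2 F254489)) (tt N52285 (iv3 F330287)) (tt N79823 (iv4 F258471)) (tt N75594 (iv5 F330657)) (tt N23805 (iv6 D78793)) (tt N64243 (iv7 F331720)))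
theorem Q45954 : ∀ i, i < 45954 → P i := stepQ 45953 Q45953 (allL N45953 (tt N79776 (iv1 F258232)) (tt N24056 F258035) (tt N79761 (iv2 F258030)) (tt N23806 (iv3 D78795)) (tt N78467 (iv4 F248847)) (tt N44950 (iv5 F250794)) (tt N79824 D164009) (tt N48378 (iv7 F254476)))
theorem Q45955 : ∀ i, i < 45955 → P i := stepQ 45954 Q45954 (allL N45954 (tt N79820 (iv1 F258470)) (tt N79819 F258466) (tt N48370 F254471) (tt N79825 D164010) (tt N23806 (iv4 D78796)) (tt N79826 D164011) (tt N79827 D164012) (tt N48383 (iv7 F254477)))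
theorem Q45956 : ∀ i, i < 45956 → P i := stepQ 45955 Q45955 (allL N45955 (tt N58092 (iv1 F336490)) (tt N58088 (iv0 F345344)) (tt N48371 F254472) (tt N79824 (iv3 F258473)) (tt N79827 (iv4 F258475)) (tt N79828 D164015) (tt N23806 (iv6 D78798)) (tt N79793 (iv7 F338762)))
theorem Q45957 : ∀ i, i < 45957 → P i := stepQ 45956 Q45956 (allL N45956 (tt N38896 (iv1 F339517)) (tt N79431 (iv0 F302616)) (tt N23808 F119954) (tt N50707 (iv3 F141805)) (tt N79808 (iv4 F258437)) (tt N67646 (iv5 F323628)) (tt N23807 (iv6 D78799)) (tt N79432 (iv7 F302620)))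
theorem Q45958 : ∀ i, i < 45958 → P i := stepQ 45957 Q45957 (allL N45957 (tt N79432 (iv1 F302619)) (tt N23808 (iv0 D78800)) (tt N38896 (iv2 F339507)) (tt N79829 D164022) (tt N79830 D164023) (tt N38884 F339506) (tt N79831 D164025) (tt N79431 (iv7 F348599)))
theorem Q45959 : ∀ i, i < 45959 → P i := stepQ 45958 Q45958 (allL N45958 (tt N23808 (iv1 D78801)) (tt N79432 (iv0 F302618)) (tt N79431 (iv2 F348598)) (tt N79832 D164027) (tt N79833 D164028) (tt N38897 (iv5 F339512)) (tt N79834 D164030) (tt N38896 F339511))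
theorem Q45960 : ∀ i, i < 45960 → P i := stepQ 45959 Q45959 (allL N45959 (tt N46345 (iv1 F299413)) (tt N69406 (iv0 F334667)) (tt N79835 D164068) (tt N23809 (iv3 D78822)) (tt N45825 F297298) (tt N38030 F323673) (tt N79836 D164070) (tt N38029 F323674))
theorem Q45961 : ∀ i, i < 45961 → P i := stepQ 45960 Q45960 (allL N45960 (tt N31354 F319436) (tt N25047 F119982) (tt N45814 F119977) (tt N79836 (iv3 F258562)) (tt N23810 F119978) (tt N67929 F320838) (tt N23809 (iv6 D78824)) (tt N25278 F119979))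
theorem Q45962 : ∀ i, i < 45962 → P i := stepQ 45961 Q45961 (allL N45961 (tt N79837 D164074) (tt N79838 D164075) (tt N79839 D164076) (tt N23811 (iv3 D78826)) (tt N64149 (iv4 F193355)) (tt N27259 F293691) (tt N79840 D164077) (tt N44689 F119986))
theorem Q45963 : ∀ i, i < 45963 → P i := stepQ 45962 Q45962 (allL N45962 (tt N64130 (iv1 F297269)) (tt N64129 (iv0 F297273)) (tt N23816 F119987) (tt N79840 (iv3 F258575)) (tt N23812 F119988) (tt N79841 D164079) (tt N23811 (iv6 D78827)) (tt N79249 (iv7 F296971)))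
theorem Q45964 : ∀ i, i < 45964 → P i := stepQ 45963 Q45963 (allL N45963 (tt N23812 (iv1 D78828)) (tt N23819 F119989) (tt N23818 F119993) (tt N23817 (iv3 F296972)) (tt N79842 D164082) (tt N24884 (iv5 F119992)) (tt N24624 (iv6 F119991)) (tt N23817 F119990))
theorem Q45965 : ∀ i, i < 45965 → P i := stepQ 45964 Q45964 (allL N45964 (tt N23818 (iv1 F119997)) (tt N23817 F119998) (tt N23819 F119994) (tt N25310 (iv3 F296947)) (tt N79249 (iv4 F296970)) (tt N45964 F119995) (tt N24891 F296213) (tt N23812 (iv7 D78829)))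
theorem Q45966 : ∀ i, i < 45966 → P i := stepQ 45965 Q45965 (allL N45965 (tt N79843 D164083) (tt N79844 D164084) (tt N79845 D164085) (tt N23813 (iv3 D78830)) (tt N79429 (iv4 F256258)) (tt N49371 (iv5 F136172)) (tt N79846 D164086) (tt N29063 F119999))
theorem Q45967 : ∀ i, i < 45967 → P i := stepQ 45966 Q45966 (allL N45966 (tt N31105 (iv1 F325300)) (tt N31103 (iv0 F324536)) (tt N29067 F120000) (tt N79846 (iv3 F258606)) (tt N26291 F120001) (tt N79847 D164087) (tt N23813 (iv6 D78831)) (tt N59756 F324434))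
theorem Q45968 : ∀ i, i < 45968 → P i := stepQ 45967 Q45967 (allL N45967 (tt N50696 (iv1 F141769)) (tt N23814 (iv0 D78832)) (tt N50695 (iv2 F257975)) (tt N74813 (iv3 F334280)) (tt N79848 D164090) (tt N78672 F254080) (tt N72734 (iv6 F353240)) (tt N50694 F257974))
theorem Q45969 : ∀ i, i < 45969 → P i := stepQ 45968 Q45968 (allL N45968 (tt N23814 (iv1 D78833)) (tt N50696 F141771) (tt N50694 F257972) (tt N79849 D164092) (tt N45804 (iv4 F120002)) (tt N78673 F254079) (tt N79850 D164093) (tt N50695 F257970))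
theorem Q45970 : ∀ i, i < 45970 → P i := stepQ 45969 Q45969 (allL N45969 (tt N50695 (iv1 F141770)) (tt N50694 F141766) (tt N23814 (iv2 D78834)) (tt N79839 (iv3 F258570)) (tt N23822 F120003) (tt N79851 D164094) (tt N79852 D164095) (tt N50696 (iv7 F141768)))
theorem Q45971 : ∀ i, i < 45971 → P i := stepQ 45970 Q45970 (allL N45970 (tt N47653 (iv1 F254241)) (tt N47656 F254091) (tt N79851 (iv2 F258626)) (tt N23815 F120004) (tt N79853 D164096) (tt N23814 (iv5 D78835)) (tt N79854 D164097) (tt N50697 (iv7 F141773)))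
theorem Q45972 : ∀ i, i < 45972 → P i := stepQ 45971 Q45971 (allL N45971 (tt N79855 D164098) (tt N79856 D164099) (tt N79852 (iv2 F258629)) (tt N23816 F120005) (tt N23823 F120006) (tt N79857 D164100) (tt N23814 (iv6 D78836)) (tt N65313 (iv7 F322700)))
theorem Q45973 : ∀ i, i < 45973 → P i := stepQ 45972 Q45972 (allL N45972 (tt N79858 D164102) (tt N69478 (iv0 F293657)) (tt N27238 (iv2 F293461)) (tt N79854 (iv3 F258631)) (tt N27120 (iv4 F293656)) (tt N79859 D164104) (tt N23815 (iv6 D78837)) (tt N79860 D164105))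
theorem Q45974 : ∀ i, i < 45974 → P i := stepQ 45973 Q45973 (allL N45973 (tt N79249 (iv1 F296968)) (tt N23816 (iv0 D78838)) (tt N64130 (iv2 F297270)) (tt N79861 D164106) (tt N49309 F254712) (tt N79862 D164107) (tt N64095 (iv6 F300522)) (tt N64129 (iv7 F297275)))
theorem Q45975 : ∀ i, i < 45975 → P i := stepQ 45974 Q45974 (allL N45974 (tt N23816 (iv1 D78839)) (tt N79249 F298084) (tt N64129 F298085) (tt N79863 D164109) (tt N45453 F298086) (tt N79864 D164110) (tt N45452 (iv6 F298322)) (tt N64130 F298087))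
theorem Q45976 : ∀ i, i < 45976 → P i := stepQ 45975 Q45975 (allL N45975 (tt N79865 D164111) (tt N79866 D164112) (tt N79841 (iv2 F258581)) (tt N79857 (iv3 F258632)) (tt N79867 D164113) (tt N23816 (iv5 D78840)) (tt N79859 (iv6 F258635)) (tt N79868 D164114))
theorem Q45977 : ∀ i, i < 45977 → P i := stepQ 45976 Q45976 (allL N45976 (tt N64129 (iv1 F297274)) (tt N64130 (iv0 F297268)) (tt N79249 (iv2 F296969)) (tt N65313 (iv3 F322698)) (tt N23819 F120007) (tt N79868 (iv5 F258641)) (tt N44685 F296945) (tt N23816 (iv7 D78841)))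
theorem Q45978 : ∀ i, i < 45978 → P i := stepQ 45977 Q45977 (allL N45977 (tt N34655 F298017) (tt N44701 F258667) (tt N78645 (iv2 F250091)) (tt N79869 D164120) (tt N23817 (iv4 D78843)) (tt N79870 D164121) (tt N45692 (iv6 F300449)) (tt N79842 (iv7 F258596)))
theorem Q45979 : ∀ i, i < 45979 → P i := stepQ 45978 Q45978 (allL N45978 (tt N31181 F326182) (tt N31146 F324516) (tt N31237 F326189) (tt N24884 F298680) (tt N79871 D164123) (tt N23817 (iv5 D78844)) (tt N24674 F120008) (tt N24884 F120009))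
theorem Q45980 : ∀ i, i < 45980 → P i := stepQ 45979 Q45979 (allL N45979 (tt N44701 F258666) (tt N34655 F298016) (tt N79842 (iv2 F258594)) (tt N58742 (iv3 F327057)) (tt N23818 (iv4 D78846)) (tt N79872 D164126) (tt N65059 (iv6 F199076)) (tt N78645 (iv7 F250093)))
theorem Q45981 : ∀ i, i < 45981 → P i := stepQ 45980 Q45980 (allL N45980 (tt N24059 F254427) (tt N79781 (iv0 F258191)) (tt N79687 (iv2 F257738)) (tt N23820 (iv3 D78849)) (tt N50668 F140955) (tt N35534 F254071) (tt N79873 D164128) (tt N50701 F254428))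
theorem Q45982 : ∀ i, i < 45982 → P i := stepQ 45981 Q45981 (allL N45981 (tt N78473 F248859) (tt N59730 (iv0 F327408)) (tt N50705 (iv2 F254440)) (tt N79874 D164130) (tt N23820 (iv4 D78850)) (tt N79875 D164131) (tt N59711 (iv6 F351017)) (tt N50702 (iv7 F254439)))
theorem Q45983 : ∀ i, i < 45983 → P i := stepQ 45982 Q45982 (allL N45982 (tt N79792 (iv1 F351014)) (tt N58804 (iv0 F351015)) (tt N50706 (iv2 F254441)) (tt N79873 (iv3 F258681)) (tt N59711 (iv4 F351016)) (tt N79876 D164135) (tt N23820 (iv6 D78852)) (tt N79791 (iv7 F340166)))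
theorem Q45984 : ∀ i, i < 45984 → P i := stepQ 45983 Q45983 (allL N45983 (tt N64258 (iv1 F258235)) (tt N58815 (iv0 F325691)) (tt N64257 F254075) (tt N23821 (iv3 D78854)) (tt N79877 D164137) (tt N35537 F254076) (tt N79878 D164138) (tt N50704 F254445))
theorem Q45985 : ∀ i, i < 45985 → P i := stepQ 45984 Q45984 (allL N45984 (tt N59730 (iv1 F327409)) (tt N78473 F254448) (tt N50702 (iv2 F254447)) (tt N79879 D164139) (tt N23821 (iv4 D78855)) (tt N79880 D164140) (tt N79881 D164141) (tt N50705 F254446))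
theorem Q45986 : ∀ i, i < 45986 → P i := stepQ 45985 Q45985 (allL N45985 (tt N24009 F340154) (tt N64246 (iv0 F340155)) (tt N50703 F254459) (tt N79878 (iv3 F258687)) (tt N79881 (iv4 F258691)) (tt N79882 D164144) (tt N23821 (iv6 D78857)) (tt N64245 (iv7 F340159)))
theorem Q45987 : ∀ i, i < 45987 → P i := stepQ 45986 Q45986 (allL N45986 (tt N65312 (iv1 F322693)) (tt N65311 (iv0 F322692)) (tt N23823 F120014) (tt N64164 (iv3 F193407)) (tt N79852 (iv4 F258630)) (tt N25123 (iv5 F323618)) (tt N23822 (iv6 D78858)) (tt N65308 (iv7 F322697)))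
theorem Q45988 : ∀ i, i < 45988 → P i := stepQ 45987 Q45987 (allL N45987 (tt N65308 (iv1 F322695)) (tt N23823 (iv0 D78859)) (tt N65312 (iv2 F323611)) (tt N79883 D164151) (tt N79884 D164152) (tt N46356 (iv5 F323614)) (tt N79885 D164154) (tt N65311 (iv7 F323616)))
theorem Q45989 : ∀ i, i < 45989 → P i := stepQ 45988 Q45988 (allL N45988 (tt N23823 (iv1 D78860)) (tt N65308 (iv0 F322694)) (tt N65311 (iv2 F323615)) (tt N79886 D164156) (tt N79887 D164157) (tt N79375 (iv5 F323617)) (tt N65063 (iv6 F345352)) (tt N65312 (iv7 F323612)))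
theorem Q45990 : ∀ i, i < 45990 → P i := stepQ 45989 Q45989 (allL N45989 (tt N44627 (iv1 F120024)) (tt N23825 (iv0 D78867)) (tt N44623 F296313) (tt N31071 F326661) (tt N70722 (iv4 F330385)) (tt N45989 F120021) (tt N25576 F296314) (tt N25299 F120022))
theorem Q45991 : ∀ i, i < 45991 → P i := stepQ 45990 Q45990 (allL N45990 (tt N44623 F296318) (tt N25299 F120029) (tt N23825 (iv2 D78868)) (tt N44656 F120026) (tt N45839 (iv4 F297404)) (tt N35802 F325283) (tt N24283 F120027) (tt N44627 F120028))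
theorem Q45992 : ∀ i, i < 45992 → P i := stepQ 45991 Q45991 (allL N45991 (tt N45819 F296427) (tt N45841 F296428) (tt N45839 (iv2 F297403)) (tt N79371 (iv3 F320977)) (tt N23825 (iv4 D78869)) (tt N79888 D164178) (tt N45386 F120031) (tt N45838 (iv7 F297415)))
theorem Q45993 : ∀ i, i < 45993 → P i := stepQ 45992 Q45992 (allL N45992 (tt N45560 (iv1 F322037)) (tt N45559 (iv0 F321434)) (tt N45561 (iv2 F322028)) (tt N78585 (iv3 F322596)) (tt N23826 (iv4 D78873)) (tt N24860 (iv5 F322598)) (tt N25039 F120039) (tt N25282 F120040))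
theorem Q45994 : ∀ i, i < 45994 → P i := stepQ 45993 Q45993 (allL N45993 (tt N44662 F257770) (tt N45629 F299718) (tt N64160 F299719) (tt N79889 D164192) (tt N23827 (iv4 D78876)) (tt N65472 (iv5 F344465)) (tt N45359 (iv6 F302622)) (tt N64162 F299720))
theorem Q45995 : ∀ i, i < 45995 → P i := stepQ 45994 Q45994 (allL N45994 (tt N44672 F330872) (tt N47291 (iv0 F322022)) (tt N47293 (iv2 F322026)) (tt N23828 (iv3 D78877)) (tt N79889 (iv4 F258777)) (tt N46367 (iv5 F322027)) (tt N45707 F120051) (tt N45857 F120052))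
theorem Q45996 : ∀ i, i < 45996 → P i := stepQ 45995 Q45995 (allL N45995 (tt N79890 D164200) (tt N32754 F235012) (tt N76358 (iv2 F238453)) (tt N23829 (iv3 D78880)) (tt N79891 D164201) (tt N54884 (iv5 F293802)) (tt N79892 D164203) (tt N34403 F177462))
theorem Q45997 : ∀ i, i < 45997 → P i := stepQ 45996 Q45996 (allL N45996 (tt N64191 F193558) (tt N68816 (iv0 F341596)) (tt N34401 F177477) (tt N54884 (iv3 F293801)) (tt N79893 D164205) (tt N23829 (iv5 D78882)) (tt N79894 D164206) (tt N34404 F177464))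
theorem Q45998 : ∀ i, i < 45998 → P i := stepQ 45997 Q45997 (allL N45997 (tt N32729 F178444) (tt N79895 D164207) (tt N34402 (iv2 F177457)) (tt N79892 (iv3 F258806)) (tt N45041 (iv4 F177623)) (tt N32956 F120056) (tt N23829 (iv6 D78883)) (tt N61531 (iv7 F178998)))
theorem Q45999 : ∀ i, i < 45999 → P i := stepQ 45998 Q45998 (allL N45998 (tt N68816 (iv1 F341597)) (tt N64191 (iv0 F193557)) (tt N34404 F177467) (tt N76363 (iv3 F238441)) (tt N79896 D164208) (tt N23830 (iv5 D78887)) (tt N54878 (iv6 F293786)) (tt N34401 (iv7 F177476)))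
theorem Q46000 : ∀ i, i < 46000 → P i := stepQ 45999 Q45999 (allL N45999 (tt N45145 (iv1 F177470)) (tt N32769 F177469) (tt N34405 F177468) (tt N76364 (iv3 F238463)) (tt N45044 F177664) (tt N54879 (iv5 F293796)) (tt N23830 (iv6 D78888)) (tt N78380 (iv7 F248568)))
theorem Q46001 : ∀ i, i < 46001 → P i := stepQ 46000 Q46000 (allL N46000 (tt N79897 D164209) (tt N54862 (iv0 F291388)) (tt N61024 (iv2 F177687)) (tt N23836 F120058) (tt N47529 F324706) (tt N60265 (iv5 F176078)) (tt N23832 (iv6 D78889)) (tt N47525 (iv7 F325432)))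
theorem Q46002 : ∀ i, i < 46002 → P i := stepQ 46001 Q46001 (allL N46001 (tt N44031 F334448) (tt N79898 D164213) (tt N43249 F120059) (tt N24578 F120060) (tt N23836 F120061) (tt N70550 (iv5 F330214)) (tt N23835 (iv6 D78890)) (tt N57400 (iv7 F325427)))
theorem Q46003 : ∀ i, i < 46003 → P i := stepQ 46002 Q46002 (allL N46002 (tt N43253 (iv1 F120067)) (tt N23836 (iv0 D78891)) (tt N43250 (iv2 F258958)) (tt N61027 (iv3 F258959)) (tt N46979 F327772) (tt N79899 D164219) (tt N79900 D164220) (tt N43251 (iv7 F258960)))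
theorem Q46004 : ∀ i, i < 46004 → P i := stepQ 46003 Q46003 (allL N46003 (tt N79901 D164226) (tt N56669 (iv0 F340666)) (tt N43252 F120063) (tt N60265 (iv3 F176077)) (tt N79902 D164228) (tt N23836 (iv5 D78893)) (tt N23837 F120064) (tt N68200 (iv7 F327120)))
theorem Q46005 : ∀ i, i < 46005 → P i := stepQ 46004 Q46004 (allL N46004 (tt N41406 F321169) (tt N61362 F178690) (tt N60996 (iv2 F177548)) (tt N69491 (iv3 F351262)) (tt N23837 (iv4 D78895)) (tt N79903 D164231) (tt N79902 (iv6 F258850)) (tt N61359 F178688))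
theorem Q46006 : ∀ i, i < 46006 → P i := stepQ 46005 Q46005 (allL N46005 (tt N34093 (iv1 F120072)) (tt N29992 F120073) (tt N34091 F120070) (tt N60259 F176062) (tt N61359 (iv4 F178687)) (tt N23838 F120071) (tt N68209 (iv6 F327030)) (tt N23837 (iv7 D78896)))
theorem Q46007 : ∀ i, i < 46007 → P i := stepQ 46006 Q46006 (allL N46006 (tt N34064 F120076) (tt N24304 F120077) (tt N41612 F307974) (tt N75367 F307975) (tt N23839 (iv4 D78897)) (tt N24294 F120075) (tt N79904 D164234) (tt N43246 F120074))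
theorem Q46008 : ∀ i, i < 46008 → P i := stepQ 46007 Q46007 (allL N46007 (tt N79075 (iv1 F335179)) (tt N79905 D164236) (tt N47531 F324715) (tt N23842 F120078) (tt N79904 (iv4 F258865)) (tt N33013 F326294) (tt N23839 (iv6 D78898)) (tt N61678 (iv7 F327109)))
theorem Q46009 : ∀ i, i < 46009 → P i := stepQ 46008 Q46008 (allL N46008 (tt N36303 F120082) (tt N41718 F120083) (tt N36252 F120079) (tt N23843 F120080) (tt N39027 (iv4 F327351)) (tt N23840 (iv5 D78899)) (tt N33013 F326621) (tt N36250 F120081))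
theorem Q46010 : ∀ i, i < 46010 → P i := stepQ 46009 Q46009 (allL N46009 (tt N32467 (iv1 F120101)) (tt N33673 F120102) (tt N33671 F120098) (tt N36250 F120099) (tt N33015 F326215) (tt N23844 F120100) (tt N61683 (iv6 F327028)) (tt N23843 (iv7 D78907)))
theorem Q46011 : ∀ i, i < 46011 → P i := stepQ 46010 Q46010 (allL N46010 (tt N63852 F189844) (tt N64474 (iv0 F197299)) (tt N78884 (iv2 F251190)) (tt N23845 (iv3 D78908)) (tt N61036 (iv4 F177715)) (tt N63695 (iv5 F188743)) (tt N79906 D164261) (tt N60997 (iv7 F177551)))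
theorem Q46012 : ∀ i, i < 46012 → P i := stepQ 46011 Q46011 (allL N46011 (tt N79907 D164262) (tt N79908 D164263) (tt N23848 F120103) (tt N79906 (iv3 F258903)) (tt N23846 F120104) (tt N79909 D164264) (tt N23845 (iv6 D78909)) (tt N79910 D164265))
theorem Q46013 : ∀ i, i < 46013 → P i := stepQ 46012 Q46012 (allL N46012 (tt N23852 (iv1 F120107)) (tt N23846 (iv0 D78910)) (tt N23849 F324749) (tt N62819 (iv3 F337880)) (tt N70497 (iv4 F337851)) (tt N66756 (iv5 F325814)) (tt N62818 (iv6 F346139)) (tt N23850 F324750))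
theorem Q46014 : ∀ i, i < 46014 → P i := stepQ 46013 Q46013 (allL N46013 (tt N23846 (iv1 D78911)) (tt N23852 F120105) (tt N23850 (iv2 F323419)) (tt N61062 (iv3 F353810)) (tt N70478 (iv4 F337846)) (tt N62704 (iv5 F319197)) (tt N79911 D164274) (tt N23849 (iv7 F323424)))
theorem Q46015 : ∀ i, i < 46015 → P i := stepQ 46014 Q46014 (allL N46014 (tt N23850 (iv1 F120108)) (tt N23849 F120109) (tt N23852 F120106) (tt N50787 (iv3 F142461)) (tt N79910 (iv4 F258907)) (tt N43850 F319018) (tt N50771 (iv6 F142382)) (tt N23846 (iv7 D78912)))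
theorem Q46016 : ∀ i, i < 46016 → P i := stepQ 46015 Q46015 (allL N46015 (tt N67966 (iv1 F310828)) (tt N47405 F313065) (tt N63696 (iv2 F188745)) (tt N37427 (iv3 F310829)) (tt N24597 F120110) (tt N37425 (iv5 F310830)) (tt N23847 (iv6 D78913)) (tt N67951 (iv7 F310827)))
theorem Q46017 : ∀ i, i < 46017 → P i := stepQ 46016 Q46016 (allL N46016 (tt N79910 (iv1 F258911)) (tt N23848 (iv0 D78914)) (tt N79907 (iv2 F338585)) (tt N79912 D164280) (tt N61414 (iv4 F338544)) (tt N72115 (iv5 F338552)) (tt N79913 D164283) (tt N79908 (iv7 F338583)))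
theorem Q46018 : ∀ i, i < 46018 → P i := stepQ 46017 Q46017 (allL N46017 (tt N23848 (iv1 D78915)) (tt N79910 F258909) (tt N79908 (iv2 F338580)) (tt N38054 (iv3 F338547)) (tt N61415 (iv4 F338554)) (tt N38041 (iv5 F338548)) (tt N79914 D164288) (tt N79907 (iv7 F338586)))
theorem Q46019 : ∀ i, i < 46019 → P i := stepQ 46018 Q46018 (allL N46018 (tt N79915 D164289) (tt N79916 D164290) (tt N79909 (iv2 F258905)) (tt N37428 (iv3 F315505)) (tt N43846 (iv4 F349299)) (tt N23848 (iv5 D78916)) (tt N37425 F313067) (tt N50951 (iv7 F143133)))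
theorem Q46020 : ∀ i, i < 46020 → P i := stepQ 46019 Q46019 (allL N46019 (tt N79908 (iv1 F258904)) (tt N79907 F258908) (tt N79910 (iv2 F258906)) (tt N50952 (iv3 F143136)) (tt N23852 F120111) (tt N50951 F143134) (tt N61009 (iv6 F177584)) (tt N23848 (iv7 D78917)))
theorem Q46021 : ∀ i, i < 46021 → P i := stepQ 46020 Q46020 (allL N46020 (tt N50758 (iv1 F352376)) (tt N61040 (iv0 F337871)) (tt N61061 (iv2 F353806)) (tt N23849 (iv3 D78919)) (tt N79917 D164301) (tt N79918 D164302) (tt N74945 (iv6 F353809)) (tt N61062 (iv7 F353812)))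
theorem Q46022 : ∀ i, i < 46022 → P i := stepQ 46021 Q46021 (allL N46021 (tt N67837 (iv1 F337845)) (tt N70496 (iv0 F337844)) (tt N70497 (iv2 F337850)) (tt N79438 (iv3 F355084)) (tt N23849 (iv4 D78920)) (tt N36163 F337852) (tt N75208 (iv6 F346137)) (tt N70478 (iv7 F337847)))
theorem Q46023 : ∀ i, i < 46023 → P i := stepQ 46022 Q46022 (allL N46022 (tt N42170 F321737) (tt N74477 F321738) (tt N66756 F321739) (tt N79918 (iv3 F258931)) (tt N56081 (iv4 F323425)) (tt N23849 (iv5 D78921)) (tt N74468 F321740) (tt N62704 F321741))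
theorem Q46024 : ∀ i, i < 46024 → P i := stepQ 46023 Q46023 (allL N46023 (tt N74936 (iv1 F353820)) (tt N68191 (iv0 F353828)) (tt N62818 (iv2 F346138)) (tt N74945 (iv3 F353808)) (tt N75208 (iv4 F346136)) (tt N76573 F239354) (tt N23849 (iv6 D78922)) (tt N74937 (iv7 F353819)))
theorem Q46025 : ∀ i, i < 46025 → P i := stepQ 46024 Q46024 (allL N46024 (tt N45185 F337872) (tt N63761 (iv0 F337873)) (tt N74949 (iv2 F337878)) (tt N23850 (iv3 D78924)) (tt N79919 D164323) (tt N74475 (iv5 F319879)) (tt N74942 (iv6 F337877)) (tt N62819 (iv7 F337881)))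
theorem Q46026 : ∀ i, i < 46026 → P i := stepQ 46025 Q46025 (allL N46025 (tt N79920 D164330) (tt N76620 (iv0 F362421)) (tt N79911 (iv2 F323423)) (tt N74942 (iv3 F337876)) (tt N70493 (iv4 F337849)) (tt N74476 (iv5 F319882)) (tt N23850 (iv6 D78927)) (tt N74940 (iv7 F362049)))
theorem Q46027 : ∀ i, i < 46027 → P i := stepQ 46026 Q46026 (allL N46026 (tt N43850 F319015) (tt N23851 (iv0 D78928)) (tt N67095 (iv2 F321130)) (tt N61038 (iv3 F347676)) (tt N56148 (iv4 F321132)) (tt N79921 D164337) (tt N79922 D164338) (tt N61057 (iv7 F347675)))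
theorem Q46028 : ∀ i, i < 46028 → P i := stepQ 46027 Q46027 (allL N46027 (tt N23851 (iv1 D78929)) (tt N43850 F319014) (tt N61057 (iv2 F347671)) (tt N76263 (iv3 F355081)) (tt N56149 (iv4 F321128)) (tt N79923 D164342) (tt N62728 (iv6 F321129)) (tt N67095 (iv7 F321131)))
theorem Q46029 : ∀ i, i < 46029 → P i := stepQ 46028 Q46028 (allL N46028 (tt N61057 (iv1 F347670)) (tt N67095 F319010) (tt N43850 F319011) (tt N23863 F120115) (tt N43842 F319012) (tt N23852 F120116) (tt N74792 F319013) (tt N23851 (iv7 D78930)))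
theorem Q46030 : ∀ i, i < 46030 → P i := stepQ 46029 Q46029 (allL N46029 (tt N79924 D164344) (tt N79925 D164345) (tt N34082 F120117) (tt N32676 F120118) (tt N61351 (iv4 F178663)) (tt N79926 D164346) (tt N23853 (iv6 D78931)) (tt N79927 D164347))
theorem Q46031 : ∀ i, i < 46031 → P i := stepQ 46030 Q46030 (allL N46030 (tt N32133 F120121) (tt N32138 F120122) (tt N32135 F120119) (tt N55763 (iv3 F161587)) (tt N79928 D164348) (tt N23854 (iv5 D78932)) (tt N79926 (iv6 F259004)) (tt N32134 F120120))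
theorem Q46032 : ∀ i, i < 46032 → P i := stepQ 46031 Q46031 (allL N46031 (tt N46643 F311471) (tt N23855 (iv0 D78938)) (tt N56306 (iv2 F290273)) (tt N63761 (iv3 F317055)) (tt N42640 (iv4 F290275)) (tt N56306 (iv5 F290276)) (tt N56304 (iv6 F290277)) (tt N42639 (iv7 F290278)))
theorem Q46033 : ∀ i, i < 46033 → P i := stepQ 46032 Q46032 (allL N46032 (tt N56306 (iv1 F290266)) (tt N42639 (iv0 F290267)) (tt N23855 (iv2 D78940)) (tt N23861 (iv3 F290493)) (tt N46566 F313086) (tt N75613 (iv5 F317897)) (tt N62381 (iv6 F324159)) (tt N46643 F313087))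
theorem Q46034 : ∀ i, i < 46034 → P i := stepQ 46033 Q46033 (allL N46033 (tt N46636 (iv1 F313106)) (tt N24316 (iv0 F311464)) (tt N75613 (iv2 F317895)) (tt N23856 F120129) (tt N46647 F310852) (tt N23855 (iv5 D78942)) (tt N73975 (iv6 F315705)) (tt N61073 (iv7 F177910)))
theorem Q46035 : ∀ i, i < 46035 → P i := stepQ 46034 Q46034 (allL N46034 (tt N23859 (iv1 F120136)) (tt N23856 (iv0 D78945)) (tt N61067 F177883) (tt N79929 D164373) (tt N79930 D164374) (tt N45044 F120132) (tt N79931 D164375) (tt N61068 (iv7 F177886)))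
theorem Q46036 : ∀ i, i < 46036 → P i := stepQ 46035 Q46035 (allL N46035 (tt N23856 (iv1 D78946)) (tt N23859 F120133) (tt N61068 F177887) (tt N74477 (iv3 F346173)) (tt N52019 (iv4 F346176)) (tt N61113 F178020) (tt N52017 (iv6 F346182)) (tt N61067 F177884))
theorem Q46037 : ∀ i, i < 46037 → P i := stepQ 46036 Q46036 (allL N46036 (tt N79932 D164378) (tt N79933 D164379) (tt N61069 (iv2 F177888)) (tt N79934 D164380) (tt N23856 (iv4 D78947)) (tt N79935 D164381) (tt N66541 (iv6 F352675)) (tt N61075 (iv7 F177913)))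
theorem Q46038 : ∀ i, i < 46038 → P i := stepQ 46037 Q46037 (allL N46037 (tt N79936 D164383) (tt N79937 D164384) (tt N61070 (iv2 F177890)) (tt N73975 (iv3 F315704)) (tt N66541 (iv4 F352674)) (tt N61188 (iv5 F178302)) (tt N23856 (iv6 D78948)) (tt N79938 D164385))
theorem Q46039 : ∀ i, i < 46039 → P i := stepQ 46038 Q46038 (allL N46038 (tt N23857 (iv1 D78951)) (tt N61072 F177900) (tt N61071 F177893) (tt N68191 (iv3 F353825)) (tt N32947 (iv4 F161863)) (tt N66771 (iv5 F205414)) (tt N61018 (iv6 F177608)) (tt N32942 F161864))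
theorem Q46040 : ∀ i, i < 46040 → P i := stepQ 46039 Q46039 (allL N46039 (tt N61071 (iv1 F177891)) (tt N32942 F161760) (tt N61072 (iv2 F177896)) (tt N62382 (iv3 F324166)) (tt N56342 F163450) (tt N36393 F161682) (tt N56333 F163435) (tt N23857 (iv7 D78952)))
theorem Q46041 : ∀ i, i < 46041 → P i := stepQ 46040 Q46040 (allL N46040 (tt N32902 (iv1 F290519)) (tt N52406 (iv0 F290520)) (tt N52404 F290511) (tt N61016 (iv3 F177601)) (tt N23858 (iv4 D78957)) (tt N79939 D164402) (tt N79940 D164403) (tt N52403 F290512))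
theorem Q46042 : ∀ i, i < 46042 → P i := stepQ 46041 Q46041 (allL N46041 (tt N60985 (iv1 F290522)) (tt N78898 (iv0 F290523)) (tt N32663 F290513) (tt N23859 F120138) (tt N32692 (iv4 F290524)) (tt N23858 (iv5 D78958)) (tt N29565 (iv6 F290525)) (tt N61065 (iv7 F177767)))
theorem Q46043 : ∀ i, i < 46043 → P i := stepQ 46042 Q46042 (allL N46042 (tt N79941 D164408) (tt N79942 D164409) (tt N61077 F290514) (tt N23860 F120139) (tt N79940 (iv4 F259046)) (tt N79943 D164410) (tt N23858 (iv6 D78959)) (tt N79944 D164411))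
theorem Q46044 : ∀ i, i < 46044 → P i := stepQ 46043 Q46043 (allL N46043 (tt N79933 (iv1 F259030)) (tt N79932 F259029) (tt N61075 (iv2 F177912)) (tt N79945 D164412) (tt N23859 (iv4 D78960)) (tt N79946 D164413) (tt N52199 (iv6 F259053)) (tt N61069 (iv7 F177889)))
theorem Q46045 : ∀ i, i < 46045 → P i := stepQ 46044 Q46044 (allL N46044 (tt N56179 F206696) (tt N45000 (iv0 F120140)) (tt N56178 F163141) (tt N29565 F290534) (tt N52199 F259054) (tt N79947 D164414) (tt N23859 (iv6 D78961)) (tt N32664 (iv7 F290536)))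
theorem Q46046 : ∀ i, i < 46046 → P i := stepQ 46045 Q46045 (allL N46045 (tt N56333 (iv1 F163439)) (tt N23860 (iv0 D78962)) (tt N56334 (iv2 F163441)) (tt N79920 (iv3 F334823)) (tt N61521 (iv4 F178973)) (tt N29998 F120141) (tt N56344 (iv6 F163454)) (tt N29845 F163473))
theorem Q46047 : ∀ i, i < 46047 → P i := stepQ 46046 Q46046 (allL N46046 (tt N45069 (iv1 F193524)) (tt N45066 (iv0 F120142)) (tt N61076 (iv2 F177914)) (tt N79943 (iv3 F259049)) (tt N79948 D164416) (tt N23860 (iv5 D78964)) (tt N79947 (iv6 F259057)) (tt N79949 D164417))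
theorem Q46048 : ∀ i, i < 46048 → P i := stepQ 46047 Q46047 (allL N46047 (tt N29845 F177672) (tt N56334 F177673) (tt N56333 F163437) (tt N79944 (iv3 F259050)) (tt N61020 (iv4 F177669)) (tt N79949 (iv5 F259063)) (tt N61072 (iv6 F177899)) (tt N23860 (iv7 D78965)))
theorem Q46049 : ∀ i, i < 46049 → P i := stepQ 46048 Q46048 (allL N46048 (tt N52406 F149566) (tt N32902 F178264) (tt N52403 F178260) (tt N79950 D164424) (tt N23861 (iv4 D78968)) (tt N79951 D164425) (tt N79952 D164426) (tt N52404 (iv7 F178259)))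
theorem Q46050 : ∀ i, i < 46050 → P i := stepQ 46049 Q46049 (allL N46049 (tt N78898 (iv1 F251286)) (tt N60985 (iv0 F177668)) (tt N61065 (iv2 F290507)) (tt N75613 (iv3 F317896)) (tt N61022 (iv4 F177679)) (tt N23861 (iv5 D78969)) (tt N78928 F251398) (tt N32663 F178256))
theorem Q46051 : ∀ i, i < 46051 → P i := stepQ 46050 Q46050 (allL N46050 (tt N78846 (iv1 F353127)) (tt N79953 D164428) (tt N61066 (iv2 F290510)) (tt N62381 (iv3 F324158)) (tt N79952 (iv4 F259074)) (tt N61666 F179202) (tt N23861 (iv6 D78970)) (tt N73593 (iv7 F366044)))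
theorem Q46052 : ∀ i, i < 46052 → P i := stepQ 46051 Q46051 (allL N46051 (tt N61081 (iv1 F177937)) (tt N23862 (iv0 D78976)) (tt N61078 (iv2 F177934)) (tt N79954 D164443) (tt N34696 F177935) (tt N79955 D164444) (tt N79956 D164445) (tt N61079 F177936))
theorem Q46053 : ∀ i, i < 46053 → P i := stepQ 46052 Q46052 (allL N46052 (tt N23862 (iv1 D78977)) (tt N61081 F177931) (tt N61079 F177922) (tt N79957 D164446) (tt N34697 F136678) (tt N79958 D164447) (tt N79959 D164448) (tt N61078 (iv7 F177932)))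
theorem Q46054 : ∀ i, i < 46054 → P i := stepQ 46053 Q46053 (allL N46053 (tt N79960 D164449) (tt N79961 D164450) (tt N61080 (iv2 F177923)) (tt N27836 F120148) (tt N79025 (iv4 F251893)) (tt N23862 (iv5 D78978)) (tt N27833 F120149) (tt N79023 F251889))
theorem Q46055 : ∀ i, i < 46055 → P i := stepQ 46054 Q46054 (allL N46054 (tt N61079 (iv1 F177920)) (tt N61078 F177930) (tt N61081 (iv2 F177927)) (tt N27837 F120150) (tt N23863 F120151) (tt N79023 (iv5 F251887)) (tt N51947 (iv6 F147494)) (tt N23862 (iv7 D78979)))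
theorem Q46056 : ∀ i, i < 46056 → P i := stepQ 46055 Q46055 (allL N46055 (tt N50739 (iv1 F142187)) (tt N50738 F142194) (tt N50741 (iv2 F142190)) (tt N74792 (iv3 F317457)) (tt N51947 (iv4 F147493)) (tt N50730 (iv5 F142170)) (tt N23863 (iv6 D78980)) (tt N23870 F120152))
theorem Q46057 : ∀ i, i < 46057 → P i := stepQ 46056 Q46056 (allL N46056 (tt N68112 (iv1 F340443)) (tt N79962 D164452) (tt N52196 (iv2 F147994)) (tt N75242 (iv3 F230848)) (tt N23865 F120153) (tt N79963 D164453) (tt N23864 (iv6 D78981)) (tt N79964 D164454))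
theorem Q46058 : ∀ i, i < 46058 → P i := stepQ 46057 Q46057 (allL N46057 (tt N60992 (iv1 F177531)) (tt N23865 (iv0 D78982)) (tt N60990 (iv2 F288177)) (tt N79897 (iv3 F283775)) (tt N79965 D164457) (tt N79966 D164458) (tt N79936 F259037) (tt N60991 (iv7 F288175)))
theorem Q46059 : ∀ i, i < 46059 → P i := stepQ 46058 Q46058 (allL N46058 (tt N23865 (iv1 D78983)) (tt N60992 F177530) (tt N60991 (iv2 F288173)) (tt N79925 F258975) (tt N27861 F258976) (tt N79967 D164460) (tt N79968 D164461) (tt N60990 (iv7 F288178)))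
theorem Q46060 : ∀ i, i < 46060 → P i := stepQ 46059 Q46059 (allL N46059 (tt N60991 (iv1 F177524)) (tt N60990 F177529) (tt N60992 (iv2 F177525)) (tt N75267 (iv3 F230928)) (tt N79964 (iv4 F259098)) (tt N60278 (iv5 F176099)) (tt N61083 (iv6 F177943)) (tt N23865 (iv7 D78984)))
theorem Q46061 : ∀ i, i < 46061 → P i := stepQ 46060 Q46060 (allL N46060 (tt N37553 F120158) (tt N37553 F120159) (tt N42589 F120154) (tt N23866 (iv3 D78985)) (tt N42488 F120155) (tt N27598 F120156) (tt N65196 (iv6 F199527)) (tt N42589 F120157))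
theorem Q46062 : ∀ i, i < 46062 → P i := stepQ 46061 Q46061 (allL N46061 (tt N79969 D164462) (tt N79970 D164463) (tt N29839 F120160) (tt N65196 (iv3 F199526)) (tt N23867 F120161) (tt N79971 D164464) (tt N23866 (iv6 D78986)) (tt N79972 D164465))
theorem Q46063 : ∀ i, i < 46063 → P i := stepQ 46062 Q46062 (allL N46062 (tt N29842 (iv1 F120166)) (tt N23867 (iv0 D78987)) (tt N29840 F323400) (tt N76615 (iv3 F336467)) (tt N79973 D164468) (tt N79974 D164469) (tt N79942 (iv6 F398532)) (tt N29841 (iv7 F324741)))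
theorem Q46064 : ∀ i, i < 46064 → P i := stepQ 46063 Q46063 (allL N46063 (tt N23867 (iv1 D78988)) (tt N29842 F120162) (tt N29841 (iv2 F324740)) (tt N61426 (iv3 F178851)) (tt N29148 F190344) (tt N79975 D164472) (tt N74771 (iv6 F324400)) (tt N29840 F323401))
theorem Q46065 : ∀ i, i < 46065 → P i := stepQ 46064 Q46064 (allL N46064 (tt N78897 F251279) (tt N70029 (iv0 F332611)) (tt N29828 F120163) (tt N56251 (iv3 F163276)) (tt N79976 D164475) (tt N23867 (iv5 D78989)) (tt N29826 F120164) (tt N79977 D164476))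
theorem Q46066 : ∀ i, i < 46066 → P i := stepQ 46065 Q46065 (allL N46065 (tt N29841 (iv1 F120167)) (tt N29840 F120168) (tt N29842 F120165) (tt N56302 (iv3 F163383)) (tt N79972 (iv4 F259121)) (tt N79977 (iv5 F259208)) (tt N61085 (iv6 F177952)) (tt N23867 (iv7 D78990)))
theorem Q46067 : ∀ i, i < 46067 → P i := stepQ 46066 Q46066 (allL N46066 (tt N49543 (iv1 F136806)) (tt N49537 (iv0 F136799)) (tt N26183 (iv2 F306546)) (tt N23868 (iv3 D78991)) (tt N26035 F305473) (tt N28564 F120171) (tt N26043 (iv6 F307503)) (tt N51941 (iv7 F147485)))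
theorem Q46068 : ∀ i, i < 46068 → P i := stepQ 46067 Q46067 (allL N46067 (tt N79973 F259133) (tt N29148 F259134) (tt N51943 (iv2 F147488)) (tt N26043 F309543) (tt N34699 F120172) (tt N28928 (iv5 F311739)) (tt N23868 (iv6 D78992)) (tt N28927 (iv7 F311740)))
theorem Q46069 : ∀ i, i < 46069 → P i := stepQ 46068 Q46068 (allL N46068 (tt N55123 (iv1 F350555)) (tt N55208 (iv0 F350564)) (tt N51942 (iv2 F147487)) (tt N51906 (iv3 F147436)) (tt N34700 F120173) (tt N41170 F296440) (tt N23869 (iv6 D78993)) (tt N55207 (iv7 F350575)))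
theorem Q46070 : ∀ i, i < 46070 → P i := stepQ 46069 Q46069 (allL N46069 (tt N50741 (iv1 F142198)) (tt N23870 (iv0 D78994)) (tt N50738 (iv2 F161698)) (tt N56303 (iv3 F331573)) (tt N79037 (iv4 F251958)) (tt N79978 D164484) (tt N73778 (iv6 F331577)) (tt N50739 (iv7 F161700)))
theorem Q46071 : ∀ i, i < 46071 → P i := stepQ 46070 Q46070 (allL N46070 (tt N51738 F147129) (tt N53250 (iv0 F153204)) (tt N43733 F120174) (tt N23871 (iv3 D78996)) (tt N43731 F120175) (tt N27827 F120176) (tt N79979 D164486) (tt N46115 (iv7 F120353)))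
theorem Q46072 : ∀ i, i < 46072 → P i := stepQ 46071 Q46071 (allL N46071 (tt N79965 (iv1 F259106)) (tt N27861 F258977) (tt N51937 (iv2 F147474)) (tt N79979 (iv3 F259226)) (tt N23872 F120179) (tt N79980 D164487) (tt N23871 (iv6 D78997)) (tt N79981 D164488))
theorem Q46073 : ∀ i, i < 46073 → P i := stepQ 46072 Q46072 (allL N46072 (tt N61088 (iv1 F177963)) (tt N23872 (iv0 D78998)) (tt N61086 (iv2 F352654)) (tt N79982 D164490) (tt N69499 (iv4 F352663)) (tt N79983 D164492) (tt N79984 D164493) (tt N61087 (iv7 F352661)))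
theorem Q46074 : ∀ i, i < 46074 → P i := stepQ 46073 Q46073 (allL N46073 (tt N23872 (iv1 D78999)) (tt N61088 F177962) (tt N61087 (iv2 F352660)) (tt N75790 (iv3 F259264)) (tt N79985 D164496) (tt N68392 (iv5 F210050)) (tt N79986 D164497) (tt N61086 (iv7 F352657)))
theorem Q46075 : ∀ i, i < 46075 → P i := stepQ 46074 Q46074 (allL N46074 (tt N61087 (iv1 F177956)) (tt N61086 F177961) (tt N61088 (iv2 F177957)) (tt N45099 F120180) (tt N79981 (iv4 F259230)) (tt N60252 (iv5 F176001)) (tt N46119 (iv6 F120362)) (tt N23872 (iv7 D79000)))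
theorem Q46076 : ∀ i, i < 46076 → P i := stepQ 46075 Q46075 (allL N46075 (tt N63301 (iv1 F290484)) (tt N79987 D164499) (tt N32816 F120181) (tt N42261 F321305) (tt N42262 F321306) (tt N79988 D164500) (tt N23873 (iv6 D79001)) (tt N79989 D164501))
theorem Q46077 : ∀ i, i < 46077 → P i := stepQ 46076 Q46076 (allL N46076 (tt N76379 (iv1 F338523)) (tt N76314 (iv0 F330348)) (tt N43169 F120182) (tt N32791 F120183) (tt N40810 F314385) (tt N74487 (iv5 F316732)) (tt N23874 (iv6 D79002)) (tt N41378 (iv7 F316735)))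
theorem Q46078 : ∀ i, i < 46078 → P i := stepQ 46077 Q46077 (allL N46077 (tt N43145 F298367) (tt N66877 (iv0 F205972)) (tt N36549 F120184) (tt N23875 (iv3 D79003)) (tt N27804 F120185) (tt N36548 F120186) (tt N79990 D164506) (tt N43254 F120187))
theorem Q46079 : ∀ i, i < 46079 → P i := stepQ 46078 Q46078 (allL N46078 (tt N46979 F327803) (tt N46995 F327804) (tt N43255 F120188) (tt N79990 (iv3 F259255)) (tt N23876 F120189) (tt N79991 D164507) (tt N23875 (iv6 D79004)) (tt N46994 F327800))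
theorem Q46080 : ∀ i, i < 46080 → P i := stepQ 46079 Q46079 (allL N46079 (tt N61758 (iv1 F329178)) (tt N23876 (iv0 D79005)) (tt N64032 (iv2 F259273)) (tt N79992 D164510) (tt N76633 (iv4 F283772)) (tt N79993 D164512) (tt N77635 (iv6 F355585)) (tt N64033 (iv7 F259271)))
theorem Q46081 : ∀ i, i < 46081 → P i := stepQ 46080 Q46080 (allL N46080 (tt N23876 (iv1 D79006)) (tt N61758 (iv0 F329177)) (tt N64033 F259272) (tt N34398 F259276) (tt N76634 F259277) (tt N79994 D164514) (tt N79995 D164515) (tt N64032 (iv7 F259274)))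
theorem Q46082 : ∀ i, i < 46082 → P i := stepQ 46081 Q46081 (allL N46081 (tt N64033 (iv1 F192330)) (tt N64032 F192337) (tt N61758 (iv2 F329179)) (tt N61088 (iv3 F177958)) (tt N46994 F327798) (tt N69488 (iv5 F214510)) (tt N33010 F328860) (tt N23876 (iv7 D79007)))
theorem Q46083 : ∀ i, i < 46083 → P i := stepQ 46082 Q46082 (allL N46082 (tt N37569 F305058) (tt N37609 F305059) (tt N37607 (iv2 F305272)) (tt N23877 (iv3 D79008)) (tt N29774 F120190) (tt N78541 (iv5 F249068)) (tt N78594 (iv6 F300207)) (tt N37606 (iv7 F305276)))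
theorem Q46084 : ∀ i, i < 46084 → P i := stepQ 46083 Q46083 (allL N46083 (tt N43210 F191322) (tt N43212 F191323) (tt N43295 F120192) (tt N78594 (iv3 F300206)) (tt N29767 F120193) (tt N71500 (iv5 F347049)) (tt N23877 (iv6 D79009)) (tt N43331 F191281))
theorem Q46085 : ∀ i, i < 46085 → P i := stepQ 46084 Q46084 (allL N46084 (tt N43310 (iv1 F120201)) (tt N23879 (iv0 D79011)) (tt N43307 (iv2 F234039)) (tt N79996 D164520) (tt N42761 (iv4 F155530)) (tt N79997 D164521) (tt N72408 (iv6 F309291)) (tt N43308 F234038))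
theorem Q46086 : ∀ i, i < 46086 → P i := stepQ 46085 Q46085 (allL N46085 (tt N23879 (iv1 D79012)) (tt N43310 F120196) (tt N43308 F234036) (tt N46381 F236164) (tt N42762 (iv4 F205749)) (tt N79998 D164523) (tt N79999 D164524) (tt N43307 (iv7 F234037)))
theorem Q46087 : ∀ i, i < 46087 → P i := stepQ 46086 Q46086 (allL N46086 (tt N54305 (iv1 F339373)) (tt N54315 (iv0 F339374)) (tt N43309 F120197) (tt N47350 (iv3 F128694)) (tt N80000 D164527) (tt N23879 (iv5 D79013)) (tt N47347 (iv6 F128692)) (tt N54313 (iv7 F321175)))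
theorem Q46088 : ∀ i, i < 46088 → P i := stepQ 46087 Q46087 (allL N46087 (tt N43308 (iv1 F120202)) (tt N43307 F120203) (tt N43310 F120198) (tt N47351 (iv3 F128696)) (tt N23881 F120199) (tt N54313 (iv5 F321174)) (tt N43298 F120200) (tt N23879 (iv7 D79014)))
theorem Q46089 : ∀ i, i < 46089 → P i := stepQ 46088 Q46088 (allL N46088 (tt N43321 (iv1 F155092)) (tt N33938 (iv0 F155568)) (tt N34447 (iv2 F131000)) (tt N77616 (iv3 F304782)) (tt N23880 (iv4 D79017)) (tt N80001 D164529) (tt N72314 (iv6 F311900)) (tt N43311 F130999))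
theorem Q46090 : ∀ i, i < 46090 → P i := stepQ 46089 Q46089 (allL N46089 (tt N43979 F120205) (tt N44588 F130996) (tt N34448 (iv2 F130994)) (tt N43077 (iv3 F232529)) (tt N52938 (iv4 F319955)) (tt N23880 (iv5 D79018)) (tt N64638 (iv6 F311962)) (tt N43312 F130993))
theorem Q46091 : ∀ i, i < 46091 → P i := stepQ 46090 Q46090 (allL N46090 (tt N60356 (iv1 F329173)) (tt N30735 (iv0 F329174)) (tt N30454 F328841) (tt N36533 F120210) (tt N23883 F120211) (tt N30432 (iv5 F329175)) (tt N23882 (iv6 D79025)) (tt N30462 (iv7 F329176)))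
theorem Q46092 : ∀ i, i < 46092 → P i := stepQ 46091 Q46091 (allL N46091 (tt N69311 (iv1 F312339)) (tt N46371 (iv0 F130931)) (tt N47332 (iv2 F128678)) (tt N23887 F120217) (tt N76910 (iv4 F240745)) (tt N45853 F323679) (tt N23885 (iv6 D79031)) (tt N79372 F255133))
theorem Q46093 : ∀ i, i < 46093 → P i := stepQ 46092 Q46092 (allL N46092 (tt N47274 (iv1 F272357)) (tt N80002 D164553) (tt N34212 F120218) (tt N47330 (iv3 F128674)) (tt N77594 (iv4 F243921)) (tt N80003 D164554) (tt N23886 (iv6 D79032)) (tt N67046 (iv7 F307719)))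
theorem Q46094 : ∀ i, i < 46094 → P i := stepQ 46093 Q46093 (allL N46093 (tt N43298 (iv1 F120224)) (tt N23887 (iv0 D79033)) (tt N37590 F314757) (tt N47271 (iv3 F234132)) (tt N75806 (iv4 F234128)) (tt N80004 D164556) (tt N80005 D164557) (tt N43296 F233818))
theorem Q46095 : ∀ i, i < 46095 → P i := stepQ 46094 Q46094 (allL N46094 (tt N23887 (iv1 D79034)) (tt N43298 F120219) (tt N43296 F233816) (tt N37566 F312172) (tt N42827 F130919) (tt N80006 D164559) (tt N71613 (iv6 F331942)) (tt N37590 (iv7 F312362)))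
theorem Q46096 : ∀ i, i < 46096 → P i := stepQ 46095 Q46095 (allL N46095 (tt N80007 D164560) (tt N80008 D164561) (tt N43297 F120220) (tt N45853 F323678) (tt N80009 D164562) (tt N23887 (iv5 D79035)) (tt N80003 (iv6 F259374)) (tt N80010 D164563))
theorem Q46097 : ∀ i, i < 46097 → P i := stepQ 46096 Q46096 (allL N46096 (tt N43296 (iv1 F120225)) (tt N37590 F314755) (tt N43298 F120221) (tt N79372 (iv3 F255131)) (tt N23890 F120222) (tt N80010 (iv5 F259400)) (tt N43310 F120223) (tt N23887 (iv7 D79036)))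
theorem Q46098 : ∀ i, i < 46098 → P i := stepQ 46097 Q46097 (allL N46097 (tt N24599 F155359) (tt N43319 (iv0 F155360)) (tt N34555 (iv2 F130879)) (tt N72314 (iv3 F311898)) (tt N23888 (iv4 D79042)) (tt N80011 D164564) (tt N77616 (iv6 F244021)) (tt N43299 F120237))
theorem Q46099 : ∀ i, i < 46099 → P i := stepQ 46098 Q46098 (allL N46098 (tt N23889 (iv1 D79045)) (tt N41813 F120251) (tt N25133 F199912) (tt N43086 (iv3 F232481)) (tt N80012 D164565) (tt N25125 F199914) (tt N40820 F320609) (tt N41812 (iv7 F199959)))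
theorem Q46100 : ∀ i, i < 46100 → P i := stepQ 46099 Q46099 (allL N46099 (tt N80013 D164567) (tt N80014 D164568) (tt N41811 F120252) (tt N80015 D164569) (tt N23889 (iv4 D79046)) (tt N80016 D164570) (tt N23891 F120253) (tt N80017 D164571))
theorem Q46101 : ∀ i, i < 46101 → P i := stepQ 46100 Q46100 (allL N46100 (tt N25133 F199949) (tt N41812 F120259) (tt N41813 F120254) (tt N41972 F120255) (tt N80017 (iv4 F259424)) (tt N23890 F120256) (tt N74386 (iv6 F227686)) (tt N23889 (iv7 D79047)))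
theorem Q46102 : ∀ i, i < 46102 → P i := stepQ 46101 Q46101 (allL N46101 (tt N69829 (iv1 F341465)) (tt N80018 D164573) (tt N80019 D164574) (tt N23891 (iv3 D79048)) (tt N41967 F120260) (tt N80020 D164575) (tt N80015 (iv6 F259421)) (tt N71809 (iv7 F328578)))
theorem Q46103 : ∀ i, i < 46103 → P i := stepQ 46102 Q46102 (allL N46102 (tt N62896 (iv1 F184070)) (tt N62899 (iv0 F184076)) (tt N39566 F328181) (tt N80020 (iv3 F259450)) (tt N57237 F328182) (tt N23891 (iv5 D79049)) (tt N39142 (iv6 F328573)) (tt N39268 F328183))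
theorem Q46104 : ∀ i, i < 46104 → P i := stepQ 46103 Q46103 (allL N46103 (tt N63654 (iv1 F188591)) (tt N37954 (iv0 F312459)) (tt N63517 (iv2 F187786)) (tt N63627 (iv3 F188521)) (tt N36925 (iv4 F313660)) (tt N23892 (iv5 D79053)) (tt N69579 (iv6 F214953)) (tt N63652 (iv7 F188579)))
theorem Q46105 : ∀ i, i < 46105 → P i := stepQ 46104 Q46104 (allL N46104 (tt N35043 (iv1 F120269)) (tt N23893 (iv0 D79066)) (tt N27280 (iv2 F120268)) (tt N37476 (iv3 F308222)) (tt N34913 F120267) (tt N42646 (iv5 F120271)) (tt N77670 F307762) (tt N35040 F120270))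
theorem Q46106 : ∀ i, i < 46106 → P i := stepQ 46105 Q46105 (allL N46105 (tt N27280 (iv1 F120276)) (tt N35040 F120275) (tt N23893 (iv2 D79067)) (tt N42698 F120272) (tt N64428 (iv4 F197037)) (tt N42238 F307612) (tt N68273 F307613) (tt N35043 F120274))
theorem Q46107 : ∀ i, i < 46107 → P i := stepQ 46106 Q46106 (allL N46106 (tt N47686 F129486) (tt N24532 (iv0 F120306)) (tt N63583 (iv2 F188193)) (tt N24528 F120305) (tt N23894 (iv4 D79079)) (tt N45551 (iv5 F120307)) (tt N80021 D164598) (tt N24693 (iv7 F120308)))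
theorem Q46108 : ∀ i, i < 46108 → P i := stepQ 46107 Q46107 (allL N46107 (tt N33717 F307883) (tt N33661 (iv0 F123202)) (tt N33718 (iv2 F308139)) (tt N51992 F147547) (tt N35007 F120313) (tt N23894 (iv5 D79080)) (tt N33713 (iv6 F309893)) (tt N33696 (iv7 F308215)))
theorem Q46109 : ∀ i, i < 46109 → P i := stepQ 46108 Q46108 (allL N46108 (tt N63832 (iv1 F331878)) (tt N44480 (iv0 F331876)) (tt N63833 (iv2 F309656)) (tt N53330 (iv3 F153353)) (tt N80021 (iv4 F259516)) (tt N73659 (iv5 F340837)) (tt N23894 (iv6 D79081)) (tt N63826 (iv7 F340839)))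
theorem Q46110 : ∀ i, i < 46110 → P i := stepQ 46109 Q46109 (allL N46109 (tt N24532 F127750) (tt N47686 (iv0 F129484)) (tt N24693 F120314) (tt N24738 F120316) (tt N23895 (iv4 D79083)) (tt N43177 F120315) (tt N37475 (iv6 F310774)) (tt N63583 (iv7 F188196)))
theorem Q46111 : ∀ i, i < 46111 → P i := stepQ 46110 Q46110 (allL N46110 (tt N41815 F120332) (tt N37490 F308973) (tt N41043 F308974) (tt N25131 F199941) (tt N37529 F308975) (tt N33795 F120330) (tt N23898 (iv6 D79094)) (tt N42257 (iv7 F120331)))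
theorem Q46112 : ∀ i, i < 46112 → P i := stepQ 46111 Q46111 (allL N46111 (tt N33593 F120338) (tt N37534 (iv0 F120339)) (tt N29721 F120333) (tt N23900 (iv3 D79095)) (tt N32514 F120334) (tt N45322 F120335) (tt N29718 F120336) (tt N32516 F120337))
theorem Q46113 : ∀ i, i < 46113 → P i := stepQ 46112 Q46112 (allL N46112 (tt N45026 F120343) (tt N45021 (iv0 F120344)) (tt N34063 F120340) (tt N23902 (iv3 D79096)) (tt N61025 (iv4 F177692)) (tt N27235 F120341) (tt N80022 D164614) (tt N42731 F120342))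
theorem Q46114 : ∀ i, i < 46114 → P i := stepQ 46113 Q46113 (allL N46113 (tt N64190 F193554) (tt N43053 F338508) (tt N42730 F120345) (tt N80022 (iv3 F259535)) (tt N52194 (iv4 F147991)) (tt N29963 F120346) (tt N23902 (iv6 D79097)) (tt N80023 D164616))
theorem Q46115 : ∀ i, i < 46115 → P i := stepQ 46114 Q46114 (allL N46114 (tt N80024 D164617) (tt N80025 D164618) (tt N42732 F120347) (tt N36326 F314414) (tt N27304 F120349) (tt N44960 F120350) (tt N23903 (iv6 D79098)) (tt N79061 (iv7 F316763)))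
theorem Q46116 : ∀ i, i < 46116 → P i := stepQ 46115 Q46115 (allL N46115 (tt N28574 F120354) (tt N28566 (iv0 F120355)) (tt N52488 (iv2 F149783)) (tt N23904 (iv3 D79099)) (tt N43039 F120351) (tt N27465 F120352) (tt N80026 D164620) (tt N46070 F120353))
theorem Q46117 : ∀ i, i < 46117 → P i := stepQ 46116 Q46116 (allL N46116 (tt N80027 D164621) (tt N27507 F347579) (tt N42733 F120356) (tt N80026 (iv3 F259563)) (tt N23905 F120357) (tt N80028 D164623) (tt N23904 (iv6 D79100)) (tt N80029 D164624))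
theorem Q46118 : ∀ i, i < 46118 → P i := stepQ 46117 Q46117 (allL N46117 (tt N42736 (iv1 F120363)) (tt N23905 (iv0 D79101)) (tt N42734 (iv2 F193502)) (tt N80030 D164625) (tt N78889 (iv4 F336923)) (tt N61696 (iv5 F333511)) (tt N80031 D164628) (tt N42735 F193501))
theorem Q46119 : ∀ i, i < 46119 → P i := stepQ 46118 Q46118 (allL N46118 (tt N23905 (iv1 D79102)) (tt N42736 F120358) (tt N42735 F193499) (tt N78935 (iv3 F336822)) (tt N78890 (iv4 F336918)) (tt N32564 (iv5 F120359)) (tt N64185 F193533) (tt N42734 (iv7 F193500)))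
theorem Q46120 : ∀ i, i < 46120 → P i := stepQ 46119 Q46119 (allL N46119 (tt N42735 (iv1 F120364)) (tt N42734 F120365) (tt N42736 F120360) (tt N43042 F120361) (tt N80029 (iv4 F259569)) (tt N60836 (iv5 F177007)) (tt N46074 F120362) (tt N23905 (iv7 D79103)))
theorem Q46121 : ∀ i, i < 46121 → P i := stepQ 46120 Q46120 (allL N46120 (tt N31106 F324834) (tt N31068 F324835) (tt N44723 F120394) (tt N34821 F297981) (tt N45523 F120396) (tt N44382 F324836) (tt N23909 (iv6 D79111)) (tt N44837 (iv7 F299469)))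
theorem Q46122 : ∀ i, i < 46122 → P i := stepQ 46121 Q46121 (allL N46121 (tt N31068 F324831) (tt N31106 F324832) (tt N44837 F120436) (tt N44728 F297976) (tt N45511 F120437) (tt N31983 F324833) (tt N23912 (iv6 D79151)) (tt N44723 (iv7 F299472)))
theorem Q46123 : ∀ i, i < 46123 → P i := stepQ 46122 Q46122 (allL N46122 (tt N64146 F193294) (tt N47803 F337543) (tt N60643 (iv2 F327281)) (tt N23915 (iv3 D79200)) (tt N46289 (iv4 F122723)) (tt N38150 (iv5 F322444)) (tt N60632 (iv6 F323172)) (tt N38149 F320968))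
theorem Q46124 : ∀ i, i < 46124 → P i := stepQ 46123 Q46123 (allL N46123 (tt N46161 (iv1 F122326)) (tt N23916 (iv0 D79206)) (tt N46160 (iv2 F254233)) (tt N80032 D164841) (tt N71042 (iv4 F359859)) (tt N67651 (iv5 F336560)) (tt N71040 (iv6 F336557)) (tt N46159 F254234))
theorem Q46125 : ∀ i, i < 46125 → P i := stepQ 46124 Q46124 (allL N46124 (tt N23916 (iv1 D79207)) (tt N46161 F122328) (tt N46159 F254232) (tt N64140 F254183) (tt N47651 (iv4 F129387)) (tt N67588 (iv5 F336577)) (tt N68590 (iv6 F336542)) (tt N46160 (iv7 F254231)))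
theorem Q46126 : ∀ i, i < 46126 → P i := stepQ 46125 Q46125 (allL N46125 (tt N46160 (iv1 F122327)) (tt N46159 F122324) (tt N23916 (iv2 D79208)) (tt N46157 (iv3 F122261)) (tt N78500 (iv4 F248995)) (tt N67913 (iv5 F323645)) (tt N42134 F336336) (tt N46161 (iv7 F122325)))
theorem Q46127 : ∀ i, i < 46127 → P i := stepQ 46126 Q46126 (allL N46126 (tt N31991 F326514) (tt N23917 (iv0 D79268)) (tt N32016 (iv2 F327264)) (tt N80033 D164977) (tt N55620 (iv4 F327265)) (tt N65878 (iv5 F327266)) (tt N64259 (iv6 F350923)) (tt N32015 (iv7 F327263)))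
theorem Q46128 : ∀ i, i < 46128 → P i := stepQ 46127 Q46127 (allL N46127 (tt N32016 F326511) (tt N32015 F326512) (tt N23917 (iv2 D79270)) (tt N23956 F121644) (tt N31994 (iv4 F326767)) (tt N37119 (iv5 F324734)) (tt N58790 (iv6 F326950)) (tt N31991 F326513))
theorem Q46129 : ∀ i, i < 46129 → P i := stepQ 46128 Q46128 (allL N46128 (tt N23918 (iv1 D79279)) (tt N34998 F121673) (tt N34996 (iv2 F121674)) (tt N53549 (iv3 F153996)) (tt N35055 (iv4 F121669)) (tt N37570 (iv5 F305057)) (tt N25267 (iv6 F305586)) (tt N34997 (iv7 F121675)))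
theorem Q46130 : ∀ i, i < 46130 → P i := stepQ 46129 Q46129 (allL N46129 (tt N34997 (iv1 F121677)) (tt N34996 F121672) (tt N23918 (iv2 D79280)) (tt N48453 (iv3 F132787)) (tt N34889 F121670) (tt N48452 F132785) (tt N68528 (iv6 F305210)) (tt N34998 F121671))
theorem Q46131 : ∀ i, i < 46131 → P i := stepQ 46130 Q46130 (allL N46130 (tt N23922 (iv1 D79288)) (tt N38319 F309827) (tt N42610 (iv2 F305836)) (tt N80034 D165029) (tt N30515 (iv4 F310705)) (tt N76122 (iv5 F305850)) (tt N42716 (iv6 F305851)) (tt N42611 (iv7 F305834)))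
theorem Q46132 : ∀ i, i < 46132 → P i := stepQ 46131 Q46131 (allL N46131 (tt N42825 (iv1 F305852)) (tt N42828 (iv0 F305853)) (tt N68442 F312026) (tt N23923 F121684) (tt N45226 (iv4 F305413)) (tt N23922 (iv5 D79289)) (tt N45225 F303022) (tt N42612 (iv7 F305854)))
theorem Q46133 : ∀ i, i < 46133 → P i := stepQ 46132 Q46132 (allL N46132 (tt N53549 (iv1 F153999)) (tt N49039 (iv0 F135087)) (tt N63262 (iv2 F186618)) (tt N23924 (iv3 D79325)) (tt N34231 F298718) (tt N53321 (iv5 F153338)) (tt N34229 (iv6 F301377)) (tt N64060 (iv7 F192604)))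
theorem Q46134 : ∀ i, i < 46134 → P i := stepQ 46133 Q46133 (allL N46133 (tt N36604 (iv1 F304758)) (tt N34951 F309732) (tt N36605 F303876) (tt N56125 (iv3 F162803)) (tt N24730 F121917) (tt N24301 (iv5 F311335)) (tt N23925 (iv6 D79327)) (tt N24300 F309733))
theorem Q46135 : ∀ i, i < 46135 → P i := stepQ 46134 Q46134 (allL N46134 (tt N63538 (iv1 F303646)) (tt N52501 (iv0 F149844)) (tt N63659 (iv2 F300856)) (tt N67835 (iv3 F306127)) (tt N23927 (iv4 D79363)) (tt N48756 (iv5 F134281)) (tt N63642 (iv6 F304094)) (tt N63525 (iv7 F300853)))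
theorem Q46136 : ∀ i, i < 46136 → P i := stepQ 46135 Q46135 (allL N46135 (tt N36548 (iv1 F121956)) (tt N36506 (iv0 F121955)) (tt N23929 F121952) (tt N25821 F121953) (tt N23928 (iv4 D79368)) (tt N75937 (iv5 F234644)) (tt N68003 (iv6 F315299)) (tt N36547 F121954))
theorem Q46137 : ∀ i, i < 46137 → P i := stepQ 46136 Q46136 (allL N46136 (tt N25094 (iv1 F304096)) (tt N25109 (iv0 F304097)) (tt N23930 F121958) (tt N25387 F121959) (tt N68003 (iv4 F315298)) (tt N42253 (iv5 F302978)) (tt N23928 (iv6 D79369)) (tt N25089 (iv7 F304099)))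
theorem Q46138 : ∀ i, i < 46138 → P i := stepQ 46137 Q46137 (allL N46137 (tt N36484 F121967) (tt N51905 (iv0 F147435)) (tt N75937 (iv2 F234642)) (tt N24419 F121966) (tt N48751 (iv4 F134273)) (tt N23929 (iv5 D79371)) (tt N80035 D165197) (tt N64061 (iv7 F192668)))
theorem Q46139 : ∀ i, i < 46139 → P i := stepQ 46138 Q46138 (allL N46138 (tt N24763 (iv1 F298723)) (tt N67998 (iv0 F315290)) (tt N68003 (iv2 F315297)) (tt N24420 F121968) (tt N23930 F121969) (tt N37348 (iv5 F315303)) (tt N23929 (iv6 D79372)) (tt N47572 (iv7 F298732)))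
theorem Q46140 : ∀ i, i < 46140 → P i := stepQ 46139 Q46139 (allL N46139 (tt N23930 (iv1 D79375)) (tt N25089 (iv0 F304098)) (tt N25109 (iv2 F304102)) (tt N41815 (iv3 F304103)) (tt N37984 (iv4 F311149)) (tt N41814 (iv5 F304110)) (tt N25117 (iv6 F304111)) (tt N25094 (iv7 F304101)))
theorem Q46141 : ∀ i, i < 46141 → P i := stepQ 46140 Q46140 (allL N46140 (tt N46679 (iv1 F125783)) (tt N28282 F121998) (tt N25418 F121994) (tt N26124 F121995) (tt N23931 (iv4 D79411)) (tt N28246 F121997) (tt N78303 (iv6 F305578)) (tt N28572 F121996))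
theorem Q46142 : ∀ i, i < 46142 → P i := stepQ 46141 Q46141 (allL N46141 (tt N69617 (iv1 F312432)) (tt N48775 (iv0 F312433)) (tt N80036 D165316) (tt N23934 (iv3 D79422)) (tt N80037 D165317) (tt N62930 (iv5 F308180)) (tt N41055 F314875) (tt N77670 F310181))
theorem Q46143 : ∀ i, i < 46143 → P i := stepQ 46142 Q46142 (allL N46142 (tt N47304 (iv1 F306880)) (tt N46369 (iv0 F306881)) (tt N46209 F311072) (tt N47259 F331912) (tt N23934 (iv4 D79423)) (tt N44068 (iv5 F316473)) (tt N37231 (iv6 F308179)) (tt N47302 F311073))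
theorem Q46144 : ∀ i, i < 46144 → P i := stepQ 46143 Q46143 (allL N46143 (tt N46500 F296846) (tt N27583 F122169) (tt N23937 (iv2 D79540)) (tt N29065 F122168) (tt N35312 (iv4 F122175)) (tt N46491 (iv5 F297868)) (tt N48492 (iv6 F297296)) (tt N46490 F296847))
theorem Q46145 : ∀ i, i < 46145 → P i := stepQ 46144 Q46144 (allL N46144 (tt N35316 F122171) (tt N35293 (iv0 F122173)) (tt N35312 F122174) (tt N80038 D165604) (tt N23937 (iv4 D79541)) (tt N80039 D165605) (tt N58846 (iv6 F323185)) (tt N35313 F122170))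
theorem Q46146 : ∀ i, i < 46146 → P i := stepQ 46145 Q46145 (allL N46145 (tt N80040 D165611) (tt N69292 (iv0 F348160)) (tt N80041 D165613) (tt N23938 (iv3 D79546)) (tt N80038 (iv4 F260877)) (tt N78579 (iv5 F320006)) (tt N48327 F302655) (tt N46512 F302656))
theorem Q46147 : ∀ i, i < 46147 → P i := stepQ 46146 Q46146 (allL N46146 (tt N80042 D165633) (tt N70082 (iv0 F340177)) (tt N80043 D165635) (tt N23939 (iv3 D79557)) (tt N55108 (iv4 F331193)) (tt N24454 F320694) (tt N58804 (iv6 F323140)) (tt N46677 F303311))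
theorem Q46148 : ∀ i, i < 46148 → P i := stepQ 46147 Q46147 (allL N46147 (tt N79831 (iv1 F339508)) (tt N80044 D165646) (tt N80045 D165647) (tt N23940 (iv3 D79560)) (tt N80046 D165648) (tt N79406 (iv5 F318543)) (tt N24977 (iv6 F306736)) (tt N65400 F304724))
theorem Q46149 : ∀ i, i < 46149 → P i := stepQ 46148 Q46148 (allL N46148 (tt N48015 F324251) (tt N23941 (iv0 D79563)) (tt N63480 (iv2 F325403)) (tt N80047 D165656) (tt N80048 D165657) (tt N63443 (iv5 F325405)) (tt N58763 (iv6 F342286)) (tt N63483 (iv7 F325400)))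
theorem Q46150 : ∀ i, i < 46150 → P i := stepQ 46149 Q46149 (allL N46149 (tt N23941 (iv1 D79564)) (tt N48015 F324250) (tt N63483 (iv2 F325399)) (tt N78559 (iv3 F325401)) (tt N80049 D165662) (tt N63444 (iv5 F325402)) (tt N79511 (iv6 F359983)) (tt N63480 (iv7 F325404)))
theorem Q46151 : ∀ i, i < 46151 → P i := stepQ 46150 Q46150 (allL N46150 (tt N63480 F323010) (tt N63483 F323011) (tt N23941 (iv2 D79565)) (tt N58790 (iv3 F326949)) (tt N24016 F122194) (tt N48016 F323012) (tt N23956 F122195) (tt N48015 F323013))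
theorem Q46152 : ∀ i, i < 46152 → P i := stepQ 46151 Q46151 (allL N46151 (tt N80050 D165684) (tt N80051 D165685) (tt N80052 D165686) (tt N23942 (iv3 D79574)) (tt N23946 F122203) (tt N51695 (iv5 F147041)) (tt N45755 (iv6 F297533)) (tt N27637 F122204))
theorem Q46153 : ∀ i, i < 46153 → P i := stepQ 46152 Q46152 (allL N46152 (tt N24025 F122220) (tt N24028 F122221) (tt N45490 F122217) (tt N32339 F327062) (tt N23943 (iv4 D79580)) (tt N52692 (iv5 F292822)) (tt N47683 F297049) (tt N25610 F122219))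
theorem Q46154 : ∀ i, i < 46154 → P i := stepQ 46153 Q46153 (allL N46153 (tt N80053 D165708) (tt N65078 (iv0 F336023)) (tt N80054 D165710) (tt N23945 (iv3 D79590)) (tt N35228 F122246) (tt N37358 (iv5 F321980)) (tt N57301 (iv6 F324593)) (tt N37357 F320280))
theorem Q46155 : ∀ i, i < 46155 → P i := stepQ 46154 Q46154 (allL N46154 (tt N31954 F323169) (tt N31956 F323170) (tt N35910 F323171) (tt N57301 (iv3 F324592)) (tt N35227 F122253) (tt N36215 F320665) (tt N23945 (iv6 D79592)) (tt N44940 F299774))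
theorem Q46156 : ∀ i, i < 46156 → P i := stepQ 46155 Q46155 (allL N46155 (tt N64266 (iv1 F194396)) (tt N23946 (iv0 D79596)) (tt N64265 (iv2 F341931)) (tt N80055 D165723) (tt N80056 D165724) (tt N68986 (iv5 F338375)) (tt N80057 D165726) (tt N64264 (iv7 F341930)))
theorem Q46157 : ∀ i, i < 46157 → P i := stepQ 46156 Q46156 (allL N46156 (tt N23946 (iv1 D79597)) (tt N64266 F194398) (tt N64264 (iv2 F341927)) (tt N80058 D165728) (tt N80059 D165729) (tt N68946 (iv5 F337766)) (tt N69678 (iv6 F337762)) (tt N64265 (iv7 F341932)))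
theorem Q46158 : ∀ i, i < 46158 → P i := stepQ 46157 Q46157 (allL N46157 (tt N64265 (iv1 F194397)) (tt N64264 F194392) (tt N23946 (iv2 D79598)) (tt N46125 F122261) (tt N80052 (iv4 F260955)) (tt N69172 (iv5 F324232)) (tt N45759 (iv6 F302615)) (tt N64266 (iv7 F194395)))
theorem Q46159 : ∀ i, i < 46159 → P i := stepQ 46158 Q46158 (allL N46158 (tt N80060 D165765) (tt N80061 D165766) (tt N80062 D165767) (tt N23947 (iv3 D79613)) (tt N23949 F122305) (tt N27566 (iv5 F328296)) (tt N27568 F327915) (tt N44690 F122306))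
theorem Q46160 : ∀ i, i < 46160 → P i := stepQ 46159 Q46159 (allL N46159 (tt N46125 (iv1 F122324)) (tt N23949 (iv0 D79617)) (tt N46124 (iv2 F254232)) (tt N80063 D165768) (tt N80064 D165769) (tt N68956 (iv5 F336581)) (tt N45479 F336530) (tt N46123 (iv7 F254234)))
theorem Q46161 : ∀ i, i < 46161 → P i := stepQ 46160 Q46160 (allL N46160 (tt N23949 (iv1 D79618)) (tt N46125 F122327) (tt N46123 F254233) (tt N79767 F258081) (tt N78665 (iv4 F250187)) (tt N68988 (iv5 F336567)) (tt N75414 (iv6 F336570)) (tt N46124 F254231))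
theorem Q46162 : ∀ i, i < 46162 → P i := stepQ 46161 Q46161 (allL N46161 (tt N46124 (iv1 F122328)) (tt N46123 F122326) (tt N23949 (iv2 D79619)) (tt N64266 (iv3 F194393)) (tt N80062 (iv4 F261154)) (tt N37205 F333902) (tt N55458 (iv6 F328295)) (tt N46125 F122325))
theorem Q46163 : ∀ i, i < 46163 → P i := stepQ 46162 Q46162 (allL N46162 (tt N80065 D165783) (tt N80066 D165784) (tt N80067 D165785) (tt N23951 (iv3 D79623)) (tt N23952 F122335) (tt N78405 (iv5 F248694)) (tt N67409 (iv6 F347510)) (tt N48291 (iv7 F132091)))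
theorem Q46164 : ∀ i, i < 46164 → P i := stepQ 46163 Q46163 (allL N46163 (tt N64069 (iv1 F192861)) (tt N23952 (iv0 D79631)) (tt N64068 (iv2 F338350)) (tt N80068 D165799) (tt N80069 D165800) (tt N69171 (iv5 F338362)) (tt N80070 D165802) (tt N64067 (iv7 F338349)))
theorem Q46165 : ∀ i, i < 46165 → P i := stepQ 46164 Q46164 (allL N46164 (tt N64068 (iv1 F192862)) (tt N64067 F192858) (tt N23952 (iv2 D79633)) (tt N64071 (iv3 F192905)) (tt N80067 (iv4 F261188)) (tt N67654 (iv5 F323648)) (tt N79722 (iv6 F302532)) (tt N64069 (iv7 F192860)))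
theorem Q46166 : ∀ i, i < 46166 → P i := stepQ 46165 Q46165 (allL N46165 (tt N50707 (iv1 F298623)) (tt N23953 (iv0 D79657)) (tt N50709 (iv2 F340142)) (tt N80071 D165868) (tt N80072 D165869) (tt N66492 (iv5 F338712)) (tt N75596 (iv6 F357450)) (tt N50708 (iv7 F340141)))
theorem Q46167 : ∀ i, i < 46167 → P i := stepQ 46166 Q46166 (allL N46166 (tt N50709 (iv1 F298621)) (tt N50708 (iv0 F298620)) (tt N23953 (iv2 D79659)) (tt N79432 (iv3 F256390)) (tt N80073 D165877) (tt N67648 (iv5 F323631)) (tt N65308 (iv6 F322696)) (tt N50707 (iv7 F298624)))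
theorem Q46168 : ∀ i, i < 46168 → P i := stepQ 46167 Q46167 (allL N46167 (tt N79659 F257646) (tt N80074 D165880) (tt N80073 (iv2 F261248)) (tt N44685 F122359) (tt N23953 (iv4 D79660)) (tt N80075 D165881) (tt N65313 (iv6 F322699)) (tt N50698 (iv7 F296203)))
theorem Q46169 : ∀ i, i < 46169 → P i := stepQ 46168 Q46168 (allL N46168 (tt N79832 (iv1 F348610)) (tt N80076 D165937) (tt N80077 D165938) (tt N23954 (iv3 D79680)) (tt N64962 F198742) (tt N80078 D165939) (tt N80079 D165940) (tt N79777 (iv7 F330782)))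
theorem Q46170 : ∀ i, i < 46170 → P i := stepQ 46169 Q46169 (allL N46169 (tt N79657 (iv1 F257969)) (tt N60552 (iv0 F327432)) (tt N48298 (iv2 F261313)) (tt N79711 F257779) (tt N23954 (iv4 D79681)) (tt N58766 (iv5 F325961)) (tt N68497 (iv6 F330829)) (tt N58821 (iv7 F327253)))
theorem Q46171 : ∀ i, i < 46171 → P i := stepQ 46170 Q46170 (allL N46170 (tt N37860 F324199) (tt N37866 F324200) (tt N37865 F324205) (tt N80078 (iv3 F261370)) (tt N67573 (iv4 F362151)) (tt N23954 (iv5 D79682)) (tt N80080 D165943) (tt N37864 F324206))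
theorem Q46172 : ∀ i, i < 46172 → P i := stepQ 46171 Q46171 (allL N46171 (tt N75841 F330820) (tt N46396 F330821) (tt N37546 F330822) (tt N80079 (iv3 F261371)) (tt N68497 (iv4 F330828)) (tt N37531 (iv5 F330830)) (tt N23954 (iv6 D79683)) (tt N24058 (iv7 F330803)))
theorem Q46173 : ∀ i, i < 46173 → P i := stepQ 46172 Q46172 (allL N46172 (tt N80081 D165948) (tt N80071 (iv0 F373728)) (tt N80082 D165950) (tt N23955 (iv3 D79685)) (tt N68799 (iv4 F358973)) (tt N80083 D165952) (tt N24059 F330778) (tt N79785 (iv7 F261320)))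
theorem Q46174 : ∀ i, i < 46174 → P i := stepQ 46173 Q46173 (allL N46173 (tt N60552 (iv1 F327433)) (tt N79657 F258062) (tt N58821 (iv2 F327250)) (tt N35523 (iv3 F122368)) (tt N23955 (iv4 D79686)) (tt N48318 (iv5 F194350)) (tt N24060 F330779) (tt N48298 (iv7 F261314)))
theorem Q46175 : ∀ i, i < 46175 → P i := stepQ 46174 Q46174 (allL N46174 (tt N37866 F324197) (tt N37860 F324198) (tt N37864 F324202) (tt N80083 (iv3 F261376)) (tt N67570 (iv4 F334313)) (tt N23955 (iv5 D79687)) (tt N64263 (iv6 F330791)) (tt N37865 F324203))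
theorem Q46176 : ∀ i, i < 46176 → P i := stepQ 46175 Q46175 (allL N46175 (tt N45932 (iv1 F303803)) (tt N44897 F318369) (tt N32011 F323588) (tt N79786 (iv3 F258287)) (tt N44892 (iv4 F320522)) (tt N23957 (iv5 D79706)) (tt N37080 (iv6 F320717)) (tt N58885 F323589))
theorem Q46177 : ∀ i, i < 46177 → P i := stepQ 46176 Q46176 (allL N46176 (tt N41527 F324141) (tt N48445 F132742) (tt N48447 (iv2 F132740)) (tt N44071 (iv3 F307104)) (tt N73116 (iv4 F324360)) (tt N23958 (iv5 D79712)) (tt N43870 (iv6 F308562)) (tt N48053 F306690))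
theorem Q46178 : ∀ i, i < 46178 → P i := stepQ 46177 Q46177 (allL N46177 (tt N46654 F298486) (tt N48448 F132773) (tt N48451 (iv2 F132771)) (tt N65628 (iv3 F345717)) (tt N23959 (iv4 D79713)) (tt N65627 (iv5 F354276)) (tt N58829 (iv6 F325555)) (tt N48416 (iv7 F132562)))
theorem Q46179 : ∀ i, i < 46179 → P i := stepQ 46178 Q46178 (allL N46178 (tt N38320 F306057) (tt N23960 (iv0 D79722)) (tt N42605 (iv2 F131650)) (tt N68413 (iv3 F306818)) (tt N63527 (iv4 F187872)) (tt N80084 D166049) (tt N42711 (iv6 F131651)) (tt N29798 F131649))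
theorem Q46180 : ∀ i, i < 46180 → P i := stepQ 46179 Q46179 (allL N46179 (tt N42605 (iv1 F122418)) (tt N29798 (iv0 F130345)) (tt N23960 (iv2 D79724)) (tt N47692 (iv3 F301073)) (tt N23966 F122414) (tt N80085 D166050) (tt N27631 F298484) (tt N38320 F306053))
theorem Q46181 : ∀ i, i < 46181 → P i := stepQ 46180 Q46180 (allL N46180 (tt N80086 D166052) (tt N67101 (iv0 F308024)) (tt N80085 (iv2 F261450)) (tt N23961 F122419) (tt N80087 D166054) (tt N23960 (iv5 D79725)) (tt N62387 (iv6 F323350)) (tt N42606 F122420))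
theorem Q46182 : ∀ i, i < 46182 → P i := stepQ 46181 Q46181 (allL N46181 (tt N47699 (iv1 F300066)) (tt N23961 (iv0 D79727)) (tt N47697 (iv2 F300137)) (tt N38587 F314571) (tt N80088 D166060) (tt N44907 (iv5 F299115)) (tt N59888 (iv6 F316890)) (tt N44906 (iv7 F301077)))
theorem Q46183 : ∀ i, i < 46183 → P i := stepQ 46182 Q46182 (allL N46182 (tt N23961 (iv1 D79728)) (tt N47699 (iv0 F300065)) (tt N44906 (iv2 F301076)) (tt N73346 (iv3 F321897)) (tt N80089 D166063) (tt N44528 (iv5 F312315)) (tt N44530 (iv6 F312316)) (tt N47697 (iv7 F300139)))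
theorem Q46184 : ∀ i, i < 46184 → P i := stepQ 46183 Q46183 (allL N46183 (tt N77495 (iv1 F312868)) (tt N77494 (iv0 F312871)) (tt N47698 (iv2 F301078)) (tt N80090 D166067) (tt N23961 (iv4 D79729)) (tt N80091 D166068) (tt N62388 (iv6 F323351)) (tt N64236 (iv7 F194201)))
theorem Q46185 : ∀ i, i < 46185 → P i := stepQ 46184 Q46184 (allL N46184 (tt N52361 (iv1 F299390)) (tt N24240 F297443) (tt N51606 (iv2 F299566)) (tt N80092 D166079) (tt N23962 (iv4 D79735)) (tt N80093 D166080) (tt N65906 (iv6 F330431)) (tt N51608 (iv7 F299570)))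
theorem Q46186 : ∀ i, i < 46186 → P i := stepQ 46185 Q46185 (allL N46185 (tt N34838 F297434) (tt N45625 F194672) (tt N45636 (iv2 F298308)) (tt N23963 (iv3 D79736)) (tt N64354 (iv4 F299585)) (tt N45516 (iv5 F299053)) (tt N45880 F122425) (tt N45635 (iv7 F299030)))
theorem Q46187 : ∀ i, i < 46187 → P i := stepQ 46186 Q46186 (allL N46186 (tt N24240 F297446) (tt N52361 (iv0 F299389)) (tt N51608 (iv2 F299568)) (tt N80094 D166082) (tt N23963 (iv4 D79737)) (tt N67987 (iv5 F354346)) (tt N45881 F122426) (tt N51606 (iv7 F299567)))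
theorem Q46188 : ∀ i, i < 46188 → P i := stepQ 46187 Q46187 (allL N46187 (tt N23964 (iv1 D79739)) (tt N48258 (iv0 F297529)) (tt N35512 (iv2 F297522)) (tt N80095 D166088) (tt N27706 (iv4 F297487)) (tt N67434 (iv5 F347414)) (tt N45875 (iv6 F148928)) (tt N46535 (iv7 F297520)))
theorem Q46189 : ∀ i, i < 46189 → P i := stepQ 46188 Q46188 (allL N46188 (tt N80096 D166090) (tt N80097 D166091) (tt N80098 D166092) (tt N23964 (iv3 D79740)) (tt N23973 F122427) (tt N66586 (iv5 F350089)) (tt N27637 F297441) (tt N64237 (iv7 F194214)))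
theorem Q46190 : ∀ i, i < 46190 → P i := stepQ 46189 Q46189 (allL N46189 (tt N48252 (iv1 F299598)) (tt N79686 (iv0 F354380)) (tt N51610 (iv2 F297528)) (tt N66586 (iv3 F350088)) (tt N59433 (iv4 F350056)) (tt N23964 (iv5 D79741)) (tt N59431 (iv6 F350087)) (tt N64238 (iv7 F194215)))
theorem Q46191 : ∀ i, i < 46191 → P i := stepQ 46190 Q46190 (allL N46190 (tt N33824 F190086) (tt N28714 (iv0 F305993)) (tt N43735 F190017) (tt N23965 (iv3 D79751)) (tt N28711 (iv4 F304950)) (tt N73598 (iv5 F320177)) (tt N36558 F190018) (tt N29785 F190019))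
theorem Q46192 : ∀ i, i < 46192 → P i := stepQ 46191 Q46191 (allL N46191 (tt N30517 F308053) (tt N48495 F190020) (tt N42602 (iv2 F191149)) (tt N68405 F308054) (tt N23965 (iv4 D79752)) (tt N40207 F312358) (tt N42707 (iv6 F188920)) (tt N29788 F190022))
theorem Q46193 : ∀ i, i < 46193 → P i := stepQ 46192 Q46192 (allL N46192 (tt N42617 F189470) (tt N33830 F189471) (tt N42603 (iv2 F191152)) (tt N73598 (iv3 F320175)) (tt N80099 D166111) (tt N23965 (iv5 D79753)) (tt N73596 (iv6 F320164)) (tt N29789 F190026))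
theorem Q46194 : ∀ i, i < 46194 → P i := stepQ 46193 Q46193 (allL N46193 (tt N42608 (iv1 F122442)) (tt N42607 F122443) (tt N23967 F122439) (tt N36539 (iv3 F188442)) (tt N40995 F318078) (tt N23966 (iv5 D79760)) (tt N42320 (iv6 F317917)) (tt N42604 F122441))
theorem Q46195 : ∀ i, i < 46195 → P i := stepQ 46194 Q46194 (allL N46194 (tt N42604 (iv1 F122447)) (tt N23967 (iv0 D79762)) (tt N42608 F234070) (tt N66571 (iv3 F315740)) (tt N73935 (iv4 F314565)) (tt N42894 (iv5 F191203)) (tt N80100 D166116) (tt N42607 (iv7 F234072)))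
theorem Q46196 : ∀ i, i < 46196 → P i := stepQ 46195 Q46195 (allL N46195 (tt N23967 (iv1 D79763)) (tt N42604 F122448) (tt N42607 (iv2 F234074)) (tt N80101 D166117) (tt N73901 (iv4 F321933)) (tt N42895 (iv5 F234075)) (tt N42633 (iv6 F235098)) (tt N42608 F234073))
theorem Q46197 : ∀ i, i < 46197 → P i := stepQ 46196 Q46196 (allL N46196 (tt N40998 (iv1 F321592)) (tt N40974 (iv0 F321593)) (tt N40995 (iv2 F315910)) (tt N42312 F317789) (tt N23967 (iv4 D79764)) (tt N80102 D166122) (tt N42310 (iv6 F317922)) (tt N40996 F314584))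
theorem Q46198 : ∀ i, i < 46198 → P i := stepQ 46197 Q46197 (allL N46197 (tt N42526 F155489) (tt N42524 (iv0 F155490)) (tt N42557 F155460) (tt N23968 (iv3 D79768)) (tt N80103 D166129) (tt N42773 (iv5 F155487)) (tt N66746 (iv6 F317387)) (tt N42558 (iv7 F155470)))
theorem Q46199 : ∀ i, i < 46199 → P i := stepQ 46198 Q46198 (allL N46198 (tt N42326 F314927) (tt N42847 F307259) (tt N42296 F316536) (tt N66746 (iv3 F317385)) (tt N62608 F314928) (tt N38343 F122459) (tt N23968 (iv6 D79770)) (tt N40482 F314929))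
theorem Q46200 : ∀ i, i < 46200 → P i := stepQ 46199 Q46199 (allL N46199 (tt N45773 F332171) (tt N80104 D166143) (tt N80105 D166144) (tt N23969 (iv3 D79777)) (tt N35805 (iv4 F326046)) (tt N80106 D166145) (tt N35803 F325849) (tt N64235 (iv7 F194184)))
theorem Q46201 : ∀ i, i < 46201 → P i := stepQ 46200 Q46200 (allL N46200 (tt N33571 (iv1 F317769)) (tt N34744 F122479) (tt N41682 F317442) (tt N80106 (iv3 F261628)) (tt N33624 F317443) (tt N23969 (iv5 D79778)) (tt N34723 F322474) (tt N41681 F317444))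
theorem Q46202 : ∀ i, i < 46202 → P i := stepQ 46201 Q46201 (allL N46201 (tt N80107 D166147) (tt N80108 D166148) (tt N80109 D166149) (tt N23970 (iv3 D79779)) (tt N25291 (iv4 F304549)) (tt N80110 D166150) (tt N25291 F122480) (tt N64234 (iv7 F194182)))
theorem Q46203 : ∀ i, i < 46203 → P i := stepQ 46202 Q46202 (allL N46202 (tt N34744 F122481) (tt N33571 (iv0 F317768)) (tt N41681 F317445) (tt N80110 (iv3 F261632)) (tt N33623 F317446) (tt N23970 (iv5 D79780)) (tt N80111 D166151) (tt N41682 F317447))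
theorem Q46204 : ∀ i, i < 46204 → P i := stepQ 46203 Q46203 (allL N46203 (tt N65074 (iv1 F345556)) (tt N80112 D166153) (tt N80113 D166154) (tt N23971 (iv3 D79781)) (tt N80114 D166155) (tt N47468 F320068) (tt N47469 (iv6 F321800)) (tt N47902 (iv7 F130018)))
theorem Q46205 : ∀ i, i < 46205 → P i := stepQ 46204 Q46204 (allL N46204 (tt N80115 D166159) (tt N80116 D166160) (tt N52841 (iv2 F321804)) (tt N23972 (iv3 D79784)) (tt N80117 D166162) (tt N46351 F320070) (tt N35513 F122491) (tt N47901 (iv7 F130016)))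
theorem Q46206 : ∀ i, i < 46206 → P i := stepQ 46205 Q46205 (allL N46205 (tt N64241 (iv1 F194225)) (tt N23973 (iv0 D79786)) (tt N64240 (iv2 F345643)) (tt N80118 D166166) (tt N80119 D166167) (tt N75001 (iv5 F334597)) (tt N80120 D166169) (tt N64239 (iv7 F337739)))
theorem Q46207 : ∀ i, i < 46207 → P i := stepQ 46206 Q46206 (allL N46206 (tt N23973 (iv1 D79787)) (tt N64241 F194227) (tt N64239 (iv2 F337736)) (tt N80121 D166171) (tt N80122 D166172) (tt N80123 D166173) (tt N45886 (iv6 F341657)) (tt N64240 (iv7 F345644)))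
theorem Q46208 : ∀ i, i < 46208 → P i := stepQ 46207 Q46207 (allL N46207 (tt N64240 (iv1 F194226)) (tt N64239 F194221) (tt N23973 (iv2 D79788)) (tt N55458 (iv3 F328293)) (tt N80098 (iv4 F261503)) (tt N42150 F337755) (tt N64266 (iv6 F299593)) (tt N64241 (iv7 F194224)))
theorem Q46209 : ∀ i, i < 46209 → P i := stepQ 46208 Q46208 (allL N46208 (tt N42149 F338188) (tt N41945 F338189) (tt N42150 (iv2 F337749)) (tt N23974 F122494) (tt N73144 (iv4 F338183)) (tt N23973 (iv5 D79789)) (tt N69139 (iv6 F321878)) (tt N42151 F337748))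
theorem Q46210 : ∀ i, i < 46210 → P i := stepQ 46209 Q46209 (allL N46209 (tt N67924 (iv1 F311069)) (tt N24714 F308910) (tt N46142 (iv2 F311072)) (tt N23975 (iv3 D79796)) (tt N42231 F308915) (tt N42874 (iv5 F313975)) (tt N38099 (iv6 F311070)) (tt N24838 F299445))
theorem Q46211 : ∀ i, i < 46211 → P i := stepQ 46210 Q46210 (allL N46210 (tt N46674 (iv1 F301010)) (tt N79244 F253692) (tt N24837 (iv2 F301548)) (tt N42874 F316472) (tt N80124 D166196) (tt N23975 (iv5 D79797)) (tt N80125 D166197) (tt N24839 F299446))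
theorem Q46212 : ∀ i, i < 46212 → P i := stepQ 46211 Q46211 (allL N46211 (tt N46676 F298062) (tt N59762 (iv0 F325348)) (tt N64233 (iv2 F194107)) (tt N55167 (iv3 F353189)) (tt N23976 (iv4 D79798)) (tt N80126 D166199) (tt N59826 (iv6 F324864)) (tt N45465 F122513))
theorem Q46213 : ∀ i, i < 46213 → P i := stepQ 46212 Q46212 (allL N46212 (tt N34255 (iv1 F303530)) (tt N45591 F331881) (tt N77191 (iv2 F241902)) (tt N23977 (iv3 D79799)) (tt N47696 F300731) (tt N80127 D166202) (tt N47020 (iv6 F301079)) (tt N27959 F300732))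
theorem Q46214 : ∀ i, i < 46214 → P i := stepQ 46213 Q46213 (allL N46213 (tt N36144 F327827) (tt N28868 F328328) (tt N23981 F122514) (tt N80127 (iv3 F261680)) (tt N55371 (iv4 F328710)) (tt N23977 (iv5 D79800)) (tt N80128 D166205) (tt N27961 F300737))
theorem Q46215 : ∀ i, i < 46215 → P i := stepQ 46214 Q46214 (allL N46214 (tt N28864 F327385) (tt N46777 F300480) (tt N23984 F122518) (tt N80129 D166207) (tt N23978 (iv4 D79802)) (tt N80130 D166208) (tt N45749 F122519) (tt N27962 F300481))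
theorem Q46216 : ∀ i, i < 46216 → P i := stepQ 46215 Q46215 (allL N46215 (tt N80131 D166216) (tt N80132 D166217) (tt N75466 (iv2 F353854)) (tt N23981 F122538) (tt N80133 D166218) (tt N23980 (iv5 D79810)) (tt N75319 (iv6 F340235)) (tt N42597 F122539))
theorem Q46217 : ∀ i, i < 46217 → P i := stepQ 46216 Q46216 (allL N46216 (tt N27961 F300735) (tt N23981 (iv0 D79812)) (tt N36144 F327824) (tt N80134 D166222) (tt N28327 F327397) (tt N44726 F300736) (tt N36142 F327825) (tt N28868 (iv7 F327922)))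
theorem Q46218 : ∀ i, i < 46218 → P i := stepQ 46217 Q46217 (allL N46217 (tt N23981 (iv1 D79813)) (tt N27961 F300733) (tt N28868 (iv2 F327921)) (tt N36147 (iv3 F328239)) (tt N28862 F327394) (tt N44821 F300734) (tt N71746 (iv6 F328245)) (tt N36144 F327828))
theorem Q46219 : ∀ i, i < 46219 → P i := stepQ 46218 Q46218 (allL N46218 (tt N71999 (iv1 F325113)) (tt N72002 (iv0 F325117)) (tt N55371 (iv2 F328709)) (tt N53436 (iv3 F331222)) (tt N23981 (iv4 D79814)) (tt N80135 D166232) (tt N80136 D166233) (tt N47068 F304135))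
theorem Q46220 : ∀ i, i < 46220 → P i := stepQ 46219 Q46219 (allL N46219 (tt N80137 D166234) (tt N71153 (iv0 F352368)) (tt N80128 (iv2 F261683)) (tt N75319 (iv3 F340234)) (tt N80136 (iv4 F261723)) (tt N47558 F304136) (tt N23981 (iv6 D79815)) (tt N75483 (iv7 F357769)))
theorem Q46221 : ∀ i, i < 46221 → P i := stepQ 46220 Q46220 (allL N46220 (tt N24415 F299452) (tt N24875 (iv0 F299613)) (tt N24888 F299453) (tt N55440 (iv3 F331203)) (tt N23982 (iv4 D79820)) (tt N53870 (iv5 F331175)) (tt N65144 F299454) (tt N24887 F299455))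
theorem Q46222 : ∀ i, i < 46222 → P i := stepQ 46221 Q46221 (allL N46221 (tt N24875 (iv1 F299614)) (tt N24415 F299449) (tt N24887 F299450) (tt N80138 D166248) (tt N23983 (iv4 D79822)) (tt N53871 (iv5 F331171)) (tt N80139 D166250) (tt N24888 F299451))
theorem Q46223 : ∀ i, i < 46223 → P i := stepQ 46222 Q46222 (allL N46222 (tt N58670 (iv1 F323966)) (tt N79468 F256895) (tt N58734 (iv2 F358809)) (tt N45879 F298088) (tt N80139 (iv4 F261752)) (tt N45453 F122553) (tt N23983 (iv6 D79823)) (tt N64131 (iv7 F193224)))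
theorem Q46224 : ∀ i, i < 46224 → P i := stepQ 46223 Q46223 (allL N46223 (tt N27652 (iv1 F328297)) (tt N27655 (iv0 F328298)) (tt N49872 (iv2 F328299)) (tt N23984 (iv3 D79826)) (tt N23994 F122554) (tt N26336 F327916) (tt N45750 F122555) (tt N27568 F327917))
theorem Q46225 : ∀ i, i < 46225 → P i := stepQ 46224 Q46224 (allL N46224 (tt N47609 F300446) (tt N47606 (iv0 F300513)) (tt N80130 (iv2 F261689)) (tt N26336 (iv3 F327382)) (tt N80140 D166261) (tt N23984 (iv5 D79827)) (tt N50661 (iv6 F357429)) (tt N27564 F326736))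
theorem Q46226 : ∀ i, i < 46226 → P i := stepQ 46225 Q46225 (allL N46225 (tt N42599 (iv1 F122584)) (tt N42598 F122585) (tt N23989 F122581) (tt N42604 F122582) (tt N80141 D166272) (tt N23988 (iv5 D79843)) (tt N79130 (iv6 F253036)) (tt N36539 (iv7 F188443)))
theorem Q46227 : ∀ i, i < 46227 → P i := stepQ 46226 Q46226 (allL N46226 (tt N48158 (iv1 F131568)) (tt N36614 (iv0 F201152)) (tt N23990 F122586) (tt N38319 F309831) (tt N47555 F305167) (tt N75778 (iv5 F233886)) (tt N23988 (iv6 D79844)) (tt N48159 (iv7 F131566)))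
theorem Q46228 : ∀ i, i < 46228 → P i := stepQ 46227 Q46227 (allL N46227 (tt N36539 (iv1 F188440)) (tt N23989 (iv0 D79845)) (tt N42599 (iv2 F234267)) (tt N80142 D166273) (tt N73961 (iv4 F333389)) (tt N69674 (iv5 F310798)) (tt N40470 F320406) (tt N42598 (iv7 F234268)))
theorem Q46229 : ∀ i, i < 46229 → P i := stepQ 46228 Q46228 (allL N46228 (tt N23989 (iv1 D79846)) (tt N36539 (iv0 F188439)) (tt N42598 (iv2 F234264)) (tt N66568 (iv3 F314074)) (tt N73978 (iv4 F315724)) (tt N42819 F188473) (tt N46499 F311703) (tt N42599 F234266))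
theorem Q46230 : ∀ i, i < 46230 → P i := stepQ 46229 Q46229 (allL N46229 (tt N80143 D166278) (tt N80144 D166279) (tt N80141 (iv2 F261786)) (tt N80145 D166280) (tt N23989 (iv4 D79847)) (tt N80146 D166281) (tt N45062 F190447) (tt N42600 F122590))
theorem Q46231 : ∀ i, i < 46231 → P i := stepQ 46230 Q46230 (allL N46230 (tt N79131 (iv1 F253058)) (tt N42624 (iv0 F188479)) (tt N79130 F253037) (tt N23992 F122591) (tt N45062 (iv4 F190446)) (tt N80147 D166282) (tt N23989 (iv6 D79848)) (tt N42300 F310963))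
theorem Q46232 : ∀ i, i < 46232 → P i := stepQ 46231 Q46231 (allL N46231 (tt N48159 (iv1 F131567)) (tt N23990 (iv0 D79849)) (tt N48158 (iv2 F205845)) (tt N80148 D166283) (tt N67995 (iv4 F315343)) (tt N42439 (iv5 F205847)) (tt N46486 (iv6 F205840)) (tt N36614 (iv7 F205846)))
theorem Q46233 : ∀ i, i < 46233 → P i := stepQ 46232 Q46232 (allL N46232 (tt N23990 (iv1 D79850)) (tt N48159 F131569) (tt N36614 F205841) (tt N63271 (iv3 F306251)) (tt N24760 F305166) (tt N42440 F205842) (tt N35472 F205843) (tt N48158 F205844))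
theorem Q46234 : ∀ i, i < 46234 → P i := stepQ 46233 Q46233 (allL N46233 (tt N75430 F231478) (tt N75766 (iv0 F233845)) (tt N75778 F233887) (tt N23993 F122592) (tt N80149 D166287) (tt N23990 (iv5 D79851)) (tt N80147 (iv6 F261824)) (tt N44912 F122593))
theorem Q46235 : ∀ i, i < 46235 → P i := stepQ 46234 Q46234 (allL N46234 (tt N42222 (iv1 F314422)) (tt N80150 D166289) (tt N69661 (iv2 F312077)) (tt N23991 (iv3 D79852)) (tt N80145 (iv4 F261818)) (tt N74964 (iv5 F314423)) (tt N42295 F312049) (tt N33801 (iv7 F314424)))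
theorem Q46236 : ∀ i, i < 46236 → P i := stepQ 46235 Q46235 (allL N46235 (tt N73402 (iv1 F313213)) (tt N40233 (iv0 F313216)) (tt N42613 F122598) (tt N80147 (iv3 F261823)) (tt N78709 (iv4 F250320)) (tt N23992 (iv5 D79854)) (tt N23993 F122599) (tt N42302 F310964))
theorem Q46237 : ∀ i, i < 46237 → P i := stepQ 46236 Q46236 (allL N46236 (tt N23994 (iv1 D79856)) (tt N55458 F328691) (tt N29445 (iv2 F329085)) (tt N78591 (iv3 F346954)) (tt N27660 (iv4 F329086)) (tt N49637 (iv5 F329087)) (tt N75411 (iv6 F340287)) (tt N49636 (iv7 F329088)))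
theorem Q46238 : ∀ i, i < 46238 → P i := stepQ 46237 Q46237 (allL N46237 (tt N49636 F328687) (tt N29445 F328688) (tt N23994 (iv2 D79857)) (tt N64241 (iv3 F194222)) (tt N49872 F328689) (tt N49875 (iv5 F345963)) (tt N45752 F122603) (tt N55458 F328690))
theorem Q46239 : ∀ i, i < 46239 → P i := stepQ 46238 Q46238 (allL N46238 (tt N79656 (iv1 F356618)) (tt N50660 (iv0 F343030)) (tt N49875 (iv2 F345961)) (tt N23995 F122604) (tt N49862 (iv4 F333967)) (tt N23994 (iv5 D79858)) (tt N44880 F317963) (tt N47937 (iv7 F130080)))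
theorem Q46240 : ∀ i, i < 46240 → P i := stepQ 46239 Q46239 (allL N46239 (tt N37211 F309717) (tt N37213 (iv0 F310786)) (tt N69672 (iv2 F310789)) (tt N23996 (iv3 D79860)) (tt N44817 F302475) (tt N25210 F122606) (tt N42840 F122607) (tt N24220 F302476))
theorem Q46241 : ∀ i, i < 46241 → P i := stepQ 46240 Q46240 (allL N46240 (tt N46534 F297614) (tt N35505 F297615) (tt N23998 F122609) (tt N65641 (iv3 F356006)) (tt N23997 (iv4 D79861)) (tt N80151 D166314) (tt N80152 D166315) (tt N48251 F297616))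
theorem Q46242 : ∀ i, i < 46242 → P i := stepQ 46241 Q46241 (allL N46241 (tt N34759 F122612) (tt N34758 (iv0 F122613)) (tt N23999 F122610) (tt N46466 (iv3 F123744)) (tt N72238 (iv4 F312838)) (tt N23997 (iv5 D79862)) (tt N46491 (iv6 F123861)) (tt N25382 F122611))
theorem Q46243 : ∀ i, i < 46243 → P i := stepQ 46242 Q46242 (allL N46242 (tt N27634 F296343) (tt N48485 (iv0 F132974)) (tt N24000 F122614) (tt N29069 (iv3 F297230)) (tt N80152 (iv4 F261907)) (tt N48492 F133014) (tt N23997 (iv6 D79863)) (tt N51616 (iv7 F296829)))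
theorem Q46244 : ∀ i, i < 46244 → P i := stepQ 46243 Q46243 (allL N46243 (tt N80153 D166318) (tt N79692 (iv0 F373665)) (tt N80154 D166320) (tt N23998 (iv3 D79865)) (tt N24001 F122615) (tt N80155 D166321) (tt N80156 D166322) (tt N47918 (iv7 F130055)))
theorem Q46245 : ∀ i, i < 46245 → P i := stepQ 46244 Q46244 (allL N46244 (tt N52838 (iv1 F347409)) (tt N80095 (iv0 F359323)) (tt N80151 (iv2 F261903)) (tt N80155 (iv3 F261913)) (tt N73117 (iv4 F324363)) (tt N23998 (iv5 D79866)) (tt N80157 D166326) (tt N64242 (iv7 F194255)))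
theorem Q46246 : ∀ i, i < 46246 → P i := stepQ 46245 Q46245 (allL N46245 (tt N29466 (iv1 F301036)) (tt N35792 (iv0 F323912)) (tt N80152 (iv2 F261906)) (tt N80156 (iv3 F261914)) (tt N24000 F122616) (tt N66053 (iv5 F323913)) (tt N23998 (iv6 D79867)) (tt N58894 (iv7 F323047)))
theorem Q46247 : ∀ i, i < 46247 → P i := stepQ 46246 Q46246 (allL N46246 (tt N47917 (iv1 F130051)) (tt N24001 (iv0 D79871)) (tt N47916 F335058) (tt N80158 D166334) (tt N80159 D166335) (tt N42149 (iv5 F330051)) (tt N79561 (iv6 F341861)) (tt N42152 F330050))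
theorem Q46248 : ∀ i, i < 46248 → P i := stepQ 46247 Q46247 (allL N46247 (tt N47916 (iv1 F130052)) (tt N42152 (iv0 F335061)) (tt N24001 (iv2 D79873)) (tt N27322 F321872) (tt N80154 (iv4 F261912)) (tt N75013 (iv5 F321714)) (tt N42101 F322486) (tt N47917 (iv7 F130050)))
theorem Q46249 : ∀ i, i < 46249 → P i := stepQ 46248 Q46248 (allL N46248 (tt N80070 (iv1 F338355)) (tt N32293 (iv0 F320721)) (tt N42101 (iv2 F320722)) (tt N24002 F122619) (tt N80156 (iv4 F261915)) (tt N42099 F318601) (tt N24001 (iv6 D79875)) (tt N58895 (iv7 F319443)))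
theorem Q46250 : ∀ i, i < 46250 → P i := stepQ 46249 Q46249 (allL N46249 (tt N46776 F298067) (tt N31865 F325352) (tt N24004 F122629) (tt N80160 D166360) (tt N24003 (iv4 D79880)) (tt N52232 (iv5 F325911)) (tt N49307 (iv6 F300503)) (tt N47605 F298069))
theorem Q46251 : ∀ i, i < 46251 → P i := stepQ 46250 Q46250 (allL N46250 (tt N44833 (iv1 F300698)) (tt N47131 (iv0 F300514)) (tt N49307 (iv2 F300502)) (tt N52287 (iv3 F325885)) (tt N24005 F122635) (tt N47152 (iv5 F303295)) (tt N24004 (iv6 D79885)) (tt N49308 (iv7 F301442)))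
theorem Q46252 : ∀ i, i < 46252 → P i := stepQ 46251 Q46251 (allL N46251 (tt N24006 (iv1 D79887)) (tt N27322 F321870) (tt N47913 F324875) (tt N80161 D166381) (tt N29127 (iv4 F323551)) (tt N50660 (iv5 F323552)) (tt N79663 (iv6 F352002)) (tt N47914 F324876))
theorem Q46253 : ∀ i, i < 46253 → P i := stepQ 46252 Q46252 (allL N46252 (tt N47914 (iv1 F130032)) (tt N47913 F130028) (tt N24006 (iv2 D79888)) (tt N47917 (iv3 F130049)) (tt N27323 (iv4 F323554)) (tt N52293 (iv5 F323556)) (tt N80162 D166386) (tt N27322 F321873))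
theorem Q46254 : ∀ i, i < 46254 → P i := stepQ 46253 Q46253 (allL N46253 (tt N55545 F324807) (tt N26168 F324808) (tt N52293 F324809) (tt N24007 F122636) (tt N27330 (iv4 F325887)) (tt N24006 (iv5 D79889)) (tt N80163 D166390) (tt N47915 (iv7 F130037)))
theorem Q46255 : ∀ i, i < 46255 → P i := stepQ 46254 Q46254 (allL N46254 (tt N79525 (iv1 F345795)) (tt N68543 (iv0 F341907)) (tt N80162 (iv2 F261970)) (tt N24008 F122637) (tt N52287 (iv4 F325886)) (tt N68035 (iv5 F311141)) (tt N24006 (iv6 D79890)) (tt N42112 F322491))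
theorem Q46256 : ∀ i, i < 46256 → P i := stepQ 46255 Q46255 (allL N46255 (tt N38013 F317176) (tt N24815 (iv0 F315917)) (tt N47921 (iv2 F130060)) (tt N80163 (iv3 F261971)) (tt N42411 (iv4 F317587)) (tt N68036 F313352) (tt N24007 (iv6 D79891)) (tt N42408 F317177))
theorem Q46257 : ∀ i, i < 46257 → P i := stepQ 46256 Q46256 (allL N46256 (tt N64246 (iv1 F194280)) (tt N24009 (iv0 D79893)) (tt N64245 (iv2 F340158)) (tt N80164 D166399) (tt N80165 D166400) (tt N80166 D166401) (tt N79791 (iv6 F340165)) (tt N50703 (iv7 F340156)))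
theorem Q46258 : ∀ i, i < 46258 → P i := stepQ 46257 Q46257 (allL N46257 (tt N64245 (iv1 F194281)) (tt N50703 (iv0 F336468)) (tt N24009 (iv2 D79895)) (tt N64244 (iv3 F194259)) (tt N80167 D166408) (tt N74828 (iv5 F321799)) (tt N62539 (iv6 F321850)) (tt N64246 (iv7 F194279)))
theorem Q46259 : ∀ i, i < 46259 → P i := stepQ 46258 Q46258 (allL N46258 (tt N80168 D166411) (tt N79850 (iv0 F340634)) (tt N80167 (iv2 F261979)) (tt N24681 F122640) (tt N24009 (iv4 D79896)) (tt N80169 D166413) (tt N59827 (iv6 F321851)) (tt N64247 (iv7 F194284)))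
theorem Q46260 : ∀ i, i < 46260 → P i := stepQ 46259 Q46259 (allL N46259 (tt N24011 (iv1 D79905)) (tt N64244 F194263) (tt N64243 (iv2 F331718)) (tt N80170 D166435) (tt N80171 D166436) (tt N80172 D166437) (tt N79793 (iv6 F338761)) (tt N48384 F330290))
theorem Q46261 : ∀ i, i < 46261 → P i := stepQ 46260 Q46260 (allL N46260 (tt N48384 F331717) (tt N64243 F194258) (tt N24011 (iv2 D79906)) (tt N64246 (iv3 F194278)) (tt N58101 (iv4 F352216)) (tt N63546 (iv5 F321874)) (tt N80173 D166441) (tt N64244 (iv7 F194260)))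
theorem Q46262 : ∀ i, i < 46262 → P i := stepQ 46261 Q46261 (allL N46261 (tt N58104 (iv1 F353068)) (tt N58096 (iv0 F353070)) (tt N58101 (iv2 F352215)) (tt N25044 F122653) (tt N24011 (iv4 D79907)) (tt N80174 D166444) (tt N65036 (iv6 F305790)) (tt N58102 (iv7 F353063)))
theorem Q46263 : ∀ i, i < 46263 → P i := stepQ 46262 Q46262 (allL N46262 (tt N80175 D166450) (tt N24602 (iv0 F330281)) (tt N80173 (iv2 F262001)) (tt N24013 F122655) (tt N65036 (iv4 F305789)) (tt N67643 (iv5 F313287)) (tt N24011 (iv6 D79909)) (tt N65068 (iv7 F199106)))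
theorem Q46264 : ∀ i, i < 46264 → P i := stepQ 46263 Q46263 (allL N46263 (tt N24015 (iv1 F122660)) (tt N24014 (iv0 D79912)) (tt N24018 (iv2 F122658)) (tt N32063 F326495) (tt N48015 F324252) (tt N80176 D166457) (tt N32061 F326496) (tt N24016 F122659))
theorem Q46265 : ∀ i, i < 46265 → P i := stepQ 46264 Q46264 (allL N46264 (tt N24018 F350684) (tt N24016 F350685) (tt N24014 (iv2 D79913)) (tt N80177 D166460) (tt N63375 (iv4 F327104)) (tt N78375 (iv5 F346922)) (tt N58853 (iv6 F350687)) (tt N24015 (iv7 F122661)))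
theorem Q46266 : ∀ i, i < 46266 → P i := stepQ 46265 Q46265 (allL N46265 (tt N80170 (iv1 F358935)) (tt N80178 D166465) (tt N80179 D166466) (tt N24014 (iv3 D79914)) (tt N80180 D166467) (tt N80181 D166468) (tt N80182 D166469) (tt N80183 D166470))
theorem Q46267 : ∀ i, i < 46267 → P i := stepQ 46266 Q46266 (allL N46266 (tt N47413 F327668) (tt N76879 F327669) (tt N63375 F327670) (tt N80184 D166473) (tt N24014 (iv4 D79915)) (tt N63374 (iv5 F328131)) (tt N80185 D166475) (tt N63487 F327671))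
theorem Q46268 : ∀ i, i < 46268 → P i := stepQ 46267 Q46267 (allL N46267 (tt N80186 D166477) (tt N74826 (iv0 F346924)) (tt N78375 (iv2 F346921)) (tt N80181 (iv3 F262025)) (tt N49731 (iv4 F352747)) (tt N24014 (iv5 D79916)) (tt N74833 (iv6 F347918)) (tt N80187 D166481))
theorem Q46269 : ∀ i, i < 46269 → P i := stepQ 46268 Q46268 (allL N46268 (tt N31990 (iv1 F330731)) (tt N58855 (iv0 F330732)) (tt N58853 (iv2 F350686)) (tt N80182 (iv3 F262026)) (tt N80185 (iv4 F262030)) (tt N80188 D166484) (tt N24014 (iv6 D79917)) (tt N58854 (iv7 F350702)))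
theorem Q46270 : ∀ i, i < 46270 → P i := stepQ 46269 Q46269 (allL N46269 (tt N24016 (iv1 F350676)) (tt N24018 (iv0 F350677)) (tt N24015 F122662) (tt N80183 (iv3 F262027)) (tt N63487 (iv4 F327102)) (tt N80187 (iv5 F262036)) (tt N80189 D166486) (tt N24014 (iv7 D79918)))
theorem Q46271 : ∀ i, i < 46271 → P i := stepQ 46270 Q46270 (allL N46270 (tt N75330 (iv1 F339607)) (tt N80164 (iv0 F355921)) (tt N80190 D166489) (tt N24015 (iv3 D79919)) (tt N80191 D166490) (tt N80192 D166491) (tt N80193 D166492) (tt N80177 (iv7 F262017)))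
theorem Q46272 : ∀ i, i < 46272 → P i := stepQ 46271 Q46271 (allL N46271 (tt N74826 (iv1 F346925)) (tt N80186 F262037) (tt N80187 (iv2 F262035)) (tt N80192 (iv3 F262040)) (tt N29265 (iv4 F346920)) (tt N24015 (iv5 D79921)) (tt N80194 D166497) (tt N78375 (iv7 F346923)))
theorem Q46273 : ∀ i, i < 46273 → P i := stepQ 46272 Q46272 (allL N46272 (tt N45477 F330768) (tt N63553 (iv0 F330769)) (tt N80189 (iv2 F262038)) (tt N80193 (iv3 F262041)) (tt N76880 (iv4 F327103)) (tt N80195 D166500) (tt N24015 (iv6 D79922)) (tt N80196 D166501))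
theorem Q46274 : ∀ i, i < 46274 → P i := stepQ 46273 Q46273 (allL N46273 (tt N75492 (iv1 F342273)) (tt N80197 D166513) (tt N24017 F122665) (tt N64252 (iv3 F194303)) (tt N31895 (iv4 F323164)) (tt N24016 (iv5 D79925)) (tt N31894 (iv6 F322542)) (tt N80176 (iv7 F262012)))
theorem Q46275 : ∀ i, i < 46275 → P i := stepQ 46274 Q46274 (allL N46274 (tt N80176 (iv1 F262014)) (tt N24017 (iv0 D79926)) (tt N75492 (iv2 F342275)) (tt N80198 D166516) (tt N80199 D166517) (tt N80107 (iv5 F330774)) (tt N69126 (iv6 F348894)) (tt N80197 (iv7 F346931)))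
theorem Q46276 : ∀ i, i < 46276 → P i := stepQ 46275 Q46275 (allL N46275 (tt N24017 (iv1 D79927)) (tt N80176 F262013) (tt N80197 (iv2 F346930)) (tt N75180 (iv3 F354262)) (tt N52590 (iv4 F346949)) (tt N80108 (iv5 F346945)) (tt N48120 (iv6 F347912)) (tt N75492 (iv7 F342276)))
theorem Q46277 : ∀ i, i < 46277 → P i := stepQ 46276 Q46276 (allL N46276 (tt N80200 D166525) (tt N80201 D166526) (tt N31895 (iv2 F323163)) (tt N51724 (iv3 F339836)) (tt N24017 (iv4 D79928)) (tt N48018 (iv5 F339839)) (tt N31881 (iv6 F322543)) (tt N80202 D166529))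
theorem Q46278 : ∀ i, i < 46278 → P i := stepQ 46277 Q46277 (allL N46277 (tt N80197 (iv1 F262047)) (tt N75492 (iv0 F342272)) (tt N80176 (iv2 F262011)) (tt N24021 F122666) (tt N80202 (iv4 F262054)) (tt N24018 F122667) (tt N65845 (iv6 F323166)) (tt N24017 (iv7 D79929)))
theorem Q46279 : ∀ i, i < 46279 → P i := stepQ 46278 Q46278 (allL N46278 (tt N80166 (iv1 F340161)) (tt N79882 (iv0 F339580)) (tt N80203 D166533) (tt N24019 (iv3 D79930)) (tt N61718 (iv4 F335980)) (tt N25041 F122668) (tt N57404 (iv6 F320876)) (tt N57405 (iv7 F335978)))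
theorem Q46280 : ∀ i, i < 46280 → P i := stepQ 46279 Q46279 (allL N46279 (tt N75594 (iv1 F330655)) (tt N80172 (iv0 F334088)) (tt N47975 (iv2 F318011)) (tt N24020 (iv3 D79932)) (tt N34186 (iv4 F318012)) (tt N25043 F122669) (tt N44914 (iv6 F317871)) (tt N43935 F315769))
theorem Q46281 : ∀ i, i < 46281 → P i := stepQ 46280 Q46280 (allL N46280 (tt N75679 (iv1 F349407)) (tt N75606 (iv0 F354264)) (tt N64256 (iv2 F194315)) (tt N65845 (iv3 F323165)) (tt N62776 (iv4 F310761)) (tt N75006 (iv5 F313799)) (tt N24021 (iv6 D79935)) (tt N59940 (iv7 F319475)))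
theorem Q46282 : ∀ i, i < 46282 → P i := stepQ 46281 Q46281 (allL N46281 (tt N28373 F122674) (tt N25558 F292081) (tt N25659 F292082) (tt N24484 (iv3 F292169)) (tt N26357 F292083) (tt N29421 F292084) (tt N24022 (iv6 D79936)) (tt N49174 F292085))
theorem Q46283 : ∀ i, i < 46283 → P i := stepQ 46282 Q46282 (allL N46282 (tt N32360 F358155) (tt N80204 D166554) (tt N80205 D166555) (tt N24023 (iv3 D79937)) (tt N45426 F122676) (tt N49217 (iv5 F135433)) (tt N80206 D166556) (tt N45862 F122677))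
theorem Q46284 : ∀ i, i < 46284 → P i := stepQ 46283 Q46283 (allL N46283 (tt N24925 F296390) (tt N24971 (iv0 F297489)) (tt N24034 F122678) (tt N80206 (iv3 F262071)) (tt N24024 F122679) (tt N80207 D166558) (tt N24023 (iv6 D79938)) (tt N24968 F296391))
theorem Q46285 : ∀ i, i < 46285 → P i := stepQ 46284 Q46284 (allL N46284 (tt N24024 (iv1 D79940)) (tt N24037 F122683) (tt N24036 F124473) (tt N27996 F122688) (tt N35716 (iv4 F325641)) (tt N25474 (iv5 F122687)) (tt N31963 F325223) (tt N24035 F124474))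
theorem Q46286 : ∀ i, i < 46286 → P i := stepQ 46285 Q46285 (allL N46285 (tt N24036 (iv1 F122694)) (tt N24035 (iv0 F122695)) (tt N24037 F122690) (tt N25985 (iv3 F296274)) (tt N24968 (iv4 F296364)) (tt N24156 F122692) (tt N45865 F122693) (tt N24024 (iv7 D79941)))
theorem Q46287 : ∀ i, i < 46287 → P i := stepQ 46286 Q46286 (allL N46286 (tt N80208 D166562) (tt N80209 D166563) (tt N80210 D166564) (tt N24025 (iv3 D79942)) (tt N24902 F122696) (tt N52663 (iv5 F293082)) (tt N59151 (iv6 F341784)) (tt N45491 F122697))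
theorem Q46288 : ∀ i, i < 46288 → P i := stepQ 46287 Q46287 (allL N46287 (tt N80211 D166575) (tt N80212 D166576) (tt N80213 D166577) (tt N24028 (iv3 D79949)) (tt N64285 (iv4 F195590)) (tt N46296 (iv5 F326387)) (tt N46297 F325522) (tt N45815 F122716))
theorem Q46289 : ∀ i, i < 46289 → P i := stepQ 46288 Q46288 (allL N46288 (tt N52374 (iv1 F298907)) (tt N24285 F297050) (tt N25415 F122720) (tt N46297 (iv3 F324401)) (tt N24029 F122721) (tt N46295 F322997) (tt N24028 (iv6 D79951)) (tt N45717 (iv7 F122722)))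
theorem Q46290 : ∀ i, i < 46290 → P i := stepQ 46289 Q46289 (allL N46289 (tt N80214 D166583) (tt N80215 D166584) (tt N32374 (iv2 F326519)) (tt N24030 (iv3 D79952)) (tt N46122 F122723) (tt N52670 (iv5 F294896)) (tt N32370 F325715) (tt N45866 F122724))
theorem Q46291 : ∀ i, i < 46291 → P i := stepQ 46290 Q46290 (allL N46290 (tt N80216 D166591) (tt N80217 D166592) (tt N80218 D166593) (tt N24031 (iv3 D79955)) (tt N34459 F122732) (tt N52668 (iv5 F294903)) (tt N64521 (iv6 F197480)) (tt N45867 F122733))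
theorem Q46292 : ∀ i, i < 46292 → P i := stepQ 46291 Q46291 (allL N46291 (tt N45870 (iv1 F122739)) (tt N24032 (iv0 D79957)) (tt N45869 F254298) (tt N68829 (iv3 F341806)) (tt N78751 (iv4 F254299)) (tt N68828 (iv5 F341799)) (tt N80219 D166598) (tt N45868 F254296))
theorem Q46293 : ∀ i, i < 46293 → P i := stepQ 46292 Q46292 (allL N46292 (tt N24032 (iv1 D79958)) (tt N45870 (iv0 F122741)) (tt N45868 (iv2 F254295)) (tt N80220 D166599) (tt N25348 (iv4 F122740)) (tt N80221 D166600) (tt N80222 D166601) (tt N45869 (iv7 F254297)))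
theorem Q46294 : ∀ i, i < 46294 → P i := stepQ 46293 Q46293 (allL N46293 (tt N45869 (iv1 F122745)) (tt N45868 F122744) (tt N24032 (iv2 D79959)) (tt N80205 (iv3 F262065)) (tt N24040 F122742) (tt N79356 (iv5 F324248)) (tt N48436 F322770) (tt N45870 F122743))
theorem Q46295 : ∀ i, i < 46295 → P i := stepQ 46294 Q46294 (allL N46294 (tt N79688 (iv1 F257741)) (tt N79691 (iv0 F257742)) (tt N79356 F325398) (tt N24033 F122746) (tt N27884 (iv4 F326270)) (tt N24032 (iv5 D79960)) (tt N27883 (iv6 F326271)) (tt N45871 F122747))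
theorem Q46296 : ∀ i, i < 46296 → P i := stepQ 46295 Q46295 (allL N46295 (tt N80223 D166606) (tt N80224 D166607) (tt N48436 F321369) (tt N24034 F122748) (tt N24041 F122749) (tt N46288 (iv5 F322997)) (tt N24032 (iv6 D79961)) (tt N79533 F321370))
theorem Q46297 : ∀ i, i < 46297 → P i := stepQ 46296 Q46296 (allL N46296 (tt N80225 D166610) (tt N80226 D166611) (tt N49218 (iv2 F135434)) (tt N27883 F326386) (tt N48680 (iv4 F133985)) (tt N46287 F326387) (tt N24033 (iv6 D79962)) (tt N79670 (iv7 F327192)))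
theorem Q46298 : ∀ i, i < 46298 → P i := stepQ 46297 Q46297 (allL N46297 (tt N80227 D166619) (tt N80228 D166620) (tt N80207 (iv2 F262077)) (tt N46288 F324401) (tt N79173 (iv4 F325520)) (tt N24034 (iv5 D79965)) (tt N46287 (iv6 F325522)) (tt N79532 (iv7 F325527)))
theorem Q46299 : ∀ i, i < 46299 → P i := stepQ 46298 Q46298 (allL N46298 (tt N24971 (iv1 F297490)) (tt N24925 F296388) (tt N24968 F296389) (tt N79533 (iv3 F319349)) (tt N24037 F122750) (tt N79532 (iv5 F325526)) (tt N45877 F122751) (tt N24034 (iv7 D79966)))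
theorem Q46300 : ∀ i, i < 46300 → P i := stepQ 46299 Q46299 (allL N46299 (tt N47682 (iv1 F296353)) (tt N47683 (iv0 F296354)) (tt N47752 (iv2 F296337)) (tt N80229 D166624) (tt N24035 (iv4 D79969)) (tt N80230 D166625) (tt N24243 F296062) (tt N35716 F326461))
theorem Q46301 : ∀ i, i < 46301 → P i := stepQ 46300 Q46300 (allL N46300 (tt N47683 F297451) (tt N47682 F297452) (tt N35716 (iv2 F325640)) (tt N80231 D166627) (tt N24036 (iv4 D79972)) (tt N65583 (iv5 F360407)) (tt N31964 F325279) (tt N47752 F297454))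
theorem Q46302 : ∀ i, i < 46302 → P i := stepQ 46301 Q46301 (allL N46301 (tt N44640 F257952) (tt N80232 D166630) (tt N59531 (iv2 F327514)) (tt N24038 (iv3 D79975)) (tt N35237 F122759) (tt N45804 (iv5 F254081)) (tt N59529 (iv6 F328387)) (tt N45882 F257935))
theorem Q46303 : ∀ i, i < 46303 → P i := stepQ 46302 Q46302 (allL N46302 (tt N64144 F193291) (tt N80233 D166632) (tt N32336 F328094) (tt N65971 (iv3 F328511)) (tt N24038 (iv4 D79976)) (tt N80234 D166634) (tt N32334 (iv6 F328515)) (tt N45883 (iv7 F257979)))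
theorem Q46304 : ∀ i, i < 46304 → P i := stepQ 46303 Q46303 (allL N46303 (tt N65953 (iv1 F328753)) (tt N45935 (iv0 F328754)) (tt N32328 F328344) (tt N59529 (iv3 F328386)) (tt N32334 (iv4 F328514)) (tt N75283 (iv5 F328755)) (tt N24038 (iv6 D79978)) (tt N65950 (iv7 F328752)))
theorem Q46305 : ∀ i, i < 46305 → P i := stepQ 46304 Q46304 (allL N46304 (tt N45637 F257641) (tt N45639 F257642) (tt N59534 F327425) (tt N24039 (iv3 D79980)) (tt N32331 F327426) (tt N45807 (iv5 F254094)) (tt N80235 D166640) (tt N32330 F327427))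
theorem Q46306 : ∀ i, i < 46306 → P i := stepQ 46305 Q46305 (allL N46305 (tt N80233 (iv1 F262242)) (tt N64144 (iv0 F257643)) (tt N45883 F257926) (tt N32341 F327439) (tt N24039 (iv4 D79981)) (tt N80236 D166642) (tt N65959 (iv6 F327958)) (tt N32336 (iv7 F327623)))
theorem Q46307 : ∀ i, i < 46307 → P i := stepQ 46306 Q46306 (allL N46306 (tt N24982 (iv1 F338321)) (tt N45759 (iv0 F338322)) (tt N45757 (iv2 F329605)) (tt N80235 (iv3 F262265)) (tt N65959 (iv4 F327957)) (tt N80237 D166646) (tt N24039 (iv6 D79983)) (tt N45758 F329368))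
theorem Q46308 : ∀ i, i < 46308 → P i := stepQ 46307 Q46307 (allL N46307 (tt N69678 (iv1 F319348)) (tt N79546 (iv0 F319345)) (tt N24041 F122761) (tt N45481 F122762) (tt N48436 (iv4 F321016)) (tt N79531 F318945) (tt N24040 (iv6 D79984)) (tt N80238 D166651))
theorem Q46309 : ∀ i, i < 46309 → P i := stepQ 46308 Q46308 (allL N46308 (tt N80238 (iv1 F262290)) (tt N24041 (iv0 D79985)) (tt N69678 F330146) (tt N80239 D166653) (tt N64088 (iv4 F330160)) (tt N37212 (iv5 F330147)) (tt N64264 (iv6 F341929)) (tt N79546 (iv7 F330141)))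
theorem Q46310 : ∀ i, i < 46310 → P i := stepQ 46309 Q46309 (allL N46309 (tt N24041 (iv1 D79986)) (tt N80238 F262289) (tt N79546 (iv2 F330140)) (tt N32239 F330142) (tt N35700 (iv4 F330143)) (tt N42818 (iv5 F330139)) (tt N32237 (iv6 F330144)) (tt N69678 (iv7 F330145)))
theorem Q46311 : ∀ i, i < 46311 → P i := stepQ 46310 Q46310 (allL N46310 (tt N36601 (iv1 F316578)) (tt N24730 (iv0 F316579)) (tt N79531 (iv2 F316580)) (tt N24042 F122763) (tt N43816 (iv4 F316583)) (tt N24041 (iv5 D79987)) (tt N45673 F122764) (tt N48431 (iv7 F314777)))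
theorem Q46312 : ∀ i, i < 46312 → P i := stepQ 46311 Q46311 (allL N46311 (tt N79546 (iv1 F319346)) (tt N69678 (iv0 F319347)) (tt N80238 (iv2 F262285)) (tt N24043 F122765) (tt N79533 (iv4 F319350)) (tt N48431 F317070) (tt N45888 F122766) (tt N24041 (iv7 D79988)))
theorem Q46313 : ∀ i, i < 46313 → P i := stepQ 46312 Q46312 (allL N46312 (tt N24080 F311350) (tt N44933 F122775) (tt N45484 F122771) (tt N48431 (iv3 F314776)) (tt N30685 F122772) (tt N24043 F122773) (tt N57420 (iv6 F166601)) (tt N24042 (iv7 D79990)))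
theorem Q46314 : ∀ i, i < 46314 → P i := stepQ 46313 Q46313 (allL N46313 (tt N80240 D166668) (tt N80241 D166669) (tt N80242 D166670) (tt N24044 (iv3 D79994)) (tt N45862 F122779) (tt N79325 (iv5 F254107)) (tt N79437 (iv6 F256789)) (tt N45426 F122780))
theorem Q46315 : ∀ i, i < 46315 → P i := stepQ 46314 Q46314 (allL N46314 (tt N80243 D166671) (tt N80244 D166672) (tt N80245 D166673) (tt N24045 (iv3 D79995)) (tt N45371 F122781) (tt N80246 D166674) (tt N78646 (iv6 F298039)) (tt N45466 F122782))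
theorem Q46316 : ∀ i, i < 46316 → P i := stepQ 46315 Q46315 (allL N46315 (tt N78447 (iv1 F248801)) (tt N78488 (iv0 F248944)) (tt N45417 F122783) (tt N80246 (iv3 F262315)) (tt N46324 (iv4 F122814)) (tt N24045 (iv5 D79996)) (tt N80247 D166676) (tt N45467 F122784))
theorem Q46317 : ∀ i, i < 46317 → P i := stepQ 46316 Q46316 (allL N46316 (tt N80248 D166678) (tt N80249 D166679) (tt N80250 D166680) (tt N24047 (iv3 D79998)) (tt N51618 (iv4 F146925)) (tt N80251 D166681) (tt N44151 F326164) (tt N45416 F122788))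
theorem Q46318 : ∀ i, i < 46318 → P i := stepQ 46317 Q46317 (allL N46317 (tt N78488 (iv1 F248945)) (tt N78447 (iv0 F248800)) (tt N45467 F122789) (tt N80251 (iv3 F262335)) (tt N46321 (iv4 F122804)) (tt N24047 (iv5 D79999)) (tt N80252 D166683) (tt N45417 F122790))
theorem Q46319 : ∀ i, i < 46319 → P i := stepQ 46318 Q46318 (allL N46318 (tt N31179 (iv1 F324001)) (tt N31180 (iv0 F325232)) (tt N31974 (iv2 F324459)) (tt N44151 (iv3 F325233)) (tt N24048 F122792) (tt N80253 D166686) (tt N24047 (iv6 D80000)) (tt N59880 (iv7 F324463)))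
theorem Q46320 : ∀ i, i < 46320 → P i := stepQ 46319 Q46319 (allL N46319 (tt N24048 (iv1 D80002)) (tt N31222 F323056) (tt N31947 F323057) (tt N45817 (iv3 F255039)) (tt N31889 (iv4 F324464)) (tt N31213 (iv5 F323968)) (tt N79468 (iv6 F256894)) (tt N31973 F323058))
theorem Q46321 : ∀ i, i < 46321 → P i := stepQ 46320 Q46320 (allL N46320 (tt N31947 F323053) (tt N31973 F323054) (tt N31222 F323055) (tt N31963 (iv3 F323938)) (tt N59880 (iv4 F324461)) (tt N45794 F122795) (tt N27996 F297428) (tt N24048 (iv7 D80003)))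
theorem Q46322 : ∀ i, i < 46322 → P i := stepQ 46321 Q46321 (allL N46321 (tt N45789 F122805) (tt N34654 F122806) (tt N44688 F122802) (tt N58659 (iv3 F326916)) (tt N46317 F122804) (tt N24049 (iv5 D80005)) (tt N80254 D166694) (tt N45468 F122803))
theorem Q46323 : ∀ i, i < 46323 → P i := stepQ 46322 Q46322 (allL N46322 (tt N45749 (iv1 F122810)) (tt N27997 (iv0 F298051)) (tt N24587 F122807) (tt N31899 F326158) (tt N24571 F122808) (tt N80255 D166695) (tt N24049 (iv6 D80006)) (tt N31893 F326159))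
theorem Q46324 : ∀ i, i < 46324 → P i := stepQ 46323 Q46323 (allL N46323 (tt N55562 (iv1 F362516)) (tt N80256 D166697) (tt N58626 (iv2 F327098)) (tt N24050 (iv3 D80007)) (tt N44696 F122811) (tt N80257 D166699) (tt N51721 (iv6 F337333)) (tt N44687 F122812))
theorem Q46325 : ∀ i, i < 46325 → P i := stepQ 46324 Q46324 (allL N46324 (tt N34654 F122816) (tt N45789 F122817) (tt N45468 F122813) (tt N80257 (iv3 F262380)) (tt N46315 F122814) (tt N24050 (iv5 D80008)) (tt N80258 D166701) (tt N44688 F122815))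
theorem Q46326 : ∀ i, i < 46326 → P i := stepQ 46325 Q46325 (allL N46325 (tt N45471 (iv1 F122820)) (tt N24051 (iv0 D80010)) (tt N45470 F254347) (tt N80259 D166704) (tt N45905 (iv4 F122821)) (tt N80260 D166705) (tt N80261 D166706) (tt N45469 F254348))
theorem Q46327 : ∀ i, i < 46327 → P i := stepQ 46326 Q46326 (allL N46326 (tt N24051 (iv1 D80011)) (tt N45471 (iv0 F122823)) (tt N45469 F254343) (tt N80262 D166707) (tt N45397 (iv4 F122822)) (tt N80263 D166708) (tt N51652 (iv6 F336506)) (tt N45470 F254344))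
theorem Q46328 : ∀ i, i < 46328 → P i := stepQ 46327 Q46327 (allL N46327 (tt N45470 (iv1 F122827)) (tt N45469 F122826) (tt N24051 (iv2 D80012)) (tt N80242 (iv3 F262302)) (tt N24055 F122824) (tt N80264 D166710) (tt N79474 (iv6 F256905)) (tt N45471 F122825))
theorem Q46329 : ∀ i, i < 46329 → P i := stepQ 46328 Q46328 (allL N46328 (tt N52474 (iv1 F344660)) (tt N79643 (iv0 F257588)) (tt N80264 (iv2 F262412)) (tt N24052 F122828) (tt N80265 D166711) (tt N24051 (iv5 D80013)) (tt N80266 D166712) (tt N45472 F122829))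
theorem Q46330 : ∀ i, i < 46330 → P i := stepQ 46329 Q46329 (allL N46329 (tt N80267 D166713) (tt N80268 D166714) (tt N79326 (iv2 F254109)) (tt N80266 (iv3 F262417)) (tt N79269 (iv4 F253819)) (tt N79478 (iv5 F256910)) (tt N24052 (iv6 D80014)) (tt N80269 D166715))
theorem Q46331 : ∀ i, i < 46331 → P i := stepQ 46330 Q46330 (allL N46330 (tt N48340 (iv1 F254228)) (tt N66045 (iv0 F326797)) (tt N47652 F254215) (tt N24053 (iv3 D80016)) (tt N44853 F122831) (tt N45846 (iv5 F250800)) (tt N75400 (iv6 F334022)) (tt N45485 F254216))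
theorem Q46332 : ∀ i, i < 46332 → P i := stepQ 46331 Q46331 (allL N46331 (tt N66703 (iv1 F334001)) (tt N66702 (iv0 F333996)) (tt N45488 F254217) (tt N80270 D166718) (tt N24053 (iv4 D80017)) (tt N80271 D166719) (tt N75417 (iv6 F334024)) (tt N45486 F254218))
theorem Q46333 : ∀ i, i < 46333 → P i := stepQ 46332 Q46332 (allL N46332 (tt N79434 (iv1 F256614)) (tt N44637 F254260) (tt N80272 D166725) (tt N24054 (iv3 D80021)) (tt N64139 (iv4 F193278)) (tt N45849 (iv5 F250819)) (tt N66701 (iv6 F334010)) (tt N45487 F254205))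
theorem Q46334 : ∀ i, i < 46334 → P i := stepQ 46333 Q46333 (allL N46333 (tt N24056 (iv1 D80032)) (tt N79776 F258233) (tt N48378 F254304) (tt N64260 (iv3 F194360)) (tt N78468 F256633) (tt N48376 (iv5 F254313)) (tt N80178 (iv6 F358929)) (tt N79761 (iv7 F258031)))
theorem Q46335 : ∀ i, i < 46335 → P i := stepQ 46334 Q46334 (allL N46334 (tt N79761 F258214) (tt N48378 F258215) (tt N24056 (iv2 D80033)) (tt N79781 F258216) (tt N44664 F258217) (tt N64258 (iv5 F194347)) (tt N80273 D166735) (tt N79776 F258218))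
theorem Q46336 : ∀ i, i < 46336 → P i := stepQ 46335 Q46335 (allL N46335 (tt N25313 F122841) (tt N44666 (iv0 F122842)) (tt N44664 F258219) (tt N80274 D166736) (tt N24056 (iv4 D80034)) (tt N80275 D166737) (tt N80276 D166738) (tt N44665 F258220))
theorem Q46337 : ∀ i, i < 46337 → P i := stepQ 46336 Q46336 (allL N46336 (tt N24610 (iv1 F330837)) (tt N80277 D166740) (tt N80273 (iv2 F262462)) (tt N24058 F122844) (tt N80276 (iv4 F262470)) (tt N37559 (iv5 F330849)) (tt N24056 (iv6 D80036)) (tt N80079 (iv7 F330800)))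
theorem Q46338 : ∀ i, i < 46338 → P i := stepQ 46337 Q46337 (allL N46337 (tt N24060 (iv1 F122851)) (tt N24057 (iv0 D80038)) (tt N79666 (iv2 F302184)) (tt N80278 D166743) (tt N45807 F122846) (tt N80279 D166744) (tt N80280 D166745) (tt N79778 F258174))
theorem Q46339 : ∀ i, i < 46339 → P i := stepQ 46338 Q46338 (allL N46338 (tt N24057 (iv1 D80039)) (tt N24060 F122847) (tt N79778 (iv2 F258175)) (tt N37206 F334290) (tt N59533 (iv4 F327519)) (tt N37200 (iv5 F334294)) (tt N76879 (iv6 F354803)) (tt N79666 (iv7 F302186)))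
theorem Q46340 : ∀ i, i < 46340 → P i := stepQ 46339 Q46339 (allL N46339 (tt N80068 F261279) (tt N80281 D166749) (tt N80282 D166750) (tt N24057 (iv3 D80040)) (tt N80274 (iv4 F262464)) (tt N66394 (iv5 F344354)) (tt N68544 (iv6 F330854)) (tt N79779 F258248))
theorem Q46341 : ∀ i, i < 46341 → P i := stepQ 46340 Q46340 (allL N46340 (tt N80283 D166753) (tt N80284 D166754) (tt N79784 (iv2 F258263)) (tt N66394 (iv3 F344353)) (tt N67562 (iv4 F334297)) (tt N24057 (iv5 D80041)) (tt N80285 D166756) (tt N79780 F258249))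
theorem Q46342 : ∀ i, i < 46342 → P i := stepQ 46341 Q46341 (allL N46341 (tt N37546 F330823) (tt N24058 (iv0 D80049)) (tt N46396 (iv2 F330831)) (tt N63556 (iv3 F330832)) (tt N75841 (iv4 F330833)) (tt N37577 (iv5 F330834)) (tt N63553 (iv6 F330835)) (tt N75841 (iv7 F330836)))
theorem Q46343 : ∀ i, i < 46343 → P i := stepQ 46342 Q46342 (allL N46342 (tt N79781 (iv1 F258192)) (tt N24059 (iv0 D80054)) (tt N50701 F254424) (tt N64257 F194325) (tt N50667 F140954) (tt N75214 (iv5 F344727)) (tt N75330 (iv6 F344729)) (tt N79687 (iv7 F257739)))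
theorem Q46344 : ∀ i, i < 46344 → P i := stepQ 46343 Q46343 (allL N46343 (tt N50701 (iv1 F258226)) (tt N79687 F258227) (tt N24059 (iv2 D80056)) (tt N79776 F258225) (tt N80286 D166776) (tt N64261 (iv5 F194361)) (tt N80082 (iv6 F330787)) (tt N79781 (iv7 F258193)))
theorem Q46345 : ∀ i, i < 46345 → P i := stepQ 46344 Q46344 (allL N46344 (tt N45850 (iv1 F254258)) (tt N45847 (iv0 F122857)) (tt N80286 (iv2 F262503)) (tt N80287 D166778) (tt N24059 (iv4 D80057)) (tt N68797 (iv5 F358969)) (tt N68799 (iv6 F358974)) (tt N79782 (iv7 F258257)))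
theorem Q46346 : ∀ i, i < 46346 → P i := stepQ 46345 Q46345 (allL N46345 (tt N69218 (iv1 F323702)) (tt N45959 F299413) (tt N48303 (iv2 F330789)) (tt N24060 (iv3 D80060)) (tt N80287 (iv4 F262509)) (tt N38147 F324228) (tt N35523 (iv6 F330790)) (tt N69229 (iv7 F323707)))
theorem Q46347 : ∀ i, i < 46347 → P i := stepQ 46346 Q46346 (allL N46346 (tt N80284 (iv1 F262496)) (tt N80283 F262495) (tt N79780 F258250) (tt N38147 F324227) (tt N67560 (iv4 F334302)) (tt N24060 (iv5 D80061)) (tt N68252 (iv6 F351662)) (tt N79784 (iv7 F258264)))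
theorem Q46348 : ∀ i, i < 46348 → P i := stepQ 46347 Q46347 (allL N46347 (tt N64134 (iv1 F336622)) (tt N79663 (iv0 F352000)) (tt N79661 (iv2 F351994)) (tt N24062 (iv3 D80070)) (tt N58442 (iv4 F323177)) (tt N77717 (iv5 F318533)) (tt N48254 (iv6 F131981)) (tt N48326 (iv7 F132146)))
theorem Q46349 : ∀ i, i < 46349 → P i := stepQ 46348 Q46348 (allL N46348 (tt N28139 F296790) (tt N24063 (iv0 D80081)) (tt N28141 F296775) (tt N47331 (iv3 F128676)) (tt N37645 (iv4 F302961)) (tt N42404 F309317) (tt N69345 (iv6 F304573)) (tt N28140 F296776))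
theorem Q46350 : ∀ i, i < 46350 → P i := stepQ 46349 Q46349 (allL N46349 (tt N28141 F296757) (tt N28140 F296758) (tt N24063 (iv2 D80082)) (tt N45428 F122891) (tt N43154 F301924) (tt N75010 (iv5 F309308)) (tt N25287 F315918) (tt N28139 F296759))
theorem Q46351 : ∀ i, i < 46351 → P i := stepQ 46350 Q46350 (allL N46350 (tt N79255 (iv1 F253723)) (tt N67921 (iv0 F304574)) (tt N75010 F309857) (tt N24064 F122895) (tt N41678 F309858) (tt N24063 (iv5 D80083)) (tt N41677 (iv6 F312055)) (tt N28142 F296811))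
theorem Q46352 : ∀ i, i < 46352 → P i := stepQ 46351 Q46351 (allL N46351 (tt N80288 D166843) (tt N75788 (iv0 F336427)) (tt N45429 F122899) (tt N41677 F312989) (tt N24499 F296815) (tt N46204 (iv5 F320070)) (tt N24064 (iv6 D80085)) (tt N75011 (iv7 F315404)))
theorem Q46353 : ∀ i, i < 46353 → P i := stepQ 46352 Q46352 (allL N46352 (tt N72094 (iv1 F323887)) (tt N72093 (iv0 F323886)) (tt N70083 (iv2 F333838)) (tt N24066 (iv3 D80107)) (tt N78489 (iv4 F248948)) (tt N37128 (iv5 F321964)) (tt N25041 (iv6 F303308)) (tt N34619 F122931))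
theorem Q46354 : ∀ i, i < 46354 → P i := stepQ 46353 Q46353 (allL N46353 (tt N47089 (iv1 F128255)) (tt N24442 (iv0 F122965)) (tt N47066 (iv2 F128205)) (tt N24067 (iv3 D80120)) (tt N24495 F297035) (tt N27965 (iv5 F122978)) (tt N68508 (iv6 F343513)) (tt N47064 (iv7 F128184)))
theorem Q46355 : ∀ i, i < 46355 → P i := stepQ 46354 Q46354 (allL N46354 (tt N26159 F122964) (tt N42795 F301497) (tt N42758 (iv2 F303189)) (tt N36421 F301498) (tt N24067 (iv4 D80121)) (tt N25396 (iv5 F122970)) (tt N80289 D166900) (tt N42796 (iv7 F303185)))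
theorem Q46356 : ∀ i, i < 46356 → P i := stepQ 46355 Q46355 (allL N46355 (tt N43944 F122967) (tt N34609 F122969) (tt N34918 F125380) (tt N27965 F122977) (tt N34825 (iv4 F122968)) (tt N24067 (iv5 D80122)) (tt N80290 D166901) (tt N34922 (iv7 F125375)))
theorem Q46357 : ∀ i, i < 46357 → P i := stepQ 46356 Q46356 (allL N46356 (tt N76726 F306313) (tt N45524 F306314) (tt N63220 (iv2 F303190)) (tt N68508 (iv3 F343510)) (tt N80289 (iv4 F262760)) (tt N45987 F323614) (tt N24067 (iv6 D80123)) (tt N80291 D166905))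
theorem Q46358 : ∀ i, i < 46358 → P i := stepQ 46357 Q46357 (allL N46357 (tt N47091 (iv1 F303191)) (tt N24448 F301490) (tt N26174 F301491) (tt N24068 (iv3 D80125)) (tt N26033 (iv4 F303259)) (tt N47172 (iv5 F128474)) (tt N54403 (iv6 F304280)) (tt N26178 (iv7 F303188)))
theorem Q46359 : ∀ i, i < 46359 → P i := stepQ 46358 Q46358 (allL N46358 (tt N34609 F122988) (tt N43944 F122986) (tt N34922 (iv2 F125381)) (tt N47172 F128472) (tt N34824 F122987) (tt N24068 (iv5 D80127)) (tt N80292 D166908) (tt N34918 F125384))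
theorem Q46360 : ∀ i, i < 46360 → P i := stepQ 46359 Q46359 (allL N46359 (tt N45515 (iv1 F306776)) (tt N66374 (iv0 F324077)) (tt N63219 F304767) (tt N54403 F304768) (tt N42797 (iv4 F306048)) (tt N43970 (iv5 F306764)) (tt N24068 (iv6 D80128)) (tt N74738 (iv7 F347068)))
theorem Q46361 : ∀ i, i < 46361 → P i := stepQ 46360 Q46360 (allL N46360 (tt N47092 F340789) (tt N47947 F340790) (tt N80293 D166946) (tt N24069 (iv3 D80138)) (tt N24320 F123001) (tt N68051 (iv5 F306850)) (tt N68512 (iv6 F337064)) (tt N24121 F300417))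
theorem Q46362 : ∀ i, i < 46362 → P i := stepQ 46361 Q46361 (allL N46361 (tt N45478 F123008) (tt N45502 (iv0 F302391)) (tt N24123 F123005) (tt N68512 (iv3 F337061)) (tt N24319 F123006) (tt N34725 F123007) (tt N24069 (iv6 D80140)) (tt N58477 F323512))
theorem Q46363 : ∀ i, i < 46363 → P i := stepQ 46362 Q46362 (allL N46362 (tt N79388 (iv1 F299040)) (tt N78421 (iv0 F298997)) (tt N27981 (iv2 F299009)) (tt N24072 F123026) (tt N34809 (iv4 F299283)) (tt N31107 (iv5 F325325)) (tt N24070 (iv6 D80148)) (tt N59754 F325322))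
theorem Q46364 : ∀ i, i < 46364 → P i := stepQ 46363 Q46363 (allL N46363 (tt N45511 F254854) (tt N45523 F302119) (tt N24130 F123039) (tt N44795 F306718) (tt N24072 F123040) (tt N44379 (iv5 F323546)) (tt N24071 (iv6 D80152)) (tt N59755 F322592))
theorem Q46365 : ∀ i, i < 46365 → P i := stepQ 46364 Q46364 (allL N46364 (tt N27981 F152294) (tt N59754 (iv0 F324103)) (tt N78421 (iv2 F248756)) (tt N24197 F123092) (tt N64300 (iv4 F195682)) (tt N45880 (iv5 F123093)) (tt N24073 (iv6 D80162)) (tt N79388 (iv7 F255493)))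
theorem Q46366 : ∀ i, i < 46366 → P i := stepQ 46365 Q46365 (allL N46365 (tt N24708 (iv1 F123112)) (tt N24077 (iv0 D80167)) (tt N24705 F155802) (tt N58852 (iv3 F332188)) (tt N28255 F155405) (tt N58850 (iv5 F332203)) (tt N80294 D166999) (tt N24706 F155803))
theorem Q46367 : ∀ i, i < 46367 → P i := stepQ 46366 Q46366 (allL N46366 (tt N24077 (iv1 D80168)) (tt N24708 F123104) (tt N24706 F155810) (tt N68494 (iv3 F311496)) (tt N28256 (iv4 F155408)) (tt N79395 (iv5 F311757)) (tt N76734 (iv6 F304814)) (tt N24705 F155811))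
theorem Q46368 : ∀ i, i < 46368 → P i := stepQ 46367 Q46367 (allL N46367 (tt N24706 (iv1 F123113)) (tt N24705 F123114) (tt N24708 F123108) (tt N24083 F123109) (tt N28223 F123110) (tt N45994 F322027) (tt N24722 F123111) (tt N24077 (iv7 D80170)))
theorem Q46369 : ∀ i, i < 46369 → P i := stepQ 46368 Q46368 (allL N46368 (tt N24536 F123117) (tt N46875 (iv0 F127311)) (tt N63571 (iv2 F188138)) (tt N24078 (iv3 D80171)) (tt N24640 F123118) (tt N24501 F123115) (tt N80295 D167007) (tt N24642 F123116))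
theorem Q46370 : ∀ i, i < 46370 → P i := stepQ 46369 Q46369 (allL N46369 (tt N46142 F306881) (tt N24838 F308913) (tt N24714 F123119) (tt N80295 (iv3 F262994)) (tt N35000 F123120) (tt N69337 (iv5 F304924)) (tt N24078 (iv6 D80172)) (tt N67924 (iv7 F304925)))
theorem Q46371 : ∀ i, i < 46371 → P i := stepQ 46370 Q46370 (allL N46370 (tt N24130 F302051) (tt N59755 (iv0 F320835)) (tt N45523 F123137) (tt N68538 (iv3 F314726)) (tt N44723 F123138) (tt N64219 F193749) (tt N24081 (iv6 D80180)) (tt N45511 F302052))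
theorem Q46372 : ∀ i, i < 46372 → P i := stepQ 46371 Q46371 (allL N46371 (tt N46091 F130931) (tt N79725 (iv0 F342745)) (tt N68539 (iv2 F314731)) (tt N24082 (iv3 D80181)) (tt N44831 F300965) (tt N79398 (iv5 F303678)) (tt N45509 F300966) (tt N45521 F123139))
theorem Q46373 : ∀ i, i < 46373 → P i := stepQ 46372 Q46372 (allL N46372 (tt N80291 (iv1 F304287)) (tt N63220 (iv0 F303239)) (tt N76726 (iv2 F239778)) (tt N24084 (iv3 D80188)) (tt N25165 (iv4 F301199)) (tt N77588 (iv5 F303131)) (tt N76759 (iv6 F303241)) (tt N45524 F123157))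
theorem Q46374 : ∀ i, i < 46374 → P i := stepQ 46373 Q46373 (allL N46373 (tt N24123 (iv1 F302413)) (tt N58477 (iv0 F321834)) (tt N45502 F123160) (tt N76759 (iv3 F303240)) (tt N24085 F123161) (tt N64221 F193812) (tt N24084 (iv6 D80190)) (tt N45478 (iv7 F302378)))
theorem Q46375 : ∀ i, i < 46375 → P i := stepQ 46374 Q46374 (allL N46374 (tt N24087 (iv1 D80195)) (tt N24093 F123174) (tt N24091 F123177) (tt N24210 (iv3 F123176)) (tt N45335 F123178) (tt N40508 F325829) (tt N79388 (iv6 F299042)) (tt N24090 F123175))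
theorem Q46376 : ∀ i, i < 46376 → P i := stepQ 46375 Q46375 (allL N46375 (tt N24091 (iv1 F123189)) (tt N24090 F123190) (tt N24093 F123185) (tt N27974 F123186) (tt N34854 F123187) (tt N45623 (iv5 F298902)) (tt N34841 F123188) (tt N24087 (iv7 D80197)))
theorem Q46377 : ∀ i, i < 46377 → P i := stepQ 46376 Q46376 (allL N46376 (tt N28518 (iv1 F303336)) (tt N80296 D167068) (tt N52867 (iv2 F303333)) (tt N24089 F123203) (tt N24097 F123204) (tt N65024 (iv5 F303337)) (tt N24088 (iv6 D80201)) (tt N79166 (iv7 F253251)))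
theorem Q46378 : ∀ i, i < 46378 → P i := stepQ 46377 Q46377 (allL N46377 (tt N59754 (iv1 F324104)) (tt N27981 F300545) (tt N79388 F300546) (tt N24179 F123214) (tt N45348 F123215) (tt N58737 (iv5 F358819)) (tt N24091 (iv6 D80206)) (tt N78421 F300547))
theorem Q46379 : ∀ i, i < 46379 → P i := stepQ 46378 Q46378 (allL N46378 (tt N76734 F239804) (tt N80297 D167081) (tt N24097 F123226) (tt N24530 F123227) (tt N52867 (iv4 F303335)) (tt N28804 (iv5 F304819)) (tt N24095 (iv6 D80214)) (tt N80298 D167083))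
theorem Q46380 : ∀ i, i < 46380 → P i := stepQ 46379 Q46379 (allL N46379 (tt N64663 (iv1 F337512)) (tt N67953 (iv0 F337522)) (tt N24529 F123228) (tt N24098 F123229) (tt N49551 (iv4 F136823)) (tt N80299 D167086) (tt N24096 (iv6 D80215)) (tt N79459 (iv7 F303409)))
theorem Q46381 : ∀ i, i < 46381 → P i := stepQ 46380 Q46380 (allL N46380 (tt N80298 (iv1 F263168)) (tt N24097 (iv0 D80216)) (tt N76734 (iv2 F239805)) (tt N68554 (iv3 F333420)) (tt N28671 (iv4 F304824)) (tt N54316 (iv5 F304825)) (tt N24706 (iv6 F304826)) (tt N80297 (iv7 F263159)))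
theorem Q46382 : ∀ i, i < 46382 → P i := stepQ 46381 Q46381 (allL N46381 (tt N24097 (iv1 D80217)) (tt N80298 F263167) (tt N80297 F263160) (tt N46085 (iv3 F236164)) (tt N49644 (iv4 F307561)) (tt N54317 (iv5 F346473)) (tt N80300 D167092) (tt N76734 (iv7 F239802)))
theorem Q46383 : ∀ i, i < 46383 → P i := stepQ 46382 Q46382 (allL N46382 (tt N24801 (iv1 F304827)) (tt N28806 (iv0 F304828)) (tt N28804 (iv2 F304818)) (tt N24101 F123230) (tt N80301 D167095) (tt N24097 (iv5 D80218)) (tt N80299 (iv6 F263172)) (tt N28803 (iv7 F304834)))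
theorem Q46384 : ∀ i, i < 46384 → P i := stepQ 46383 Q46383 (allL N46383 (tt N80297 (iv1 F263158)) (tt N76734 (iv0 F239803)) (tt N80298 (iv2 F263164)) (tt N24102 F123231) (tt N79166 (iv4 F253249)) (tt N28803 (iv5 F304833)) (tt N45520 F123232) (tt N24097 (iv7 D80219)))
theorem Q46385 : ∀ i, i < 46385 → P i := stepQ 46384 Q46384 (allL N46384 (tt N24718 (iv1 F123239)) (tt N24098 (iv0 D80220)) (tt N24715 F305716) (tt N36528 (iv3 F303651)) (tt N37366 F305150) (tt N80302 D167098) (tt N36527 F300874) (tt N24716 F305717))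
theorem Q46386 : ∀ i, i < 46386 → P i := stepQ 46385 Q46385 (allL N46385 (tt N34370 (iv1 F320131)) (tt N44083 (iv0 F320127)) (tt N24717 F123234) (tt N80299 (iv3 F263171)) (tt N44139 (iv4 F320664)) (tt N24098 (iv5 D80222)) (tt N24101 F123235) (tt N44081 F318535))
theorem Q46387 : ∀ i, i < 46387 → P i := stepQ 46386 Q46386 (allL N46386 (tt N24716 (iv1 F123240)) (tt N24715 F123241) (tt N24718 F123236) (tt N79459 (iv3 F303407)) (tt N37370 F305600) (tt N44081 (iv5 F316258)) (tt N44933 F313491) (tt N24098 (iv7 D80223)))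
theorem Q46388 : ∀ i, i < 46388 → P i := stepQ 46387 Q46387 (allL N46387 (tt N76731 F239793) (tt N63572 F254843) (tt N68541 (iv2 F314737)) (tt N24099 (iv3 D80224)) (tt N44825 F300894) (tt N79424 (iv5 F303671)) (tt N38078 F312346) (tt N45510 F123243))
theorem Q46389 : ∀ i, i < 46389 → P i := stepQ 46388 Q46388 (allL N46388 (tt N46874 F334202) (tt N38081 F334204) (tt N80303 D167114) (tt N24100 (iv3 D80227)) (tt N44838 F123248) (tt N43711 (iv5 F315035)) (tt N80304 D167116) (tt N45509 F123249))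
theorem Q46390 : ∀ i, i < 46390 → P i := stepQ 46389 Q46389 (allL N46389 (tt N59755 (iv1 F320836)) (tt N24130 (iv0 F123255)) (tt N45511 F123253) (tt N80304 (iv3 F263215)) (tt N44837 F123254) (tt N44888 F318678) (tt N24100 (iv6 D80229)) (tt N45523 F302388))
theorem Q46391 : ∀ i, i < 46391 → P i := stepQ 46390 Q46390 (allL N46390 (tt N45513 (iv1 F123262)) (tt N45512 F123264) (tt N45514 F123259) (tt N28803 (iv3 F304832)) (tt N41579 F324235) (tt N24102 F123260) (tt N45754 F324236) (tt N24101 (iv7 D80233)))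
theorem Q46392 : ∀ i, i < 46392 → P i := stepQ 46391 Q46391 (allL N46391 (tt N58477 (iv1 F321835)) (tt N24123 F123403) (tt N45478 F123275) (tt N63052 (iv3 F303209)) (tt N24105 F123276) (tt N64018 (iv5 F316417)) (tt N24104 (iv6 D80238)) (tt N45502 (iv7 F302392)))
theorem Q46393 : ∀ i, i < 46393 → P i := stepQ 46392 Q46392 (allL N46392 (tt N47066 F128209) (tt N47064 (iv0 F128186)) (tt N24442 F123321) (tt N24107 (iv3 D80253)) (tt N66836 (iv4 F205792)) (tt N24441 F123322) (tt N76751 (iv6 F312094)) (tt N47089 (iv7 F128254)))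
theorem Q46394 : ∀ i, i < 46394 → P i := stepQ 46393 Q46393 (allL N46393 (tt N24121 (iv1 F312088)) (tt N80293 (iv0 F312089)) (tt N47092 (iv2 F128276)) (tt N76751 (iv3 F312093)) (tt N68499 (iv4 F306999)) (tt N37117 F322468) (tt N24107 (iv6 D80255)) (tt N47947 F305456))
theorem Q46395 : ∀ i, i < 46395 → P i := stepQ 46394 Q46394 (allL N46394 (tt N24109 (iv1 D80258)) (tt N47960 (iv0 F130183)) (tt N29774 F123333) (tt N34017 (iv3 F123335)) (tt N37607 F305882) (tt N34306 F123334) (tt N78596 (iv6 F301228)) (tt N43096 F123331))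
theorem Q46396 : ∀ i, i < 46396 → P i := stepQ 46395 Q46395 (allL N46395 (tt N46912 F129629) (tt N47110 F188031) (tt N34190 F123343) (tt N24112 F123344) (tt N43995 F123345) (tt N46464 (iv5 F316538)) (tt N24110 (iv6 D80261)) (tt N47109 (iv7 F128301)))
theorem Q46397 : ∀ i, i < 46397 → P i := stepQ 46396 Q46396 (allL N46396 (tt N46171 (iv1 F330821)) (tt N45922 F330814) (tt N46341 F330831) (tt N24113 F123347) (tt N45861 (iv4 F320937)) (tt N24111 (iv5 D80264)) (tt N46464 F318809) (tt N45861 (iv7 F320938)))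
theorem Q46398 : ∀ i, i < 46398 → P i := stepQ 46397 Q46397 (allL N46397 (tt N26178 (iv1 F303187)) (tt N26174 F300388) (tt N47091 (iv2 F303192)) (tt N24115 (iv3 D80274)) (tt N28421 F300389) (tt N42774 F123361) (tt N47096 (iv6 F303194)) (tt N24448 (iv7 F301230)))
theorem Q46399 : ∀ i, i < 46399 → P i := stepQ 46398 Q46398 (allL N46398 (tt N80293 (iv1 F312090)) (tt N24121 (iv0 F312087)) (tt N47947 (iv2 F130119)) (tt N47096 (iv3 F303193)) (tt N68557 (iv4 F309311)) (tt N37059 F319575) (tt N24115 (iv6 D80275)) (tt N47092 (iv7 F303197)))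
theorem Q46400 : ∀ i, i < 46400 → P i := stepQ 46399 Q46399 (allL N46399 (tt N24117 (iv1 D80278)) (tt N47965 F130197) (tt N47963 (iv2 F316775)) (tt N47185 (iv3 F319019)) (tt N42515 (iv4 F319020)) (tt N74713 (iv5 F342400)) (tt N68515 (iv6 F319021)) (tt N42514 F316650))
theorem Q46401 : ∀ i, i < 46401 → P i := stepQ 46400 Q46400 (allL N46400 (tt N80305 D167233) (tt N80306 D167234) (tt N47964 (iv2 F130193)) (tt N24119 F123363) (tt N80307 D167235) (tt N24117 (iv5 D80279)) (tt N34181 F123364) (tt N45605 (iv7 F303199)))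
theorem Q46402 : ∀ i, i < 46402 → P i := stepQ 46401 Q46401 (allL N46401 (tt N47963 (iv1 F130192)) (tt N42514 F314432) (tt N47965 (iv2 F130195)) (tt N24120 F123365) (tt N52370 (iv4 F149008)) (tt N45605 (iv5 F303198)) (tt N47950 (iv6 F130125)) (tt N24117 (iv7 D80280)))
theorem Q46403 : ∀ i, i < 46403 → P i := stepQ 46402 Q46402 (allL N46402 (tt N45590 (iv1 F123374)) (tt N24118 (iv0 D80281)) (tt N45588 F308032) (tt N46926 (iv3 F131632)) (tt N37371 F303985) (tt N73427 (iv5 F306087)) (tt N47038 F310116) (tt N37071 F308033))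
theorem Q46404 : ∀ i, i < 46404 → P i := stepQ 46403 Q46403 (allL N46403 (tt N37071 (iv1 F306036)) (tt N45588 F123376) (tt N45590 F123370) (tt N34182 F123371) (tt N37505 F303987) (tt N63779 (iv5 F314139)) (tt N44946 F311682) (tt N24118 (iv7 D80284)))
theorem Q46405 : ∀ i, i < 46405 → P i := stepQ 46404 Q46404 (allL N46404 (tt N47947 (iv1 F340787)) (tt N47092 (iv0 F340788)) (tt N24121 (iv2 D80311)) (tt N80293 (iv3 F262790)) (tt N78595 F303002) (tt N80308 D167342) (tt N80309 D167343) (tt N80293 (iv7 F303284)))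
theorem Q46406 : ∀ i, i < 46406 → P i := stepQ 46405 Q46405 (allL N46405 (tt N52367 (iv1 F300242)) (tt N78596 (iv0 F301226)) (tt N78595 (iv2 F301225)) (tt N24260 F297915) (tt N24121 (iv4 D80312)) (tt N80310 D167345) (tt N78726 (iv6 F300259)) (tt N24320 (iv7 F299183)))
theorem Q46407 : ∀ i, i < 46407 → P i := stepQ 46406 Q46406 (allL N46406 (tt N80311 D167347) (tt N68470 (iv0 F337666)) (tt N80308 (iv2 F263476)) (tt N24122 F123394) (tt N80312 D167349) (tt N24121 (iv5 D80313)) (tt N68232 (iv6 F309524)) (tt N68051 F307464))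
theorem Q46408 : ∀ i, i < 46408 → P i := stepQ 46407 Q46407 (allL N46407 (tt N80313 D167351) (tt N75212 (iv0 F350913)) (tt N80309 (iv2 F263477)) (tt N24123 F123395) (tt N78726 F303003) (tt N78189 (iv5 F321813)) (tt N24121 (iv6 D80314)) (tt N80314 D167354))
theorem Q46409 : ∀ i, i < 46409 → P i := stepQ 46408 Q46408 (allL N46408 (tt N45502 F302592) (tt N45478 (iv0 F192009)) (tt N58477 F323508) (tt N80314 (iv3 F263488)) (tt N31309 (iv4 F324124)) (tt N34724 (iv5 F128450)) (tt N58477 F323509) (tt N24123 (iv7 D80322)))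
theorem Q46410 : ∀ i, i < 46410 → P i := stepQ 46409 Q46409 (allL N46409 (tt N35161 (iv1 F299275)) (tt N25469 (iv0 F123455)) (tt N24126 F123424) (tt N27980 (iv3 F299008)) (tt N25244 F123427) (tt N24124 (iv5 D80347)) (tt N34455 (iv6 F298444)) (tt N27980 F123426))
theorem Q46411 : ∀ i, i < 46411 → P i := stepQ 46410 Q46410 (allL N46410 (tt N45505 (iv1 F194674)) (tt N45516 (iv0 F299051)) (tt N24127 F123432) (tt N27981 (iv3 F299010)) (tt N34807 F123434) (tt N54842 F158033) (tt N24124 (iv6 D80348)) (tt N80315 D167435))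
theorem Q46412 : ∀ i, i < 46412 → P i := stepQ 46411 Q46411 (allL N46411 (tt N25246 F123439) (tt N64516 (iv0 F304434)) (tt N34806 F123437) (tt N52888 (iv3 F308588)) (tt N80316 D167442) (tt N24125 (iv5 D80350)) (tt N80317 D167443) (tt N34808 F123438))
theorem Q46413 : ∀ i, i < 46413 → P i := stepQ 46412 Q46412 (allL N46412 (tt N44935 F123443) (tt N34531 (iv0 F302673)) (tt N34807 F123440) (tt N52889 (iv3 F308589)) (tt N24127 F123441) (tt N25020 F123442) (tt N24125 (iv6 D80351)) (tt N80318 D167445))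
theorem Q46414 : ∀ i, i < 46414 → P i := stepQ 46413 Q46413 (allL N46413 (tt N27980 (iv1 F123445)) (tt N24126 (iv0 D80352)) (tt N35161 (iv2 F299276)) (tt N24194 (iv3 F123446)) (tt N34940 (iv4 F301736)) (tt N25469 F123444) (tt N27347 F299018) (tt N25469 F123447))
theorem Q46415 : ∀ i, i < 46415 → P i := stepQ 46414 Q46414 (allL N46414 (tt N24126 (iv1 D80353)) (tt N27980 F123448) (tt N25469 (iv2 F123449)) (tt N24175 F298963) (tt N35165 (iv4 F301608)) (tt N35161 (iv5 F299277)) (tt N25467 F123451) (tt N35161 (iv7 F299278)))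
theorem Q46416 : ∀ i, i < 46416 → P i := stepQ 46415 Q46415 (allL N46415 (tt N80315 (iv1 F263561)) (tt N24127 (iv0 D80356)) (tt N45505 F135873) (tt N24167 F135874) (tt N63970 (iv4 F299232)) (tt N45635 (iv5 F299029)) (tt N24164 F135875) (tt N45516 (iv7 F299054)))
theorem Q46417 : ∀ i, i < 46417 → P i := stepQ 46416 Q46416 (allL N46416 (tt N24127 (iv1 D80357)) (tt N80315 F263560) (tt N45516 F300562) (tt N24148 F300563) (tt N63900 (iv4 F302440)) (tt N45636 F300564) (tt N24146 F300565) (tt N45505 F135872))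
theorem Q46418 : ∀ i, i < 46418 → P i := stepQ 46417 Q46417 (allL N46417 (tt N45516 F301657) (tt N45505 F194676) (tt N80315 (iv2 F263555)) (tt N24133 F123467) (tt N80318 (iv4 F263591)) (tt N31065 (iv5 F325327)) (tt N59754 F325321) (tt N24127 (iv7 D80359)))
theorem Q46419 : ∀ i, i < 46419 → P i := stepQ 46418 Q46418 (allL N46418 (tt N80319 D167465) (tt N68257 (iv0 F331837)) (tt N44792 F306710) (tt N24129 F123472) (tt N50894 (iv4 F340912)) (tt N24128 (iv5 D80365)) (tt N50286 (iv6 F317744)) (tt N44794 F306711))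
theorem Q46420 : ∀ i, i < 46420 → P i := stepQ 46419 Q46419 (allL N46419 (tt N80320 D167469) (tt N61581 (iv0 F334792)) (tt N44793 F306712) (tt N24130 F123473) (tt N52889 (iv4 F308590)) (tt N24795 (iv5 F308605)) (tt N24128 (iv6 D80366)) (tt N80321 D167472))
theorem Q46421 : ∀ i, i < 46421 → P i := stepQ 46420 Q46420 (allL N46420 (tt N45523 F303227) (tt N45511 (iv0 F128461)) (tt N59755 F322590) (tt N80321 (iv3 F263627)) (tt N24133 F123480) (tt N62596 (iv5 F323550)) (tt N59755 F322591) (tt N24130 (iv7 D80373)))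
theorem Q46422 : ∀ i, i < 46422 → P i := stepQ 46421 Q46421 (allL N46421 (tt N38109 (iv1 F305447)) (tt N38109 (iv0 F305446)) (tt N45563 (iv2 F300354)) (tt N35436 (iv3 F302759)) (tt N24131 (iv4 D80374)) (tt N36970 F305121) (tt N25365 F299926) (tt N45563 F123482))
theorem Q46423 : ∀ i, i < 46423 → P i := stepQ 46422 Q46422 (allL N46422 (tt N24132 (iv1 F303079)) (tt N24132 (iv0 D80376)) (tt N24862 F300370) (tt N80322 D167490) (tt N24859 F300371) (tt N37871 F305443) (tt N24858 F300372) (tt N24862 (iv7 F123494)))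
theorem Q46424 : ∀ i, i < 46424 → P i := stepQ 46423 Q46423 (allL N46423 (tt N80323 D167492) (tt N78582 (iv0 F307531)) (tt N78609 (iv2 F307532)) (tt N24132 (iv3 D80378)) (tt N64564 F305422) (tt N37236 F307526) (tt N45538 F305423) (tt N28800 (iv7 F307533)))
theorem Q46425 : ∀ i, i < 46425 → P i := stepQ 46424 Q46424 (allL N46424 (tt N36435 (iv1 F123577)) (tt N24134 (iv0 D80408)) (tt N45419 F156520) (tt N34060 (iv3 F298331)) (tt N33947 F305798) (tt N43767 F123575) (tt N27982 (iv6 F298333)) (tt N45418 (iv7 F156519)))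
theorem Q46426 : ∀ i, i < 46426 → P i := stepQ 46425 Q46425 (allL N46425 (tt N24134 (iv1 D80409)) (tt N36435 F123578) (tt N45418 (iv2 F156518)) (tt N45576 (iv3 F298334)) (tt N33948 F305801) (tt N43766 F123579) (tt N46851 (iv6 F298335)) (tt N45419 F156521))
theorem Q46427 : ∀ i, i < 46427 → P i := stepQ 46426 Q46426 (allL N46426 (tt N33956 (iv1 F310581)) (tt N33958 (iv0 F310582)) (tt N34416 F308479) (tt N24135 F123582) (tt N30679 F308480) (tt N78372 (iv5 F347925)) (tt N24134 (iv6 D80410)) (tt N34417 (iv7 F310583)))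
theorem Q46428 : ∀ i, i < 46428 → P i := stepQ 46427 Q46427 (allL N46427 (tt N24566 (iv1 F298342)) (tt N24563 (iv0 F298343)) (tt N24144 F123588) (tt N78372 (iv3 F347924)) (tt N47506 (iv4 F298344)) (tt N24135 (iv5 D80412)) (tt N78370 (iv6 F347971)) (tt N24850 (iv7 F298346)))
theorem Q46429 : ∀ i, i < 46429 → P i := stepQ 46428 Q46428 (allL N46428 (tt N24143 (iv1 F123592)) (tt N24142 F123593) (tt N24145 F123589) (tt N34417 F312861) (tt N24138 F123590) (tt N24850 (iv5 F298345)) (tt N44828 (iv6 F297021)) (tt N24135 (iv7 D80413)))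
theorem Q46430 : ∀ i, i < 46430 → P i := stepQ 46429 Q46429 (allL N46429 (tt N47504 (iv1 F298163)) (tt N24387 (iv0 F123596)) (tt N24147 F123594) (tt N69346 (iv3 F308401)) (tt N24136 (iv4 D80414)) (tt N24557 (iv5 F298348)) (tt N64272 (iv6 F194739)) (tt N24150 F123595))
theorem Q46431 : ∀ i, i < 46431 → P i := stepQ 46430 Q46430 (allL N46430 (tt N80324 D167564) (tt N80325 D167565) (tt N24578 F123616) (tt N75368 (iv3 F308688)) (tt N48389 (iv4 F132306)) (tt N75772 (iv5 F361352)) (tt N24139 (iv6 D80422)) (tt N80326 D167567))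
theorem Q46432 : ∀ i, i < 46432 → P i := stepQ 46431 Q46431 (allL N46431 (tt N80327 D167568) (tt N80328 D167569) (tt N45436 F123617) (tt N38236 (iv3 F325428)) (tt N47016 F319552) (tt N39254 (iv5 F325430)) (tt N24140 (iv6 D80423)) (tt N47521 (iv7 F321529)))
theorem Q46433 : ∀ i, i < 46433 → P i := stepQ 46432 Q46432 (allL N46432 (tt N79281 (iv1 F253897)) (tt N24141 (iv0 D80424)) (tt N79280 (iv2 F352167)) (tt N75276 (iv3 F350791)) (tt N80329 D167574) (tt N61286 (iv5 F359839)) (tt N80330 D167576) (tt N75338 (iv7 F352165)))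
theorem Q46434 : ∀ i, i < 46434 → P i := stepQ 46433 Q46433 (allL N46433 (tt N24141 (iv1 D80425)) (tt N79281 F253896) (tt N75338 (iv2 F352164)) (tt N73701 (iv3 F352182)) (tt N80331 D167579) (tt N61287 (iv5 F359835)) (tt N80332 D167581) (tt N79280 (iv7 F352168)))
theorem Q46435 : ∀ i, i < 46435 → P i := stepQ 46434 Q46434 (allL N46434 (tt N80333 D167582) (tt N73698 (iv0 F355110)) (tt N78370 (iv2 F347969)) (tt N75768 (iv3 F233858)) (tt N79063 (iv4 F355113)) (tt N24141 (iv5 D80426)) (tt N24144 F123619) (tt N80334 D167585))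
theorem Q46436 : ∀ i, i < 46436 → P i := stepQ 46435 Q46435 (allL N46435 (tt N75338 (iv1 F350711)) (tt N79280 F253895) (tt N79281 (iv2 F253892)) (tt N75769 (iv3 F233860)) (tt N79264 (iv4 F253764)) (tt N80334 (iv5 F263839)) (tt N45442 F123620) (tt N24141 (iv7 D80427)))
theorem Q46437 : ∀ i, i < 46437 → P i := stepQ 46436 Q46436 (allL N46436 (tt N80335 D167586) (tt N46890 (iv0 F301465)) (tt N80336 D167588) (tt N24142 (iv3 D80428)) (tt N45521 F123621) (tt N66990 (iv5 F336902)) (tt N80337 D167590) (tt N44831 F298797))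
theorem Q46438 : ∀ i, i < 46438 → P i := stepQ 46437 Q46437 (allL N46437 (tt N47021 (iv1 F301081)) (tt N27971 F298798) (tt N44815 F123622) (tt N66990 (iv3 F336901)) (tt N47017 (iv4 F301466)) (tt N24142 (iv5 D80429)) (tt N80338 D167592) (tt N44832 F298799))
theorem Q46439 : ∀ i, i < 46439 → P i := stepQ 46438 Q46438 (allL N46438 (tt N28014 F298800) (tt N46850 (iv0 F299365)) (tt N44816 F123623) (tt N80337 (iv3 F263843)) (tt N34821 F298801) (tt N47211 F298802) (tt N24142 (iv6 D80430)) (tt N44840 (iv7 F299497)))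
theorem Q46440 : ∀ i, i < 46440 → P i := stepQ 46439 Q46439 (allL N46439 (tt N46787 F325529) (tt N80339 D167594) (tt N38631 F321348) (tt N24143 (iv3 D80431)) (tt N33971 F321349) (tt N80340 D167596) (tt N38639 F330189) (tt N38633 F321350))
theorem Q46441 : ∀ i, i < 46441 → P i := stepQ 46440 Q46440 (allL N46440 (tt N27971 F298803) (tt N47021 (iv0 F301080)) (tt N44832 F298804) (tt N80340 (iv3 F263857)) (tt N47018 (iv4 F301467)) (tt N24143 (iv5 D80432)) (tt N55782 (iv6 F355840)) (tt N44815 F123627))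
theorem Q46442 : ∀ i, i < 46442 → P i := stepQ 46441 Q46441 (allL N46441 (tt N38025 F315831) (tt N47006 (iv0 F301475)) (tt N47506 F298824) (tt N74449 (iv3 F335157)) (tt N24144 (iv4 D80436)) (tt N37317 (iv5 F316622)) (tt N79063 (iv6 F355114)) (tt N47507 (iv7 F301479)))
theorem Q46443 : ∀ i, i < 46443 → P i := stepQ 46442 Q46442 (allL N46442 (tt N24563 F298825) (tt N24566 F298826) (tt N24850 F298827) (tt N75198 (iv3 F333951)) (tt N47507 (iv4 F301478)) (tt N24145 F123632) (tt N80341 D167611) (tt N24144 (iv7 D80437)))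
theorem Q46444 : ∀ i, i < 46444 → P i := stepQ 46443 Q46443 (allL N46443 (tt N70085 (iv1 F344791)) (tt N63210 (iv0 F344785)) (tt N80342 D167614) (tt N24147 (iv3 D80440)) (tt N63898 (iv4 F191572)) (tt N24823 (iv5 F302295)) (tt N80343 D167616) (tt N63973 (iv7 F191928)))
theorem Q46445 : ∀ i, i < 46445 → P i := stepQ 46444 Q46444 (allL N46444 (tt N24474 F300630) (tt N47241 (iv0 F302425)) (tt N64272 (iv2 F194738)) (tt N80343 (iv3 F263870)) (tt N24148 F123644) (tt N65140 F300631) (tt N24147 (iv6 D80442)) (tt N64271 (iv7 F194736)))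
theorem Q46446 : ∀ i, i < 46446 → P i := stepQ 46445 Q46445 (allL N46445 (tt N42821 (iv1 F123664)) (tt N24152 (iv0 D80453)) (tt N45498 F123666) (tt N37571 F305429) (tt N63223 (iv4 F305814)) (tt N28715 (iv5 F123665)) (tt N46622 F312086) (tt N37611 F305430))
theorem Q46447 : ∀ i, i < 46447 → P i := stepQ 46446 Q46446 (allL N46446 (tt N24152 (iv1 D80454)) (tt N42821 F123668) (tt N37611 F305427) (tt N48767 (iv3 F134436)) (tt N63222 (iv4 F305807)) (tt N28716 F123670) (tt N27733 F298493) (tt N45498 F123669))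
theorem Q46448 : ∀ i, i < 46448 → P i := stepQ 46447 Q46447 (allL N46447 (tt N80344 D167641) (tt N80345 D167642) (tt N75791 (iv2 F233949)) (tt N24153 F123672) (tt N45421 F123673) (tt N80346 D167643) (tt N24152 (iv6 D80455)) (tt N75823 (iv7 F309199)))
theorem Q46449 : ∀ i, i < 46449 → P i := stepQ 46448 Q46448 (allL N46448 (tt N24153 (iv1 D80456)) (tt N24161 F123674) (tt N24159 F123677) (tt N30683 F307210) (tt N27748 (iv4 F297585)) (tt N47726 (iv5 F299112)) (tt N44907 (iv6 F299116)) (tt N24158 F123675))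
theorem Q46450 : ∀ i, i < 46450 → P i := stepQ 46449 Q46449 (allL N46449 (tt N24918 (iv1 F297601)) (tt N24950 (iv0 F299117)) (tt N24160 F123678) (tt N80346 (iv3 F263922)) (tt N80347 D167648) (tt N24153 (iv5 D80457)) (tt N48567 (iv6 F133482)) (tt N24948 (iv7 F299126)))
theorem Q46451 : ∀ i, i < 46451 → P i := stepQ 46450 Q46450 (allL N46450 (tt N24159 (iv1 F123682)) (tt N24158 F123683) (tt N24161 F123679) (tt N75823 (iv3 F309198)) (tt N24156 F123680) (tt N24948 (iv5 F299125)) (tt N30678 F307229) (tt N24153 (iv7 D80458)))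
theorem Q46452 : ∀ i, i < 46452 → P i := stepQ 46451 Q46451 (allL N46451 (tt N37442 F307744) (tt N24273 (iv0 F123687)) (tt N24162 F123684) (tt N44541 F307745) (tt N24154 (iv4 D80459)) (tt N62449 (iv5 F322214)) (tt N24271 F297123) (tt N24165 F123686))
theorem Q46453 : ∀ i, i < 46453 → P i := stepQ 46452 Q46452 (allL N46452 (tt N42876 (iv1 F306650)) (tt N77089 (iv0 F306651)) (tt N48567 (iv2 F133481)) (tt N42889 (iv3 F305237)) (tt N78233 (iv4 F361906)) (tt N24157 (iv5 D80463)) (tt N24160 F123691) (tt N36479 (iv7 F305235)))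
theorem Q46454 : ∀ i, i < 46454 → P i := stepQ 46453 Q46453 (allL N46453 (tt N47678 (iv1 F299770)) (tt N40596 F322807) (tt N47725 (iv2 F299107)) (tt N44487 F307230) (tt N80348 D167672) (tt N24158 (iv5 D80466)) (tt N77784 (iv6 F309203)) (tt N47726 (iv7 F299113)))
theorem Q46455 : ∀ i, i < 46455 → P i := stepQ 46454 Q46454 (allL N46454 (tt N48766 (iv1 F313840)) (tt N57454 (iv0 F313841)) (tt N44485 (iv2 F313842)) (tt N24159 (iv3 D80468)) (tt N71962 (iv4 F339039)) (tt N80349 D167677) (tt N80350 D167678) (tt N57463 F311409))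
theorem Q46456 : ∀ i, i < 46456 → P i := stepQ 46455 Q46455 (allL N46455 (tt N40596 F322808) (tt N47678 (iv0 F299769)) (tt N47726 (iv2 F299111)) (tt N80349 (iv3 F263959)) (tt N80351 D167679) (tt N24159 (iv5 D80469)) (tt N80352 D167680) (tt N47725 (iv7 F299109)))
theorem Q46457 : ∀ i, i < 46457 → P i := stepQ 46456 Q46456 (allL N46456 (tt N44905 (iv1 F299403)) (tt N40442 F324364) (tt N44907 (iv2 F299114)) (tt N80350 (iv3 F263960)) (tt N44903 F297845) (tt N47697 (iv5 F300138)) (tt N24159 (iv6 D80470)) (tt N44528 F314572))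
theorem Q46458 : ∀ i, i < 46458 → P i := stepQ 46457 Q46457 (allL N46457 (tt N24160 (iv1 D80472)) (tt N24948 (iv0 F299123)) (tt N24950 (iv2 F299119)) (tt N78817 F311376) (tt N77132 (iv4 F312881)) (tt N24919 F297847) (tt N80353 D167686) (tt N24918 F297848))
theorem Q46459 : ∀ i, i < 46459 → P i := stepQ 46458 Q46458 (allL N46458 (tt N80354 D167687) (tt N80355 D167688) (tt N80347 (iv2 F263936)) (tt N71681 (iv3 F360991)) (tt N24160 (iv4 D80473)) (tt N80356 D167690) (tt N78233 (iv6 F361907)) (tt N80357 D167691))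
theorem Q46460 : ∀ i, i < 46460 → P i := stepQ 46459 Q46459 (allL N46459 (tt N24950 (iv1 F299118)) (tt N24918 F297849) (tt N24948 (iv2 F299124)) (tt N42907 (iv3 F309052)) (tt N80357 (iv4 F263964)) (tt N24161 F123695) (tt N36354 (iv6 F310462)) (tt N24160 (iv7 D80474)))
theorem Q46461 : ∀ i, i < 46461 → P i := stepQ 46460 Q46460 (allL N46460 (tt N24962 (iv1 F300169)) (tt N24956 (iv0 F300170)) (tt N74655 (iv2 F326470)) (tt N80358 D167709) (tt N24163 (iv4 D80480)) (tt N60592 (iv5 F331150)) (tt N64085 (iv6 F192982)) (tt N74654 (iv7 F326468)))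
theorem Q46462 : ∀ i, i < 46462 → P i := stepQ 46461 Q46461 (allL N46461 (tt N42722 F297861) (tt N34120 F307607) (tt N43165 F307608) (tt N24165 (iv3 D80483)) (tt N64308 (iv4 F195795)) (tt N62483 (iv5 F318265)) (tt N80359 D167717) (tt N44541 F307609))
theorem Q46463 : ∀ i, i < 46463 → P i := stepQ 46462 Q46462 (allL N46462 (tt N69415 (iv1 F310653)) (tt N24330 (iv0 F299182)) (tt N64268 (iv2 F194664)) (tt N80359 (iv3 F264021)) (tt N24167 F123711) (tt N52356 (iv5 F300029)) (tt N24165 (iv6 D80485)) (tt N52379 (iv7 F299604)))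
theorem Q46464 : ∀ i, i < 46464 → P i := stepQ 46463 Q46463 (allL N46463 (tt N24956 (iv1 F300171)) (tt N24962 (iv0 F300168)) (tt N74654 (iv2 F326464)) (tt N80360 D167722) (tt N24166 (iv4 D80486)) (tt N60591 (iv5 F331146)) (tt N70723 (iv6 F330377)) (tt N74655 (iv7 F326474)))
theorem Q46465 : ∀ i, i < 46465 → P i := stepQ 46464 Q46464 (allL N46464 (tt N80189 (iv1 F350680)) (tt N80196 (iv0 F330741)) (tt N63553 (iv2 F318807)) (tt N24169 (iv3 D80491)) (tt N64089 (iv4 F305251)) (tt N46395 F316538) (tt N46396 (iv6 F318809)) (tt N45477 F123721))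
theorem Q46466 : ∀ i, i < 46466 → P i := stepQ 46465 Q46465 (allL N46465 (tt N24567 (iv1 F300726)) (tt N24872 F300665) (tt N24177 F123727) (tt N67905 (iv3 F314283)) (tt N24170 (iv4 D80497)) (tt N24470 F300666) (tt N24508 F300667) (tt N24870 F300668))
theorem Q46467 : ∀ i, i < 46467 → P i := stepQ 46466 Q46466 (allL N46466 (tt N24180 (iv1 F123746)) (tt N24179 F123747) (tt N24181 F123743) (tt N46241 F123744) (tt N44820 (iv4 F300439)) (tt N34740 F123745) (tt N28015 (iv6 F298355)) (tt N24171 (iv7 D80499)))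
theorem Q46468 : ∀ i, i < 46468 → P i := stepQ 46467 Q46467 (allL N46467 (tt N36490 (iv1 F188333)) (tt N24172 (iv0 D80502)) (tt N42897 (iv2 F190213)) (tt N65412 (iv3 F353901)) (tt N43446 (iv4 F190214)) (tt N65410 (iv5 F353896)) (tt N27988 F300764) (tt N42811 F190212))
theorem Q46469 : ∀ i, i < 46469 → P i := stepQ 46468 Q46468 (allL N46468 (tt N42897 (iv1 F123755)) (tt N42811 (iv0 F190178)) (tt N24172 (iv2 D80504)) (tt N46852 (iv3 F301508)) (tt N24183 F123751) (tt N80361 D167760) (tt N80362 D167761) (tt N36490 (iv7 F188335)))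
theorem Q46470 : ∀ i, i < 46470 → P i := stepQ 46469 Q46469 (allL N46469 (tt N80363 D167762) (tt N75206 (iv0 F344683)) (tt N80361 (iv2 F264107)) (tt N24173 F123756) (tt N80364 D167764) (tt N24172 (iv5 D80505)) (tt N80365 D167765) (tt N42898 F123757))
theorem Q46471 : ∀ i, i < 46471 → P i := stepQ 46470 Q46470 (allL N46470 (tt N80366 D167766) (tt N80367 D167767) (tt N80362 (iv2 F264111)) (tt N24174 F123758) (tt N24184 F123759) (tt N66986 F206312) (tt N24172 (iv6 D80506)) (tt N75971 (iv7 F234857)))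
theorem Q46472 : ∀ i, i < 46472 → P i := stepQ 46471 Q46471 (allL N46471 (tt N28013 F301014) (tt N24173 (iv0 D80507)) (tt N46847 F301015) (tt N80368 D167768) (tt N80369 D167769) (tt N24872 F301016) (tt N80370 D167770) (tt N24871 (iv7 F301510)))
theorem Q46473 : ∀ i, i < 46473 → P i := stepQ 46472 Q46472 (allL N46472 (tt N24173 (iv1 D80508)) (tt N28013 F301017) (tt N24871 (iv2 F301509)) (tt N80371 D167771) (tt N80372 D167772) (tt N24567 F301018) (tt N59992 (iv6 F330302)) (tt N46847 F301019))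
theorem Q46474 : ∀ i, i < 46474 → P i := stepQ 46473 Q46473 (allL N46473 (tt N80373 D167774) (tt N47519 (iv0 F303720)) (tt N46854 (iv2 F301511)) (tt N65649 (iv3 F345722)) (tt N24173 (iv4 D80509)) (tt N52836 F301020) (tt N80374 D167778) (tt N46848 (iv7 F301516)))
theorem Q46475 : ∀ i, i < 46475 → P i := stepQ 46474 Q46474 (allL N46474 (tt N80375 D167779) (tt N80376 D167780) (tt N46855 (iv2 F301512)) (tt N80365 (iv3 F264128)) (tt N80374 (iv4 F264148)) (tt N80377 D167781) (tt N24173 (iv6 D80510)) (tt N80378 D167782))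
theorem Q46476 : ∀ i, i < 46476 → P i := stepQ 46475 Q46475 (allL N46475 (tt N44820 (iv1 F300438)) (tt N24174 (iv0 D80511)) (tt N44821 F298791) (tt N80379 D167783) (tt N44728 F298792) (tt N28868 F328330) (tt N44830 F298793) (tt N44726 (iv7 F299508)))
theorem Q46477 : ∀ i, i < 46477 → P i := stepQ 46476 Q46476 (allL N46476 (tt N24881 F301021) (tt N24877 F301022) (tt N46856 F301023) (tt N66986 (iv3 F206313)) (tt N53681 (iv4 F328702)) (tt N24174 (iv5 D80513)) (tt N80377 (iv6 F264149)) (tt N80380 D167786))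
theorem Q46478 : ∀ i, i < 46478 → P i := stepQ 46477 Q46477 (allL N46477 (tt N44726 F300497) (tt N44821 F300498) (tt N44820 F300499) (tt N75971 (iv3 F234856)) (tt N24181 F123765) (tt N80380 (iv5 F264158)) (tt N46850 F300500) (tt N24174 (iv7 D80514)))
theorem Q46479 : ∀ i, i < 46479 → P i := stepQ 46478 Q46478 (allL N46478 (tt N80381 D167794) (tt N67034 F206394) (tt N79773 (iv2 F344679)) (tt N24177 (iv3 D80519)) (tt N24186 F123782) (tt N77027 (iv5 F241418)) (tt N24612 (iv6 F302292)) (tt N45684 F123783))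
theorem Q46480 : ∀ i, i < 46480 → P i := stepQ 46479 Q46479 (allL N46479 (tt N33883 F187619) (tt N63479 (iv0 F187618)) (tt N66864 F303433) (tt N24182 (iv3 D80527)) (tt N43395 F123800) (tt N80382 D167806) (tt N36423 F188323) (tt N32818 F188324))
theorem Q46481 : ∀ i, i < 46481 → P i := stepQ 46480 Q46480 (allL N46480 (tt N36487 (iv1 F188366)) (tt N36486 F188373) (tt N36489 (iv2 F188364)) (tt N43191 F304857) (tt N24182 (iv4 D80528)) (tt N45671 F333990) (tt N36450 (iv6 F188365)) (tt N36451 F188359))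
theorem Q46482 : ∀ i, i < 46482 → P i := stepQ 46481 Q46481 (allL N46481 (tt N36493 (iv1 F188362)) (tt N33904 (iv0 F190681)) (tt N36495 (iv2 F188361)) (tt N80382 (iv3 F264231)) (tt N80383 D167809) (tt N24182 (iv5 D80529)) (tt N78319 (iv6 F248075)) (tt N36456 F188360))
theorem Q46483 : ∀ i, i < 46483 → P i := stepQ 46482 Q46482 (allL N46482 (tt N42819 F205848) (tt N69674 (iv0 F310796)) (tt N24184 F123808) (tt N42891 F123809) (tt N80362 (iv4 F264112)) (tt N40737 F319317) (tt N24183 (iv6 D80537)) (tt N66949 (iv7 F206209)))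
theorem Q46484 : ∀ i, i < 46484 → P i := stepQ 46483 Q46483 (allL N46483 (tt N66949 (iv1 F206214)) (tt N24184 (iv0 D80542)) (tt N42819 (iv2 F234263)) (tt N75820 (iv3 F234271)) (tt N69676 (iv4 F311948)) (tt N42598 F201146) (tt N36437 F201147) (tt N69674 (iv7 F310799)))
theorem Q46485 : ∀ i, i < 46485 → P i := stepQ 46484 Q46484 (allL N46484 (tt N24184 (iv1 D80543)) (tt N66949 F206210) (tt N69674 F313022) (tt N76442 (iv3 F308654)) (tt N37214 (iv4 F313049)) (tt N42599 F206212) (tt N37213 F313023) (tt N42819 F234265))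
theorem Q46486 : ∀ i, i < 46486 → P i := stepQ 46485 Q46485 (allL N46485 (tt N33882 (iv1 F155461)) (tt N75839 F234306) (tt N30667 F310495) (tt N24185 (iv3 D80549)) (tt N80384 D167836) (tt N42558 (iv5 F155468)) (tt N30663 F310496) (tt N42773 (iv7 F155488)))
theorem Q46487 : ∀ i, i < 46487 → P i := stepQ 46486 Q46486 (allL N46486 (tt N45700 (iv1 F123837)) (tt N24186 (iv0 D80551)) (tt N40756 F322956) (tt N80385 D167837) (tt N79480 (iv4 F330134)) (tt N40739 F319312) (tt N46231 F205840) (tt N40752 F322957))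
theorem Q46488 : ∀ i, i < 46488 → P i := stepQ 46487 Q46487 (allL N46487 (tt N40756 F322948) (tt N40752 F322949) (tt N24186 (iv2 D80553)) (tt N64270 (iv3 F194688)) (tt N79773 (iv4 F344680)) (tt N63181 (iv5 F185836)) (tt N45723 F312800) (tt N45700 F123838))
theorem Q46489 : ∀ i, i < 46489 → P i := stepQ 46488 Q46488 (allL N46488 (tt N75619 (iv1 F319994)) (tt N75618 (iv0 F319989)) (tt N63042 (iv2 F315555)) (tt N24187 (iv3 D80554)) (tt N34845 (iv4 F299059)) (tt N63040 (iv5 F315551)) (tt N24262 F297903) (tt N27940 F123842))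
theorem Q46490 : ∀ i, i < 46490 → P i := stepQ 46489 Q46489 (allL N46489 (tt N24199 (iv1 F123854)) (tt N24189 (iv0 D80560)) (tt N24196 (iv2 F123852)) (tt N79388 (iv3 F255492)) (tt N43494 F312863) (tt N45864 F123851) (tt N24210 F297827) (tt N24197 F123853))
theorem Q46491 : ∀ i, i < 46491 → P i := stepQ 46490 Q46490 (allL N46490 (tt N25476 F123858) (tt N25473 (iv0 F123859)) (tt N24198 F123855) (tt N26005 F296825) (tt N65093 (iv4 F297643)) (tt N24189 (iv5 D80561)) (tt N25413 F123857) (tt N46143 (iv7 F296847)))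
theorem Q46492 : ∀ i, i < 46492 → P i := stepQ 46491 Q46491 (allL N46491 (tt N24197 (iv1 F123862)) (tt N24196 F123863) (tt N24199 F123860) (tt N28015 (iv3 F298354)) (tt N46629 (iv4 F300194)) (tt N46143 F297868) (tt N46241 F123861) (tt N24189 (iv7 D80562)))
theorem Q46493 : ∀ i, i < 46493 → P i := stepQ 46492 Q46492 (allL N46492 (tt N24190 (iv1 D80566)) (tt N42890 F123871) (tt N42892 (iv2 F185050)) (tt N33793 F315620) (tt N63332 F186900) (tt N33792 F315621) (tt N27738 F298525) (tt N37647 F303046))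
theorem Q46494 : ∀ i, i < 46494 → P i := stepQ 46493 Q46493 (allL N46493 (tt N37647 F303043) (tt N42892 F123870) (tt N24190 (iv2 D80567)) (tt N46623 F301941) (tt N24201 F123868) (tt N42645 F311701) (tt N69657 F311702) (tt N42890 F123869))
theorem Q46495 : ∀ i, i < 46495 → P i := stepQ 46494 Q46494 (allL N46494 (tt N24191 (iv1 D80571)) (tt N40441 F324343) (tt N42640 F311469) (tt N73366 (iv3 F332425)) (tt N56306 (iv4 F313927)) (tt N25463 F123878) (tt N63764 (iv6 F363050)) (tt N42638 F311470))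
theorem Q46496 : ∀ i, i < 46496 → P i := stepQ 46495 Q46495 (allL N46495 (tt N45294 (iv1 F313085)) (tt N80386 D167879) (tt N46626 F301942) (tt N61482 (iv3 F352422)) (tt N24191 (iv4 D80572)) (tt N80387 D167881) (tt N80388 D167882) (tt N46630 F301943))
theorem Q46497 : ∀ i, i < 46497 → P i := stepQ 46496 Q46496 (allL N46496 (tt N73401 (iv1 F330060)) (tt N73589 (iv0 F326251)) (tt N46627 F301944) (tt N73355 (iv3 F332442)) (tt N80388 (iv4 F264516)) (tt N65110 (iv5 F302678)) (tt N24191 (iv6 D80573)) (tt N40452 (iv7 F326253)))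
theorem Q46498 : ∀ i, i < 46498 → P i := stepQ 46497 Q46497 (allL N46497 (tt N24192 (iv1 D80575)) (tt N46629 (iv0 F300193)) (tt N30680 (iv2 F309106)) (tt N57429 (iv3 F310592)) (tt N34528 (iv4 F123879)) (tt N48480 F132912) (tt N30674 F308485) (tt N46582 (iv7 F300102)))
theorem Q46499 : ∀ i, i < 46499 → P i := stepQ 46498 Q46498 (allL N46498 (tt N30680 F311258) (tt N46582 F301032) (tt N46629 F301033) (tt N69658 (iv3 F307152)) (tt N24199 F123882) (tt N65090 F301034) (tt N44905 F301035) (tt N24192 (iv7 D80577)))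
theorem Q46500 : ∀ i, i < 46500 → P i := stepQ 46499 Q46499 (allL N46499 (tt N24317 F300129) (tt N24256 F300130) (tt N24314 F300131) (tt N63053 (iv3 F315613)) (tt N80389 D167897) (tt N24195 (iv5 D80582)) (tt N46228 (iv6 F311703)) (tt N24315 F300132))
theorem Q46501 : ∀ i, i < 46501 → P i := stepQ 46500 Q46500 (allL N46500 (tt N24198 (iv1 D80587)) (tt N46143 (iv0 F296846)) (tt N25473 (iv2 F124468)) (tt N31970 (iv3 F325186)) (tt N80390 D167904) (tt N25375 (iv5 F123914)) (tt N31965 F323911) (tt N25476 F124467))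
theorem Q46502 : ∀ i, i < 46502 → P i := stepQ 46501 Q46501 (allL N46501 (tt N75808 (iv1 F234142)) (tt N33879 F187561) (tt N48566 (iv2 F306051)) (tt N24200 (iv3 D80596)) (tt N43331 (iv4 F123926)) (tt N72194 (iv5 F315877)) (tt N42795 F189468) (tt N29767 F190042))
theorem Q46503 : ∀ i, i < 46503 → P i := stepQ 46502 Q46502 (allL N46502 (tt N75796 (iv1 F233990)) (tt N72700 (iv0 F309504)) (tt N42888 (iv2 F191315)) (tt N52367 F302988) (tt N24200 (iv4 D80597)) (tt N73940 (iv5 F314869)) (tt N42684 F302989) (tt N29776 F190043))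
theorem Q46504 : ∀ i, i < 46504 → P i := stepQ 46503 Q46503 (allL N46503 (tt N33364 F319299) (tt N33363 F319300) (tt N24202 F123928) (tt N36491 (iv3 F188339)) (tt N80391 D167913) (tt N24201 (iv5 D80600)) (tt N40612 F319301) (tt N33361 F319302))
theorem Q46505 : ∀ i, i < 46505 → P i := stepQ 46504 Q46504 (allL N46504 (tt N80392 D167915) (tt N42826 F191363) (tt N24203 F123933) (tt N36492 (iv3 F188342)) (tt N69657 (iv4 F309512)) (tt N56137 F191190) (tt N24201 (iv6 D80601)) (tt N69664 (iv7 F334080)))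
theorem Q46506 : ∀ i, i < 46506 → P i := stepQ 46505 Q46505 (allL N46505 (tt N33361 F319294) (tt N24202 (iv0 D80602)) (tt N33364 F319696) (tt N66564 (iv3 F321315)) (tt N73877 (iv4 F361414)) (tt N64269 (iv5 F194682)) (tt N39947 F319539) (tt N33363 F319697))
theorem Q46507 : ∀ i, i < 46507 → P i := stepQ 46506 Q46506 (allL N46506 (tt N24202 (iv1 D80603)) (tt N33361 F319293) (tt N33363 F319685) (tt N80393 D167920) (tt N73876 (iv4 F361411)) (tt N25495 F191355) (tt N80394 D167922) (tt N33364 F319686))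
theorem Q46508 : ∀ i, i < 46508 → P i := stepQ 46507 Q46507 (allL N46507 (tt N80395 D167923) (tt N80396 D167924) (tt N80391 (iv2 F264576)) (tt N33351 (iv3 F321533)) (tt N24202 (iv4 D80604)) (tt N80397 D167926) (tt N40543 F319681) (tt N33346 F319682))
theorem Q46509 : ∀ i, i < 46509 → P i := stepQ 46508 Q46508 (allL N46508 (tt N69664 (iv1 F334076)) (tt N24203 (iv0 D80606)) (tt N80392 F264587) (tt N76029 (iv3 F235855)) (tt N77630 (iv4 F311697)) (tt N29740 F191359) (tt N76016 (iv6 F235732)) (tt N42826 F233790))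
theorem Q46510 : ∀ i, i < 46510 → P i := stepQ 46509 Q46509 (allL N46509 (tt N24203 (iv1 D80607)) (tt N69664 (iv0 F334075)) (tt N42826 F259389) (tt N75811 F259390) (tt N44491 F310076) (tt N29741 F259391) (tt N42822 F259392) (tt N80392 (iv7 F264588)))
theorem Q46511 : ∀ i, i < 46511 → P i := stepQ 46510 Q46510 (allL N46510 (tt N42826 F191362) (tt N80392 F264589) (tt N69664 (iv2 F334077)) (tt N24205 F123940) (tt N69658 (iv4 F307153)) (tt N56138 (iv5 F191334)) (tt N42896 F123941) (tt N24203 (iv7 D80608)))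
theorem Q46512 : ∀ i, i < 46512 → P i := stepQ 46511 Q46511 (allL N46511 (tt N67094 F206591) (tt N33886 (iv0 F185763)) (tt N72119 (iv2 F322855)) (tt N24204 (iv3 D80610)) (tt N66489 (iv4 F322829)) (tt N29745 F123944) (tt N42803 (iv6 F155260)) (tt N34572 F123946))
theorem Q46513 : ∀ i, i < 46513 → P i := stepQ 46512 Q46512 (allL N46512 (tt N80398 D167935) (tt N60478 (iv0 F341641)) (tt N80399 D167937) (tt N24206 (iv3 D80611)) (tt N65126 F299822) (tt N79397 (iv5 F318580)) (tt N34629 F123947) (tt N46145 (iv7 F302656)))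
theorem Q46514 : ∀ i, i < 46514 → P i := stepQ 46513 Q46513 (allL N46513 (tt N42829 (iv1 F305386)) (tt N76016 (iv0 F305389)) (tt N24213 F124113) (tt N36452 (iv3 F303542)) (tt N37631 F310085) (tt N44009 F309755) (tt N24212 (iv6 D80679)) (tt N66957 (iv7 F305397)))
theorem Q46515 : ∀ i, i < 46515 → P i := stepQ 46514 Q46514 (allL N46514 (tt N24213 (iv1 D80681)) (tt N66957 (iv0 F305394)) (tt N76016 (iv2 F305390)) (tt N80400 D168081) (tt N43080 F311862) (tt N42714 F307445) (tt N80392 (iv6 F305407)) (tt N42829 (iv7 F305388)))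
theorem Q46516 : ∀ i, i < 46516 → P i := stepQ 46515 Q46515 (allL N46515 (tt N25436 F124120) (tt N25394 (iv0 F124121)) (tt N25435 F124122) (tt N24214 (iv3 D80684)) (tt N57421 (iv4 F299958)) (tt N25437 F124118) (tt N37528 (iv6 F302858)) (tt N25434 F124119))
theorem Q46517 : ∀ i, i < 46517 → P i := stepQ 46516 Q46516 (allL N46516 (tt N30556 (iv1 F309491)) (tt N37508 (iv0 F303554)) (tt N42841 (iv2 F303556)) (tt N45724 F124129) (tt N44946 (iv4 F309497)) (tt N34453 F307453) (tt N37505 F303012) (tt N24215 (iv7 D80689)))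
theorem Q46518 : ∀ i, i < 46518 → P i := stepQ 46517 Q46517 (allL N46517 (tt N37213 (iv1 F310787)) (tt N37211 F309716) (tt N24220 F124169) (tt N42842 F302468) (tt N46808 (iv4 F127148)) (tt N65383 (iv5 F304880)) (tt N24218 (iv6 D80707)) (tt N69672 (iv7 F310791)))
theorem Q46519 : ∀ i, i < 46519 → P i := stepQ 46518 Q46518 (allL N46518 (tt N25443 (iv1 F124172)) (tt N24219 (iv0 D80708)) (tt N42836 (iv2 F303549)) (tt N52936 F151891) (tt N38335 (iv4 F304889)) (tt N34606 F124171) (tt N38334 (iv6 F304890)) (tt N42835 (iv7 F303547)))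
theorem Q46520 : ∀ i, i < 46520 → P i := stepQ 46519 Q46519 (allL N46519 (tt N69645 (iv1 F304899)) (tt N37495 (iv0 F304900)) (tt N56126 (iv2 F162811)) (tt N24221 F124180) (tt N52353 (iv4 F148947)) (tt N65385 (iv5 F304901)) (tt N24219 (iv6 D80710)) (tt N68265 (iv7 F304902)))
theorem Q46521 : ∀ i, i < 46521 → P i := stepQ 46520 Q46520 (allL N46520 (tt N26244 F290755) (tt N27625 F290756) (tt N26472 F125243) (tt N26889 F125244) (tt N27653 F125245) (tt N26379 F125246) (tt N24222 (iv6 D81424)) (tt N25972 F290757))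
theorem Q46522 : ∀ i, i < 46522 → P i := stepQ 46521 Q46521 (allL N46521 (tt N75762 F306213) (tt N45303 (iv0 F125584)) (tt N41836 (iv2 F308130)) (tt N24226 F125266) (tt N80111 (iv4 F319969)) (tt N24225 (iv5 D81430)) (tt N33623 (iv6 F308213)) (tt N46571 (iv7 F125482)))
theorem Q46523 : ∀ i, i < 46523 → P i := stepQ 46522 Q46522 (allL N46522 (tt N42183 (iv1 F312383)) (tt N46645 (iv0 F125683)) (tt N48487 (iv2 F299096)) (tt N42232 F310121) (tt N80401 D169805) (tt N24227 (iv5 D81433)) (tt N42177 (iv6 F312384)) (tt N42082 F310122))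
theorem Q46524 : ∀ i, i < 46524 → P i := stepQ 46523 Q46523 (allL N46523 (tt N55124 (iv1 F342450)) (tt N55127 (iv0 F342447)) (tt N46572 (iv2 F125483)) (tt N64637 (iv3 F197955)) (tt N27400 F125269) (tt N62581 (iv5 F342457)) (tt N24228 (iv6 D81434)) (tt N55200 (iv7 F317106)))
theorem Q46525 : ∀ i, i < 46525 → P i := stepQ 46524 Q46524 (allL N46524 (tt N80402 D169814) (tt N48494 (iv0 F302276)) (tt N24231 F125274) (tt N44518 F309649) (tt N63386 (iv4 F187164)) (tt N80403 D169816) (tt N24230 (iv6 D81437)) (tt N44513 F309650))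
theorem Q46526 : ∀ i, i < 46526 → P i := stepQ 46525 Q46525 (allL N46525 (tt N44513 F310645) (tt N24231 (iv0 D81438)) (tt N80402 (iv2 F267244)) (tt N42602 (iv3 F302274)) (tt N63595 F267245) (tt N80404 D169819) (tt N79411 (iv6 F302275)) (tt N48494 (iv7 F302279)))
theorem Q46527 : ∀ i, i < 46527 → P i := stepQ 46526 Q46526 (allL N46526 (tt N24231 (iv1 D81439)) (tt N44513 (iv0 F308554)) (tt N48494 (iv2 F302278)) (tt N43909 (iv3 F302280)) (tt N63596 (iv4 F188252)) (tt N80405 D169822) (tt N43908 (iv6 F302282)) (tt N80402 F267242))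
theorem Q46528 : ∀ i, i < 46528 → P i := stepQ 46527 Q46527 (allL N46527 (tt N80406 D169824) (tt N77693 (iv0 F340771)) (tt N80403 (iv2 F267250)) (tt N24235 F125275) (tt N80407 D169826) (tt N24231 (iv5 D81440)) (tt N40908 F340747) (tt N75515 (iv7 F308557)))
theorem Q46529 : ∀ i, i < 46529 → P i := stepQ 46528 Q46528 (allL N46528 (tt N48494 (iv1 F302277)) (tt N80402 (iv0 F267243)) (tt N44513 (iv2 F308555)) (tt N24236 F125276) (tt N63441 (iv4 F187458)) (tt N75515 (iv5 F308556)) (tt N25187 F125277) (tt N24231 (iv7 D81441)))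
theorem Q46530 : ∀ i, i < 46530 → P i := stepQ 46529 Q46529 (allL N46529 (tt N27504 F312747) (tt N27508 F312748) (tt N48415 (iv2 F296544)) (tt N25220 F304045) (tt N27609 F125279) (tt N25219 F304046) (tt N24232 (iv6 D81443)) (tt N43676 (iv7 F306151)))
theorem Q46531 : ∀ i, i < 46531 → P i := stepQ 46530 Q46530 (allL N46530 (tt N52339 (iv1 F335134)) (tt N52343 (iv0 F335135)) (tt N48761 (iv2 F134287)) (tt N75158 (iv3 F309430)) (tt N27610 F125280) (tt N75157 (iv5 F313082)) (tt N24233 (iv6 D81444)) (tt N52591 (iv7 F334464)))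
theorem Q46532 : ∀ i, i < 46532 → P i := stepQ 46531 Q46531 (allL N46531 (tt N77492 (iv1 F350080)) (tt N77491 (iv0 F314541)) (tt N52358 (iv2 F148981)) (tt N80408 D169875) (tt N24235 (iv4 D81461)) (tt N80409 D169876) (tt N77507 (iv6 F312876)) (tt N75518 (iv7 F308558)))
theorem Q46533 : ∀ i, i < 46533 → P i := stepQ 46532 Q46532 (allL N46532 (tt N30536 F311022) (tt N53324 F311023) (tt N41452 F311024) (tt N24237 (iv3 D81476)) (tt N64279 (iv4 F195541)) (tt N40274 F341104) (tt N45722 (iv6 F299944)) (tt N25440 F299429))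
theorem Q46534 : ∀ i, i < 46534 → P i := stepQ 46533 Q46533 (allL N46533 (tt N33248 F322672) (tt N39918 F312805) (tt N25272 F126189) (tt N40274 F341103) (tt N80410 D169883) (tt N24237 (iv5 D81477)) (tt N63181 (iv6 F314684)) (tt N25442 F299430))
theorem Q46535 : ∀ i, i < 46535 → P i := stepQ 46534 Q46534 (allL N46534 (tt N34741 (iv1 F297618)) (tt N46240 (iv0 F297614)) (tt N25275 F126188) (tt N80411 D169886) (tt N24238 (iv4 D81480)) (tt N80411 (iv5 F341736)) (tt N35909 F325724) (tt N45829 F297297))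
theorem Q46536 : ∀ i, i < 46536 → P i := stepQ 46535 Q46535 (allL N46535 (tt N34738 F297519) (tt N27285 F126196) (tt N25280 F125346) (tt N67434 (iv3 F359329)) (tt N24239 (iv4 D81495)) (tt N80095 (iv5 F359326)) (tt N65909 (iv6 F325653)) (tt N46187 F297520))
theorem Q46537 : ∀ i, i < 46537 → P i := stepQ 46536 Q46536 (allL N46536 (tt N66017 (iv1 F327511)) (tt N80412 D169898) (tt N80413 D169899) (tt N24240 (iv3 D81499)) (tt N35692 F326907) (tt N80414 D169900) (tt N24245 F125351) (tt N65932 F326908))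
theorem Q46538 : ∀ i, i < 46538 → P i := stepQ 46537 Q46537 (allL N46537 (tt N65627 (iv1 F354274)) (tt N48450 F297523) (tt N52360 (iv2 F148991)) (tt N80414 (iv3 F267326)) (tt N77493 (iv4 F350073)) (tt N24240 (iv5 D81500)) (tt N32279 F349673) (tt N80415 D169906))
theorem Q46539 : ∀ i, i < 46539 → P i := stepQ 46538 Q46538 (allL N46538 (tt N51608 F146877) (tt N51606 (iv0 F146870)) (tt N52361 (iv2 F148992)) (tt N65932 (iv3 F326219)) (tt N24241 F125352) (tt N80415 (iv5 F267332)) (tt N52374 (iv6 F149086)) (tt N24240 (iv7 D81501)))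
theorem Q46540 : ∀ i, i < 46540 → P i := stepQ 46539 Q46539 (allL N46539 (tt N80416 D169907) (tt N80417 D169908) (tt N80418 D169909) (tt N24242 (iv3 D81502)) (tt N44648 F125353) (tt N51598 (iv5 F294455)) (tt N65094 (iv6 F199182)) (tt N52295 (iv7 F148455)))
theorem Q46541 : ∀ i, i < 46541 → P i := stepQ 46540 Q46540 (allL N46540 (tt N80419 D169910) (tt N80420 D169911) (tt N80421 D169912) (tt N24243 (iv3 D81503)) (tt N45416 F125354) (tt N80422 D169913) (tt N80229 (iv6 F296356)) (tt N51618 (iv7 F146926)))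
theorem Q46542 : ∀ i, i < 46542 → P i := stepQ 46541 Q46541 (allL N46541 (tt N48288 (iv1 F132079)) (tt N48285 (iv0 F132068)) (tt N48798 (iv2 F293625)) (tt N80422 (iv3 F267336)) (tt N27672 F125355) (tt N24243 (iv5 D81504)) (tt N80423 D169915) (tt N48801 (iv7 F294503)))
theorem Q46543 : ∀ i, i < 46543 → P i := stepQ 46542 Q46542 (allL N46542 (tt N78418 F248748) (tt N80424 D169917) (tt N80425 D169918) (tt N24244 (iv3 D81506)) (tt N45369 F125357) (tt N80426 D169919) (tt N35718 F326462) (tt N51617 (iv7 F146908)))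
theorem Q46544 : ∀ i, i < 46544 → P i := stepQ 46543 Q46543 (allL N46543 (tt N48285 (iv1 F132069)) (tt N48288 (iv0 F132078)) (tt N48801 (iv2 F294502)) (tt N80426 (iv3 F267341)) (tt N27670 F125358) (tt N24244 (iv5 D81507)) (tt N80427 D169921) (tt N48798 (iv7 F293626)))
theorem Q46545 : ∀ i, i < 46545 → P i := stepQ 46544 Q46544 (allL N46544 (tt N35693 F327083) (tt N24245 (iv0 D81509)) (tt N35712 F327084) (tt N80059 (iv3 F261084)) (tt N32264 F327085) (tt N37131 F325972) (tt N35704 (iv6 F327655)) (tt N32262 F327086))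
theorem Q46546 : ∀ i, i < 46546 → P i := stepQ 46545 Q46545 (allL N46545 (tt N35712 F327079) (tt N32262 F327080) (tt N24245 (iv2 D81511)) (tt N52364 (iv3 F148997)) (tt N35584 F327081) (tt N67238 (iv5 F328080)) (tt N80413 (iv6 F267325)) (tt N35693 F327082))
theorem Q46547 : ∀ i, i < 46547 → P i := stepQ 46546 Q46546 (allL N46546 (tt N36759 (iv1 F328078)) (tt N32285 (iv0 F327656)) (tt N67238 (iv2 F328079)) (tt N24246 F125361) (tt N38433 F327599) (tt N24245 (iv5 D81512)) (tt N57028 (iv6 F328082)) (tt N38430 (iv7 F327961)))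
theorem Q46548 : ∀ i, i < 46548 → P i := stepQ 46547 Q46547 (allL N46547 (tt N48406 (iv1 F132357)) (tt N24246 (iv0 D81513)) (tt N51612 (iv2 F146888)) (tt N61593 (iv3 F364800)) (tt N25679 (iv4 F294465)) (tt N27632 F125362) (tt N61591 (iv6 F364818)) (tt N51614 (iv7 F146896)))
theorem Q46549 : ∀ i, i < 46549 → P i := stepQ 46548 Q46548 (allL N46548 (tt N24246 (iv1 D81514)) (tt N48406 (iv0 F132356)) (tt N51614 (iv2 F146894)) (tt N80428 D169936) (tt N25676 (iv4 F294460)) (tt N27633 F125364) (tt N80429 D169937) (tt N51612 (iv7 F146889)))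
theorem Q46550 : ∀ i, i < 46550 → P i := stepQ 46549 Q46549 (allL N46549 (tt N35847 F349668) (tt N60521 (iv0 F349669)) (tt N52366 (iv2 F148999)) (tt N57028 (iv3 F328081)) (tt N50007 (iv4 F138496)) (tt N32279 (iv5 F349670)) (tt N24246 (iv6 D81515)) (tt N60523 (iv7 F345920)))
theorem Q46551 : ∀ i, i < 46551 → P i := stepQ 46550 Q46550 (allL N46550 (tt N43640 (iv1 F303887)) (tt N63569 (iv0 F188134)) (tt N52788 (iv2 F151338)) (tt N24248 F125368) (tt N24590 F125370) (tt N24247 (iv5 D81519)) (tt N43817 (iv6 F304704)) (tt N43626 F302134))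
theorem Q46552 : ∀ i, i < 46552 → P i := stepQ 46551 Q46551 (allL N46551 (tt N34596 (iv1 F125396)) (tt N27725 F125395) (tt N34598 F125392) (tt N45298 F125393) (tt N80430 D169955) (tt N24250 (iv5 D81523)) (tt N80431 D169956) (tt N34597 F125394))
theorem Q46553 : ∀ i, i < 46553 → P i := stepQ 46552 Q46552 (allL N46552 (tt N44582 (iv1 F307654)) (tt N24960 F129628) (tt N34328 F125397) (tt N43995 F125398) (tt N42837 F305647) (tt N75511 (iv5 F307655)) (tt N24250 (iv6 D81524)) (tt N77475 (iv7 F307656)))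
theorem Q46554 : ∀ i, i < 46554 → P i := stepQ 46553 Q46553 (allL N46553 (tt N48426 F297771) (tt N44515 (iv0 F308650)) (tt N52353 (iv2 F148946)) (tt N34599 F125400) (tt N56126 (iv4 F162813)) (tt N80432 D169961) (tt N24251 (iv6 D81525)) (tt N65119 (iv7 F199283)))
theorem Q46555 : ∀ i, i < 46555 → P i := stepQ 46554 Q46554 (allL N46554 (tt N52382 F151572) (tt N76142 (iv0 F236883)) (tt N64367 (iv2 F196430)) (tt N24252 (iv3 D81544)) (tt N34494 F125417) (tt N54962 (iv5 F158408)) (tt N80433 D170010) (tt N52320 (iv7 F148598)))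
theorem Q46556 : ∀ i, i < 46556 → P i := stepQ 46555 Q46555 (allL N46555 (tt N48466 (iv1 F312994)) (tt N40031 (iv0 F312995)) (tt N36461 F310766) (tt N80433 (iv3 F267452)) (tt N28273 F125418) (tt N48136 (iv5 F312996)) (tt N24252 (iv6 D81545)) (tt N48462 (iv7 F312997)))
theorem Q46557 : ∀ i, i < 46557 → P i := stepQ 46556 Q46556 (allL N46556 (tt N68594 F305603) (tt N52386 (iv0 F149218)) (tt N68593 F305604) (tt N24253 (iv3 D81546)) (tt N36455 F305605) (tt N54963 (iv5 F158409)) (tt N38365 F309605) (tt N36454 F305606))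
theorem Q46558 : ∀ i, i < 46558 → P i := stepQ 46557 Q46557 (allL N46557 (tt N30541 (iv1 F311811)) (tt N30553 (iv0 F311812)) (tt N30552 (iv2 F311813)) (tt N38365 F309604) (tt N28266 F125420) (tt N29807 (iv5 F311814)) (tt N24253 (iv6 D81547)) (tt N30551 (iv7 F311815)))
theorem Q46559 : ∀ i, i < 46559 → P i := stepQ 46558 Q46558 (allL N46558 (tt N42995 F301159) (tt N24254 (iv0 D81548)) (tt N64364 (iv2 F336878)) (tt N80434 D170021) (tt N80435 D170022) (tt N63087 (iv5 F334133)) (tt N80436 D170024) (tt N64363 (iv7 F340981)))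
theorem Q46560 : ∀ i, i < 46560 → P i := stepQ 46559 Q46559 (allL N46559 (tt N24254 (iv1 D81549)) (tt N42995 F301160) (tt N64363 (iv2 F340977)) (tt N75634 (iv3 F333338)) (tt N80437 D170027) (tt N40615 F332430) (tt N62299 (iv6 F332433)) (tt N64364 (iv7 F336880)))
theorem Q46561 : ∀ i, i < 46561 → P i := stepQ 46560 Q46560 (allL N46560 (tt N75965 (iv1 F332438)) (tt N73157 (iv0 F332439)) (tt N76136 (iv2 F236705)) (tt N24256 F125421) (tt N62952 (iv4 F348306)) (tt N24254 (iv5 D81550)) (tt N52577 (iv6 F149994)) (tt N64365 F301161))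
theorem Q46562 : ∀ i, i < 46562 → P i := stepQ 46561 Q46561 (allL N46561 (tt N52381 (iv1 F340793)) (tt N79364 (iv0 F340794)) (tt N76163 (iv2 F301937)) (tt N24255 (iv3 D81555)) (tt N24466 F125432) (tt N73103 (iv5 F324345)) (tt N73106 (iv6 F324356)) (tt N24309 F125433))
theorem Q46563 : ∀ i, i < 46563 → P i := stepQ 46562 Q46562 (allL N46562 (tt N24256 (iv1 D81559)) (tt N24317 F125438) (tt N24315 F125440) (tt N80438 D170051) (tt N80387 (iv4 F301931)) (tt N24945 (iv5 F125439)) (tt N45324 (iv6 F316532)) (tt N24314 (iv7 F125450)))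
theorem Q46564 : ∀ i, i < 46564 → P i := stepQ 46563 Q46563 (allL N46563 (tt N75613 (iv1 F317894)) (tt N61073 (iv0 F313073)) (tt N24316 F125443) (tt N79077 (iv3 F360944)) (tt N24256 (iv4 D81560)) (tt N46637 (iv5 F125660)) (tt N52585 (iv6 F150003)) (tt N46636 (iv7 F125656)))
theorem Q46565 : ∀ i, i < 46565 → P i := stepQ 46564 Q46564 (allL N46564 (tt N75610 (iv1 F324852)) (tt N52375 (iv0 F185137)) (tt N80439 D170060) (tt N24257 (iv3 D81563)) (tt N24328 (iv4 F299181)) (tt N74678 (iv5 F322655)) (tt N44535 (iv6 F310546)) (tt N24328 F125457))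
theorem Q46566 : ∀ i, i < 46566 → P i := stepQ 46565 Q46565 (allL N46565 (tt N42025 (iv1 F313069)) (tt N36646 F318185) (tt N24321 F125458) (tt N74678 (iv3 F322653)) (tt N32642 (iv4 F313072)) (tt N24257 (iv5 D81564)) (tt N80440 D170066) (tt N24329 F125459))
theorem Q46567 : ∀ i, i < 46567 → P i := stepQ 46566 Q46566 (allL N46566 (tt N36646 F318186) (tt N42025 (iv0 F313068)) (tt N24329 F125467) (tt N80310 (iv3 F300258)) (tt N46032 (iv4 F313086)) (tt N24260 (iv5 D81567)) (tt N72981 (iv6 F322643)) (tt N24321 F125468))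
theorem Q46568 : ∀ i, i < 46568 → P i := stepQ 46567 Q46567 (allL N46567 (tt N24261 (iv1 D81569)) (tt N43154 F304050) (tt N43152 F304051) (tt N75592 (iv3 F306159)) (tt N45574 (iv4 F296915)) (tt N75007 (iv5 F306163)) (tt N69578 (iv6 F306165)) (tt N37449 F304052))
theorem Q46569 : ∀ i, i < 46569 → P i := stepQ 46568 Q46568 (allL N46568 (tt N62700 (iv1 F315221)) (tt N74427 (iv0 F315224)) (tt N32859 F125477) (tt N24269 F125478) (tt N42393 F125479) (tt N47382 F317115) (tt N24265 (iv6 D81577)) (tt N74426 (iv7 F315220)))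
theorem Q46570 : ∀ i, i < 46570 → P i := stepQ 46569 Q46569 (allL N46569 (tt N44520 F312409) (tt N24266 (iv0 D81578)) (tt N76912 (iv2 F310529)) (tt N72393 (iv3 F311607)) (tt N47338 F235996) (tt N46570 F317114) (tt N80441 D170091) (tt N76913 (iv7 F310535)))
theorem Q46571 : ∀ i, i < 46571 → P i := stepQ 46570 Q46570 (allL N46570 (tt N24266 (iv1 D81579)) (tt N44520 F312410) (tt N76913 (iv2 F310532)) (tt N54039 (iv3 F155840)) (tt N47289 (iv4 F128629)) (tt N46569 (iv5 F317114)) (tt N73944 (iv6 F338966)) (tt N76912 (iv7 F310531)))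
theorem Q46572 : ∀ i, i < 46572 → P i := stepQ 46571 Q46571 (allL N46571 (tt N69579 F308131) (tt N75007 F308132) (tt N68268 F308133) (tt N24267 (iv3 D81581)) (tt N63436 (iv4 F303494)) (tt N27281 F125481) (tt N40189 (iv6 F316155)) (tt N46521 F125482))
theorem Q46573 : ∀ i, i < 46573 → P i := stepQ 46572 Q46572 (allL N46572 (tt N29266 F321383) (tt N29270 F321384) (tt N46523 F125483) (tt N40189 F318383) (tt N25745 F125484) (tt N40188 F318384) (tt N24267 (iv6 D81582)) (tt N75008 (iv7 F314956)))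
theorem Q46574 : ∀ i, i < 46574 → P i := stepQ 46573 Q46573 (allL N46573 (tt N24269 (iv1 D81585)) (tt N52377 F149141) (tt N51864 (iv2 F338154)) (tt N62756 (iv3 F315430)) (tt N27766 F338151) (tt N76904 (iv5 F315431)) (tt N63997 (iv6 F315432)) (tt N41961 (iv7 F315433)))
theorem Q46575 : ∀ i, i < 46575 → P i := stepQ 46574 Q46574 (allL N46574 (tt N51864 (iv1 F338153)) (tt N41961 F313018) (tt N52377 (iv2 F149137)) (tt N74426 (iv3 F315219)) (tt N27481 F125488) (tt N78309 (iv5 F314849)) (tt N52371 (iv6 F149015)) (tt N24269 (iv7 D81587)))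
theorem Q46576 : ∀ i, i < 46576 → P i := stepQ 46575 Q46575 (allL N46575 (tt N37446 (iv1 F312776)) (tt N69578 (iv0 F312777)) (tt N69577 (iv2 F312778)) (tt N24270 (iv3 D81588)) (tt N69346 F310550) (tt N42304 (iv5 F312548)) (tt N63780 (iv6 F312781)) (tt N43167 F310551))
theorem Q46577 : ∀ i, i < 46577 → P i := stepQ 46576 Q46576 (allL N46576 (tt N24330 F131293) (tt N69415 (iv0 F310652)) (tt N52379 (iv2 F149149)) (tt N63780 (iv3 F312780)) (tt N45499 F298546) (tt N52357 F148980) (tt N24270 (iv6 D81590)) (tt N64268 (iv7 F299138)))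
theorem Q46578 : ∀ i, i < 46578 → P i := stepQ 46577 Q46577 (allL N46577 (tt N42694 F131156) (tt N69575 (iv0 F309758)) (tt N73985 (iv2 F318435)) (tt N24271 (iv3 D81591)) (tt N63901 (iv4 F191581)) (tt N37022 (iv5 F309761)) (tt N44541 F307747) (tt N52378 (iv7 F149144)))
theorem Q46579 : ∀ i, i < 46579 → P i := stepQ 46578 Q46578 (allL N46578 (tt N43600 (iv1 F310140)) (tt N43405 (iv0 F310142)) (tt N43575 F308109) (tt N43866 F308110) (tt N47733 (iv4 F299162)) (tt N24273 (iv5 D81603)) (tt N43387 F308111) (tt N42928 (iv7 F310146)))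
theorem Q46580 : ∀ i, i < 46580 → P i := stepQ 46579 Q46579 (allL N46579 (tt N75592 (iv1 F306157)) (tt N52822 (iv0 F151570)) (tt N34122 F125522) (tt N24276 (iv3 D81612)) (tt N27983 F125523) (tt N62841 (iv5 F183875)) (tt N75603 (iv6 F324848)) (tt N45569 F125524))
theorem Q46581 : ∀ i, i < 46581 → P i := stepQ 46580 Q46580 (allL N46580 (tt N80439 (iv1 F267527)) (tt N24328 F192537) (tt N52375 (iv2 F149120)) (tt N75603 (iv3 F324846)) (tt N38382 F305909) (tt N75264 (iv5 F307872)) (tt N24276 (iv6 D81613)) (tt N75610 (iv7 F324856)))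
theorem Q46582 : ∀ i, i < 46582 → P i := stepQ 46581 Q46581 (allL N46581 (tt N30552 F313552) (tt N30551 F313553) (tt N30553 F313554) (tt N24282 (iv3 D81636)) (tt N53518 (iv4 F153919)) (tt N42456 (iv5 F314125)) (tt N80442 D170227) (tt N30541 F313555))
theorem Q46583 : ∀ i, i < 46583 → P i := stepQ 46582 Q46582 (allL N46582 (tt N46498 (iv1 F301032)) (tt N24311 F125638) (tt N45384 F125545) (tt N80442 (iv3 F267743)) (tt N24284 F125546) (tt N65103 (iv5 F199206)) (tt N24282 (iv6 D81638)) (tt N46497 F300102))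
theorem Q46584 : ∀ i, i < 46584 → P i := stepQ 46583 Q46583 (allL N46583 (tt N34626 F299558) (tt N45719 (iv0 F301855)) (tt N45386 F125547) (tt N80443 D170230) (tt N24283 (iv4 D81639)) (tt N76121 (iv5 F341695)) (tt N45839 F299559) (tt N45730 (iv7 F301257)))
theorem Q46585 : ∀ i, i < 46585 → P i := stepQ 46584 Q46584 (allL N46584 (tt N80444 D170243) (tt N56223 (iv0 F355895)) (tt N65929 (iv2 F327959)) (tt N24285 (iv3 D81648)) (tt N47756 (iv4 F299386)) (tt N80445 D170246) (tt N48405 (iv6 F132351)) (tt N60599 (iv7 F331141)))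
theorem Q46586 : ∀ i, i < 46586 → P i := stepQ 46585 Q46585 (allL N46585 (tt N79539 (iv1 F299606)) (tt N79537 (iv0 F299607)) (tt N52373 (iv2 F149083)) (tt N80445 (iv3 F267763)) (tt N76119 (iv4 F341700)) (tt N24285 (iv5 D81649)) (tt N80446 D170251) (tt N80447 D170252))
theorem Q46587 : ∀ i, i < 46587 → P i := stepQ 46586 Q46586 (allL N46586 (tt N45717 (iv1 F298911)) (tt N25415 F297280) (tt N52374 (iv2 F149084)) (tt N60599 (iv3 F331140)) (tt N24286 F125554) (tt N80447 (iv5 F267766)) (tt N52361 (iv6 F148994)) (tt N24285 (iv7 D81650)))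
theorem Q46588 : ∀ i, i < 46588 → P i := stepQ 46587 Q46587 (allL N46587 (tt N52821 (iv1 F151561)) (tt N44756 (iv0 F125556)) (tt N44710 F125555) (tt N46876 F127316) (tt N24287 (iv4 D81651)) (tt N47161 (iv5 F128411)) (tt N68555 (iv6 F306207)) (tt N52380 (iv7 F149196)))
theorem Q46589 : ∀ i, i < 46589 → P i := stepQ 46588 Q46588 (allL N46588 (tt N52180 (iv1 F147893)) (tt N24302 (iv0 F125559)) (tt N52182 F147910) (tt N32806 F125557) (tt N45206 F125558) (tt N24287 (iv5 D81652)) (tt N78737 (iv6 F311017)) (tt N52181 F147905))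
theorem Q46590 : ∀ i, i < 46590 → P i := stepQ 46589 Q46589 (allL N46589 (tt N64367 F196432) (tt N52320 (iv0 F148599)) (tt N76142 (iv2 F236879)) (tt N24288 (iv3 D81654)) (tt N43462 (iv4 F125561)) (tt N35047 F125560) (tt N80448 D170259) (tt N52382 (iv7 F149200)))
theorem Q46591 : ∀ i, i < 46591 → P i := stepQ 46590 Q46590 (allL N46590 (tt N44756 (iv1 F125576)) (tt N52821 F151563) (tt N52380 (iv2 F149194)) (tt N44676 F125563) (tt N24288 (iv4 D81655)) (tt N46981 (iv5 F127922)) (tt N80449 D170260) (tt N44710 F125562))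
theorem Q46592 : ∀ i, i < 46592 → P i := stepQ 46591 Q46591 (allL N46591 (tt N24309 (iv1 F317485)) (tt N76163 (iv0 F317486)) (tt N52381 (iv2 F149199)) (tt N80448 (iv3 F267771)) (tt N80449 (iv4 F267774)) (tt N75402 (iv5 F332125)) (tt N24288 (iv6 D81656)) (tt N79364 (iv7 F317488)))
theorem Q46593 : ∀ i, i < 46593 → P i := stepQ 46592 Q46592 (allL N46592 (tt N47690 F129501) (tt N47687 (iv0 F129490)) (tt N24290 F125577) (tt N29591 F125578) (tt N45283 F125579) (tt N24289 (iv5 D81657)) (tt N80450 D170265) (tt N47706 (iv7 F129541)))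
theorem Q46594 : ∀ i, i < 46594 → P i := stepQ 46593 Q46593 (allL N46593 (tt N78725 F250444) (tt N68587 (iv0 F312035)) (tt N24291 F125580) (tt N44524 F309846) (tt N37021 (iv4 F312038)) (tt N68479 (iv5 F312039)) (tt N24289 (iv6 D81658)) (tt N68978 (iv7 F312041)))
theorem Q46595 : ∀ i, i < 46595 → P i := stepQ 46594 Q46594 (allL N46594 (tt N47706 (iv1 F129542)) (tt N24290 (iv0 D81659)) (tt N47690 (iv2 F129497)) (tt N34070 F125581) (tt N42967 (iv4 F125582)) (tt N27584 (iv5 F125583)) (tt N80451 D170267) (tt N47687 (iv7 F129489)))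
theorem Q46596 : ∀ i, i < 46596 → P i := stepQ 46595 Q46595 (allL N46595 (tt N45286 F125588) (tt N45285 (iv0 F125589)) (tt N45283 F125585) (tt N27422 F125586) (tt N24290 (iv4 D81660)) (tt N64462 (iv5 F197270)) (tt N74388 (iv6 F338493)) (tt N45284 F125587))
theorem Q46597 : ∀ i, i < 46597 → P i := stepQ 46596 Q46596 (allL N46596 (tt N41636 (iv1 F359375)) (tt N80452 D170270) (tt N80450 (iv2 F267775)) (tt N24292 F125590) (tt N74388 (iv4 F338492)) (tt N80453 D170271) (tt N24290 (iv6 D81661)) (tt N74402 (iv7 F317477)))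
theorem Q46598 : ∀ i, i < 46598 → P i := stepQ 46597 Q46597 (allL N46597 (tt N68978 F313843) (tt N24291 (iv0 D81662)) (tt N78725 (iv2 F359870)) (tt N80454 D170274) (tt N38075 (iv4 F316291)) (tt N78315 (iv5 F316292)) (tt N80455 D170277) (tt N68587 (iv7 F316294)))
theorem Q46599 : ∀ i, i < 46599 → P i := stepQ 46598 Q46598 (allL N46598 (tt N24291 (iv1 D81663)) (tt N68978 (iv0 F312040)) (tt N68587 (iv2 F316293)) (tt N80456 D170279) (tt N68586 (iv4 F317697)) (tt N78316 (iv5 F351932)) (tt N80457 D170282) (tt N78725 (iv7 F359871)))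
theorem Q46600 : ∀ i, i < 46600 → P i := stepQ 46599 Q46599 (allL N46599 (tt N68481 (iv1 F316297)) (tt N66825 (iv0 F341990)) (tt N68479 F313845) (tt N24293 F125591) (tt N64822 (iv4 F341993)) (tt N24291 (iv5 D81664)) (tt N80453 (iv6 F267785)) (tt N68480 F313846))
theorem Q46601 : ∀ i, i < 46601 → P i := stepQ 46600 Q46600 (allL N46600 (tt N78307 (iv1 F316298)) (tt N78310 (iv0 F316299)) (tt N47709 (iv2 F129557)) (tt N80453 (iv3 F267784)) (tt N37495 (iv4 F315629)) (tt N24292 (iv5 D81667)) (tt N24293 F125592) (tt N74403 (iv7 F316302)))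
theorem Q46602 : ∀ i, i < 46602 → P i := stepQ 46601 Q46601 (allL N46601 (tt N36454 F305338) (tt N68593 F305339) (tt N68594 F305340) (tt N24294 (iv3 D81671)) (tt N43423 F305341) (tt N75367 (iv5 F307324)) (tt N75632 (iv6 F317810)) (tt N52386 (iv7 F149217)))
theorem Q46603 : ∀ i, i < 46603 → P i := stepQ 46602 Q46602 (allL N46602 (tt N77626 (iv1 F315945)) (tt N67928 (iv0 F315946)) (tt N51490 (iv2 F145309)) (tt N24299 F125611) (tt N29589 F125612) (tt N36517 F313482) (tt N24297 (iv6 D81677)) (tt N36608 (iv7 F315947)))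
theorem Q46604 : ∀ i, i < 46604 → P i := stepQ 46603 Q46603 (allL N46603 (tt N48460 (iv1 F303040)) (tt N63719 F309011) (tt N63725 (iv2 F307710)) (tt N24300 F125613) (tt N45739 (iv4 F311177)) (tt N24298 (iv5 D81680)) (tt N36517 (iv6 F311178)) (tt N56125 F309012))
theorem Q46605 : ∀ i, i < 46605 → P i := stepQ 46604 Q46604 (allL N46604 (tt N24299 (iv1 D81683)) (tt N36520 (iv0 F315996)) (tt N36603 F319116) (tt N80458 D170341) (tt N27460 F319120) (tt N66716 (iv5 F316754)) (tt N36313 (iv6 F316755)) (tt N36602 F319117))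
theorem Q46606 : ∀ i, i < 46606 → P i := stepQ 46605 Q46605 (allL N46605 (tt N48431 F300299) (tt N79531 (iv0 F302998)) (tt N36601 F311614) (tt N24737 (iv3 F314070)) (tt N24300 (iv4 D81688)) (tt N79556 (iv5 F341878)) (tt N36518 (iv6 F314073)) (tt N24730 F311615))
theorem Q46607 : ∀ i, i < 46607 → P i := stepQ 46606 Q46606 (allL N46606 (tt N52182 (iv1 F147906)) (tt N52181 F147901) (tt N24302 (iv2 D81690)) (tt N34064 F125619) (tt N42808 F307583) (tt N24928 F125620) (tt N80459 D170357) (tt N52180 (iv7 F147891)))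
theorem Q46608 : ∀ i, i < 46608 → P i := stepQ 46607 Q46607 (allL N46607 (tt N42254 F312004) (tt N64463 (iv0 F197278)) (tt N42808 F306797) (tt N26179 F306798) (tt N24302 (iv4 D81691)) (tt N26177 F306799) (tt N80460 D170358) (tt N33726 (iv7 F312209)))
theorem Q46609 : ∀ i, i < 46609 → P i := stepQ 46608 Q46608 (allL N46608 (tt N41412 (iv1 F317481)) (tt N80461 D170360) (tt N80459 (iv2 F267844)) (tt N24303 F125622) (tt N80460 (iv4 F267847)) (tt N73687 (iv5 F319222)) (tt N24302 (iv6 D81692)) (tt N36322 (iv7 F317482)))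
theorem Q46610 : ∀ i, i < 46610 → P i := stepQ 46609 Q46609 (allL N46609 (tt N36316 F315260) (tt N24303 (iv0 D81693)) (tt N33504 (iv2 F317479)) (tt N29729 (iv3 F318669)) (tt N27492 (iv4 F318670)) (tt N78086 (iv5 F341028)) (tt N80462 D170367) (tt N36325 (iv7 F317480)))
theorem Q46611 : ∀ i, i < 46611 → P i := stepQ 46610 Q46610 (allL N46610 (tt N33319 (iv1 F319220)) (tt N33325 (iv0 F319118)) (tt N33323 (iv2 F321662)) (tt N73687 (iv3 F319221)) (tt N80463 D170375) (tt N24303 (iv5 D81695)) (tt N24930 F125623) (tt N33322 F319724))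
theorem Q46612 : ∀ i, i < 46612 → P i := stepQ 46611 Q46611 (allL N46611 (tt N80464 D170400) (tt N64594 (iv0 F352575)) (tt N80465 D170402) (tt N24305 (iv3 D81703)) (tt N38608 (iv4 F352576)) (tt N80466 D170404) (tt N80467 D170405) (tt N52581 (iv7 F336835)))
theorem Q46613 : ∀ i, i < 46613 → P i := stepQ 46612 Q46612 (allL N46612 (tt N52219 (iv1 F332551)) (tt N25656 F332548) (tt N52216 (iv2 F350617)) (tt N80468 D170409) (tt N24305 (iv4 D81704)) (tt N80469 D170410) (tt N80470 D170411) (tt N52217 (iv7 F336837)))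
theorem Q46614 : ∀ i, i < 46614 → P i := stepQ 46613 Q46613 (allL N46613 (tt N66677 (iv1 F319122)) (tt N33321 (iv0 F335850)) (tt N52580 (iv2 F336829)) (tt N80466 (iv3 F267877)) (tt N61750 (iv4 F348994)) (tt N24305 (iv5 D81705)) (tt N66561 (iv6 F339619)) (tt N52582 (iv7 F336839)))
theorem Q46615 : ∀ i, i < 46615 → P i := stepQ 46614 Q46614 (allL N46614 (tt N36281 (iv1 F341039)) (tt N36349 F341036) (tt N36351 F336834) (tt N80467 (iv3 F267878)) (tt N80470 (iv4 F267881)) (tt N55193 F159155) (tt N24305 (iv6 D81706)) (tt N36350 (iv7 F336845)))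
theorem Q46616 : ∀ i, i < 46616 → P i := stepQ 46615 Q46615 (allL N46615 (tt N79904 (iv1 F336883)) (tt N75967 (iv0 F336873)) (tt N78940 (iv2 F336854)) (tt N24306 (iv3 D81708)) (tt N78935 (iv4 F283768)) (tt N72771 (iv5 F336856)) (tt N80471 D170427) (tt N52579 (iv7 F336825)))
theorem Q46617 : ∀ i, i < 46617 → P i := stepQ 46616 Q46616 (allL N46616 (tt N25656 F332549) (tt N52219 (iv0 F332550)) (tt N52217 (iv2 F336836)) (tt N78890 F261862) (tt N24306 (iv4 D81709)) (tt N80472 D170428) (tt N80473 D170429) (tt N52216 (iv7 F350620)))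
theorem Q46618 : ∀ i, i < 46618 → P i := stepQ 46617 Q46617 (allL N46617 (tt N33321 F335856) (tt N66677 (iv0 F319121)) (tt N52582 (iv2 F336838)) (tt N72771 (iv3 F336855)) (tt N61746 (iv4 F339805)) (tt N24306 (iv5 D81710)) (tt N44019 (iv6 F339806)) (tt N52580 (iv7 F336830)))
theorem Q46619 : ∀ i, i < 46619 → P i := stepQ 46618 Q46618 (allL N46618 (tt N80474 D170432) (tt N80462 (iv0 F341003)) (tt N52583 (iv2 F336840)) (tt N80471 (iv3 F267892)) (tt N80473 (iv4 F267893)) (tt N66854 (iv5 F319723)) (tt N24306 (iv6 D81711)) (tt N68570 (iv7 F340988)))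
theorem Q46620 : ∀ i, i < 46620 → P i := stepQ 46619 Q46619 (allL N46619 (tt N24307 (iv1 D81713)) (tt N52586 F150007) (tt N52584 (iv2 F313238)) (tt N75966 (iv3 F313239)) (tt N61753 (iv4 F348999)) (tt N36315 (iv5 F313240)) (tt N75635 (iv6 F313241)) (tt N36314 (iv7 F313242)))
theorem Q46621 : ∀ i, i < 46621 → P i := stepQ 46620 Q46620 (allL N46620 (tt N60978 (iv1 F313244)) (tt N60981 (iv0 F313245)) (tt N52585 (iv2 F150002)) (tt N79905 (iv3 F349009)) (tt N24307 (iv4 D81714)) (tt N80475 D170448) (tt N24316 F125631) (tt N60979 F311005))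
theorem Q46622 : ∀ i, i < 46622 → P i := stepQ 46621 Q46621 (allL N46621 (tt N52584 (iv1 F150001)) (tt N36314 (iv0 F308836)) (tt N52586 (iv2 F150004)) (tt N33596 (iv3 F308839)) (tt N60979 (iv4 F308841)) (tt N24308 F125632) (tt N36233 F315570) (tt N24307 (iv7 D81715)))
theorem Q46623 : ∀ i, i < 46623 → P i := stepQ 46622 Q46622 (allL N46622 (tt N76163 (iv1 F301936)) (tt N24309 (iv0 D81716)) (tt N79364 (iv2 F312084)) (tt N68499 F309885) (tt N80476 D170452) (tt N75406 (iv5 F344141)) (tt N46445 (iv6 F312086)) (tt N52381 (iv7 F317487)))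
theorem Q46624 : ∀ i, i < 46624 → P i := stepQ 46623 Q46623 (allL N46623 (tt N79364 (iv1 F340795)) (tt N52381 (iv0 F340792)) (tt N24309 (iv2 D81718)) (tt N46493 (iv3 F301941)) (tt N52843 (iv4 F151629)) (tt N75984 (iv5 F337163)) (tt N68504 (iv6 F337043)) (tt N76163 (iv7 F301939)))
theorem Q46625 : ∀ i, i < 46625 → P i := stepQ 46624 Q46624 (allL N46624 (tt N68456 (iv1 F344908)) (tt N80477 D170463) (tt N75984 (iv2 F337162)) (tt N24310 F125633) (tt N79124 (iv4 F344912)) (tt N24309 (iv5 D81719)) (tt N80478 D170465) (tt N73103 (iv7 F324346)))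
theorem Q46626 : ∀ i, i < 46626 → P i := stepQ 46625 Q46625 (allL N46625 (tt N68506 (iv1 F344905)) (tt N68500 (iv0 F344906)) (tt N68504 (iv2 F337042)) (tt N24311 F125634) (tt N52844 (iv4 F151636)) (tt N80479 D170468) (tt N24309 (iv6 D81720)) (tt N68505 (iv7 F337052)))
theorem Q46627 : ∀ i, i < 46627 → P i := stepQ 46626 Q46626 (allL N46626 (tt N75269 (iv1 F315507)) (tt N67097 (iv0 F318179)) (tt N46495 (iv2 F301942)) (tt N32892 (iv3 F316379)) (tt N24310 (iv4 D81723)) (tt N46633 (iv5 F125654)) (tt N80480 D170478) (tt N73121 (iv7 F324351)))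
theorem Q46628 : ∀ i, i < 46628 → P i := stepQ 46627 Q46627 (allL N46627 (tt N73140 (iv1 F326371)) (tt N72744 (iv0 F335051)) (tt N46496 (iv2 F301944)) (tt N80478 (iv3 F267906)) (tt N80480 (iv4 F267926)) (tt N80481 D170481) (tt N24310 (iv6 D81724)) (tt N40742 (iv7 F326373)))
theorem Q46629 : ∀ i, i < 46629 → P i := stepQ 46628 Q46628 (allL N46628 (tt N35290 F125644) (tt N35303 (iv0 F125645)) (tt N35301 F125643) (tt N80479 (iv3 F267907)) (tt N80482 D170483) (tt N24311 (iv5 D81725)) (tt N80481 (iv6 F267928)) (tt N35300 F151618))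
theorem Q46630 : ∀ i, i < 46630 → P i := stepQ 46629 Q46629 (allL N46629 (tt N46497 F300193) (tt N45384 (iv0 F151617)) (tt N46498 (iv2 F301033)) (tt N68505 (iv3 F337049)) (tt N46491 F300194) (tt N35300 (iv5 F151616)) (tt N72238 (iv6 F312839)) (tt N24311 (iv7 D81726)))
theorem Q46631 : ∀ i, i < 46631 → P i := stepQ 46630 Q46630 (allL N46630 (tt N67097 (iv1 F318180)) (tt N75269 (iv0 F315506)) (tt N73121 (iv2 F324349)) (tt N80483 D170508) (tt N24312 (iv4 D81734)) (tt N46632 (iv5 F125653)) (tt N40744 F324176) (tt N46495 (iv7 F301943)))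
theorem Q46632 : ∀ i, i < 46632 → P i := stepQ 46631 Q46631 (allL N46631 (tt N75406 (iv1 F344140)) (tt N75402 (iv0 F332124)) (tt N75665 (iv2 F337677)) (tt N24314 (iv3 D81739)) (tt N74246 (iv4 F332092)) (tt N65396 (iv5 F201396)) (tt N75903 (iv6 F316530)) (tt N80438 (iv7 F267500)))
theorem Q46633 : ∀ i, i < 46633 → P i := stepQ 46632 Q46632 (allL N46632 (tt N52756 (iv1 F297919)) (tt N42276 F317906) (tt N80389 (iv2 F301933)) (tt N80484 D170522) (tt N24314 (iv4 D81740)) (tt N46630 F125653) (tt N75952 (iv6 F316531)) (tt N80387 (iv7 F301932)))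
theorem Q46634 : ∀ i, i < 46634 → P i := stepQ 46633 Q46633 (allL N46633 (tt N42276 F317907) (tt N52756 (iv0 F297918)) (tt N80387 (iv2 F301930)) (tt N61480 (iv3 F318648)) (tt N24315 (iv4 D81743)) (tt N46626 F125654) (tt N41022 F321029) (tt N80389 (iv7 F301934)))
theorem Q46635 : ∀ i, i < 46635 → P i := stepQ 46634 Q46634 (allL N46634 (tt N24316 (iv1 D81746)) (tt N46636 F125657) (tt N61073 (iv2 F313075)) (tt N32663 (iv3 F313104)) (tt N46653 (iv4 F125724)) (tt N46643 (iv5 F125726)) (tt N32661 (iv6 F313105)) (tt N75613 (iv7 F317898)))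
theorem Q46636 : ∀ i, i < 46636 → P i := stepQ 46635 Q46635 (allL N46635 (tt N80485 D170543) (tt N75556 (iv0 F363496)) (tt N80486 D170545) (tt N24316 (iv3 D81747)) (tt N69416 (iv4 F316370)) (tt N80487 D170546) (tt N79905 (iv6 F349012)) (tt N75669 (iv7 F354930)))
theorem Q46637 : ∀ i, i < 46637 → P i := stepQ 46636 Q46636 (allL N46636 (tt N46634 (iv1 F125657)) (tt N46033 F313106) (tt N46637 (iv2 F125658)) (tt N80487 (iv3 F267973)) (tt N34836 F299887) (tt N24316 (iv5 D81748)) (tt N80488 D170548) (tt N46563 F125656))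
theorem Q46638 : ∀ i, i < 46638 → P i := stepQ 46637 Q46637 (allL N46637 (tt N61073 (iv1 F313074)) (tt N75613 (iv0 F317893)) (tt N46636 F125658) (tt N75669 (iv3 F354928)) (tt N24317 F125659) (tt N46563 F125660) (tt N75667 (iv6 F314924)) (tt N24316 (iv7 D81749)))
theorem Q46639 : ∀ i, i < 46639 → P i := stepQ 46638 Q46638 (allL N46638 (tt N78595 (iv1 F300254)) (tt N24320 (iv0 D81758)) (tt N78596 (iv2 F304005)) (tt N29776 (iv3 F304582)) (tt N78594 (iv4 F302949)) (tt N73934 (iv5 F346234)) (tt N29774 (iv6 F304583)) (tt N52367 (iv7 F302997)))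
theorem Q46640 : ∀ i, i < 46640 → P i := stepQ 46639 Q46639 (allL N46639 (tt N78596 (iv1 F300253)) (tt N52367 (iv0 F300252)) (tt N24320 (iv2 D81760)) (tt N80439 (iv3 F267525)) (tt N80293 (iv4 F262791)) (tt N80489 D170568) (tt N80490 D170569) (tt N78595 (iv7 F300257)))
theorem Q46641 : ∀ i, i < 46641 → P i := stepQ 46640 Q46640 (allL N46640 (tt N45269 (iv1 F313098)) (tt N80491 D170571) (tt N80489 (iv2 F267996)) (tt N24321 F125678) (tt N75942 (iv4 F344114)) (tt N24320 (iv5 D81761)) (tt N80492 D170573) (tt N80310 F301929))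
theorem Q46642 : ∀ i, i < 46642 → P i := stepQ 46641 Q46641 (allL N46641 (tt N80493 D170574) (tt N43119 (iv0 F344377)) (tt N80490 (iv2 F267997)) (tt N24322 F125679) (tt N68512 (iv4 F337062)) (tt N80494 D170576) (tt N24320 (iv6 D81762)) (tt N69413 (iv7 F313103)))
theorem Q46643 : ∀ i, i < 46643 → P i := stepQ 46642 Q46642 (allL N46642 (tt N24321 (iv1 D81764)) (tt N24329 F125682) (tt N36646 F318187) (tt N80495 D170581) (tt N80386 (iv4 F302811)) (tt N25471 F299987) (tt N68416 (iv6 F313084)) (tt N42025 (iv7 F313070)))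
theorem Q46644 : ∀ i, i < 46644 → P i := stepQ 46643 Q46643 (allL N46643 (tt N29910 (iv1 F312195)) (tt N46031 (iv0 F311471)) (tt N32642 (iv2 F313071)) (tt N32645 (iv3 F313099)) (tt N24321 (iv4 D81765)) (tt N46634 F125726) (tt N80496 D170585) (tt N46032 (iv7 F313087)))
theorem Q46645 : ∀ i, i < 46645 → P i := stepQ 46644 Q46644 (allL N46644 (tt N33380 F318655) (tt N42019 (iv0 F313101)) (tt N80440 (iv2 F267545)) (tt N80492 (iv3 F267998)) (tt N80496 (iv4 F268014)) (tt N75171 (iv5 F311834)) (tt N24321 (iv6 D81766)) (tt N75500 (iv7 F313102)))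
theorem Q46646 : ∀ i, i < 46646 → P i := stepQ 46645 Q46645 (allL N46645 (tt N46522 F125683) (tt N75281 F310846) (tt N69412 F310847) (tt N80494 (iv3 F267999)) (tt N80497 D170592) (tt N24322 (iv5 D81768)) (tt N75171 (iv6 F311835)) (tt N69414 F310848))
theorem Q46647 : ∀ i, i < 46647 → P i := stepQ 46646 Q46646 (allL N46646 (tt N68460 (iv1 F312452)) (tt N43099 (iv0 F314273)) (tt N68459 (iv2 F314275)) (tt N24324 (iv3 D81773)) (tt N45600 (iv4 F303286)) (tt N80498 D170600) (tt N45599 F302704) (tt N47740 F129601))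
theorem Q46648 : ∀ i, i < 46648 → P i := stepQ 46647 Q46647 (allL N46647 (tt N25379 F299189) (tt N42275 F317880) (tt N42274 F317891) (tt N80498 (iv3 F268035)) (tt N46033 (iv4 F310852)) (tt N24324 (iv5 D81774)) (tt N41038 F315707) (tt N40858 F321826))
theorem Q46649 : ∀ i, i < 46649 → P i := stepQ 46648 Q46648 (allL N46648 (tt N25411 F299060) (tt N25391 F299061) (tt N25408 F299062) (tt N45599 (iv3 F301848)) (tt N24325 F125699) (tt N42725 (iv5 F309750)) (tt N24324 (iv6 D81775)) (tt N25409 F299063))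
theorem Q46650 : ∀ i, i < 46650 → P i := stepQ 46649 Q46649 (allL N46649 (tt N52176 (iv1 F147883)) (tt N80390 (iv0 F296426)) (tt N35311 F125701) (tt N31355 (iv3 F325865)) (tt N24326 (iv4 D81776)) (tt N67989 (iv5 F354289)) (tt N79220 (iv6 F253514)) (tt N35310 F125702))
theorem Q46651 : ∀ i, i < 46651 → P i := stepQ 46650 Q46650 (allL N46650 (tt N24328 (iv1 D81786)) (tt N80439 F267528) (tt N75610 (iv2 F324853)) (tt N44538 F305342) (tt N75632 (iv4 F317809)) (tt N62557 (iv5 F359297)) (tt N43423 F305343) (tt N52375 F192539))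
theorem Q46652 : ∀ i, i < 46652 → P i := stepQ 46651 Q46651 (allL N46651 (tt N52375 (iv1 F267521)) (tt N75610 (iv0 F324851)) (tt N24328 (iv2 D81787)) (tt N78595 (iv3 F300255)) (tt N80439 F301927) (tt N40875 F322356) (tt N62589 (iv6 F323833)) (tt N80439 (iv7 F267526)))
theorem Q46653 : ∀ i, i < 46653 → P i := stepQ 46652 Q46652 (allL N46652 (tt N43424 F311837) (tt N66850 F311838) (tt N68364 F311839) (tt N24331 (iv3 D81795)) (tt N68363 F311840) (tt N76002 F311841) (tt N47680 (iv6 F129426)) (tt N68363 F311842))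
theorem Q46654 : ∀ i, i < 46654 → P i := stepQ 46653 Q46653 (allL N46653 (tt N42275 F317881) (tt N25379 F299187) (tt N40858 (iv2 F320077)) (tt N76002 (iv3 F309884)) (tt N46634 F125724) (tt N24331 (iv5 D81796)) (tt N33372 F318236) (tt N42274 F317901))
theorem Q46655 : ∀ i, i < 46655 → P i := stepQ 46654 Q46654 (allL N46654 (tt N25432 F297291) (tt N46177 (iv0 F298486)) (tt N47744 (iv2 F129612)) (tt N80499 D170641) (tt N24332 (iv4 D81797)) (tt N80500 D170642) (tt N47681 (iv6 F129436)) (tt N48250 (iv7 F131973)))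
theorem Q46656 : ∀ i, i < 46656 → P i := stepQ 46655 Q46655 (allL N46655 (tt N80501 D170643) (tt N80502 D170644) (tt N75620 (iv2 F320001)) (tt N24333 (iv3 D81798)) (tt N27940 F297180) (tt N80503 D170646) (tt N24377 F297181) (tt N34845 F125727))
theorem Q46657 : ∀ i, i < 46657 → P i := stepQ 46656 Q46656 (allL N46656 (tt N63931 (iv1 F191843)) (tt N46667 (iv0 F125747)) (tt N27978 (iv2 F299004)) (tt N80503 (iv3 F268097)) (tt N80504 D170647) (tt N24333 (iv5 D81799)) (tt N52758 (iv6 F299273)) (tt N34846 F125728))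
theorem Q46658 : ∀ i, i < 46658 → P i := stepQ 46657 Q46657 (allL N46657 (tt N63916 (iv1 F191779)) (tt N24334 (iv0 D81800)) (tt N35164 (iv2 F125730)) (tt N80505 D170649) (tt N80506 D170650) (tt N34940 F125729) (tt N80507 D170651) (tt N64334 (iv7 F302887)))
theorem Q46659 : ∀ i, i < 46659 → P i := stepQ 46658 Q46658 (allL N46658 (tt N24334 (iv1 D81801)) (tt N63916 (iv0 F191778)) (tt N64334 (iv2 F302885)) (tt N80508 D170652) (tt N80509 D170653) (tt N35165 F125732) (tt N80510 D170654) (tt N35164 F125731))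
theorem Q46660 : ∀ i, i < 46660 → P i := stepQ 46659 Q46659 (allL N46659 (tt N80511 D170655) (tt N48201 (iv0 F304675)) (tt N64340 (iv2 F304298)) (tt N80512 D170657) (tt N24334 (iv4 D81802)) (tt N80513 D170658) (tt N80514 D170659) (tt N64335 (iv7 F304424)))
theorem Q46661 : ∀ i, i < 46661 → P i := stepQ 46660 Q46660 (allL N46660 (tt N80515 D170660) (tt N80516 D170661) (tt N64341 (iv2 F304299)) (tt N76873 (iv3 F240120)) (tt N80514 (iv4 F268125)) (tt N70254 (iv5 F329398)) (tt N24334 (iv6 D81803)) (tt N80517 D170663))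
theorem Q46662 : ∀ i, i < 46662 → P i := stepQ 46661 Q46661 (allL N46661 (tt N64026 (iv1 F304268)) (tt N24335 (iv0 D81804)) (tt N45348 (iv2 F196912)) (tt N80518 D170664) (tt N79388 (iv4 F299041)) (tt N64277 (iv5 F302516)) (tt N45335 F196914) (tt N64300 (iv7 F299246)))
theorem Q46663 : ∀ i, i < 46663 → P i := stepQ 46662 Q46662 (allL N46662 (tt N24335 (iv1 D81805)) (tt N64026 (iv0 F304267)) (tt N64300 F301448) (tt N78614 (iv3 F304271)) (tt N78421 F301449) (tt N64278 (iv5 F302518)) (tt N24392 F301450) (tt N45348 F196911))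
theorem Q46664 : ∀ i, i < 46664 → P i := stepQ 46663 Q46663 (allL N46663 (tt N34917 F125735) (tt N35074 F125734) (tt N35072 F125733) (tt N43742 (iv3 F191144)) (tt N38443 F329054) (tt N24335 (iv5 D81806)) (tt N70254 (iv6 F329399)) (tt N35071 F125739))
theorem Q46665 : ∀ i, i < 46665 → P i := stepQ 46664 Q46664 (allL N46664 (tt N64300 F302071) (tt N45348 (iv0 F125738)) (tt N64026 (iv2 F304269)) (tt N76875 (iv3 F240121)) (tt N24338 F125736) (tt N35071 (iv5 F125737)) (tt N47881 (iv6 F304031)) (tt N24335 (iv7 D81807)))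
theorem Q46666 : ∀ i, i < 46666 → P i := stepQ 46665 Q46665 (allL N46665 (tt N34984 (iv1 F125741)) (tt N24336 (iv0 D81808)) (tt N35165 (iv2 F125740)) (tt N80519 D170667) (tt N25469 F300099) (tt N64334 (iv5 F302886)) (tt N25468 F300100) (tt N34940 F125742))
theorem Q46667 : ∀ i, i < 46667 → P i := stepQ 46666 Q46666 (allL N46666 (tt N49030 F309032) (tt N35110 (iv0 F198241)) (tt N28726 F308442) (tt N24336 (iv3 D81809)) (tt N24339 F125744) (tt N48569 F306610) (tt N28697 F306611) (tt N43714 (iv7 F190624)))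
theorem Q46668 : ∀ i, i < 46668 → P i := stepQ 46667 Q46667 (allL N46667 (tt N46656 F125747) (tt N34502 F125748) (tt N48211 (iv2 F301693)) (tt N48569 F308320) (tt N80520 D170671) (tt N24336 (iv5 D81810)) (tt N80521 D170672) (tt N47773 (iv7 F129720)))
theorem Q46669 : ∀ i, i < 46669 → P i := stepQ 46668 Q46668 (allL N46668 (tt N64025 (iv1 F302059)) (tt N52808 (iv0 F301706)) (tt N45358 F125757) (tt N80522 D170675) (tt N24337 (iv4 D81813)) (tt N64599 (iv5 F197810)) (tt N45338 F125758) (tt N63989 (iv7 F192007)))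
theorem Q46670 : ∀ i, i < 46670 → P i := stepQ 46669 Q46669 (allL N46669 (tt N35348 (iv1 F190559)) (tt N24339 (iv0 D81816)) (tt N35401 (iv2 F190700)) (tt N80523 D170677) (tt N80524 D170678) (tt N40862 F322348) (tt N35389 (iv6 F190701)) (tt N35372 (iv7 F190839)))
theorem Q46671 : ∀ i, i < 46671 → P i := stepQ 46670 Q46670 (allL N46670 (tt N35401 (iv1 F190868)) (tt N35372 (iv0 F190865)) (tt N24339 (iv2 D81818)) (tt N47959 (iv3 F130177)) (tt N28726 F308438) (tt N43400 F125763) (tt N28724 F308439) (tt N35348 (iv7 F190561)))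
theorem Q46672 : ∀ i, i < 46672 → P i := stepQ 46671 Q46671 (allL N46671 (tt N24473 (iv1 F125769)) (tt N24340 (iv0 D81819)) (tt N35506 F322045) (tt N48257 (iv3 F322579)) (tt N80373 (iv4 F303717)) (tt N45695 F301008) (tt N69218 (iv6 F317536)) (tt N47012 F127992))
theorem Q46673 : ∀ i, i < 46673 → P i := stepQ 46672 Q46672 (allL N46672 (tt N80525 D170681) (tt N47594 (iv0 F129200)) (tt N78570 (iv2 F249486)) (tt N80191 (iv3 F355917)) (tt N24340 (iv4 D81820)) (tt N46861 F127226) (tt N80526 D170683) (tt N64342 (iv7 F195933)))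
theorem Q46674 : ∀ i, i < 46674 → P i := stepQ 46673 Q46673 (allL N46673 (tt N79515 (iv1 F333806)) (tt N47778 F333805) (tt N78571 (iv2 F249489)) (tt N76880 (iv3 F240159)) (tt N80526 (iv4 F268191)) (tt N47805 F339172) (tt N24340 (iv6 D81821)) (tt N79514 (iv7 F333800)))
theorem Q46675 : ∀ i, i < 46675 → P i := stepQ 46674 Q46674 (allL N46674 (tt N45404 F301009) (tt N46210 F301010) (tt N47542 F128976) (tt N76881 (iv3 F240161)) (tt N53252 (iv4 F327675)) (tt N24341 (iv5 D81823)) (tt N47805 F339173) (tt N47543 (iv7 F128978)))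
theorem Q46676 : ∀ i, i < 46676 → P i := stepQ 46675 Q46675 (allL N46675 (tt N47367 (iv1 F264410)) (tt N47414 (iv0 F264408)) (tt N47341 (iv2 F189976)) (tt N24342 (iv3 D81824)) (tt N24344 F125770) (tt N52835 (iv5 F151595)) (tt N34196 F125771) (tt N47412 (iv7 F201141)))
theorem Q46677 : ∀ i, i < 46677 → P i := stepQ 46676 Q46676 (allL N46676 (tt N45405 F298006) (tt N46211 (iv0 F298062)) (tt N47135 (iv2 F128337)) (tt N55434 (iv3 F331197)) (tt N24343 (iv4 D81825)) (tt N53404 (iv5 F331183)) (tt N35275 F125772) (tt N47604 (iv7 F129244)))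
theorem Q46678 : ∀ i, i < 46678 → P i := stepQ 46677 Q46677 (allL N46677 (tt N80527 D170691) (tt N80371 (iv0 F340180)) (tt N46827 (iv2 F320693)) (tt N24345 (iv3 D81828)) (tt N55434 (iv4 F331198)) (tt N46790 F318548) (tt N35276 F125773) (tt N46146 (iv7 F303311)))
theorem Q46679 : ∀ i, i < 46679 → P i := stepQ 46678 Q46678 (allL N46678 (tt N25289 F125775) (tt N25292 F125776) (tt N45583 (iv2 F316270)) (tt N46790 (iv3 F316272)) (tt N37388 (iv4 F315394)) (tt N24345 (iv5 D81829)) (tt N37386 F313811) (tt N45582 (iv7 F316275)))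
theorem Q46680 : ∀ i, i < 46680 → P i := stepQ 46679 Q46679 (allL N46679 (tt N24348 (iv1 D81832)) (tt N46140 F125783) (tt N47448 (iv2 F128823)) (tt N43683 (iv3 F125785)) (tt N48454 (iv4 F132807)) (tt N27443 F125784) (tt N64823 (iv6 F314265)) (tt N48437 (iv7 F132702)))
theorem Q46681 : ∀ i, i < 46681 → P i := stepQ 46680 Q46680 (allL N46680 (tt N53335 (iv1 F351872)) (tt N64652 (iv0 F361942)) (tt N53867 (iv2 F154841)) (tt N24349 F125786) (tt N43979 F305741) (tt N79161 (iv5 F304173)) (tt N24348 (iv6 D81833)) (tt N64875 (iv7 F304178)))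
theorem Q46682 : ∀ i, i < 46682 → P i := stepQ 46681 Q46681 (allL N46681 (tt N49546 F155430) (tt N49554 F155432) (tt N49552 F155177) (tt N24350 (iv3 D81840)) (tt N24554 F125793) (tt N80528 D170714) (tt N54341 (iv6 F355383)) (tt N24804 F125794))
theorem Q46683 : ∀ i, i < 46683 → P i := stepQ 46682 Q46682 (allL N46682 (tt N34527 (iv1 F301842)) (tt N34477 F301604) (tt N34524 F301605) (tt N80528 (iv3 F268233)) (tt N80529 D170716) (tt N24350 (iv5 D81841)) (tt N80530 D170717) (tt N34525 F301606))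
theorem Q46684 : ∀ i, i < 46684 → P i := stepQ 46683 Q46683 (allL N46683 (tt N63984 (iv1 F305169)) (tt N63992 (iv0 F305542)) (tt N64293 (iv2 F195646)) (tt N80531 D170725) (tt N24351 (iv4 D81845)) (tt N31765 (iv5 F336742)) (tt N52767 (iv6 F151228)) (tt N57815 (iv7 F329075)))
theorem Q46685 : ∀ i, i < 46685 → P i := stepQ 46684 Q46684 (allL N46684 (tt N25821 (iv1 F125802)) (tt N24352 (iv0 D81846)) (tt N28070 (iv2 F125803)) (tt N48421 (iv3 F132576)) (tt N28069 F125800) (tt N41877 F125801) (tt N63503 (iv6 F310883)) (tt N54119 (iv7 F156012)))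
theorem Q46686 : ∀ i, i < 46686 → P i := stepQ 46685 Q46685 (allL N46685 (tt N24352 (iv1 D81847)) (tt N25821 F125804) (tt N54119 F156015) (tt N46830 (iv3 F127185)) (tt N26067 (iv4 F125806)) (tt N33691 F125807) (tt N80532 D170727) (tt N28070 F125805))
theorem Q46687 : ∀ i, i < 46687 → P i := stepQ 46686 Q46686 (allL N46686 (tt N34582 (iv1 F125812)) (tt N34592 F125811) (tt N34590 F125808) (tt N24353 F125809) (tt N68452 (iv4 F210555)) (tt N24352 (iv5 D81848)) (tt N80533 D170728) (tt N34589 F125810))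
theorem Q46688 : ∀ i, i < 46688 → P i := stepQ 46687 Q46687 (allL N46687 (tt N80534 D170729) (tt N24539 F315081) (tt N54120 (iv2 F156016)) (tt N24354 F125813) (tt N24360 F125814) (tt N57353 (iv5 F330942)) (tt N24352 (iv6 D81849)) (tt N24677 (iv7 F298755)))
theorem Q46689 : ∀ i, i < 46689 → P i := stepQ 46688 Q46688 (allL N46688 (tt N74746 (iv1 F345564)) (tt N80535 D170733) (tt N78578 (iv2 F298184)) (tt N80533 (iv3 F268252)) (tt N64290 (iv4 F195631)) (tt N80536 D170734) (tt N24353 (iv6 D81850)) (tt N80537 D170735))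
theorem Q46690 : ∀ i, i < 46690 → P i := stepQ 46689 Q46689 (allL N46689 (tt N65141 (iv1 F298756)) (tt N65140 (iv0 F298757)) (tt N24673 (iv2 F298204)) (tt N57353 (iv3 F330941)) (tt N74575 (iv4 F330955)) (tt N24354 (iv5 D81851)) (tt N80536 (iv6 F268301)) (tt N24678 (iv7 F298760)))
theorem Q46691 : ∀ i, i < 46691 → P i := stepQ 46690 Q46690 (allL N46690 (tt N65145 (iv1 F298306)) (tt N65144 (iv0 F298310)) (tt N24676 (iv2 F298025)) (tt N80538 D170743) (tt N24355 (iv4 D81859)) (tt N80539 D170744) (tt N24356 F125875) (tt N24680 (iv7 F298775)))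
theorem Q46692 : ∀ i, i < 46692 → P i := stepQ 46691 Q46691 (allL N46691 (tt N80540 D170745) (tt N77794 (iv0 F365867)) (tt N80541 D170747) (tt N24356 (iv3 D81861)) (tt N24371 F125878) (tt N80542 D170748) (tt N80538 (iv6 F268326)) (tt N78422 (iv7 F248764)))
theorem Q46693 : ∀ i, i < 46693 → P i := stepQ 46692 Q46692 (allL N46692 (tt N45464 F125879) (tt N45459 F125880) (tt N78490 (iv2 F248950)) (tt N80542 (iv3 F268328)) (tt N78423 (iv4 F248766)) (tt N24356 (iv5 D81862)) (tt N80543 D170749) (tt N78423 (iv7 F248765)))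
theorem Q46694 : ∀ i, i < 46694 → P i := stepQ 46693 Q46693 (allL N46693 (tt N43683 F125885) (tt N43682 F125886) (tt N35350 F125881) (tt N24357 (iv3 D81863)) (tt N34959 F125882) (tt N25784 F125883) (tt N77141 (iv6 F304379)) (tt N43684 F125884))
theorem Q46695 : ∀ i, i < 46695 → P i := stepQ 46694 Q46694 (allL N46694 (tt N54143 (iv1 F351618)) (tt N54100 (iv0 F351602)) (tt N54073 (iv2 F155891)) (tt N43679 F125887) (tt N43725 F125888) (tt N80544 D170755) (tt N24358 (iv6 D81865)) (tt N54142 (iv7 F351745)))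
theorem Q46696 : ∀ i, i < 46696 → P i := stepQ 46695 Q46695 (allL N46695 (tt N48665 (iv1 F294198)) (tt N48664 (iv0 F294197)) (tt N25535 F125889) (tt N24361 F125890) (tt N26814 F125891) (tt N70358 (iv5 F327072)) (tt N24359 (iv6 D81866)) (tt N48666 (iv7 F294196)))
theorem Q46697 : ∀ i, i < 46697 → P i := stepQ 46696 Q46696 (allL N46696 (tt N54124 (iv1 F156028)) (tt N24360 (iv0 D81867)) (tt N54121 (iv2 F184641)) (tt N80545 D170757) (tt N67010 (iv4 F206358)) (tt N80546 D170758) (tt N64461 (iv6 F366858)) (tt N54122 F184642))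
theorem Q46698 : ∀ i, i < 46698 → P i := stepQ 46697 Q46697 (allL N46697 (tt N80547 D170762) (tt N80548 D170763) (tt N54123 (iv2 F156020)) (tt N24362 F125892) (tt N66111 (iv4 F344986)) (tt N24360 (iv5 D81869)) (tt N70358 (iv6 F327073)) (tt N64607 (iv7 F304189)))
theorem Q46699 : ∀ i, i < 46699 → P i := stepQ 46698 Q46698 (allL N46698 (tt N27022 F294993) (tt N24361 (iv0 D81871)) (tt N48669 F295447) (tt N46802 (iv3 F136831)) (tt N49555 (iv4 F136829)) (tt N58227 (iv5 F327601)) (tt N72606 (iv6 F329818)) (tt N48670 F295448))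
theorem Q46700 : ∀ i, i < 46700 → P i := stepQ 46699 Q46699 (allL N46699 (tt N24361 (iv1 D81872)) (tt N27022 F294994) (tt N48670 F295449) (tt N80549 D170770) (tt N51450 (iv4 F145025)) (tt N58228 (iv5 F343089)) (tt N80550 D170772) (tt N48669 F295450))
theorem Q46701 : ∀ i, i < 46701 → P i := stepQ 46700 Q46700 (allL N46700 (tt N40366 F341355) (tt N65406 F201553) (tt N25285 F125908) (tt N80551 D170808) (tt N24363 (iv4 D81890)) (tt N62567 (iv5 F341367)) (tt N63990 (iv6 F300049)) (tt N64281 (iv7 F195565)))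
theorem Q46702 : ∀ i, i < 46702 → P i := stepQ 46701 Q46701 (allL N46701 (tt N25042 F301415) (tt N24364 (iv0 D81892)) (tt N64282 F195575) (tt N80552 D170811) (tt N58737 (iv4 F358818)) (tt N80553 D170812) (tt N58735 (iv6 F358824)) (tt N64283 (iv7 F195579)))
theorem Q46703 : ∀ i, i < 46703 → P i := stepQ 46702 Q46702 (allL N46702 (tt N24364 (iv1 D81893)) (tt N25042 F301417) (tt N64283 F195581) (tt N80554 D170814) (tt N45880 F126227) (tt N72843 (iv5 F341286)) (tt N64354 F301418) (tt N64282 F195576))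
theorem Q46704 : ∀ i, i < 46704 → P i := stepQ 46703 Q46703 (allL N46703 (tt N80555 D170816) (tt N80556 D170817) (tt N80557 D170818) (tt N24364 (iv3 D81894)) (tt N80538 (iv4 F268325)) (tt N40347 F341279) (tt N24371 F126228) (tt N64608 (iv7 F304209)))
theorem Q46705 : ∀ i, i < 46705 → P i := stepQ 46704 Q46704 (allL N46704 (tt N80558 D170826) (tt N80559 D170827) (tt N80560 D170828) (tt N24365 (iv3 D81897)) (tt N52295 (iv4 F148453)) (tt N78464 (iv5 F248832)) (tt N73091 (iv6 F326436)) (tt N44648 F126230))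
theorem Q46706 : ∀ i, i < 46706 → P i := stepQ 46705 Q46705 (allL N46705 (tt N80561 D170835) (tt N80562 D170836) (tt N80563 D170837) (tt N24367 (iv3 D81901)) (tt N52251 (iv4 F148280)) (tt N80564 D170838) (tt N30983 F326416) (tt N48394 (iv7 F132333)))
theorem Q46707 : ∀ i, i < 46707 → P i := stepQ 46706 Q46706 (allL N46706 (tt N48309 (iv1 F132124)) (tt N48308 (iv0 F132114)) (tt N25326 F126243) (tt N80564 (iv3 F268436)) (tt N25369 F126244) (tt N24367 (iv5 D81902)) (tt N61324 (iv6 F351122)) (tt N48335 (iv7 F132158)))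
theorem Q46708 : ∀ i, i < 46708 → P i := stepQ 46707 Q46707 (allL N46707 (tt N24368 (iv1 D81905)) (tt N25330 F126247) (tt N25329 (iv2 F280939)) (tt N35533 (iv3 F299643)) (tt N58200 (iv4 F323098)) (tt N35230 (iv5 F299644)) (tt N64939 (iv6 F299647)) (tt N25328 (iv7 F280940)))
theorem Q46709 : ∀ i, i < 46709 → P i := stepQ 46708 Q46708 (allL N46708 (tt N80565 D170849) (tt N58214 (iv0 F327461)) (tt N80566 D170851) (tt N24369 (iv3 D81907)) (tt N24899 F126254) (tt N80567 D170852) (tt N80568 D170853) (tt N58706 (iv7 F327005)))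
theorem Q46710 : ∀ i, i < 46710 → P i := stepQ 46709 Q46709 (allL N46709 (tt N45949 F301273) (tt N48305 (iv0 F132106)) (tt N64286 (iv2 F195592)) (tt N80567 (iv3 F268459)) (tt N58709 (iv4 F327009)) (tt N24369 (iv5 D81908)) (tt N80569 D170854) (tt N58709 (iv7 F327010)))
theorem Q46711 : ∀ i, i < 46711 → P i := stepQ 46710 Q46710 (allL N46710 (tt N35266 (iv1 F129972)) (tt N35267 (iv0 F126256)) (tt N45360 (iv2 F298897)) (tt N80568 (iv3 F268460)) (tt N25980 F126255) (tt N80570 D170855) (tt N24369 (iv6 D81909)) (tt N45361 (iv7 F299359)))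
theorem Q46712 : ∀ i, i < 46712 → P i := stepQ 46711 Q46711 (allL N46711 (tt N80571 D170857) (tt N80572 D170858) (tt N80573 D170859) (tt N24370 (iv3 D81910)) (tt N45815 F126257) (tt N80574 D170860) (tt N58691 (iv6 F325621)) (tt N64285 (iv7 F195591)))
theorem Q46713 : ∀ i, i < 46713 → P i := stepQ 46712 Q46712 (allL N46712 (tt N48305 (iv1 F132107)) (tt N45949 F301272) (tt N58709 (iv2 F327008)) (tt N80574 (iv3 F268469)) (tt N64286 (iv4 F195594)) (tt N24370 (iv5 D81911)) (tt N70145 (iv6 F351287)) (tt N64286 (iv7 F195593)))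
theorem Q46714 : ∀ i, i < 46714 → P i := stepQ 46713 Q46713 (allL N46713 (tt N78426 (iv1 F248771)) (tt N24371 (iv0 D81913)) (tt N78425 (iv2 F262396)) (tt N80575 D170865) (tt N80576 D170866) (tt N80577 D170867) (tt N80578 D170868) (tt N78424 F262397))
theorem Q46715 : ∀ i, i < 46715 → P i := stepQ 46714 Q46714 (allL N46714 (tt N24371 (iv1 D81914)) (tt N78426 F248773) (tt N78424 F262395) (tt N80579 D170869) (tt N79317 (iv4 F254054)) (tt N80580 D170870) (tt N80581 D170871) (tt N78425 (iv7 F262394)))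
theorem Q46716 : ∀ i, i < 46716 → P i := stepQ 46715 Q46715 (allL N46715 (tt N78425 (iv1 F248772)) (tt N78424 F248769) (tt N24371 (iv2 D81915)) (tt N58209 (iv3 F327606)) (tt N80541 (iv4 F268327)) (tt N80582 D170872) (tt N80557 (iv6 F268403)) (tt N78426 (iv7 F248770)))
theorem Q46717 : ∀ i, i < 46717 → P i := stepQ 46716 Q46716 (allL N46716 (tt N80583 D170873) (tt N80584 D170874) (tt N80582 (iv2 F268481)) (tt N24372 F126259) (tt N80585 D170875) (tt N24371 (iv5 D81916)) (tt N40346 F341291) (tt N78427 (iv7 F248775)))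
theorem Q46718 : ∀ i, i < 46718 → P i := stepQ 46717 Q46717 (allL N46717 (tt N44651 (iv1 F126261)) (tt N24372 (iv0 D81917)) (tt N64288 F195616) (tt N80586 D170877) (tt N64289 (iv4 F195621)) (tt N29061 F126260) (tt N80587 D170878) (tt N64289 (iv7 F195619)))
theorem Q46719 : ∀ i, i < 46719 → P i := stepQ 46718 Q46718 (allL N46718 (tt N24372 (iv1 D81918)) (tt N44651 F126262) (tt N64289 F195622) (tt N80588 D170879) (tt N64288 (iv4 F195614)) (tt N44652 F126263) (tt N80589 D170880) (tt N64288 F195617))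
theorem Q46720 : ∀ i, i < 46720 → P i := stepQ 46719 Q46719 (allL N46719 (tt N48531 (iv1 F133327)) (tt N26027 F126264) (tt N53927 F155027) (tt N52822 (iv3 F151567)) (tt N24373 (iv4 D81920)) (tt N53331 (iv5 F153354)) (tt N43129 (iv6 F309803)) (tt N53926 F155022))
theorem Q46721 : ∀ i, i < 46721 → P i := stepQ 46720 Q46720 (allL N46720 (tt N30549 (iv1 F314399)) (tt N53518 (iv0 F351962)) (tt N64295 (iv2 F195649)) (tt N44813 F307505) (tt N43129 F312012) (tt N80590 D170887) (tt N24373 (iv6 D81921)) (tt N80591 D170888))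
theorem Q46722 : ∀ i, i < 46722 → P i := stepQ 46721 Q46721 (allL N46721 (tt N26027 F126265) (tt N48531 (iv0 F133326)) (tt N53926 (iv2 F155023)) (tt N43152 F304120) (tt N24374 (iv4 D81922)) (tt N53332 (iv5 F153360)) (tt N80592 D170889) (tt N53927 (iv7 F155025)))
theorem Q46723 : ∀ i, i < 46723 → P i := stepQ 46722 Q46722 (allL N46722 (tt N63987 (iv1 F342609)) (tt N76091 (iv0 F342605)) (tt N64294 (iv2 F195648)) (tt N53482 (iv3 F153842)) (tt N80592 (iv4 F268487)) (tt N80593 D170892) (tt N24374 (iv6 D81923)) (tt N78730 (iv7 F359394)))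
theorem Q46724 : ∀ i, i < 46724 → P i := stepQ 46723 Q46723 (allL N46723 (tt N49392 (iv1 F335615)) (tt N49396 (iv0 F335616)) (tt N48695 (iv2 F134115)) (tt N24376 F126266) (tt N48695 (iv4 F134117)) (tt N42990 (iv5 F302945)) (tt N24375 (iv6 D81924)) (tt N80594 D170897))
theorem Q46725 : ∀ i, i < 46725 → P i := stepQ 46724 Q46724 (allL N46724 (tt N24376 (iv1 D81930)) (tt N24402 F126269) (tt N24401 (iv2 F277404)) (tt N26274 (iv3 F335612)) (tt N48579 (iv4 F335613)) (tt N44389 (iv5 F329681)) (tt N44390 F329530) (tt N24400 (iv7 F277410)))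
theorem Q46726 : ∀ i, i < 46726 → P i := stepQ 46725 Q46725 (allL N46725 (tt N24401 (iv1 F126276)) (tt N24400 F126277) (tt N24402 F126272) (tt N80594 (iv3 F268491)) (tt N34804 F126273) (tt N54683 (iv5 F289826)) (tt N28055 F126274) (tt N24376 (iv7 D81932)))
theorem Q46727 : ∀ i, i < 46727 → P i := stepQ 46726 Q46726 (allL N46726 (tt N28590 (iv1 F126380)) (tt N24377 (iv0 D81969)) (tt N48412 F132434) (tt N27913 F126379) (tt N36422 F303691) (tt N27911 F126378) (tt N36429 (iv6 F305735)) (tt N28263 (iv7 F126381)))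
theorem Q46728 : ∀ i, i < 46728 → P i := stepQ 46727 Q46727 (allL N46727 (tt N24377 (iv1 D81970)) (tt N28590 (iv0 F126384)) (tt N28263 (iv2 F126385)) (tt N43505 (iv3 F126383)) (tt N48765 (iv4 F134358)) (tt N28262 F126382) (tt N80595 D171014) (tt N48412 (iv7 F132432)))
theorem Q46729 : ∀ i, i < 46729 → P i := stepQ 46728 Q46728 (allL N46728 (tt N48412 (iv1 F132431)) (tt N28263 F126389) (tt N24377 (iv2 D81971)) (tt N27975 F126386) (tt N27938 F126387) (tt N46799 (iv5 F127115)) (tt N75620 (iv6 F320003)) (tt N28590 F126388))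
theorem Q46730 : ∀ i, i < 46730 → P i := stepQ 46729 Q46729 (allL N46729 (tt N69568 (iv1 F309757)) (tt N80595 (iv0 F335235)) (tt N73984 (iv2 F318430)) (tt N24378 (iv3 D81975)) (tt N44541 F307746) (tt N80596 D171027) (tt N63901 (iv6 F301211)) (tt N64308 (iv7 F195796)))
theorem Q46731 : ∀ i, i < 46731 → P i := stepQ 46730 Q46730 (allL N46730 (tt N64434 (iv1 F303603)) (tt N24972 (iv0 F303599)) (tt N62424 (iv2 F336658)) (tt N80596 (iv3 F268743)) (tt N59525 (iv4 F332944)) (tt N24378 (iv5 D81976)) (tt N62399 (iv6 F336655)) (tt N64309 (iv7 F195798)))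
theorem Q46732 : ∀ i, i < 46732 → P i := stepQ 46731 Q46731 (allL N46731 (tt N28579 F155447) (tt N28597 F155448) (tt N28595 F155509) (tt N24379 (iv3 D81978)) (tt N45676 (iv4 F312372)) (tt N80597 D171032) (tt N80598 D171033) (tt N28594 F155510))
theorem Q46733 : ∀ i, i < 46733 → P i := stepQ 46732 Q46732 (allL N46732 (tt N24972 (iv1 F303600)) (tt N64434 (iv0 F303602)) (tt N64309 (iv2 F195797)) (tt N80597 (iv3 F268749)) (tt N59236 (iv4 F332945)) (tt N24379 (iv5 D81979)) (tt N59235 (iv6 F336653)) (tt N62424 (iv7 F336661)))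
theorem Q46734 : ∀ i, i < 46734 → P i := stepQ 46733 Q46733 (allL N46733 (tt N47881 (iv1 F194675)) (tt N47884 (iv0 F135953)) (tt N63970 (iv2 F299231)) (tt N80598 (iv3 F268752)) (tt N45505 F126394) (tt N64350 (iv5 F302310)) (tt N24379 (iv6 D81980)) (tt N63900 (iv7 F302441)))
theorem Q46735 : ∀ i, i < 46735 → P i := stepQ 46734 Q46734 (allL N46734 (tt N80591 (iv1 F335239)) (tt N64295 (iv0 F316006)) (tt N30549 F313614) (tt N24382 (iv3 D81985)) (tt N30541 F313615) (tt N80599 D171052) (tt N30540 F313616) (tt N53518 (iv7 F153920)))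
theorem Q46736 : ∀ i, i < 46736 → P i := stepQ 46735 Q46735 (allL N46735 (tt N45617 (iv1 F302025)) (tt N58618 F332929) (tt N45380 F126397) (tt N80599 (iv3 F268773)) (tt N66416 F332930) (tt N24382 (iv5 D81986)) (tt N33348 (iv6 F332933)) (tt N53519 (iv7 F153922)))
theorem Q46737 : ∀ i, i < 46737 → P i := stepQ 46736 Q46736 (allL N46736 (tt N45620 F304010) (tt N78743 F250723) (tt N45381 F126398) (tt N80600 D171055) (tt N24383 (iv4 D81987)) (tt N57980 (iv5 F343737)) (tt N45357 F304011) (tt N64310 (iv7 F195816)))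
theorem Q46738 : ∀ i, i < 46738 → P i := stepQ 46737 Q46737 (allL N46737 (tt N24384 (iv1 D81992)) (tt N34990 F300471) (tt N31704 F341320) (tt N80601 D171064) (tt N31224 F325246) (tt N31608 (iv5 F341332)) (tt N31223 F325247) (tt N45373 F300474))
theorem Q46739 : ∀ i, i < 46739 → P i := stepQ 46738 Q46738 (allL N46738 (tt N64985 (iv1 F353984)) (tt N80602 D171068) (tt N80603 D171069) (tt N24384 (iv3 D81993)) (tt N34640 (iv4 F304242)) (tt N72899 (iv5 F341307)) (tt N44650 F126411) (tt N45763 (iv7 F303309)))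
theorem Q46740 : ∀ i, i < 46740 → P i := stepQ 46739 Q46739 (allL N46739 (tt N63237 (iv1 F332311)) (tt N53747 (iv0 F154553)) (tt N48978 (iv2 F134984)) (tt N24387 F126417) (tt N24390 F126418) (tt N47500 (iv5 F298372)) (tt N24385 (iv6 D81997)) (tt N78622 (iv7 F249852)))
theorem Q46741 : ∀ i, i < 46741 → P i := stepQ 46740 Q46740 (allL N46740 (tt N62598 (iv1 F345550)) (tt N74754 (iv0 F346434)) (tt N64344 (iv2 F298162)) (tt N73636 (iv3 F323289)) (tt N62541 (iv4 F325852)) (tt N47502 (iv5 F298375)) (tt N24386 (iv6 D81998)) (tt N74753 (iv7 F342098)))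
theorem Q46742 : ∀ i, i < 46742 → P i := stepQ 46741 Q46741 (allL N46741 (tt N43505 (iv1 F126422)) (tt N28270 (iv0 F126423)) (tt N28651 F126419) (tt N24388 (iv3 D82000)) (tt N28494 F300998) (tt N49379 (iv5 F136179)) (tt N28493 F300999) (tt N43506 F126421))
theorem Q46743 : ∀ i, i < 46743 → P i := stepQ 46742 Q46742 (allL N46742 (tt N63915 (iv1 F299268)) (tt N64337 (iv0 F286389)) (tt N48975 (iv2 F134973)) (tt N28653 F126424) (tt N76109 (iv4 F236443)) (tt N80604 D171090) (tt N24389 (iv6 D82002)) (tt N63890 (iv7 F302435)))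
theorem Q46744 : ∀ i, i < 46744 → P i := stepQ 46743 Q46743 (allL N46743 (tt N48982 (iv1 F134994)) (tt N24390 (iv0 D82003)) (tt N48979 (iv2 F233092)) (tt N80605 D171091) (tt N80606 D171092) (tt N64486 (iv5 F344170)) (tt N80607 D171094) (tt N48980 (iv7 F233093)))
theorem Q46745 : ∀ i, i < 46745 → P i := stepQ 46744 Q46744 (allL N46744 (tt N24390 (iv1 D82004)) (tt N48982 F134993) (tt N48980 F233088) (tt N28655 F233089) (tt N76635 (iv4 F332318)) (tt N64487 (iv5 F344173)) (tt N76914 (iv6 F351819)) (tt N48979 F233090))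
theorem Q46746 : ∀ i, i < 46746 → P i := stepQ 46745 Q46745 (allL N46745 (tt N80608 D171098) (tt N80609 D171099) (tt N48981 (iv2 F134987)) (tt N24394 F126425) (tt N80610 D171100) (tt N24390 (iv5 D82005)) (tt N48971 (iv6 F134955)) (tt N78729 (iv7 F250545)))
theorem Q46747 : ∀ i, i < 46747 → P i := stepQ 46746 Q46746 (allL N46746 (tt N26730 (iv1 F126431)) (tt N24391 (iv0 D82006)) (tt N28360 F154982) (tt N28252 (iv3 F126436)) (tt N28598 (iv4 F126433)) (tt N80611 D171101) (tt N49089 F289942) (tt N28361 F154983))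
theorem Q46748 : ∀ i, i < 46748 → P i := stepQ 46747 Q46747 (allL N46747 (tt N24391 (iv1 D82007)) (tt N26730 F126426) (tt N28361 F154986) (tt N80612 D171103) (tt N49011 F135037) (tt N64798 (iv5 F355605)) (tt N80613 D171105) (tt N28360 F154987))
theorem Q46749 : ∀ i, i < 46749 → P i := stepQ 46748 Q46748 (allL N46748 (tt N80614 D171106) (tt N80615 D171107) (tt N28362 F126427) (tt N48971 (iv3 F134954)) (tt N51038 (iv4 F349178)) (tt N24391 (iv5 D82008)) (tt N24394 F126428) (tt N69720 (iv7 F337439)))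
theorem Q46750 : ∀ i, i < 46750 → P i := stepQ 46749 Q46749 (allL N46749 (tt N35199 (iv1 F302063)) (tt N31763 F337470) (tt N64302 (iv2 F195717)) (tt N51040 (iv3 F354417)) (tt N24394 (iv4 D82017)) (tt N57815 (iv5 F329074)) (tt N51038 (iv6 F349180)) (tt N31765 F336746))
theorem Q46751 : ∀ i, i < 46751 → P i := stepQ 46750 Q46750 (allL N46750 (tt N53181 (iv1 F152886)) (tt N24395 (iv0 D82018)) (tt N53178 (iv2 F365685)) (tt N25759 F264017) (tt N80616 D171127) (tt N80617 D171128) (tt N53703 (iv6 F307382)) (tt N53179 (iv7 F307386)))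
theorem Q46752 : ∀ i, i < 46752 → P i := stepQ 46751 Q46751 (allL N46751 (tt N24395 (iv1 D82019)) (tt N53181 F152885) (tt N53179 (iv2 F307385)) (tt N80618 D171131) (tt N80619 D171132) (tt N80620 D171133) (tt N80621 D171134) (tt N53178 (iv7 F365686)))
theorem Q46753 : ∀ i, i < 46753 → P i := stepQ 46752 Q46752 (allL N46752 (tt N53179 (iv1 F152877)) (tt N53178 F152884) (tt N53181 (iv2 F152881)) (tt N24397 F126443) (tt N64380 (iv4 F196514)) (tt N33269 F328066) (tt N53692 (iv6 F154420)) (tt N24395 (iv7 D82021)))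
theorem Q46754 : ∀ i, i < 46754 → P i := stepQ 46753 Q46753 (allL N46753 (tt N64501 (iv1 F302065)) (tt N64499 (iv0 F302067)) (tt N64312 (iv2 F195846)) (tt N80622 D171152) (tt N24398 (iv4 D82027)) (tt N57760 (iv5 F327322)) (tt N53205 (iv6 F153012)) (tt N31653 F329130))
theorem Q46755 : ∀ i, i < 46755 → P i := stepQ 46754 Q46754 (allL N46754 (tt N51129 F295141) (tt N51128 (iv0 F295152)) (tt N26066 F126448) (tt N28151 F126449) (tt N31656 F328362) (tt N24399 (iv5 D82029)) (tt N25008 F126450) (tt N51127 (iv7 F295295)))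
theorem Q46756 : ∀ i, i < 46756 → P i := stepQ 46755 Q46755 (allL N46755 (tt N26273 (iv1 F335662)) (tt N26090 (iv0 F335663)) (tt N26048 (iv2 F335664)) (tt N24400 (iv3 D82032)) (tt N50748 (iv4 F335665)) (tt N77542 (iv5 F337114)) (tt N80623 D171168) (tt N26274 F335621))
theorem Q46757 : ∀ i, i < 46757 → P i := stepQ 46756 Q46756 (allL N46756 (tt N48578 (iv1 F335655)) (tt N27944 (iv0 F335654)) (tt N26237 F335622) (tt N48572 (iv3 F335666)) (tt N24400 (iv4 D82033)) (tt N80624 D171173) (tt N80625 D171174) (tt N48579 F335623))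
theorem Q46758 : ∀ i, i < 46758 → P i := stepQ 46757 Q46757 (allL N46757 (tt N54735 (iv1 F289892)) (tt N54733 (iv0 F289879)) (tt N26248 F335624) (tt N77542 (iv3 F337113)) (tt N69929 (iv4 F329907)) (tt N24400 (iv5 D82034)) (tt N72260 (iv6 F329908)) (tt N44389 F329805))
theorem Q46759 : ∀ i, i < 46759 → P i := stepQ 46758 Q46758 (allL N46758 (tt N28065 (iv1 F277394)) (tt N80626 D171182) (tt N26249 F335625) (tt N80623 (iv3 F268917)) (tt N80625 (iv4 F268920)) (tt N80627 D171183) (tt N24400 (iv6 D82035)) (tt N80628 D171184))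
theorem Q46760 : ∀ i, i < 46760 → P i := stepQ 46759 Q46759 (allL N46759 (tt N54733 (iv1 F289880)) (tt N54735 (iv0 F289891)) (tt N44389 (iv2 F329680)) (tt N26053 (iv3 F335653)) (tt N68688 (iv4 F329682)) (tt N24401 (iv5 D82039)) (tt N31573 F329502) (tt N26248 F335619))
theorem Q46761 : ∀ i, i < 46761 → P i := stepQ 46760 Q46760 (allL N46760 (tt N75388 (iv1 F325854)) (tt N48344 (iv0 F325855)) (tt N62541 (iv2 F325851)) (tt N31330 F324773) (tt N64344 (iv4 F295809)) (tt N31329 F324774) (tt N24403 (iv6 D82257)) (tt N59989 (iv7 F325857)))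
theorem Q46762 : ∀ i, i < 46762 → P i := stepQ 46761 Q46761 (allL N46761 (tt N24693 F126890) (tt N63583 (iv0 F188197)) (tt N47686 (iv2 F129481)) (tt N24405 (iv3 D82384)) (tt N27585 F126882) (tt N49639 (iv5 F136973)) (tt N80629 D172006) (tt N24532 F126881))
theorem Q46763 : ∀ i, i < 46763 → P i := stepQ 46762 Q46762 (allL N46762 (tt N47073 (iv1 F128227)) (tt N43910 F126889) (tt N24537 F126887) (tt N64587 F197748) (tt N24405 (iv4 D82385)) (tt N76309 (iv5 F238158)) (tt N80630 D172007) (tt N24533 F126888))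
theorem Q46764 : ∀ i, i < 46764 → P i := stepQ 46763 Q46763 (allL N46763 (tt N54120 (iv1 F317287)) (tt N24677 (iv0 F317288)) (tt N24539 F126891) (tt N80629 (iv3 F270054)) (tt N80630 (iv4 F270057)) (tt N67804 (iv5 F332371)) (tt N24405 (iv6 D82386)) (tt N80534 (iv7 F317274)))
theorem Q46765 : ∀ i, i < 46765 → P i := stepQ 46764 Q46764 (allL N46764 (tt N63571 F188143) (tt N24642 (iv0 F126895)) (tt N46875 (iv2 F127309)) (tt N24406 (iv3 D82387)) (tt N43953 F126894) (tt N44734 F126892) (tt N80631 D172012) (tt N24536 F126893))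
theorem Q46766 : ∀ i, i < 46766 → P i := stepQ 46765 Q46765 (allL N46765 (tt N43910 F126899) (tt N47073 (iv0 F128226)) (tt N24533 F126896) (tt N45546 F126897) (tt N24406 (iv4 D82388)) (tt N76310 (iv5 F238164)) (tt N80632 D172013) (tt N24537 F126898))
theorem Q46767 : ∀ i, i < 46767 → P i := stepQ 46766 Q46766 (allL N46766 (tt N24621 (iv1 F318963)) (tt N63565 (iv0 F318964)) (tt N24535 F126900) (tt N80631 (iv3 F270065)) (tt N80632 (iv4 F270069)) (tt N80633 D172016) (tt N24406 (iv6 D82389)) (tt N80634 D172017))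
theorem Q46768 : ∀ i, i < 46768 → P i := stepQ 46767 Q46767 (allL N46767 (tt N63505 (iv1 F187751)) (tt N24407 (iv0 D82390)) (tt N63502 (iv2 F313119)) (tt N80635 D172019) (tt N80636 D172020) (tt N80637 D172021) (tt N80638 D172022) (tt N63503 (iv7 F313122)))
theorem Q46769 : ∀ i, i < 46769 → P i := stepQ 46768 Q46768 (allL N46768 (tt N24407 (iv1 D82391)) (tt N63505 F187750) (tt N63503 (iv2 F313121)) (tt N80639 D172024) (tt N28071 (iv4 F315046)) (tt N80640 D172026) (tt N28070 (iv6 F315047)) (tt N63502 (iv7 F313120)))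
theorem Q46770 : ∀ i, i < 46770 → P i := stepQ 46769 Q46769 (allL N46769 (tt N80641 D172028) (tt N80642 D172029) (tt N63504 (iv2 F187742)) (tt N24408 F126901) (tt N80643 D172030) (tt N24407 (iv5 D82392)) (tt N28797 F126902) (tt N80644 D172031))
theorem Q46771 : ∀ i, i < 46771 → P i := stepQ 46770 Q46770 (allL N46770 (tt N63503 (iv1 F187741)) (tt N63502 F187749) (tt N63505 (iv2 F187745)) (tt N24409 F126903) (tt N25023 (iv4 F302302)) (tt N80644 (iv5 F270082)) (tt N24548 F126904) (tt N24407 (iv7 D82393)))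
theorem Q46772 : ∀ i, i < 46772 → P i := stepQ 46771 Q46771 (allL N46771 (tt N24835 (iv1 F126923)) (tt N24408 (iv0 D82400)) (tt N24840 (iv2 F126921)) (tt N69339 (iv3 F316633)) (tt N72002 (iv4 F325120)) (tt N45451 F299448) (tt N80645 D172048) (tt N24841 F126922))
theorem Q46773 : ∀ i, i < 46773 → P i := stepQ 46772 Q46772 (allL N46772 (tt N24841 (iv1 F126928)) (tt N24840 F126929) (tt N24835 F126926) (tt N80644 (iv3 F270081)) (tt N53407 (iv4 F327389)) (tt N24409 F126927) (tt N80646 D172053) (tt N24408 (iv7 D82402)))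
theorem Q46774 : ∀ i, i < 46774 → P i := stepQ 46773 Q46773 (allL N46773 (tt N80647 D172054) (tt N24651 F184739) (tt N77597 (iv2 F328941)) (tt N24410 (iv3 D82403)) (tt N45542 F126932) (tt N80648 D172056) (tt N45681 (iv6 F300825)) (tt N24880 F126933))
theorem Q46775 : ∀ i, i < 46775 → P i := stepQ 46774 Q46774 (allL N46774 (tt N46856 F127202) (tt N80380 (iv0 F300829)) (tt N24877 F126934) (tt N80648 (iv3 F270145)) (tt N28333 F328305) (tt N24410 (iv5 D82404)) (tt N80649 D172060) (tt N24881 F126935))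
theorem Q46776 : ∀ i, i < 46776 → P i := stepQ 46775 Q46775 (allL N46775 (tt N80380 (iv1 F300830)) (tt N46856 F127203) (tt N24881 F126955) (tt N39255 (iv3 F327121)) (tt N28899 F328303) (tt N24412 (iv5 D82411)) (tt N39254 F326293) (tt N24877 F126956))
theorem Q46777 : ∀ i, i < 46777 → P i := stepQ 46776 Q46776 (allL N46776 (tt N27646 F323557) (tt N46249 (iv0 F298067)) (tt N24882 F126959) (tt N27622 (iv3 F324883)) (tt N24413 (iv4 D82413)) (tt N51872 (iv5 F324885)) (tt N24892 F296607) (tt N24879 F126960))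
theorem Q46778 : ∀ i, i < 46778 → P i := stepQ 46777 Q46777 (allL N46777 (tt N46214 (iv1 F300480)) (tt N34733 F299341) (tt N24883 F126961) (tt N59963 (iv3 F325080)) (tt N24414 (iv4 D82414)) (tt N52233 (iv5 F325910)) (tt N59961 (iv6 F326935)) (tt N24886 F126962))
theorem Q46779 : ∀ i, i < 46779 → P i := stepQ 46778 Q46778 (allL N46778 (tt N80650 D172085) (tt N80651 D172086) (tt N80652 D172087) (tt N24415 (iv3 D82417)) (tt N64355 (iv4 F196324)) (tt N80653 D172088) (tt N24417 F126976) (tt N80654 D172089))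
theorem Q46780 : ∀ i, i < 46780 → P i := stepQ 46779 Q46779 (allL N46779 (tt N80126 (iv1 F300493)) (tt N79246 (iv0 F298007)) (tt N24890 F126977) (tt N80653 (iv3 F270227)) (tt N51135 (iv4 F335328)) (tt N24415 (iv5 D82418)) (tt N51134 (iv6 F364438)) (tt N80655 D172094))
theorem Q46781 : ∀ i, i < 46781 → P i := stepQ 46780 Q46780 (allL N46780 (tt N24888 (iv1 F126980)) (tt N24887 F126981) (tt N24875 F126978) (tt N80654 (iv3 F270228)) (tt N24416 F126979) (tt N80655 (iv5 F270244)) (tt N47058 F299456) (tt N24415 (iv7 D82419)))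
theorem Q46782 : ∀ i, i < 46782 → P i := stepQ 46781 Q46781 (allL N46781 (tt N78487 (iv1 F248919)) (tt N24417 (iv0 D82420)) (tt N78486 (iv2 F365626)) (tt N80656 D172096) (tt N80657 D172097) (tt N51567 F377571) (tt N79293 (iv6 F365624)) (tt N78485 (iv7 F365632)))
theorem Q46783 : ∀ i, i < 46783 → P i := stepQ 46782 Q46782 (allL N46782 (tt N24417 (iv1 D82421)) (tt N78487 F248921) (tt N78485 (iv2 F365630)) (tt N39221 (iv3 F365619)) (tt N59372 (iv4 F365620)) (tt N51568 (iv5 F377568)) (tt N39219 (iv6 F365621)) (tt N78486 (iv7 F365629)))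
theorem Q46784 : ∀ i, i < 46784 → P i := stepQ 46783 Q46783 (allL N46783 (tt N78486 (iv1 F248920)) (tt N78485 F248915) (tt N24417 (iv2 D82422)) (tt N24907 F126983) (tt N64359 (iv4 F196332)) (tt N80658 D172105) (tt N80652 (iv6 F270226)) (tt N78487 (iv7 F248918)))
theorem Q46785 : ∀ i, i < 46785 → P i := stepQ 46784 Q46784 (allL N46784 (tt N80659 D172106) (tt N80660 D172107) (tt N80658 (iv2 F270250)) (tt N24418 F126984) (tt N80661 D172108) (tt N24417 (iv5 D82423)) (tt N80662 D172109) (tt N29094 F126985))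
theorem Q46786 : ∀ i, i < 46786 → P i := stepQ 46785 Q46785 (allL N46785 (tt N74184 (iv1 F365428)) (tt N80663 D172111) (tt N24912 F126986) (tt N80662 (iv3 F270259)) (tt N26299 F126987) (tt N51134 (iv5 F364437)) (tt N24418 (iv6 D82424)) (tt N80664 D172112))
theorem Q46787 : ∀ i, i < 46787 → P i := stepQ 46786 Q46786 (allL N46786 (tt N80665 D172113) (tt N38011 F336061) (tt N64290 (iv2 F195629)) (tt N80035 (iv3 F260459)) (tt N78578 (iv4 F298185)) (tt N37350 F317526) (tt N24419 (iv6 D82425)) (tt N80666 D172116))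
theorem Q46788 : ∀ i, i < 46788 → P i := stepQ 46787 Q46787 (allL N46787 (tt N63255 (iv1 F325528)) (tt N46439 (iv0 F325529)) (tt N70089 (iv2 F323000)) (tt N41702 F314394) (tt N69670 F324402) (tt N40811 (iv5 F316737)) (tt N24421 (iv6 D82442)) (tt N70090 (iv7 F330264)))
theorem Q46789 : ∀ i, i < 46789 → P i := stepQ 46788 Q46788 (allL N46788 (tt N63257 (iv1 F330219)) (tt N70094 (iv0 F330207)) (tt N68362 (iv2 F330270)) (tt N76532 (iv3 F357445)) (tt N78481 (iv4 F306784)) (tt N47086 (iv5 F303496)) (tt N24422 (iv6 D82443)) (tt N70093 (iv7 F330269)))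
theorem Q46790 : ∀ i, i < 46790 → P i := stepQ 46789 Q46789 (allL N46789 (tt N24455 (iv1 F301543)) (tt N24454 (iv0 F301542)) (tt N24424 F127020) (tt N78555 F300705) (tt N24453 F127021) (tt N48246 F324613) (tt N24423 (iv6 D82444)) (tt N24453 (iv7 F301541)))
theorem Q46791 : ∀ i, i < 46791 → P i := stepQ 46790 Q46790 (allL N46790 (tt N24453 (iv1 F301540)) (tt N24424 (iv0 D82445)) (tt N24455 (iv2 F309959)) (tt N46678 F316272) (tt N78587 (iv4 F270322)) (tt N46677 (iv5 F318548)) (tt N66471 (iv6 F340184)) (tt N24454 (iv7 F309965)))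
theorem Q46792 : ∀ i, i < 46792 → P i := stepQ 46791 Q46791 (allL N46791 (tt N24424 (iv1 D82446)) (tt N24453 (iv0 F301539)) (tt N24454 F312197) (tt N80667 D172152) (tt N78588 (iv4 F307599)) (tt N80043 (iv5 F322457)) (tt N80668 D172155) (tt N24455 F312198))
theorem Q46793 : ∀ i, i < 46793 → P i := stepQ 46792 Q46792 (allL N46792 (tt N79275 (iv1 F253873)) (tt N24425 (iv0 D82449)) (tt N79273 (iv2 F301004)) (tt N49629 (iv3 F352033)) (tt N46896 (iv4 F303450)) (tt N80669 D172163) (tt N80670 D172164) (tt N79274 (iv7 F301007)))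
theorem Q46794 : ∀ i, i < 46794 → P i := stepQ 46793 Q46793 (allL N46793 (tt N24425 (iv1 D82450)) (tt N79275 F253872) (tt N79274 (iv2 F301006)) (tt N58879 (iv3 F332152)) (tt N46897 (iv4 F303451)) (tt N58877 (iv5 F332154)) (tt N80671 D172169) (tt N79273 (iv7 F301005)))
theorem Q46795 : ∀ i, i < 46795 → P i := stepQ 46794 Q46794 (allL N46794 (tt N80672 D172170) (tt N79598 (iv0 F352337)) (tt N78567 F300663) (tt N47904 F335989) (tt N67336 (iv4 F347466)) (tt N24425 (iv5 D82451)) (tt N24426 F127026) (tt N80673 D172173))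
theorem Q46796 : ∀ i, i < 46796 → P i := stepQ 46795 Q46795 (allL N46795 (tt N79274 (iv1 F253866)) (tt N79273 F253871) (tt N79275 (iv2 F253869)) (tt N74827 (iv3 F348635)) (tt N78577 (iv4 F298187)) (tt N80673 (iv5 F270332)) (tt N77638 (iv6 F298234)) (tt N24425 (iv7 D82452)))
theorem Q46797 : ∀ i, i < 46797 → P i := stepQ 46796 Q46796 (allL N46796 (tt N78420 (iv1 F329443)) (tt N78566 (iv0 F302490)) (tt N46864 F300706) (tt N67339 (iv3 F325915)) (tt N24426 (iv4 D82457)) (tt N44749 F300707) (tt N67336 (iv6 F347467)) (tt N24471 (iv7 F301517)))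
theorem Q46798 : ∀ i, i < 46798 → P i := stepQ 46797 Q46797 (allL N46797 (tt N27465 F127109) (tt N27446 F127110) (tt N26118 F127106) (tt N26115 F127107) (tt N24433 (iv4 D82482)) (tt N49655 (iv5 F307542)) (tt N80674 D172207) (tt N26115 F127108))
theorem Q46799 : ∀ i, i < 46799 → P i := stepQ 46798 Q46798 (allL N46798 (tt N26190 (iv1 F335723)) (tt N26040 (iv0 F335724)) (tt N26119 F127111) (tt N27945 F127112) (tt N80674 (iv4 F270403)) (tt N35122 (iv5 F300577)) (tt N24433 (iv6 D82483)) (tt N26189 (iv7 F289527)))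
theorem Q46800 : ∀ i, i < 46800 → P i := stepQ 46799 Q46799 (allL N46799 (tt N27803 F127117) (tt N26020 (iv0 F127118)) (tt N27943 F127113) (tt N24434 (iv3 D82484)) (tt N27749 F127114) (tt N46728 F127115) (tt N80675 D172212) (tt N26117 F127116))
theorem Q46801 : ∀ i, i < 46801 → P i := stepQ 46800 Q46800 (allL N46800 (tt N26226 F289555) (tt N80676 D172214) (tt N26116 F127119) (tt N80675 (iv3 F270415)) (tt N52321 (iv4 F148681)) (tt N80677 D172215) (tt N24434 (iv6 D82485)) (tt N80678 D172216))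
theorem Q46802 : ∀ i, i < 46802 → P i := stepQ 46801 Q46801 (allL N46801 (tt N51148 (iv1 F294212)) (tt N51147 (iv0 F294208)) (tt N24436 F127120) (tt N26137 F127121) (tt N27785 F127122) (tt N80679 D172217) (tt N24435 (iv6 D82486)) (tt N51140 (iv7 F294221)))
theorem Q46803 : ∀ i, i < 46803 → P i := stepQ 46802 Q46802 (allL N46802 (tt N51140 (iv1 F294218)) (tt N24436 (iv0 D82487)) (tt N51148 (iv2 F294213)) (tt N46698 F136831) (tt N80680 D172219) (tt N80681 D172220) (tt N80682 D172221) (tt N51147 (iv7 F294211)))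
theorem Q46804 : ∀ i, i < 46804 → P i := stepQ 46803 Q46803 (allL N46803 (tt N24436 (iv1 D82488)) (tt N51140 (iv0 F294217)) (tt N51147 (iv2 F294209)) (tt N80683 D172223) (tt N52331 (iv4 F148707)) (tt N80684 D172224) (tt N80685 D172225) (tt N51148 (iv7 F294216)))
theorem Q46805 : ∀ i, i < 46805 → P i := stepQ 46804 Q46804 (allL N46804 (tt N80686 D172226) (tt N80687 D172227) (tt N80679 (iv2 F270424)) (tt N24437 F127123) (tt N80688 D172228) (tt N24436 (iv5 D82489)) (tt N28767 F127124) (tt N51149 (iv7 F294223)))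
theorem Q46806 : ∀ i, i < 46806 → P i := stepQ 46805 Q46805 (allL N46805 (tt N49525 (iv1 F136764)) (tt N49528 (iv0 F136771)) (tt N26149 F127125) (tt N67444 (iv3 F361243)) (tt N24437 (iv4 D82490)) (tt N49602 (iv5 F136900)) (tt N28775 F127126) (tt N49601 (iv7 F136893)))
theorem Q46807 : ∀ i, i < 46807 → P i := stepQ 46806 Q46806 (allL N46806 (tt N26585 (iv1 F291289)) (tt N26573 (iv0 F291290)) (tt N26272 (iv2 F291261)) (tt N28370 (iv3 F291286)) (tt N28535 F127131) (tt N26264 (iv5 F291293)) (tt N26382 F290835) (tt N24439 (iv7 D82492)))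
theorem Q46808 : ∀ i, i < 46808 → P i := stepQ 46807 Q46807 (allL N46807 (tt N24457 F127145) (tt N52790 (iv0 F151349)) (tt N52792 F151359) (tt N43728 F127144) (tt N45646 (iv4 F127146)) (tt N24440 (iv5 D82496)) (tt N69262 (iv6 F320107)) (tt N43419 (iv7 F300717)))
theorem Q46809 : ∀ i, i < 46809 → P i := stepQ 46808 Q46808 (allL N46808 (tt N69653 F311277) (tt N38900 F311278) (tt N24443 F127147) (tt N37021 (iv3 F312037)) (tt N46517 F127148) (tt N37115 (iv5 F313635)) (tt N24441 (iv6 D82498)) (tt N68977 (iv7 F311918)))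
theorem Q46810 : ∀ i, i < 46810 → P i := stepQ 46809 Q46809 (allL N46809 (tt N24442 (iv1 D82499)) (tt N47089 F128256) (tt N47064 (iv2 F128182)) (tt N26174 (iv3 F298843)) (tt N24494 F297031) (tt N27966 F127149) (tt N80689 D172241) (tt N47066 (iv7 F128206)))
theorem Q46811 : ∀ i, i < 46811 → P i := stepQ 46810 Q46810 (allL N46810 (tt N43434 F127151) (tt N42113 (iv0 F302477)) (tt N66836 F205793) (tt N28412 F127150) (tt N24442 (iv4 D82500)) (tt N64051 (iv5 F192395)) (tt N80690 D172242) (tt N47090 (iv7 F128258)))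
theorem Q46812 : ∀ i, i < 46812 → P i := stepQ 46811 Q46811 (allL N46811 (tt N76587 (iv1 F344413)) (tt N76752 (iv0 F344395)) (tt N76751 (iv2 F312092)) (tt N24444 F127153) (tt N80690 (iv4 F270505)) (tt N80691 D172245) (tt N24442 (iv6 D82501)) (tt N47183 F309528))
theorem Q46813 : ∀ i, i < 46813 → P i := stepQ 46812 Q46812 (allL N46812 (tt N24443 (iv1 D82503)) (tt N68977 (iv0 F311916)) (tt N38900 F309713) (tt N76527 (iv3 F311928)) (tt N37215 F309714) (tt N67036 (iv5 F302483)) (tt N44574 (iv6 F302484)) (tt N69653 (iv7 F311920)))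
theorem Q46814 : ∀ i, i < 46814 → P i := stepQ 46813 Q46813 (allL N46813 (tt N36851 (iv1 F316693)) (tt N36846 (iv0 F314447)) (tt N37115 F314316) (tt N24445 F127154) (tt N67356 (iv4 F316696)) (tt N24443 (iv5 D82504)) (tt N80691 (iv6 F270507)) (tt N38869 F314317))
theorem Q46815 : ∀ i, i < 46815 → P i := stepQ 46814 Q46814 (allL N46814 (tt N47096 (iv1 F128286)) (tt N24444 (iv0 D82505)) (tt N47093 F314200) (tt N76752 (iv3 F344385)) (tt N26186 F271105) (tt N80692 D172263) (tt N80693 D172264) (tt N47094 F314201))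
theorem Q46816 : ∀ i, i < 46816 → P i := stepQ 46815 Q46815 (allL N46815 (tt N80694 D172270) (tt N66485 (iv0 F344100)) (tt N47095 (iv2 F128279)) (tt N80691 (iv3 F270506)) (tt N56274 (iv4 F339452)) (tt N24444 (iv5 D82507)) (tt N24445 F127155) (tt N80695 D172273))
theorem Q46817 : ∀ i, i < 46817 → P i := stepQ 46816 Q46816 (allL N46816 (tt N47094 (iv1 F128278)) (tt N47093 F128284) (tt N47096 (iv2 F128281)) (tt N47183 (iv3 F307470)) (tt N28417 F127156) (tt N80695 (iv5 F270519)) (tt N47091 (iv6 F128267)) (tt N24444 (iv7 D82508)))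
theorem Q46818 : ∀ i, i < 46818 → P i := stepQ 46817 Q46817 (allL N46817 (tt N38918 (iv1 F312728)) (tt N63842 (iv0 F314771)) (tt N24447 F127162) (tt N52812 (iv3 F151506)) (tt N52383 (iv4 F149204)) (tt N63385 (iv5 F306118)) (tt N24446 (iv6 D82511)) (tt N63840 (iv7 F314775)))
theorem Q46819 : ∀ i, i < 46819 → P i := stepQ 46818 Q46818 (allL N46818 (tt N63842 (iv1 F314772)) (tt N38918 F313734) (tt N63840 (iv2 F314774)) (tt N24450 F127164) (tt N52385 (iv4 F149207)) (tt N63434 (iv5 F306121)) (tt N37020 (iv6 F316228)) (tt N24447 (iv7 D82515)))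
theorem Q46820 : ∀ i, i < 46820 → P i := stepQ 46819 Q46819 (allL N46819 (tt N24448 (iv1 D82517)) (tt N47091 F128269) (tt N26178 F270621) (tt N47066 F301493) (tt N26034 (iv4 F270623)) (tt N47065 (iv5 F304281)) (tt N80696 D172299) (tt N26174 F270622))
theorem Q46821 : ∀ i, i < 46821 → P i := stepQ 46820 Q46820 (allL N46820 (tt N47052 (iv1 F300789)) (tt N47037 F299510) (tt N47050 (iv2 F300790)) (tt N63434 (iv3 F306120)) (tt N53875 (iv4 F310108)) (tt N24450 F127168) (tt N69052 (iv6 F323883)) (tt N24449 (iv7 D82523)))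
theorem Q46822 : ∀ i, i < 46822 → P i := stepQ 46821 Q46821 (allL N46821 (tt N44714 F127172) (tt N44711 F127173) (tt N34856 F127169) (tt N43472 F127170) (tt N24451 (iv4 D82524)) (tt N61127 (iv5 F178055)) (tt N80697 D172314) (tt N43475 F127171))
theorem Q46823 : ∀ i, i < 46823 → P i := stepQ 46822 Q46822 (allL N46822 (tt N38911 (iv1 F307461)) (tt N38910 (iv0 F307462)) (tt N38912 F305432) (tt N24452 F127174) (tt N80697 (iv4 F270558)) (tt N24452 (iv5 F307460)) (tt N24451 (iv6 D82525)) (tt N38899 (iv7 F307463)))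
theorem Q46824 : ∀ i, i < 46824 → P i := stepQ 46823 Q46823 (allL N46823 (tt N43191 F304306) (tt N76539 (iv0 F267524)) (tt N78588 (iv2 F314493)) (tt N58893 (iv3 F344917)) (tt N24454 (iv4 D82536)) (tt N58892 (iv5 F344919)) (tt N80698 D172354) (tt N78587 (iv7 F309961)))
theorem Q46825 : ∀ i, i < 46825 → P i := stepQ 46824 Q46824 (allL N46824 (tt N70107 (iv1 F340196)) (tt N66473 (iv0 F364588)) (tt N80668 (iv2 F314497)) (tt N70112 (iv3 F306019)) (tt N80698 (iv4 F270586)) (tt N77731 (iv5 F318952)) (tt N24454 (iv6 D82538)) (tt N77730 (iv7 F340185)))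
theorem Q46826 : ∀ i, i < 46826 → P i := stepQ 46825 Q46825 (allL N46825 (tt N76521 (iv1 F353883)) (tt N76109 (iv0 F353877)) (tt N79406 (iv2 F255707)) (tt N24455 (iv3 D82540)) (tt N80699 D172368) (tt N80045 (iv5 F322455)) (tt N76525 (iv6 F353875)) (tt N80667 (iv7 F314492)))
theorem Q46827 : ∀ i, i < 46827 → P i := stepQ 46826 Q46826 (allL N46826 (tt N76539 (iv1 F264239)) (tt N43191 F304307) (tt N78587 (iv2 F309960)) (tt N28004 F304308) (tt N24455 (iv4 D82541)) (tt N80700 D172371) (tt N80701 D172372) (tt N78588 (iv7 F314494)))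
theorem Q46828 : ∀ i, i < 46828 → P i := stepQ 46827 Q46827 (allL N46827 (tt N70082 (iv1 F340178)) (tt N80042 (iv0 F322452)) (tt N46677 F320693) (tt N80045 (iv3 F322454)) (tt N55523 (iv4 F343034)) (tt N24455 (iv5 D82542)) (tt N65064 (iv6 F322456)) (tt N80043 (iv7 F322458)))
theorem Q46829 : ∀ i, i < 46829 → P i := stepQ 46828 Q46828 (allL N46828 (tt N66474 (iv1 F331734)) (tt N63256 (iv0 F340182)) (tt N66471 (iv2 F340183)) (tt N76525 (iv3 F353874)) (tt N80701 (iv4 F270600)) (tt N71099 (iv5 F328955)) (tt N24455 (iv6 D82543)) (tt N66472 (iv7 F358558)))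
theorem Q46830 : ∀ i, i < 46830 → P i := stepQ 46829 Q46829 (allL N46829 (tt N80702 D172389) (tt N80703 D172390) (tt N48279 F324616) (tt N51640 (iv3 F347478)) (tt N24456 (iv4 D82546)) (tt N51639 (iv5 F347485)) (tt N77590 (iv6 F243903)) (tt N48281 F324617))
theorem Q46831 : ∀ i, i < 46831 → P i := stepQ 46830 Q46830 (allL N46830 (tt N43428 F127186) (tt N47372 (iv0 F128718)) (tt N66932 F206168) (tt N46685 F127185) (tt N24457 (iv4 D82548)) (tt N62887 (iv5 F184019)) (tt N80704 D172395) (tt N52793 (iv7 F151367)))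
theorem Q46832 : ∀ i, i < 46832 → P i := stepQ 46831 Q46831 (allL N46831 (tt N79379 (iv1 F350967)) (tt N79489 (iv0 F340245)) (tt N79400 (iv2 F255640)) (tt N24458 F127187) (tt N80704 (iv4 F270609)) (tt N75951 (iv5 F304712)) (tt N24457 (iv6 D82549)) (tt N80705 D172399))
theorem Q46833 : ∀ i, i < 46833 → P i := stepQ 46832 Q46832 (allL N46832 (tt N80706 D172400) (tt N77607 (iv0 F287014)) (tt N52781 (iv2 F151276)) (tt N75951 (iv3 F304711)) (tt N80707 D172402) (tt N24458 (iv5 D82552)) (tt N24592 F127188) (tt N80708 D172403))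
theorem Q46834 : ∀ i, i < 46834 → P i := stepQ 46833 Q46833 (allL N46833 (tt N28312 (iv1 F272740)) (tt N28308 F272737) (tt N28812 (iv2 F156781)) (tt N80705 (iv3 F270612)) (tt N49459 (iv4 F136506)) (tt N80708 (iv5 F270636)) (tt N52799 (iv6 F151380)) (tt N24458 (iv7 D82553)))
theorem Q46835 : ∀ i, i < 46835 → P i := stepQ 46834 Q46834 (allL N46834 (tt N52799 (iv1 F151383)) (tt N24459 (iv0 D82554)) (tt N28850 F274790) (tt N42552 (iv3 F311734)) (tt N24785 F272774) (tt N78886 (iv5 F346729)) (tt N43730 F309529) (tt N28854 (iv7 F274799)))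
theorem Q46836 : ∀ i, i < 46836 → P i := stepQ 46835 Q46835 (allL N46835 (tt N24459 (iv1 D82555)) (tt N52799 F151382) (tt N28854 (iv2 F274798)) (tt N80709 D172410) (tt N24786 F272771) (tt N80710 D172412) (tt N80711 D172413) (tt N28850 F274795))
theorem Q46837 : ∀ i, i < 46837 → P i := stepQ 46836 Q46836 (allL N46836 (tt N80712 D172414) (tt N80713 D172415) (tt N52798 (iv2 F151376)) (tt N79399 (iv3 F255636)) (tt N80714 D172416) (tt N24459 (iv5 D82556)) (tt N24595 F127189) (tt N80715 D172417))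
theorem Q46838 : ∀ i, i < 46838 → P i := stepQ 46837 Q46837 (allL N46837 (tt N28854 (iv1 F272642)) (tt N28850 (iv0 F272643)) (tt N52799 (iv2 F151378)) (tt N63438 (iv3 F315079)) (tt N47462 (iv4 F154538)) (tt N80715 (iv5 F270642)) (tt N28812 F156784) (tt N24459 (iv7 D82557)))
theorem Q46839 : ∀ i, i < 46839 → P i := stepQ 46838 Q46838 (allL N46838 (tt N80716 D172430) (tt N79886 (iv0 F354789)) (tt N53114 (iv2 F272698)) (tt N69263 (iv3 F315981)) (tt N80717 D172432) (tt N24460 (iv5 D82561)) (tt N64258 (iv6 F345752)) (tt N53126 (iv7 F272709)))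
theorem Q46840 : ∀ i, i < 46840 → P i := stepQ 46839 Q46839 (allL N46839 (tt N80711 (iv1 F274806)) (tt N79377 (iv0 F311735)) (tt N37559 F317267) (tt N69264 F317268) (tt N49464 F155437) (tt N80273 (iv5 F330844)) (tt N24460 (iv6 D82562)) (tt N80718 D172438))
theorem Q46841 : ∀ i, i < 46841 → P i := stepQ 46840 Q46840 (allL N46840 (tt N63476 (iv1 F187595)) (tt N48515 (iv0 F155441)) (tt N64220 (iv2 F282999)) (tt N24461 (iv3 D82564)) (tt N37562 (iv4 F315980)) (tt N64259 (iv5 F350922)) (tt N79412 (iv6 F346978)) (tt N37560 F313516))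
theorem Q46842 : ∀ i, i < 46842 → P i := stepQ 46841 Q46841 (allL N46841 (tt N79886 (iv1 F354790)) (tt N80716 F270656) (tt N53126 (iv2 F272708)) (tt N64259 (iv3 F350921)) (tt N80719 D172444) (tt N24461 (iv5 D82566)) (tt N80033 (iv6 F334338)) (tt N53114 (iv7 F272699)))
theorem Q46843 : ∀ i, i < 46843 → P i := stepQ 46842 Q46842 (allL N46842 (tt N80720 D172446) (tt N28815 F272689) (tt N53127 (iv2 F272710)) (tt N79412 (iv3 F346976)) (tt N49467 F155440) (tt N80721 D172448) (tt N24461 (iv6 D82567)) (tt N80722 D172449))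
theorem Q46844 : ∀ i, i < 46844 → P i := stepQ 46843 Q46843 (allL N46843 (tt N78564 (iv1 F249462)) (tt N24462 (iv0 D82568)) (tt N65839 (iv2 F327357)) (tt N68581 (iv3 F362984)) (tt N80723 D172452) (tt N68580 (iv5 F324755)) (tt N65838 (iv6 F343356)) (tt N78563 (iv7 F275015)))
theorem Q46845 : ∀ i, i < 46845 → P i := stepQ 46844 Q46844 (allL N46844 (tt N24462 (iv1 D82569)) (tt N78564 F249461) (tt N78563 (iv2 F275014)) (tt N32252 F326654) (tt N32380 (iv4 F327014)) (tt N47200 (iv5 F128507)) (tt N32249 (iv6 F327354)) (tt N65839 (iv7 F327359)))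
theorem Q46846 : ∀ i, i < 46846 → P i := stepQ 46845 Q46845 (allL N46845 (tt N67270 (iv1 F333052)) (tt N67266 (iv0 F319378)) (tt N36794 F323561) (tt N80724 D172461) (tt N24462 (iv4 D82570)) (tt N36793 (iv5 F324889)) (tt N24471 F127192) (tt N80725 D172463))
theorem Q46847 : ∀ i, i < 46847 → P i := stepQ 46846 Q46846 (allL N46846 (tt N78563 (iv1 F249454)) (tt N65839 (iv0 F327355)) (tt N78564 (iv2 F249458)) (tt N65310 (iv3 F200754)) (tt N80725 (iv4 F270671)) (tt N24463 F127193) (tt N80673 (iv6 F303453)) (tt N24462 (iv7 D82571)))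
theorem Q46848 : ∀ i, i < 46848 → P i := stepQ 46847 Q46847 (allL N46847 (tt N24464 (iv1 D82578)) (tt N24467 F127198) (tt N46471 (iv2 F301015)) (tt N70082 (iv3 F321669)) (tt N80525 (iv4 F268189)) (tt N24857 F127199) (tt N70073 (iv6 F321673)) (tt N46472 (iv7 F301019)))
theorem Q46849 : ∀ i, i < 46849 → P i := stepQ 46848 Q46848 (allL N46848 (tt N80726 D172487) (tt N65404 (iv0 F322046)) (tt N52845 (iv2 F151637)) (tt N80727 D172489) (tt N24464 (iv4 D82579)) (tt N46860 (iv5 F127217)) (tt N60441 (iv6 F328795)) (tt N46473 F301516))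
theorem Q46850 : ∀ i, i < 46850 → P i := stepQ 46849 Q46849 (allL N46849 (tt N58792 (iv1 F328789)) (tt N58791 (iv0 F328790)) (tt N32074 F328392) (tt N58800 (iv3 F328791)) (tt N60441 (iv4 F328794)) (tt N47222 (iv5 F128536)) (tt N24464 (iv6 D82580)) (tt N58793 (iv7 F328797)))
theorem Q46851 : ∀ i, i < 46851 → P i := stepQ 46850 Q46850 (allL N46850 (tt N46438 F299365) (tt N52817 (iv0 F151527)) (tt N47218 (iv2 F128527)) (tt N76170 (iv3 F302237)) (tt N34763 F299366) (tt N46934 F127810) (tt N46477 (iv6 F300500)) (tt N24465 (iv7 D82582)))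
theorem Q46852 : ∀ i, i < 46852 → P i := stepQ 46851 Q46851 (allL N46851 (tt N24466 (iv1 D82583)) (tt N52843 F151632) (tt N52842 (iv2 F151624)) (tt N35517 F317824) (tt N42271 F324857) (tt N35516 (iv5 F320019)) (tt N46425 F298335) (tt N48272 (iv7 F318546)))
theorem Q46853 : ∀ i, i < 46853 → P i := stepQ 46852 Q46852 (allL N46852 (tt N48272 F320689) (tt N52842 F151622) (tt N24466 (iv2 D82584)) (tt N46468 F301508) (tt N76163 (iv4 F301938)) (tt N58522 (iv5 F326951)) (tt N80728 D172497) (tt N52843 (iv7 F151630)))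
theorem Q46854 : ∀ i, i < 46854 → P i := stepQ 46853 Q46853 (allL N46853 (tt N80729 D172502) (tt N37023 (iv0 F342310)) (tt N80728 (iv2 F270699)) (tt N24468 F127201) (tt N73106 (iv4 F324355)) (tt N79610 (iv5 F342305)) (tt N24466 (iv6 D82586)) (tt N78625 (iv7 F249935)))
theorem Q46855 : ∀ i, i < 46855 → P i := stepQ 46854 Q46854 (allL N46854 (tt N65404 (iv1 F322047)) (tt N80726 F270686) (tt N46473 F301511) (tt N35649 (iv3 F328788)) (tt N24467 (iv4 D82587)) (tt N46858 (iv5 F127209)) (tt N80730 D172506) (tt N52845 (iv7 F151638)))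
theorem Q46856 : ∀ i, i < 46856 → P i := stepQ 46855 Q46855 (allL N46855 (tt N80731 D172507) (tt N80732 D172508) (tt N46474 F301512) (tt N58797 (iv3 F328005)) (tt N80730 (iv4 F270702)) (tt N79608 (iv5 F342301)) (tt N24467 (iv6 D82588)) (tt N58795 (iv7 F354772)))
theorem Q46857 : ∀ i, i < 46857 → P i := stepQ 46856 Q46856 (allL N46856 (tt N46775 (iv1 F127203)) (tt N46774 (iv0 F127202)) (tt N46476 (iv2 F301023)) (tt N79610 (iv3 F342304)) (tt N48850 (iv4 F329090)) (tt N24468 (iv5 D82590)) (tt N79608 (iv6 F342302)) (tt N47601 (iv7 F129238)))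
theorem Q46858 : ∀ i, i < 46858 → P i := stepQ 46857 Q46857 (allL N46857 (tt N76110 (iv1 F304292)) (tt N76167 (iv0 F304293)) (tt N77028 (iv2 F304294)) (tt N24469 (iv3 D82592)) (tt N55462 (iv4 F348566)) (tt N45684 (iv5 F303459)) (tt N80733 D172517) (tt N77027 (iv7 F302489)))
theorem Q46859 : ∀ i, i < 46859 → P i := stepQ 46858 Q46858 (allL N46858 (tt N52840 (iv1 F151610)) (tt N44772 (iv0 F127208)) (tt N52836 F151597) (tt N65646 (iv3 F329145)) (tt N24469 (iv4 D82593)) (tt N46854 F127209) (tt N80734 D172519) (tt N52837 (iv7 F151599)))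
theorem Q46860 : ∀ i, i < 46860 → P i := stepQ 46859 Q46859 (allL N46859 (tt N79765 (iv1 F334387)) (tt N79764 (iv0 F355883)) (tt N78565 (iv2 F249465)) (tt N80733 (iv3 F270708)) (tt N80734 (iv4 F270710)) (tt N45687 (iv5 F304295)) (tt N24469 (iv6 D82595)) (tt N54336 (iv7 F334391)))
theorem Q46861 : ∀ i, i < 46861 → P i := stepQ 46860 Q46860 (allL N46860 (tt N44772 F127218) (tt N52840 F151609) (tt N52837 F151601) (tt N65714 (iv3 F345726)) (tt N24470 (iv4 D82597)) (tt N46848 F127217) (tt N44631 (iv6 F330698)) (tt N52836 F151598))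
theorem Q46862 : ∀ i, i < 46862 → P i := stepQ 46861 Q46861 (allL N46861 (tt N46864 (iv1 F127230)) (tt N24471 (iv0 D82600)) (tt N78566 F249472) (tt N80735 D172536) (tt N28008 F127225) (tt N46672 (iv5 F127226)) (tt N80736 D172537) (tt N78420 (iv7 F329446)))
theorem Q46863 : ∀ i, i < 46863 → P i := stepQ 46862 Q46862 (allL N46862 (tt N24471 (iv1 D82601)) (tt N46864 F127231) (tt N78420 (iv2 F329444)) (tt N80737 D172538) (tt N28009 F127227) (tt N46869 (iv5 F127237)) (tt N65428 (iv6 F328761)) (tt N78566 F249473))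
theorem Q46864 : ∀ i, i < 46864 → P i := stepQ 46863 Q46863 (allL N46863 (tt N80738 D172540) (tt N55559 (iv0 F347481)) (tt N80739 D172542) (tt N24471 (iv3 D82602)) (tt N51640 (iv4 F347479)) (tt N67340 (iv5 F325918)) (tt N80724 (iv6 F270670)) (tt N67339 (iv7 F325916)))
theorem Q46865 : ∀ i, i < 46865 → P i := stepQ 46864 Q46864 (allL N46864 (tt N46862 (iv1 F127231)) (tt N46861 F127230) (tt N46796 (iv2 F300706)) (tt N67340 (iv3 F325917)) (tt N44750 F127228) (tt N24471 (iv5 D82603)) (tt N80740 D172545) (tt N44749 F127229))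
theorem Q46866 : ∀ i, i < 46866 → P i := stepQ 46865 Q46865 (allL N46865 (tt N63486 (iv1 F187674)) (tt N24472 (iv0 D82606)) (tt N53535 (iv2 F312609)) (tt N80741 D172550) (tt N53534 (iv4 F312611)) (tt N80742 D172552) (tt N48976 (iv6 F312612)) (tt N78479 (iv7 F315280)))
theorem Q46867 : ∀ i, i < 46867 → P i := stepQ 46866 Q46866 (allL N46866 (tt N53535 (iv1 F344416)) (tt N78479 (iv0 F319726)) (tt N24472 (iv2 D82608)) (tt N63374 F186969) (tt N64337 (iv4 F303724)) (tt N80184 (iv5 F328130)) (tt N80743 D172560) (tt N63486 (iv7 F187672)))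
theorem Q46868 : ∀ i, i < 46868 → P i := stepQ 46867 Q46867 (allL N46867 (tt N59462 (iv1 F348174)) (tt N80744 D172562) (tt N80184 (iv2 F328129)) (tt N24473 F127235) (tt N80745 D172563) (tt N24472 (iv5 D82609)) (tt N66399 (iv6 F332389)) (tt N78568 (iv7 F249484)))
theorem Q46869 : ∀ i, i < 46869 → P i := stepQ 46868 Q46868 (allL N46868 (tt N80746 D172565) (tt N57354 (iv0 F340660)) (tt N80743 (iv2 F270741)) (tt N24474 F127236) (tt N64339 (iv4 F303726)) (tt N47320 (iv5 F128658)) (tt N24472 (iv6 D82610)) (tt N80747 D172567))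
theorem Q46870 : ∀ i, i < 46870 → P i := stepQ 46869 Q46869 (allL N46869 (tt N47594 (iv1 F129201)) (tt N80525 F268190) (tt N64342 (iv2 F195932)) (tt N80748 D172568) (tt N24473 (iv4 D82611)) (tt N46862 F127237) (tt N80749 D172569) (tt N78570 (iv7 F249488)))
theorem Q46871 : ∀ i, i < 46871 → P i := stepQ 46870 Q46870 (allL N46870 (tt N35526 (iv1 F360731)) (tt N80750 D172571) (tt N64343 (iv2 F195934)) (tt N66399 (iv3 F332388)) (tt N80749 (iv4 F270745)) (tt N47321 (iv5 F128659)) (tt N24473 (iv6 D82612)) (tt N80751 D172572))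
theorem Q46872 : ∀ i, i < 46872 → P i := stepQ 46871 Q46871 (allL N46871 (tt N64272 (iv1 F298349)) (tt N64271 (iv0 F301151)) (tt N47241 (iv2 F128560)) (tt N80747 (iv3 F270743)) (tt N24476 F127240) (tt N46958 (iv5 F127876)) (tt N69335 (iv6 F316629)) (tt N24474 (iv7 D82615)))
theorem Q46873 : ∀ i, i < 46873 → P i := stepQ 46872 Q46872 (allL N46872 (tt N80752 D172574) (tt N46993 (iv0 F357796)) (tt N80753 D172576) (tt N24475 (iv3 D82616)) (tt N48210 (iv4 F304301)) (tt N52833 (iv5 F151594)) (tt N47053 F301524) (tt N47128 F128333))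
theorem Q46874 : ∀ i, i < 46874 → P i := stepQ 46873 Q46873 (allL N46873 (tt N37643 F304851) (tt N37642 F304852) (tt N24481 F127304) (tt N36449 (iv3 F302406)) (tt N24478 (iv4 D82634)) (tt N24480 F127305) (tt N66967 (iv6 F306794)) (tt N37641 F304853))
theorem Q46875 : ∀ i, i < 46875 → P i := stepQ 46874 Q46874 (allL N46874 (tt N69315 (iv1 F334205)) (tt N46388 (iv0 F334202)) (tt N69317 (iv2 F306991)) (tt N46972 (iv3 F127911)) (tt N66967 (iv4 F306793)) (tt N77275 (iv5 F346971)) (tt N24478 (iv6 D82635)) (tt N69297 (iv7 F333405)))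
theorem Q46876 : ∀ i, i < 46876 → P i := stepQ 46875 Q46875 (allL N46875 (tt N46368 F127311) (tt N46967 F127902) (tt N46764 F127309) (tt N37608 F306581) (tt N24491 F127310) (tt N24479 (iv5 D82637)) (tt N79338 (iv6 F341913)) (tt N46968 (iv7 F127906)))
theorem Q46877 : ∀ i, i < 46877 → P i := stepQ 46876 Q46876 (allL N46876 (tt N24481 (iv1 D82640)) (tt N37641 F304848) (tt N37642 F306569) (tt N46587 (iv3 F127316)) (tt N24655 F127314) (tt N24640 F127315) (tt N75387 (iv6 F306033)) (tt N37643 F306570))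
theorem Q46878 : ∀ i, i < 46878 → P i := stepQ 46877 Q46877 (allL N46877 (tt N26037 (iv1 F337260)) (tt N26205 F337259) (tt N26134 F127380) (tt N48561 (iv3 F133456)) (tt N26136 F127381) (tt N62869 (iv5 F310780)) (tt N24482 (iv6 D82683)) (tt N26204 (iv7 F337232)))
theorem Q46879 : ∀ i, i < 46879 → P i := stepQ 46878 Q46878 (allL N46878 (tt N26209 (iv1 F127436)) (tt N26195 F127437) (tt N26987 F127433) (tt N49174 (iv3 F135307)) (tt N28986 F127434) (tt N25870 F127435) (tt N28468 F292090) (tt N24484 (iv7 D82698)))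
theorem Q46880 : ∀ i, i < 46880 → P i := stepQ 46879 Q46879 (allL N46879 (tt N70105 (iv1 F330193)) (tt N36572 (iv0 F312578)) (tt N77284 (iv2 F312574)) (tt N47050 F310296) (tt N47187 (iv4 F128501)) (tt N52815 (iv5 F312593)) (tt N70045 (iv6 F317029)) (tt N24486 (iv7 D82716)))
theorem Q46881 : ∀ i, i < 46881 → P i := stepQ 46880 Q46880 (allL N46880 (tt N76752 (iv1 F344396)) (tt N76587 (iv0 F344412)) (tt N47183 (iv2 F128495)) (tt N47947 (iv3 F130120)) (tt N68592 (iv4 F306580)) (tt N69165 (iv5 F320708)) (tt N24487 (iv6 D82718)) (tt N76751 (iv7 F312095)))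
theorem Q46882 : ∀ i, i < 46882 → P i := stepQ 46881 Q46881 (allL N46881 (tt N43728 F127496) (tt N43730 F127497) (tt N52968 F308262) (tt N24490 (iv3 D82727)) (tt N34954 F127493) (tt N24649 F127494) (tt N24498 (iv6 F310304)) (tt N28763 F127495))
theorem Q46883 : ∀ i, i < 46883 → P i := stepQ 46882 Q46882 (allL N46882 (tt N63698 (iv1 F315041)) (tt N80709 (iv0 F315042)) (tt N77585 (iv2 F243889)) (tt N24498 F312595) (tt N46969 (iv4 F127909)) (tt N80754 D172783) (tt N24490 (iv6 D82728)) (tt N52953 (iv7 F315045)))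
theorem Q46884 : ∀ i, i < 46884 → P i := stepQ 46883 Q46883 (allL N46883 (tt N28813 F351794) (tt N77580 (iv0 F332036)) (tt N77586 (iv2 F243891)) (tt N63437 (iv3 F187454)) (tt N79338 (iv4 F341911)) (tt N80755 D172787) (tt N24491 (iv6 D82729)) (tt N77598 (iv7 F360166)))
theorem Q46885 : ∀ i, i < 46885 → P i := stepQ 46884 Q46884 (allL N46884 (tt N77597 (iv1 F328940)) (tt N24880 F184758) (tt N24651 F127498) (tt N28764 F127499) (tt N24493 F127500) (tt N80756 D172789) (tt N24492 (iv6 D82730)) (tt N80647 (iv7 F270137)))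
theorem Q46886 : ∀ i, i < 46886 → P i := stepQ 46885 Q46885 (allL N46885 (tt N63742 (iv1 F189172)) (tt N24493 (iv0 D82731)) (tt N77587 (iv2 F343964)) (tt N52799 (iv3 F312604)) (tt N80757 D172792) (tt N42175 (iv5 F315405)) (tt N80705 (iv6 F340220)) (tt N52794 (iv7 F340223)))
theorem Q46887 : ∀ i, i < 46887 → P i := stepQ 46886 Q46886 (allL N46886 (tt N24493 (iv1 D82732)) (tt N63742 F189171) (tt N52794 (iv2 F340222)) (tt N63439 (iv3 F343972)) (tt N80758 D172797) (tt N80759 D172798) (tt N52790 (iv6 F343374)) (tt N77587 (iv7 F343966)))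
theorem Q46888 : ∀ i, i < 46888 → P i := stepQ 46887 Q46887 (allL N46887 (tt N52794 (iv1 F343959)) (tt N77587 F243893) (tt N63742 (iv2 F189167)) (tt N24500 F127503) (tt N80647 (iv4 F270133)) (tt N75187 (iv5 F310751)) (tt N78556 (iv6 F249450)) (tt N24493 (iv7 D82734)))
theorem Q46889 : ∀ i, i < 46889 → P i := stepQ 46888 Q46888 (allL N46888 (tt N70088 (iv1 F354481)) (tt N78630 (iv0 F338815)) (tt N78628 (iv2 F307474)) (tt N77023 (iv3 F298842)) (tt N80689 (iv4 F298845)) (tt N42090 (iv5 F306845)) (tt N24494 (iv6 D82739)) (tt N78627 (iv7 F353940)))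
theorem Q46890 : ∀ i, i < 46890 → P i := stepQ 46889 Q46889 (allL N46889 (tt N42092 F307685) (tt N42091 F307686) (tt N42093 F307687) (tt N27841 (iv3 F298855)) (tt N27702 (iv4 F298859)) (tt N24495 (iv5 D82743)) (tt N42076 (iv6 F309694)) (tt N42036 F307688))
theorem Q46891 : ∀ i, i < 46891 → P i := stepQ 46890 Q46890 (allL N46890 (tt N46436 F301465) (tt N70091 (iv0 F342733)) (tt N78637 (iv2 F348441)) (tt N63442 F191015) (tt N68508 (iv4 F343511)) (tt N47583 (iv5 F272227)) (tt N24495 (iv6 D82744)) (tt N78213 (iv7 F316074)))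
theorem Q46892 : ∀ i, i < 46892 → P i := stepQ 46891 Q46891 (allL N46891 (tt N61003 (iv1 F298393)) (tt N24496 (iv0 D82745)) (tt N52376 (iv2 F298392)) (tt N50072 (iv3 F298863)) (tt N32858 (iv4 F298864)) (tt N45646 (iv5 F298865)) (tt N50078 (iv6 F298866)) (tt N64054 (iv7 F298391)))
theorem Q46893 : ∀ i, i < 46893 → P i := stepQ 46892 Q46892 (allL N46892 (tt N80760 D172838) (tt N54963 (iv0 F298867)) (tt N76621 (iv2 F298860)) (tt N41678 F308640) (tt N24496 (iv4 D82747)) (tt N68411 F308641) (tt N41676 (iv6 F310742)) (tt N79271 (iv7 F298394)))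
theorem Q46894 : ∀ i, i < 46894 → P i := stepQ 46893 Q46893 (allL N46893 (tt N77641 (iv1 F314203)) (tt N65165 (iv0 F334604)) (tt N52954 (iv2 F268293)) (tt N79402 (iv3 F255670)) (tt N80761 D172846) (tt N24497 (iv5 D82752)) (tt N80762 D172847) (tt N52967 (iv7 F268292)))
theorem Q46895 : ∀ i, i < 46895 → P i := stepQ 46894 Q46894 (allL N46894 (tt N28828 (iv1 F271113)) (tt N80763 D172849) (tt N52955 (iv2 F268278)) (tt N79383 (iv3 F333711)) (tt N49508 (iv4 F184763)) (tt N80764 D172850) (tt N24497 (iv6 D82753)) (tt N79404 (iv7 F310446)))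
theorem Q46896 : ∀ i, i < 46896 → P i := stepQ 46895 Q46895 (allL N46895 (tt N65165 (iv1 F334605)) (tt N77641 (iv0 F314202)) (tt N52967 (iv2 F268298)) (tt N80754 (iv3 F315043)) (tt N80765 D172857) (tt N24498 (iv5 D82757)) (tt N47044 F342664) (tt N52954 F268297))
theorem Q46897 : ∀ i, i < 46897 → P i := stepQ 46896 Q46896 (allL N46896 (tt N77638 (iv1 F244453)) (tt N24499 (iv0 D82759)) (tt N78552 (iv2 F298224)) (tt N78721 (iv3 F348502)) (tt N46792 F303450) (tt N80766 D172866) (tt N78718 (iv6 F348513)) (tt N78553 (iv7 F298232)))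
theorem Q46898 : ∀ i, i < 46898 → P i := stepQ 46897 Q46897 (allL N46897 (tt N24499 (iv1 D82760)) (tt N77638 (iv0 F244452)) (tt N78553 (iv2 F298229)) (tt N66992 (iv3 F356983)) (tt N46793 F303451) (tt N47099 (iv5 F128288)) (tt N75202 (iv6 F353663)) (tt N78552 (iv7 F298227)))
theorem Q46899 : ∀ i, i < 46899 → P i := stepQ 46898 Q46898 (allL N46898 (tt N78553 (iv1 F298228)) (tt N78552 (iv0 F298223)) (tt N77638 (iv2 F244449)) (tt N75187 (iv3 F310750)) (tt N75011 (iv4 F315402)) (tt N24500 F127511) (tt N79275 (iv6 F298398)) (tt N24499 (iv7 D82762)))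
theorem Q46900 : ∀ i, i < 46900 → P i := stepQ 46899 Q46899 (allL N46899 (tt N24641 (iv1 F127647)) (tt N24501 (iv0 D82879)) (tt N24640 F127649) (tt N24543 F127646) (tt N63571 (iv4 F188139)) (tt N37642 F306573) (tt N80767 D173197) (tt N24639 (iv7 F127648)))
theorem Q46901 : ∀ i, i < 46901 → P i := stepQ 46900 Q46900 (allL N46900 (tt N24501 (iv1 D82880)) (tt N24641 (iv0 F127654)) (tt N24639 (iv2 F127653)) (tt N76106 (iv3 F303980)) (tt N24642 F127651) (tt N37643 F306578) (tt N79727 (iv6 F323688)) (tt N24640 F127650))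
theorem Q46902 : ∀ i, i < 46902 → P i := stepQ 46901 Q46901 (allL N46901 (tt N24640 (iv1 F127659)) (tt N24639 F127658) (tt N24501 (iv2 D82881)) (tt N43189 F127655) (tt N24504 F127656) (tt N63571 (iv5 F188140)) (tt N80768 D173199) (tt N24641 F127657))
theorem Q46903 : ∀ i, i < 46903 → P i := stepQ 46902 Q46902 (allL N46902 (tt N80769 D173200) (tt N80770 D173201) (tt N80768 (iv2 F271471)) (tt N24502 F127660) (tt N24506 F127661) (tt N73208 (iv5 F324975)) (tt N24501 (iv6 D82882)) (tt N45613 (iv7 F127662)))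
theorem Q46904 : ∀ i, i < 46904 → P i := stepQ 46903 Q46903 (allL N46903 (tt N24562 F155156) (tt N24865 F155157) (tt N24650 F127670) (tt N25070 F127671) (tt N63694 (iv4 F188733)) (tt N69859 (iv5 F336891)) (tt N24503 (iv6 D82885)) (tt N24864 F155158))
theorem Q46905 : ∀ i, i < 46905 → P i := stepQ 46904 Q46904 (allL N46904 (tt N63558 F271474) (tt N79490 (iv0 F334402)) (tt N24506 F127672) (tt N24598 F127673) (tt N80768 (iv4 F271473)) (tt N75364 (iv5 F308691)) (tt N24504 (iv6 D82886)) (tt N80771 D173207))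
theorem Q46906 : ∀ i, i < 46906 → P i := stepQ 46905 Q46905 (allL N46905 (tt N37636 (iv1 F319328)) (tt N37639 (iv0 F319327)) (tt N43317 F127674) (tt N24507 F127675) (tt N44737 F127676) (tt N80772 D173210) (tt N24505 (iv6 D82887)) (tt N69299 F319082))
theorem Q46907 : ∀ i, i < 46907 → P i := stepQ 46906 Q46906 (allL N46906 (tt N80771 (iv1 F271505)) (tt N24506 (iv0 D82888)) (tt N63558 (iv2 F191349)) (tt N28809 F324289) (tt N28813 (iv4 F325423)) (tt N80773 D173213) (tt N80774 D173214) (tt N79490 (iv7 F334405)))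
theorem Q46908 : ∀ i, i < 46908 → P i := stepQ 46907 Q46907 (allL N46907 (tt N24506 (iv1 D82889)) (tt N80771 F271504) (tt N79490 (iv2 F334404)) (tt N25075 F191347) (tt N77580 (iv4 F243855)) (tt N66030 (iv5 F320703)) (tt N77282 (iv6 F332048)) (tt N63558 F191348))
theorem Q46909 : ∀ i, i < 46909 → P i := stepQ 46908 Q46908 (allL N46908 (tt N75366 (iv1 F353937)) (tt N58880 (iv0 F308696)) (tt N75364 (iv2 F308689)) (tt N24510 F127677) (tt N47150 (iv4 F346350)) (tt N24506 (iv5 D82890)) (tt N80772 (iv6 F271509)) (tt N75365 (iv7 F308695)))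
theorem Q46910 : ∀ i, i < 46910 → P i := stepQ 46909 Q46909 (allL N46909 (tt N79490 (iv1 F334403)) (tt N63558 (iv0 F188059)) (tt N80771 (iv2 F271500)) (tt N24511 F127678) (tt N45613 F127679) (tt N75365 (iv5 F308694)) (tt N24660 F127680) (tt N24506 (iv7 D82891)))
theorem Q46911 : ∀ i, i < 46911 → P i := stepQ 46910 Q46910 (allL N46910 (tt N80079 (iv1 F330851)) (tt N80273 (iv0 F330842)) (tt N24610 F127682) (tt N80772 (iv3 F271508)) (tt N80775 D173222) (tt N24507 (iv5 D82894)) (tt N24510 F127683) (tt N80277 (iv7 F330841)))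
theorem Q46912 : ∀ i, i < 46912 → P i := stepQ 46911 Q46911 (allL N46911 (tt N24609 (iv1 F127688)) (tt N24608 F127689) (tt N24611 F127684) (tt N69299 (iv3 F316725)) (tt N28258 F127685) (tt N80277 (iv5 F330840)) (tt N24664 F127686) (tt N24507 (iv7 D82895)))
theorem Q46913 : ∀ i, i < 46913 → P i := stepQ 46912 Q46912 (allL N46912 (tt N63554 (iv1 F188040)) (tt N46395 (iv0 F129629)) (tt N63552 F188027) (tt N24508 (iv3 D82896)) (tt N24942 F127690) (tt N34666 (iv5 F330713)) (tt N67905 (iv6 F314286)) (tt N24614 F127691))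
theorem Q46914 : ∀ i, i < 46914 → P i := stepQ 46913 Q46913 (allL N46913 (tt N78551 (iv1 F249253)) (tt N78636 F250006) (tt N24613 F127692) (tt N34666 (iv3 F330712)) (tt N80776 D173225) (tt N24508 (iv5 D82897)) (tt N34664 F330703) (tt N24616 F127693))
theorem Q46915 : ∀ i, i < 46915 → P i := stepQ 46914 Q46914 (allL N46914 (tt N78636 (iv1 F250007)) (tt N78551 (iv0 F249252)) (tt N24616 F127696) (tt N76028 (iv3 F304263)) (tt N80777 D173231) (tt N24509 (iv5 D82899)) (tt N80778 D173232) (tt N24613 F127697))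
theorem Q46916 : ∀ i, i < 46916 → P i := stepQ 46915 Q46915 (allL N46915 (tt N24620 (iv1 F127708)) (tt N24510 (iv0 D82901)) (tt N24617 F127713) (tt N80189 (iv3 F350681)) (tt N47295 (iv4 F128638)) (tt N44828 F127711) (tt N80183 (iv6 F358885)) (tt N24618 F127710))
theorem Q46917 : ∀ i, i < 46917 → P i := stepQ 46916 Q46916 (allL N46916 (tt N80779 D173237) (tt N80780 D173238) (tt N24619 F127705) (tt N47154 F346348) (tt N24510 (iv4 D82903)) (tt N80781 D173240) (tt N80775 (iv6 F271528)) (tt N80782 D173241))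
theorem Q46918 : ∀ i, i < 46918 → P i := stepQ 46917 Q46917 (allL N46917 (tt N24618 (iv1 F127709)) (tt N24617 F127715) (tt N24620 F127706) (tt N75365 (iv3 F308693)) (tt N80782 (iv4 F271575)) (tt N24511 F127707) (tt N80783 D173242) (tt N24510 (iv7 D82904)))
theorem Q46919 : ∀ i, i < 46919 → P i := stepQ 46918 Q46918 (allL N46918 (tt N24535 F333738) (tt N80634 (iv0 F333739)) (tt N63565 (iv2 F188116)) (tt N24512 (iv3 D82905)) (tt N64433 (iv4 F197085)) (tt N80784 D173245) (tt N65038 (iv6 F302566)) (tt N24621 F127716))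
theorem Q46920 : ∀ i, i < 46920 → P i := stepQ 46919 Q46919 (allL N46919 (tt N44939 F318817) (tt N45448 F300915) (tt N24627 F127717) (tt N80784 (iv3 F271583)) (tt N80785 D173247) (tt N24512 (iv5 D82906)) (tt N48267 F329143) (tt N24622 F127718))
theorem Q46921 : ∀ i, i < 46921 → P i := stepQ 46920 Q46920 (allL N46920 (tt N45452 F300922) (tt N45450 F300923) (tt N24628 F127724) (tt N80786 D173249) (tt N24513 (iv4 D82908)) (tt N80786 (iv5 F346338)) (tt N31105 F326209) (tt N24625 F127725))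
theorem Q46922 : ∀ i, i < 46922 → P i := stepQ 46921 Q46921 (allL N46921 (tt N44851 F127728) (tt N47643 F129380) (tt N24631 F127726) (tt N47141 (iv3 F353293)) (tt N24514 (iv4 D82909)) (tt N47140 F353292) (tt N44645 F298027) (tt N24629 F127727))
theorem Q46923 : ∀ i, i < 46923 → P i := stepQ 46922 Q46922 (allL N46922 (tt N24636 (iv1 F127741)) (tt N24515 (iv0 D82911)) (tt N24632 (iv2 F127737)) (tt N80787 D173254) (tt N25985 F127738) (tt N80788 D173255) (tt N49346 (iv6 F136115)) (tt N24633 (iv7 F127739)))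
theorem Q46924 : ∀ i, i < 46924 → P i := stepQ 46923 Q46923 (allL N46923 (tt N80789 D173264) (tt N80790 D173265) (tt N24635 F127743) (tt N58601 (iv3 F326921)) (tt N80791 D173266) (tt N24515 (iv5 D82914)) (tt N80792 D173267) (tt N58581 (iv7 F326423)))
theorem Q46925 : ∀ i, i < 46925 → P i := stepQ 46924 Q46924 (allL N46924 (tt N24576 (iv1 F127751)) (tt N24516 (iv0 D82916)) (tt N24575 (iv2 F127752)) (tt N36942 F308093) (tt N24738 F127749) (tt N32850 F127748) (tt N36940 (iv6 F310114)) (tt N24574 (iv7 F127753)))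
theorem Q46926 : ∀ i, i < 46926 → P i := stepQ 46925 Q46925 (allL N46925 (tt N24516 (iv1 D82917)) (tt N24576 F127754) (tt N24574 (iv2 F127758)) (tt N52849 (iv3 F151702)) (tt N24689 F127757) (tt N43170 F127756) (tt N77591 (iv6 F331904)) (tt N24575 F127755))
theorem Q46927 : ∀ i, i < 46927 → P i := stepQ 46926 Q46926 (allL N46926 (tt N77593 (iv1 F243918)) (tt N24517 (iv0 D82926)) (tt N77591 (iv2 F331902)) (tt N46402 F131632) (tt N63584 (iv4 F314818)) (tt N80793 D173280) (tt N24574 F312382) (tt N67834 (iv7 F308034)))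
theorem Q46928 : ∀ i, i < 46928 → P i := stepQ 46927 Q46927 (allL N46927 (tt N24517 (iv1 D82927)) (tt N77593 F243916) (tt N67834 F310051) (tt N67009 (iv3 F332356)) (tt N63619 (iv4 F304141)) (tt N71333 (iv5 F338740)) (tt N38611 (iv6 F312330)) (tt N77591 (iv7 F331905)))
theorem Q46929 : ∀ i, i < 46929 → P i := stepQ 46928 Q46928 (allL N46928 (tt N44105 F359063) (tt N80794 D173288) (tt N77592 (iv2 F243909)) (tt N24520 F127778) (tt N80795 D173289) (tt N24517 (iv5 D82928)) (tt N43320 F127779) (tt N80796 D173290))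
theorem Q46930 : ∀ i, i < 46930 → P i := stepQ 46929 Q46929 (allL N46929 (tt N67834 (iv1 F307986)) (tt N77591 F243915) (tt N77593 (iv2 F243912)) (tt N24521 F127780) (tt N24876 (iv4 F300728)) (tt N80796 (iv5 F271675)) (tt N24603 F127782) (tt N24517 (iv7 D82929)))
theorem Q46931 : ∀ i, i < 46931 → P i := stepQ 46930 Q46930 (allL N46930 (tt N80797 D173291) (tt N80764 (iv0 F271115)) (tt N24663 F127784) (tt N43320 F127785) (tt N80798 D173292) (tt N24518 (iv5 D82932)) (tt N24520 F127786) (tt N80799 D173293))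
theorem Q46932 : ∀ i, i < 46932 → P i := stepQ 46931 Q46931 (allL N46931 (tt N24662 (iv1 F127792)) (tt N24661 F127793) (tt N24664 F127787) (tt N43321 F127788) (tt N28242 F127789) (tt N80799 (iv5 F271687)) (tt N24611 F127790) (tt N24518 (iv7 D82933)))
theorem Q46933 : ∀ i, i < 46933 → P i := stepQ 46932 Q46932 (allL N46932 (tt N25081 F130350) (tt N66914 (iv0 F300863)) (tt N66916 (iv2 F300872)) (tt N24519 (iv3 D82936)) (tt N65088 (iv4 F199152)) (tt N80800 D173299) (tt N37012 F314398) (tt N24665 F127798))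
theorem Q46934 : ∀ i, i < 46934 → P i := stepQ 46933 Q46933 (allL N46933 (tt N45655 (iv1 F300607)) (tt N45654 (iv0 F300603)) (tt N24667 F127799) (tt N80800 (iv3 F271702)) (tt N80801 D173300) (tt N24519 (iv5 D82937)) (tt N80802 D173301) (tt N24666 F127800))
theorem Q46935 : ∀ i, i < 46935 → P i := stepQ 46934 Q46934 (allL N46934 (tt N24672 (iv1 F127807)) (tt N24520 (iv0 D82938)) (tt N24669 F127811) (tt N67013 (iv3 F304225)) (tt N47322 (iv4 F128664)) (tt N46850 (iv5 F127810)) (tt N80803 D173303) (tt N24670 F127809))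
theorem Q46936 : ∀ i, i < 46936 → P i := stepQ 46935 Q46935 (allL N46935 (tt N24520 (iv1 D82939)) (tt N24672 F127801) (tt N24670 F127803) (tt N60088 (iv3 F350648)) (tt N47323 (iv4 F128660)) (tt N28014 (iv5 F127802)) (tt N60087 (iv6 F328395)) (tt N24669 (iv7 F127812)))
theorem Q46937 : ∀ i, i < 46937 → P i := stepQ 46936 Q46936 (allL N46936 (tt N80804 D173306) (tt N80805 D173307) (tt N24671 F127804) (tt N80806 D173308) (tt N24520 (iv4 D82940)) (tt N80807 D173309) (tt N80798 (iv6 F271684)) (tt N80808 D173310))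
theorem Q46938 : ∀ i, i < 46938 → P i := stepQ 46937 Q46937 (allL N46937 (tt N24670 (iv1 F127808)) (tt N24669 F127813) (tt N24672 F127805) (tt N80796 (iv3 F271674)) (tt N80808 (iv4 F271727)) (tt N24521 F127806) (tt N80809 D173311) (tt N24520 (iv7 D82941)))
theorem Q46939 : ∀ i, i < 46939 → P i := stepQ 46938 Q46938 (allL N46938 (tt N49349 (iv1 F136146)) (tt N29064 (iv0 F127821)) (tt N24681 F127819) (tt N80810 D173319) (tt N24522 (iv4 D82945)) (tt N80811 D173320) (tt N31070 F325899) (tt N24683 F127820))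
theorem Q46940 : ∀ i, i < 46940 → P i := stepQ 46939 Q46939 (allL N46939 (tt N24688 (iv1 F127827)) (tt N24523 (iv0 D82947)) (tt N24684 F127828) (tt N80812 D173322) (tt N26004 F127825) (tt N80813 D173323) (tt N31047 F325562) (tt N24685 (iv7 F127826)))
theorem Q46941 : ∀ i, i < 46941 → P i := stepQ 46940 Q46940 (allL N46940 (tt N24523 (iv1 D82948)) (tt N24688 F127830) (tt N24685 (iv2 F127833)) (tt N80814 D173325) (tt N26005 F127832) (tt N80815 D173326) (tt N45680 (iv6 F299367)) (tt N24684 F127831))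
theorem Q46942 : ∀ i, i < 46942 → P i := stepQ 46941 Q46941 (allL N46941 (tt N29137 (iv1 F326709)) (tt N29396 (iv0 F326710)) (tt N51732 (iv2 F326711)) (tt N24523 (iv3 D82949)) (tt N27622 F325903) (tt N51829 (iv5 F326715)) (tt N24895 F127834) (tt N51729 (iv7 F326717)))
theorem Q46943 : ∀ i, i < 46943 → P i := stepQ 46942 Q46942 (allL N46942 (tt N45669 (iv1 F299370)) (tt N80816 D173333) (tt N24687 F127835) (tt N51829 (iv3 F326714)) (tt N80817 D173334) (tt N24523 (iv5 D82950)) (tt N80818 D173335) (tt N80819 D173336))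
theorem Q46944 : ∀ i, i < 46944 → P i := stepQ 46943 Q46943 (allL N46943 (tt N24685 (iv1 F127838)) (tt N24684 F127839) (tt N24688 F127836) (tt N51729 (iv3 F326716)) (tt N24524 F127837) (tt N80819 (iv5 F271780)) (tt N31088 F325559) (tt N24523 (iv7 D82951)))
theorem Q46945 : ∀ i, i < 46945 → P i := stepQ 46944 Q46944 (allL N46944 (tt N24712 (iv1 F127842)) (tt N24525 (iv0 D82952)) (tt N24709 F127843) (tt N58871 (iv3 F319916)) (tt N80779 (iv4 F271563)) (tt N44804 F127840) (tt N47926 F334701) (tt N24710 (iv7 F127841)))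
theorem Q46946 : ∀ i, i < 46946 → P i := stepQ 46945 Q46945 (allL N46945 (tt N24525 (iv1 D82953)) (tt N24712 F127844) (tt N24710 F127847) (tt N80820 D173338) (tt N80780 (iv4 F271569)) (tt N34792 F298149) (tt N58869 (iv6 F324772)) (tt N24709 F127845))
theorem Q46947 : ∀ i, i < 46947 → P i := stepQ 46946 Q46946 (allL N46946 (tt N47116 F128321) (tt N47119 (iv0 F128326)) (tt N24711 F127848) (tt N44936 (iv3 F320315)) (tt N24525 (iv4 D82954)) (tt N80821 D173341) (tt N79728 (iv6 F320319)) (tt N79219 (iv7 F318837)))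
theorem Q46948 : ∀ i, i < 46948 → P i := stepQ 46947 Q46947 (allL N46947 (tt N25628 F127856) (tt N47835 F129891) (tt N24694 F127853) (tt N49436 (iv3 F136429)) (tt N24527 (iv4 D82956)) (tt N25612 F127855) (tt N80822 D173344) (tt N24690 F127854))
theorem Q46949 : ∀ i, i < 46949 → P i := stepQ 46948 Q46948 (allL N46948 (tt N24803 (iv1 F319561)) (tt N24554 (iv0 F319560)) (tt N24696 F127857) (tt N63585 (iv3 F188202)) (tt N80822 (iv4 F271797)) (tt N80823 D173347) (tt N24527 (iv6 D82957)) (tt N24802 (iv7 F319562)))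
theorem Q46950 : ∀ i, i < 46950 → P i := stepQ 46949 Q46949 (allL N46949 (tt N47835 F129892) (tt N25628 F127862) (tt N24690 F127858) (tt N35244 F127859) (tt N24528 (iv4 D82958)) (tt N25611 F127860) (tt N43655 F331870) (tt N24694 F127861))
theorem Q46951 : ∀ i, i < 46951 → P i := stepQ 46950 Q46950 (allL N46950 (tt N24836 F331861) (tt N54248 F331862) (tt N24692 F127863) (tt N80021 (iv3 F259515)) (tt N43655 (iv4 F331866)) (tt N80824 D173352) (tt N24528 (iv6 D82959)) (tt N64664 (iv7 F331910)))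
theorem Q46952 : ∀ i, i < 46952 → P i := stepQ 46951 Q46951 (allL N46951 (tt N79459 (iv1 F303406)) (tt N24529 (iv0 D82960)) (tt N64663 (iv2 F323004)) (tt N61006 F321381) (tt N43652 (iv4 F323003)) (tt N80825 D173356) (tt N32889 (iv6 F323006)) (tt N67953 (iv7 F337527)))
theorem Q46953 : ∀ i, i < 46953 → P i := stepQ 46952 Q46952 (allL N46952 (tt N24529 (iv1 D82961)) (tt N79459 (iv0 F303405)) (tt N67953 F337528) (tt N80826 D173359) (tt N43820 (iv4 F303663)) (tt N71472 (iv5 F337532)) (tt N37423 (iv6 F337529)) (tt N64663 (iv7 F323005)))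
theorem Q46954 : ∀ i, i < 46954 → P i := stepQ 46953 Q46953 (allL N46953 (tt N80827 D173363) (tt N80828 D173364) (tt N80299 (iv2 F263170)) (tt N24531 F127864) (tt N80829 D173365) (tt N24529 (iv5 D82962)) (tt N28804 F306790) (tt N79460 (iv7 F303410)))
theorem Q46955 : ∀ i, i < 46955 → P i := stepQ 46954 Q46954 (allL N46954 (tt N24722 (iv1 F127873)) (tt N24530 (iv0 D82964)) (tt N24719 F156867) (tt N66368 (iv3 F331950)) (tt N28239 (iv4 F155501)) (tt N66367 (iv5 F331962)) (tt N45518 F303272) (tt N24720 F156868))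
theorem Q46956 : ∀ i, i < 46956 → P i := stepQ 46955 Q46955 (allL N46955 (tt N24530 (iv1 D82965)) (tt N24722 F127867) (tt N24720 F156859) (tt N63576 (iv3 F188171)) (tt N28240 F155525) (tt N79426 (iv5 F311770)) (tt N80320 (iv6 F308603)) (tt N24719 F156860))
theorem Q46957 : ∀ i, i < 46957 → P i := stepQ 46956 Q46956 (allL N46956 (tt N80830 D173372) (tt N80831 D173373) (tt N24721 F127868) (tt N28804 F306789) (tt N80832 D173374) (tt N24530 (iv5 D82966)) (tt N24531 F127869) (tt N80833 D173375))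
theorem Q46958 : ∀ i, i < 46958 → P i := stepQ 46957 Q46957 (allL N46957 (tt N24720 (iv1 F127874)) (tt N24719 F127875) (tt N24722 F127870) (tt N80298 (iv3 F263165)) (tt N28208 F127871) (tt N80833 (iv5 F271852)) (tt N24708 F127872) (tt N24530 (iv7 D82967)))
theorem Q46959 : ∀ i, i < 46959 → P i := stepQ 46958 Q46958 (allL N46958 (tt N24726 (iv1 F127883)) (tt N24531 (iv0 D82968)) (tt N24723 F127878) (tt N80834 D173376) (tt N80804 (iv4 F271715)) (tt N46871 F127876) (tt N66766 (iv6 F346495)) (tt N24724 (iv7 F127877)))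
theorem Q46960 : ∀ i, i < 46960 → P i := stepQ 46959 Q46959 (allL N46959 (tt N24531 (iv1 D82969)) (tt N24726 F127879) (tt N24724 F127882) (tt N63580 (iv3 F188395)) (tt N80805 (iv4 F271721)) (tt N34819 (iv5 F127881)) (tt N80835 D173378) (tt N24723 F127880))
theorem Q46961 : ∀ i, i < 46961 → P i := stepQ 46960 Q46960 (allL N46960 (tt N47217 (iv1 F128666)) (tt N47221 (iv0 F128535)) (tt N24725 F127884) (tt N80836 D173379) (tt N24531 (iv4 D82970)) (tt N80837 D173380) (tt N80832 (iv6 F271850)) (tt N79461 (iv7 F303415)))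
theorem Q46962 : ∀ i, i < 46962 → P i := stepQ 46961 Q46961 (allL N46961 (tt N77619 (iv1 F333752)) (tt N77620 (iv0 F333737)) (tt N68549 (iv2 F307273)) (tt N24535 F127897) (tt N47691 (iv4 F129502)) (tt N68498 (iv5 F354797)) (tt N24532 (iv6 D82974)) (tt N80838 D173388))
theorem Q46963 : ∀ i, i < 46963 → P i := stepQ 46962 Q46962 (allL N46962 (tt N61127 F178057) (tt N63276 (iv0 F186697)) (tt N76310 F238167) (tt N42249 F309446) (tt N78331 (iv4 F248323)) (tt N24533 (iv5 D82975)) (tt N78011 (iv6 F335202)) (tt N76309 F238162))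
theorem Q46964 : ∀ i, i < 46964 → P i := stepQ 46963 Q46963 (allL N46963 (tt N80839 D173390) (tt N64550 (iv0 F333751)) (tt N80632 (iv2 F270067)) (tt N77197 (iv3 F241945)) (tt N24535 F127898) (tt N78012 (iv5 F335203)) (tt N24533 (iv6 D82976)) (tt N80840 D173393))
theorem Q46965 : ∀ i, i < 46965 → P i := stepQ 46964 Q46964 (allL N46964 (tt N80634 (iv1 F270076)) (tt N24535 (iv0 D82978)) (tt N24621 (iv2 F333740)) (tt N24735 (iv3 F333741)) (tt N64459 (iv4 F351764)) (tt N66034 (iv5 F333743)) (tt N80841 D173402) (tt N63565 (iv7 F333749)))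
theorem Q46966 : ∀ i, i < 46966 → P i := stepQ 46965 Q46965 (allL N46965 (tt N80842 D173408) (tt N80820 (iv0 F358669)) (tt N80633 (iv2 F270071)) (tt N68498 (iv3 F354796)) (tt N80843 D173410) (tt N24535 (iv5 D82980)) (tt N68495 (iv6 F307278)) (tt N80844 D173411))
theorem Q46967 : ∀ i, i < 46967 → P i := stepQ 46966 Q46966 (allL N46966 (tt N63565 F321092) (tt N24621 F321093) (tt N80634 (iv2 F270072)) (tt N80838 (iv3 F271873)) (tt N80840 (iv4 F271874)) (tt N80844 (iv5 F271878)) (tt N80534 (iv6 F317273)) (tt N24535 (iv7 D82981)))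
theorem Q46968 : ∀ i, i < 46968 → P i := stepQ 46967 Q46967 (allL N46967 (tt N46875 (iv1 F127902)) (tt N24536 (iv0 D82982)) (tt N24642 (iv2 F127901)) (tt N24727 F127903) (tt N24639 F127900) (tt N24641 F127899) (tt N80845 D173412) (tt N63571 (iv7 F188141)))
theorem Q46969 : ∀ i, i < 46969 → P i := stepQ 46968 Q46968 (allL N46968 (tt N24642 (iv1 F127907)) (tt N63571 (iv0 F188142)) (tt N24536 (iv2 D82983)) (tt N47686 (iv3 F129482)) (tt N43952 F127904) (tt N44735 F127905) (tt N80846 D173413) (tt N46875 F127906))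
theorem Q46970 : ∀ i, i < 46970 → P i := stepQ 46969 Q46969 (allL N46969 (tt N76907 (iv1 F317255)) (tt N67920 (iv0 F332349)) (tt N80846 (iv2 F271882)) (tt N24539 F127908) (tt N46882 F127909) (tt N80847 D173416) (tt N24536 (iv6 D82984)) (tt N80848 D173417))
theorem Q46971 : ∀ i, i < 46971 → P i := stepQ 46970 Q46970 (allL N46970 (tt N63276 F186698) (tt N61127 (iv0 F178056)) (tt N76309 F238161) (tt N52261 F148314) (tt N78332 (iv4 F248330)) (tt N24537 (iv5 D82985)) (tt N80849 D173418) (tt N76310 (iv7 F238163)))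
theorem Q46972 : ∀ i, i < 46972 → P i := stepQ 46971 Q46971 (allL N46971 (tt N80850 D173419) (tt N77211 (iv0 F344998)) (tt N80630 (iv2 F270056)) (tt N26099 F310447) (tt N24539 F127910) (tt N80851 D173421) (tt N24537 (iv6 D82986)) (tt N28081 (iv7 F312633)))
theorem Q46973 : ∀ i, i < 46973 → P i := stepQ 46972 Q46972 (allL N46972 (tt N66368 (iv1 F331949)) (tt N66371 (iv0 F331964)) (tt N43985 (iv2 F304839)) (tt N46874 F127911) (tt N34199 (iv4 F304244)) (tt N80852 D173425) (tt N24538 (iv6 D82987)) (tt N47957 (iv7 F304843)))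
theorem Q46974 : ∀ i, i < 46974 → P i := stepQ 46973 Q46973 (allL N46973 (tt N24539 (iv1 D82989)) (tt N80534 (iv0 F317271)) (tt N24677 (iv2 F317276)) (tt N24741 (iv3 F317277)) (tt N54124 (iv4 F317278)) (tt N39398 F330961) (tt N80853 D173436) (tt N54120 (iv7 F317275)))
theorem Q46975 : ∀ i, i < 46975 → P i := stepQ 46974 Q46974 (allL N46974 (tt N80834 (iv1 F332379)) (tt N80854 D173438) (tt N67804 (iv2 F332370)) (tt N80847 (iv3 F271884)) (tt N66102 (iv4 F332372)) (tt N24539 (iv5 D82990)) (tt N80852 (iv6 F271890)) (tt N67810 (iv7 F332368)))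
theorem Q46976 : ∀ i, i < 46976 → P i := stepQ 46975 Q46975 (allL N46975 (tt N24677 (iv1 F317289)) (tt N54120 (iv0 F317286)) (tt N80534 (iv2 F317272)) (tt N80848 (iv3 F271886)) (tt N28081 F315082) (tt N67810 (iv5 F332367)) (tt N80634 (iv6 F270073)) (tt N24539 (iv7 D82991)))
theorem Q46977 : ∀ i, i < 46977 → P i := stepQ 46976 Q46976 (allL N46976 (tt N33928 (iv1 F309809)) (tt N34331 (iv0 F309810)) (tt N24544 F127912) (tt N24744 F127913) (tt N29808 F307808) (tt N80855 D173443) (tt N24540 (iv6 D82992)) (tt N43181 (iv7 F309811)))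
theorem Q46978 : ∀ i, i < 46978 → P i := stepQ 46977 Q46977 (allL N46977 (tt N24548 (iv1 F127919)) (tt N24541 (iv0 D82993)) (tt N24545 (iv2 F279299)) (tt N38051 F313372) (tt N80856 D173447) (tt N79914 (iv5 F338571)) (tt N38040 (iv6 F315822)) (tt N24546 (iv7 F279305)))
theorem Q46979 : ∀ i, i < 46979 → P i := stepQ 46978 Q46978 (allL N46978 (tt N24541 (iv1 D82994)) (tt N24548 F127914) (tt N24546 F279306) (tt N63823 (iv3 F312060)) (tt N78298 (iv4 F354637)) (tt N80857 D173453) (tt N80858 D173454) (tt N24545 F279307))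
theorem Q46980 : ∀ i, i < 46980 → P i := stepQ 46979 Q46979 (allL N46979 (tt N57352 (iv1 F329471)) (tt N46078 (iv0 F327803)) (tt N24547 F127915) (tt N24747 F127916) (tt N46002 (iv4 F327772)) (tt N24541 (iv5 D82995)) (tt N80855 (iv6 F271898)) (tt N76638 (iv7 F327796)))
theorem Q46981 : ∀ i, i < 46981 → P i := stepQ 46980 Q46980 (allL N46980 (tt N24546 (iv1 F127920)) (tt N24545 F127921) (tt N24548 F127917) (tt N24748 F127918) (tt N64472 (iv4 F197289)) (tt N76638 (iv5 F327795)) (tt N63505 (iv6 F187748)) (tt N24541 (iv7 D82996)))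
theorem Q46982 : ∀ i, i < 46982 → P i := stepQ 46981 Q46981 (allL N46981 (tt N45551 F127924) (tt N43177 (iv0 F127925)) (tt N76106 (iv2 F303979)) (tt N24542 (iv3 D82997)) (tt N48452 (iv4 F132784)) (tt N46590 F127922) (tt N68485 (iv6 F305208)) (tt N28789 F127923))
theorem Q46983 : ∀ i, i < 46983 → P i := stepQ 46982 Q46982 (allL N46982 (tt N74525 (iv1 F342058)) (tt N78580 (iv0 F342054)) (tt N28793 F127926) (tt N68485 (iv3 F305207)) (tt N44043 F305941) (tt N80859 D173462) (tt N24542 (iv6 D82998)) (tt N48049 (iv7 F307885)))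
theorem Q46984 : ∀ i, i < 46984 → P i := stepQ 46983 Q46983 (allL N46983 (tt N78572 (iv1 F343954)) (tt N43178 (iv0 F307890)) (tt N28791 F127928) (tt N80767 (iv3 F271468)) (tt N34273 F305942) (tt N34291 F308639) (tt N24543 (iv6 D82999)) (tt N34287 (iv7 F307891)))
theorem Q46985 : ∀ i, i < 46985 → P i := stepQ 46984 Q46984 (allL N46984 (tt N80860 D173478) (tt N76786 (iv0 F339358)) (tt N80855 (iv2 F271896)) (tt N24551 F127930) (tt N76637 (iv4 F327773)) (tt N24544 (iv5 D83002)) (tt N24547 F127931) (tt N80861 D173481))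
theorem Q46986 : ∀ i, i < 46986 → P i := stepQ 46985 Q46985 (allL N46985 (tt N34331 F310717) (tt N33928 F310718) (tt N43181 F310719) (tt N24552 F127932) (tt N43786 F310720) (tt N80861 (iv5 F271940)) (tt N28798 F127933) (tt N24544 (iv7 D83003)))
theorem Q46987 : ∀ i, i < 46987 → P i := stepQ 46986 Q46986 (allL N46986 (tt N63825 (iv1 F315051)) (tt N37475 (iv0 F315827)) (tt N63822 F314277) (tt N24545 (iv3 D83005)) (tt N48130 F131225) (tt N80862 D173491) (tt N80863 D173492) (tt N63823 F314278))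
theorem Q46988 : ∀ i, i < 46988 → P i := stepQ 46987 Q46987 (allL N46987 (tt N80864 D173494) (tt N64537 (iv0 F313365)) (tt N80856 (iv2 F279300)) (tt N57425 (iv3 F313364)) (tt N24545 (iv4 D83006)) (tt N80865 D173495) (tt N80866 D173496) (tt N78298 (iv7 F354638)))
theorem Q46989 : ∀ i, i < 46989 → P i := stepQ 46988 Q46988 (allL N46988 (tt N80867 D173498) (tt N80868 D173499) (tt N79914 (iv2 F338570)) (tt N80862 (iv3 F271950)) (tt N80869 D173500) (tt N24545 (iv5 D83007)) (tt N79908 (iv6 F338582)) (tt N80857 (iv7 F279313)))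
theorem Q46990 : ∀ i, i < 46990 → P i := stepQ 46989 Q46989 (allL N46989 (tt N80853 (iv1 F319571)) (tt N47571 (iv0 F319749)) (tt N38040 F318043) (tt N80863 (iv3 F271951)) (tt N80866 (iv4 F271953)) (tt N38038 F318044) (tt N24545 (iv6 D83008)) (tt N80870 D173506))
theorem Q46991 : ∀ i, i < 46991 → P i := stepQ 46990 Q46990 (allL N46990 (tt N80845 (iv1 F309617)) (tt N67922 F313349) (tt N68454 F313350) (tt N24546 (iv3 D83010)) (tt N68465 (iv4 F315780)) (tt N80871 D173512) (tt N79759 (iv6 F341888)) (tt N38051 F313351))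
theorem Q46992 : ∀ i, i < 46992 → P i := stepQ 46991 Q46991 (allL N46991 (tt N64537 (iv1 F313366)) (tt N80864 F271956) (tt N78298 (iv2 F354636)) (tt N64893 (iv3 F198463)) (tt N24546 (iv4 D83011)) (tt N80872 D173514) (tt N80873 D173515) (tt N80856 (iv7 F279301)))
theorem Q46993 : ∀ i, i < 46993 → P i := stepQ 46992 Q46992 (allL N46992 (tt N80868 (iv1 F271957)) (tt N80867 F271960) (tt N80857 (iv2 F279312)) (tt N80871 (iv3 F271966)) (tt N80874 D173516) (tt N24546 (iv5 D83012)) (tt N80875 D173517) (tt N79914 (iv7 F338572)))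
theorem Q46994 : ∀ i, i < 46994 → P i := stepQ 46993 Q46993 (allL N46993 (tt N46872 F357796) (tt N80841 (iv0 F357797)) (tt N80858 (iv2 F279314)) (tt N79759 (iv3 F341887)) (tt N80873 (iv4 F271968)) (tt N80876 D173520) (tt N24546 (iv6 D83013)) (tt N80877 D173521))
theorem Q46995 : ∀ i, i < 46995 → P i := stepQ 46994 Q46994 (allL N46994 (tt N76638 (iv1 F327792)) (tt N24547 (iv0 D83014)) (tt N57352 (iv2 F329472)) (tt N63238 (iv3 F332316)) (tt N46081 (iv4 F327798)) (tt N63237 (iv5 F332313)) (tt N57306 (iv6 F328859)) (tt N46078 (iv7 F327800)))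
theorem Q46996 : ∀ i, i < 46996 → P i := stepQ 46995 Q46995 (allL N46995 (tt N46078 (iv1 F327804)) (tt N57352 (iv0 F329470)) (tt N76638 (iv2 F327793)) (tt N24560 F127936) (tt N45068 (iv4 F327774)) (tt N24548 F127937) (tt N80878 D173537) (tt N24547 (iv7 D83017)))
theorem Q46997 : ∀ i, i < 46997 → P i := stepQ 46996 Q46996 (allL N46996 (tt N80879 D173557) (tt N32937 F334790) (tt N24790 (iv2 F274535)) (tt N34715 (iv3 F311743)) (tt N61064 (iv4 F311745)) (tt N24549 (iv5 D83021)) (tt N32887 (iv6 F310712)) (tt N24792 (iv7 F274540)))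
theorem Q46998 : ∀ i, i < 46998 → P i := stepQ 46997 Q46997 (allL N46997 (tt N26070 F274513) (tt N28073 F274514) (tt N24791 F274542) (tt N77171 F308287) (tt N24550 (iv4 D83025)) (tt N80880 D173573) (tt N64894 (iv6 F310387)) (tt N24789 F274543))
theorem Q46999 : ∀ i, i < 46999 → P i := stepQ 46998 Q46998 (allL N46998 (tt N32937 F334791) (tt N80879 F271996) (tt N24792 F274544) (tt N78577 (iv3 F313112)) (tt N76617 (iv4 F314196)) (tt N24550 (iv5 D83026)) (tt N80881 D173576) (tt N24790 F274545))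
theorem Q47000 : ∀ i, i < 47000 → P i := stepQ 46999 Q46999 (allL N46999 (tt N45554 F309546) (tt N45553 F309547) (tt N24793 F274546) (tt N24777 (iv3 F311742)) (tt N64894 (iv4 F310386)) (tt N80882 D173578) (tt N24550 (iv6 D83027)) (tt N24773 F309548))
theorem Q47001 : ∀ i, i < 47001 → P i := stepQ 47000 Q47000 (allL N47000 (tt N24797 (iv1 F127946)) (tt N24551 (iv0 D83028)) (tt N24794 F273726) (tt N62596 (iv3 F323549)) (tt N80883 D173582) (tt N80321 (iv5 F308610)) (tt N62595 (iv6 F352156)) (tt N24795 (iv7 F273729)))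
theorem Q47002 : ∀ i, i < 47002 → P i := stepQ 47001 Q47001 (allL N47001 (tt N24551 (iv1 D83029)) (tt N24797 F127940) (tt N24795 (iv2 F273728)) (tt N80884 D173586) (tt N50076 (iv4 F324794)) (tt N44793 (iv5 F127941)) (tt N50075 (iv6 F321771)) (tt N24794 F273727))
theorem Q47003 : ∀ i, i < 47003 → P i := stepQ 47002 Q47002 (allL N47002 (tt N80885 D173589) (tt N50763 (iv0 F326555)) (tt N24796 F127942) (tt N32567 (iv3 F326550)) (tt N24551 (iv4 D83030)) (tt N32565 (iv5 F326557)) (tt N24559 F127943) (tt N80886 D173593))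
theorem Q47004 : ∀ i, i < 47004 → P i := stepQ 47003 Q47003 (allL N47003 (tt N24795 (iv1 F127947)) (tt N24794 F127948) (tt N24797 F127944) (tt N80861 (iv3 F271939)) (tt N80886 (iv4 F272038)) (tt N24552 F127945) (tt N80887 D173594) (tt N24551 (iv7 D83031)))
theorem Q47005 : ∀ i, i < 47005 → P i := stepQ 47004 Q47004 (allL N47004 (tt N24555 (iv1 F127960)) (tt N24553 (iv0 D83037)) (tt N24808 (iv2 F127961)) (tt N80888 D173614) (tt N68245 (iv4 F317532)) (tt N34823 F127959) (tt N45196 F327361) (tt N24809 (iv7 F127962)))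
theorem Q47006 : ∀ i, i < 47006 → P i := stepQ 47005 Q47005 (allL N47005 (tt N24553 (iv1 D83038)) (tt N24555 F127963) (tt N24809 (iv2 F127966)) (tt N80868 (iv3 F340656)) (tt N61516 (iv4 F325734)) (tt N44814 F298377) (tt N47929 F334697) (tt N24808 F127964))
theorem Q47007 : ∀ i, i < 47007 → P i := stepQ 47006 Q47006 (allL N47006 (tt N46441 F301475) (tt N47566 (iv0 F129073)) (tt N24810 F127967) (tt N62823 (iv3 F323488)) (tt N24553 (iv4 D83039)) (tt N37134 (iv5 F315833)) (tt N26426 F321706) (tt N24818 F127968))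
theorem Q47008 : ∀ i, i < 47008 → P i := stepQ 47007 Q47007 (allL N47007 (tt N24554 (iv1 D83043)) (tt N24803 F127981) (tt N24802 (iv2 F279263)) (tt N63825 F317258) (tt N80889 D173632) (tt N80890 D173633) (tt N64664 (iv6 F331909)) (tt N24696 F317259))
theorem Q47009 : ∀ i, i < 47009 → P i := stepQ 47008 Q47008 (allL N47008 (tt N24696 F318052) (tt N24802 F127980) (tt N24554 (iv2 D83044)) (tt N24814 F127978) (tt N49552 (iv4 F155178)) (tt N80891 D173635) (tt N65402 (iv6 F319529)) (tt N24803 F127979))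
theorem Q47010 : ∀ i, i < 47010 → P i := stepQ 47009 Q47009 (allL N47009 (tt N80892 D173637) (tt N75786 (iv0 F334736)) (tt N80891 (iv2 F272107)) (tt N24555 F127983) (tt N70464 (iv4 F323564)) (tt N24554 (iv5 D83045)) (tt N80893 D173640) (tt N24805 F127984))
theorem Q47011 : ∀ i, i < 47011 → P i := stepQ 47010 Q47010 (allL N47010 (tt N67955 (iv1 F344928)) (tt N67954 (iv0 F333764)) (tt N65402 (iv2 F319528)) (tt N24556 F127985) (tt N54341 (iv4 F355381)) (tt N65401 (iv5 F323360)) (tt N24554 (iv6 D83046)) (tt N64833 F303644))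
theorem Q47012 : ∀ i, i < 47012 → P i := stepQ 47011 Q47011 (allL N47011 (tt N80894 D173647) (tt N80895 D173648) (tt N24819 F127988) (tt N80893 (iv3 F272117)) (tt N69222 (iv4 F317561)) (tt N80896 D173649) (tt N24555 (iv6 D83048)) (tt N80897 D173650))
theorem Q47013 : ∀ i, i < 47013 → P i := stepQ 47012 Q47012 (allL N47012 (tt N44752 F127990) (tt N34818 (iv0 F127991)) (tt N24821 F127989) (tt N65401 (iv3 F323359)) (tt N80726 (iv4 F270685)) (tt N24556 (iv5 D83049)) (tt N80896 (iv6 F272129)) (tt N46671 (iv7 F127992)))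
theorem Q47014 : ∀ i, i < 47014 → P i := stepQ 47013 Q47013 (allL N47013 (tt N67923 (iv1 F312786)) (tt N67925 (iv0 F312783)) (tt N78709 (iv2 F324711)) (tt N24557 (iv3 D83051)) (tt N42613 (iv4 F324708)) (tt N69346 (iv5 F308402)) (tt N42614 (iv6 F324714)) (tt N24826 F127998))
theorem Q47015 : ∀ i, i < 47015 → P i := stepQ 47014 Q47014 (allL N47014 (tt N47557 (iv1 F129055)) (tt N47072 (iv0 F128221)) (tt N24824 F127999) (tt N80898 D173656) (tt N24557 (iv4 D83052)) (tt N37318 F318968) (tt N80899 D173657) (tt N24827 F128000))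
theorem Q47016 : ∀ i, i < 47016 → P i := stepQ 47015 Q47015 (allL N47015 (tt N80900 D173658) (tt N79891 (iv0 F324704)) (tt N24825 F128001) (tt N42614 F325800) (tt N80899 (iv4 F272145)) (tt N48059 (iv5 F326618)) (tt N24557 (iv6 D83053)) (tt N76644 (iv7 F321690)))
theorem Q47017 : ∀ i, i < 47017 → P i := stepQ 47016 Q47016 (allL N47016 (tt N80823 (iv1 F342686)) (tt N80890 (iv0 F342680)) (tt N45412 (iv2 F319550)) (tt N24558 (iv3 D83054)) (tt N46431 (iv4 F319552)) (tt N63973 (iv5 F298357)) (tt N25358 (iv6 F319553)) (tt N24823 F128002))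
theorem Q47018 : ∀ i, i < 47018 → P i := stepQ 47017 Q47017 (allL N47017 (tt N24833 (iv1 F128006)) (tt N24559 (iv0 D83057)) (tt N24829 F151389) (tt N80901 D173672) (tt N46437 F301466) (tt N69543 (iv5 F319740)) (tt N79890 (iv6 F324640)) (tt N24830 F151390))
theorem Q47019 : ∀ i, i < 47019 → P i := stepQ 47018 Q47018 (allL N47018 (tt N24559 (iv1 D83058)) (tt N24833 F128007) (tt N24830 F151391) (tt N61754 (iv3 F335814)) (tt N46440 F301467) (tt N69544 (iv5 F319735)) (tt N29572 (iv6 F324633)) (tt N24829 F151392))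
theorem Q47020 : ∀ i, i < 47020 → P i := stepQ 47019 Q47019 (allL N47019 (tt N80902 D173679) (tt N80903 D173680) (tt N24834 F128008) (tt N80878 (iv3 F271973)) (tt N75699 (iv4 F326559)) (tt N80646 (iv5 F270130)) (tt N24560 (iv6 D83060)) (tt N80887 (iv7 F272044)))
theorem Q47021 : ∀ i, i < 47021 → P i := stepQ 47020 Q47020 (allL N47020 (tt N25111 F128024) (tt N33954 F309976) (tt N69618 F309977) (tt N24561 (iv3 D83065)) (tt N25189 F128022) (tt N63838 (iv5 F312214)) (tt N46212 F301079) (tt N24594 F128023))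
theorem Q47022 : ∀ i, i < 47022 → P i := stepQ 47021 Q47021 (allL N47021 (tt N46440 F301080) (tt N46437 F301081) (tt N24846 F128025) (tt N63838 (iv3 F312213)) (tt N47523 (iv4 F128953)) (tt N24561 (iv5 D83066)) (tt N80904 D173692) (tt N24595 F128026))
theorem Q47023 : ∀ i, i < 47023 → P i := stepQ 47022 Q47022 (allL N47022 (tt N24865 (iv1 F128027)) (tt N24562 (iv0 D83067)) (tt N24864 F131880) (tt N80905 D173693) (tt N78556 (iv4 F249449)) (tt N80906 D173694) (tt N80647 (iv6 F270136)) (tt N24650 F155163))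
theorem Q47024 : ∀ i, i < 47024 → P i := stepQ 47023 Q47023 (allL N47023 (tt N24864 (iv1 F128032)) (tt N24650 F155161) (tt N24562 (iv2 D83069)) (tt N24848 F128028) (tt N79721 (iv4 F323693)) (tt N77339 (iv5 F362092)) (tt N38603 F317954) (tt N24865 F128029))
theorem Q47025 : ∀ i, i < 47025 → P i := stepQ 47024 Q47024 (allL N47024 (tt N80907 D173696) (tt N69798 (iv0 F315799)) (tt N77339 (iv2 F362090)) (tt N24563 F128033) (tt N80908 D173698) (tt N24562 (iv5 D83070)) (tt N67007 (iv6 F336895)) (tt N24866 F128034))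
theorem Q47026 : ∀ i, i < 47026 → P i := stepQ 47025 Q47025 (allL N47025 (tt N68245 (iv1 F317531)) (tt N61516 (iv0 F325731)) (tt N24851 F128043) (tt N51494 (iv3 F327752)) (tt N24563 (iv4 D83073)) (tt N25935 F327292) (tt N25937 (iv6 F327756)) (tt N24868 F128044))
theorem Q47027 : ∀ i, i < 47027 → P i := stepQ 47026 Q47026 (allL N47026 (tt N26803 (iv1 F328225)) (tt N50079 (iv0 F328226)) (tt N24852 F128045) (tt N67007 (iv3 F336893)) (tt N25937 F327760) (tt N47597 (iv5 F129210)) (tt N24563 (iv6 D83074)) (tt N49246 (iv7 F328227)))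
theorem Q47028 : ∀ i, i < 47028 → P i := stepQ 47027 Q47027 (allL N47027 (tt N70046 (iv1 F317945)) (tt N47193 (iv0 F273258)) (tt N68794 (iv2 F317957)) (tt N24564 (iv3 D83075)) (tt N47573 (iv4 F300367)) (tt N68780 (iv5 F317498)) (tt N47589 (iv6 F129197)) (tt N24873 F128046))
theorem Q47029 : ∀ i, i < 47029 → P i := stepQ 47028 Q47028 (allL N47028 (tt N24565 (iv1 D83080)) (tt N24848 F128059) (tt N24847 (iv2 F275600)) (tt N70492 (iv3 F357811)) (tt N67951 (iv4 F315285)) (tt N80909 D173728) (tt N66435 (iv6 F326276)) (tt N24597 (iv7 F315504)))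
theorem Q47030 : ∀ i, i < 47030 → P i := stepQ 47029 Q47029 (allL N47029 (tt N24597 (iv1 F315503)) (tt N24847 F128058) (tt N24565 (iv2 D83081)) (tt N24865 F128056) (tt N38612 (iv4 F319730)) (tt N73702 (iv5 F319104)) (tt N48283 F330243) (tt N24848 F128057))
theorem Q47031 : ∀ i, i < 47031 → P i := stepQ 47030 Q47030 (allL N47030 (tt N73703 (iv1 F330293)) (tt N73656 (iv0 F330246)) (tt N73702 (iv2 F319102)) (tt N24566 F128061) (tt N80466 (iv4 F335853)) (tt N24565 (iv5 D83082)) (tt N62510 (iv6 F330297)) (tt N24849 F128062))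
theorem Q47032 : ∀ i, i < 47032 → P i := stepQ 47031 Q47031 (allL N47031 (tt N42284 (iv1 F330234)) (tt N48282 F330231) (tt N48283 F330240) (tt N24567 F128063) (tt N38624 (iv4 F319732)) (tt N80371 (iv5 F303740)) (tt N24565 (iv6 D83083)) (tt N38624 F321671))
theorem Q47033 : ∀ i, i < 47033 → P i := stepQ 47032 Q47032 (allL N47032 (tt N61516 (iv1 F325732)) (tt N68245 (iv0 F317530)) (tt N24868 F128064) (tt N61750 (iv3 F348993)) (tt N24566 (iv4 D83084)) (tt N61748 (iv5 F317499)) (tt N73780 (iv6 F330300)) (tt N24851 F128065))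
theorem Q47034 : ∀ i, i < 47034 → P i := stepQ 47033 Q47033 (allL N47033 (tt N45648 (iv1 F128072)) (tt N24568 (iv0 D83087)) (tt N45647 F128082) (tt N35059 F128071) (tt N43419 (iv4 F305620)) (tt N64054 (iv5 F192415)) (tt N24657 (iv6 F303712)) (tt N45646 (iv7 F128073)))
theorem Q47035 : ∀ i, i < 47035 → P i := stepQ 47034 Q47034 (allL N47034 (tt N24568 (iv1 D83088)) (tt N45648 F128079) (tt N45646 (iv2 F128080)) (tt N52501 (iv3 F149842)) (tt N52792 (iv4 F151355)) (tt N52376 F149126) (tt N47596 (iv6 F303714)) (tt N45647 (iv7 F128081)))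
theorem Q47036 : ∀ i, i < 47036 → P i := stepQ 47035 Q47035 (allL N47035 (tt N45647 (iv1 F128083)) (tt N45646 F128078) (tt N24568 (iv2 D83089)) (tt N24576 F128074) (tt N43189 F128075) (tt N43248 F128076) (tt N79488 (iv6 F317079)) (tt N45648 F128077))
theorem Q47037 : ∀ i, i < 47037 → P i := stepQ 47036 Q47036 (allL N47036 (tt N42718 (iv1 F317081)) (tt N77282 (iv0 F317080)) (tt N79488 (iv2 F317076)) (tt N24569 F128084) (tt N45541 F128085) (tt N75773 F314802) (tt N24568 (iv6 D83090)) (tt N45681 (iv7 F128086)))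
theorem Q47038 : ∀ i, i < 47038 → P i := stepQ 47037 Q47037 (allL N47037 (tt N46820 (iv1 F299510)) (tt N27993 F298286) (tt N24580 F128087) (tt N75773 (iv3 F312374)) (tt N55335 (iv4 F310298)) (tt N24569 (iv5 D83091)) (tt N75772 (iv6 F361353)) (tt N45682 F128088))
theorem Q47039 : ∀ i, i < 47039 → P i := stepQ 47038 Q47038 (allL N47038 (tt N66910 F206065) (tt N67835 F308094) (tt N66973 (iv2 F206301)) (tt N24574 (iv3 D83097)) (tt N37477 (iv4 F308143)) (tt N75987 F235213) (tt N46402 (iv6 F310116)) (tt N36942 F308095))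
theorem Q47040 : ∀ i, i < 47040 → P i := stepQ 47039 Q47039 (allL N47039 (tt N24843 F317082) (tt N38612 (iv0 F319728)) (tt N36940 F312379) (tt N66972 (iv3 F206300)) (tt N63585 (iv4 F188203)) (tt N36938 (iv5 F314811)) (tt N24575 (iv6 D83099)) (tt N38611 (iv7 F314812)))
theorem Q47041 : ∀ i, i < 47041 → P i := stepQ 47040 Q47040 (allL N47040 (tt N80910 D173768) (tt N73991 (iv0 F319374)) (tt N24577 F128108) (tt N79488 (iv3 F317077)) (tt N24598 F128109) (tt N70523 (iv5 F330228)) (tt N24576 (iv6 D83100)) (tt N70547 (iv7 F328950)))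
theorem Q47042 : ∀ i, i < 47042 → P i := stepQ 47041 Q47041 (allL N47041 (tt N70547 (iv1 F328946)) (tt N24577 (iv0 D83101)) (tt N80910 (iv2 F273671)) (tt N33464 F317088) (tt N63587 (iv4 F272371)) (tt N72412 (iv5 F319372)) (tt N42284 (iv6 F319373)) (tt N73991 (iv7 F319377)))
theorem Q47043 : ∀ i, i < 47043 → P i := stepQ 47042 Q47042 (allL N47042 (tt N24577 (iv1 D83102)) (tt N70547 (iv0 F328945)) (tt N73991 F321382) (tt N80911 D173777) (tt N63588 (iv4 F273680)) (tt N73990 (iv5 F341207)) (tt N24601 (iv6 F323009)) (tt N80910 (iv7 F273672)))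
theorem Q47044 : ∀ i, i < 47044 → P i := stepQ 47043 Q47043 (allL N47043 (tt N73991 (iv1 F319375)) (tt N80910 (iv0 F272358)) (tt N70547 (iv2 F328947)) (tt N24581 F128111) (tt N24603 F128112) (tt N70522 (iv5 F340189)) (tt N24876 F301368) (tt N24577 (iv7 D83104)))
theorem Q47045 : ∀ i, i < 47045 → P i := stepQ 47044 Q47044 (allL N47044 (tt N80326 (iv1 F263825)) (tt N24578 (iv0 D83105)) (tt N80324 (iv2 F342660)) (tt N47174 (iv3 F342661)) (tt N79277 (iv4 F342662)) (tt N47173 (iv5 F342663)) (tt N46895 (iv6 F342664)) (tt N80325 (iv7 F342665)))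
theorem Q47046 : ∀ i, i < 47046 → P i := stepQ 47045 Q47045 (allL N47045 (tt N24578 (iv1 D83106)) (tt N80326 F263824) (tt N80325 F342666) (tt N47993 (iv3 F342668)) (tt N79278 (iv4 F342669)) (tt N47992 (iv5 F342670)) (tt N80912 D173794) (tt N80324 F342667))
theorem Q47047 : ∀ i, i < 47047 → P i := stepQ 47046 Q47046 (allL N47046 (tt N76898 (iv1 F361332)) (tt N80913 D173796) (tt N75772 (iv2 F361350)) (tt N70550 (iv3 F330213)) (tt N76945 (iv4 F361337)) (tt N24578 (iv5 D83107)) (tt N24580 F128114) (tt N80914 D173798))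
theorem Q47048 : ∀ i, i < 47048 → P i := stepQ 47047 Q47047 (allL N47047 (tt N80325 (iv1 F263818)) (tt N80324 F263823) (tt N80326 (iv2 F263821)) (tt N57400 (iv3 F325426)) (tt N47522 F323228) (tt N80914 (iv5 F272380)) (tt N47521 F323229) (tt N24578 (iv7 D83108)))
theorem Q47049 : ∀ i, i < 47049 → P i := stepQ 47048 Q47048 (allL N47048 (tt N66913 (iv1 F332066)) (tt N70554 (iv0 F332082)) (tt N66970 (iv2 F206286)) (tt N24579 (iv3 D83109)) (tt N45718 F128115) (tt N80915 D173801) (tt N24614 (iv6 F302294)) (tt N45678 F128116))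
theorem Q47050 : ∀ i, i < 47050 → P i := stepQ 47049 Q47049 (allL N47049 (tt N45685 (iv1 F128119)) (tt N36570 F319544) (tt N34632 F128117) (tt N80915 (iv3 F272383)) (tt N64450 (iv4 F320203)) (tt N24579 (iv5 D83110)) (tt N80916 D173804) (tt N45679 F128118))
theorem Q47051 : ∀ i, i < 47051 → P i := stepQ 47050 Q47050 (allL N47050 (tt N45682 (iv1 F128127)) (tt N24580 (iv0 D83112)) (tt N46820 F300790) (tt N46879 (iv3 F310296)) (tt N28597 (iv4 F310303)) (tt N27994 F300791) (tt N70498 (iv6 F357876)) (tt N27993 F300792))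
theorem Q47052 : ∀ i, i < 47052 → P i := stepQ 47051 Q47051 (allL N47051 (tt N80917 D173810) (tt N44813 F301369) (tt N55335 (iv2 F310297)) (tt N53178 (iv3 F365684)) (tt N24580 (iv4 D83114)) (tt N80918 D173813) (tt N76945 (iv6 F361338)) (tt N80618 (iv7 F310302)))
theorem Q47053 : ∀ i, i < 47053 → P i := stepQ 47052 Q47052 (allL N47052 (tt N27993 F300788) (tt N46820 F300789) (tt N45682 F128125) (tt N70522 (iv3 F340188)) (tt N80618 (iv4 F310301)) (tt N24581 F128126) (tt N80919 D173815) (tt N24580 (iv7 D83115)))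
theorem Q47054 : ∀ i, i < 47054 → P i := stepQ 47053 Q47053 (allL N47053 (tt N80638 (iv1 F335269)) (tt N80532 (iv0 F340239)) (tt N54144 (iv2 F351605)) (tt N24582 (iv3 D83116)) (tt N54143 (iv4 F351620)) (tt N47084 F320200) (tt N46872 (iv6 F301524)) (tt N65038 (iv7 F198965)))
theorem Q47055 : ∀ i, i < 47055 → P i := stepQ 47054 Q47054 (allL N47054 (tt N69344 (iv1 F312791)) (tt N45675 (iv0 F317071)) (tt N47281 F333794) (tt N47084 (iv3 F318023)) (tt N65178 (iv4 F318025)) (tt N24582 (iv5 D83117)) (tt N47266 (iv6 F333796)) (tt N65039 (iv7 F198967)))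
theorem Q47056 : ∀ i, i < 47056 → P i := stepQ 47055 Q47055 (allL N47055 (tt N64096 (iv1 F193048)) (tt N64095 (iv0 F193038)) (tt N65151 (iv2 F302202)) (tt N80920 D173824) (tt N24583 (iv4 D83121)) (tt N80921 D173825) (tt N24683 F299363) (tt N59831 (iv7 F326442)))
theorem Q47057 : ∀ i, i < 47057 → P i := stepQ 47056 Q47056 (allL N47056 (tt N45675 (iv1 F317072)) (tt N69344 (iv0 F312790)) (tt N65039 (iv2 F198966)) (tt N77615 (iv3 F303616)) (tt N64546 (iv4 F318022)) (tt N24584 (iv5 D83126)) (tt N80922 D173831) (tt N47281 F333795))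
theorem Q47058 : ∀ i, i < 47058 → P i := stepQ 47057 Q47057 (allL N47057 (tt N64095 (iv1 F193047)) (tt N64096 (iv0 F193046)) (tt N59831 (iv2 F326441)) (tt N80923 D173833) (tt N24585 (iv4 D83128)) (tt N80924 D173834) (tt N31069 F325901) (tt N65151 (iv7 F302203)))
theorem Q47059 : ∀ i, i < 47059 → P i := stepQ 47058 Q47058 (allL N47058 (tt N44844 F298034) (tt N44843 F298035) (tt N44834 F298036) (tt N80925 D173837) (tt N24586 (iv4 D83133)) (tt N80926 D173838) (tt N46780 (iv6 F299456)) (tt N44683 F298037))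
theorem Q47060 : ∀ i, i < 47060 → P i := stepQ 47059 Q47059 (allL N47059 (tt N24587 (iv1 D83139)) (tt N31893 F326151) (tt N27997 (iv2 F298052)) (tt N80927 D173848) (tt N25975 F297242) (tt N80928 D173849) (tt N25977 F297243) (tt N45749 F128167))
theorem Q47061 : ∀ i, i < 47061 → P i := stepQ 47060 Q47060 (allL N47060 (tt N80929 D173851) (tt N80930 D173852) (tt N80931 D173853) (tt N24587 (iv3 D83140)) (tt N24634 F128170) (tt N80932 D173854) (tt N44687 F128171) (tt N80933 D173855))
theorem Q47062 : ∀ i, i < 47062 → P i := stepQ 47061 Q47061 (allL N47061 (tt N45694 F128172) (tt N80934 D173856) (tt N80255 (iv2 F262369)) (tt N80932 (iv3 F272491)) (tt N80935 D173857) (tt N24587 (iv5 D83141)) (tt N80936 D173858) (tt N80937 D173859))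
theorem Q47063 : ∀ i, i < 47063 → P i := stepQ 47062 Q47062 (allL N47062 (tt N27997 F298673) (tt N45749 F128176) (tt N31893 F325578) (tt N80933 (iv3 F272492)) (tt N24588 F128174) (tt N80937 (iv5 F272502)) (tt N31891 F325579) (tt N24587 (iv7 D83142)))
theorem Q47064 : ∀ i, i < 47064 → P i := stepQ 47063 Q47063 (allL N47063 (tt N63569 (iv1 F188135)) (tt N43640 (iv0 F303886)) (tt N43626 F302132) (tt N43843 (iv3 F304696)) (tt N24589 (iv4 D83144)) (tt N48425 (iv5 F132635)) (tt N43410 (iv6 F304699)) (tt N52788 (iv7 F151339)))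
theorem Q47065 : ∀ i, i < 47065 → P i := stepQ 47064 Q47064 (allL N47064 (tt N46392 F128186) (tt N24604 (iv0 F128187)) (tt N46809 F128182) (tt N33941 (iv3 F300384)) (tt N45431 F128185) (tt N24589 (iv5 D83145)) (tt N80938 D173861) (tt N46353 F128184))
theorem Q47066 : ∀ i, i < 47066 → P i := stepQ 47065 Q47065 (allL N47065 (tt N25067 (iv1 F128203)) (tt N24649 (iv0 F128204)) (tt N28762 F128200) (tt N24590 (iv3 D83147)) (tt N25628 F128201) (tt N46819 F304281) (tt N79497 (iv6 F334397)) (tt N28761 F128202))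
theorem Q47067 : ∀ i, i < 47067 → P i := stepQ 47066 Q47066 (allL N47066 (tt N24604 F128207) (tt N46392 (iv0 F128209)) (tt N46353 F128205) (tt N46819 (iv3 F301493)) (tt N45430 (iv4 F128208)) (tt N24590 (iv5 D83148)) (tt N75843 (iv6 F348438)) (tt N46809 F128206))
theorem Q47068 : ∀ i, i < 47068 → P i := stepQ 47067 Q47067 (allL N47067 (tt N24612 F306722) (tt N64519 (iv0 F310563)) (tt N52789 (iv2 F151343)) (tt N79497 (iv3 F334395)) (tt N43817 (iv4 F304703)) (tt N80939 D173870) (tt N24590 (iv6 D83149)) (tt N43813 (iv7 F304710)))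
theorem Q47069 : ∀ i, i < 47069 → P i := stepQ 47068 Q47068 (allL N47068 (tt N47549 (iv1 F128991)) (tt N39777 F325107) (tt N52782 (iv2 F151294)) (tt N29024 (iv3 F329091)) (tt N24592 (iv4 D83156)) (tt N80940 D173892) (tt N80707 (iv6 F270634)) (tt N46218 (iv7 F304135)))
theorem Q47070 : ∀ i, i < 47070 → P i := stepQ 47069 Q47069 (allL N47069 (tt N33954 (iv1 F309685)) (tt N25111 F128218) (tt N24594 F128217) (tt N52791 (iv3 F151351)) (tt N37519 (iv4 F309683)) (tt N52003 (iv5 F342248)) (tt N24593 (iv6 D83158)) (tt N69618 (iv7 F309691)))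
theorem Q47071 : ∀ i, i < 47071 → P i := stepQ 47070 Q47070 (allL N47070 (tt N24594 (iv1 D83160)) (tt N69618 (iv0 F309689)) (tt N25111 F272206) (tt N37950 F308934) (tt N33934 (iv4 F310773)) (tt N31346 (iv5 F327538)) (tt N31348 F326962) (tt N33954 (iv7 F309686)))
theorem Q47072 : ∀ i, i < 47072 → P i := stepQ 47071 Q47071 (allL N47071 (tt N63231 (iv1 F342261)) (tt N63235 (iv0 F336916)) (tt N52003 (iv2 F342247)) (tt N24595 F128220) (tt N52002 (iv4 F342253)) (tt N24594 (iv5 D83161)) (tt N79399 (iv6 F255637)) (tt N63838 (iv7 F312215)))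
theorem Q47073 : ∀ i, i < 47073 → P i := stepQ 47072 Q47072 (allL N47072 (tt N47014 F128221) (tt N38233 (iv0 F318985)) (tt N47524 F128957) (tt N61082 (iv3 F332634)) (tt N24595 (iv4 D83162)) (tt N38023 F317554) (tt N80714 (iv6 F270641)) (tt N47523 F128955))
theorem Q47074 : ∀ i, i < 47074 → P i := stepQ 47073 Q47073 (allL N47073 (tt N46765 F128226) (tt N46762 F128227) (tt N34964 F128223) (tt N35339 F128224) (tt N24596 (iv4 D83163)) (tt N61036 (iv5 F177716)) (tt N80941 D173906) (tt N43651 F128225))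
theorem Q47075 : ∀ i, i < 47075 → P i := stepQ 47074 Q47074 (allL N47074 (tt N64480 (iv1 F315794)) (tt N64483 (iv0 F315795)) (tt N64062 (iv2 F192711)) (tt N24597 F128228) (tt N80941 (iv4 F272554)) (tt N76633 (iv5 F344167)) (tt N24596 (iv6 D83164)) (tt N70492 (iv7 F357814)))
theorem Q47076 : ∀ i, i < 47076 → P i := stepQ 47075 Q47075 (allL N47075 (tt N70095 (iv1 F334099)) (tt N70092 (iv0 F334096)) (tt N63697 (iv2 F188748)) (tt N76633 (iv3 F344166)) (tt N63708 (iv4 F344165)) (tt N24597 (iv5 D83167)) (tt N63692 (iv6 F188694)) (tt N80909 F317735))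
theorem Q47077 : ∀ i, i < 47077 → P i := stepQ 47076 Q47076 (allL N47076 (tt N24603 (iv1 F128234)) (tt N24598 (iv0 D83169)) (tt N24600 F312554) (tt N78748 F317229) (tt N80942 D173927) (tt N45393 (iv5 F319515)) (tt N48282 (iv6 F319517)) (tt N24601 F312555))
theorem Q47078 : ∀ i, i < 47078 → P i := stepQ 47077 Q47077 (allL N47077 (tt N24598 (iv1 D83170)) (tt N24603 F128229) (tt N24601 (iv2 F310281)) (tt N45396 F312557) (tt N80943 D173930) (tt N45394 (iv5 F315012)) (tt N73991 (iv6 F312569)) (tt N24600 (iv7 F310274)))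
theorem Q47079 : ∀ i, i < 47079 → P i := stepQ 47078 Q47078 (allL N47078 (tt N80173 (iv1 F334112)) (tt N65068 (iv0 F353079)) (tt N24602 F128231) (tt N75364 (iv3 F308690)) (tt N80944 D173935) (tt N24598 (iv5 D83171)) (tt N43318 F128232) (tt N80175 (iv7 F330280)))
theorem Q47080 : ∀ i, i < 47080 → P i := stepQ 47079 Q47079 (allL N47079 (tt N24601 (iv1 F128235)) (tt N24600 F128236) (tt N24603 F128233) (tt N80771 (iv3 F271501)) (tt N70547 (iv4 F328949)) (tt N80175 (iv5 F330279)) (tt N77593 (iv6 F243914)) (tt N24598 (iv7 D83172)))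
theorem Q47081 : ∀ i, i < 47081 → P i := stepQ 47080 Q47080 (allL N47080 (tt N64166 (iv1 F320252)) (tt N64164 (iv0 F322709)) (tt N43318 F128238) (tt N24610 F128239) (tt N31466 F333005) (tt N24599 (iv5 D83175)) (tt N24602 F128240) (tt N64165 (iv7 F322708)))
theorem Q47082 : ∀ i, i < 47082 → P i := stepQ 47081 Q47081 (allL N47081 (tt N34555 (iv1 F155404)) (tt N43299 (iv0 F155401)) (tt N43319 F128241) (tt N24611 F128242) (tt N42487 F128243) (tt N64165 (iv5 F322707)) (tt N43321 F128244) (tt N24599 (iv7 D83176)))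
theorem Q47083 : ∀ i, i < 47083 → P i := stepQ 47082 Q47082 (allL N47082 (tt N79509 F257004) (tt N77594 (iv0 F259372)) (tt N80942 (iv2 F315004)) (tt N63866 (iv3 F306288)) (tt N24600 (iv4 D83178)) (tt N80945 D173948) (tt N48284 (iv6 F319518)) (tt N80943 (iv7 F310283)))
theorem Q47084 : ∀ i, i < 47084 → P i := stepQ 47083 Q47083 (allL N47083 (tt N64458 (iv1 F351766)) (tt N67011 (iv0 F334245)) (tt N78327 (iv2 F315009)) (tt N24601 (iv3 D83182)) (tt N80946 D173962) (tt N78740 (iv5 F319513)) (tt N80911 (iv6 F323007)) (tt N78748 (iv7 F315003)))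
theorem Q47085 : ∀ i, i < 47085 → P i := stepQ 47084 Q47084 (allL N47084 (tt N77594 (iv1 F257003)) (tt N79509 (iv0 F257002)) (tt N80943 (iv2 F310282)) (tt N47054 F318023) (tt N24601 (iv4 D83183)) (tt N47053 (iv5 F320200)) (tt N63588 (iv6 F323008)) (tt N80942 (iv7 F315005)))
theorem Q47086 : ∀ i, i < 47086 → P i := stepQ 47085 Q47085 (allL N47085 (tt N45392 (iv1 F319510)) (tt N45391 (iv0 F319511)) (tt N45394 F317227) (tt N78740 (iv3 F319512)) (tt N80947 D173967) (tt N24601 (iv5 D83184)) (tt N65399 (iv6 F319514)) (tt N45393 (iv7 F319516)))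
theorem Q47087 : ∀ i, i < 47087 → P i := stepQ 47086 Q47086 (allL N47086 (tt N24602 (iv1 D83187)) (tt N80175 (iv0 F330277)) (tt N65068 (iv2 F330284)) (tt N75601 (iv3 F336512)) (tt N80948 D173980) (tt N46788 F303496) (tt N75599 (iv6 F336510)) (tt N80173 (iv7 F330283)))
theorem Q47088 : ∀ i, i < 47088 → P i := stepQ 47087 Q47087 (allL N47087 (tt N80949 D173983) (tt N80950 D173984) (tt N80944 (iv2 F272572)) (tt N31468 F333000) (tt N24602 (iv4 D83188)) (tt N31526 (iv5 F333001)) (tt N31466 (iv6 F333002)) (tt N80951 D173987))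
theorem Q47089 : ∀ i, i < 47089 → P i := stepQ 47088 Q47088 (allL N47088 (tt N65068 (iv1 F353080)) (tt N80173 (iv0 F334111)) (tt N80175 (iv2 F330278)) (tt N24620 F128250) (tt N80951 (iv4 F272621)) (tt N24603 F128251) (tt N65066 (iv6 F341237)) (tt N24602 (iv7 D83189)))
theorem Q47090 : ∀ i, i < 47090 → P i := stepQ 47089 Q47089 (allL N47089 (tt N46809 (iv1 F128256)) (tt N46353 F128255) (tt N24604 (iv2 D83190)) (tt N34764 F128252) (tt N75387 (iv4 F303569)) (tt N27989 F128253) (tt N24655 F306115) (tt N46392 F128254))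
theorem Q47091 : ∀ i, i < 47091 → P i := stepQ 47090 Q47090 (allL N47090 (tt N36439 F128260) (tt N47331 (iv0 F128677)) (tt N75387 (iv2 F303567)) (tt N28025 F128257) (tt N24604 (iv4 D83191)) (tt N34591 F128259) (tt N37642 F306344) (tt N46810 F128258))
theorem Q47092 : ∀ i, i < 47092 → P i := stepQ 47091 Q47091 (allL N47091 (tt N46819 (iv1 F128269)) (tt N46357 F303191) (tt N46397 F303192) (tt N24654 (iv3 F305454)) (tt N28032 F128266) (tt N28250 (iv5 F305455)) (tt N46816 F128267) (tt N24605 (iv7 D83196)))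
theorem Q47093 : ∀ i, i < 47093 → P i := stepQ 47092 Q47092 (allL N47092 (tt N46404 F340788) (tt N46360 (iv0 F340789)) (tt N46393 F128276) (tt N24607 F128277) (tt N37613 F307905) (tt N37940 F320713) (tt N24606 (iv6 D83198)) (tt N46398 F303197))
theorem Q47094 : ∀ i, i < 47094 → P i := stepQ 47093 Q47093 (allL N47093 (tt N46816 (iv1 F128284)) (tt N24607 (iv0 D83199)) (tt N46814 (iv2 F314200)) (tt N43208 (iv3 F309550)) (tt N28612 F270521) (tt N80952 D174016) (tt N80953 D174017) (tt N43326 (iv7 F309552)))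
theorem Q47095 : ∀ i, i < 47095 → P i := stepQ 47094 Q47094 (allL N47094 (tt N24607 (iv1 D83200)) (tt N46816 F128278) (tt N43326 F311748) (tt N80954 D174019) (tt N28613 F272666) (tt N80955 D174020) (tt N80956 D174021) (tt N46814 (iv7 F314201)))
theorem Q47096 : ∀ i, i < 47096 → P i := stepQ 47095 Q47095 (allL N47095 (tt N70552 (iv1 F344093)) (tt N54353 (iv0 F156787)) (tt N46815 F128279) (tt N37940 F319782) (tt N69221 F319783) (tt N24607 (iv5 D83201)) (tt N27986 F128280) (tt N67812 (iv7 F339475)))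
theorem Q47097 : ∀ i, i < 47097 → P i := stepQ 47096 Q47096 (allL N47096 (tt N43326 (iv1 F309569)) (tt N46814 F128286) (tt N46816 F128281) (tt N46398 F303193) (tt N28046 F128282) (tt N67812 (iv5 F339474)) (tt N46397 F303194) (tt N24607 (iv7 D83202)))
theorem Q47098 : ∀ i, i < 47098 → P i := stepQ 47097 Q47097 (allL N47097 (tt N75844 (iv1 F317094)) (tt N75843 (iv0 F317093)) (tt N37578 F315396) (tt N24608 (iv3 D83204)) (tt N80957 D174033) (tt N80958 D174034) (tt N80959 D174035) (tt N53750 (iv7 F272820)))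
theorem Q47099 : ∀ i, i < 47099 → P i := stepQ 47098 Q47098 (allL N47098 (tt N80960 D174037) (tt N80961 D174038) (tt N53737 (iv2 F272826)) (tt N80958 (iv3 F272765)) (tt N80962 D174039) (tt N24608 (iv5 D83206)) (tt N80963 D174040) (tt N53751 (iv7 F272822)))
theorem Q47100 : ∀ i, i < 47100 → P i := stepQ 47099 Q47099 (allL N47099 (tt N80956 (iv1 F338121)) (tt N80964 D174043) (tt N53738 (iv2 F272828)) (tt N80959 (iv3 F272766)) (tt N53208 F195694) (tt N46897 F128288) (tt N24608 (iv6 D83207)) (tt N80965 D174044))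
theorem Q47101 : ∀ i, i < 47101 → P i := stepQ 47100 Q47100 (allL N47100 (tt N80961 (iv1 F272783)) (tt N80960 F272787) (tt N53751 (iv2 F272821)) (tt N37586 F314375) (tt N80966 D174050) (tt N24609 (iv5 D83211)) (tt N80967 D174051) (tt N53737 (iv7 F272827)))
theorem Q47102 : ∀ i, i < 47102 → P i := stepQ 47101 Q47101 (allL N47101 (tt N80968 D174052) (tt N49642 F156789) (tt N53752 (iv2 F272823)) (tt N37587 F314376) (tt N53210 F195697) (tt N54349 (iv5 F156788)) (tt N24609 (iv6 D83212)) (tt N80969 D174053))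
theorem Q47103 : ∀ i, i < 47103 → P i := stepQ 47102 Q47102 (allL N47102 (tt N80277 (iv1 F330838)) (tt N24610 (iv0 D83213)) (tt N80079 (iv2 F330852)) (tt N80970 D174054) (tt N80971 D174055) (tt N80718 F272690) (tt N80077 (iv6 F365186)) (tt N80273 (iv7 F330845)))
theorem Q47104 : ∀ i, i < 47104 → P i := stepQ 47103 Q47103 (allL N47103 (tt N80972 D174060) (tt N78470 (iv0 F330873)) (tt N80775 (iv2 F271527)) (tt N30206 (iv3 F332993)) (tt N24610 (iv4 D83215)) (tt N30202 (iv5 F332994)) (tt N24619 F128290) (tt N30201 (iv7 F332995)))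
theorem Q47105 : ∀ i, i < 47105 → P i := stepQ 47104 Q47104 (allL N47104 (tt N80273 (iv1 F330843)) (tt N80079 (iv0 F330850)) (tt N80277 (iv2 F330839)) (tt N64165 (iv3 F322706)) (tt N30201 F332997) (tt N24611 F128291) (tt N80973 D174065) (tt N24610 (iv7 D83216)))
theorem Q47106 : ∀ i, i < 47106 → P i := stepQ 47105 Q47105 (allL N47105 (tt N43813 F304755) (tt N52789 (iv0 F304741)) (tt N24612 (iv2 D83219)) (tt N63552 (iv3 F188028)) (tt N45723 F312366) (tt N79772 (iv5 F344882)) (tt N79773 (iv6 F344681)) (tt N64519 F312367))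
theorem Q47107 : ∀ i, i < 47107 → P i := stepQ 47106 Q47106 (allL N47106 (tt N76115 (iv1 F330168)) (tt N76117 (iv0 F355892)) (tt N79772 (iv2 F344880)) (tt N24613 F128294) (tt N64522 (iv4 F330169)) (tt N24612 (iv5 D83221)) (tt N78750 (iv6 F330707)) (tt N76028 (iv7 F304264)))
theorem Q47108 : ∀ i, i < 47108 → P i := stepQ 47107 Q47107 (allL N47107 (tt N79291 (iv1 F300919)) (tt N59586 (iv0 F343719)) (tt N80776 (iv2 F271536)) (tt N80974 D174092) (tt N24613 (iv4 D83225)) (tt N80975 D174093) (tt N48396 F330715) (tt N80777 (iv7 F271552)))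
theorem Q47109 : ∀ i, i < 47109 → P i := stepQ 47108 Q47108 (allL N47108 (tt N65441 (iv1 F330704)) (tt N45400 (iv0 F330705)) (tt N34664 F330699) (tt N78750 (iv3 F330706)) (tt N48396 (iv4 F330708)) (tt N48375 F330700) (tt N24613 (iv6 D83226)) (tt N65440 (iv7 F330709)))
theorem Q47110 : ∀ i, i < 47110 → P i := stepQ 47109 Q47109 (allL N47109 (tt N24614 (iv1 D83227)) (tt N63552 F188032) (tt N63554 (iv2 F188035)) (tt N45395 F313448) (tt N77618 (iv4 F244130)) (tt N45477 (iv5 F315912)) (tt N66914 (iv6 F300866)) (tt N46395 F128301))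
theorem Q47111 : ∀ i, i < 47111 → P i := stepQ 47110 Q47110 (allL N47110 (tt N46395 (iv1 F188031)) (tt N63554 F188039) (tt N24614 (iv2 D83228)) (tt N64519 (iv3 F310566)) (tt N80976 D174099) (tt N78745 (iv5 F330763)) (tt N66970 (iv6 F304131)) (tt N63552 (iv7 F188030)))
theorem Q47112 : ∀ i, i < 47112 → P i := stepQ 47111 Q47111 (allL N47111 (tt N52177 (iv1 F333722)) (tt N80977 D174103) (tt N80976 (iv2 F272903)) (tt N24917 F128304) (tt N24614 (iv4 D83229)) (tt N80978 D174104) (tt N45718 (iv6 F299939)) (tt N24942 F128305))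
theorem Q47113 : ∀ i, i < 47113 → P i := stepQ 47112 Q47112 (allL N47112 (tt N60380 F344883) (tt N34615 F344884) (tt N78745 (iv2 F330762)) (tt N24616 F128306) (tt N80979 D174108) (tt N24614 (iv5 D83230)) (tt N65409 (iv6 F330725)) (tt N34666 F330716))
theorem Q47114 : ∀ i, i < 47114 → P i := stepQ 47113 Q47113 (allL N47113 (tt N59586 (iv1 F343720)) (tt N79291 (iv0 F300918)) (tt N80777 (iv2 F271551)) (tt N80980 D174114) (tt N24616 (iv4 D83234)) (tt N80981 D174115) (tt N80982 D174116) (tt N80776 (iv7 F271537)))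
theorem Q47115 : ∀ i, i < 47115 → P i := stepQ 47114 Q47114 (allL N47114 (tt N65414 (iv1 F353949)) (tt N80983 D174118) (tt N80778 (iv2 F271554)) (tt N65409 (iv3 F330724)) (tt N80982 (iv4 F272922)) (tt N80916 (iv5 F304132)) (tt N24616 (iv6 D83235)) (tt N79763 (iv7 F355393)))
theorem Q47116 : ∀ i, i < 47116 → P i := stepQ 47115 Q47115 (allL N47115 (tt N67015 (iv1 F303670)) (tt N80939 (iv0 F341683)) (tt N80193 (iv2 F341688)) (tt N24617 (iv3 D83240)) (tt N79541 (iv4 F341676)) (tt N42816 F300887) (tt N80190 (iv6 F358925)) (tt N42815 F300888))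
theorem Q47117 : ∀ i, i < 47117 → P i := stepQ 47116 Q47116 (allL N47116 (tt N47298 (iv1 F128642)) (tt N46946 (iv0 F128321)) (tt N47295 F128637) (tt N80984 D174129) (tt N24617 (iv4 D83241)) (tt N80985 D174130) (tt N80986 D174131) (tt N45445 F300912))
theorem Q47118 : ∀ i, i < 47118 → P i := stepQ 47117 Q47117 (allL N47117 (tt N80178 (iv1 F358927)) (tt N80170 (iv0 F358934)) (tt N80183 (iv2 F358883)) (tt N80190 (iv3 F358924)) (tt N80986 (iv4 F272933)) (tt N80341 (iv5 F301482)) (tt N24617 (iv6 D83243)) (tt N80179 (iv7 F358880)))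
theorem Q47119 : ∀ i, i < 47119 → P i := stepQ 47118 Q47118 (allL N47118 (tt N63553 F188034) (tt N45477 F318085) (tt N80196 (iv2 F330743)) (tt N24618 (iv3 D83244)) (tt N80987 D174136) (tt N45421 F298815) (tt N58854 (iv6 F348463)) (tt N80189 (iv7 F350683)))
theorem Q47120 : ∀ i, i < 47120 → P i := stepQ 47119 Q47119 (allL N47119 (tt N46946 F128326) (tt N47298 F128641) (tt N45445 F298821) (tt N80988 D174138) (tt N24618 (iv4 D83245)) (tt N80989 D174139) (tt N80990 D174140) (tt N47295 (iv7 F128639)))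
theorem Q47121 : ∀ i, i < 47121 → P i := stepQ 47120 Q47120 (allL N47120 (tt N80991 D174141) (tt N75334 (iv0 F355092)) (tt N45441 F298818) (tt N58854 (iv3 F348462)) (tt N80990 (iv4 F272939)) (tt N45422 F298819) (tt N24618 (iv6 D83246)) (tt N80182 (iv7 F350704)))
theorem Q47122 : ∀ i, i < 47122 → P i := stepQ 47121 Q47121 (allL N47121 (tt N80782 (iv1 F271578)) (tt N24619 (iv0 D83247)) (tt N80779 F271564) (tt N80992 D174144) (tt N24709 (iv4 F128359)) (tt N80993 D174145) (tt N47928 F334708) (tt N80780 (iv7 F271568)))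
theorem Q47123 : ∀ i, i < 47123 → P i := stepQ 47122 Q47122 (allL N47122 (tt N24619 (iv1 D83248)) (tt N80782 F271577) (tt N80780 F271570) (tt N30842 (iv3 F324770)) (tt N24710 F128328) (tt N64311 (iv5 F353301)) (tt N30840 (iv6 F324771)) (tt N80779 F271565))
theorem Q47124 : ∀ i, i < 47124 → P i := stepQ 47123 Q47123 (allL N47123 (tt N80994 D174150) (tt N80995 D174151) (tt N59209 (iv2 F332998)) (tt N24619 (iv3 D83249)) (tt N31468 (iv4 F332999)) (tt N80996 D174153) (tt N30206 F332996) (tt N80997 D174154))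
theorem Q47125 : ∀ i, i < 47125 → P i := stepQ 47124 Q47124 (allL N47124 (tt N80998 D174155) (tt N64577 (iv0 F346344)) (tt N80781 (iv2 F271571)) (tt N80996 (iv3 F272945)) (tt N58581 (iv4 F326422)) (tt N24619 (iv5 D83250)) (tt N80999 D174157) (tt N80791 F271630))
theorem Q47126 : ∀ i, i < 47126 → P i := stepQ 47125 Q47125 (allL N47125 (tt N80780 (iv1 F271567)) (tt N80779 F271566) (tt N80782 (iv2 F271574)) (tt N80997 (iv3 F272946)) (tt N24620 F128329) (tt N80791 (iv5 F271629)) (tt N81000 D174158) (tt N24619 (iv7 D83251)))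
theorem Q47127 : ∀ i, i < 47127 → P i := stepQ 47126 Q47126 (allL N47126 (tt N81001 D174159) (tt N81002 D174160) (tt N80783 (iv2 F271579)) (tt N65066 (iv3 F341236)) (tt N81000 (iv4 F272953)) (tt N80809 (iv5 F271732)) (tt N24620 (iv6 D83252)) (tt N80973 (iv7 F272871)))
theorem Q47128 : ∀ i, i < 47128 → P i := stepQ 47127 Q47127 (allL N47127 (tt N81003 D174173) (tt N81004 D174174) (tt N66034 (iv2 F326682)) (tt N24622 F128331) (tt N81005 D174175) (tt N24621 (iv5 D83256)) (tt N48340 (iv6 F328759)) (tt N80784 (iv7 F271584)))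
theorem Q47129 : ∀ i, i < 47129 → P i := stepQ 47128 Q47128 (allL N47128 (tt N80858 (iv1 F351635)) (tt N80877 (iv0 F351631)) (tt N80841 (iv2 F333746)) (tt N24623 F128332) (tt N64572 (iv4 F197594)) (tt N78417 (iv5 F329440)) (tt N24621 (iv6 D83257)) (tt N46872 (iv7 F128333)))
theorem Q47130 : ∀ i, i < 47130 → P i := stepQ 47129 Q47129 (allL N47129 (tt N24622 (iv1 D83258)) (tt N24627 F128334) (tt N44939 F318818) (tt N79224 (iv3 F320955)) (tt N81006 D174180) (tt N45424 F300624) (tt N57300 (iv6 F334616)) (tt N45448 F300625))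
theorem Q47131 : ∀ i, i < 47131 → P i := stepQ 47130 Q47130 (allL N47130 (tt N78635 (iv1 F250003)) (tt N79287 (iv0 F300898)) (tt N59519 F328346) (tt N81007 D174182) (tt N24622 (iv4 D83259)) (tt N80998 (iv5 F272947)) (tt N48341 (iv6 F328760)) (tt N80785 (iv7 F271588)))
theorem Q47132 : ∀ i, i < 47132 → P i := stepQ 47131 Q47131 (allL N47131 (tt N46250 F300514) (tt N59716 (iv0 F325189)) (tt N65059 (iv2 F199075)) (tt N55431 (iv3 F358396)) (tt N24624 (iv4 D83261)) (tt N79299 (iv5 F300948)) (tt N79842 (iv6 F258595)) (tt N65058 (iv7 F199061)))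
theorem Q47133 : ∀ i, i < 47133 → P i := stepQ 47132 Q47132 (allL N47132 (tt N24628 (iv1 F128335)) (tt N24625 (iv0 D83262)) (tt N45450 F300619) (tt N71709 (iv3 F365884)) (tt N45423 F300620) (tt N81008 D174190) (tt N64096 F300621) (tt N45452 F300622))
theorem Q47134 : ∀ i, i < 47134 → P i := stepQ 47133 Q47133 (allL N47133 (tt N24625 (iv1 D83263)) (tt N24628 F128336) (tt N45452 F299376) (tt N71713 (iv3 F353287)) (tt N45425 F299377) (tt N81009 D174192) (tt N64129 F299378) (tt N45450 F299379))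
theorem Q47135 : ∀ i, i < 47135 → P i := stepQ 47134 Q47134 (allL N47134 (tt N79295 (iv1 F346340)) (tt N47642 (iv0 F346341)) (tt N65061 (iv2 F346342)) (tt N24625 (iv3 D83264)) (tt N64577 (iv4 F197611)) (tt N24625 (iv5 F346343)) (tt N81010 D174197) (tt N80786 (iv7 F271590)))
theorem Q47136 : ∀ i, i < 47136 → P i := stepQ 47135 Q47135 (allL N47135 (tt N45465 F298057) (tt N64233 F298058) (tt N46676 F128337) (tt N81010 (iv3 F272986)) (tt N24626 F128338) (tt N28860 F331184) (tt N24625 (iv6 D83266)) (tt N59762 (iv7 F325351)))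
theorem Q47137 : ∀ i, i < 47137 → P i := stepQ 47136 Q47136 (allL N47136 (tt N79287 (iv1 F300899)) (tt N78635 (iv0 F250002)) (tt N80785 (iv2 F271587)) (tt N59349 (iv3 F346347)) (tt N24627 (iv4 D83267)) (tt N64577 (iv5 F346346)) (tt N81011 D174202) (tt N59519 (iv7 F327954)))
theorem Q47138 : ∀ i, i < 47138 → P i := stepQ 47137 Q47137 (allL N47137 (tt N48268 (iv1 F324242)) (tt N35509 F322764) (tt N48267 (iv2 F328785)) (tt N66037 (iv3 F326693)) (tt N81011 (iv4 F272994)) (tt N80922 (iv5 F303617)) (tt N24627 (iv6 D83268)) (tt N48266 (iv7 F328787)))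
theorem Q47139 : ∀ i, i < 47139 → P i := stepQ 47138 Q47138 (allL N47138 (tt N81012 D174209) (tt N81013 D174210) (tt N81014 D174211) (tt N24628 (iv3 D83272)) (tt N24978 F128344) (tt N81014 (iv5 F338788)) (tt N59757 (iv6 F325303)) (tt N65060 (iv7 F199091)))
theorem Q47140 : ∀ i, i < 47140 → P i := stepQ 47139 Q47139 (allL N47139 (tt N47642 F129377) (tt N79295 (iv0 F300939)) (tt N80786 (iv2 F346337)) (tt N81014 (iv3 F338787)) (tt N80998 (iv4 F272948)) (tt N24628 (iv5 D83273)) (tt N71717 (iv6 F351021)) (tt N65061 (iv7 F199093)))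
theorem Q47141 : ∀ i, i < 47141 → P i := stepQ 47140 Q47140 (allL N47140 (tt N81008 (iv1 F353289)) (tt N81009 (iv0 F353290)) (tt N47142 (iv2 F353291)) (tt N24629 (iv3 D83279)) (tt N64580 (iv4 F197638)) (tt N46921 (iv5 F353292)) (tt N47238 (iv6 F128555)) (tt N47141 (iv7 F353294)))
theorem Q47142 : ∀ i, i < 47142 → P i := stepQ 47141 Q47141 (allL N47141 (tt N79293 (iv1 F300934)) (tt N59579 (iv0 F343714)) (tt N65069 (iv2 F199111)) (tt N46921 F353293) (tt N64311 (iv4 F353300)) (tt N24629 (iv5 D83280)) (tt N78422 (iv6 F353299)) (tt N47140 F353294))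
theorem Q47143 : ∀ i, i < 47143 → P i := stepQ 47142 Q47142 (allL N47142 (tt N59579 (iv1 F343715)) (tt N79293 (iv0 F300933)) (tt N47140 F353291) (tt N79594 (iv3 F257420)) (tt N80993 (iv4 F272941)) (tt N24631 (iv5 D83282)) (tt N81015 D174227) (tt N65069 (iv7 F199112)))
theorem Q47144 : ∀ i, i < 47144 → P i := stepQ 47143 Q47143 (allL N47143 (tt N81016 D174231) (tt N81017 D174232) (tt N81018 D174233) (tt N24632 (iv3 D83284)) (tt N45483 (iv4 F302610)) (tt N47148 (iv5 F337353)) (tt N79476 (iv6 F303297)) (tt N45456 F300944))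
theorem Q47145 : ∀ i, i < 47145 → P i := stepQ 47144 Q47144 (allL N47144 (tt N81019 D174235) (tt N81020 D174236) (tt N80788 (iv2 F271603)) (tt N47148 F337354) (tt N80989 (iv4 F272938)) (tt N24632 (iv5 D83285)) (tt N81021 D174237) (tt N45457 F300953))
theorem Q47146 : ∀ i, i < 47146 → P i := stepQ 47145 Q47145 (allL N47145 (tt N81022 D174238) (tt N81023 D174239) (tt N81024 D174240) (tt N24633 (iv3 D83286)) (tt N80206 F299762) (tt N81025 D174242) (tt N45426 F299763) (tt N80787 (iv7 F271602)))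
theorem Q47147 : ∀ i, i < 47147 → P i := stepQ 47146 Q47146 (allL N47146 (tt N81020 (iv1 F273031)) (tt N81019 F273028) (tt N45457 F300465) (tt N81025 (iv3 F273037)) (tt N80985 (iv4 F272932)) (tt N24633 (iv5 D83288)) (tt N81026 D174245) (tt N80788 (iv7 F271604)))
theorem Q47148 : ∀ i, i < 47148 → P i := stepQ 47147 Q47147 (allL N47147 (tt N58558 (iv1 F337341)) (tt N24634 (iv0 D83290)) (tt N55554 F343701) (tt N81027 D174250) (tt N29407 (iv4 F343702)) (tt N79298 (iv5 F337359)) (tt N29406 (iv6 F343703)) (tt N81028 D174254))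
theorem Q47149 : ∀ i, i < 47149 → P i := stepQ 47148 Q47148 (allL N47148 (tt N24634 (iv1 D83291)) (tt N58558 (iv0 F337340)) (tt N81028 (iv2 F273054)) (tt N47144 (iv3 F337354)) (tt N55557 (iv4 F361144)) (tt N47143 F337353) (tt N80256 (iv6 F362523)) (tt N55554 (iv7 F343700)))
theorem Q47150 : ∀ i, i < 47150 → P i := stepQ 47149 Q47149 (allL N47149 (tt N55554 (iv1 F343696)) (tt N81028 (iv0 F343704)) (tt N24634 (iv2 D83292)) (tt N58563 (iv3 F326920)) (tt N80931 (iv4 F272489)) (tt N81029 D174261) (tt N44694 F128369) (tt N58558 (iv7 F337343)))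
theorem Q47151 : ∀ i, i < 47151 → P i := stepQ 47150 Q47150 (allL N47150 (tt N51673 (iv1 F358101)) (tt N66685 (iv0 F337360)) (tt N81029 (iv2 F273057)) (tt N24635 F128370) (tt N46908 F346350) (tt N24634 (iv5 D83293)) (tt N81030 D174265) (tt N81031 D174266))
theorem Q47152 : ∀ i, i < 47152 → P i := stepQ 47151 Q47151 (allL N47151 (tt N81028 (iv1 F343705)) (tt N55554 (iv0 F343695)) (tt N58558 (iv2 F337342)) (tt N24636 F128371) (tt N80933 (iv4 F272493)) (tt N81031 (iv5 F273061)) (tt N58556 (iv6 F325259)) (tt N24634 (iv7 D83294)))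
theorem Q47153 : ∀ i, i < 47153 → P i := stepQ 47152 Q47152 (allL N47152 (tt N58581 (iv1 F326420)) (tt N24635 (iv0 D83295)) (tt N80789 F271621) (tt N29433 (iv3 F358394)) (tt N80981 (iv4 F272920)) (tt N46250 F303295) (tt N29431 (iv6 F358395)) (tt N80790 (iv7 F271625)))
theorem Q47154 : ∀ i, i < 47154 → P i := stepQ 47153 Q47153 (allL N47153 (tt N24635 (iv1 D83296)) (tt N58581 (iv0 F326419)) (tt N80790 F271627) (tt N81032 D174270) (tt N80975 (iv4 F272897)) (tt N59716 (iv5 F325193)) (tt N81033 D174271) (tt N80789 F271622))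
theorem Q47155 : ∀ i, i < 47155 → P i := stepQ 47154 Q47154 (allL N47154 (tt N64577 (iv1 F346345)) (tt N80998 F272949) (tt N80791 (iv2 F271628)) (tt N46916 (iv3 F346348)) (tt N24635 (iv4 D83297)) (tt N80782 (iv5 F271576)) (tt N81034 D174273) (tt N80781 F271573))
theorem Q47156 : ∀ i, i < 47156 → P i := stepQ 47155 Q47155 (allL N47155 (tt N81035 D174274) (tt N81036 D174275) (tt N80792 (iv2 F271631)) (tt N81030 (iv3 F273058)) (tt N81034 (iv4 F273064)) (tt N44699 F128372) (tt N24635 (iv6 D83298)) (tt N81037 D174276))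
theorem Q47157 : ∀ i, i < 47157 → P i := stepQ 47156 Q47156 (allL N47156 (tt N80790 (iv1 F271624)) (tt N80789 F271623) (tt N58581 (iv2 F326421)) (tt N81031 (iv3 F273060)) (tt N80781 (iv4 F271572)) (tt N24636 F128373) (tt N81038 D174277) (tt N24635 (iv7 D83299)))
theorem Q47158 : ∀ i, i < 47158 → P i := stepQ 47157 Q47157 (allL N47157 (tt N24749 (iv1 F128381)) (tt N33926 F128380) (tt N24637 (iv2 D83301)) (tt N24641 F128376) (tt N45648 F128377) (tt N24727 F128378) (tt N81039 D174279) (tt N43189 F128379))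
theorem Q47159 : ∀ i, i < 47159 → P i := stepQ 47158 Q47158 (allL N47158 (tt N80767 (iv1 F307887)) (tt N81040 D174281) (tt N81039 (iv2 F273067)) (tt N24638 F128382) (tt N24880 F300343) (tt N75441 (iv5 F334578)) (tt N24637 (iv6 D83302)) (tt N45542 (iv7 F301947)))
theorem Q47160 : ∀ i, i < 47160 → P i := stepQ 47159 Q47159 (allL N47159 (tt N62596 F324824) (tt N44379 F324825) (tt N24646 F128384) (tt N75441 (iv3 F334577)) (tt N31112 F324826) (tt N24638 (iv5 D83303)) (tt N67925 (iv6 F304928)) (tt N45543 (iv7 F301949)))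
theorem Q47161 : ∀ i, i < 47161 → P i := stepQ 47160 Q47160 (allL N47160 (tt N79721 (iv1 F323691)) (tt N24861 (iv0 F310246)) (tt N79727 (iv2 F323686)) (tt N28793 F128408) (tt N80845 (iv4 F271881)) (tt N79755 (iv5 F341922)) (tt N24639 (iv6 D83310)) (tt N79726 (iv7 F323684)))
theorem Q47162 : ∀ i, i < 47162 → P i := stepQ 47161 Q47161 (allL N47161 (tt N43177 F128412) (tt N45551 (iv0 F128413)) (tt N28789 F128409) (tt N24640 (iv3 D83311)) (tt N34999 F128410) (tt N46587 F128411) (tt N24756 (iv6 F308399)) (tt N76106 (iv7 F303982)))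
theorem Q47163 : ∀ i, i < 47163 → P i := stepQ 47162 Q47162 (allL N47162 (tt N45542 (iv1 F315771)) (tt N81039 (iv0 F315772)) (tt N80767 (iv2 F271467)) (tt N24756 F310548) (tt N80295 (iv4 F262995)) (tt N41988 F334574) (tt N24640 (iv6 D83312)) (tt N81040 (iv7 F345659)))
theorem Q47164 : ∀ i, i < 47164 → P i := stepQ 47163 Q47163 (allL N47163 (tt N63594 (iv1 F303174)) (tt N44021 (iv0 F303171)) (tt N24643 F128414) (tt N81039 (iv3 F273068)) (tt N24653 F128415) (tt N81041 D174298) (tt N24641 (iv6 D83313)) (tt N81042 D174299))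
theorem Q47165 : ∀ i, i < 47165 → P i := stepQ 47164 Q47164 (allL N47164 (tt N38051 (iv1 F308028)) (tt N68454 (iv0 F308029)) (tt N80845 (iv2 F271879)) (tt N24644 F128416) (tt N79727 (iv4 F323687)) (tt N66960 (iv5 F342767)) (tt N24642 (iv6 D83314)) (tt N67922 (iv7 F308030)))
theorem Q47166 : ∀ i, i < 47166 → P i := stepQ 47165 Q47165 (allL N47165 (tt N81042 (iv1 F273101)) (tt N24643 (iv0 D83315)) (tt N63594 (iv2 F305075)) (tt N33928 (iv3 F305077)) (tt N76907 (iv4 F305078)) (tt N36448 (iv5 F308842)) (tt N33926 F307017) (tt N44021 (iv7 F305080)))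
theorem Q47167 : ∀ i, i < 47167 → P i := stepQ 47166 Q47166 (allL N47166 (tt N24643 (iv1 D83316)) (tt N81042 F273100) (tt N44021 (iv2 F305079)) (tt N63598 (iv3 F305081)) (tt N67920 (iv4 F307619)) (tt N81043 D174311) (tt N67919 (iv6 F311014)) (tt N63594 (iv7 F305076)))
theorem Q47168 : ∀ i, i < 47168 → P i := stepQ 47167 Q47167 (allL N47167 (tt N81044 D174313) (tt N81045 D174314) (tt N81041 (iv2 F273096)) (tt N24646 F128417) (tt N81046 D174315) (tt N24643 (iv5 D83317)) (tt N66960 (iv6 F342768)) (tt N81047 D174316))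
theorem Q47169 : ∀ i, i < 47169 → P i := stepQ 47168 Q47168 (allL N47168 (tt N44021 (iv1 F303172)) (tt N63594 (iv0 F303173)) (tt N81042 (iv2 F273097)) (tt N24647 F128418) (tt N24660 F128419) (tt N81047 (iv5 F273111)) (tt N45613 F128420) (tt N24643 (iv7 D83318)))
theorem Q47170 : ∀ i, i < 47170 → P i := stepQ 47169 Q47169 (allL N47169 (tt N78709 (iv1 F324710)) (tt N24826 (iv0 F312328)) (tt N67925 F306084) (tt N66960 (iv3 F342765)) (tt N40186 (iv4 F325888)) (tt N24644 (iv5 D83321)) (tt N24646 F128421) (tt N67923 (iv7 F308031)))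
theorem Q47171 : ∀ i, i < 47171 → P i := stepQ 47170 Q47170 (allL N47170 (tt N45545 F302736) (tt N45544 F302737) (tt N34728 F128429) (tt N24792 F314189) (tt N40197 F320837) (tt N24645 (iv5 D83327)) (tt N41680 (iv6 F318679)) (tt N34715 F302738))
theorem Q47172 : ∀ i, i < 47172 → P i := stepQ 47171 Q47171 (allL N47171 (tt N44379 F324828) (tt N62596 F324829) (tt N45543 (iv2 F301948)) (tt N81047 (iv3 F273110)) (tt N40192 F324830) (tt N24647 F128434) (tt N75437 (iv6 F334585)) (tt N24646 (iv7 D83331)))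
theorem Q47173 : ∀ i, i < 47173 → P i := stepQ 47172 Q47172 (allL N47172 (tt N24649 (iv1 D83351)) (tt N25067 F128470) (tt N28761 F128473) (tt N46358 (iv3 F128472)) (tt N47835 (iv4 F129890)) (tt N46357 F128474) (tt N67017 (iv6 F305618)) (tt N28762 F128471))
theorem Q47174 : ∀ i, i < 47174 → P i := stepQ 47173 Q47173 (allL N47173 (tt N81048 D174376) (tt N81049 D174377) (tt N63533 (iv2 F187914)) (tt N24650 F128475) (tt N26125 F128476) (tt N47044 F342663) (tt N24649 (iv6 D83352)) (tt N80905 (iv7 F272219)))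
theorem Q47175 : ∀ i, i < 47175 → P i := stepQ 47174 Q47174 (allL N47174 (tt N81050 D174379) (tt N36571 F319547) (tt N69859 (iv2 F336889)) (tt N47044 F342661) (tt N43738 (iv4 F347340)) (tt N24650 (iv5 D83355)) (tt N80754 (iv6 F271054)) (tt N80906 (iv7 F272221)))
theorem Q47176 : ∀ i, i < 47176 → P i := stepQ 47175 Q47175 (allL N47175 (tt N24651 (iv1 D83358)) (tt N80647 F270138) (tt N24880 F270139) (tt N68061 (iv3 F328135)) (tt N81039 (iv4 F303092)) (tt N68060 (iv5 F346777)) (tt N45648 F301371) (tt N77597 (iv7 F328943)))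
theorem Q47177 : ∀ i, i < 47177 → P i := stepQ 47176 Q47176 (allL N47176 (tt N54455 (iv1 F339824)) (tt N66246 (iv0 F346798)) (tt N80756 (iv2 F271056)) (tt N63535 (iv3 F187923)) (tt N54976 (iv4 F339825)) (tt N24651 (iv5 D83359)) (tt N80755 (iv6 F271055)) (tt N81051 D174387))
theorem Q47178 : ∀ i, i < 47178 → P i := stepQ 47177 Q47177 (allL N47177 (tt N24880 F184759) (tt N77597 (iv0 F328939)) (tt N80647 F270134) (tt N63518 F187792) (tt N63742 (iv4 F189170)) (tt N81051 (iv5 F273233)) (tt N24864 F155179) (tt N24651 (iv7 D83360)))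
theorem Q47179 : ∀ i, i < 47179 → P i := stepQ 47178 Q47178 (allL N47178 (tt N66968 (iv1 F314434)) (tt N69319 (iv0 F331993)) (tt N24656 F128477) (tt N33938 F128478) (tt N44738 F128479) (tt N81052 D174390) (tt N24652 (iv6 D83361)) (tt N81053 D174391))
theorem Q47180 : ∀ i, i < 47180 → P i := stepQ 47179 Q47179 (allL N47179 (tt N24660 (iv1 F128483)) (tt N24653 (iv0 D83362)) (tt N24657 F188759) (tt N25084 F187965) (tt N63698 (iv4 F188757)) (tt N77449 (iv5 F343431)) (tt N45647 F301507) (tt N24658 (iv7 F188760)))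
theorem Q47181 : ∀ i, i < 47181 → P i := stepQ 47180 Q47180 (allL N47180 (tt N24653 (iv1 D83363)) (tt N24660 F128480) (tt N24658 F188761) (tt N67016 (iv3 F304217)) (tt N80709 (iv4 F313110)) (tt N81054 D174395) (tt N47595 F275857) (tt N24657 F188762))
theorem Q47182 : ∀ i, i < 47182 → P i := stepQ 47181 Q47181 (allL N47181 (tt N51219 (iv1 F358737)) (tt N81055 D174398) (tt N24659 F128481) (tt N77592 (iv3 F243910)) (tt N81056 D174399) (tt N24653 (iv5 D83364)) (tt N81052 (iv6 F273237)) (tt N81057 D174400))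
theorem Q47183 : ∀ i, i < 47183 → P i := stepQ 47182 Q47182 (allL N47182 (tt N24658 (iv1 F128484)) (tt N24657 F128485) (tt N24660 F128482) (tt N77593 (iv3 F243913)) (tt N81042 (iv4 F273098)) (tt N81057 (iv5 F273268)) (tt N80771 (iv6 F271503)) (tt N24653 (iv7 D83365)))
theorem Q47184 : ∀ i, i < 47184 → P i := stepQ 47183 Q47183 (allL N47183 (tt N43322 F316780) (tt N80954 (iv0 F344386)) (tt N46880 F128495) (tt N46816 F307470) (tt N78543 (iv4 F249087)) (tt N81058 D174404) (tt N24654 (iv6 D83367)) (tt N46811 (iv7 F309528)))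
theorem Q47185 : ∀ i, i < 47185 → P i := stepQ 47184 Q47184 (allL N47184 (tt N81053 (iv1 F273244)) (tt N24656 (iv0 D83369)) (tt N66968 (iv2 F362953)) (tt N53752 (iv3 F305516)) (tt N66909 (iv4 F332027)) (tt N77327 (iv5 F332024)) (tt N53750 (iv6 F343508)) (tt N69319 (iv7 F332026)))
theorem Q47186 : ∀ i, i < 47186 → P i := stepQ 47185 Q47185 (allL N47185 (tt N24656 (iv1 D83370)) (tt N81053 F273243) (tt N69319 (iv2 F332025)) (tt N46399 F319019) (tt N66969 (iv4 F332028)) (tt N64689 (iv5 F332021)) (tt N81059 D174419) (tt N66968 (iv7 F362954)))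
theorem Q47187 : ∀ i, i < 47187 → P i := stepQ 47186 Q47186 (allL N47186 (tt N75951 (iv1 F340230)) (tt N81060 D174421) (tt N81052 (iv2 F273235)) (tt N24663 F128498) (tt N43705 F332004) (tt N24656 (iv5 D83371)) (tt N24659 F128499) (tt N81061 D174423))
theorem Q47188 : ∀ i, i < 47188 → P i := stepQ 47187 Q47187 (allL N47187 (tt N69319 (iv1 F331994)) (tt N66968 (iv0 F314433)) (tt N81053 (iv2 F273238)) (tt N24664 F128500) (tt N46879 F128501) (tt N81061 (iv5 F273299)) (tt N69299 (iv6 F316726)) (tt N24656 (iv7 D83372)))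
theorem Q47189 : ∀ i, i < 47189 → P i := stepQ 47188 Q47188 (allL N47188 (tt N43811 (iv1 F309615)) (tt N67017 F307640) (tt N63536 F188773) (tt N24657 (iv3 D83374)) (tt N28849 (iv4 F311721)) (tt N81062 D174427) (tt N35059 F305788) (tt N67016 (iv7 F304219)))
theorem Q47190 : ∀ i, i < 47190 → P i := stepQ 47189 Q47189 (allL N47189 (tt N52953 (iv1 F319574)) (tt N77585 (iv0 F343389)) (tt N63698 F188774) (tt N28850 F314173) (tt N24657 (iv4 D83375)) (tt N43418 (iv5 F308263)) (tt N43419 F306315) (tt N80709 F314174))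
theorem Q47191 : ∀ i, i < 47191 → P i := stepQ 47190 Q47190 (allL N47190 (tt N81063 D174434) (tt N81064 D174435) (tt N77449 (iv2 F343429)) (tt N81062 (iv3 F273307)) (tt N81065 D174436) (tt N24657 (iv5 D83376)) (tt N77179 (iv6 F354165)) (tt N81054 (iv7 F273255)))
theorem Q47192 : ∀ i, i < 47192 → P i := stepQ 47191 Q47191 (allL N47191 (tt N77585 (iv1 F343390)) (tt N52953 (iv0 F319573)) (tt N80709 (iv2 F313109)) (tt N63691 (iv3 F188692)) (tt N24658 (iv4 D83380)) (tt N66993 (iv5 F348692)) (tt N69261 (iv6 F320103)) (tt N63698 (iv7 F188758)))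
theorem Q47193 : ∀ i, i < 47193 → P i := stepQ 47192 Q47192 (allL N47192 (tt N81064 (iv1 F273315)) (tt N81063 F273314) (tt N81054 (iv2 F273254)) (tt N63539 F188771) (tt N81066 D174442) (tt N24658 (iv5 D83381)) (tt N81067 D174443) (tt N77449 (iv7 F343432)))
theorem Q47194 : ∀ i, i < 47194 → P i := stepQ 47193 Q47193 (allL N47193 (tt N47027 F273258) (tt N38603 F317943) (tt N47595 (iv2 F275855)) (tt N36957 F317944) (tt N69261 (iv4 F320102)) (tt N36955 (iv5 F320105)) (tt N24658 (iv6 D83382)) (tt N47596 F275854))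
theorem Q47195 : ∀ i, i < 47195 → P i := stepQ 47194 Q47194 (allL N47194 (tt N81057 (iv1 F273271)) (tt N24659 (iv0 D83383)) (tt N51219 F358740) (tt N81068 D174447) (tt N48951 (iv4 F358741)) (tt N81069 D174449) (tt N29177 (iv6 F358742)) (tt N81055 (iv7 F273329)))
theorem Q47196 : ∀ i, i < 47196 → P i := stepQ 47195 Q47195 (allL N47195 (tt N24659 (iv1 D83384)) (tt N81057 F273270) (tt N81055 (iv2 F273328)) (tt N63540 (iv3 F273327)) (tt N51223 (iv4 F358752)) (tt N81070 D174454) (tt N81071 D174455) (tt N51219 (iv7 F358739)))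
theorem Q47197 : ∀ i, i < 47197 → P i := stepQ 47196 Q47196 (allL N47196 (tt N48938 F358783) (tt N81072 D174457) (tt N81056 (iv2 F273266)) (tt N81073 D174458) (tt N24659 (iv4 D83385)) (tt N81074 D174459) (tt N43705 F332005) (tt N81075 D174460))
theorem Q47198 : ∀ i, i < 47198 → P i := stepQ 47197 Q47197 (allL N47197 (tt N81055 (iv1 F273264)) (tt N51219 (iv0 F358736)) (tt N81057 (iv2 F273267)) (tt N24672 F128504) (tt N81075 (iv4 F273334)) (tt N24660 F128505) (tt N81076 D174461) (tt N24659 (iv7 D83386)))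
theorem Q47199 : ∀ i, i < 47199 → P i := stepQ 47198 Q47198 (allL N47198 (tt N75842 F315266) (tt N34765 (iv0 F155518)) (tt N62140 (iv2 F351487)) (tt N24661 (iv3 D83388)) (tt N37616 (iv4 F317489)) (tt N58807 (iv5 F350645)) (tt N60403 (iv6 F326656)) (tt N53573 (iv7 F274987)))
theorem Q47200 : ∀ i, i < 47200 → P i := stepQ 47199 Q47199 (allL N47199 (tt N54378 (iv1 F156778)) (tt N81077 D174473) (tt N53560 (iv2 F274998)) (tt N58807 (iv3 F350644)) (tt N81078 D174474) (tt N24661 (iv5 D83390)) (tt N58806 (iv6 F327893)) (tt N53574 (iv7 F274989)))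
theorem Q47201 : ∀ i, i < 47201 → P i := stepQ 47200 Q47200 (allL N47200 (tt N49647 (iv1 F273365)) (tt N81079 D174478) (tt N53561 (iv2 F275000)) (tt N60403 (iv3 F326655)) (tt N53185 F155516) (tt N46844 F128507) (tt N24661 (iv6 D83391)) (tt N81080 D174479))
theorem Q47202 : ∀ i, i < 47202 → P i := stepQ 47201 Q47201 (allL N47201 (tt N80938 (iv1 F305465)) (tt N81081 D174482) (tt N81082 D174483) (tt N24662 (iv3 D83393)) (tt N69303 (iv4 F341903)) (tt N81083 D174485) (tt N81084 D174486) (tt N53559 (iv7 F274995)))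
theorem Q47203 : ∀ i, i < 47203 → P i := stepQ 47202 Q47202 (allL N47202 (tt N81077 (iv1 F273355)) (tt N54378 F273360) (tt N53574 (iv2 F274988)) (tt N81083 (iv3 F273373)) (tt N81085 D174487) (tt N24662 (iv5 D83395)) (tt N81086 D174488) (tt N53560 (iv7 F274999)))
theorem Q47204 : ∀ i, i < 47204 → P i := stepQ 47203 Q47203 (allL N47203 (tt N81087 D174489) (tt N80953 (iv0 F338069)) (tt N53575 (iv2 F274984)) (tt N81084 (iv3 F273374)) (tt N53188 F155513) (tt N81088 D174491) (tt N24662 (iv6 D83396)) (tt N81089 D174492))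
theorem Q47205 : ∀ i, i < 47205 → P i := stepQ 47204 Q47204 (allL N47204 (tt N80799 (iv1 F271689)) (tt N24663 (iv0 D83397)) (tt N80797 (iv2 F271680)) (tt N79405 (iv3 F343416)) (tt N81090 D174494) (tt N79404 (iv5 F310445)) (tt N81091 D174495) (tt N80764 (iv7 F271681)))
theorem Q47206 : ∀ i, i < 47206 → P i := stepQ 47205 Q47205 (allL N47205 (tt N24663 (iv1 D83398)) (tt N80799 F271688) (tt N80764 (iv2 F271114)) (tt N81092 D174496) (tt N81093 D174497) (tt N52955 (iv5 F184678)) (tt N81094 D174498) (tt N80797 F271678))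
theorem Q47207 : ∀ i, i < 47207 → P i := stepQ 47206 Q47206 (allL N47206 (tt N81095 D174499) (tt N81096 D174500) (tt N80798 (iv2 F271683)) (tt N81097 D174501) (tt N24663 (iv4 D83399)) (tt N81098 D174502) (tt N24671 F128509) (tt N81099 D174503))
theorem Q47208 : ∀ i, i < 47208 → P i := stepQ 47207 Q47207 (allL N47207 (tt N80764 (iv1 F271116)) (tt N80797 F271679) (tt N80799 (iv2 F271685)) (tt N81061 (iv3 F273298)) (tt N81099 (iv4 F273382)) (tt N24664 F128510) (tt N81100 D174504) (tt N24663 (iv7 D83400)))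
theorem Q47209 : ∀ i, i < 47209 → P i := stepQ 47208 Q47208 (allL N47208 (tt N66916 (iv1 F300871)) (tt N24665 (iv0 D83401)) (tt N66914 (iv2 F300864)) (tt N25087 F131629) (tt N77622 (iv4 F244144)) (tt N81101 D174505) (tt N63554 (iv6 F188038)) (tt N25081 F131630))
theorem Q47210 : ∀ i, i < 47210 → P i := stepQ 47209 Q47209 (allL N47209 (tt N81102 D174508) (tt N81103 D174509) (tt N66915 (iv2 F300869)) (tt N24666 F128511) (tt N81104 D174510) (tt N24665 (iv5 D83404)) (tt N81105 D174511) (tt N80800 (iv7 F271703)))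
theorem Q47211 : ∀ i, i < 47211 → P i := stepQ 47210 Q47210 (allL N47210 (tt N24667 (iv1 F128518)) (tt N24666 (iv0 D83407)) (tt N45654 (iv2 F300604)) (tt N81106 D174514) (tt N74573 (iv4 F330946)) (tt N52817 (iv5 F151526)) (tt N81107 D174516) (tt N45655 (iv7 F300609)))
theorem Q47212 : ∀ i, i < 47212 → P i := stepQ 47211 Q47211 (allL N47211 (tt N24666 (iv1 D83408)) (tt N24667 F128519) (tt N45655 (iv2 F300608)) (tt N81064 (iv3 F354170)) (tt N74572 (iv4 F330944)) (tt N46438 (iv5 F298802)) (tt N81108 D174519) (tt N45654 (iv7 F300606)))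
theorem Q47213 : ∀ i, i < 47213 → P i := stepQ 47212 Q47212 (allL N47212 (tt N81109 D174520) (tt N81110 D174521) (tt N45656 (iv2 F300610)) (tt N81111 D174522) (tt N24666 (iv4 D83409)) (tt N81112 D174523) (tt N81113 D174524) (tt N80801 (iv7 F271705)))
theorem Q47214 : ∀ i, i < 47214 → P i := stepQ 47213 Q47213 (allL N47213 (tt N81114 D174525) (tt N81115 D174526) (tt N45652 (iv2 F298876)) (tt N81105 (iv3 F273388)) (tt N81113 (iv4 F273405)) (tt N45642 F298302) (tt N24666 (iv6 D83410)) (tt N81116 D174527))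
theorem Q47215 : ∀ i, i < 47215 → P i := stepQ 47214 Q47214 (allL N47214 (tt N81110 (iv1 F273401)) (tt N81109 F273400) (tt N80801 (iv2 F271704)) (tt N74672 (iv3 F362967)) (tt N24667 (iv4 D83417)) (tt N81117 D174548) (tt N74670 (iv6 F343454)) (tt N45656 F303402))
theorem Q47216 : ∀ i, i < 47216 → P i := stepQ 47215 Q47215 (allL N47215 (tt N74569 (iv1 F343456)) (tt N74571 (iv0 F343457)) (tt N80802 (iv2 F271706)) (tt N39402 (iv3 F343458)) (tt N74670 F343455) (tt N78624 (iv5 F249924)) (tt N24667 (iv6 D83418)) (tt N81118 D174552))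
theorem Q47217 : ∀ i, i < 47217 → P i := stepQ 47216 Q47216 (allL N47216 (tt N81101 (iv1 F337056)) (tt N79407 (iv0 F337060)) (tt N77753 (iv2 F347887)) (tt N24669 (iv3 D83419)) (tt N81119 D174556) (tt N81120 D174557) (tt N34385 F347860) (tt N60088 (iv7 F350650)))
theorem Q47218 : ∀ i, i < 47218 → P i := stepQ 47217 Q47217 (allL N47217 (tt N47326 (iv1 F128669)) (tt N46960 F128666) (tt N47322 F128663) (tt N81121 D174559) (tt N24669 (iv4 D83420)) (tt N81122 D174560) (tt N81123 D174561) (tt N47323 F128662))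
theorem Q47219 : ∀ i, i < 47219 → P i := stepQ 47218 Q47218 (allL N47218 (tt N44816 F300964) (tt N44840 F128530) (tt N46850 F128527) (tt N81120 (iv3 F273420)) (tt N28015 F128529) (tt N24669 (iv5 D83421)) (tt N44820 F128531) (tt N28014 F128528))
theorem Q47220 : ∀ i, i < 47220 → P i := stepQ 47219 Q47219 (allL N47219 (tt N81124 D174562) (tt N81125 D174563) (tt N80803 (iv2 F271709)) (tt N34385 F347859) (tt N81123 (iv4 F273426)) (tt N81126 D174564) (tt N24669 (iv6 D83422)) (tt N77751 (iv7 F347891)))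
theorem Q47221 : ∀ i, i < 47221 → P i := stepQ 47220 Q47220 (allL N47220 (tt N66917 (iv1 F305713)) (tt N43812 (iv0 F305714)) (tt N67012 (iv2 F305715)) (tt N24670 (iv3 D83423)) (tt N81127 D174569) (tt N42899 F303650) (tt N66459 (iv6 F347146)) (tt N67013 (iv7 F304226)))
theorem Q47222 : ∀ i, i < 47222 → P i := stepQ 47221 Q47221 (allL N47221 (tt N46960 F128535) (tt N47326 F128668) (tt N47323 F128661) (tt N81128 D174571) (tt N24670 (iv4 D83424)) (tt N81129 D174572) (tt N81130 D174573) (tt N47322 (iv7 F128665)))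
theorem Q47223 : ∀ i, i < 47223 → P i := stepQ 47222 Q47222 (allL N47222 (tt N60392 (iv1 F362990)) (tt N60387 (iv0 F355854)) (tt N60087 (iv2 F328393)) (tt N66459 (iv3 F347144)) (tt N81130 (iv4 F273433)) (tt N46849 F128536) (tt N24670 (iv6 D83425)) (tt N81131 D174576))
theorem Q47224 : ∀ i, i < 47224 → P i := stepQ 47223 Q47223 (allL N47223 (tt N80808 (iv1 F271730)) (tt N24671 (iv0 D83426)) (tt N80804 F271716) (tt N81132 D174577) (tt N24723 (iv4 F128564)) (tt N81133 D174578) (tt N67107 (iv6 F339206)) (tt N80805 (iv7 F271720)))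
theorem Q47225 : ∀ i, i < 47225 → P i := stepQ 47224 Q47224 (allL N47224 (tt N24671 (iv1 D83427)) (tt N80808 F271729) (tt N80805 F271722) (tt N59144 (iv3 F364877)) (tt N24724 F128537) (tt N81134 D174581) (tt N59142 (iv6 F332391)) (tt N80804 F271717))
theorem Q47226 : ∀ i, i < 47226 → P i := stepQ 47225 Q47225 (allL N47225 (tt N81135 D174583) (tt N81136 D174584) (tt N81137 D174585) (tt N24671 (iv3 D83428)) (tt N81073 (iv4 F273333)) (tt N81138 D174586) (tt N81097 (iv6 F273381)) (tt N81139 D174587))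
theorem Q47227 : ∀ i, i < 47227 → P i := stepQ 47226 Q47226 (allL N47226 (tt N81140 D174588) (tt N74574 (iv0 F330949)) (tt N80807 (iv2 F271723)) (tt N81138 (iv3 F273439)) (tt N80819 (iv4 F271779)) (tt N24671 (iv5 D83429)) (tt N81141 D174590) (tt N80817 F271775))
theorem Q47228 : ∀ i, i < 47228 → P i := stepQ 47227 Q47227 (allL N47227 (tt N80805 (iv1 F271719)) (tt N80804 F271718) (tt N80808 (iv2 F271726)) (tt N81139 (iv3 F273440)) (tt N24672 F128538) (tt N80817 (iv5 F271774)) (tt N57141 (iv6 F402001)) (tt N24671 (iv7 D83430)))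
theorem Q47229 : ∀ i, i < 47229 → P i := stepQ 47228 Q47228 (allL N47228 (tt N81142 D174592) (tt N81143 D174593) (tt N80809 (iv2 F271731)) (tt N81076 (iv3 F273335)) (tt N57141 (iv4 F401999)) (tt N80783 (iv5 F271580)) (tt N24672 (iv6 D83431)) (tt N81100 (iv7 F273383)))
theorem Q47230 : ∀ i, i < 47230 → P i := stepQ 47229 Q47229 (allL N47229 (tt N24678 (iv1 F128539)) (tt N24673 (iv0 D83432)) (tt N65141 F199343) (tt N47545 (iv3 F331871)) (tt N79454 (iv4 F303391)) (tt N64271 (iv5 F301154)) (tt N47541 F331867) (tt N65140 F199339))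
theorem Q47231 : ∀ i, i < 47231 → P i := stepQ 47230 Q47230 (allL N47230 (tt N24673 (iv1 D83433)) (tt N24678 F128540) (tt N65140 F199337) (tt N48060 (iv3 F327870)) (tt N79455 (iv4 F303395)) (tt N64272 (iv5 F298350)) (tt N48059 F327350) (tt N65141 (iv7 F199341)))
theorem Q47232 : ∀ i, i < 47232 → P i := stepQ 47231 Q47231 (allL N47231 (tt N74573 (iv1 F330945)) (tt N74572 (iv0 F330943)) (tt N74575 (iv2 F330954)) (tt N81144 D174599) (tt N24673 (iv4 D83434)) (tt N81140 (iv5 F273441)) (tt N81145 D174600) (tt N65142 (iv7 F199345)))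
theorem Q47233 : ∀ i, i < 47233 → P i := stepQ 47232 Q47232 (allL N47232 (tt N81146 D174601) (tt N81147 D174602) (tt N80536 (iv2 F298390)) (tt N77571 (iv3 F243680)) (tt N81145 (iv4 F273456)) (tt N78578 (iv5 F249568)) (tt N24673 (iv6 D83435)) (tt N81148 D174603))
theorem Q47234 : ∀ i, i < 47234 → P i := stepQ 47233 Q47233 (allL N47233 (tt N45670 (iv1 F300453)) (tt N45645 F298312) (tt N45666 (iv2 F298763)) (tt N52234 (iv3 F327395)) (tt N24674 (iv4 D83438)) (tt N81149 D174606) (tt N79871 (iv6 F258673)) (tt N45667 (iv7 F298769)))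
theorem Q47235 : ∀ i, i < 47235 → P i := stepQ 47234 Q47234 (allL N47234 (tt N45645 F298313) (tt N45670 (iv0 F300452)) (tt N45667 (iv2 F298767)) (tt N78163 (iv3 F326026)) (tt N24675 (iv4 D83440)) (tt N81150 D174608) (tt N24886 F128545) (tt N45666 (iv7 F298765)))
theorem Q47236 : ∀ i, i < 47236 → P i := stepQ 47235 Q47235 (allL N47235 (tt N55567 (iv1 F329775)) (tt N29410 F329648) (tt N55566 (iv2 F352056)) (tt N24676 (iv3 D83443)) (tt N25041 F128548) (tt N81151 D174617) (tt N78489 (iv6 F298024)) (tt N55565 (iv7 F352055)))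
theorem Q47237 : ∀ i, i < 47237 → P i := stepQ 47236 Q47236 (allL N47236 (tt N79464 (iv1 F302206)) (tt N49348 (iv0 F136141)) (tt N80539 (iv2 F298773)) (tt N81151 (iv3 F273474)) (tt N74574 (iv4 F330951)) (tt N24676 (iv5 D83444)) (tt N81152 D174620) (tt N65146 (iv7 F199386)))
theorem Q47238 : ∀ i, i < 47238 → P i := stepQ 47237 Q47237 (allL N47237 (tt N80870 (iv1 F354618)) (tt N38040 (iv0 F315282)) (tt N80853 (iv2 F317282)) (tt N24679 F128554) (tt N25228 (iv4 F301583)) (tt N37351 (iv5 F315308)) (tt N24677 (iv6 D83451)) (tt N47571 (iv7 F129092)))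
theorem Q47239 : ∀ i, i < 47239 → P i := stepQ 47238 Q47238 (allL N47238 (tt N81153 D174646) (tt N81154 D174647) (tt N81015 (iv2 F353295)) (tt N24680 (iv3 D83454)) (tt N64608 (iv4 F197885)) (tt N81155 D174649) (tt N47140 F128555) (tt N80538 (iv7 F298770)))
theorem Q47240 : ∀ i, i < 47240 → P i := stepQ 47239 Q47239 (allL N47239 (tt N49348 (iv1 F136142)) (tt N79464 (iv0 F302205)) (tt N65146 (iv2 F199385)) (tt N81155 (iv3 F273500)) (tt N81140 (iv4 F273442)) (tt N24680 (iv5 D83455)) (tt N81156 D174650) (tt N80539 (iv7 F298774)))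
theorem Q47241 : ∀ i, i < 47241 → P i := stepQ 47240 Q47240 (allL N47240 (tt N81157 D174652) (tt N81158 D174653) (tt N80811 (iv2 F271746)) (tt N80169 (iv3 F261983)) (tt N81134 (iv4 F273437)) (tt N24681 (iv5 D83457)) (tt N81159 D174654) (tt N65150 (iv7 F199396)))

end Cfsg.Agent.Helper17.ONTC
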