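import Cfsg.Agent.Helper17.ONTC.Fin17

set_option autoImplicit false
set_option linter.all false
set_option maxRecDepth 100000

noncomputable section

namespace Cfsg.Agent.Helper17.ONTC

theorem Q47242 : ∀ i, i < 47242 → P i := stepQ 47241 Q47241 (allL N47241 (tt N46444 F302425) (tt N44812 (iv0 F128565)) (tt N46871 F128560) (tt N77578 (iv3 F243738)) (tt N24682 (iv4 D83459)) (tt N24723 F128563) (tt N44801 F128561) (tt N34819 F128562))
theorem Q47243 : ∀ i, i < 47243 → P i := stepQ 47242 Q47242 (allL N47242 (tt N81160 D174660) (tt N71720 (iv0 F365989)) (tt N81161 D174662) (tt N24683 (iv3 D83461)) (tt N64611 (iv4 F197896)) (tt N81162 D174663) (tt N80920 (iv6 F302235)) (tt N80810 (iv7 F271745)))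
theorem Q47244 : ∀ i, i < 47244 → P i := stepQ 47243 Q47243 (allL N47243 (tt N81158 (iv1 F273507)) (tt N81157 F273504) (tt N65150 (iv2 F199395)) (tt N81162 (iv3 F273519)) (tt N81133 (iv4 F273435)) (tt N24683 (iv5 D83462)) (tt N81163 D174665) (tt N80811 (iv7 F271747)))
theorem Q47245 : ∀ i, i < 47245 → P i := stepQ 47244 Q47244 (allL N47244 (tt N81164 D174667) (tt N81165 D174668) (tt N81166 D174669) (tt N24684 (iv3 D83464)) (tt N60766 (iv4 F358212)) (tt N81167 D174670) (tt N59809 (iv6 F326390)) (tt N80814 (iv7 F271757)))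
theorem Q47246 : ∀ i, i < 47246 → P i := stepQ 47245 Q47245 (allL N47245 (tt N79472 (iv1 F301427)) (tt N79471 (iv0 F301424)) (tt N80813 (iv2 F271752)) (tt N81167 (iv3 F273523)) (tt N81129 (iv4 F273432)) (tt N24684 (iv5 D83465)) (tt N81168 D174674) (tt N80815 (iv7 F271759)))
theorem Q47247 : ∀ i, i < 47247 → P i := stepQ 47246 Q47246 (allL N47246 (tt N81169 D174678) (tt N81170 D174679) (tt N81171 D174680) (tt N24685 (iv3 D83467)) (tt N45713 (iv4 F302658)) (tt N81172 D174681) (tt N45693 (iv6 F304731)) (tt N80812 (iv7 F271751)))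
theorem Q47248 : ∀ i, i < 47248 → P i := stepQ 47247 Q47247 (allL N47247 (tt N79471 F302210) (tt N79472 F302211) (tt N80815 (iv2 F271758)) (tt N81172 (iv3 F273536)) (tt N81122 (iv4 F273425)) (tt N24685 (iv5 D83468)) (tt N81173 D174683) (tt N80813 (iv7 F271753)))
theorem Q47249 : ∀ i, i < 47249 → P i := stepQ 47248 Q47248 (allL N47248 (tt N24686 (iv1 D83471)) (tt N31079 F326040) (tt N31094 (iv2 F326925)) (tt N81174 D174692) (tt N32084 (iv4 F326926)) (tt N81175 D174694) (tt N59808 (iv6 F326927)) (tt N31045 (iv7 F326924)))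
theorem Q47250 : ∀ i, i < 47250 → P i := stepQ 47249 Q47249 (allL N47249 (tt N31045 F326035) (tt N31094 F326036) (tt N24686 (iv2 D83472)) (tt N51732 (iv3 F326712)) (tt N31038 F326037) (tt N81176 D174698) (tt N44705 F128575) (tt N31079 F326038))
theorem Q47251 : ∀ i, i < 47251 → P i := stepQ 47250 Q47250 (allL N47250 (tt N81177 D174699) (tt N81178 D174700) (tt N81176 (iv2 F273548)) (tt N24687 F128576) (tt N81179 D174701) (tt N24686 (iv5 D83473)) (tt N81180 D174702) (tt N31095 F326041))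
theorem Q47252 : ∀ i, i < 47252 → P i := stepQ 47251 Q47251 (allL N47251 (tt N80819 (iv1 F271782)) (tt N24687 (iv0 D83475)) (tt N45669 (iv2 F299371)) (tt N81181 D174705) (tt N81117 (iv4 F273416)) (tt N45645 F298314) (tt N81182 D174706) (tt N80816 (iv7 F271770)))
theorem Q47253 : ∀ i, i < 47253 → P i := stepQ 47252 Q47252 (allL N47252 (tt N24687 (iv1 D83476)) (tt N80819 F271781) (tt N80816 F271772) (tt N81183 D174707) (tt N81112 (iv4 F273403)) (tt N45670 F302247) (tt N81184 D174708) (tt N45669 F302248))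
theorem Q47254 : ∀ i, i < 47254 → P i := stepQ 47253 Q47253 (allL N47253 (tt N74574 (iv1 F330950)) (tt N81140 F273443) (tt N80817 (iv2 F271773)) (tt N81185 D174709) (tt N24687 (iv4 D83477)) (tt N80808 (iv5 F271728)) (tt N81186 D174710) (tt N80807 F271725))
theorem Q47255 : ∀ i, i < 47255 → P i := stepQ 47254 Q47254 (allL N47254 (tt N81187 D174711) (tt N81188 D174712) (tt N80818 (iv2 F271776)) (tt N81180 (iv3 F273549)) (tt N81186 (iv4 F273557)) (tt N44709 F128579) (tt N24687 (iv6 D83478)) (tt N81189 D174713))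
theorem Q47256 : ∀ i, i < 47256 → P i := stepQ 47255 Q47255 (allL N47255 (tt N80816 (iv1 F271769)) (tt N45669 F301423) (tt N80819 (iv2 F271778)) (tt N31095 F326133) (tt N80807 (iv4 F271724)) (tt N24688 F128580) (tt N81190 D174714) (tt N24687 (iv7 D83479)))
theorem Q47257 : ∀ i, i < 47257 → P i := stepQ 47256 Q47256 (allL N47256 (tt N63509 (iv1 F331919)) (tt N36530 F331901) (tt N63584 (iv2 F188199)) (tt N24692 F128583) (tt N77591 (iv4 F331903)) (tt N36120 F331925) (tt N24689 (iv6 D83481)) (tt N63619 (iv7 F331859)))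
theorem Q47258 : ∀ i, i < 47258 → P i := stepQ 47257 Q47257 (allL N47257 (tt N43658 (iv1 F331917)) (tt N43653 (iv0 F331918)) (tt N43655 (iv2 F331865)) (tt N52850 (iv3 F151707)) (tt N24692 F128584) (tt N81191 D174722) (tt N24690 (iv6 D83482)) (tt N43656 F331864))
theorem Q47259 : ∀ i, i < 47259 → P i := stepQ 47258 Q47258 (allL N47258 (tt N45538 F191367) (tt N28801 F311765) (tt N45552 F128585) (tt N43179 F128586) (tt N28831 (iv4 F308329)) (tt N80830 (iv5 F309557)) (tt N24691 (iv6 D83483)) (tt N45621 (iv7 F198060)))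
theorem Q47260 : ∀ i, i < 47260 → P i := stepQ 47259 Q47259 (allL N47259 (tt N64664 (iv1 F331907)) (tt N24692 (iv0 D83484)) (tt N24836 (iv2 F331911)) (tt N46142 (iv3 F331912)) (tt N54235 (iv4 F331913)) (tt N77687 (iv5 F344762)) (tt N44811 (iv6 F331915)) (tt N54248 (iv7 F331916)))
theorem Q47261 : ∀ i, i < 47261 → P i := stepQ 47260 Q47260 (allL N47260 (tt N76145 (iv1 F344757)) (tt N78617 (iv0 F344758)) (tt N80824 (iv2 F271810)) (tt N36120 F331924) (tt N59153 (iv4 F331928)) (tt N24692 (iv5 D83486)) (tt N80830 (iv6 F309558)) (tt N81192 D174738))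
theorem Q47262 : ∀ i, i < 47262 → P i := stepQ 47261 Q47261 (allL N47261 (tt N54248 (iv1 F331855)) (tt N24836 (iv0 F331856)) (tt N64664 (iv2 F331908)) (tt N63619 (iv3 F331857)) (tt N43656 (iv4 F331860)) (tt N81192 (iv5 F273570)) (tt N24802 F321530) (tt N24692 (iv7 D83487)))
theorem Q47263 : ∀ i, i < 47263 → P i := stepQ 47262 Q47262 (allL N47262 (tt N76106 (iv1 F303978)) (tt N28789 (iv0 F128592)) (tt N43177 F128588) (tt N24695 F128589) (tt N43908 F128591) (tt N24693 (iv5 D83488)) (tt N63596 (iv6 F302281)) (tt N45551 F128590))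
theorem Q47264 : ∀ i, i < 47264 → P i := stepQ 47263 Q47263 (allL N47263 (tt N53087 (iv1 F319022)) (tt N81193 D174745) (tt N80822 (iv2 F271796)) (tt N43103 F316652) (tt N24696 F128594) (tt N81194 D174746) (tt N24694 (iv6 D83490)) (tt N80889 (iv7 F319031)))
theorem Q47265 : ∀ i, i < 47265 → P i := stepQ 47264 Q47264 (allL N47264 (tt N24823 F321887) (tt N45412 F321888) (tt N80823 (iv2 F271799)) (tt N63824 (iv3 F314266)) (tt N81195 D174761) (tt N24696 (iv5 D83494)) (tt N78574 (iv6 F306605)) (tt N80890 (iv7 F319563)))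
theorem Q47266 : ∀ i, i < 47266 → P i := stepQ 47265 Q47265 (allL N47265 (tt N24704 (iv1 F128603)) (tt N24697 (iv0 D83496)) (tt N24701 (iv2 F273660)) (tt N77619 (iv3 F244135)) (tt N81196 D174764) (tt N44639 (iv5 F329144)) (tt N67954 (iv6 F333768)) (tt N24702 (iv7 F273666)))
theorem Q47267 : ∀ i, i < 47267 → P i := stepQ 47266 Q47266 (allL N47266 (tt N24697 (iv1 D83497)) (tt N24704 F128597) (tt N24702 F273667) (tt N63588 (iv3 F273679)) (tt N81197 D174768) (tt N52834 (iv5 F333785)) (tt N47054 F333796) (tt N24701 F273668))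
theorem Q47268 : ∀ i, i < 47268 → P i := stepQ 47267 Q47267 (allL N47267 (tt N24702 (iv1 F128604)) (tt N24701 F128605) (tt N24704 F128601) (tt N44933 F313490) (tt N53373 (iv4 F321038)) (tt N44932 (iv5 F315960)) (tt N79459 (iv6 F303408)) (tt N24697 (iv7 D83499)))
theorem Q47269 : ∀ i, i < 47269 → P i := stepQ 47268 Q47268 (allL N47268 (tt N54387 (iv1 F287096)) (tt N53387 (iv0 F287095)) (tt N53872 (iv2 F154850)) (tt N49304 (iv3 F135895)) (tt N47805 (iv4 F339167)) (tt N24698 (iv5 D83502)) (tt N53252 (iv6 F153212)) (tt N54333 (iv7 F324287)))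
theorem Q47270 : ∀ i, i < 47270 → P i := stepQ 47269 Q47269 (allL N47269 (tt N49548 (iv1 F136818)) (tt N52261 (iv0 F148312)) (tt N34847 F128607) (tt N28497 F128608) (tt N51738 (iv4 F147125)) (tt N24699 (iv5 D83504)) (tt N81198 D174785) (tt N45261 F128609))
theorem Q47271 : ∀ i, i < 47271 → P i := stepQ 47270 Q47270 (allL N47270 (tt N53133 (iv1 F304505)) (tt N28425 (iv0 F304506)) (tt N34848 F128610) (tt N28498 F128611) (tt N24700 F128612) (tt N81199 D174788) (tt N24699 (iv6 D83505)) (tt N81200 D174789))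
theorem Q47272 : ∀ i, i < 47272 → P i := stepQ 47271 Q47271 (allL N47271 (tt N45520 (iv1 F128619)) (tt N24700 (iv0 D83506)) (tt N45517 F234134) (tt N46093 F234132) (tt N49649 (iv4 F304534)) (tt N47437 (iv5 F305478)) (tt N61581 (iv6 F334797)) (tt N45518 (iv7 F234133)))
theorem Q47273 : ∀ i, i < 47273 → P i := stepQ 47272 Q47272 (allL N47272 (tt N78581 (iv1 F305497)) (tt N48300 F330861) (tt N45519 F128614) (tt N24707 F128615) (tt N67451 (iv4 F333035)) (tt N24700 (iv5 D83508)) (tt N24703 F128616) (tt N79729 (iv7 F322740)))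
theorem Q47274 : ∀ i, i < 47274 → P i := stepQ 47273 Q47273 (allL N47273 (tt N45518 (iv1 F128620)) (tt N45517 F128621) (tt N45520 F128617) (tt N24708 F128618) (tt N81200 (iv4 F273614)) (tt N79729 (iv5 F322739)) (tt N80298 (iv6 F263166)) (tt N24700 (iv7 D83509)))
theorem Q47275 : ∀ i, i < 47275 → P i := stepQ 47274 Q47274 (allL N47274 (tt N63590 F272356) (tt N46092 F272357) (tt N63587 (iv2 F273676)) (tt N24701 (iv3 D83511)) (tt N80910 (iv4 F272355)) (tt N81201 D174807) (tt N81202 D174808) (tt N63588 (iv7 F273681)))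
theorem Q47276 : ∀ i, i < 47276 → P i := stepQ 47275 Q47275 (allL N47275 (tt N43823 F339166) (tt N53080 (iv0 F342342)) (tt N81196 (iv2 F273661)) (tt N81203 D174812) (tt N24701 (iv4 D83512)) (tt N81204 D174813) (tt N81205 D174814) (tt N81197 F273684))
theorem Q47277 : ∀ i, i < 47277 → P i := stepQ 47276 Q47276 (allL N47276 (tt N44938 F334675) (tt N79224 F334676) (tt N44639 F329454) (tt N81201 (iv3 F273651)) (tt N81206 D174817) (tt N24701 (iv5 D83513)) (tt N35530 (iv6 F329652)) (tt N52834 (iv7 F333786)))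
theorem Q47278 : ∀ i, i < 47278 → P i := stepQ 47277 Q47277 (allL N47277 (tt N65402 (iv1 F334684)) (tt N64833 (iv0 F334682)) (tt N67954 (iv2 F333765)) (tt N81202 (iv3 F273652)) (tt N81205 (iv4 F273694)) (tt N48404 F328786) (tt N24701 (iv6 D83514)) (tt N67955 (iv7 F344933)))
theorem Q47279 : ∀ i, i < 47279 → P i := stepQ 47278 Q47278 (allL N47278 (tt N68549 (iv1 F333725)) (tt N80838 (iv0 F342340)) (tt N77620 F273655) (tt N24702 (iv3 D83516)) (tt N63863 (iv4 F309664)) (tt N81207 D174825) (tt N63862 (iv6 F356167)) (tt N77619 (iv7 F273659)))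
theorem Q47280 : ∀ i, i < 47280 → P i := stepQ 47279 Q47279 (allL N47279 (tt N53080 (iv1 F342343)) (tt N43823 F339165) (tt N81197 (iv2 F273687)) (tt N72064 (iv3 F339053)) (tt N24702 (iv4 D83517)) (tt N72062 (iv5 F346594)) (tt N81208 D174829) (tt N81196 (iv7 F273662)))
theorem Q47281 : ∀ i, i < 47281 → P i := stepQ 47280 Q47280 (allL N47280 (tt N79224 (iv1 F334673)) (tt N44938 (iv0 F334674)) (tt N52834 F333787) (tt N81207 (iv3 F273700)) (tt N81209 D174830) (tt N24702 (iv5 D83518)) (tt N44771 (iv6 F333788)) (tt N44639 F329455))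
theorem Q47282 : ∀ i, i < 47282 → P i := stepQ 47281 Q47281 (allL N47281 (tt N44809 (iv1 F333792)) (tt N44811 (iv0 F333793)) (tt N47054 (iv2 F333794)) (tt N63862 (iv3 F356166)) (tt N81208 (iv4 F273705)) (tt N45413 F333791) (tt N24702 (iv6 D83519)) (tt N47056 (iv7 F333795)))
theorem Q47283 : ∀ i, i < 47283 → P i := stepQ 47282 Q47282 (allL N47282 (tt N44932 F318159) (tt N24703 (iv0 D83520)) (tt N79222 F342122) (tt N81210 D174837) (tt N47764 (iv4 F342123)) (tt N79290 (iv5 F342124)) (tt N35326 F342140) (tt N79223 (iv7 F342126)))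
theorem Q47284 : ∀ i, i < 47284 → P i := stepQ 47283 Q47283 (allL N47283 (tt N24703 (iv1 D83521)) (tt N44932 F318158) (tt N79223 (iv2 F342125)) (tt N68548 (iv3 F389863)) (tt N81211 D174843) (tt N76940 (iv5 F300660)) (tt N81212 D174845) (tt N79222 (iv7 F342121)))
theorem Q47285 : ∀ i, i < 47285 → P i := stepQ 47284 Q47284 (allL N47284 (tt N81213 D174846) (tt N81214 D174847) (tt N79221 (iv2 F318842)) (tt N67453 (iv3 F333026)) (tt N24703 (iv4 D83522)) (tt N81215 D174849) (tt N67451 (iv6 F333036)) (tt N81216 D174850))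
theorem Q47286 : ∀ i, i < 47286 → P i := stepQ 47285 Q47285 (allL N47285 (tt N79223 (iv1 F318839)) (tt N79222 (iv0 F318838)) (tt N44932 F318160) (tt N24712 F128624) (tt N81216 (iv4 F273710)) (tt N24704 F128625) (tt N79515 (iv6 F320350)) (tt N24703 (iv7 D83523)))
theorem Q47287 : ∀ i, i < 47287 → P i := stepQ 47286 Q47286 (allL N47286 (tt N40040 F309287) (tt N49640 (iv0 F306098)) (tt N68493 (iv2 F311502)) (tt N24705 (iv3 D83525)) (tt N72234 (iv4 F310572)) (tt N75395 (iv5 F334612)) (tt N76772 (iv6 F348542)) (tt N68494 (iv7 F311497)))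
theorem Q47288 : ∀ i, i < 47288 → P i := stepQ 47287 Q47287 (allL N47287 (tt N47469 F128871) (tt N47432 F310713) (tt N58850 (iv2 F332202)) (tt N75395 (iv3 F334611)) (tt N81217 D174859) (tt N24705 (iv5 D83527)) (tt N48343 F334610) (tt N79395 (iv7 F311758)))
theorem Q47289 : ∀ i, i < 47289 → P i := stepQ 47288 Q47288 (allL N47288 (tt N44795 (iv1 F273747)) (tt N81218 D174862) (tt N80294 (iv2 F262962)) (tt N76772 (iv3 F348540)) (tt N28668 (iv4 F155369)) (tt N47446 F128819) (tt N24705 (iv6 D83528)) (tt N80300 (iv7 F361269)))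
theorem Q47290 : ∀ i, i < 47290 → P i := stepQ 47289 Q47289 (allL N47289 (tt N24734 F188229) (tt N63592 F188230) (tt N58758 F332194) (tt N24706 (iv3 D83530)) (tt N46570 F128629) (tt N32060 (iv5 F332196)) (tt N68554 (iv6 F333422)) (tt N58852 F332195))
theorem Q47291 : ∀ i, i < 47291 → P i := stepQ 47290 Q47290 (allL N47290 (tt N47432 (iv1 F308627)) (tt N47469 F262973) (tt N79395 (iv2 F311756)) (tt N32060 F332197) (tt N59494 (iv4 F332198)) (tt N24706 (iv5 D83532)) (tt N32058 (iv6 F332199)) (tt N58850 (iv7 F332204)))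
theorem Q47292 : ∀ i, i < 47292 → P i := stepQ 47291 Q47291 (allL N47291 (tt N45994 F322022) (tt N24707 (iv0 D83534)) (tt N78471 F330881) (tt N81219 D174871) (tt N80972 (iv4 F342039)) (tt N45554 F310668) (tt N68256 (iv6 F318969)) (tt N48323 F330882))
theorem Q47293 : ∀ i, i < 47293 → P i := stepQ 47292 Q47292 (allL N47292 (tt N81220 D174876) (tt N78457 (iv0 F330858)) (tt N79728 (iv2 F320318)) (tt N67452 (iv3 F333023)) (tt N24707 (iv4 D83536)) (tt N78181 (iv5 F333020)) (tt N24711 F128630) (tt N81221 D174880))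
theorem Q47294 : ∀ i, i < 47294 → P i := stepQ 47293 Q47293 (allL N47293 (tt N48323 F330877) (tt N78471 F330878) (tt N45994 F322026) (tt N79729 (iv3 F322738)) (tt N81221 (iv4 F273779)) (tt N24708 F128631) (tt N79520 (iv6 F322730)) (tt N24707 (iv7 D83537)))
theorem Q47295 : ∀ i, i < 47295 → P i := stepQ 47294 Q47294 (allL N47294 (tt N80844 (iv1 F340653)) (tt N80633 (iv0 F358674)) (tt N80842 (iv2 F358670)) (tt N24709 (iv3 D83538)) (tt N81222 D174885) (tt N79289 (iv5 F300634)) (tt N47927 F334707) (tt N80820 (iv7 F271786)))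
theorem Q47296 : ∀ i, i < 47296 → P i := stepQ 47295 Q47295 (allL N47295 (tt N79219 (iv1 F318834)) (tt N24711 (iv0 D83542)) (tt N47116 (iv2 F128637)) (tt N81223 D174895) (tt N46915 F128638) (tt N59585 (iv5 F343708)) (tt N47892 F358888) (tt N47119 F128639))
theorem Q47297 : ∀ i, i < 47297 → P i := stepQ 47296 Q47296 (allL N47296 (tt N81224 D174901) (tt N81225 D174902) (tt N81226 D174903) (tt N24711 (iv3 D83544)) (tt N67453 (iv4 F333027)) (tt N81227 D174904) (tt N67452 (iv6 F333024)) (tt N81228 D174905))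
theorem Q47298 : ∀ i, i < 47298 → P i := stepQ 47297 Q47297 (allL N47297 (tt N81229 D174906) (tt N81230 D174907) (tt N80821 (iv2 F271789)) (tt N81227 (iv3 F273801)) (tt N79295 (iv4 F300942)) (tt N24711 (iv5 D83545)) (tt N81231 D174908) (tt N81232 D174909))
theorem Q47299 : ∀ i, i < 47299 → P i := stepQ 47298 Q47298 (allL N47298 (tt N47119 (iv1 F128641)) (tt N47116 F128642) (tt N79219 (iv2 F318835)) (tt N81228 (iv3 F273802)) (tt N24712 F128640) (tt N81232 (iv5 F273812)) (tt N81233 D174910) (tt N24711 (iv7 D83546)))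
theorem Q47300 : ∀ i, i < 47300 → P i := stepQ 47299 Q47299 (allL N47299 (tt N79519 (iv1 F322728)) (tt N79518 (iv0 F322729)) (tt N44928 F320973) (tt N79515 F320974) (tt N81233 (iv4 F273815)) (tt N79462 (iv5 F303417)) (tt N24712 (iv6 D83547)) (tt N79520 (iv7 F322731)))
theorem Q47301 : ∀ i, i < 47301 → P i := stepQ 47300 Q47300 (allL N47300 (tt N43626 F302854) (tt N52788 (iv0 F151342)) (tt N43640 (iv2 F303888)) (tt N44537 F302855) (tt N24713 (iv4 D83548)) (tt N43423 (iv5 F302966)) (tt N43630 (iv6 F305206)) (tt N63569 (iv7 F188132)))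
theorem Q47302 : ∀ i, i < 47302 → P i := stepQ 47301 Q47301 (allL N47301 (tt N36537 (iv1 F308982)) (tt N36507 (iv0 F308983)) (tt N36534 F307123) (tt N24714 F128645) (tt N43630 F307124) (tt N81234 D174916) (tt N24713 (iv6 D83549)) (tt N36535 (iv7 F308985)))
theorem Q47303 : ∀ i, i < 47303 → P i := stepQ 47302 Q47302 (allL N47302 (tt N24714 (iv1 D83551)) (tt N67924 F305143) (tt N24838 F313344) (tt N54248 (iv3 F311071)) (tt N44050 F308916) (tt N42877 (iv5 F313345)) (tt N48388 F308911) (tt N46142 (iv7 F311073)))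
theorem Q47304 : ∀ i, i < 47304 → P i := stepQ 47303 Q47303 (allL N47303 (tt N69339 (iv1 F307057)) (tt N36227 F323660) (tt N69337 F305144) (tt N81234 (iv3 F273818)) (tt N58623 (iv4 F324263)) (tt N24714 (iv5 D83552)) (tt N45512 F302724) (tt N69338 (iv7 F307060)))
theorem Q47305 : ∀ i, i < 47305 → P i := stepQ 47304 Q47304 (allL N47304 (tt N24838 F308914) (tt N46142 F306880) (tt N67924 F305145) (tt N36535 (iv3 F308984)) (tt N38337 F305146) (tt N69338 (iv5 F307059)) (tt N24813 F307168) (tt N24714 (iv7 D83553)))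
theorem Q47306 : ∀ i, i < 47306 → P i := stepQ 47305 Q47305 (allL N47305 (tt N80848 (iv1 F317290)) (tt N80846 (iv0 F348694)) (tt N76907 (iv2 F348695)) (tt N24715 (iv3 D83555)) (tt N63594 (iv4 F303175)) (tt N81235 D174939) (tt N63593 (iv6 F303709)) (tt N67920 (iv7 F307727)))
theorem Q47307 : ∀ i, i < 47307 → P i := stepQ 47306 Q47306 (allL N47306 (tt N69342 (iv1 F308044)) (tt N48060 (iv0 F322568)) (tt N80302 (iv2 F307720)) (tt N81235 (iv3 F273832)) (tt N42330 (iv4 F323725)) (tt N24715 (iv5 D83557)) (tt N42329 (iv6 F323726)) (tt N66521 (iv7 F307729)))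
theorem Q47308 : ∀ i, i < 47308 → P i := stepQ 47307 Q47307 (allL N47307 (tt N36519 (iv1 F305900)) (tt N36518 F304743) (tt N36598 (iv2 F306739)) (tt N24716 (iv3 D83560)) (tt N43411 (iv4 F306740)) (tt N81236 D174954) (tt N36933 (iv6 F306741)) (tt N36528 (iv7 F306742)))
theorem Q47309 : ∀ i, i < 47309 → P i := stepQ 47308 Q47308 (allL N47308 (tt N48060 (iv1 F322569)) (tt N69342 (iv0 F308043)) (tt N66521 (iv2 F307728)) (tt N81236 (iv3 F273842)) (tt N41279 (iv4 F323787)) (tt N24716 (iv5 D83562)) (tt N36935 (iv6 F308045)) (tt N80302 (iv7 F307721)))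
theorem Q47310 : ∀ i, i < 47310 → P i := stepQ 47309 Q47309 (allL N47309 (tt N24717 (iv1 D83565)) (tt N44081 F318534) (tt N44083 (iv2 F320660)) (tt N81237 D174968) (tt N34373 (iv4 F320661)) (tt N68042 (iv5 F306591)) (tt N44096 (iv6 F320662)) (tt N34370 (iv7 F320663)))
theorem Q47311 : ∀ i, i < 47311 → P i := stepQ 47310 Q47310 (allL N47310 (tt N44083 (iv1 F320128)) (tt N34370 (iv0 F320130)) (tt N44081 F317981) (tt N24726 F128650) (tt N44138 (iv4 F320132)) (tt N24718 F128651) (tt N44929 (iv6 F320133)) (tt N24717 (iv7 D83567)))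
theorem Q47312 : ∀ i, i < 47312 → P i := stepQ 47311 Q47311 (allL N47311 (tt N54321 (iv1 F312797)) (tt N40491 F325018) (tt N66367 (iv2 F331961)) (tt N68536 (iv3 F316001)) (tt N74612 (iv4 F362960)) (tt N24719 (iv5 D83571)) (tt N81238 D174982) (tt N79426 (iv7 F311771)))
theorem Q47313 : ∀ i, i < 47313 → P i := stepQ 47312 Q47312 (allL N47312 (tt N43985 F307479) (tt N47957 F307480) (tt N66371 (iv2 F331965)) (tt N24720 (iv3 D83574)) (tt N76104 F307481) (tt N39538 F331944) (tt N76785 (iv6 F309534)) (tt N66368 (iv7 F331953)))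
theorem Q47314 : ∀ i, i < 47314 → P i := stepQ 47313 Q47313 (allL N47313 (tt N40491 F325019) (tt N54321 (iv0 F312796)) (tt N79426 (iv2 F311769)) (tt N39538 F331943) (tt N56973 (iv4 F331954)) (tt N24720 (iv5 D83576)) (tt N57336 (iv6 F331958)) (tt N66367 (iv7 F331963)))
theorem Q47315 : ∀ i, i < 47315 → P i := stepQ 47314 Q47314 (allL N47314 (tt N80321 (iv1 F308607)) (tt N44793 F272022) (tt N80320 (iv2 F308600)) (tt N76785 (iv3 F309532)) (tt N28621 F155080) (tt N47464 (iv5 F128861)) (tt N24720 (iv6 D83577)) (tt N61581 (iv7 F334798)))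
theorem Q47316 : ∀ i, i < 47316 → P i := stepQ 47315 Q47315 (allL N47315 (tt N80833 (iv1 F271854)) (tt N24721 (iv0 D83578)) (tt N80830 (iv2 F271840)) (tt N81239 D174995) (tt N81095 (iv4 F273893)) (tt N45552 F307525) (tt N80824 (iv6 F309566)) (tt N80831 (iv7 F271842)))
theorem Q47317 : ∀ i, i < 47317 → P i := stepQ 47316 Q47316 (allL N47316 (tt N24721 (iv1 D83579)) (tt N80833 F271853) (tt N80831 (iv2 F271844)) (tt N81240 D174999) (tt N81096 (iv4 F273380)) (tt N45621 F308413) (tt N81241 D175000) (tt N80830 F271839))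
theorem Q47318 : ∀ i, i < 47318 → P i := stepQ 47317 Q47317 (allL N47317 (tt N81242 D175001) (tt N81243 D175002) (tt N80832 (iv2 F271849)) (tt N73018 (iv3 F362762)) (tt N24721 (iv4 D83580)) (tt N81244 D175004) (tt N24725 F128655) (tt N81245 D175005))
theorem Q47319 : ∀ i, i < 47319 → P i := stepQ 47318 Q47318 (allL N47318 (tt N80831 (iv1 F271841)) (tt N80830 F271845) (tt N80833 (iv2 F271851)) (tt N45514 F128656) (tt N81245 (iv4 F273909)) (tt N24722 F128657) (tt N79521 (iv6 F322732)) (tt N24721 (iv7 D83581)))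
theorem Q47320 : ∀ i, i < 47320 → P i := stepQ 47319 Q47319 (allL N47319 (tt N63582 F243743) (tt N24742 F243744) (tt N63579 F188485) (tt N24723 (iv3 D83582)) (tt N81246 D175007) (tt N77578 F243745) (tt N67106 (iv6 F339205)) (tt N63580 F188484))
theorem Q47321 : ∀ i, i < 47321 → P i := stepQ 47320 Q47320 (allL N47320 (tt N67804 (iv1 F332383)) (tt N67810 (iv0 F332384)) (tt N80854 (iv2 F344423)) (tt N24724 (iv3 D83584)) (tt N39612 (iv4 F332385)) (tt N46868 F128658) (tt N36100 (iv6 F332386)) (tt N80834 (iv7 F271856)))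
theorem Q47322 : ∀ i, i < 47322 → P i := stepQ 47321 Q47321 (allL N47321 (tt N81247 D175018) (tt N81248 D175019) (tt N80835 (iv2 F271858)) (tt N36100 F332387) (tt N59142 (iv4 F332390)) (tt N46870 F128659) (tt N24724 (iv6 D83585)) (tt N67112 (iv7 F346502)))
theorem Q47323 : ∀ i, i < 47323 → P i := stepQ 47322 Q47322 (allL N47322 (tt N79461 (iv1 F303412)) (tt N24725 (iv0 D83586)) (tt N47217 (iv2 F128663)) (tt N81249 D175021) (tt N46934 F128664) (tt N81250 D175022) (tt N67086 (iv6 F352782)) (tt N47221 F128665))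
theorem Q47324 : ∀ i, i < 47324 → P i := stepQ 47323 Q47323 (allL N47323 (tt N24725 (iv1 D83587)) (tt N79461 (iv0 F303411)) (tt N47221 (iv2 F128661)) (tt N81251 D175024) (tt N46935 F128660) (tt N81252 D175025) (tt N81253 D175026) (tt N47217 (iv7 F128662)))
theorem Q47325 : ∀ i, i < 47325 → P i := stepQ 47324 Q47324 (allL N47324 (tt N67083 (iv1 F366097)) (tt N81254 D175028) (tt N81255 D175029) (tt N24725 (iv3 D83588)) (tt N67073 (iv4 F322782)) (tt N81256 D175030) (tt N73018 (iv6 F362764)) (tt N81257 D175031))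
theorem Q47326 : ∀ i, i < 47326 → P i := stepQ 47325 Q47325 (allL N47325 (tt N79457 (iv1 F303398)) (tt N79477 (iv0 F302242)) (tt N80837 (iv2 F271860)) (tt N81256 (iv3 F273936)) (tt N79464 (iv4 F302208)) (tt N24725 (iv5 D83589)) (tt N81258 D175034) (tt N81259 D175035))
theorem Q47327 : ∀ i, i < 47327 → P i := stepQ 47326 Q47326 (allL N47326 (tt N47221 (iv1 F128668)) (tt N47217 F128669) (tt N79461 (iv2 F303413)) (tt N81257 (iv3 F273937)) (tt N24726 F128667) (tt N81259 (iv5 F273947)) (tt N81260 D175036) (tt N24725 (iv7 D83590)))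
theorem Q47328 : ∀ i, i < 47328 → P i := stepQ 47327 Q47327 (allL N47327 (tt N65073 (iv1 F345558)) (tt N57140 (iv0 F336027)) (tt N79462 (iv2 F303416)) (tt N44929 F320975) (tt N81260 (iv4 F273950)) (tt N44928 F320976) (tt N24726 (iv6 D83591)) (tt N79521 (iv7 F322733)))
theorem Q47329 : ∀ i, i < 47329 → P i := stepQ 47328 Q47328 (allL N47328 (tt N52788 (iv1 F151341)) (tt N43626 F303518) (tt N63569 (iv2 F188131)) (tt N28792 F128670) (tt N24727 (iv4 D83592)) (tt N43422 (iv5 F304554)) (tt N48050 (iv6 F305619)) (tt N43640 (iv7 F303889)))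
theorem Q47330 : ∀ i, i < 47330 → P i := stepQ 47329 Q47329 (allL N47329 (tt N24760 (iv1 F309616)) (tt N67995 (iv0 F315339)) (tt N63570 (iv2 F188136)) (tt N80845 (iv3 F271880)) (tt N48050 F306248) (tt N75436 (iv5 F334054)) (tt N24727 (iv6 D83593)) (tt N67993 (iv7 F315332)))
theorem Q47331 : ∀ i, i < 47331 → P i := stepQ 47330 Q47330 (allL N47330 (tt N79531 F311612) (tt N48431 F311613) (tt N24730 F128673) (tt N46092 F128674) (tt N36605 F305602) (tt N79562 (iv5 F334235)) (tt N24728 (iv6 D83594)) (tt N36601 (iv7 F307593)))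
theorem Q47332 : ∀ i, i < 47332 → P i := stepQ 47331 Q47331 (allL N47331 (tt N47090 F128677) (tt N66836 F205794) (tt N43434 F128675) (tt N46348 F128676) (tt N24729 (iv4 D83595)) (tt N42114 (iv5 F305679)) (tt N81261 D175048) (tt N42113 F303572))
theorem Q47333 : ∀ i, i < 47333 → P i := stepQ 47332 Q47332 (allL N47332 (tt N45521 F263052) (tt N68539 (iv0 F314729)) (tt N46091 F128678) (tt N24734 F128679) (tt N81261 (iv4 F273970)) (tt N79720 (iv5 F337589)) (tt N24729 (iv6 D83596)) (tt N79725 (iv7 F342750)))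
theorem Q47334 : ∀ i, i < 47334 → P i := stepQ 47333 Q47333 (allL N47333 (tt N24730 (iv1 D83598)) (tt N36601 (iv0 F310176)) (tt N48431 (iv2 F310094)) (tt N81262 D175055) (tt N43723 F308163) (tt N80238 (iv5 F330161)) (tt N36553 (iv6 F310177)) (tt N79531 (iv7 F310095)))
theorem Q47335 : ∀ i, i < 47335 → P i := stepQ 47334 Q47334 (allL N47334 (tt N47920 F340246) (tt N66838 (iv0 F340247)) (tt N79562 (iv2 F334232)) (tt N24736 F128680) (tt N74650 (iv4 F357900)) (tt N24730 (iv5 D83599)) (tt N79720 (iv6 F337590)) (tt N79556 (iv7 F341879)))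
theorem Q47336 : ∀ i, i < 47336 → P i := stepQ 47335 Q47335 (allL N47335 (tt N45696 F189959) (tt N24731 (iv0 D83601)) (tt N47952 F189960) (tt N43965 F189961) (tt N34192 F189962) (tt N81263 D175063) (tt N81264 D175064) (tt N47954 F189963))
theorem Q47337 : ∀ i, i < 47337 → P i := stepQ 47336 Q47336 (allL N47336 (tt N47954 (iv1 F190053)) (tt N47952 (iv0 F190050)) (tt N45696 (iv2 F189955)) (tt N45739 (iv3 F189947)) (tt N24737 F128682) (tt N45737 (iv5 F189939)) (tt N63574 (iv6 F188166)) (tt N24731 (iv7 D83603)))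
theorem Q47338 : ∀ i, i < 47338 → P i := stepQ 47337 Q47337 (allL N47337 (tt N80454 F267789) (tt N68561 (iv0 F333666)) (tt N42739 F128685) (tt N68448 (iv3 F305330)) (tt N24734 F128686) (tt N68446 (iv5 F313478)) (tt N24733 (iv6 D83605)) (tt N68486 (iv7 F311434)))
theorem Q47339 : ∀ i, i < 47339 → P i := stepQ 47338 Q47338 (allL N47338 (tt N63592 (iv1 F188234)) (tt N24734 (iv0 D83606)) (tt N58852 (iv2 F332187)) (tt N68493 (iv3 F311503)) (tt N46569 (iv4 F235996)) (tt N31988 F332184) (tt N81265 D175073) (tt N58758 (iv7 F332193)))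
theorem Q47340 : ∀ i, i < 47340 → P i := stepQ 47339 Q47339 (allL N47339 (tt N81266 D175074) (tt N58826 (iv0 F337594)) (tt N63591 (iv2 F188221)) (tt N79720 (iv3 F337588)) (tt N60404 (iv4 F319911)) (tt N24734 (iv5 D83608)) (tt N24736 F128687) (tt N79723 (iv7 F361362)))
theorem Q47341 : ∀ i, i < 47341 → P i := stepQ 47340 Q47340 (allL N47340 (tt N58758 (iv1 F332191)) (tt N58852 (iv0 F332185)) (tt N63592 (iv2 F188224)) (tt N79725 (iv3 F342748)) (tt N68486 (iv4 F311433)) (tt N79723 (iv5 F361361)) (tt N63578 (iv6 F188181)) (tt N24734 (iv7 D83609)))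
theorem Q47342 : ∀ i, i < 47342 → P i := stepQ 47341 Q47341 (allL N47341 (tt N24767 F189975) (tt N68005 (iv0 F315314)) (tt N46675 F189976) (tt N80841 (iv3 F333747)) (tt N25079 F189977) (tt N78590 F249645) (tt N24735 (iv6 D83614)) (tt N81267 D175081))
theorem Q47343 : ∀ i, i < 47343 → P i := stepQ 47342 Q47342 (allL N47342 (tt N58870 (iv1 F319921)) (tt N24736 (iv0 D83620)) (tt N58871 (iv2 F319915)) (tt N80842 (iv3 F358671)) (tt N32000 F319903) (tt N77584 (iv5 F243882)) (tt N32085 (iv6 F321755)) (tt N31998 (iv7 F319920)))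
theorem Q47344 : ∀ i, i < 47344 → P i := stepQ 47343 Q47343 (allL N47343 (tt N39541 F317714) (tt N32292 F317715) (tt N39539 F317716) (tt N32048 (iv3 F319908)) (tt N24736 (iv4 D83622)) (tt N71158 (iv5 F319910)) (tt N60404 (iv6 F319912)) (tt N39540 F317717))
theorem Q47345 : ∀ i, i < 47345 → P i := stepQ 47344 Q47344 (allL N47344 (tt N31998 (iv1 F319919)) (tt N58871 (iv0 F319913)) (tt N58870 (iv2 F319922)) (tt N79556 (iv3 F341876)) (tt N39540 F317719) (tt N24737 F128690) (tt N58777 (iv6 F319925)) (tt N24736 (iv7 D83623)))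
theorem Q47346 : ∀ i, i < 47346 → P i := stepQ 47345 Q47345 (allL N47345 (tt N67971 (iv1 F320196)) (tt N24764 (iv0 F320197)) (tt N63585 (iv2 F188201)) (tt N37475 F312380) (tt N36940 F312381) (tt N81268 D175092) (tt N24738 (iv6 D83624)) (tt N63829 (iv7 F314813)))
theorem Q47347 : ∀ i, i < 47347 → P i := stepQ 47346 Q47346 (allL N47346 (tt N24739 (iv1 D83626)) (tt N36599 F307715) (tt N76732 (iv2 F328954)) (tt N67953 (iv3 F337524)) (tt N66435 (iv4 F328132)) (tt N81269 D175101) (tt N67951 (iv6 F364117)) (tt N61006 (iv7 F328953)))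
theorem Q47348 : ∀ i, i < 47348 → P i := stepQ 47347 Q47347 (allL N47347 (tt N81270 D175103) (tt N81271 D175104) (tt N76733 (iv2 F239795)) (tt N24742 F128691) (tt N81272 D175105) (tt N24739 (iv5 D83627)) (tt N46086 F128692) (tt N81273 D175106))
theorem Q47349 : ∀ i, i < 47349 → P i := stepQ 47348 Q47348 (allL N47348 (tt N76732 (iv1 F239794)) (tt N61006 (iv0 F319370)) (tt N36599 F305723) (tt N24743 F128693) (tt N66935 (iv4 F206178)) (tt N81273 (iv5 F274074)) (tt N63590 (iv6 F188209)) (tt N24739 (iv7 D83628)))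
theorem Q47350 : ∀ i, i < 47350 → P i := stepQ 47349 Q47349 (allL N47349 (tt N24740 (iv1 D83630)) (tt N63578 F188182) (tt N63576 (iv2 F188176)) (tt N66371 (iv3 F331966)) (tt N75827 (iv4 F311821)) (tt N66370 (iv5 F357113)) (tt N68534 (iv6 F337070)) (tt N63575 F188175))
theorem Q47351 : ∀ i, i < 47351 → P i := stepQ 47350 Q47350 (allL N47350 (tt N81239 (iv1 F337073)) (tt N81274 D175111) (tt N63577 (iv2 F188178)) (tt N46086 F128694) (tt N81275 D175112) (tt N24740 (iv5 D83631)) (tt N24742 F128695) (tt N81276 D175113))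
theorem Q47352 : ∀ i, i < 47352 → P i := stepQ 47351 Q47351 (allL N47351 (tt N63576 (iv1 F188170)) (tt N63575 F188177) (tt N63578 (iv2 F188180)) (tt N46087 F128696) (tt N30557 F313492) (tt N81276 (iv5 F274082)) (tt N63592 (iv6 F188226)) (tt N24740 (iv7 D83632)))
theorem Q47353 : ∀ i, i < 47353 → P i := stepQ 47352 Q47352 (allL N47352 (tt N77569 (iv1 F243679)) (tt N77568 F243678) (tt N63545 F188454) (tt N39398 F330960) (tt N62182 (iv4 F330962)) (tt N24741 (iv5 D83641)) (tt N39397 (iv6 F330963)) (tt N63543 F188455))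
theorem Q47354 : ∀ i, i < 47354 → P i := stepQ 47353 Q47353 (allL N47353 (tt N67998 (iv1 F315291)) (tt N24763 F188456) (tt N47572 F188457) (tt N80853 (iv3 F317283)) (tt N25089 F188458) (tt N69008 (iv5 F315449)) (tt N24741 (iv6 D83642)) (tt N68003 (iv7 F315300)))
theorem Q47355 : ∀ i, i < 47355 → P i := stepQ 47354 Q47354 (allL N47354 (tt N24742 (iv1 D83644)) (tt N63582 F188191) (tt N63580 (iv2 F243747)) (tt N80854 (iv3 F344424)) (tt N80174 (iv4 F330682)) (tt N81277 D175119) (tt N81278 D175120) (tt N63579 F243746))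
theorem Q47356 : ∀ i, i < 47356 → P i := stepQ 47355 Q47355 (allL N47355 (tt N77740 (iv1 F353044)) (tt N81279 D175122) (tt N63581 (iv2 F188187)) (tt N81280 D175123) (tt N24742 (iv4 D83645)) (tt N81281 D175124) (tt N81275 (iv6 F274080)) (tt N81282 D175125))
theorem Q47357 : ∀ i, i < 47357 → P i := stepQ 47356 Q47356 (allL N47356 (tt N63580 (iv1 F188186)) (tt N63579 F188190) (tt N63582 (iv2 F188188)) (tt N81273 (iv3 F274073)) (tt N81282 (iv4 F274105)) (tt N24743 F128699) (tt N81283 D175126) (tt N24742 (iv7 D83646)))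
theorem Q47358 : ∀ i, i < 47358 → P i := stepQ 47357 Q47357 (allL N47357 (tt N24759 (iv1 F128704)) (tt N24744 (iv0 D83647)) (tt N24756 (iv2 F334559)) (tt N28791 (iv3 F334560)) (tt N73974 (iv4 F334561)) (tt N81284 D175130) (tt N28789 (iv6 F334562)) (tt N24757 (iv7 F334563)))
theorem Q47359 : ∀ i, i < 47359 → P i := stepQ 47358 Q47358 (allL N47358 (tt N24744 (iv1 D83648)) (tt N24759 F128700) (tt N24757 F334564) (tt N81040 (iv3 F345656)) (tt N61409 (iv4 F334567)) (tt N81285 D175135) (tt N68447 (iv6 F334570)) (tt N24756 F334565))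
theorem Q47360 : ∀ i, i < 47360 → P i := stepQ 47359 Q47359 (allL N47359 (tt N81286 D175137) (tt N81287 D175138) (tt N24758 F128701) (tt N80855 (iv3 F271897)) (tt N52862 (iv4 F335205)) (tt N24744 (iv5 D83649)) (tt N24747 F128702) (tt N81288 D175140))
theorem Q47361 : ∀ i, i < 47361 → P i := stepQ 47360 Q47360 (allL N47360 (tt N24757 (iv1 F128705)) (tt N24756 F128706) (tt N24759 F128703) (tt N43181 F312016) (tt N61424 (iv4 F178845)) (tt N81288 (iv5 F274113)) (tt N63508 (iv6 F187758)) (tt N24744 (iv7 D83650)))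
theorem Q47362 : ∀ i, i < 47362 → P i := stepQ 47361 Q47361 (allL N47361 (tt N63829 (iv1 F315821)) (tt N63585 (iv0 F319364)) (tt N67971 (iv2 F315336)) (tt N24745 (iv3 D83652)) (tt N37180 F315329) (tt N81289 D175144) (tt N67966 (iv6 F319791)) (tt N24764 F201097))
theorem Q47363 : ∀ i, i < 47363 → P i := stepQ 47362 Q47362 (allL N47362 (tt N80888 F272073) (tt N81290 D175146) (tt N24762 F201098) (tt N81289 (iv3 F274126)) (tt N81291 D175147) (tt N24745 (iv5 D83653)) (tt N81292 D175148) (tt N24766 F201099))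
theorem Q47364 : ∀ i, i < 47364 → P i := stepQ 47363 Q47363 (allL N47363 (tt N47572 F206460) (tt N68003 (iv0 F315296)) (tt N24763 F201100) (tt N67966 (iv3 F319790)) (tt N67060 (iv4 F206459)) (tt N44791 F128708) (tt N24745 (iv6 D83654)) (tt N67998 (iv7 F315295)))
theorem Q47365 : ∀ i, i < 47365 → P i := stepQ 47364 Q47364 (allL N47364 (tt N63570 (iv1 F307085)) (tt N67993 (iv0 F315330)) (tt N67995 (iv2 F315341)) (tt N24746 (iv3 D83656)) (tt N48158 F305615) (tt N41969 F333933) (tt N68014 (iv6 F315323)) (tt N24760 F201104))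
theorem Q47366 : ∀ i, i < 47366 → P i := stepQ 47365 Q47365 (allL N47365 (tt N47945 (iv1 F155132)) (tt N25251 (iv0 F131875)) (tt N24765 F201105) (tt N39888 F314999) (tt N24746 (iv4 D83657)) (tt N39886 F315000) (tt N81293 D175154) (tt N24761 F201106))
theorem Q47367 : ∀ i, i < 47367 → P i := stepQ 47366 Q47366 (allL N47366 (tt N81290 (iv1 F274130)) (tt N80888 F272074) (tt N24766 F201107) (tt N41969 F333932) (tt N80015 (iv4 F333938)) (tt N24746 (iv5 D83658)) (tt N41967 (iv6 F333941)) (tt N24762 F201108))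
theorem Q47368 : ∀ i, i < 47368 → P i := stepQ 47367 Q47367 (allL N47367 (tt N81267 (iv1 F274061)) (tt N46675 F264410) (tt N24767 F201109) (tt N68014 (iv3 F315321)) (tt N81293 (iv4 F274161)) (tt N81294 D175157) (tt N24746 (iv6 D83659)) (tt N68005 (iv7 F315318)))
theorem Q47369 : ∀ i, i < 47369 → P i := stepQ 47368 Q47368 (allL N47368 (tt N24771 (iv1 F128714)) (tt N24747 (iv0 D83660)) (tt N24768 F234234) (tt N70099 (iv3 F332292)) (tt N81295 D175159) (tt N70098 (iv5 F313028)) (tt N81296 D175161) (tt N24769 F234235))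
theorem Q47370 : ∀ i, i < 47370 → P i := stepQ 47369 Q47369 (allL N47369 (tt N24747 (iv1 D83661)) (tt N24771 F128710) (tt N24769 F234231) (tt N75370 (iv3 F334535)) (tt N81297 D175163) (tt N63855 (iv5 F191403)) (tt N75369 (iv6 F334544)) (tt N24768 F234232))
theorem Q47371 : ∀ i, i < 47371 → P i := stepQ 47370 Q47370 (allL N47370 (tt N78216 (iv1 F342236)) (tt N78011 (iv0 F332252)) (tt N24770 F128711) (tt N81298 D175167) (tt N24747 (iv4 D83662)) (tt N78206 (iv5 F320443)) (tt N52862 (iv6 F335206)) (tt N81299 D175169))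
theorem Q47372 : ∀ i, i < 47372 → P i := stepQ 47371 Q47371 (allL N47371 (tt N24769 (iv1 F128715)) (tt N24768 F128716) (tt N24771 F128712) (tt N76638 (iv3 F327794)) (tt N81299 (iv4 F274186)) (tt N24748 F128713) (tt N75298 (iv6 F354819)) (tt N24747 (iv7 D83663)))
theorem Q47373 : ∀ i, i < 47373 → P i := stepQ 47372 Q47372 (allL N47372 (tt N46830 F128718) (tt N76905 F240690) (tt N36525 F128717) (tt N36922 F310054) (tt N24749 (iv4 D83664)) (tt N81300 D175171) (tt N36920 (iv6 F310673)) (tt N63593 (iv7 F188246)))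
theorem Q47374 : ∀ i, i < 47374 → P i := stepQ 47373 Q47373 (allL N47373 (tt N45558 (iv1 F274205)) (tt N81301 D175174) (tt N43190 F128719) (tt N24751 F128720) (tt N36920 F312944) (tt N81302 D175175) (tt N24749 (iv6 D83665)) (tt N67919 F312945))
theorem Q47375 : ∀ i, i < 47375 → P i := stepQ 47374 Q47374 (allL N47374 (tt N24752 (iv1 F128723)) (tt N24750 (iv0 D83666)) (tt N42700 F128726) (tt N27584 (iv3 F128724)) (tt N34104 F128722) (tt N34070 F128721) (tt N77774 (iv6 F312336)) (tt N42701 F128725))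
theorem Q47376 : ∀ i, i < 47376 → P i := stepQ 47375 Q47375 (allL N47375 (tt N24750 (iv1 D83667)) (tt N24752 F128727) (tt N42701 (iv2 F128731)) (tt N64622 F197924) (tt N34103 F128730) (tt N34073 F128729) (tt N81303 D175178) (tt N42700 F128728))
theorem Q47377 : ∀ i, i < 47377 → P i := stepQ 47376 Q47376 (allL N47376 (tt N37592 (iv1 F315648)) (tt N37595 (iv0 F314845)) (tt N44489 (iv2 F315649)) (tt N81302 (iv3 F274208)) (tt N41445 (iv4 F315656)) (tt N24751 (iv5 D83672)) (tt N63853 (iv6 F189855)) (tt N68421 F313259))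
theorem Q47378 : ∀ i, i < 47378 → P i := stepQ 47377 Q47377 (allL N47377 (tt N63598 (iv1 F188263)) (tt N24753 (iv0 D83675)) (tt N63595 F188254) (tt N24778 F184738) (tt N80402 (iv4 F267240)) (tt N81304 D175197) (tt N81305 D175198) (tt N63596 F188253))
theorem Q47379 : ∀ i, i < 47379 → P i := stepQ 47378 Q47378 (allL N47378 (tt N24753 (iv1 D83676)) (tt N63598 F188262) (tt N63596 (iv2 F188256)) (tt N43178 (iv3 F306607)) (tt N48494 F304746) (tt N81306 D175200) (tt N43177 (iv6 F306743)) (tt N63595 F188255))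
theorem Q47380 : ∀ i, i < 47380 → P i := stepQ 47379 Q47379 (allL N47379 (tt N81307 D175202) (tt N59968 (iv0 F361280)) (tt N63597 (iv2 F188258)) (tt N43182 F128741) (tt N51906 (iv4 F335525)) (tt N24753 (iv5 D83677)) (tt N51905 (iv6 F298361)) (tt N74528 (iv7 F311010)))
theorem Q47381 : ∀ i, i < 47381 → P i := stepQ 47380 Q47380 (allL N47380 (tt N24754 (iv1 D83680)) (tt N28276 F128751) (tt N28288 (iv2 F128754)) (tt N37374 F308224) (tt N24997 F128753) (tt N52575 (iv5 F149989)) (tt N68406 (iv6 F310235)) (tt N28289 F128752))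
theorem Q47382 : ∀ i, i < 47382 → P i := stepQ 47381 Q47381 (allL N47381 (tt N43900 F332510) (tt N43913 F332511) (tt N43793 F307917) (tt N24755 F128755) (tt N24784 F128756) (tt N81308 D175210) (tt N24754 (iv6 D83681)) (tt N43912 F314825))
theorem Q47383 : ∀ i, i < 47383 → P i := stepQ 47382 Q47382 (allL N47382 (tt N24755 (iv1 D83683)) (tt N61424 F178847) (tt N61421 F314848) (tt N44515 (iv3 F319114)) (tt N64227 (iv4 F343383)) (tt N46568 (iv5 F317115)) (tt N44514 (iv6 F319115)) (tt N61422 (iv7 F314406)))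
theorem Q47384 : ∀ i, i < 47384 → P i := stepQ 47383 Q47383 (allL N47383 (tt N81309 D175222) (tt N81310 D175223) (tt N61423 (iv2 F178842)) (tt N81308 (iv3 F274253)) (tt N81311 D175224) (tt N24755 (iv5 D83684)) (tt N61401 (iv6 F178776)) (tt N81312 D175225))
theorem Q47385 : ∀ i, i < 47385 → P i := stepQ 47384 Q47384 (allL N47384 (tt N61421 (iv1 F312733)) (tt N61422 F178846) (tt N61424 (iv2 F178844)) (tt N43912 F314822) (tt N24759 F128757) (tt N81312 (iv5 F274259)) (tt N63601 (iv6 F188277)) (tt N24755 (iv7 D83685)))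
theorem Q47386 : ∀ i, i < 47386 → P i := stepQ 47385 Q47385 (allL N47385 (tt N81313 D175239) (tt N81303 (iv0 F333693)) (tt N73974 (iv2 F312769)) (tt N35000 (iv3 F312771)) (tt N24756 (iv4 D83688)) (tt N36645 (iv5 F312772)) (tt N34999 F310549) (tt N61409 (iv7 F312775)))
theorem Q47387 : ∀ i, i < 47387 → P i := stepQ 47386 Q47386 (allL N47386 (tt N81314 D175245) (tt N81315 D175246) (tt N81284 (iv2 F334557)) (tt N41988 F334573) (tt N64475 (iv4 F334593)) (tt N24756 (iv5 D83689)) (tt N64474 (iv6 F334572)) (tt N81285 (iv7 F334569)))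
theorem Q47388 : ∀ i, i < 47388 → P i := stepQ 47387 Q47387 (allL N47387 (tt N43178 (iv1 F317466)) (tt N78572 (iv0 F343953)) (tt N34287 (iv2 F317468)) (tt N24757 (iv3 D83692)) (tt N34274 (iv4 F317469)) (tt N81316 D175259) (tt N48049 (iv6 F317470)) (tt N28791 F315244))
theorem Q47389 : ∀ i, i < 47389 → P i := stepQ 47388 Q47388 (allL N47388 (tt N81303 (iv1 F333694)) (tt N81313 F274275) (tt N61409 (iv2 F312773)) (tt N33820 (iv3 F317471)) (tt N24757 (iv4 D83693)) (tt N41640 (iv5 F317472)) (tt N68446 (iv6 F317473)) (tt N73974 F315245))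
theorem Q47390 : ∀ i, i < 47390 → P i := stepQ 47389 Q47389 (allL N47389 (tt N81315 (iv1 F274277)) (tt N81314 F274280) (tt N81285 (iv2 F334568)) (tt N81316 (iv3 F274283)) (tt N81317 D175264) (tt N24757 (iv5 D83694)) (tt N81318 D175265) (tt N81284 (iv7 F334558)))
theorem Q47391 : ∀ i, i < 47391 → P i := stepQ 47390 Q47390 (allL N47390 (tt N81319 D175266) (tt N74526 (iv0 F337078)) (tt N68447 (iv2 F333438)) (tt N48049 F319721) (tt N68446 F319722) (tt N58361 (iv5 F332183)) (tt N24757 (iv6 D83695)) (tt N68485 (iv7 F361365)))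
theorem Q47392 : ∀ i, i < 47392 → P i := stepQ 47391 Q47391 (allL N47391 (tt N81288 (iv1 F274116)) (tt N24758 (iv0 D83696)) (tt N81286 (iv2 F357773)) (tt N75348 (iv3 F357759)) (tt N81320 D175272) (tt N68519 (iv5 F354872)) (tt N75346 (iv6 F357760)) (tt N81287 (iv7 F354874)))
theorem Q47393 : ∀ i, i < 47393 → P i := stepQ 47392 Q47392 (allL N47392 (tt N24758 (iv1 D83697)) (tt N81288 F274115) (tt N81287 (iv2 F354873)) (tt N73969 (iv3 F346289)) (tt N81321 D175277) (tt N68516 (iv5 F333658)) (tt N81322 D175279) (tt N81286 (iv7 F357774)))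
theorem Q47394 : ∀ i, i < 47394 → P i := stepQ 47393 Q47393 (allL N47393 (tt N81323 D175280) (tt N49780 (iv0 F357756)) (tt N52862 (iv2 F335204)) (tt N81324 D175282) (tt N24758 (iv4 D83698)) (tt N49767 (iv5 F346298)) (tt N24770 F128760) (tt N52860 (iv7 F335211)))
theorem Q47395 : ∀ i, i < 47395 → P i := stepQ 47394 Q47394 (allL N47394 (tt N81287 (iv1 F274108)) (tt N81286 F274114) (tt N81288 (iv2 F274112)) (tt N24797 F128761) (tt N52860 (iv4 F335210)) (tt N24759 F128762) (tt N75299 (iv6 F354821)) (tt N24758 (iv7 D83699)))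
theorem Q47396 : ∀ i, i < 47396 → P i := stepQ 47395 Q47395 (allL N47395 (tt N67995 (iv1 F315340)) (tt N24760 (iv0 D83706)) (tt N67993 (iv2 F315331)) (tt N24813 F187919) (tt N43641 F306247) (tt N75306 (iv5 F334047)) (tt N36535 (iv6 F308242)) (tt N63570 F308925))
theorem Q47397 : ∀ i, i < 47397 → P i := stepQ 47396 Q47396 (allL N47396 (tt N66840 (iv1 F340250)) (tt N74396 (iv0 F333929)) (tt N67994 (iv2 F315338)) (tt N24762 F128771) (tt N41972 (iv4 F333930)) (tt N24760 (iv5 D83710)) (tt N67964 (iv6 F337911)) (tt N41969 (iv7 F333931)))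
theorem Q47398 : ∀ i, i < 47398 → P i := stepQ 47397 Q47397 (allL N47397 (tt N24765 (iv1 F128779)) (tt N24761 (iv0 D83713)) (tt N25251 F131828) (tt N48037 (iv3 F130570)) (tt N47577 F129190) (tt N44268 F314997) (tt N63610 F188294) (tt N47945 (iv7 F155133)))
theorem Q47399 : ∀ i, i < 47399 → P i := stepQ 47398 Q47398 (allL N47398 (tt N66927 F273260) (tt N48239 F273262) (tt N67060 (iv2 F206457)) (tt N42976 (iv3 F304154)) (tt N24763 F128776) (tt N74419 (iv5 F227855)) (tt N24761 (iv6 D83717)) (tt N68004 (iv7 F314652)))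
theorem Q47400 : ∀ i, i < 47400 → P i := stepQ 47399 Q47399 (allL N47399 (tt N24766 (iv1 F128783)) (tt N24762 (iv0 D83719)) (tt N80888 (iv2 F272072)) (tt N80867 (iv3 F338578)) (tt N81325 D175311) (tt N44428 F316068) (tt N81326 D175313) (tt N81290 (iv7 F274131)))
theorem Q47401 : ∀ i, i < 47401 → P i := stepQ 47400 Q47400 (allL N47400 (tt N24762 (iv1 D83720)) (tt N24766 F128780) (tt N81290 F274132) (tt N24809 F243982) (tt N81327 D175314) (tt N44427 F316063) (tt N81328 D175315) (tt N80888 (iv7 F272071)))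
theorem Q47402 : ∀ i, i < 47402 → P i := stepQ 47401 Q47401 (allL N47401 (tt N59312 (iv1 F318035)) (tt N81329 D175317) (tt N81291 (iv2 F274133)) (tt N80017 (iv3 F361430)) (tt N24762 (iv4 D83721)) (tt N59292 (iv5 F320586)) (tt N64477 (iv6 F362111)) (tt N80015 (iv7 F333940)))
theorem Q47403 : ∀ i, i < 47403 → P i := stepQ 47402 Q47402 (allL N47402 (tt N79906 (iv1 F362051)) (tt N81330 D175322) (tt N81292 (iv2 F274135)) (tt N67964 (iv3 F337910)) (tt N64477 (iv4 F362110)) (tt N67961 (iv5 F315347)) (tt N24762 (iv6 D83722)) (tt N81331 D175324))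
theorem Q47404 : ∀ i, i < 47404 → P i := stepQ 47403 Q47403 (allL N47403 (tt N24764 (iv1 D83730)) (tt N67971 (iv0 F315334)) (tt N63829 F318041) (tt N24802 F274124) (tt N38611 F318042) (tt N75404 (iv5 F344163)) (tt N63619 (iv6 F331858)) (tt N63585 (iv7 F319366)))
theorem Q47405 : ∀ i, i < 47405 → P i := stepQ 47404 Q47404 (allL N47404 (tt N63585 (iv1 F319365)) (tt N63829 (iv0 F315820)) (tt N24764 (iv2 D83731)) (tt N67995 (iv3 F315342)) (tt N81332 D175332) (tt N72681 (iv5 F346380)) (tt N81333 D175334) (tt N67971 (iv7 F315337)))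
theorem Q47406 : ∀ i, i < 47406 → P i := stepQ 47405 Q47405 (allL N47405 (tt N46015 (iv1 F313065)) (tt N47559 (iv0 F129059)) (tt N81332 (iv2 F274379)) (tt N37191 F310689) (tt N24764 (iv4 D83732)) (tt N37182 (iv5 F312962)) (tt N81334 D175336) (tt N37180 (iv7 F312963)))
theorem Q47407 : ∀ i, i < 47407 → P i := stepQ 47406 Q47406 (allL N47406 (tt N38636 F331676) (tt N81335 D175338) (tt N72681 (iv2 F346379)) (tt N24766 F128788) (tt N40812 F322876) (tt N24764 (iv5 D83733)) (tt N72677 (iv6 F333956)) (tt N81289 (iv7 F274127)))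
theorem Q47408 : ∀ i, i < 47408 → P i := stepQ 47407 Q47407 (allL N47407 (tt N48284 F335280) (tt N81202 (iv0 F344923)) (tt N81333 (iv2 F274384)) (tt N24767 F128789) (tt N81334 (iv4 F274386)) (tt N81336 D175343) (tt N24764 (iv6 D83734)) (tt N81337 D175344))
theorem Q47409 : ∀ i, i < 47409 → P i := stepQ 47408 Q47408 (allL N47408 (tt N65376 F239968) (tt N78124 F314990) (tt N39886 F314991) (tt N65365 (iv3 F201080)) (tt N81338 D175345) (tt N24765 (iv5 D83735)) (tt N81339 D175346) (tt N67059 (iv7 F206455)))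
theorem Q47410 : ∀ i, i < 47410 → P i := stepQ 47409 Q47409 (allL N47409 (tt N81340 D175347) (tt N81264 (iv0 F274031)) (tt N81293 (iv2 F274160)) (tt N40752 F322944) (tt N24767 F128790) (tt N40750 F322945) (tt N24765 (iv6 D83736)) (tt N80385 (iv7 F264406)))
theorem Q47411 : ∀ i, i < 47411 → P i := stepQ 47410 Q47410 (allL N47410 (tt N81329 (iv1 F274367)) (tt N59312 (iv0 F318034)) (tt N80015 (iv2 F333937)) (tt N78177 (iv3 F348303)) (tt N24766 (iv4 D83737)) (tt N59291 (iv5 F317224)) (tt N80019 (iv6 F333958)) (tt N81291 (iv7 F274134)))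
theorem Q47412 : ∀ i, i < 47412 → P i := stepQ 47411 Q47411 (allL N47411 (tt N81341 D175351) (tt N81342 D175352) (tt N41967 F333954) (tt N72677 (iv3 F333955)) (tt N80019 (iv4 F333957)) (tt N81343 D175353) (tt N24766 (iv6 D83738)) (tt N81344 D175354))
theorem Q47413 : ∀ i, i < 47413 → P i := stepQ 47412 Q47412 (allL N47412 (tt N68005 (iv1 F315315)) (tt N24767 (iv0 D83739)) (tt N81267 (iv2 F274057)) (tt N24820 F201138) (tt N25115 F201139) (tt N78586 (iv5 F249619)) (tt N63617 F201140) (tt N46675 F201141))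
theorem Q47414 : ∀ i, i < 47414 → P i := stepQ 47413 Q47413 (allL N47413 (tt N43396 F188505) (tt N46266 (iv0 F327668)) (tt N81294 (iv2 F274166)) (tt N81336 (iv3 F274388)) (tt N80161 (iv4 F327672)) (tt N24767 (iv5 D83741)) (tt N81343 (iv6 F274397)) (tt N81345 D175357))
theorem Q47415 : ∀ i, i < 47415 → P i := stepQ 47414 Q47414 (allL N47414 (tt N46675 F264408) (tt N81267 F274060) (tt N68005 (iv2 F315316)) (tt N81337 (iv3 F274389)) (tt N80385 F264407) (tt N81345 (iv5 F274406)) (tt N67998 (iv6 F315294)) (tt N24767 (iv7 D83742)))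
theorem Q47416 : ∀ i, i < 47416 → P i := stepQ 47415 Q47415 (allL N47415 (tt N75306 (iv1 F354241)) (tt N75436 (iv0 F334053)) (tt N75435 (iv2 F334537)) (tt N24768 (iv3 D83744)) (tt N75320 (iv4 F334064)) (tt N75765 (iv5 F334057)) (tt N78711 (iv6 F354243)) (tt N75370 (iv7 F334536)))
theorem Q47417 : ∀ i, i < 47417 → P i := stepQ 47416 Q47416 (allL N47416 (tt N59294 (iv1 F332236)) (tt N81346 D175365) (tt N81295 (iv2 F274170)) (tt N81347 D175366) (tt N24768 (iv4 D83745)) (tt N69813 (iv5 F332243)) (tt N69894 (iv6 F365401)) (tt N81297 (iv7 F274179)))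
theorem Q47418 : ∀ i, i < 47418 → P i := stepQ 47417 Q47417 (allL N47417 (tt N63846 (iv1 F311309)) (tt N63253 F186553) (tt N70098 (iv2 F313027)) (tt N75765 (iv3 F334056)) (tt N72191 (iv4 F310290)) (tt N24768 (iv5 D83746)) (tt N81348 D175370) (tt N63855 F234233))
theorem Q47419 : ∀ i, i < 47419 → P i := stepQ 47418 Q47418 (allL N47418 (tt N57792 (iv1 F382183)) (tt N81349 D175372) (tt N81296 (iv2 F274176)) (tt N78711 (iv3 F354242)) (tt N69894 (iv4 F365399)) (tt N81350 D175373) (tt N24768 (iv6 D83747)) (tt N81351 D175374))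
theorem Q47420 : ∀ i, i < 47420 → P i := stepQ 47419 Q47419 (allL N47419 (tt N81268 (iv1 F332289)) (tt N75404 (iv0 F344161)) (tt N62883 (iv2 F332286)) (tt N24769 (iv3 D83749)) (tt N42661 (iv4 F332287)) (tt N63244 (iv5 F332291)) (tt N42660 F332285) (tt N70099 (iv7 F332293)))
theorem Q47421 : ∀ i, i < 47421 → P i := stepQ 47420 Q47420 (allL N47420 (tt N81346 (iv1 F274412)) (tt N59294 (iv0 F332235)) (tt N81297 (iv2 F274178)) (tt N72189 F332270) (tt N24769 (iv4 D83750)) (tt N69812 (iv5 F332246)) (tt N34919 (iv6 F332271)) (tt N81295 (iv7 F274171)))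
theorem Q47422 : ∀ i, i < 47422 → P i := stepQ 47421 Q47421 (allL N47421 (tt N63253 F236463) (tt N63846 (iv0 F311308)) (tt N63855 (iv2 F234230)) (tt N63244 (iv3 F332290)) (tt N68019 (iv4 F309718)) (tt N24769 (iv5 D83751)) (tt N63427 (iv6 F187384)) (tt N70098 (iv7 F313029)))
theorem Q47423 : ∀ i, i < 47423 → P i := stepQ 47422 Q47422 (allL N47422 (tt N75292 (iv1 F343324)) (tt N61092 (iv0 F332274)) (tt N75369 (iv2 F334541)) (tt N42660 (iv3 F332277)) (tt N34919 F332272) (tt N81352 D175386) (tt N24769 (iv6 D83752)) (tt N75054 (iv7 F332284)))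
theorem Q47424 : ∀ i, i < 47424 → P i := stepQ 47423 Q47423 (allL N47423 (tt N81299 (iv1 F274190)) (tt N24770 (iv0 D83753)) (tt N78216 (iv2 F342237)) (tt N81353 D175389) (tt N78211 (iv4 F316072)) (tt N78013 (iv5 F316173)) (tt N81354 D175392) (tt N78011 (iv7 F342220)))
theorem Q47425 : ∀ i, i < 47425 → P i := stepQ 47424 Q47424 (allL N47424 (tt N24770 (iv1 D83754)) (tt N81299 F274189) (tt N78011 (iv2 F342219)) (tt N49818 (iv3 F342221)) (tt N63837 (iv4 F311318)) (tt N78003 (iv5 F320429)) (tt N76310 (iv6 F342218)) (tt N78216 (iv7 F342238)))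
theorem Q47426 : ∀ i, i < 47426 → P i := stepQ 47425 Q47425 (allL N47425 (tt N64545 (iv1 F336791)) (tt N45207 (iv0 F336792)) (tt N64543 (iv2 F336371)) (tt N24770 (iv3 D83755)) (tt N24831 F128793) (tt N78165 (iv5 F360936)) (tt N81324 (iv6 F274291)) (tt N64544 (iv7 F332646)))
theorem Q47427 : ∀ i, i < 47427 → P i := stepQ 47426 Q47426 (allL N47426 (tt N81355 D175403) (tt N81356 D175404) (tt N78206 (iv2 F320442)) (tt N78165 (iv3 F360935)) (tt N78199 (iv4 F316168)) (tt N24770 (iv5 D83756)) (tt N53593 (iv6 F367145)) (tt N78209 (iv7 F320450)))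
theorem Q47428 : ∀ i, i < 47428 → P i := stepQ 47427 Q47427 (allL N47427 (tt N78011 (iv1 F332253)) (tt N78216 (iv0 F342235)) (tt N81299 (iv2 F274185)) (tt N64544 (iv3 F332645)) (tt N24771 F128794) (tt N78209 (iv5 F320449)) (tt N81357 D175408) (tt N24770 (iv7 D83757)))
theorem Q47429 : ∀ i, i < 47429 → P i := stepQ 47428 Q47428 (allL N47428 (tt N75301 (iv1 F376353)) (tt N75294 (iv0 F364023)) (tt N75298 (iv2 F354818)) (tt N24834 F128795) (tt N81357 (iv4 F274460)) (tt N63626 (iv5 F188514)) (tt N24771 (iv6 D83758)) (tt N75299 (iv7 F354822)))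
theorem Q47430 : ∀ i, i < 47430 → P i := stepQ 47429 Q47429 (allL N47429 (tt N28172 (iv1 F310425)) (tt N64893 F198464) (tt N45548 F128796) (tt N28156 F128797) (tt N24773 F128798) (tt N53740 (iv5 F310431)) (tt N24772 (iv6 D83759)) (tt N64894 (iv7 F198467)))
theorem Q47431 : ∀ i, i < 47431 → P i := stepQ 47430 Q47430 (allL N47430 (tt N24793 (iv1 F308852)) (tt N24773 (iv0 D83760)) (tt N45553 F198136) (tt N43192 (iv3 F199895)) (tt N28783 (iv4 F308281)) (tt N48323 (iv5 F330870)) (tt N24774 F307034) (tt N45554 (iv7 F198135)))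
theorem Q47432 : ∀ i, i < 47432 → P i := stepQ 47431 Q47431 (allL N47431 (tt N24773 (iv1 D83761)) (tt N24793 F309545) (tt N45554 (iv2 F198137)) (tt N81319 (iv3 F337603)) (tt N81358 D175415) (tt N78471 (iv5 F330874)) (tt N80323 (iv6 F309570)) (tt N45553 F198138))
theorem Q47433 : ∀ i, i < 47433 → P i := stepQ 47432 Q47432 (allL N47432 (tt N47287 (iv1 F310713)) (tt N47290 F308627) (tt N45555 F128800) (tt N24776 F128801) (tt N81359 D175420) (tt N24773 (iv5 D83762)) (tt N28006 F128802) (tt N80882 (iv7 F310715)))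
theorem Q47434 : ∀ i, i < 47434 → P i := stepQ 47433 Q47433 (allL N47433 (tt N48049 F307032) (tt N28793 F308154) (tt N74525 (iv2 F315647)) (tt N24774 (iv3 D83765)) (tt N81360 D175424) (tt N76723 F307033) (tt N43192 (iv6 F308851)) (tt N78580 (iv7 F249603)))
theorem Q47435 : ∀ i, i < 47435 → P i := stepQ 47434 Q47434 (allL N47434 (tt N45519 F303274) (tt N79729 (iv0 F322736)) (tt N48300 F330863) (tt N76723 (iv3 F305500)) (tt N81361 D175429) (tt N24774 (iv5 D83767)) (tt N35524 (iv6 F330868)) (tt N78581 (iv7 F249605)))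
theorem Q47436 : ∀ i, i < 47436 → P i := stepQ 47435 Q47435 (allL N47435 (tt N79729 (iv1 F322737)) (tt N45519 F303273) (tt N78581 (iv2 F249604)) (tt N68496 (iv3 F315645)) (tt N81362 D175432) (tt N24775 (iv5 D83772)) (tt N69229 (iv6 F317562)) (tt N48300 F330867))
theorem Q47437 : ∀ i, i < 47437 → P i := stepQ 47436 Q47436 (allL N47436 (tt N78609 (iv1 F249722)) (tt N28800 F249609) (tt N78582 (iv2 F249606)) (tt N74524 (iv3 F315646)) (tt N28785 (iv4 F155181)) (tt N80319 (iv5 F308593)) (tt N24775 (iv6 D83773)) (tt N80323 (iv7 F307530)))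
theorem Q47438 : ∀ i, i < 47438 → P i := stepQ 47437 Q47437 (allL N47437 (tt N78585 (iv1 F249618)) (tt N24776 (iv0 D83774)) (tt N78583 F271831) (tt N80004 (iv3 F307508)) (tt N67270 (iv4 F333054)) (tt N47271 F305478) (tt N65432 (iv6 F336017)) (tt N78584 F271829))
theorem Q47439 : ∀ i, i < 47439 → P i := stepQ 47438 Q47438 (allL N47438 (tt N24776 (iv1 D83775)) (tt N78585 F249617) (tt N78584 (iv2 F271828)) (tt N37595 F317100) (tt N67266 (iv4 F319379)) (tt N37594 F317101) (tt N60629 (iv6 F342142)) (tt N78583 (iv7 F271830)))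
theorem Q47440 : ∀ i, i < 47440 → P i := stepQ 47439 Q47439 (allL N47439 (tt N60434 (iv1 F327546)) (tt N60623 (iv0 F327543)) (tt N60659 (iv2 F326204)) (tt N67426 (iv3 F347405)) (tt N24776 (iv4 D83776)) (tt N67425 (iv5 F347404)) (tt N28010 F128814) (tt N60660 (iv7 F327542)))
theorem Q47441 : ∀ i, i < 47441 → P i := stepQ 47440 Q47440 (allL N47440 (tt N78584 (iv1 F249610)) (tt N78583 F249616) (tt N78585 (iv2 F249613)) (tt N80882 (iv3 F310714)) (tt N60660 (iv4 F327541)) (tt N24777 F128815) (tt N81363 D175446) (tt N24776 (iv7 D83777)))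
theorem Q47442 : ∀ i, i < 47442 → P i := stepQ 47441 Q47441 (allL N47441 (tt N80884 (iv1 F309536)) (tt N74755 (iv0 F346419)) (tt N78573 (iv2 F249547)) (tt N81304 (iv3 F274242)) (tt N65163 (iv4 F334606)) (tt N24778 (iv5 D83781)) (tt N81364 D175450) (tt N78574 (iv7 F249554)))
theorem Q47443 : ∀ i, i < 47443 → P i := stepQ 47442 Q47442 (allL N47442 (tt N28801 F311764) (tt N45538 (iv0 F306604)) (tt N45621 (iv2 F306602)) (tt N81305 (iv3 F274243)) (tt N28771 F184684) (tt N80831 F271843) (tt N24778 (iv6 D83782)) (tt N45552 (iv7 F305489)))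
theorem Q47444 : ∀ i, i < 47444 → P i := stepQ 47443 Q47443 (allL N47443 (tt N28791 F307713) (tt N34287 (iv0 F305700)) (tt N43178 (iv2 F306606)) (tt N24779 (iv3 D83784)) (tt N42480 (iv4 F306608)) (tt N81365 D175455) (tt N33923 (iv6 F305491)) (tt N78572 (iv7 F249546)))
theorem Q47445 : ∀ i, i < 47445 → P i := stepQ 47444 Q47444 (allL N47444 (tt N74755 (iv1 F346420)) (tt N80884 (iv0 F309535)) (tt N78574 (iv2 F249553)) (tt N81365 (iv3 F274706)) (tt N65164 (iv4 F336438)) (tt N24779 (iv5 D83786)) (tt N80823 (iv6 F306609)) (tt N78573 (iv7 F249548)))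
theorem Q47446 : ∀ i, i < 47446 → P i := stepQ 47445 Q47445 (allL N47445 (tt N78577 (iv1 F249564)) (tt N24780 (iv0 D83788)) (tt N78575 F262968) (tt N81307 (iv3 F363840)) (tt N80288 (iv4 F298402)) (tt N78606 (iv5 F249711)) (tt N75782 (iv6 F346442)) (tt N78576 F262966))
theorem Q47447 : ∀ i, i < 47447 → P i := stepQ 47446 Q47446 (allL N47446 (tt N24780 (iv1 D83789)) (tt N78577 F249563) (tt N78576 (iv2 F262965)) (tt N81366 D175462) (tt N75788 (iv4 F336429)) (tt N47288 (iv5 F128819)) (tt N75787 (iv6 F334609)) (tt N78575 (iv7 F262967)))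
theorem Q47448 : ∀ i, i < 47448 → P i := stepQ 47447 Q47447 (allL N47447 (tt N78576 (iv1 F249557)) (tt N78575 F249562) (tt N78577 (iv2 F249560)) (tt N34728 F304584) (tt N79275 (iv4 F298397)) (tt N24781 F128822) (tt N75011 (iv6 F315403)) (tt N24780 (iv7 D83791)))
theorem Q47449 : ∀ i, i < 47449 → P i := stepQ 47448 Q47448 (allL N47448 (tt N28572 F128826) (tt N25418 (iv0 F128827)) (tt N46679 F128823) (tt N24782 (iv3 D83792)) (tt N52936 (iv4 F151890)) (tt N26020 F128824) (tt N57438 (iv6 F305766)) (tt N28282 F128825))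
theorem Q47450 : ∀ i, i < 47450 → P i := stepQ 47449 Q47449 (allL N47449 (tt N28769 (iv1 F332407)) (tt N35086 (iv0 F332408)) (tt N28284 F128829) (tt N77246 (iv3 F242109)) (tt N47673 (iv4 F129402)) (tt N81367 D175477) (tt N24783 (iv6 D83794)) (tt N57451 (iv7 F314382)))
theorem Q47451 : ∀ i, i < 47451 → P i := stepQ 47450 Q47450 (allL N47450 (tt N43611 F310342) (tt N24784 (iv0 D83795)) (tt N43746 (iv2 F348218)) (tt N35035 (iv3 F348219)) (tt N48456 (iv4 F348220)) (tt N81368 D175482) (tt N35032 (iv6 F348221)) (tt N43792 (iv7 F348222)))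
theorem Q47452 : ∀ i, i < 47452 → P i := stepQ 47451 Q47451 (allL N47451 (tt N24784 (iv1 D83796)) (tt N43611 F310343) (tt N43792 F348223) (tt N81369 D175485) (tt N81370 D175486) (tt N81371 D175487) (tt N76478 (iv6 F348225)) (tt N43746 F348224))
theorem Q47453 : ∀ i, i < 47453 → P i := stepQ 47452 Q47452 (allL N47452 (tt N81372 D175489) (tt N81373 D175490) (tt N43794 F310344) (tt N24787 F128830) (tt N77357 (iv4 F354907)) (tt N24784 (iv5 D83797)) (tt N27920 F128831) (tt N81374 D175492))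
theorem Q47454 : ∀ i, i < 47454 → P i := stepQ 47453 Q47453 (allL N47453 (tt N43792 F310345) (tt N43746 F310347) (tt N43611 F310346) (tt N24788 F128832) (tt N43912 F314823) (tt N81374 (iv5 F274748)) (tt N28295 F128833) (tt N24784 (iv7 D83798)))
theorem Q47455 : ∀ i, i < 47455 → P i := stepQ 47454 Q47454 (allL N47454 (tt N43797 F312614) (tt N81375 D175505) (tt N28851 F274791) (tt N42555 (iv3 F311723)) (tt N81376 D175506) (tt N24785 (iv5 D83802)) (tt N81377 D175507) (tt N28855 (iv7 F274801)))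
theorem Q47456 : ∀ i, i < 47456 → P i := stepQ 47455 Q47455 (allL N47455 (tt N28568 (iv1 F313107)) (tt N81378 D175514) (tt N42563 (iv2 F313108)) (tt N24786 (iv3 D83805)) (tt N67016 (iv4 F311785)) (tt N81379 D175517) (tt N35156 F315048) (tt N28849 F274794))
theorem Q47457 : ∀ i, i < 47457 → P i := stepQ 47456 Q47456 (allL N47456 (tt N81375 (iv1 F274761)) (tt N43797 F312613) (tt N28855 (iv2 F274800)) (tt N81379 (iv3 F274846)) (tt N81380 D175519) (tt N24786 (iv5 D83807)) (tt N81381 D175520) (tt N28851 F274796))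
theorem Q47458 : ∀ i, i < 47458 → P i := stepQ 47457 Q47457 (allL N47457 (tt N81358 F310374) (tt N28783 (iv0 F156367)) (tt N28856 (iv2 F274802)) (tt N35156 (iv3 F312596)) (tt N80711 F272770) (tt N54033 (iv5 F155785)) (tt N24786 (iv6 D83808)) (tt N43729 F311762))
theorem Q47459 : ∀ i, i < 47459 → P i := stepQ 47458 Q47458 (allL N47458 (tt N28848 (iv1 F128842)) (tt N24787 (iv0 D83809)) (tt N28857 (iv2 F338106)) (tt N81382 D175524) (tt N81383 D175525) (tt N81384 D175526) (tt N81385 D175527) (tt N28858 F338105))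
theorem Q47460 : ∀ i, i < 47460 → P i := stepQ 47459 Q47459 (allL N47459 (tt N24787 (iv1 D83810)) (tt N28848 F128837) (tt N28858 F338104) (tt N81386 D175529) (tt N81387 D175530) (tt N49661 (iv5 F137026)) (tt N81388 D175531) (tt N28857 (iv7 F338107)))
theorem Q47461 : ∀ i, i < 47461 → P i := stepQ 47460 Q47460 (allL N47460 (tt N81389 D175532) (tt N81390 D175533) (tt N28859 F128838) (tt N77359 (iv3 F354900)) (tt N24787 (iv4 D83811)) (tt N81391 D175535) (tt N27925 F128839) (tt N81392 D175536))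
theorem Q47462 : ∀ i, i < 47462 → P i := stepQ 47461 Q47461 (allL N47461 (tt N28858 (iv1 F128843)) (tt N28857 F128844) (tt N28848 F128840) (tt N81374 (iv3 F274747)) (tt N81392 (iv4 F274874)) (tt N24788 F128841) (tt N81393 D175537) (tt N24787 (iv7 D83812)))
theorem Q47463 : ∀ i, i < 47463 → P i := stepQ 47462 Q47462 (allL N47462 (tt N24791 (iv1 F128860)) (tt N24789 (iv0 D83826)) (tt N28073 F154537) (tt N75868 (iv3 F312627)) (tt N46837 F154538) (tt N81394 D175565) (tt N28080 F154539) (tt N26070 F154540))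
theorem Q47464 : ∀ i, i < 47464 → P i := stepQ 47463 Q47463 (allL N47463 (tt N53579 F154541) (tt N81395 D175571) (tt N64525 (iv2 F310432)) (tt N77256 (iv3 F310382)) (tt N81396 D175572) (tt N24789 (iv5 D83829)) (tt N81397 D175573) (tt N80880 F274581))
theorem Q47465 : ∀ i, i < 47465 → P i := stepQ 47464 Q47464 (allL N47464 (tt N24792 (iv1 F128865)) (tt N24790 (iv0 D83832)) (tt N80879 F271991) (tt N76550 (iv3 F335505)) (tt N29599 (iv4 F334802)) (tt N47314 F128861) (tt N81398 D175579) (tt N32937 F334799))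
theorem Q47466 : ∀ i, i < 47466 → P i := stepQ 47465 Q47465 (allL N47465 (tt N24790 (iv1 D83833)) (tt N24792 F128862) (tt N32937 F334788) (tt N81315 (iv3 F339753)) (tt N32936 F334789) (tt N78604 F272024) (tt N80895 F272127) (tt N80879 F271992))
theorem Q47467 : ∀ i, i < 47467 → P i := stepQ 47466 Q47466 (allL N47466 (tt N81395 (iv1 F274904)) (tt N53579 F274583) (tt N80880 F274582) (tt N25018 (iv3 F315065)) (tt N81399 D175625) (tt N24791 (iv5 D83849)) (tt N81400 D175626) (tt N64525 F312606))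
theorem Q47468 : ∀ i, i < 47468 → P i := stepQ 47467 Q47467 (allL N47467 (tt N76616 (iv1 F314192)) (tt N76615 (iv0 F314191)) (tt N76617 (iv2 F314195)) (tt N74959 (iv3 F359174)) (tt N24792 (iv4 D83851)) (tt N81401 D175630) (tt N74957 (iv6 F321089)) (tt N61064 (iv7 F311746)))
theorem Q47469 : ∀ i, i < 47469 → P i := stepQ 47468 Q47468 (allL N47468 (tt N47925 (iv1 F334694)) (tt N47929 (iv0 F334695)) (tt N80881 F274579) (tt N41680 F318962) (tt N74957 (iv4 F321088)) (tt N46203 (iv5 F320068)) (tt N24792 (iv6 D83852)) (tt N75009 (iv7 F321091)))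
theorem Q47470 : ∀ i, i < 47470 → P i := stepQ 47469 Q47469 (allL N47469 (tt N47290 (iv1 F262973)) (tt N47287 (iv0 F128871)) (tt N80882 (iv2 F274556)) (tt N45561 (iv3 F310716)) (tt N81402 D175636) (tt N24793 (iv5 D83855)) (tt N46203 F321800) (tt N45555 (iv7 F309555)))
theorem Q47471 : ∀ i, i < 47471 → P i := stepQ 47470 Q47470 (allL N47470 (tt N78573 (iv1 F346429)) (tt N78574 (iv0 F336431)) (tt N74755 (iv2 F346423)) (tt N24794 (iv3 D83858)) (tt N79284 (iv4 F347983)) (tt N81218 (iv5 F309540)) (tt N74754 (iv6 F346432)) (tt N80884 F273752))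
theorem Q47472 : ∀ i, i < 47472 → P i := stepQ 47471 Q47471 (allL N47471 (tt N81403 D175644) (tt N81404 D175645) (tt N80883 (iv2 F273754)) (tt N76572 (iv3 F339583)) (tt N24794 (iv4 D83859)) (tt N81405 D175647) (tt N76570 (iv6 F346439)) (tt N50076 (iv7 F324795)))
theorem Q47473 : ∀ i, i < 47473 → P i := stepQ 47472 Q47472 (allL N47472 (tt N61581 (iv1 F334793)) (tt N80320 (iv0 F308599)) (tt N80321 (iv2 F308608)) (tt N81218 (iv3 F309539)) (tt N81406 D175649) (tt N24794 (iv5 D83860)) (tt N81218 F273722) (tt N44793 F273725))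
theorem Q47474 : ∀ i, i < 47474 → P i := stepQ 47473 Q47473 (allL N47473 (tt N32757 F346437) (tt N74751 (iv0 F346436)) (tt N62595 (iv2 F352155)) (tt N74754 (iv3 F346431)) (tt N76570 (iv4 F346438)) (tt N74754 (iv5 F346435)) (tt N24794 (iv6 D83861)) (tt N74752 (iv7 F346440)))
theorem Q47475 : ∀ i, i < 47475 → P i := stepQ 47474 Q47474 (allL N47474 (tt N81404 (iv1 F274970)) (tt N81403 F274968) (tt N50076 (iv2 F324793)) (tt N72282 (iv3 F339593)) (tt N24795 (iv4 D83864)) (tt N50916 (iv5 F324796)) (tt N26797 F323483) (tt N80883 (iv7 F273749)))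
theorem Q47476 : ∀ i, i < 47476 → P i := stepQ 47475 Q47475 (allL N47475 (tt N67917 (iv1 F319784)) (tt N54885 (iv0 F321776)) (tt N50075 (iv2 F321770)) (tt N66754 (iv3 F320189)) (tt N26797 (iv4 F321777)) (tt N50286 F319946) (tt N24795 (iv6 D83866)) (tt N49807 (iv7 F321778)))
theorem Q47477 : ∀ i, i < 47477 → P i := stepQ 47476 Q47476 (allL N47476 (tt N80886 (iv1 F272041)) (tt N24796 (iv0 D83867)) (tt N80885 (iv2 F326553)) (tt N73155 (iv3 F339631)) (tt N80712 F272776) (tt N61582 (iv5 F353840)) (tt N32759 (iv6 F326540)) (tt N50763 (iv7 F326542)))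
theorem Q47478 : ∀ i, i < 47478 → P i := stepQ 47477 Q47477 (allL N47477 (tt N24796 (iv1 D83868)) (tt N80886 F272040) (tt N50763 (iv2 F326541)) (tt N49881 (iv3 F326543)) (tt N80713 F273884) (tt N50263 (iv5 F326545)) (tt N25564 (iv6 F326546)) (tt N80885 (iv7 F326554)))
theorem Q47479 : ∀ i, i < 47479 → P i := stepQ 47478 Q47478 (allL N47478 (tt N63307 (iv1 F361658)) (tt N81407 D175675) (tt N75697 (iv2 F327771)) (tt N24796 (iv3 D83869)) (tt N81324 (iv4 F274290)) (tt N74899 (iv5 F336801)) (tt N24831 F128875) (tt N81408 D175678))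
theorem Q47480 : ∀ i, i < 47480 → P i := stepQ 47479 Q47479 (allL N47479 (tt N78887 (iv1 F354891)) (tt N81409 D175680) (tt N32565 F327304) (tt N74899 (iv3 F336800)) (tt N81410 D175681) (tt N24796 (iv5 D83870)) (tt N69186 (iv6 F324702)) (tt N81411 D175683))
theorem Q47481 : ∀ i, i < 47481 → P i := stepQ 47480 Q47480 (allL N47480 (tt N50763 (iv1 F326556)) (tt N80885 F272039) (tt N80886 (iv2 F272037)) (tt N81408 (iv3 F275056)) (tt N24797 F128876) (tt N81411 (iv5 F275061)) (tt N81412 D175684) (tt N24796 (iv7 D83871)))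
theorem Q47482 : ∀ i, i < 47482 → P i := stepQ 47481 Q47481 (allL N47481 (tt N80903 (iv1 F272177)) (tt N80902 F272176) (tt N80887 (iv2 F272042)) (tt N75299 (iv3 F354820)) (tt N81412 (iv4 F275062)) (tt N81413 D175685) (tt N24797 (iv6 D83872)) (tt N24834 F128877))
theorem Q47483 : ∀ i, i < 47483 → P i := stepQ 47482 Q47482 (allL N47482 (tt N28804 (iv1 F128880)) (tt N28803 F128881) (tt N28806 F128878) (tt N63608 (iv3 F188281)) (tt N81414 D175686) (tt N24798 (iv5 D83873)) (tt N81413 (iv6 F275065)) (tt N24801 F128879))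
theorem Q47484 : ∀ i, i < 47484 → P i := stepQ 47483 Q47483 (allL N47483 (tt N45621 (iv1 F309560)) (tt N45552 (iv0 F309561)) (tt N45538 (iv2 F309562)) (tt N24799 (iv3 D83875)) (tt N64563 (iv4 F309563)) (tt N73192 (iv5 F331847)) (tt N78609 (iv6 F311717)) (tt N28801 F274681))
theorem Q47485 : ∀ i, i < 47485 → P i := stepQ 47484 Q47484 (allL N47484 (tt N28080 F275096) (tt N26068 (iv0 F275097)) (tt N28077 F274682) (tt N65014 (iv3 F311718)) (tt N24799 (iv4 D83876)) (tt N81415 D175696) (tt N81416 D175697) (tt N28078 F274683))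
theorem Q47486 : ∀ i, i < 47486 → P i := stepQ 47485 Q47485 (allL N47485 (tt N81417 D175698) (tt N81418 D175699) (tt N28799 F274684) (tt N73192 (iv3 F331846)) (tt N81419 D175700) (tt N24799 (iv5 D83877)) (tt N81420 D175701) (tt N28802 F274685))
theorem Q47487 : ∀ i, i < 47487 → P i := stepQ 47486 Q47486 (allL N47486 (tt N78582 (iv1 F274615)) (tt N80323 F309520) (tt N28800 F274678) (tt N78609 (iv3 F311716)) (tt N81416 (iv4 F275089)) (tt N69183 (iv5 F321104)) (tt N24799 (iv6 D83878)) (tt N78609 F274679))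
theorem Q47488 : ∀ i, i < 47488 → P i := stepQ 47487 Q47487 (allL N47487 (tt N81418 (iv1 F275106)) (tt N81417 F275103) (tt N28802 F274692) (tt N42884 F325023) (tt N81421 D175711) (tt N24800 (iv5 D83882)) (tt N42883 (iv6 F325997)) (tt N28799 F274693))
theorem Q47489 : ∀ i, i < 47489 → P i := stepQ 47488 Q47488 (allL N47488 (tt N28806 (iv1 F128884)) (tt N24801 (iv0 D83884)) (tt N28803 F286952) (tt N80833 (iv3 F308626)) (tt N81422 D175716) (tt N80298 (iv5 F304821)) (tt N81423 D175717) (tt N28804 F286953))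
theorem Q47490 : ∀ i, i < 47490 → P i := stepQ 47489 Q47489 (allL N47489 (tt N81424 D175722) (tt N81425 D175723) (tt N28805 F128886) (tt N81426 D175724) (tt N24801 (iv4 D83886)) (tt N53920 (iv5 F335336)) (tt N24842 F128887) (tt N81414 (iv7 F275068)))
theorem Q47491 : ∀ i, i < 47491 → P i := stepQ 47490 Q47490 (allL N47490 (tt N81193 (iv1 F319023)) (tt N53087 (iv0 F281956)) (tt N80889 (iv2 F279264)) (tt N53120 F155171) (tt N24802 (iv4 D83889)) (tt N81427 D175734) (tt N43656 F331863) (tt N80822 (iv7 F319029)))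
theorem Q47492 : ∀ i, i < 47492 → P i := stepQ 47491 Q47491 (allL N47491 (tt N45412 F321526) (tt N24823 F278411) (tt N80890 (iv2 F279266)) (tt N75404 (iv3 F344162)) (tt N81428 D175739) (tt N24802 (iv5 D83890)) (tt N75401 (iv6 F356064)) (tt N80823 (iv7 F320211)))
theorem Q47493 : ∀ i, i < 47493 → P i := stepQ 47492 Q47492 (allL N47492 (tt N49554 (iv1 F155434)) (tt N49546 F155433) (tt N24804 F128890) (tt N38297 F308286) (tt N24803 (iv4 D83897)) (tt N71173 (iv5 F310380)) (tt N38008 (iv6 F310381)) (tt N49552 (iv7 F155173)))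
theorem Q47494 : ∀ i, i < 47494 → P i := stepQ 47493 Q47493 (allL N47493 (tt N75786 (iv1 F334737)) (tt N80892 F272114) (tt N24805 F128891) (tt N38013 F312597) (tt N75256 (iv4 F319429)) (tt N24803 (iv5 D83898)) (tt N38011 (iv6 F315055)) (tt N80891 (iv7 F272109)))
theorem Q47495 : ∀ i, i < 47495 → P i := stepQ 47494 Q47494 (allL N47494 (tt N49552 (iv1 F155176)) (tt N24804 (iv0 D83900)) (tt N49554 (iv2 F155174)) (tt N25252 F128893) (tt N47992 (iv4 F130423)) (tt N81429 D175768) (tt N54237 (iv6 F156282)) (tt N49546 F155175))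
theorem Q47496 : ∀ i, i < 47496 → P i := stepQ 47495 Q47495 (allL N47495 (tt N81430 D175769) (tt N81431 D175770) (tt N71173 (iv2 F310379)) (tt N34525 F304333) (tt N71169 (iv4 F366168)) (tt N24804 (iv5 D83902)) (tt N81432 D175772) (tt N80528 (iv7 F268234)))
theorem Q47497 : ∀ i, i < 47497 → P i := stepQ 47496 Q47496 (allL N47496 (tt N80891 (iv1 F272111)) (tt N24805 (iv0 D83904)) (tt N75786 (iv2 F334738)) (tt N81335 (iv3 F334151)) (tt N75783 (iv4 F346450)) (tt N61283 (iv5 F334147)) (tt N61284 (iv6 F344941)) (tt N80892 (iv7 F344799)))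
theorem Q47498 : ∀ i, i < 47498 → P i := stepQ 47497 Q47497 (allL N47497 (tt N24805 (iv1 D83905)) (tt N80891 F272110) (tt N80892 (iv2 F344797)) (tt N81433 D175782) (tt N75782 (iv4 F344862)) (tt N81434 D175784) (tt N80288 (iv6 F346444)) (tt N75786 (iv7 F334741)))
theorem Q47499 : ∀ i, i < 47499 → P i := stepQ 47498 Q47498 (allL N47498 (tt N81435 D175786) (tt N78718 (iv0 F348510)) (tt N75256 (iv2 F319428)) (tt N30485 F321881) (tt N24805 (iv4 D83906)) (tt N30484 (iv5 F323563)) (tt N45651 F344839) (tt N70464 (iv7 F323565)))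
theorem Q47500 : ∀ i, i < 47500 → P i := stepQ 47499 Q47499 (allL N47499 (tt N64290 (iv1 F330899)) (tt N80666 (iv0 F330900)) (tt N38011 F317261) (tt N24811 F128895) (tt N45651 F344838) (tt N38003 (iv5 F319565)) (tt N24805 (iv6 D83907)) (tt N80665 (iv7 F336065)))
theorem Q47501 : ∀ i, i < 47501 → P i := stepQ 47500 Q47500 (allL N47500 (tt N80857 (iv1 F338573)) (tt N79914 (iv0 F338569)) (tt N80867 (iv2 F338577)) (tt N24808 (iv3 D83913)) (tt N79920 (iv4 F334826)) (tt N46739 F298372) (tt N81436 D175811) (tt N80868 (iv7 F340659)))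
theorem Q47502 : ∀ i, i < 47502 → P i := stepQ 47501 Q47501 (allL N47501 (tt N24868 F128910) (tt N24851 F128911) (tt N68245 F319760) (tt N61521 (iv3 F335160)) (tt N24808 (iv4 D83914)) (tt N38245 F319761) (tt N81437 D175814) (tt N61516 (iv7 F325736)))
theorem Q47503 : ∀ i, i < 47503 → P i := stepQ 47502 Q47502 (allL N47502 (tt N41686 (iv1 F334744)) (tt N45198 (iv0 F334745)) (tt N45196 F327360) (tt N81436 (iv3 F275217)) (tt N81437 (iv4 F275224)) (tt N46740 F298375) (tt N24808 (iv6 D83915)) (tt N45197 (iv7 F327894)))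
theorem Q47504 : ∀ i, i < 47504 → P i := stepQ 47503 Q47503 (allL N47503 (tt N24851 F128913) (tt N24868 F128914) (tt N61516 (iv2 F325733)) (tt N76344 (iv3 F335489)) (tt N24809 (iv4 D83917)) (tt N38248 F319751) (tt N61514 (iv6 F335495)) (tt N68245 F319752))
theorem Q47505 : ∀ i, i < 47505 → P i := stepQ 47504 Q47504 (allL N47504 (tt N44810 F128920) (tt N46429 F298163) (tt N44814 F298164) (tt N44427 F316062) (tt N24855 F128917) (tt N24809 (iv5 D83918)) (tt N44804 (iv6 F128919)) (tt N34823 F128916))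
theorem Q47506 : ∀ i, i < 47506 → P i := stepQ 47505 Q47505 (allL N47505 (tt N80881 F272007) (tt N75009 (iv0 F321090)) (tt N47929 F334696) (tt N81328 (iv3 F274365)) (tt N61514 (iv4 F335494)) (tt N47926 (iv5 F334698)) (tt N24809 (iv6 D83919)) (tt N47925 (iv7 F334699)))
theorem Q47507 : ∀ i, i < 47507 → P i := stepQ 47506 Q47506 (allL N47506 (tt N24818 (iv1 F128922)) (tt N24810 (iv0 D83920)) (tt N46441 (iv2 F298824)) (tt N81438 D175822) (tt N46427 F298344) (tt N38230 (iv5 F318967)) (tt N74944 (iv6 F347973)) (tt N47566 (iv7 F129072)))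
theorem Q47508 : ∀ i, i < 47508 → P i := stepQ 47507 Q47507 (allL N47507 (tt N24810 (iv1 D83921)) (tt N24818 F128923) (tt N47566 (iv2 F129071)) (tt N74778 (iv3 F335158)) (tt N46442 F301478) (tt N38231 F317508) (tt N81439 D175825) (tt N46441 F301479))
theorem Q47509 : ∀ i, i < 47509 → P i := stepQ 47508 Q47508 (allL N47508 (tt N24811 (iv1 D83925)) (tt N50755 F317576) (tt N50952 F317577) (tt N81330 (iv3 F341976)) (tt N27110 (iv4 F319799)) (tt N26549 (iv5 F319800)) (tt N81440 D175842) (tt N27109 F317578))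
theorem Q47510 : ∀ i, i < 47510 → P i := stepQ 47509 Q47509 (allL N47509 (tt N50952 (iv1 F319802)) (tt N27109 (iv0 F319803)) (tt N50755 F317579) (tt N80665 (iv3 F336063)) (tt N26425 (iv4 F319805)) (tt N29017 (iv5 F319748)) (tt N80897 (iv6 F272131)) (tt N24811 (iv7 D83927)))
theorem Q47511 : ∀ i, i < 47511 → P i := stepQ 47510 Q47510 (allL N47510 (tt N24826 (iv1 F312329)) (tt N78709 (iv0 F324709)) (tt N67923 (iv2 F311077)) (tt N75306 (iv3 F334046)) (tt N73719 (iv4 F336914)) (tt N24813 (iv5 D83938)) (tt N75304 (iv6 F338177)) (tt N67925 F308926))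
theorem Q47512 : ∀ i, i < 47512 → P i := stepQ 47511 Q47511 (allL N47511 (tt N47921 F316553) (tt N42408 F316469) (tt N24815 F128935) (tt N80891 (iv3 F272108)) (tt N41695 (iv4 F318696)) (tt N24814 (iv5 D83941)) (tt N65403 (iv6 F318698)) (tt N38013 (iv7 F311079)))
theorem Q47513 : ∀ i, i < 47513 → P i := stepQ 47512 Q47512 (allL N47512 (tt N48066 (iv1 F320198)) (tt N59937 (iv0 F320199)) (tt N65403 (iv2 F318697)) (tt N24819 F128939) (tt N36219 F321782) (tt N25278 (iv5 F319787)) (tt N24815 (iv6 D83950)) (tt N67929 (iv7 F319404)))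
theorem Q47514 : ∀ i, i < 47514 → P i := stepQ 47513 Q47513 (allL N47513 (tt N62824 (iv1 F323485)) (tt N62797 (iv0 F323486)) (tt N61726 (iv2 F339803)) (tt N24818 (iv3 D83955)) (tt N41704 F321781) (tt N61725 (iv5 F317535)) (tt N81441 D175930) (tt N62823 (iv7 F323490)))
theorem Q47515 : ∀ i, i < 47515 → P i := stepQ 47514 Q47514 (allL N47514 (tt N41994 F342078) (tt N81442 D175932) (tt N69222 (iv2 F317560)) (tt N81441 (iv3 F275292)) (tt N24819 F128942) (tt N81443 D175933) (tt N24818 (iv6 D83956)) (tt N50756 (iv7 F342081)))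
theorem Q47516 : ∀ i, i < 47516 → P i := stepQ 47515 Q47515 (allL N47515 (tt N80897 (iv1 F272134)) (tt N24819 (iv0 D83957)) (tt N80894 (iv2 F273889)) (tt N81341 (iv3 F354814)) (tt N81444 D175936) (tt N65431 (iv5 F353633)) (tt N81445 D175938) (tt N80895 F273888))
theorem Q47517 : ∀ i, i < 47517 → P i := stepQ 47516 Q47516 (allL N47516 (tt N24819 (iv1 D83958)) (tt N80897 F272133) (tt N80895 F273886) (tt N81446 D175939) (tt N32939 F334786) (tt N65432 (iv5 F336016)) (tt N32937 (iv6 F334787)) (tt N80894 (iv7 F273887)))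
theorem Q47518 : ∀ i, i < 47518 → P i := stepQ 47517 Q47517 (allL N47517 (tt N65157 (iv1 F354869)) (tt N76646 (iv0 F347779)) (tt N80896 (iv2 F272128)) (tt N25278 F321685) (tt N81447 D175943) (tt N24819 (iv5 D83959)) (tt N24821 F128943) (tt N79836 (iv7 F323365)))
theorem Q47519 : ∀ i, i < 47519 → P i := stepQ 47518 Q47518 (allL N47518 (tt N80895 (iv1 F272126)) (tt N80894 F272132) (tt N80897 (iv2 F272130)) (tt N67929 (iv3 F319403)) (tt N50756 (iv4 F342080)) (tt N79836 (iv5 F323364)) (tt N50755 (iv6 F315365)) (tt N24819 (iv7 D83960)))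
theorem Q47520 : ∀ i, i < 47520 → P i := stepQ 47519 Q47519 (allL N47519 (tt N46473 F303720) (tt N52845 (iv0 F151640)) (tt N80726 F270687) (tt N25275 (iv3 F323361)) (tt N24821 (iv4 D83962)) (tt N80726 (iv5 F270684)) (tt N81447 (iv6 F275294)) (tt N65404 (iv7 F322050)))
theorem Q47521 : ∀ i, i < 47521 → P i := stepQ 47520 Q47520 (allL N47520 (tt N80890 (iv1 F342681)) (tt N80823 (iv0 F342685)) (tt N24823 (iv2 D83966)) (tt N78709 (iv3 F324712)) (tt N79279 (iv4 F323221)) (tt N80342 (iv5 F303420)) (tt N78708 (iv6 F323223)) (tt N45412 F321525))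
theorem Q47522 : ∀ i, i < 47522 → P i := stepQ 47521 Q47521 (allL N47521 (tt N79278 (iv1 F323224)) (tt N79277 (iv0 F323226)) (tt N79279 (iv2 F323220)) (tt N30488 (iv3 F324292)) (tt N24823 (iv4 D83967)) (tt N57784 (iv5 F324293)) (tt N47047 (iv6 F323229)) (tt N46431 F321529))
theorem Q47523 : ∀ i, i < 47523 → P i := stepQ 47522 Q47522 (allL N47522 (tt N81428 (iv1 F342676)) (tt N81195 (iv0 F336415)) (tt N78708 (iv2 F323222)) (tt N24825 F128951) (tt N47047 (iv4 F323228)) (tt N81448 D175969) (tt N24823 (iv6 D83969)) (tt N45403 (iv7 F323232)))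
theorem Q47524 : ∀ i, i < 47524 → P i := stepQ 47523 Q47523 (allL N47523 (tt N24827 (iv1 F128954)) (tt N24824 (iv0 D83970)) (tt N47557 (iv2 F129052)) (tt N45039 F332635) (tt N47021 F128953) (tt N37136 F318983) (tt N81449 D175972) (tt N47072 (iv7 F128955)))
theorem Q47525 : ∀ i, i < 47525 → P i := stepQ 47524 Q47524 (allL N47524 (tt N24824 (iv1 D83971)) (tt N24827 F128956) (tt N47072 (iv2 F128957)) (tt N63410 (iv3 F347595)) (tt N27971 (iv4 F128958)) (tt N37137 F318984) (tt N81404 (iv6 F274973)) (tt N47557 (iv7 F129053)))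
theorem Q47526 : ∀ i, i < 47526 → P i := stepQ 47525 Q47525 (allL N47525 (tt N81450 D175978) (tt N81451 D175979) (tt N80899 (iv2 F272144)) (tt N37321 (iv3 F321111)) (tt N24825 F128959) (tt N81452 D175980) (tt N24824 (iv6 D83973)) (tt N46000 F325432))
theorem Q47527 : ∀ i, i < 47527 → P i := stepQ 47526 Q47526 (allL N47526 (tt N76644 F323371) (tt N24825 (iv0 D83974)) (tt N80900 (iv2 F355331)) (tt N32224 F342694) (tt N34403 (iv4 F324718)) (tt N32223 (iv5 F342695)) (tt N54885 (iv6 F323377)) (tt N79891 (iv7 F324720)))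
theorem Q47528 : ∀ i, i < 47528 → P i := stepQ 47527 Q47527 (allL N47527 (tt N24825 (iv1 D83975)) (tt N76644 (iv0 F321689)) (tt N79891 (iv2 F324719)) (tt N81349 (iv3 F365407)) (tt N76358 (iv4 F350990)) (tt N81453 D175990) (tt N81454 D175991) (tt N80900 (iv7 F355332)))
theorem Q47529 : ∀ i, i < 47529 → P i := stepQ 47528 Q47528 (allL N47528 (tt N57336 (iv1 F331956)) (tt N81455 D175992) (tt N48059 F327349) (tt N81448 (iv3 F275307)) (tt N81456 D175993) (tt N24825 (iv5 D83976)) (tt N65140 F199338) (tt N81457 D175994))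
theorem Q47530 : ∀ i, i < 47530 → P i := stepQ 47529 Q47529 (allL N47529 (tt N79891 (iv1 F324705)) (tt N80900 F272151) (tt N76644 F323366) (tt N45403 F323367) (tt N46000 (iv4 F324706)) (tt N81457 (iv5 F275320)) (tt N32755 F323368) (tt N24825 (iv7 D83977)))
theorem Q47531 : ∀ i, i < 47531 → P i := stepQ 47530 Q47530 (allL N47530 (tt N67925 (iv1 F312784)) (tt N67923 (iv0 F312785)) (tt N24826 (iv2 D83980)) (tt N45412 F321527) (tt N42302 F325799) (tt N37235 F310552) (tt N45411 (iv6 F321686)) (tt N78709 (iv7 F324713)))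
theorem Q47532 : ∀ i, i < 47532 → P i := stepQ 47531 Q47531 (allL N47531 (tt N81458 D176019) (tt N81459 D176020) (tt N46007 (iv2 F324715)) (tt N24827 (iv3 D83984)) (tt N74762 (iv4 F324707)) (tt N61722 (iv5 F319756)) (tt N34704 F323370) (tt N80898 (iv7 F272143)))
theorem Q47533 : ∀ i, i < 47533 → P i := stepQ 47532 Q47532 (allL N47532 (tt N35063 F315363) (tt N35062 F315364) (tt N25357 (iv2 F317571)) (tt N45410 (iv3 F317573)) (tt N34907 (iv4 F317574)) (tt N24828 (iv5 D83988)) (tt N69344 (iv6 F312793)) (tt N35061 (iv7 F317575)))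
theorem Q47534 : ∀ i, i < 47534 → P i := stepQ 47533 Q47533 (allL N47533 (tt N61757 (iv1 F335824)) (tt N61752 (iv0 F335825)) (tt N61753 (iv2 F335822)) (tt N24829 (iv3 D83991)) (tt N52584 (iv4 F335819)) (tt N69513 (iv5 F319744)) (tt N81460 D176045) (tt N61754 (iv7 F335817)))
theorem Q47535 : ∀ i, i < 47535 → P i := stepQ 47534 Q47534 (allL N47534 (tt N34403 (iv1 F326573)) (tt N76358 (iv0 F326574)) (tt N79890 F325739) (tt N81460 (iv3 F275337)) (tt N78623 (iv4 F300963)) (tt N81461 D176048) (tt N24829 (iv6 D83992)) (tt N32754 (iv7 F326575)))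
theorem Q47536 : ∀ i, i < 47536 → P i := stepQ 47535 Q47535 (allL N47535 (tt N81462 D176050) (tt N76037 (iv0 F336931)) (tt N78880 (iv2 F324634)) (tt N24830 (iv3 D83994)) (tt N43654 (iv4 F324635)) (tt N71779 (iv5 F324637)) (tt N32750 (iv6 F324638)) (tt N80901 (iv7 F272171)))
theorem Q47537 : ∀ i, i < 47537 → P i := stepQ 47536 Q47536 (allL N47536 (tt N61735 (iv1 F321107)) (tt N33002 (iv0 F321108)) (tt N61734 (iv2 F321109)) (tt N24832 F128965) (tt N81463 D176075) (tt N24831 (iv5 D83999)) (tt N38988 F325798) (tt N61733 F318978))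
theorem Q47538 : ∀ i, i < 47538 → P i := stepQ 47537 Q47537 (allL N47537 (tt N80484 (iv1 F364022)) (tt N81464 D176082) (tt N75699 (iv2 F326558)) (tt N76372 (iv3 F332648)) (tt N24834 F128967) (tt N81465 D176083) (tt N24833 (iv6 D84002)) (tt N81412 (iv7 F275063)))
theorem Q47539 : ∀ i, i < 47539 → P i := stepQ 47538 Q47538 (allL N47538 (tt N80887 (iv1 F272046)) (tt N24834 (iv0 D84003)) (tt N80902 (iv2 F347637)) (tt N81466 D176085) (tt N81467 D176086) (tt N81468 D176087) (tt N81469 D176088) (tt N80903 (iv7 F347642)))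
theorem Q47540 : ∀ i, i < 47540 → P i := stepQ 47539 Q47539 (allL N47539 (tt N24834 (iv1 D84004)) (tt N80887 F272045) (tt N80903 (iv2 F347641)) (tt N75384 (iv3 F347631)) (tt N81470 D176091) (tt N81471 D176092) (tt N75383 (iv6 F347634)) (tt N80902 (iv7 F347640)))
theorem Q47541 : ∀ i, i < 47541 → P i := stepQ 47540 Q47540 (allL N47540 (tt N81472 D176094) (tt N81473 D176095) (tt N80646 (iv2 F270129)) (tt N63626 (iv3 F188513)) (tt N54452 (iv4 F328319)) (tt N24834 (iv5 D84005)) (tt N24835 F128968) (tt N81413 (iv7 F275066)))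
theorem Q47542 : ∀ i, i < 47542 → P i := stepQ 47541 Q47541 (allL N47541 (tt N81474 D176110) (tt N81475 D176111) (tt N77687 (iv2 F344761)) (tt N24837 F128970) (tt N81476 D176112) (tt N24836 (iv5 D84010)) (tt N47229 (iv6 F331867)) (tt N64665 (iv7 F302340)))
theorem Q47543 : ∀ i, i < 47543 → P i := stepQ 47542 Q47542 (allL N47542 (tt N24839 (iv1 F128974)) (tt N24837 (iv0 D84012)) (tt N46674 (iv2 F128976)) (tt N81477 D176117) (tt N28577 F328302) (tt N44753 F128972) (tt N81478 D176119) (tt N79244 (iv7 F302330)))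
theorem Q47544 : ∀ i, i < 47544 → P i := stepQ 47543 Q47543 (allL N47543 (tt N24837 (iv1 D84013)) (tt N24839 F128977) (tt N79244 (iv2 F302328)) (tt N63614 (iv3 F233268)) (tt N28861 F328301) (tt N44801 (iv5 F128979)) (tt N67108 (iv6 F339210)) (tt N46674 F128978))
theorem Q47545 : ∀ i, i < 47545 → P i := stepQ 47544 Q47544 (allL N47544 (tt N48850 F329427) (tt N81479 D176121) (tt N80124 (iv2 F302332)) (tt N81480 D176122) (tt N24837 (iv4 D84014)) (tt N81481 D176123) (tt N81482 D176124) (tt N79245 (iv7 F302343)))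
theorem Q47546 : ∀ i, i < 47546 → P i := stepQ 47545 Q47545 (allL N47545 (tt N81483 D176125) (tt N81484 D176126) (tt N80125 (iv2 F302334)) (tt N47229 F331871) (tt N81482 (iv4 F275380)) (tt N79481 (iv5 F303621)) (tt N24837 (iv6 D84015)) (tt N81485 D176128))
theorem Q47547 : ∀ i, i < 47547 → P i := stepQ 47546 Q47546 (allL N47546 (tt N81479 (iv1 F275376)) (tt N48850 F329426) (tt N79245 (iv2 F302342)) (tt N63339 (iv3 F356224)) (tt N24839 (iv4 D84023)) (tt N81486 D176153) (tt N81487 D176154) (tt N80124 (iv7 F302333)))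
theorem Q47548 : ∀ i, i < 47548 → P i := stepQ 47547 Q47547 (allL N47547 (tt N81488 D176155) (tt N81489 D176156) (tt N79243 (iv2 F300996)) (tt N25141 (iv3 F313970)) (tt N81487 (iv4 F275400)) (tt N48389 F300824) (tt N24839 (iv6 D84024)) (tt N48145 (iv7 F313974)))
theorem Q47549 : ∀ i, i < 47549 → P i := stepQ 47548 Q47548 (allL N47548 (tt N81192 (iv1 F347447)) (tt N80824 (iv0 F347434)) (tt N76145 (iv2 F344753)) (tt N24840 (iv3 D84027)) (tt N81490 D176162) (tt N78618 (iv5 F249766)) (tt N81248 (iv6 F360719)) (tt N78617 F249764))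
theorem Q47550 : ∀ i, i < 47550 → P i := stepQ 47549 Q47549 (allL N47549 (tt N55371 (iv1 F328708)) (tt N47068 F128991) (tt N72002 (iv2 F325119)) (tt N54651 (iv3 F365115)) (tt N24840 (iv4 D84028)) (tt N53679 (iv5 F331190)) (tt N81491 D176167) (tt N71999 (iv7 F325115)))
theorem Q47551 : ∀ i, i < 47551 → P i := stepQ 47550 Q47550 (allL N47550 (tt N81492 D176168) (tt N60076 (iv0 F349922)) (tt N80645 (iv2 F270115)) (tt N81248 (iv3 F360717)) (tt N81491 (iv4 F275409)) (tt N57300 (iv5 F334615)) (tt N24840 (iv6 D84029)) (tt N81493 D176170))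
theorem Q47552 : ∀ i, i < 47552 → P i := stepQ 47551 Q47551 (allL N47551 (tt N54103 (iv1 F356397)) (tt N54193 (iv0 F356394)) (tt N54194 (iv2 F356221)) (tt N24842 (iv3 D84035)) (tt N54673 (iv4 F356396)) (tt N81494 D176191) (tt N81426 (iv6 F275150)) (tt N54195 (iv7 F356194)))
theorem Q47553 : ∀ i, i < 47553 → P i := stepQ 47552 Q47552 (allL N47552 (tt N81495 D176192) (tt N28900 F327383) (tt N54454 (iv2 F328324)) (tt N81494 (iv3 F275415)) (tt N80655 (iv4 F270243)) (tt N24842 (iv5 D84036)) (tt N51101 (iv6 F345036)) (tt N51135 (iv7 F335330)))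
theorem Q47554 : ∀ i, i < 47554 → P i := stepQ 47553 Q47553 (allL N47553 (tt N52791 (iv1 F151353)) (tt N24845 (iv0 D84062)) (tt N52796 (iv2 F281950)) (tt N64483 (iv3 F197306)) (tt N75199 (iv4 F305631)) (tt N75183 (iv5 F333945)) (tt N80381 (iv6 F305633)) (tt N52795 (iv7 F281953)))
theorem Q47555 : ∀ i, i < 47555 → P i := stepQ 47554 Q47554 (allL N47554 (tt N24845 (iv1 D84063)) (tt N52791 F151354) (tt N52795 (iv2 F281952)) (tt N81048 (iv3 F275509)) (tt N35380 (iv4 F305629)) (tt N75207 (iv5 F333947)) (tt N35379 (iv6 F304915)) (tt N52796 (iv7 F281951)))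
theorem Q47556 : ∀ i, i < 47556 → P i := stepQ 47555 Q47555 (allL N47555 (tt N52796 (iv1 F151372)) (tt N52795 F151371) (tt N24845 (iv2 D84064)) (tt N69618 (iv3 F309690)) (tt N46226 (iv4 F305167)) (tt N42161 F334059) (tt N43636 (iv6 F304134)) (tt N52791 F151352))
theorem Q47557 : ∀ i, i < 47557 → P i := stepQ 47556 Q47556 (allL N47556 (tt N76632 (iv1 F355531)) (tt N80149 (iv0 F334060)) (tt N42161 F334058) (tt N24846 F129051) (tt N42058 (iv4 F334061)) (tt N24845 (iv5 D84066)) (tt N42056 (iv6 F334062)) (tt N52797 (iv7 F151374)))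
theorem Q47558 : ∀ i, i < 47558 → P i := stepQ 47557 Q47557 (allL N47557 (tt N38233 (iv1 F318986)) (tt N47014 F129055) (tt N47523 F129052) (tt N79071 (iv3 F347605)) (tt N24846 (iv4 D84067)) (tt N38024 F317559) (tt N81496 D176270) (tt N47524 F129053))
theorem Q47559 : ∀ i, i < 47559 → P i := stepQ 47558 Q47558 (allL N47558 (tt N81497 D176271) (tt N81498 D176272) (tt N80904 (iv2 F272215)) (tt N42056 F334065) (tt N81496 (iv4 F275561)) (tt N46219 (iv5 F304136)) (tt N24846 (iv6 D84068)) (tt N42173 (iv7 F334066)))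
theorem Q47560 : ∀ i, i < 47560 → P i := stepQ 47559 Q47559 (allL N47559 (tt N47405 F129059) (tt N67966 (iv0 F315326)) (tt N67951 (iv2 F315284)) (tt N69620 (iv3 F313510)) (tt N24847 (iv4 D84071)) (tt N69394 (iv5 F344164)) (tt N76732 (iv6 F315792)) (tt N63696 (iv7 F315325)))
theorem Q47561 : ∀ i, i < 47561 → P i := stepQ 47560 Q47560 (allL N47560 (tt N70092 (iv1 F334097)) (tt N70095 (iv0 F334098)) (tt N80909 (iv2 F275603)) (tt N64225 (iv3 F311087)) (tt N41938 (iv4 F334100)) (tt N24847 (iv5 D84072)) (tt N42267 (iv6 F334101)) (tt N63697 (iv7 F315774)))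
theorem Q47562 : ∀ i, i < 47562 → P i := stepQ 47561 Q47561 (allL N47561 (tt N73656 (iv1 F330247)) (tt N73703 (iv0 F330292)) (tt N24849 F129061) (tt N77339 (iv3 F362091)) (tt N81499 D176312) (tt N24848 (iv5 D84079)) (tt N38614 (iv6 F320108)) (tt N73702 (iv7 F319105)))
theorem Q47563 : ∀ i, i < 47563 → P i := stepQ 47562 Q47562 (allL N47562 (tt N24849 (iv1 D84082)) (tt N73702 (iv0 F319101)) (tt N73703 (iv2 F319108)) (tt N81500 D176321) (tt N62880 (iv4 F334157)) (tt N80339 (iv5 F330262)) (tt N63546 (iv6 F337699)) (tt N73656 (iv7 F319107)))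
theorem Q47564 : ∀ i, i < 47564 → P i := stepQ 47563 Q47563 (allL N47563 (tt N81501 D176325) (tt N81502 D176326) (tt N81499 (iv2 F275626)) (tt N52582 (iv3 F348985)) (tt N24849 (iv4 D84083)) (tt N52581 (iv5 F352587)) (tt N75939 (iv6 F362058)) (tt N80466 (iv7 F335855)))
theorem Q47565 : ∀ i, i < 47565 → P i := stepQ 47564 Q47564 (allL N47564 (tt N64040 (iv1 F323532)) (tt N81503 D176331) (tt N38614 F321848) (tt N24852 F129063) (tt N75939 (iv4 F362057)) (tt N38601 F321849) (tt N24849 (iv6 D84084)) (tt N81504 D176333))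
theorem Q47566 : ∀ i, i < 47566 → P i := stepQ 47565 Q47565 (allL N47565 (tt N69619 (iv1 F315253)) (tt N31346 F346717) (tt N80194 (iv2 F330754)) (tt N24850 (iv3 D84091)) (tt N81505 D176359) (tt N34417 F312862) (tt N80187 (iv6 F346919)) (tt N78372 (iv7 F347926)))
theorem Q47567 : ∀ i, i < 47567 → P i := stepQ 47566 Q47566 (allL N47566 (tt N47006 F129073) (tt N38025 F315832) (tt N47507 F129071) (tt N81506 D176362) (tt N24850 (iv4 D84092)) (tt N37316 (iv5 F316621)) (tt N81507 D176363) (tt N47506 F129072))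
theorem Q47568 : ∀ i, i < 47568 → P i := stepQ 47567 Q47567 (allL N47567 (tt N81508 D176364) (tt N66994 (iv0 F346739)) (tt N80341 (iv2 F301480)) (tt N80187 (iv3 F346917)) (tt N81507 (iv4 F275659)) (tt N80183 (iv5 F358884)) (tt N24850 (iv6 D84094)) (tt N80181 (iv7 F358923)))
theorem Q47569 : ∀ i, i < 47569 → P i := stepQ 47568 Q47568 (allL N47568 (tt N68180 (iv1 F348990)) (tt N81509 D176368) (tt N61746 (iv2 F335810)) (tt N24851 (iv3 D84095)) (tt N52582 (iv4 F348986)) (tt N61744 (iv5 F321099)) (tt N51504 (iv6 F327764)) (tt N61750 (iv7 F348996)))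
theorem Q47570 : ∀ i, i < 47570 → P i := stepQ 47569 Q47569 (allL N47569 (tt N24852 (iv1 D84098)) (tt N49246 F328229) (tt N50079 (iv2 F328613)) (tt N60001 (iv3 F348911)) (tt N26804 (iv4 F328614)) (tt N26520 (iv5 F328615)) (tt N77463 (iv6 F352363)) (tt N26803 (iv7 F328612)))
theorem Q47571 : ∀ i, i < 47571 → P i := stepQ 47570 Q47570 (allL N47570 (tt N50079 F328230) (tt N26803 F328231) (tt N49246 F328232) (tt N81504 (iv3 F275639)) (tt N27108 F328233) (tt N25951 F328234) (tt N75184 (iv6 F343351)) (tt N24852 (iv7 D84100)))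
theorem Q47572 : ∀ i, i < 47572 → P i := stepQ 47571 Q47571 (allL N47571 (tt N46989 F319749) (tt N53122 (iv0 F300672)) (tt N49026 (iv2 F300673)) (tt N24853 (iv3 D84104)) (tt N34780 (iv4 F298946)) (tt N38247 (iv5 F317522)) (tt N34778 F298194) (tt N47237 F129092))
theorem Q47573 : ∀ i, i < 47573 → P i := stepQ 47572 Q47572 (allL N47572 (tt N37199 F315304) (tt N47363 (iv0 F206460)) (tt N47353 (iv2 F188457)) (tt N24854 (iv3 D84107)) (tt N25221 F129104) (tt N38244 F315305) (tt N34185 (iv6 F131605)) (tt N46138 F298732))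
theorem Q47574 : ∀ i, i < 47574 → P i := stepQ 47573 Q47573 (allL N47573 (tt N43190 (iv1 F199926)) (tt N67919 (iv0 F311013)) (tt N81301 (iv2 F274203)) (tt N24858 (iv3 D84120)) (tt N47027 F300367) (tt N64072 (iv5 F320328)) (tt N80322 (iv6 F303149)) (tt N45558 F129140))
theorem Q47575 : ∀ i, i < 47575 → P i := stepQ 47574 Q47574 (allL N47574 (tt N24861 (iv1 D84125)) (tt N79721 (iv0 F323690)) (tt N79726 (iv2 F323682)) (tt N68447 (iv3 F333448)) (tt N67922 (iv4 F311076)) (tt N81510 D176441) (tt N81040 (iv6 F345658)) (tt N79727 (iv7 F323689)))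
theorem Q47576 : ∀ i, i < 47576 → P i := stepQ 47575 Q47575 (allL N47575 (tt N79727 (iv1 F323685)) (tt N79726 (iv0 F323681)) (tt N24861 (iv2 D84126)) (tt N81301 F274202) (tt N24865 F129154) (tt N79722 (iv5 F322743)) (tt N81511 D176444) (tt N79721 (iv7 F323695)))
theorem Q47577 : ∀ i, i < 47577 → P i := stepQ 47576 Q47576 (allL N47576 (tt N69322 (iv1 F347001)) (tt N69325 (iv0 F346986)) (tt N81511 (iv2 F275746)) (tt N24862 F129156) (tt N24867 F129157) (tt N67655 (iv5 F307466)) (tt N24861 (iv6 D84128)) (tt N80322 (iv7 F263661)))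
theorem Q47578 : ∀ i, i < 47578 → P i := stepQ 47577 Q47577 (allL N47577 (tt N25096 F131854) (tt N25093 F131855) (tt N25102 F131829) (tt N24864 (iv3 D84146)) (tt N47397 (iv4 F129190)) (tt N78215 (iv5 F349779)) (tt N63518 F187793) (tt N25070 F155159))
theorem Q47579 : ∀ i, i < 47579 → P i := stepQ 47578 Q47578 (allL N47578 (tt N37545 F315823) (tt N69264 F315824) (tt N78556 (iv2 F249447)) (tt N25126 (iv3 F129191)) (tt N24864 (iv4 D84147)) (tt N81512 D176472) (tt N63742 (iv6 F189168)) (tt N63694 F188734))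
theorem Q47580 : ∀ i, i < 47580 → P i := stepQ 47579 Q47579 (allL N47579 (tt N36571 F319548) (tt N81050 F273224) (tt N80906 (iv2 F272220)) (tt N78215 (iv3 F349777)) (tt N43739 F339647) (tt N24864 (iv5 D84148)) (tt N81513 D176474) (tt N69859 (iv7 F336892)))
theorem Q47581 : ∀ i, i < 47581 → P i := stepQ 47580 Q47580 (allL N47580 (tt N69798 (iv1 F315800)) (tt N80907 F272230) (tt N24866 F129192) (tt N73702 (iv3 F319103)) (tt N81514 D176475) (tt N24865 (iv5 D84150)) (tt N81515 D176476) (tt N77339 (iv7 F362093)))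
theorem Q47582 : ∀ i, i < 47582 → P i := stepQ 47581 Q47581 (allL N47581 (tt N81516 D176477) (tt N80774 (iv0 F278521)) (tt N24867 F129193) (tt N48283 F330241) (tt N81511 (iv4 F275747)) (tt N81517 D176479) (tt N24865 (iv6 D84151)) (tt N81518 D176480))
theorem Q47583 : ∀ i, i < 47583 → P i := stepQ 47582 Q47582 (allL N47582 (tt N77339 (iv1 F362089)) (tt N24866 (iv0 D84152)) (tt N69798 (iv2 F315801)) (tt N80670 (iv3 F348514)) (tt N49630 (iv4 F339652)) (tt N80335 (iv5 F301463)) (tt N49629 (iv6 F339653)) (tt N80907 F272232))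
theorem Q47584 : ∀ i, i < 47584 → P i := stepQ 47583 Q47583 (allL N47583 (tt N24866 (iv1 D84153)) (tt N77339 (iv0 F362088)) (tt N80907 F272231) (tt N81519 D176485) (tt N69733 (iv4 F339664)) (tt N46890 F272227) (tt N75345 (iv6 F311872)) (tt N69798 (iv7 F315803)))
theorem Q47585 : ∀ i, i < 47585 → P i := stepQ 47584 Q47584 (allL N47584 (tt N52294 (iv1 F339692)) (tt N62876 (iv0 F339702)) (tt N81514 (iv2 F275777)) (tt N81520 D176490) (tt N24866 (iv4 D84154)) (tt N67405 (iv5 F339682)) (tt N81521 D176492) (tt N80908 (iv7 F272237)))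
theorem Q47586 : ∀ i, i < 47586 → P i := stepQ 47585 Q47585 (allL N47585 (tt N81522 D176493) (tt N81523 D176494) (tt N81515 (iv2 F275778)) (tt N24869 F129194) (tt N81521 (iv4 F275807)) (tt N81524 D176495) (tt N24866 (iv6 D84155)) (tt N75248 (iv7 F330309)))
theorem Q47587 : ∀ i, i < 47587 → P i := stepQ 47586 Q47586 (allL N47586 (tt N81518 (iv1 F275787)) (tt N24867 (iv0 D84156)) (tt N81516 (iv2 F278518)) (tt N64094 (iv3 F347491)) (tt N81525 D176499) (tt N78561 (iv5 F347496)) (tt N42718 (iv6 F347492)) (tt N80774 F275788))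
theorem Q47588 : ∀ i, i < 47588 → P i := stepQ 47587 Q47587 (allL N47587 (tt N24867 (iv1 D84157)) (tt N81518 F275786) (tt N80774 (iv2 F271519)) (tt N63559 (iv3 F243935)) (tt N77599 (iv4 F243933)) (tt N64145 (iv5 F344720)) (tt N63558 F243934) (tt N81516 (iv7 F278520)))
theorem Q47589 : ∀ i, i < 47589 → P i := stepQ 47588 Q47588 (allL N47588 (tt N81526 D176502) (tt N81527 D176503) (tt N81517 (iv2 F275780)) (tt N24871 F129195) (tt N81528 D176504) (tt N24867 (iv5 D84158)) (tt N81524 (iv6 F275809)) (tt N80368 (iv7 F303731)))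
theorem Q47590 : ∀ i, i < 47590 → P i := stepQ 47589 Q47589 (allL N47589 (tt N80774 (iv1 F278522)) (tt N81516 F275785) (tt N81518 (iv2 F275782)) (tt N24872 F129196) (tt N80322 (iv4 F263660)) (tt N80368 (iv5 F303730)) (tt N47027 F129197) (tt N24867 (iv7 D84159)))
theorem Q47591 : ∀ i, i < 47591 → P i := stepQ 47590 Q47590 (allL N47590 (tt N81529 D176506) (tt N81530 D176507) (tt N81531 D176508) (tt N24868 (iv3 D84160)) (tt N81520 (iv4 F275806)) (tt N55408 (iv5 F326537)) (tt N54840 (iv6 F355651)) (tt N51494 (iv7 F327753)))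
theorem Q47592 : ∀ i, i < 47592 → P i := stepQ 47591 Q47591 (allL N47591 (tt N81444 (iv1 F353839)) (tt N32939 F353838) (tt N73780 (iv2 F330299)) (tt N54840 (iv3 F355650)) (tt N24869 F129198) (tt N54894 (iv5 F355836)) (tt N24868 (iv6 D84161)) (tt N49247 (iv7 F327767)))
theorem Q47593 : ∀ i, i < 47593 → P i := stepQ 47592 Q47592 (allL N47592 (tt N31334 (iv1 F355837)) (tt N42089 (iv0 F355838)) (tt N59992 (iv2 F330301)) (tt N81524 (iv3 F275808)) (tt N81532 D176525) (tt N24869 (iv5 D84164)) (tt N24871 F129199) (tt N59993 (iv7 F330315)))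
theorem Q47594 : ∀ i, i < 47594 → P i := stepQ 47593 Q47593 (allL N47593 (tt N67902 (iv1 F312114)) (tt N31348 (iv0 F332098)) (tt N67906 (iv2 F314281)) (tt N24870 (iv3 D84166)) (tt N65396 (iv4 F201395)) (tt N48270 F332120) (tt N45678 F301024) (tt N67905 (iv7 F314287)))
theorem Q47595 : ∀ i, i < 47595 → P i := stepQ 47594 Q47594 (allL N47594 (tt N46672 F129200) (tt N46869 F129201) (tt N80372 (iv2 F303744)) (tt N81533 D176530) (tt N24871 (iv4 D84167)) (tt N80372 (iv5 F303745)) (tt N81532 (iv6 F275834)) (tt N80369 (iv7 F303736)))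
theorem Q47596 : ∀ i, i < 47596 → P i := stepQ 47595 Q47595 (allL N47595 (tt N68794 (iv1 F317956)) (tt N24873 (iv0 D84169)) (tt N47193 F275855) (tt N64830 (iv3 F303629)) (tt N81534 D176535) (tt N67626 (iv5 F319326)) (tt N47180 (iv6 F275857)) (tt N70046 (iv7 F317949)))
theorem Q47597 : ∀ i, i < 47597 → P i := stepQ 47596 Q47596 (allL N47596 (tt N24873 (iv1 D84170)) (tt N68794 (iv0 F317955)) (tt N70046 (iv2 F317946)) (tt N37065 F315816) (tt N81535 D176540) (tt N37900 (iv5 F318038)) (tt N47034 F303714) (tt N47193 (iv7 F275854)))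
theorem Q47598 : ∀ i, i < 47598 → P i := stepQ 47597 Q47597 (allL N47597 (tt N49268 (iv1 F327757)) (tt N49267 (iv0 F327758)) (tt N25934 (iv2 F327754)) (tt N68779 (iv3 F321346)) (tt N25927 F327293) (tt N47026 F129210) (tt N24874 (iv6 D84173)) (tt N49257 (iv7 F327761)))
theorem Q47599 : ∀ i, i < 47599 → P i := stepQ 47598 Q47598 (allL N47598 (tt N51674 F343038) (tt N29435 (iv0 F343039)) (tt N55435 (iv2 F335298)) (tt N24875 (iv3 D84174)) (tt N25271 F129211) (tt N81536 D176551) (tt N78639 (iv6 F250037)) (tt N24889 F129212))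
theorem Q47600 : ∀ i, i < 47600 → P i := stepQ 47599 Q47599 (allL N47599 (tt N79246 (iv1 F298008)) (tt N80126 (iv0 F300492)) (tt N80655 (iv2 F270242)) (tt N81536 (iv3 F275887)) (tt N54454 (iv4 F328325)) (tt N24875 (iv5 D84175)) (tt N81537 D176552) (tt N24890 F129213))
theorem Q47601 : ∀ i, i < 47601 → P i := stepQ 47600 Q47600 (allL N47600 (tt N44465 (iv1 F328142)) (tt N57345 (iv0 F328143)) (tt N68062 (iv2 F328144)) (tt N24877 F129232) (tt N39258 (iv4 F328145)) (tt N24876 (iv5 D84186)) (tt N62574 (iv6 F328147)) (tt N39255 F327674))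
theorem Q47602 : ∀ i, i < 47602 → P i := stepQ 47601 Q47601 (allL N47601 (tt N24877 (iv1 D84189)) (tt N24881 F129237) (tt N80380 F301374) (tt N81538 D176587) (tt N55364 (iv4 F328699)) (tt N44820 (iv5 F129239)) (tt N81126 (iv6 F273427)) (tt N46856 F129238))
theorem Q47603 : ∀ i, i < 47603 → P i := stepQ 47602 Q47602 (allL N47602 (tt N28577 F328149) (tt N28861 F328150) (tt N28333 F328151) (tt N28910 (iv3 F328536)) (tt N24877 (iv4 D84190)) (tt N81495 (iv5 F275416)) (tt N81539 D176590) (tt N28899 F328152))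
theorem Q47604 : ∀ i, i < 47604 → P i := stepQ 47603 Q47603 (allL N47603 (tt N71607 (iv1 F354150)) (tt N81540 D176592) (tt N80649 (iv2 F270156)) (tt N62574 (iv3 F328146)) (tt N81539 (iv4 F275953)) (tt N80919 (iv5 F303577)) (tt N24877 (iv6 D84191)) (tt N81541 D176594))
theorem Q47605 : ∀ i, i < 47605 → P i := stepQ 47604 Q47604 (allL N47604 (tt N64233 F298054) (tt N45465 F298055) (tt N59762 F325638) (tt N55108 (iv3 F331192)) (tt N24878 (iv4 D84193)) (tt N28575 F331180) (tt N31103 F325639) (tt N46676 F129244))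
theorem Q47606 : ∀ i, i < 47606 → P i := stepQ 47605 Q47605 (allL N47605 (tt N24879 (iv1 D84195)) (tt N24882 F129247) (tt N27646 F323558) (tt N51631 (iv3 F324886)) (tt N34740 F298011) (tt N27641 (iv5 F324887)) (tt N31086 (iv6 F324440)) (tt N46249 (iv7 F298069)))
theorem Q47607 : ∀ i, i < 47607 → P i := stepQ 47606 Q47606 (allL N47606 (tt N46224 F300513) (tt N52140 (iv0 F326732)) (tt N52142 F325908) (tt N27909 (iv3 F326726)) (tt N28900 (iv4 F326738)) (tt N24879 (iv5 D84197)) (tt N48959 (iv6 F326739)) (tt N51872 F325909))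
theorem Q47608 : ∀ i, i < 47608 → P i := stepQ 47607 Q47607 (allL N47607 (tt N29152 F346765) (tt N81542 D176622) (tt N68060 (iv2 F346776)) (tt N24881 F129279) (tt N28904 (iv4 F328704)) (tt N24880 (iv5 D84212)) (tt N68059 (iv6 F327123)) (tt N80648 (iv7 F270146)))
theorem Q47609 : ∀ i, i < 47609 → P i := stepQ 47608 Q47608 (allL N47608 (tt N81543 D176630) (tt N81544 D176631) (tt N39254 F326292) (tt N68059 (iv3 F327122)) (tt N28901 F328304) (tt N45436 F300890) (tt N24881 (iv6 D84215)) (tt N81545 D176633))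
theorem Q47610 : ∀ i, i < 47610 → P i := stepQ 47609 Q47609 (allL N47609 (tt N52140 (iv1 F326733)) (tt N46224 (iv0 F300446)) (tt N51872 F325906) (tt N59825 (iv3 F325364)) (tt N81495 (iv4 F275417)) (tt N24882 (iv5 D84218)) (tt N27789 (iv6 F326737)) (tt N52142 F325907))
theorem Q47611 : ∀ i, i < 47611 → P i := stepQ 47610 Q47610 (allL N47610 (tt N59910 (iv1 F325237)) (tt N59851 (iv0 F362591)) (tt N59961 (iv2 F326934)) (tt N52235 (iv3 F327396)) (tt N24884 F129300) (tt N81546 D176660) (tt N24883 (iv6 D84228)) (tt N79871 (iv7 F258674)))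
theorem Q47612 : ∀ i, i < 47612 → P i := stepQ 47611 Q47611 (allL N47611 (tt N59920 (iv1 F326023)) (tt N59864 (iv0 F326024)) (tt N52230 (iv2 F340578)) (tt N24886 (iv3 D84231)) (tt N39955 F325048) (tt N52229 (iv5 F325912)) (tt N78163 (iv6 F326027)) (tt N59963 (iv7 F325081)))
theorem Q47613 : ∀ i, i < 47613 → P i := stepQ 47612 Q47612 (allL N47612 (tt N29447 (iv1 F331200)) (tt N55464 (iv0 F331201)) (tt N55439 (iv2 F331202)) (tt N24887 (iv3 D84233)) (tt N80552 (iv4 F268401)) (tt N29241 F331194) (tt N81547 D176672) (tt N55440 (iv7 F331204)))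
theorem Q47614 : ∀ i, i < 47614 → P i := stepQ 47613 Q47613 (allL N47613 (tt N53251 (iv1 F331178)) (tt N53404 (iv0 F331181)) (tt N53871 F331172) (tt N29241 (iv3 F331185)) (tt N53680 (iv4 F331186)) (tt N24887 (iv5 D84234)) (tt N81548 D176674) (tt N53870 (iv7 F331176)))
theorem Q47615 : ∀ i, i < 47615 → P i := stepQ 47614 Q47614 (allL N47614 (tt N59934 (iv1 F344522)) (tt N59883 (iv0 F325270)) (tt N80139 (iv2 F300515)) (tt N81547 (iv3 F276046)) (tt N58734 (iv4 F358810)) (tt N81549 D176676) (tt N24887 (iv6 D84235)) (tt N79467 (iv7 F300521)))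
theorem Q47616 : ∀ i, i < 47616 → P i := stepQ 47615 Q47615 (allL N47615 (tt N81550 D176677) (tt N55455 (iv0 F360317)) (tt N81551 D176679) (tt N24888 (iv3 D84236)) (tt N81552 D176680) (tt N29249 F331196) (tt N79469 (iv6 F303302)) (tt N80138 (iv7 F302349)))
theorem Q47617 : ∀ i, i < 47617 → P i := stepQ 47616 Q47616 (allL N47616 (tt N53404 (iv1 F331182)) (tt N53251 (iv0 F331177)) (tt N53870 (iv2 F331174)) (tt N29249 (iv3 F331188)) (tt N53679 (iv4 F331189)) (tt N24888 (iv5 D84237)) (tt N79008 (iv6 F331191)) (tt N53871 F331173))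
theorem Q47618 : ∀ i, i < 47618 → P i := stepQ 47617 Q47617 (allL N47617 (tt N55435 (iv1 F335297)) (tt N24889 (iv0 D84239)) (tt N29435 (iv2 F335301)) (tt N27660 (iv3 F335302)) (tt N78589 (iv4 F335292)) (tt N27659 (iv5 F335303)) (tt N81553 D176687) (tt N51674 (iv7 F335304)))
theorem Q47619 : ∀ i, i < 47619 → P i := stepQ 47618 Q47618 (allL N47618 (tt N29435 (iv1 F343040)) (tt N51674 F343037) (tt N24889 (iv2 D84241)) (tt N80652 (iv3 F270225)) (tt N25295 F129301) (tt N52334 (iv5 F335313)) (tt N24907 F129302) (tt N55435 (iv7 F335300)))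
theorem Q47620 : ∀ i, i < 47620 → P i := stepQ 47619 Q47619 (allL N47619 (tt N81554 D176694) (tt N49938 (iv0 F343018)) (tt N52334 (iv2 F335312)) (tt N24890 F129303) (tt N81555 D176696) (tt N24889 (iv5 D84242)) (tt N27371 (iv6 F335314)) (tt N81536 (iv7 F275888)))
theorem Q47621 : ∀ i, i < 47621 → P i := stepQ 47620 Q47620 (allL N47620 (tt N80655 (iv1 F270246)) (tt N24890 (iv0 D84243)) (tt N80126 (iv2 F300494)) (tt N81556 D176698) (tt N81486 (iv4 F275398)) (tt N64233 (iv5 F298010)) (tt N81557 D176699) (tt N79246 (iv7 F298009)))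
theorem Q47622 : ∀ i, i < 47622 → P i := stepQ 47621 Q47621 (allL N47621 (tt N24890 (iv1 D84244)) (tt N80655 F270245) (tt N79246 F298060) (tt N52539 (iv3 F353178)) (tt N81481 (iv4 F275378)) (tt N45465 F298061) (tt N52537 (iv6 F353206)) (tt N80126 (iv7 F300495)))
theorem Q47623 : ∀ i, i < 47623 → P i := stepQ 47622 Q47622 (allL N47622 (tt N28900 F327384) (tt N81495 F275418) (tt N51135 (iv2 F335327)) (tt N81558 D176702) (tt N24890 (iv4 D84245)) (tt N53407 (iv5 F327390)) (tt N26127 F335326) (tt N54454 (iv7 F328326)))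
theorem Q47624 : ∀ i, i < 47624 → P i := stepQ 47623 Q47623 (allL N47623 (tt N52489 (iv1 F335317)) (tt N81559 D176705) (tt N51134 (iv2 F364436)) (tt N27371 F335315) (tt N26127 (iv4 F335318)) (tt N24912 F129304) (tt N24890 (iv6 D84246)) (tt N51137 (iv7 F335320)))
theorem Q47625 : ∀ i, i < 47625 → P i := stepQ 47624 Q47624 (allL N47624 (tt N81560 D176707) (tt N81561 D176708) (tt N51733 (iv2 F326720)) (tt N24892 (iv3 D84248)) (tt N24895 F129308) (tt N51876 (iv5 F326724)) (tt N27622 F325904) (tt N45796 F129309))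
theorem Q47626 : ∀ i, i < 47626 → P i := stepQ 47625 Q47625 (allL N47625 (tt N81562 D176710) (tt N81563 D176711) (tt N81564 D176712) (tt N24893 (iv3 D84250)) (tt N34617 F129315) (tt N53061 (iv5 F292604)) (tt N81565 D176714) (tt N44702 F129316))
theorem Q47627 : ∀ i, i < 47627 → P i := stepQ 47626 Q47626 (allL N47626 (tt N78645 F250094) (tt N79842 (iv0 F258597)) (tt N44701 F129322) (tt N81565 (iv3 F276083)) (tt N25987 F129323) (tt N81566 D176716) (tt N24893 (iv6 D84252)) (tt N34655 F297238))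
theorem Q47628 : ∀ i, i < 47628 → P i := stepQ 47627 Q47627 (allL N47627 (tt N79879 F258689) (tt N81567 D176717) (tt N81568 D176718) (tt N24894 (iv3 D84253)) (tt N48632 (iv4 F133657)) (tt N81569 D176719) (tt N45788 (iv6 F296125)) (tt N44700 F129324))
theorem Q47629 : ∀ i, i < 47629 → P i := stepQ 47628 Q47628 (allL N47628 (tt N27255 (iv1 F292533)) (tt N27252 (iv0 F292546)) (tt N44697 F129325) (tt N81569 (iv3 F276097)) (tt N25998 F129326) (tt N24894 (iv5 D84254)) (tt N81570 D176721) (tt N44698 F129327))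
theorem Q47630 : ∀ i, i < 47630 → P i := stepQ 47629 Q47629 (allL N47629 (tt N59687 (iv1 F327731)) (tt N24895 (iv0 D84256)) (tt N78656 (iv2 F348776)) (tt N81571 D176724) (tt N81572 D176725) (tt N81573 D176726) (tt N81574 D176727) (tt N78655 (iv7 F348780)))
theorem Q47631 : ∀ i, i < 47631 → P i := stepQ 47630 Q47630 (allL N47630 (tt N24895 (iv1 D84257)) (tt N59687 (iv0 F327730)) (tt N78655 (iv2 F348779)) (tt N81575 D176729) (tt N81576 D176730) (tt N81577 D176731) (tt N81561 (iv6 F354479)) (tt N78656 (iv7 F348778)))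
theorem Q47632 : ∀ i, i < 47632 → P i := stepQ 47631 Q47631 (allL N47631 (tt N78656 (iv1 F250131)) (tt N78655 F250127) (tt N24895 (iv2 D84258)) (tt N44705 F129332) (tt N51733 (iv4 F326721)) (tt N81578 D176733) (tt N51732 (iv6 F326713)) (tt N59687 (iv7 F327733)))
theorem Q47633 : ∀ i, i < 47633 → P i := stepQ 47632 Q47632 (allL N47632 (tt N78505 (iv1 F358113)) (tt N27908 (iv0 F358103)) (tt N81578 (iv2 F276108)) (tt N24896 F129333) (tt N81579 D176736) (tt N24895 (iv5 D84259)) (tt N81580 D176737) (tt N78657 (iv7 F250134)))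
theorem Q47634 : ∀ i, i < 47634 → P i := stepQ 47633 Q47633 (allL N47633 (tt N81581 D176738) (tt N81582 D176739) (tt N44709 F129334) (tt N81580 (iv3 F276111)) (tt N27249 (iv4 F292790)) (tt N80818 (iv5 F271777)) (tt N24896 (iv6 D84260)) (tt N81583 D176740))
theorem Q47635 : ∀ i, i < 47635 → P i := stepQ 47634 Q47634 (allL N47634 (tt N69496 (iv1 F359399)) (tt N81584 D176762) (tt N78658 (iv2 F250136)) (tt N59726 (iv3 F327742)) (tt N27244 (iv4 F292787)) (tt N59719 (iv5 F326394)) (tt N24897 (iv6 D84272)) (tt N81585 D176764))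
theorem Q47636 : ∀ i, i < 47636 → P i := stepQ 47635 Q47635 (allL N47635 (tt N38287 (iv1 F352911)) (tt N68389 (iv0 F352912)) (tt N51559 (iv2 F293607)) (tt N59917 (iv3 F326849)) (tt N29082 F129358) (tt N54513 F352910) (tt N24898 (iv6 D84285)) (tt N68388 (iv7 F352932)))
theorem Q47637 : ∀ i, i < 47637 → P i := stepQ 47636 Q47636 (allL N47636 (tt N78660 (iv1 F250157)) (tt N24899 (iv0 D84299)) (tt N78659 (iv2 F362550)) (tt N55471 (iv3 F362519)) (tt N81586 D176821) (tt N81587 D176822) (tt N81588 D176823) (tt N55466 (iv7 F362547)))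
theorem Q47638 : ∀ i, i < 47638 → P i := stepQ 47637 Q47637 (allL N47637 (tt N24899 (iv1 D84300)) (tt N78660 F250159) (tt N55466 (iv2 F362546)) (tt N81589 D176825) (tt N81590 D176826) (tt N81591 D176827) (tt N55464 (iv6 F362558)) (tt N78659 (iv7 F362551)))
theorem Q47639 : ∀ i, i < 47639 → P i := stepQ 47638 Q47638 (allL N47638 (tt N78659 (iv1 F250158)) (tt N55466 (iv0 F361132)) (tt N24899 (iv2 D84301)) (tt N78662 (iv3 F250173)) (tt N80566 (iv4 F268458)) (tt N81592 D176829) (tt N81593 D176830) (tt N78660 (iv7 F250156)))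
theorem Q47640 : ∀ i, i < 47640 → P i := stepQ 47639 Q47639 (allL N47639 (tt N81594 D176831) (tt N81595 D176832) (tt N81592 (iv2 F276206)) (tt N24900 F129373) (tt N81596 D176833) (tt N24899 (iv5 D84302)) (tt N81597 D176834) (tt N51565 (iv7 F292433)))
theorem Q47641 : ∀ i, i < 47641 → P i := stepQ 47640 Q47640 (allL N47640 (tt N58605 (iv1 F354533)) (tt N58609 (iv0 F354542)) (tt N81593 (iv2 F276207)) (tt N24901 F129374) (tt N80568 (iv4 F268461)) (tt N39581 F354532) (tt N24899 (iv6 D84303)) (tt N81598 D176838))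
theorem Q47642 : ∀ i, i < 47642 → P i := stepQ 47641 Q47641 (allL N47641 (tt N81599 D176839) (tt N81600 D176840) (tt N51564 (iv2 F292458)) (tt N81597 (iv3 F276209)) (tt N29076 F129375) (tt N81601 D176841) (tt N24900 (iv6 D84304)) (tt N81602 D176842))
theorem Q47643 : ∀ i, i < 47643 → P i := stepQ 47642 Q47642 (allL N47642 (tt N47134 F346341) (tt N47139 (iv0 F129377)) (tt N78664 (iv2 F250184)) (tt N39581 (iv3 F354531)) (tt N81603 D176843) (tt N24901 (iv5 D84305)) (tt N81601 (iv6 F276212)) (tt N81604 D176844))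
theorem Q47644 : ∀ i, i < 47644 → P i := stepQ 47643 Q47643 (allL N47643 (tt N46921 (iv1 F129380)) (tt N35280 F129381) (tt N45454 (iv2 F298325)) (tt N81598 (iv3 F276211)) (tt N25986 F129379) (tt N81604 (iv5 F276221)) (tt N58677 (iv6 F323998)) (tt N24901 (iv7 D84306)))
theorem Q47645 : ∀ i, i < 47645 → P i := stepQ 47644 Q47644 (allL N47644 (tt N78662 (iv1 F250175)) (tt N24902 (iv0 D84307)) (tt N78661 (iv2 F360304)) (tt N59899 (iv3 F326838)) (tt N81605 D176847) (tt N52059 (iv5 F294880)) (tt N81550 (iv6 F360316)) (tt N59929 (iv7 F346868)))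
theorem Q47646 : ∀ i, i < 47646 → P i := stepQ 47645 Q47645 (allL N47645 (tt N24902 (iv1 D84308)) (tt N78662 F250177) (tt N59929 (iv2 F346865)) (tt N81606 D176851) (tt N81607 D176852) (tt N41164 F346852) (tt N57218 (iv6 F346855)) (tt N78661 (iv7 F360306)))
theorem Q47647 : ∀ i, i < 47647 → P i := stepQ 47646 Q47646 (allL N47646 (tt N78661 (iv1 F250176)) (tt N59929 (iv0 F360322)) (tt N24902 (iv2 D84309)) (tt N78660 (iv3 F250155)) (tt N80210 (iv4 F262093)) (tt N81608 D176855) (tt N59765 (iv6 F326184)) (tt N78662 (iv7 F250174)))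
theorem Q47648 : ∀ i, i < 47648 → P i := stepQ 47647 Q47647 (allL N47647 (tt N52083 (iv1 F365032)) (tt N81609 D176858) (tt N81608 (iv2 F276229)) (tt N24903 F129382) (tt N52681 (iv4 F294948)) (tt N24902 (iv5 D84310)) (tt N81610 D176860) (tt N51563 (iv7 F292456)))
theorem Q47649 : ∀ i, i < 47649 → P i := stepQ 47648 Q47648 (allL N47648 (tt N81611 D176865) (tt N81612 D176866) (tt N51566 (iv2 F292435)) (tt N81610 (iv3 F276233)) (tt N25999 F129384) (tt N81613 D176867) (tt N24903 (iv6 D84312)) (tt N81614 D176868))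
theorem Q47650 : ∀ i, i < 47650 → P i := stepQ 47649 Q47649 (allL N47649 (tt N58480 (iv1 F325900)) (tt N58482 (iv0 F325898)) (tt N58704 (iv2 F325605)) (tt N71054 (iv3 F326185)) (tt N81615 D176871) (tt N24904 (iv5 D84315)) (tt N81613 (iv6 F276237)) (tt N81616 D176872))
theorem Q47651 : ∀ i, i < 47651 → P i := stepQ 47650 Q47650 (allL N47650 (tt N31145 F324512) (tt N31148 F324513) (tt N58677 F324514) (tt N59766 (iv3 F325607)) (tt N45455 F297250) (tt N81616 (iv5 F276243)) (tt N45454 (iv6 F298326)) (tt N24904 (iv7 D84316)))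
theorem Q47652 : ∀ i, i < 47652 → P i := stepQ 47651 Q47651 (allL N47651 (tt N81606 (iv1 F346846)) (tt N55454 (iv0 F346842)) (tt N80064 (iv2 F261160)) (tt N24905 (iv3 D84318)) (tt N46124 F129387) (tt N81617 D176875) (tt N81618 D176876) (tt N78665 F254229))
theorem Q47653 : ∀ i, i < 47653 → P i := stepQ 47652 Q47652 (allL N47652 (tt N79341 (iv1 F254181)) (tt N48402 (iv0 F254410)) (tt N46330 (iv2 F254215)) (tt N78409 F248704) (tt N24905 (iv4 D84319)) (tt N79712 (iv5 F257781)) (tt N81619 D176877) (tt N78666 (iv7 F254227)))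
theorem Q47654 : ∀ i, i < 47654 → P i := stepQ 47653 Q47653 (allL N47653 (tt N81620 D176878) (tt N45970 F254241) (tt N78669 F254239) (tt N81617 (iv3 F276247)) (tt N78262 (iv4 F356904)) (tt N24905 (iv5 D84320)) (tt N78261 (iv6 F356893)) (tt N78667 F254230))
theorem Q47655 : ∀ i, i < 47655 → P i := stepQ 47654 Q47654 (allL N47654 (tt N79594 (iv1 F353251)) (tt N45769 F353272) (tt N78670 (iv2 F254242)) (tt N81618 (iv3 F276248)) (tt N81619 (iv4 F276251)) (tt N81621 D176883) (tt N24905 (iv6 D84321)) (tt N81622 D176884))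
theorem Q47656 : ∀ i, i < 47656 → P i := stepQ 47655 Q47655 (allL N47655 (tt N29452 F362517) (tt N55471 (iv0 F362518)) (tt N55470 (iv2 F361137)) (tt N24906 (iv3 D84323)) (tt N79343 (iv4 F254192)) (tt N81623 D176887) (tt N81624 D176888) (tt N55469 (iv7 F361136)))
theorem Q47657 : ∀ i, i < 47657 → P i := stepQ 47656 Q47656 (allL N47656 (tt N45970 (iv1 F254091)) (tt N81620 F276254) (tt N78667 F254235) (tt N81623 (iv3 F276258)) (tt N81625 D176889) (tt N24906 (iv5 D84324)) (tt N81626 D176890) (tt N78669 (iv7 F254238)))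
theorem Q47658 : ∀ i, i < 47658 → P i := stepQ 47657 Q47657 (allL N47657 (tt N59931 (iv1 F334027)) (tt N81627 D176892) (tt N78668 F254236) (tt N81624 (iv3 F276259)) (tt N33445 F334015) (tt N81628 D176893) (tt N24906 (iv6 D84325)) (tt N42123 (iv7 F334028)))
theorem Q47659 : ∀ i, i < 47659 → P i := stepQ 47658 Q47658 (allL N47658 (tt N78673 (iv1 F250196)) (tt N78672 F250195) (tt N24908 F129389) (tt N80658 (iv3 F270251)) (tt N81629 D176895) (tt N24907 (iv5 D84326)) (tt N52333 (iv6 F335323)) (tt N78671 (iv7 F250192)))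
theorem Q47660 : ∀ i, i < 47660 → P i := stepQ 47659 Q47659 (allL N47659 (tt N78671 (iv1 F250194)) (tt N24908 (iv0 D84327)) (tt N78673 F257973) (tt N81630 D176897) (tt N81631 D176898) (tt N50694 (iv5 F250808)) (tt N81632 D176899) (tt N78672 F257976))
theorem Q47661 : ∀ i, i < 47661 → P i := stepQ 47660 Q47660 (allL N47660 (tt N24908 (iv1 D84328)) (tt N78671 F250193) (tt N78672 (iv2 F257977)) (tt N52653 (iv3 F370244)) (tt N81633 D176901) (tt N50695 (iv5 F250817)) (tt N81634 D176902) (tt N78673 (iv7 F257978)))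
theorem Q47662 : ∀ i, i < 47662 → P i := stepQ 47661 Q47661 (allL N47661 (tt N81635 D176903) (tt N81636 D176904) (tt N81629 (iv2 F276260)) (tt N81637 D176905) (tt N24908 (iv4 D84329)) (tt N81638 D176906) (tt N81639 D176907) (tt N78674 (iv7 F250198)))
theorem Q47663 : ∀ i, i < 47663 → P i := stepQ 47662 Q47662 (allL N47662 (tt N81640 D176908) (tt N49981 (iv0 F335321)) (tt N52333 (iv2 F335322)) (tt N24912 F129390) (tt N81639 (iv4 F276267)) (tt N27371 F335316) (tt N24908 (iv6 D84330)) (tt N52329 (iv7 F335325)))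
theorem Q47664 : ∀ i, i < 47664 → P i := stepQ 47663 Q47663 (allL N47663 (tt N81587 (iv1 F382066)) (tt N81591 (iv0 F382067)) (tt N81641 D176913) (tt N24909 (iv3 D84331)) (tt N81642 D176914) (tt N29063 F129391) (tt N81643 D176915) (tt N49371 (iv7 F136173)))
theorem Q47665 : ∀ i, i < 47665 → P i := stepQ 47664 Q47664 (allL N47664 (tt N81644 D176916) (tt N81645 D176917) (tt N49354 (iv2 F136149)) (tt N81643 (iv3 F276271)) (tt N27272 F291652) (tt N81646 D176918) (tt N24909 (iv6 D84332)) (tt N81647 D176919))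
theorem Q47666 : ∀ i, i < 47666 → P i := stepQ 47665 Q47665 (allL N47665 (tt N52059 F350479) (tt N41164 F350480) (tt N62661 (iv2 F350528)) (tt N24910 (iv3 D84333)) (tt N52684 (iv4 F293680)) (tt N29066 F129393) (tt N81648 D176924) (tt N49353 (iv7 F136148)))
theorem Q47667 : ∀ i, i < 47667 → P i := stepQ 47666 Q47666 (allL N47666 (tt N81649 D176925) (tt N81650 D176926) (tt N49372 (iv2 F136174)) (tt N81648 (iv3 F276277)) (tt N27265 F291635) (tt N81651 D176927) (tt N24910 (iv6 D84334)) (tt N81652 D176928))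
theorem Q47668 : ∀ i, i < 47668 → P i := stepQ 47667 Q47667 (allL N47667 (tt N51248 (iv1 F335771)) (tt N51244 (iv0 F344301)) (tt N51333 (iv2 F294557)) (tt N24911 (iv3 D84335)) (tt N81637 (iv4 F276263)) (tt N25966 F129395) (tt N81653 D176932) (tt N27933 F129396))
theorem Q47669 : ∀ i, i < 47669 → P i := stepQ 47668 Q47668 (allL N47668 (tt N81654 D176933) (tt N81655 D176934) (tt N26299 F129397) (tt N81653 (iv3 F276287)) (tt N24912 F129398) (tt N50924 F293652) (tt N24911 (iv6 D84336)) (tt N81656 D176936))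
theorem Q47670 : ∀ i, i < 47670 → P i := stepQ 47669 Q47669 (allL N47669 (tt N80664 (iv1 F270266)) (tt N24912 (iv0 D84337)) (tt N74184 (iv2 F364453)) (tt N52630 (iv3 F365436)) (tt N81657 D176939) (tt N81658 D176940) (tt N81659 D176941) (tt N80663 (iv7 F365439)))
theorem Q47671 : ∀ i, i < 47671 → P i := stepQ 47670 Q47670 (allL N47670 (tt N24912 (iv1 D84338)) (tt N80664 F270265) (tt N80663 (iv2 F365438)) (tt N74046 (iv3 F364451)) (tt N81660 D176944) (tt N81661 D176945) (tt N81662 D176946) (tt N74184 (iv7 F364454)))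
theorem Q47672 : ∀ i, i < 47672 → P i := stepQ 47671 Q47671 (allL N47671 (tt N80663 (iv1 F270260)) (tt N74184 (iv0 F365427)) (tt N80664 (iv2 F270261)) (tt N52329 (iv3 F335324)) (tt N81656 (iv4 F276292)) (tt N51137 (iv5 F335319)) (tt N74138 (iv6 F357466)) (tt N24912 (iv7 D84339)))
theorem Q47673 : ∀ i, i < 47673 → P i := stepQ 47672 Q47672 (allL N47672 (tt N52178 F147887) (tt N76014 (iv0 F235689)) (tt N35033 (iv2 F129401)) (tt N24913 (iv3 D84340)) (tt N34912 F129399) (tt N52573 (iv5 F149979)) (tt N81663 D176947) (tt N35037 F129400))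
theorem Q47674 : ∀ i, i < 47674 → P i := stepQ 47673 Q47673 (allL N47673 (tt N41452 (iv1 F313268)) (tt N25440 (iv0 F313272)) (tt N53324 (iv2 F153348)) (tt N81663 (iv3 F276300)) (tt N47449 F129402) (tt N40629 (iv5 F342384)) (tt N24913 (iv6 D84341)) (tt N30536 (iv7 F313269)))
theorem Q47675 : ∀ i, i < 47675 → P i := stepQ 47674 Q47674 (allL N47674 (tt N63108 (iv1 F185626)) (tt N24915 (iv0 D84344)) (tt N53336 (iv2 F359919)) (tt N81664 D176958) (tt N53309 (iv4 F339102)) (tt N71977 (iv5 F333283)) (tt N69651 (iv6 F333284)) (tt N53339 (iv7 F346690)))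
theorem Q47676 : ∀ i, i < 47676 → P i := stepQ 47675 Q47675 (allL N47675 (tt N24915 (iv1 D84345)) (tt N63108 F185625) (tt N53339 (iv2 F346686)) (tt N72310 (iv3 F345679)) (tt N53310 (iv4 F339103)) (tt N72309 F339106) (tt N42471 (iv6 F339109)) (tt N53336 (iv7 F359920)))
theorem Q47677 : ∀ i, i < 47677 → P i := stepQ 47676 Q47676 (allL N47676 (tt N57464 F311369) (tt N78818 F311370) (tt N44134 F311371) (tt N24918 F129405) (tt N76514 (iv4 F348201)) (tt N24915 (iv5 D84346)) (tt N55184 (iv6 F159147)) (tt N78817 F311372))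
theorem Q47678 : ∀ i, i < 47678 → P i := stepQ 47677 Q47677 (allL N47677 (tt N53339 (iv1 F346685)) (tt N53336 (iv0 F346601)) (tt N63108 (iv2 F185621)) (tt N24919 F129406) (tt N64929 (iv4 F301977)) (tt N78817 (iv5 F309228)) (tt N64925 F299771) (tt N24915 (iv7 D84347)))
theorem Q47679 : ∀ i, i < 47679 → P i := stepQ 47678 Q47678 (allL N47678 (tt N46455 F299769) (tt N46453 F299770) (tt N24947 F129411) (tt N80978 (iv3 F272912)) (tt N78183 (iv4 F319899)) (tt N24917 (iv5 D84350)) (tt N65370 (iv6 F315481)) (tt N24944 F129412))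
theorem Q47680 : ∀ i, i < 47680 → P i := stepQ 47679 Q47679 (allL N47679 (tt N76210 (iv1 F312886)) (tt N77099 (iv0 F308518)) (tt N24949 F129417) (tt N81665 D176987) (tt N24918 (iv4 D84354)) (tt N81666 D176988) (tt N55194 (iv6 F159157)) (tt N77132 (iv7 F312883)))
theorem Q47681 : ∀ i, i < 47681 → P i := stepQ 47680 Q47680 (allL N47680 (tt N77475 F309634) (tt N34328 (iv0 F129428)) (tt N44582 F309635) (tt N24920 (iv3 D84356)) (tt N43459 F309636) (tt N62446 (iv5 F322070)) (tt N46652 F129426) (tt N24960 F129427))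
theorem Q47682 : ∀ i, i < 47682 → P i := stepQ 47681 Q47681 (allL N47681 (tt N74655 (iv1 F326469)) (tt N74654 (iv0 F326463)) (tt N24956 F129435) (tt N67280 (iv3 F361367)) (tt N24921 (iv4 D84359)) (tt N81667 D176998) (tt N46654 F129436) (tt N24962 F129437))
theorem Q47683 : ∀ i, i < 47683 → P i := stepQ 47682 Q47682 (allL N47682 (tt N46300 (iv1 F297452)) (tt N46299 F296353) (tt N24963 F129446) (tt N32353 (iv3 F331138)) (tt N24923 (iv4 D84363)) (tt N32351 (iv5 F331139)) (tt N35309 F129447) (tt N24966 F129448))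
theorem Q47684 : ∀ i, i < 47684 → P i := stepQ 47683 Q47683 (allL N47683 (tt N46299 F296354) (tt N46300 (iv0 F297451)) (tt N24966 F129455) (tt N35892 F326255) (tt N24924 (iv4 D84365)) (tt N81668 D177007) (tt N46152 (iv6 F297049)) (tt N24963 F129456))
theorem Q47685 : ∀ i, i < 47685 → P i := stepQ 47684 Q47684 (allL N47684 (tt N81669 D177013) (tt N81670 D177014) (tt N81671 D177015) (tt N24925 (iv3 D84369)) (tt N65007 (iv4 F198849)) (tt N81672 D177016) (tt N44620 F129470) (tt N65893 (iv7 F325211)))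
theorem Q47686 : ∀ i, i < 47686 → P i := stepQ 47685 Q47685 (allL N47685 (tt N79538 (iv1 F363192)) (tt N81673 D177019) (tt N24970 F129471) (tt N81672 (iv3 F276421)) (tt N81674 D177020) (tt N24925 (iv5 D84370)) (tt N81675 D177021) (tt N65898 (iv7 F325216)))
theorem Q47687 : ∀ i, i < 47687 → P i := stepQ 47686 Q47686 (allL N47686 (tt N46109 F129484) (tt N46106 (iv0 F129486)) (tt N46761 F129481) (tt N46968 F129482) (tt N24926 (iv4 D84373)) (tt N37609 F306566) (tt N81676 D177024) (tt N37608 F306567))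
theorem Q47688 : ∀ i, i < 47688 → P i := stepQ 47687 Q47687 (allL N47687 (tt N46592 F129490) (tt N24935 (iv0 F129492)) (tt N34883 F129487) (tt N32844 F129488) (tt N34880 F129491) (tt N24926 (iv5 D84374)) (tt N66643 (iv6 F337245)) (tt N46594 F129489))
theorem Q47689 : ∀ i, i < 47689 → P i := stepQ 47688 Q47688 (allL N47688 (tt N56109 (iv1 F343385)) (tt N65088 (iv0 F343386)) (tt N52179 (iv2 F147888)) (tt N76015 (iv3 F235692)) (tt N81676 (iv4 F276443)) (tt N81677 D177028) (tt N24926 (iv6 D84375)) (tt N65101 (iv7 F364615)))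
theorem Q47690 : ∀ i, i < 47690 → P i := stepQ 47689 Q47689 (allL N47689 (tt N35033 (iv1 F129495)) (tt N35037 (iv0 F129494)) (tt N76014 (iv2 F235685)) (tt N24927 (iv3 D84376)) (tt N43645 F129493) (tt N63921 (iv5 F191801)) (tt N81678 D177030) (tt N52178 (iv7 F147886)))
theorem Q47691 : ∀ i, i < 47691 → P i := stepQ 47690 Q47690 (allL N47690 (tt N24935 F129499) (tt N46592 (iv0 F129501)) (tt N46594 F129497) (tt N63921 (iv3 F191799)) (tt N34489 F129500) (tt N24927 (iv5 D84377)) (tt N81679 D177031) (tt N34883 F129498))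
theorem Q47692 : ∀ i, i < 47692 → P i := stepQ 47691 Q47691 (allL N47691 (tt N24942 (iv1 F333732)) (tt N80976 (iv0 F333733)) (tt N52177 (iv2 F147884)) (tt N81678 (iv3 F276447)) (tt N46961 F129502) (tt N81680 D177034) (tt N24927 (iv6 D84378)) (tt N80977 (iv7 F324291)))
theorem Q47693 : ∀ i, i < 47693 → P i := stepQ 47692 Q47692 (allL N47692 (tt N81681 D177036) (tt N81682 D177037) (tt N24929 F129503) (tt N46179 F301073) (tt N52776 (iv4 F151259)) (tt N81683 D177038) (tt N24928 (iv6 D84379)) (tt N69635 (iv7 F306073)))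
theorem Q47694 : ∀ i, i < 47694 → P i := stepQ 47693 Q47693 (allL N47693 (tt N69635 (iv1 F306071)) (tt N24929 (iv0 D84380)) (tt N81681 (iv2 F357092)) (tt N41448 F343979) (tt N81684 D177042) (tt N74312 (iv5 F357108)) (tt N81685 D177044) (tt N81682 (iv7 F357099)))
theorem Q47695 : ∀ i, i < 47695 → P i := stepQ 47694 Q47694 (allL N47694 (tt N24929 (iv1 D84381)) (tt N69635 (iv0 F306070)) (tt N81682 (iv2 F357097)) (tt N81686 D177046) (tt N81687 D177047) (tt N81688 D177048) (tt N25396 (iv6 F317265)) (tt N81681 (iv7 F357093)))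
theorem Q47696 : ∀ i, i < 47696 → P i := stepQ 47695 Q47695 (allL N47695 (tt N81689 D177050) (tt N81690 D177051) (tt N81683 (iv2 F276455)) (tt N24930 F129504) (tt N73689 (iv4 F344497)) (tt N24929 (iv5 D84382)) (tt N73687 (iv6 F319223)) (tt N81691 D177053))
theorem Q47697 : ∀ i, i < 47697 → P i := stepQ 47696 Q47696 (allL N47696 (tt N81682 (iv1 F276454)) (tt N81681 (iv0 F276453)) (tt N69635 F308023) (tt N24931 F129505) (tt N46212 (iv4 F300731)) (tt N81691 (iv5 F276465)) (tt N25189 F129506) (tt N24929 (iv7 D84383)))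
theorem Q47698 : ∀ i, i < 47698 → P i := stepQ 47697 Q47697 (allL N47697 (tt N34737 F300136) (tt N24930 (iv0 D84384)) (tt N46181 F300137) (tt N81692 D177054) (tt N77492 (iv4 F350081)) (tt N46456 F300138) (tt N81693 D177055) (tt N46182 F300139))
theorem Q47699 : ∀ i, i < 47699 → P i := stepQ 47698 Q47698 (allL N47698 (tt N81694 D177056) (tt N81695 D177057) (tt N46183 F301078) (tt N81696 D177058) (tt N24930 (iv4 D84385)) (tt N81697 D177059) (tt N80463 (iv6 F267854)) (tt N43888 F316886))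
theorem Q47700 : ∀ i, i < 47700 → P i := stepQ 47699 Q47699 (allL N47699 (tt N46182 F300065) (tt N46181 F300066) (tt N34737 F300067) (tt N81691 (iv3 F276464)) (tt N43888 (iv4 F314556)) (tt N24931 F129507) (tt N33908 (iv6 F314557)) (tt N24930 (iv7 D84386)))
theorem Q47701 : ∀ i, i < 47701 → P i := stepQ 47700 Q47700 (allL N47700 (tt N53323 F153347) (tt N37494 F306805) (tt N68266 (iv2 F306827)) (tt N24932 (iv3 D84388)) (tt N43441 F306806) (tt N81698 D177062) (tt N73577 (iv6 F350151)) (tt N52245 (iv7 F148145)))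
theorem Q47702 : ∀ i, i < 47702 → P i := stepQ 47701 Q47701 (allL N47701 (tt N29775 F129509) (tt N29762 F129511) (tt N43907 (iv2 F129512)) (tt N68360 (iv3 F302787)) (tt N24932 (iv4 D84389)) (tt N29786 F129510) (tt N68356 (iv6 F306189)) (tt N42988 (iv7 F129513)))
theorem Q47703 : ∀ i, i < 47703 → P i := stepQ 47702 Q47702 (allL N47702 (tt N32905 F129521) (tt N24936 F129522) (tt N42985 F129518) (tt N81698 (iv3 F276477)) (tt N29753 F129520) (tt N24932 (iv5 D84390)) (tt N72772 (iv6 F335039)) (tt N43232 F129519))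
theorem Q47704 : ∀ i, i < 47704 → P i := stepQ 47703 Q47703 (allL N47703 (tt N62433 (iv1 F323434)) (tt N24946 (iv0 F310188)) (tt N52247 (iv2 F148154)) (tt N73577 (iv3 F350148)) (tt N68356 F308187) (tt N72773 (iv5 F332420)) (tt N24932 (iv6 D84391)) (tt N56129 (iv7 F310191)))
theorem Q47705 : ∀ i, i < 47705 → P i := stepQ 47704 Q47704 (allL N47704 (tt N29762 F129526) (tt N29775 F129527) (tt N42988 F129523) (tt N34170 F301068) (tt N24933 (iv4 D84393)) (tt N29787 F129525) (tt N34167 (iv6 F303827)) (tt N43907 F129524))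
theorem Q47706 : ∀ i, i < 47706 → P i := stepQ 47705 Q47705 (allL N47705 (tt N24936 F129533) (tt N32905 F129534) (tt N43232 F129530) (tt N62710 (iv3 F307288)) (tt N29751 F129531) (tt N24933 (iv5 D84394)) (tt N62709 (iv6 F338196)) (tt N42985 F129532))
theorem Q47707 : ∀ i, i < 47707 → P i := stepQ 47706 Q47706 (allL N47706 (tt N34883 (iv1 F129543)) (tt N46594 F129542) (tt N24935 (iv2 D84402)) (tt N32905 F129539) (tt N79118 (iv4 F252688)) (tt N27734 F129540) (tt N63611 (iv6 F318172)) (tt N46592 F129541))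
theorem Q47708 : ∀ i, i < 47708 → P i := stepQ 47707 Q47707 (allL N47707 (tt N66658 (iv1 F317065)) (tt N74829 (iv0 F317066)) (tt N55805 (iv2 F161827)) (tt N24937 F129554) (tt N32904 F129555) (tt N65086 (iv5 F338143)) (tt N24936 (iv6 D84408)) (tt N67055 (iv7 F317068)))
theorem Q47709 : ∀ i, i < 47709 → P i := stepQ 47708 Q47708 (allL N47708 (tt N24937 (iv1 D84410)) (tt N41332 (iv0 F315258)) (tt N41333 F319340) (tt N56130 (iv3 F317062)) (tt N27820 F321177) (tt N66856 (iv5 F317063)) (tt N66651 (iv6 F317064)) (tt N41330 F319341))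
theorem Q47710 : ∀ i, i < 47710 → P i := stepQ 47709 Q47709 (allL N47709 (tt N81699 D177127) (tt N56128 (iv0 F341001)) (tt N46600 F129557) (tt N65086 (iv3 F338142)) (tt N38333 (iv4 F315267)) (tt N24937 (iv5 D84411)) (tt N27741 F129558) (tt N67058 (iv7 F315944)))
theorem Q47711 : ∀ i, i < 47711 → P i := stepQ 47710 Q47710 (allL N47710 (tt N74809 (iv1 F393546)) (tt N81679 (iv0 F348721)) (tt N81700 D177139) (tt N24938 (iv3 D84414)) (tt N81701 D177140) (tt N81702 D177141) (tt N74815 (iv6 F307165)) (tt N55189 (iv7 F315971)))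
theorem Q47712 : ∀ i, i < 47712 → P i := stepQ 47711 Q47711 (allL N47711 (tt N51812 F346806) (tt N25745 F346807) (tt N51809 (iv2 F340927)) (tt N53886 (iv3 F357197)) (tt N24938 (iv4 D84415)) (tt N81703 D177147) (tt N64007 (iv6 F307166)) (tt N51810 (iv7 F340934)))
theorem Q47713 : ∀ i, i < 47713 → P i := stepQ 47712 Q47712 (allL N47712 (tt N66636 (iv1 F319124)) (tt N65372 (iv0 F341037)) (tt N55187 (iv2 F311194)) (tt N81702 (iv3 F276558)) (tt N77103 (iv4 F346813)) (tt N24938 (iv5 D84416)) (tt N76143 (iv6 F330087)) (tt N55190 (iv7 F315975)))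
theorem Q47714 : ∀ i, i < 47714 → P i := stepQ 47713 Q47713 (allL N47713 (tt N72772 (iv1 F359175)) (tt N72694 (iv0 F353440)) (tt N55817 (iv2 F355714)) (tt N24939 (iv3 D84419)) (tt N55802 (iv4 F235253)) (tt N63188 (iv5 F348034)) (tt N81704 D177163) (tt N55186 (iv7 F311191)))
theorem Q47715 : ∀ i, i < 47715 → P i := stepQ 47714 Q47714 (allL N47714 (tt N25745 (iv1 F346804)) (tt N51812 (iv0 F346805)) (tt N51810 (iv2 F340932)) (tt N56185 F190336) (tt N24939 (iv4 D84420)) (tt N81705 D177164) (tt N81706 D177165) (tt N51809 (iv7 F340930)))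
theorem Q47716 : ∀ i, i < 47716 → P i := stepQ 47715 Q47715 (allL N47715 (tt N65372 (iv1 F341038)) (tt N66636 (iv0 F319123)) (tt N55190 (iv2 F315974)) (tt N63188 (iv3 F348033)) (tt N77102 (iv4 F353405)) (tt N24939 (iv5 D84421)) (tt N73149 (iv6 F341026)) (tt N55187 (iv7 F311195)))
theorem Q47717 : ∀ i, i < 47717 → P i := stepQ 47716 Q47716 (allL N47716 (tt N33324 (iv1 F341030)) (tt N67051 (iv0 F341066)) (tt N55191 (iv2 F315976)) (tt N81704 (iv3 F276573)) (tt N81706 (iv4 F276574)) (tt N72233 F341029) (tt N24939 (iv6 D84422)) (tt N72232 (iv7 F341063)))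
theorem Q47718 : ∀ i, i < 47718 → P i := stepQ 47717 Q47717 (allL N47717 (tt N55195 (iv1 F159162)) (tt N24940 (iv0 D84423)) (tt N55192 (iv2 F341049)) (tt N81707 D177173) (tt N81708 D177174) (tt N36350 F341008) (tt N81709 D177176) (tt N55193 (iv7 F336844)))
theorem Q47719 : ∀ i, i < 47719 → P i := stepQ 47718 Q47718 (allL N47718 (tt N74692 (iv1 F330079)) (tt N62580 (iv0 F342463)) (tt N55194 (iv2 F159156)) (tt N81710 D177183) (tt N24940 (iv4 D84425)) (tt N81711 D177184) (tt N24949 F129567) (tt N74690 (iv7 F341056)))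
theorem Q47720 : ∀ i, i < 47720 → P i := stepQ 47719 Q47719 (allL N47719 (tt N55193 (iv1 F159154)) (tt N55192 F159160) (tt N55195 (iv2 F159158)) (tt N41224 F322401) (tt N74690 (iv4 F341055)) (tt N24941 F129568) (tt N48153 (iv6 F313776)) (tt N24940 (iv7 D84426)))
theorem Q47721 : ∀ i, i < 47721 → P i := stepQ 47720 Q47720 (allL N47720 (tt N80976 F272905) (tt N24942 (iv0 D84427)) (tt N80977 (iv2 F333735)) (tt N73338 (iv3 F333728)) (tt N81712 D177188) (tt N81713 D177189) (tt N65101 (iv6 F364614)) (tt N52177 (iv7 F333731)))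
theorem Q47722 : ∀ i, i < 47722 → P i := stepQ 47721 Q47721 (allL N47721 (tt N80977 (iv1 F272911)) (tt N52177 (iv0 F333721)) (tt N24942 (iv2 D84429)) (tt N62433 (iv3 F323435)) (tt N63552 (iv4 F188029)) (tt N62429 (iv5 F351497)) (tt N69641 (iv6 F344125)) (tt N80976 (iv7 F272904)))
theorem Q47723 : ∀ i, i < 47723 → P i := stepQ 47722 Q47722 (allL N47722 (tt N73333 (iv1 F342337)) (tt N81714 D177199) (tt N62429 (iv2 F351496)) (tt N24944 F129569) (tt N81715 D177200) (tt N24942 (iv5 D84430)) (tt N62080 (iv6 F321208)) (tt N80978 (iv7 F272913)))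
theorem Q47724 : ∀ i, i < 47724 → P i := stepQ 47723 Q47723 (allL N47723 (tt N37537 (iv1 F344134)) (tt N81716 D177203) (tt N69641 (iv2 F344123)) (tt N24945 F129570) (tt N67905 (iv4 F314284)) (tt N80438 (iv5 F267499)) (tt N24942 (iv6 D84431)) (tt N65396 (iv7 F201397)))
theorem Q47725 : ∀ i, i < 47725 → P i := stepQ 47724 Q47724 (allL N47724 (tt N45729 F297294) (tt N45689 (iv0 F195251)) (tt N34611 F129571) (tt N25983 F129572) (tt N81717 D177204) (tt N24943 (iv5 D84432)) (tt N25431 F297295) (tt N45721 (iv7 F297854)))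
theorem Q47726 : ∀ i, i < 47726 → P i := stepQ 47725 Q47725 (allL N47725 (tt N24947 (iv1 F129580)) (tt N24944 (iv0 D84434)) (tt N46453 F299107) (tt N72060 (iv3 F339123)) (tt N73746 (iv4 F322339)) (tt N45353 F299108) (tt N67072 (iv6 F311415)) (tt N46455 F299109))
theorem Q47727 : ∀ i, i < 47727 → P i := stepQ 47726 Q47726 (allL N47726 (tt N24944 (iv1 D84435)) (tt N24947 F129581) (tt N46455 F299111) (tt N36230 F318503) (tt N73747 (iv4 F322341)) (tt N46448 F299112) (tt N73172 (iv6 F350114)) (tt N46453 F299113))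
theorem Q47728 : ∀ i, i < 47728 → P i := stepQ 47727 Q47727 (allL N47727 (tt N81718 D177210) (tt N41050 F322216) (tt N40865 F322897) (tt N81719 D177212) (tt N24944 (iv4 D84436)) (tt N81720 D177213) (tt N30310 F322898) (tt N78183 (iv7 F319900)))
theorem Q47729 : ∀ i, i < 47729 → P i := stepQ 47728 Q47728 (allL N47728 (tt N24946 (iv1 D84439)) (tt N62433 (iv0 F323433)) (tt N56129 (iv2 F304988)) (tt N36234 F315952) (tt N34240 (iv4 F304990)) (tt N41066 (iv5 F318154)) (tt N34238 (iv6 F304992)) (tt N52247 (iv7 F310189)))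
theorem Q47730 : ∀ i, i < 47730 → P i := stepQ 47729 Q47729 (allL N47729 (tt N52247 (iv1 F341096)) (tt N56129 (iv0 F302644)) (tt N24946 (iv2 D84440)) (tt N80976 F272907) (tt N45740 (iv4 F304985)) (tt N44399 F321748) (tt N45725 (iv6 F302839)) (tt N62433 (iv7 F323438)))
theorem Q47731 : ∀ i, i < 47731 → P i := stepQ 47730 Q47730 (allL N47730 (tt N41050 F322217) (tt N81718 F276604) (tt N78183 (iv2 F319898)) (tt N71673 (iv3 F361560)) (tt N24947 (iv4 D84446)) (tt N81721 D177245) (tt N39997 F317705) (tt N40865 F323569))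
theorem Q47732 : ∀ i, i < 47732 → P i := stepQ 47731 Q47731 (allL N47731 (tt N81713 (iv1 F359938)) (tt N81680 (iv0 F360252)) (tt N72823 (iv2 F351491)) (tt N24948 (iv3 D84452)) (tt N81722 D177255) (tt N75823 F311407) (tt N36621 (iv6 F313838)) (tt N80346 (iv7 F299103)))
theorem Q47733 : ∀ i, i < 47733 → P i := stepQ 47732 Q47732 (allL N47732 (tt N80355 (iv1 F300151)) (tt N80354 (iv0 F299632)) (tt N80357 (iv2 F300157)) (tt N79174 (iv3 F358859)) (tt N24948 (iv4 D84453)) (tt N79173 (iv5 F325521)) (tt N36622 (iv6 F313839)) (tt N80347 (iv7 F299122)))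
theorem Q47734 : ∀ i, i < 47734 → P i := stepQ 47733 Q47733 (allL N47733 (tt N24949 (iv1 D84460)) (tt N77132 (iv0 F312879)) (tt N77099 (iv2 F308520)) (tt N81723 D177280) (tt N46578 F299162) (tt N81724 D177281) (tt N76867 (iv6 F366733)) (tt N76210 (iv7 F312887)))
theorem Q47735 : ∀ i, i < 47735 → P i := stepQ 47734 Q47734 (allL N47734 (tt N81725 D177283) (tt N81726 D177284) (tt N81727 D177285) (tt N24949 (iv3 D84461)) (tt N65084 (iv4 F199128)) (tt N81728 D177286) (tt N81710 (iv6 F276578)) (tt N65082 F199124))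
theorem Q47736 : ∀ i, i < 47736 → P i := stepQ 47735 Q47735 (allL N47735 (tt N73748 (iv1 F322343)) (tt N81729 D177288) (tt N81666 (iv2 F276353)) (tt N81728 (iv3 F276662)) (tt N65898 (iv4 F325215)) (tt N24949 (iv5 D84462)) (tt N81730 D177289) (tt N81674 F276428))
theorem Q47737 : ∀ i, i < 47737 → P i := stepQ 47736 Q47736 (allL N47736 (tt N77099 (iv1 F308519)) (tt N76210 (iv0 F312885)) (tt N77132 (iv2 F312880)) (tt N65082 (iv3 F199123)) (tt N24950 F129598) (tt N81674 (iv5 F276427)) (tt N81731 D177290) (tt N24949 (iv7 D84463)))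
theorem Q47738 : ∀ i, i < 47738 → P i := stepQ 47737 Q47737 (allL N47737 (tt N73180 (iv1 F341035)) (tt N72183 (iv0 F355134)) (tt N80353 (iv2 F300150)) (tt N35487 F311377) (tt N81731 (iv4 F276669)) (tt N62604 (iv5 F313262)) (tt N24950 (iv6 D84464)) (tt N48153 (iv7 F313777)))
theorem Q47739 : ∀ i, i < 47739 → P i := stepQ 47738 Q47738 (allL N47738 (tt N63599 (iv1 F316598)) (tt N24952 (iv0 D84469)) (tt N63601 (iv2 F316604)) (tt N76018 F276626) (tt N63508 (iv4 F316594)) (tt N77021 (iv5 F360995)) (tt N61424 (iv6 F360996)) (tt N52349 (iv7 F316603)))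
theorem Q47740 : ∀ i, i < 47740 → P i := stepQ 47739 Q47739 (allL N47739 (tt N63601 (iv1 F314161)) (tt N52349 (iv0 F309920)) (tt N24952 (iv2 D84471)) (tt N44582 F309669) (tt N79384 (iv4 F255195)) (tt N73737 (iv5 F322336)) (tt N76450 (iv6 F311859)) (tt N63599 (iv7 F316602)))
theorem Q47741 : ∀ i, i < 47741 → P i := stepQ 47740 Q47740 (allL N47740 (tt N37542 (iv1 F316655)) (tt N76451 (iv0 F316656)) (tt N76450 F314274) (tt N24953 F129600) (tt N69352 (iv4 F307467)) (tt N73742 (iv5 F321823)) (tt N24952 (iv6 D84473)) (tt N46646 (iv7 F129601)))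
theorem Q47742 : ∀ i, i < 47742 → P i := stepQ 47741 Q47741 (allL N47741 (tt N45736 F299841) (tt N81717 (iv0 F276593)) (tt N64030 (iv2 F192316)) (tt N81732 D177331) (tt N24954 (iv4 D84480)) (tt N81733 D177332) (tt N45730 (iv6 F301256)) (tt N74741 (iv7 F326485)))
theorem Q47743 : ∀ i, i < 47743 → P i := stepQ 47742 Q47742 (allL N47742 (tt N81717 (iv1 F276594)) (tt N45736 (iv0 F299610)) (tt N74741 (iv2 F326482)) (tt N81734 D177333) (tt N24955 (iv4 D84481)) (tt N81735 D177334) (tt N45838 F299565) (tt N64030 (iv7 F192318)))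
theorem Q47744 : ∀ i, i < 47744 → P i := stepQ 47743 Q47743 (allL N47743 (tt N65762 (iv1 F326459)) (tt N81736 D177345) (tt N81667 (iv2 F276381)) (tt N65733 (iv3 F325925)) (tt N81729 F276668) (tt N24956 (iv5 D84485)) (tt N81737 D177346) (tt N74656 (iv7 F326477)))
theorem Q47745 : ∀ i, i < 47745 → P i := stepQ 47744 Q47744 (allL N47744 (tt N48416 F298916) (tt N48451 F298917) (tt N46654 F129612) (tt N32093 F326097) (tt N24957 F129613) (tt N81738 D177347) (tt N24956 (iv6 D84486)) (tt N48448 F298918))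
theorem Q47746 : ∀ i, i < 47746 → P i := stepQ 47745 Q47745 (allL N47745 (tt N64086 (iv1 F192993)) (tt N64085 (iv0 F192984)) (tt N58832 (iv2 F325934)) (tt N67301 (iv3 F348391)) (tt N24959 (iv4 D84492)) (tt N80224 (iv5 F322995)) (tt N58830 (iv6 F325172)) (tt N64520 (iv7 F197446)))
theorem Q47747 : ∀ i, i < 47747 → P i := stepQ 47746 Q47746 (allL N47746 (tt N24960 (iv1 D84499)) (tt N44582 F309641) (tt N77475 F309642) (tt N34329 (iv3 F129625)) (tt N54138 (iv4 F310911)) (tt N45784 F129626) (tt N65119 (iv6 F199285)) (tt N34328 F129627))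
theorem Q47748 : ∀ i, i < 47748 → P i := stepQ 47747 Q47747 (allL N47747 (tt N34328 F267395) (tt N77475 F309637) (tt N24960 (iv2 D84500)) (tt N63599 (iv3 F316600)) (tt N43457 (iv4 F311843)) (tt N35407 (iv5 F311846)) (tt N43457 (iv6 F311844)) (tt N44582 F309638))
theorem Q47749 : ∀ i, i < 47749 → P i := stepQ 47748 Q47748 (allL N47748 (tt N62550 (iv1 F345690)) (tt N48108 (iv0 F310753)) (tt N35407 (iv2 F311845)) (tt N24961 F129632) (tt N72289 (iv4 F316710)) (tt N24960 (iv5 D84501)) (tt N35374 (iv6 F311861)) (tt N62446 (iv7 F322071)))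
theorem Q47750 : ∀ i, i < 47750 → P i := stepQ 47749 Q47749 (allL N47749 (tt N73747 (iv1 F322340)) (tt N73746 (iv0 F322338)) (tt N72338 (iv2 F321156)) (tt N81739 D177368) (tt N24961 (iv4 D84503)) (tt N81729 (iv5 F276667)) (tt N44401 F319069) (tt N62448 (iv7 F322072)))
theorem Q47751 : ∀ i, i < 47751 → P i := stepQ 47750 Q47750 (allL N47750 (tt N60541 (iv1 F348389)) (tt N60545 (iv0 F348390)) (tt N57249 (iv2 F348396)) (tt N24962 (iv3 D84508)) (tt N67301 (iv4 F348392)) (tt N58838 (iv5 F348385)) (tt N57254 (iv6 F325289)) (tt N67280 (iv7 F361370)))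
theorem Q47752 : ∀ i, i < 47752 → P i := stepQ 47751 Q47751 (allL N47751 (tt N81736 (iv1 F276729)) (tt N65762 (iv0 F326458)) (tt N74656 (iv2 F326476)) (tt N58838 (iv3 F348384)) (tt N73748 (iv4 F322344)) (tt N24962 (iv5 D84509)) (tt N67477 (iv6 F349608)) (tt N81667 (iv7 F276382)))
theorem Q47753 : ∀ i, i < 47753 → P i := stepQ 47752 Q47752 (allL N47752 (tt N24963 (iv1 D84515)) (tt N24966 F129662) (tt N46299 F296337) (tt N81740 D177389) (tt N27290 (iv4 F129663)) (tt N81736 (iv5 F276730)) (tt N27289 F129665) (tt N46300 (iv7 F297454)))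
theorem Q47754 : ∀ i, i < 47754 → P i := stepQ 47753 Q47753 (allL N47753 (tt N81741 D177395) (tt N81742 D177396) (tt N32351 F331152) (tt N65690 (iv3 F326940)) (tt N81724 (iv4 F276661)) (tt N24963 (iv5 D84517)) (tt N32349 (iv6 F331156)) (tt N81668 (iv7 F276406)))
theorem Q47755 : ∀ i, i < 47755 → P i := stepQ 47754 Q47754 (allL N47754 (tt N79365 F299384) (tt N79730 F299385) (tt N35309 F129667) (tt N65691 (iv3 F326941)) (tt N24965 F129668) (tt N81743 D177400) (tt N24963 (iv6 D84518)) (tt N35306 (iv7 F129669)))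
theorem Q47756 : ∀ i, i < 47756 → P i := stepQ 47755 Q47755 (allL N47755 (tt N27698 F296491) (tt N24965 (iv0 D84521)) (tt N35305 (iv2 F129681)) (tt N34534 (iv3 F297780)) (tt N45875 (iv4 F297782)) (tt N34528 (iv5 F297651)) (tt N27706 F129680) (tt N35212 (iv7 F297596)))
theorem Q47757 : ∀ i, i < 47757 → P i := stepQ 47756 Q47756 (allL N47756 (tt N81744 D177408) (tt N65530 (iv0 F361374)) (tt N65687 (iv2 F332909)) (tt N24966 (iv3 D84524)) (tt N46584 F299386) (tt N32354 (iv5 F331155)) (tt N79351 F299387) (tt N32353 F331143))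
theorem Q47758 : ∀ i, i < 47758 → P i := stepQ 47757 Q47757 (allL N47757 (tt N81742 (iv1 F276782)) (tt N81741 F276779) (tt N81668 (iv2 F276405)) (tt N32354 (iv3 F331154)) (tt N77133 (iv4 F312888)) (tt N24966 (iv5 D84525)) (tt N81745 D177413) (tt N32351 F331153))
theorem Q47759 : ∀ i, i < 47759 → P i := stepQ 47758 Q47758 (allL N47758 (tt N65518 (iv1 F358189)) (tt N81746 D177422) (tt N81747 D177423) (tt N24968 (iv3 D84531)) (tt N80787 (iv4 F271601)) (tt N81748 D177424) (tt N67401 (iv6 F341768)) (tt N80206 (iv7 F297570)))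
theorem Q47760 : ∀ i, i < 47760 → P i := stepQ 47759 Q47759 (allL N47759 (tt N80228 (iv1 F299624)) (tt N80227 (iv0 F299621)) (tt N79532 (iv2 F325525)) (tt N81748 (iv3 F276844)) (tt N80356 (iv4 F300154)) (tt N24968 (iv5 D84533)) (tt N81749 D177428) (tt N80207 (iv7 F297573)))
theorem Q47761 : ∀ i, i < 47761 → P i := stepQ 47760 Q47760 (allL N47760 (tt N45875 (iv1 F297781)) (tt N45874 (iv0 F297778)) (tt N45877 (iv2 F297569)) (tt N67401 (iv3 F341766)) (tt N45865 F297474) (tt N81750 D177429) (tt N24968 (iv6 D84534)) (tt N45863 F297475))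
theorem Q47762 : ∀ i, i < 47762 → P i := stepQ 47761 Q47761 (allL N47761 (tt N81751 D177438) (tt N24969 (iv0 D84538)) (tt N65681 (iv2 F341719)) (tt N81752 D177440) (tt N79596 (iv4 F341721)) (tt N81753 D177442) (tt N81754 D177443) (tt N81755 D177444))
theorem Q47763 : ∀ i, i < 47763 → P i := stepQ 47762 Q47762 (allL N47762 (tt N24969 (iv1 D84539)) (tt N81751 F276863) (tt N81755 (iv2 F276865)) (tt N65520 (iv3 F341722)) (tt N65846 (iv4 F325664)) (tt N81756 D177446) (tt N80215 (iv6 F358045)) (tt N65681 (iv7 F341720)))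
theorem Q47764 : ∀ i, i < 47764 → P i := stepQ 47763 Q47763 (allL N47763 (tt N65681 (iv1 F341717)) (tt N81755 (iv0 F341723)) (tt N24969 (iv2 D84540)) (tt N81671 (iv3 F276419)) (tt N24988 F129709) (tt N81757 D177449) (tt N44632 F129710) (tt N81751 (iv7 F276862)))
theorem Q47765 : ∀ i, i < 47765 → P i := stepQ 47764 Q47764 (allL N47764 (tt N81758 D177450) (tt N81759 D177451) (tt N81757 (iv2 F276867)) (tt N24970 F129711) (tt N47282 F342123) (tt N24969 (iv5 D84541)) (tt N65160 (iv6 F347463)) (tt N81760 D177454))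
theorem Q47766 : ∀ i, i < 47766 → P i := stepQ 47765 Q47765 (allL N47765 (tt N81755 (iv1 F341724)) (tt N65681 (iv0 F341716)) (tt N81751 F276860) (tt N24971 F129712) (tt N24990 F129713) (tt N81760 (iv5 F276871)) (tt N32265 F320731) (tt N24969 (iv7 D84542)))
theorem Q47767 : ∀ i, i < 47767 → P i := stepQ 47766 Q47766 (allL N47766 (tt N65898 (iv1 F325213)) (tt N24970 (iv0 D84543)) (tt N79538 (iv2 F363193)) (tt N81761 D177456) (tt N81721 (iv4 F276639)) (tt N81717 (iv5 F276592)) (tt N81762 D177457) (tt N81673 (iv7 F276596)))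
theorem Q47768 : ∀ i, i < 47768 → P i := stepQ 47767 Q47767 (allL N47767 (tt N24970 (iv1 D84544)) (tt N65898 (iv0 F325212)) (tt N81673 (iv2 F276598)) (tt N64086 (iv3 F341705)) (tt N81720 F276607) (tt N45736 F299651) (tt N79710 (iv6 F363254)) (tt N79538 (iv7 F363195)))
theorem Q47769 : ∀ i, i < 47769 → P i := stepQ 47768 Q47768 (allL N47768 (tt N81729 (iv1 F276666)) (tt N73748 (iv0 F322342)) (tt N81674 (iv2 F276426)) (tt N81763 D177460) (tt N24970 (iv4 D84545)) (tt N77132 (iv5 F312882)) (tt N72910 (iv6 F365119)) (tt N81666 F276355))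
theorem Q47770 : ∀ i, i < 47770 → P i := stepQ 47769 Q47769 (allL N47769 (tt N81764 D177462) (tt N81765 D177463) (tt N81675 (iv2 F276429)) (tt N65160 (iv3 F347461)) (tt N72910 (iv4 F365118)) (tt N44636 F129714) (tt N24970 (iv6 D84546)) (tt N81766 D177464))
theorem Q47771 : ∀ i, i < 47771 → P i := stepQ 47770 Q47770 (allL N47770 (tt N81673 (iv1 F276425)) (tt N79538 (iv0 F363191)) (tt N65898 (iv2 F325214)) (tt N81760 (iv3 F276870)) (tt N81666 (iv4 F276354)) (tt N24971 F129715) (tt N81767 D177465) (tt N24970 (iv7 D84547)))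
theorem Q47772 : ∀ i, i < 47772 → P i := stepQ 47771 Q47771 (allL N47771 (tt N66416 (iv1 F332916)) (tt N72900 F332913) (tt N64573 (iv2 F197599)) (tt N66028 (iv3 F332917)) (tt N24972 (iv4 D84553)) (tt N35653 (iv5 F332918)) (tt N68692 (iv6 F332920)) (tt N64578 (iv7 F197615)))
theorem Q47773 : ∀ i, i < 47773 → P i := stepQ 47772 Q47772 (allL N47772 (tt N73310 (iv1 F362319)) (tt N73232 (iv0 F362316)) (tt N64574 (iv2 F197600)) (tt N51221 (iv3 F358763)) (tt N68692 (iv4 F332919)) (tt N81768 D177486) (tt N24972 (iv6 D84554)) (tt N72433 (iv7 F342826)))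
theorem Q47774 : ∀ i, i < 47774 → P i := stepQ 47773 Q47773 (allL N47773 (tt N34846 F129721) (tt N27978 F301691) (tt N63931 (iv2 F191845)) (tt N77276 (iv3 F242216)) (tt N64331 (iv4 F304427)) (tt N24973 (iv5 D84555)) (tt N81768 (iv6 F276929)) (tt N46667 F129720))
theorem Q47775 : ∀ i, i < 47775 → P i := stepQ 47774 Q47774 (allL N47774 (tt N59520 (iv1 F360040)) (tt N24974 (iv0 D84559)) (tt N64575 (iv2 F197606)) (tt N81769 D177494) (tt N45503 F301653) (tt N59751 (iv5 F341304)) (tt N65034 F301654) (tt N64576 (iv7 F197608)))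
theorem Q47776 : ∀ i, i < 47776 → P i := stepQ 47775 Q47775 (allL N47775 (tt N24974 (iv1 D84560)) (tt N59520 (iv0 F360039)) (tt N64576 F197610) (tt N81770 D177496) (tt N45504 F301656) (tt N59752 (iv5 F341303)) (tt N64158 (iv6 F256105)) (tt N64575 F197605))
theorem Q47777 : ∀ i, i < 47777 → P i := stepQ 47776 Q47776 (allL N47776 (tt N81771 D177498) (tt N81772 D177499) (tt N81773 D177500) (tt N24974 (iv3 D84561)) (tt N24977 F129724) (tt N59521 (iv5 F341340)) (tt N80046 (iv6 F302254)) (tt N58094 (iv7 F366061)))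
theorem Q47778 : ∀ i, i < 47778 → P i := stepQ 47777 Q47777 (allL N47777 (tt N48440 F299397) (tt N79458 (iv0 F256845)) (tt N25030 (iv2 F301318)) (tt N80046 (iv3 F302253)) (tt N24975 F129725) (tt N81774 D177506) (tt N24974 (iv6 D84563)) (tt N25027 (iv7 F301314)))
theorem Q47779 : ∀ i, i < 47779 → P i := stepQ 47778 Q47778 (allL N47778 (tt N46673 (iv1 F333805)) (tt N81775 D177508) (tt N81776 D177509) (tt N24976 (iv3 D84564)) (tt N81734 (iv4 F276715)) (tt N54325 F333804) (tt N45858 F129726) (tt N45705 F129727))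
theorem Q47780 : ∀ i, i < 47780 → P i := stepQ 47779 Q47779 (allL N47779 (tt N65067 (iv1 F199103)) (tt N24977 (iv0 D84565)) (tt N65066 (iv2 F341235)) (tt N81777 D177511) (tt N81778 D177512) (tt N81779 D177513) (tt N80175 (iv6 F339274)) (tt N65065 (iv7 F341243)))
theorem Q47781 : ∀ i, i < 47781 → P i := stepQ 47780 Q47780 (allL N47780 (tt N24977 (iv1 D84566)) (tt N65067 F199105) (tt N65065 (iv2 F341241)) (tt N80973 (iv3 F339269)) (tt N81780 D177517) (tt N81781 D177518) (tt N64165 (iv6 F339267)) (tt N65066 (iv7 F341238)))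
theorem Q47782 : ∀ i, i < 47782 → P i := stepQ 47781 Q47781 (allL N47781 (tt N65066 (iv1 F199104)) (tt N65065 F199100) (tt N24977 (iv2 D84567)) (tt N65064 (iv3 F199095)) (tt N81773 (iv4 F276950)) (tt N79621 (iv5 F257485)) (tt N80045 (iv6 F306734)) (tt N65067 (iv7 F199102)))
theorem Q47783 : ∀ i, i < 47783 → P i := stepQ 47782 Q47782 (allL N47782 (tt N65064 (iv1 F199097)) (tt N24978 (iv0 D84570)) (tt N65063 (iv2 F345349)) (tt N81782 D177525) (tt N81783 D177526) (tt N57406 (iv5 F338793)) (tt N65311 (iv6 F345356)) (tt N65062 (iv7 F345348)))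
theorem Q47784 : ∀ i, i < 47784 → P i := stepQ 47783 Q47783 (allL N47783 (tt N24978 (iv1 D84571)) (tt N65064 F199099) (tt N65062 (iv2 F345346)) (tt N80731 (iv3 F349882)) (tt N81784 D177531) (tt N39845 (iv5 F338798)) (tt N81785 D177533) (tt N65063 (iv7 F345353)))
theorem Q47785 : ∀ i, i < 47785 → P i := stepQ 47784 Q47784 (allL N47784 (tt N65063 (iv1 F199098)) (tt N65062 F199094) (tt N24978 (iv2 D84572)) (tt N65067 (iv3 F199101)) (tt N81014 (iv4 F272999)) (tt N71343 (iv5 F323017)) (tt N79792 (iv6 F258296)) (tt N65064 (iv7 F199096)))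
theorem Q47786 : ∀ i, i < 47786 → P i := stepQ 47785 Q47785 (allL N47785 (tt N79885 (iv1 F345368)) (tt N81785 (iv0 F359069)) (tt N75601 (iv2 F357449)) (tt N24980 (iv3 D84573)) (tt N80923 (iv4 F304028)) (tt N67645 (iv5 F315533)) (tt N58884 (iv6 F321853)) (tt N64249 F194288))
theorem Q47787 : ∀ i, i < 47787 → P i := stepQ 47786 Q47786 (allL N47786 (tt N57985 (iv1 F341293)) (tt N57984 (iv0 F341295)) (tt N57992 (iv2 F341297)) (tt N79584 (iv3 F257405)) (tt N40329 (iv4 F341299)) (tt N24981 (iv5 D84576)) (tt N31684 F341289) (tt N40326 (iv7 F341300)))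
theorem Q47788 : ∀ i, i < 47788 → P i := stepQ 47787 Q47787 (allL N47787 (tt N45759 (iv1 F129743)) (tt N24982 (iv0 D84579)) (tt N45758 F338323) (tt N81786 D177547) (tt N65952 (iv4 F338326)) (tt N81787 D177549) (tt N65950 (iv6 F338325)) (tt N45757 F338324))
theorem Q47789 : ∀ i, i < 47789 → P i := stepQ 47788 Q47788 (allL N47788 (tt N45758 (iv1 F129748)) (tt N45757 F129746) (tt N24982 (iv2 D84581)) (tt N45752 F129744) (tt N81788 D177556) (tt N81789 D177557) (tt N64241 (iv6 F194223)) (tt N45759 F129745))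
theorem Q47790 : ∀ i, i < 47790 → P i := stepQ 47789 Q47789 (allL N47789 (tt N81790 D177558) (tt N80222 (iv0 F338777)) (tt N81788 (iv2 F276995)) (tt N34637 F129749) (tt N24982 (iv4 D84582)) (tt N81791 D177560) (tt N64237 (iv6 F194213)) (tt N45755 F129750))
theorem Q47791 : ∀ i, i < 47791 → P i := stepQ 47790 Q47790 (allL N47790 (tt N79552 (iv1 F345641)) (tt N79555 (iv0 F348423)) (tt N81789 (iv2 F276999)) (tt N24983 F129751) (tt N81792 D177563) (tt N24982 (iv5 D84583)) (tt N35451 (iv6 F316255)) (tt N45760 F129752))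
theorem Q47792 : ∀ i, i < 47792 → P i := stepQ 47791 Q47791 (allL N47791 (tt N80261 (iv1 F353261)) (tt N81793 D177582) (tt N75418 (iv2 F336334)) (tt N27997 F300482) (tt N24984 (iv4 D84588)) (tt N81794 D177583) (tt N44690 F300483) (tt N45750 F129761))
theorem Q47793 : ∀ i, i < 47793 → P i := stepQ 47792 Q47792 (allL N47792 (tt N79524 (iv1 F345789)) (tt N79527 (iv0 F336594)) (tt N75419 (iv2 F336327)) (tt N24985 F129762) (tt N73247 (iv4 F324987)) (tt N24984 (iv5 D84589)) (tt N36115 F323654) (tt N45753 F129763))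
theorem Q47794 : ∀ i, i < 47794 → P i := stepQ 47793 Q47793 (allL N47793 (tt N24987 (iv1 F129771)) (tt N24986 (iv0 D84593)) (tt N24990 (iv2 F129769)) (tt N65070 (iv3 F199114)) (tt N81751 (iv4 F276861)) (tt N81795 D177597) (tt N81796 D177598) (tt N24988 F129770))
theorem Q47795 : ∀ i, i < 47795 → P i := stepQ 47794 Q47794 (allL N47794 (tt N24990 (iv1 F334656)) (tt N24988 F334653) (tt N24986 (iv2 D84594)) (tt N81797 D177601) (tt N81798 D177602) (tt N81799 D177603) (tt N80116 (iv6 F336441)) (tt N24987 (iv7 F129772)))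
theorem Q47796 : ∀ i, i < 47796 → P i := stepQ 47795 Q47795 (allL N47795 (tt N75297 (iv1 F354860)) (tt N81800 D177606) (tt N80979 (iv2 F359278)) (tt N24986 (iv3 D84595)) (tt N78745 (iv4 F304984)) (tt N81801 D177609) (tt N81802 D177610) (tt N79775 (iv7 F344876)))
theorem Q47797 : ∀ i, i < 47797 → P i := stepQ 47796 Q47796 (allL N47796 (tt N81803 D177612) (tt N81804 D177613) (tt N81798 (iv2 F277068)) (tt N65729 (iv3 F341727)) (tt N24986 (iv4 D84596)) (tt N32369 (iv5 F341730)) (tt N81805 D177616) (tt N81806 D177617))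
theorem Q47798 : ∀ i, i < 47798 → P i := stepQ 47797 Q47797 (allL N47797 (tt N81423 (iv1 F333808)) (tt N79517 (iv0 F345841)) (tt N81799 (iv2 F277070)) (tt N81801 (iv3 F277075)) (tt N54338 (iv4 F354493)) (tt N24986 (iv5 D84597)) (tt N81807 D177621) (tt N81808 D177622))
theorem Q47799 : ∀ i, i < 47799 → P i := stepQ 47798 Q47798 (allL N47798 (tt N52841 (iv1 F333809)) (tt N47901 (iv0 F333810)) (tt N80116 (iv2 F336439)) (tt N81802 (iv3 F277076)) (tt N81805 (iv4 F277080)) (tt N81809 D177625) (tt N24986 (iv6 D84598)) (tt N80115 (iv7 F362461)))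
theorem Q47800 : ∀ i, i < 47800 → P i := stepQ 47799 Q47799 (allL N47799 (tt N24988 F334654) (tt N24990 (iv0 F334655)) (tt N24987 F129773) (tt N79775 (iv3 F344875)) (tt N81806 (iv4 F277082)) (tt N81808 (iv5 F277086)) (tt N69225 (iv6 F333819)) (tt N24986 (iv7 D84599)))
theorem Q47801 : ∀ i, i < 47801 → P i := stepQ 47800 Q47800 (allL N47800 (tt N81810 D177628) (tt N81786 (iv0 F360141)) (tt N81811 D177630) (tt N24987 (iv3 D84600)) (tt N81812 D177631) (tt N81813 D177632) (tt N81814 D177633) (tt N81797 (iv7 F277067)))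
theorem Q47802 : ∀ i, i < 47802 → P i := stepQ 47801 Q47801 (allL N47801 (tt N81804 (iv1 F277079)) (tt N81803 F277083) (tt N81806 (iv2 F277081)) (tt N81815 D177634) (tt N24987 (iv4 D84601)) (tt N81816 D177635) (tt N81817 D177636) (tt N81798 (iv7 F277069)))
theorem Q47803 : ∀ i, i < 47803 → P i := stepQ 47802 Q47802 (allL N47802 (tt N79517 (iv1 F345842)) (tt N81423 (iv0 F333807)) (tt N81808 (iv2 F277085)) (tt N81813 (iv3 F277092)) (tt N39624 F345845) (tt N24987 (iv5 D84602)) (tt N39623 (iv6 F345846)) (tt N81799 (iv7 F277071)))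
theorem Q47804 : ∀ i, i < 47804 → P i := stepQ 47803 Q47803 (allL N47803 (tt N46122 (iv1 F337543)) (tt N69401 (iv0 F337544)) (tt N69225 (iv2 F333818)) (tt N81814 (iv3 F277093)) (tt N81817 (iv4 F277094)) (tt N69217 (iv5 F333821)) (tt N24987 (iv6 D84603)) (tt N69228 (iv7 F333816)))
theorem Q47805 : ∀ i, i < 47805 → P i := stepQ 47804 Q47804 (allL N47804 (tt N81478 (iv1 F345507)) (tt N81818 D177654) (tt N24989 F129776) (tt N65079 (iv3 F199122)) (tt N81819 D177655) (tt N24988 (iv5 D84606)) (tt N81820 D177656) (tt N81795 (iv7 F277058)))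
theorem Q47806 : ∀ i, i < 47806 → P i := stepQ 47805 Q47805 (allL N47805 (tt N81795 (iv1 F277060)) (tt N24989 (iv0 D84607)) (tt N81478 (iv2 F339169)) (tt N81821 D177658) (tt N47268 F339167) (tt N46673 (iv5 F339172)) (tt N46674 (iv6 F339173)) (tt N81818 (iv7 F342329)))
theorem Q47807 : ∀ i, i < 47807 → P i := stepQ 47806 Q47806 (allL N47806 (tt N24989 (iv1 D84608)) (tt N81795 F277059) (tt N81818 (iv2 F342325)) (tt N81822 D177663) (tt N81823 D177664) (tt N81775 (iv5 F339184)) (tt N67111 (iv6 F339201)) (tt N81478 (iv7 F339171)))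
theorem Q47808 : ∀ i, i < 47808 → P i := stepQ 47807 Q47807 (allL N47807 (tt N81824 D177667) (tt N77428 (iv0 F339164)) (tt N81819 (iv2 F277101)) (tt N76374 F339095) (tt N24989 (iv4 D84609)) (tt N43474 (iv5 F339096)) (tt N61147 (iv6 F339098)) (tt N81825 D177672))
theorem Q47809 : ∀ i, i < 47809 → P i := stepQ 47808 Q47808 (allL N47808 (tt N60058 (iv1 F360712)) (tt N81826 D177674) (tt N81820 (iv2 F277102)) (tt N24993 F129777) (tt N61147 (iv4 F339097)) (tt N25321 F129778) (tt N24989 (iv6 D84610)) (tt N81827 D177675))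
theorem Q47810 : ∀ i, i < 47810 → P i := stepQ 47809 Q47809 (allL N47809 (tt N81818 (iv1 F277100)) (tt N81478 (iv0 F345506)) (tt N81795 (iv2 F277057)) (tt N24994 F129779) (tt N81825 (iv4 F277108)) (tt N24990 F129780) (tt N81471 (iv6 F347633)) (tt N24989 (iv7 D84611)))
theorem Q47811 : ∀ i, i < 47811 → P i := stepQ 47810 Q47810 (allL N47810 (tt N81828 D177677) (tt N81829 D177678) (tt N81796 (iv2 F277061)) (tt N24995 F129781) (tt N32265 (iv4 F318605)) (tt N75383 F316337) (tt N24990 (iv6 D84612)) (tt N35532 F129782))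
theorem Q47812 : ∀ i, i < 47812 → P i := stepQ 47811 Q47811 (allL N47811 (tt N81787 (iv1 F341640)) (tt N80237 (iv0 F341637)) (tt N81830 D177682) (tt N24991 (iv3 D84613)) (tt N81831 D177683) (tt N34629 F129783) (tt N77686 (iv6 F313874)) (tt N45746 F129784))
theorem Q47813 : ∀ i, i < 47813 → P i := stepQ 47812 Q47812 (allL N47812 (tt N78818 (iv1 F309225)) (tt N57464 (iv0 F309226)) (tt N78817 (iv2 F309227)) (tt N24992 (iv3 D84617)) (tt N76374 (iv4 F339094)) (tt N63108 (iv5 F185623)) (tt N48152 (iv6 F309229)) (tt N44134 (iv7 F309177)))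
theorem Q47814 : ∀ i, i < 47814 → P i := stepQ 47813 Q47813 (allL N47813 (tt N48154 (iv1 F313784)) (tt N24993 (iv0 D84619)) (tt N59943 (iv2 F324483)) (tt N81832 D177700) (tt N25147 (iv4 F313878)) (tt N31184 F323970) (tt N45614 F324471) (tt N25143 (iv7 F313783)))
theorem Q47815 : ∀ i, i < 47815 → P i := stepQ 47814 Q47814 (allL N47814 (tt N25143 (iv1 F313782)) (tt N59943 (iv0 F324481)) (tt N48154 (iv2 F313785)) (tt N81827 (iv3 F277109)) (tt N35488 F311442) (tt N25060 F129792) (tt N74822 (iv6 F313774)) (tt N24993 (iv7 D84621)))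
theorem Q47816 : ∀ i, i < 47816 → P i := stepQ 47815 Q47815 (allL N47815 (tt N63069 (iv1 F313771)) (tt N63074 (iv0 F313772)) (tt N65085 (iv2 F199145)) (tt N81471 (iv3 F347632)) (tt N41223 F322415) (tt N75384 (iv5 F313890)) (tt N24994 (iv6 D84622)) (tt N74822 (iv7 F313775)))
theorem Q47817 : ∀ i, i < 47817 → P i := stepQ 47816 Q47816 (allL N47816 (tt N28069 F129800) (tt N26067 (iv0 F129801)) (tt N28019 F129796) (tt N24997 (iv3 D84625)) (tt N36560 F129799) (tt N26056 F129797) (tt N80850 (iv6 F332348)) (tt N28017 F129798))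
theorem Q47818 : ∀ i, i < 47818 → P i := stepQ 47817 Q47817 (allL N47817 (tt N64279 (iv1 F341135)) (tt N64437 (iv0 F332353)) (tt N64438 (iv2 F331868)) (tt N80850 (iv3 F332346)) (tt N68406 (iv4 F310234)) (tt N81833 D177717) (tt N24997 (iv6 D84626)) (tt N64439 (iv7 F363155)))
theorem Q47819 : ∀ i, i < 47819 → P i := stepQ 47818 Q47818 (allL N47818 (tt N52721 (iv1 F289757)) (tt N52724 (iv0 F289758)) (tt N48855 (iv2 F134717)) (tt N25000 F129802) (tt N48855 (iv4 F134719)) (tt N81834 D177721) (tt N24998 (iv6 D84627)) (tt N54660 (iv7 F289759)))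
theorem Q47820 : ∀ i, i < 47820 → P i := stepQ 47819 Q47819 (allL N47819 (tt N24999 (iv1 D84629)) (tt N64534 (iv0 F337501)) (tt N64536 (iv2 F337508)) (tt N81835 D177729) (tt N43913 (iv4 F337509)) (tt N81836 D177731) (tt N64511 (iv6 F337510)) (tt N43911 (iv7 F337505)))
theorem Q47821 : ∀ i, i < 47821 → P i := stepQ 47820 Q47820 (allL N47820 (tt N81837 D177733) (tt N81838 D177734) (tt N75846 (iv2 F234369)) (tt N25002 F129803) (tt N81839 D177735) (tt N24999 (iv5 D84630)) (tt N81834 (iv6 F277175)) (tt N64928 (iv7 F302894)))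
theorem Q47822 : ∀ i, i < 47822 → P i := stepQ 47821 Q47821 (allL N47821 (tt N25000 (iv1 D84633)) (tt N25014 F129805) (tt N25012 F289785) (tt N28484 (iv3 F289755)) (tt N28744 (iv4 F289756)) (tt N81840 D177745) (tt N26413 (iv6 F293254)) (tt N25011 F289786))
theorem Q47823 : ∀ i, i < 47823 → P i := stepQ 47822 Q47822 (allL N47822 (tt N81841 D177747) (tt N80627 (iv0 F268930)) (tt N25013 F129806) (tt N81834 (iv3 F277174)) (tt N81842 D177748) (tt N25000 (iv5 D84634)) (tt N25002 F129807) (tt N54661 (iv7 F289762)))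
theorem Q47824 : ∀ i, i < 47824 → P i := stepQ 47823 Q47823 (allL N47823 (tt N63986 (iv1 F301756)) (tt N64526 (iv0 F301752)) (tt N25018 F129824) (tt N77458 (iv3 F305180)) (tt N81843 D177760) (tt N25001 (iv5 D84640)) (tt N81844 D177761) (tt N25016 F129825))
theorem Q47825 : ∀ i, i < 47825 → P i := stepQ 47824 Q47824 (allL N47824 (tt N25022 (iv1 F129837)) (tt N25002 (iv0 D84642)) (tt N25019 F129840) (tt N81845 D177762) (tt N81846 D177763) (tt N80318 (iv5 F263592)) (tt N70002 (iv6 F350267)) (tt N25020 F129839))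
theorem Q47826 : ∀ i, i < 47826 → P i := stepQ 47825 Q47825 (allL N47825 (tt N25002 (iv1 D84643)) (tt N25022 F129831) (tt N25020 F129833) (tt N77460 (iv3 F338101)) (tt N81847 D177766) (tt N34807 (iv5 F129832)) (tt N81848 D177767) (tt N25019 (iv7 F129841)))
theorem Q47827 : ∀ i, i < 47827 → P i := stepQ 47826 Q47826 (allL N47826 (tt N81849 D177768) (tt N81850 D177769) (tt N25021 F129834) (tt N81851 D177770) (tt N25002 (iv4 D84644)) (tt N81852 D177771) (tt N81842 (iv6 F277188)) (tt N64930 (iv7 F305174)))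
theorem Q47828 : ∀ i, i < 47828 → P i := stepQ 47827 Q47827 (allL N47827 (tt N79458 (iv1 F302197)) (tt N48440 F132713) (tt N25027 F129855) (tt N81853 D177786) (tt N25003 (iv4 D84652)) (tt N81854 D177787) (tt N59759 (iv6 F325161)) (tt N25030 F129856))
theorem Q47829 : ∀ i, i < 47829 → P i := stepQ 47828 Q47828 (allL N47828 (tt N34480 F299668) (tt N34535 (iv0 F300694)) (tt N25028 F129857) (tt N44727 F299669) (tt N81855 D177789) (tt N25003 (iv5 D84653)) (tt N34570 F129861) (tt N25031 F129859))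
theorem Q47830 : ∀ i, i < 47830 → P i := stepQ 47829 Q47829 (allL N47829 (tt N25036 (iv1 F129869)) (tt N25004 (iv0 D84656)) (tt N25032 F129870) (tt N30839 F325635) (tt N31065 F325636) (tt N62187 (iv5 F345327)) (tt N30837 F325637) (tt N25033 (iv7 F129868)))
theorem Q47831 : ∀ i, i < 47831 → P i := stepQ 47830 Q47830 (allL N47830 (tt N25004 (iv1 D84657)) (tt N25036 F129871) (tt N25033 (iv2 F129873)) (tt N81856 D177794) (tt N54842 F158035) (tt N81857 D177795) (tt N78743 (iv6 F255333)) (tt N25032 F129872))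
theorem Q47832 : ∀ i, i < 47832 → P i := stepQ 47831 Q47831 (allL N47831 (tt N81858 D177796) (tt N81859 D177797) (tt N81860 D177798) (tt N25004 (iv3 D84658)) (tt N65094 (iv4 F199181)) (tt N81861 D177799) (tt N44648 F129874) (tt N64933 (iv7 F302598)))
theorem Q47833 : ∀ i, i < 47833 → P i := stepQ 47832 Q47832 (allL N47832 (tt N78141 (iv1 F360033)) (tt N81862 D177802) (tt N25035 F129875) (tt N81861 (iv3 F277298)) (tt N81863 D177803) (tt N25004 (iv5 D84659)) (tt N78134 (iv6 F349754)) (tt N64934 (iv7 F302603)))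
theorem Q47834 : ∀ i, i < 47834 → P i := stepQ 47833 Q47833 (allL N47833 (tt N43745 F129883) (tt N35036 F129884) (tt N28153 F129880) (tt N75590 (iv3 F312009)) (tt N25005 (iv4 D84661)) (tt N42665 F129882) (tt N81864 D177806) (tt N28155 F129881))
theorem Q47835 : ∀ i, i < 47835 → P i := stepQ 47834 Q47834 (allL N47834 (tt N65014 (iv1 F351780)) (tt N64568 (iv0 F351777)) (tt N28154 F129885) (tt N29330 F129886) (tt N81864 (iv4 F277319)) (tt N81865 D177809) (tt N25005 (iv6 D84662)) (tt N65013 (iv7 F351760)))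
theorem Q47836 : ∀ i, i < 47836 → P i := stepQ 47835 Q47835 (allL N47835 (tt N46947 (iv1 F129891)) (tt N46949 (iv0 F129892)) (tt N27344 F129887) (tt N25006 (iv3 D84663)) (tt N47172 F129890) (tt N27343 F129888) (tt N77181 (iv6 F306374)) (tt N28152 F129889))
theorem Q47837 : ∀ i, i < 47837 → P i := stepQ 47836 Q47836 (allL N47836 (tt N35036 F129897) (tt N43745 F129898) (tt N28155 F129893) (tt N34824 F129894) (tt N25006 (iv4 D84664)) (tt N45259 F129895) (tt N77453 (iv6 F306375)) (tt N28153 F129896))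
theorem Q47838 : ∀ i, i < 47838 → P i := stepQ 47837 Q47837 (allL N47837 (tt N28160 (iv1 F129900)) (tt N25007 (iv0 D84666)) (tt N28157 F281938) (tt N48553 F234472) (tt N81866 D177818) (tt N81867 D177819) (tt N64529 (iv6 F310662)) (tt N28158 F281939))
theorem Q47839 : ∀ i, i < 47839 → P i := stepQ 47838 Q47838 (allL N47838 (tt N25007 (iv1 D84667)) (tt N28160 F129901) (tt N28158 (iv2 F281936)) (tt N81868 D177822) (tt N81869 D177823) (tt N81870 D177824) (tt N81871 D177825) (tt N28157 (iv7 F281937)))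
theorem Q47840 : ∀ i, i < 47840 → P i := stepQ 47839 Q47839 (allL N47839 (tt N81872 D177826) (tt N81873 D177827) (tt N28159 F129902) (tt N25008 F129903) (tt N81874 D177828) (tt N25007 (iv5 D84668)) (tt N28151 F129904) (tt N65354 (iv7 F201004)))
theorem Q47841 : ∀ i, i < 47841 → P i := stepQ 47840 Q47840 (allL N47840 (tt N81875 D177831) (tt N81876 D177832) (tt N65009 (iv2 F198880)) (tt N81877 D177833) (tt N25008 (iv4 D84670)) (tt N31653 (iv5 F328767)) (tt N31656 F328363) (tt N57760 (iv7 F327323)))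
theorem Q47842 : ∀ i, i < 47842 → P i := stepQ 47841 Q47841 (allL N47841 (tt N28486 (iv1 F289799)) (tt N28198 (iv0 F289800)) (tt N27927 (iv2 F289801)) (tt N25011 (iv3 D84679)) (tt N50185 (iv4 F289802)) (tt N81878 D177856) (tt N81879 D177857) (tt N28484 (iv7 F289807)))
theorem Q47843 : ∀ i, i < 47843 → P i := stepQ 47842 Q47842 (allL N47842 (tt N28743 (iv1 F289808)) (tt N28358 (iv0 F289809)) (tt N28701 (iv2 F289795)) (tt N28735 (iv3 F289810)) (tt N25011 (iv4 D84680)) (tt N81880 D177862) (tt N64761 (iv6 F356443)) (tt N28744 (iv7 F289811)))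
theorem Q47844 : ∀ i, i < 47844 → P i := stepQ 47843 Q47843 (allL N47843 (tt N52921 F151862) (tt N81881 D177865) (tt N29044 (iv2 F289796)) (tt N81878 (iv3 F277435)) (tt N81882 D177866) (tt N25011 (iv5 D84681)) (tt N81883 D177867) (tt N81840 (iv7 F289830)))
theorem Q47845 : ∀ i, i < 47845 → P i := stepQ 47844 Q47844 (allL N47844 (tt N28410 (iv1 F277450)) (tt N50211 (iv0 F292661)) (tt N29045 (iv2 F289798)) (tt N81879 (iv3 F277436)) (tt N64761 (iv4 F356442)) (tt N52908 F151814) (tt N25011 (iv6 D84682)) (tt N50212 (iv7 F291476)))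
theorem Q47846 : ∀ i, i < 47846 → P i := stepQ 47845 Q47845 (allL N47845 (tt N81881 (iv1 F277443)) (tt N52921 F277446) (tt N81840 (iv2 F289829)) (tt N26407 F292177) (tt N81884 D177882) (tt N25012 (iv5 D84686)) (tt N81885 D177883) (tt N29044 (iv7 F289797)))
theorem Q47847 : ∀ i, i < 47847 → P i := stepQ 47846 Q47846 (allL N47846 (tt N54661 (iv1 F289761)) (tt N25013 (iv0 D84688)) (tt N81841 (iv2 F277422)) (tt N81886 D177888) (tt N81887 D177889) (tt N80628 F277423) (tt N72267 (iv6 F343240)) (tt N80627 F277424))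
theorem Q47848 : ∀ i, i < 47848 → P i := stepQ 47847 Q47847 (allL N47847 (tt N25013 (iv1 D84689)) (tt N54661 (iv0 F289760)) (tt N80627 F277421) (tt N26255 (iv3 F335669)) (tt N81888 D177892) (tt N26249 F335645) (tt N81889 D177893) (tt N81841 (iv7 F277420)))
theorem Q47849 : ∀ i, i < 47849 → P i := stepQ 47848 Q47848 (allL N47848 (tt N81890 D177894) (tt N81891 D177895) (tt N81842 (iv2 F277187)) (tt N81892 D177896) (tt N25013 (iv4 D84690)) (tt N81893 D177897) (tt N25021 F129920) (tt N81894 D177898))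
theorem Q47850 : ∀ i, i < 47850 → P i := stepQ 47849 Q47849 (allL N47849 (tt N80627 F268931) (tt N81841 F277191) (tt N54661 F289772) (tt N49137 (iv3 F289793)) (tt N81894 (iv4 F277468)) (tt N25014 F129921) (tt N71534 (iv6 F328988)) (tt N25013 (iv7 D84691)))
theorem Q47851 : ∀ i, i < 47851 → P i := stepQ 47850 Q47850 (allL N47850 (tt N81895 D177911) (tt N81896 D177912) (tt N77256 (iv2 F305509)) (tt N25016 F129922) (tt N81897 D177913) (tt N25015 (iv5 D84695)) (tt N79110 (iv6 F366937)) (tt N77458 (iv7 F305181)))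
theorem Q47852 : ∀ i, i < 47852 → P i := stepQ 47851 Q47851 (allL N47851 (tt N25018 (iv1 F129933)) (tt N25016 (iv0 D84700)) (tt N64526 (iv2 F301753)) (tt N81898 D177919) (tt N64888 (iv4 F306747)) (tt N53520 F153925) (tt N81899 D177921) (tt N63986 (iv7 F301758)))
theorem Q47853 : ∀ i, i < 47853 → P i := stepQ 47852 Q47852 (allL N47852 (tt N25016 (iv1 D84701)) (tt N25018 F129934) (tt N63986 (iv2 F301757)) (tt N75871 (iv3 F264403)) (tt N64889 (iv4 F306749)) (tt N63905 (iv5 F301822)) (tt N81900 D177923) (tt N64526 (iv7 F301755)))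
theorem Q47854 : ∀ i, i < 47854 → P i := stepQ 47853 Q47853 (allL N47853 (tt N81901 D177924) (tt N81902 D177925) (tt N64527 (iv2 F301759)) (tt N77927 (iv3 F360096)) (tt N25016 (iv4 D84702)) (tt N77926 (iv5 F360088)) (tt N81903 D177928) (tt N81843 (iv7 F277219)))
theorem Q47855 : ∀ i, i < 47855 → P i := stepQ 47854 Q47854 (allL N47854 (tt N81904 D177929) (tt N81905 D177930) (tt N64402 (iv2 F301751)) (tt N79110 (iv3 F366936)) (tt N81903 (iv4 F277495)) (tt N63907 (iv5 F300527)) (tt N25016 (iv6 D84703)) (tt N81906 D177931))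
theorem Q47856 : ∀ i, i < 47856 → P i := stepQ 47855 Q47855 (allL N47855 (tt N81902 (iv1 F277492)) (tt N81901 F277491) (tt N81843 (iv2 F277218)) (tt N81907 D177950) (tt N25018 (iv4 D84712)) (tt N81908 D177951) (tt N81909 D177952) (tt N64527 (iv7 F301760)))
theorem Q47857 : ∀ i, i < 47857 → P i := stepQ 47856 Q47856 (allL N47856 (tt N81910 D177953) (tt N81911 D177954) (tt N81844 (iv2 F277220)) (tt N81400 (iv3 F315066)) (tt N81909 (iv4 F277508)) (tt N64896 (iv5 F305165)) (tt N25018 (iv6 D84713)) (tt N81912 D177955))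
theorem Q47858 : ∀ i, i < 47858 → P i := stepQ 47857 Q47857 (allL N47857 (tt N77173 (iv1 F364093)) (tt N53686 F387057) (tt N77459 (iv2 F338099)) (tt N25019 (iv3 D84715)) (tt N81913 D177959) (tt N81914 D177960) (tt N81915 D177961) (tt N77460 (iv7 F338103)))
theorem Q47859 : ∀ i, i < 47859 → P i := stepQ 47858 Q47858 (allL N47858 (tt N81916 D177962) (tt N81917 D177963) (tt N81846 (iv2 F277222)) (tt N77929 (iv3 F351216)) (tt N25019 (iv4 D84716)) (tt N81918 D177965) (tt N81919 D177966) (tt N81847 (iv7 F277229)))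
theorem Q47860 : ∀ i, i < 47860 → P i := stepQ 47859 Q47859 (allL N47859 (tt N34531 (iv1 F302674)) (tt N44935 F129946) (tt N80318 (iv2 F263590)) (tt N81914 (iv3 F277509)) (tt N80315 (iv4 F263557)) (tt N25019 (iv5 D84717)) (tt N64602 (iv6 F303764)) (tt N34807 F129945))
theorem Q47861 : ∀ i, i < 47861 → P i := stepQ 47860 Q47860 (allL N47860 (tt N69772 F341427) (tt N38830 (iv0 F341428)) (tt N70002 (iv2 F350266)) (tt N81915 (iv3 F277511)) (tt N81919 (iv4 F277519)) (tt N64603 (iv5 F306408)) (tt N25019 (iv6 D84718)) (tt N70001 (iv7 F350270)))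
theorem Q47862 : ∀ i, i < 47862 → P i := stepQ 47861 Q47861 (allL N47861 (tt N28072 (iv1 F312934)) (tt N81394 (iv0 F312935)) (tt N81920 D177974) (tt N25020 (iv3 D84719)) (tt N81390 (iv4 F312936)) (tt N52889 F310671) (tt N81921 D177976) (tt N81845 (iv7 F277221)))
theorem Q47863 : ∀ i, i < 47863 → P i := stepQ 47862 Q47862 (allL N47862 (tt N81917 (iv1 F277515)) (tt N81916 F277513) (tt N81847 (iv2 F277228)) (tt N81922 D177977) (tt N25020 (iv4 D84720)) (tt N81923 D177978) (tt N81924 D177979) (tt N81846 (iv7 F277223)))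
theorem Q47864 : ∀ i, i < 47864 → P i := stepQ 47863 Q47863 (allL N47863 (tt N81925 D177980) (tt N81926 D177981) (tt N81848 (iv2 F277231)) (tt N81921 (iv3 F277528)) (tt N81924 (iv4 F277530)) (tt N80317 (iv5 F263584)) (tt N25020 (iv6 D84721)) (tt N81927 D177982))
theorem Q47865 : ∀ i, i < 47865 → P i := stepQ 47864 Q47864 (allL N47864 (tt N64930 (iv1 F305171)) (tt N25021 (iv0 D84722)) (tt N81849 F277237) (tt N81928 D177983) (tt N64877 (iv4 F303655)) (tt N81929 D177984) (tt N81930 D177985) (tt N81850 F277236))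
theorem Q47866 : ∀ i, i < 47866 → P i := stepQ 47865 Q47865 (allL N47865 (tt N25021 (iv1 D84723)) (tt N64930 (iv0 F305170)) (tt N81850 F277235) (tt N81931 D177986) (tt N64876 (iv4 F302095)) (tt N81932 D177987) (tt N81933 D177988) (tt N81849 (iv7 F277238)))
theorem Q47867 : ∀ i, i < 47867 → P i := stepQ 47866 Q47866 (allL N47866 (tt N81934 D177989) (tt N81935 D177990) (tt N81936 D177991) (tt N25021 (iv3 D84724)) (tt N75884 (iv4 F234524)) (tt N81937 D177992) (tt N81892 (iv6 F277467)) (tt N81938 D177993))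
theorem Q47868 : ∀ i, i < 47868 → P i := stepQ 47867 Q47867 (allL N47867 (tt N64891 (iv1 F306751)) (tt N64952 (iv0 F304975)) (tt N81852 (iv2 F277240)) (tt N81937 (iv3 F277533)) (tt N64934 (iv4 F302602)) (tt N25021 (iv5 D84725)) (tt N81939 D177996) (tt N81863 F277310))
theorem Q47869 : ∀ i, i < 47869 → P i := stepQ 47868 Q47868 (allL N47868 (tt N81850 (iv1 F277233)) (tt N81849 F277239) (tt N64930 (iv2 F305172)) (tt N81938 (iv3 F277534)) (tt N25022 F129947) (tt N81863 (iv5 F277309)) (tt N81940 D177997) (tt N25021 (iv7 D84726)))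
theorem Q47870 : ∀ i, i < 47870 → P i := stepQ 47869 Q47869 (allL N47869 (tt N81941 D177998) (tt N81942 D177999) (tt N64931 (iv2 F305175)) (tt N70924 (iv3 F328990)) (tt N81940 (iv4 F277541)) (tt N65031 (iv5 F198921)) (tt N25022 (iv6 D84727)) (tt N71534 (iv7 F328989)))
theorem Q47871 : ∀ i, i < 47871 → P i := stepQ 47870 Q47870 (allL N47870 (tt N77144 (iv1 F366915)) (tt N77143 (iv0 F366842)) (tt N77146 (iv2 F306753)) (tt N25024 F129964) (tt N81943 D178073) (tt N25023 (iv5 D84763)) (tt N81944 D178074) (tt N64348 (iv7 F302301)))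
theorem Q47872 : ∀ i, i < 47872 → P i := stepQ 47871 Q47871 (allL N47871 (tt N64889 (iv1 F306748)) (tt N64888 (iv0 F306746)) (tt N64873 (iv2 F304593)) (tt N81945 D178078) (tt N25024 (iv4 D84765)) (tt N64952 (iv5 F304977)) (tt N81946 D178079) (tt N64351 (iv7 F302312)))
theorem Q47873 : ∀ i, i < 47873 → P i := stepQ 47872 Q47872 (allL N47872 (tt N81947 D178080) (tt N81948 D178081) (tt N64872 (iv2 F304594)) (tt N81944 (iv3 F277616)) (tt N81946 (iv4 F277618)) (tt N64510 (iv5 F304631)) (tt N25024 (iv6 D84766)) (tt N81949 D178083))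
theorem Q47874 : ∀ i, i < 47874 → P i := stepQ 47873 Q47873 (allL N47873 (tt N81950 D178084) (tt N81951 D178085) (tt N81952 D178086) (tt N25025 (iv3 D84769)) (tt N80654 (iv4 F302359)) (tt N81953 D178087) (tt N81954 D178088) (tt N64355 (iv7 F302316)))
theorem Q47875 : ∀ i, i < 47875 → P i := stepQ 47874 Q47874 (allL N47874 (tt N64951 (iv1 F304972)) (tt N64950 (iv0 F304969)) (tt N64924 (iv2 F304740)) (tt N81953 (iv3 F277620)) (tt N64891 (iv4 F306752)) (tt N25025 (iv5 D84770)) (tt N81955 D178089) (tt N64356 (iv7 F302318)))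
theorem Q47876 : ∀ i, i < 47876 → P i := stepQ 47875 Q47875 (allL N47875 (tt N45361 (iv1 F299358)) (tt N45360 (iv0 F298896)) (tt N35266 F129969) (tt N81954 (iv3 F277621)) (tt N25026 F129970) (tt N81956 D178090) (tt N25025 (iv6 D84771)) (tt N35267 (iv7 F129971)))
theorem Q47877 : ∀ i, i < 47877 → P i := stepQ 47876 Q47876 (allL N47876 (tt N25030 (iv1 F129976)) (tt N25027 (iv0 D84775)) (tt N79458 (iv2 F302198)) (tt N81957 D178092) (tt N31209 F326516) (tt N64950 (iv5 F304970)) (tt N31208 F326517) (tt N48440 F132714))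
theorem Q47878 : ∀ i, i < 47878 → P i := stepQ 47877 Q47877 (allL N47877 (tt N25027 (iv1 D84776)) (tt N25030 F129977) (tt N48440 (iv2 F132710)) (tt N81958 D178094) (tt N29062 (iv4 F129978)) (tt N64951 (iv5 F304974)) (tt N29061 F129979) (tt N79458 (iv7 F302199)))
theorem Q47879 : ∀ i, i < 47879 → P i := stepQ 47878 Q47878 (allL N47878 (tt N31682 (iv1 F361601)) (tt N81959 D178096) (tt N58090 (iv2 F363994)) (tt N25027 (iv3 D84777)) (tt N65400 (iv4 F302659)) (tt N81960 D178098) (tt N57871 (iv6 F325298)) (tt N80046 (iv7 F260928)))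
theorem Q47880 : ∀ i, i < 47880 → P i := stepQ 47879 Q47879 (allL N47879 (tt N81961 D178100) (tt N81962 D178101) (tt N81854 (iv2 F277276)) (tt N81960 (iv3 F277635)) (tt N81932 (iv4 F277532)) (tt N25027 (iv5 D84778)) (tt N81963 D178102) (tt N81774 (iv7 F302256)))
theorem Q47881 : ∀ i, i < 47881 → P i := stepQ 47880 Q47880 (allL N47880 (tt N58471 (iv1 F325564)) (tt N58472 (iv0 F326103)) (tt N59759 (iv2 F325160)) (tt N57871 (iv3 F325296)) (tt N25029 F129981) (tt N81964 D178105) (tt N25027 (iv6 D84779)) (tt N58091 (iv7 F324542)))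
theorem Q47882 : ∀ i, i < 47882 → P i := stepQ 47881 Q47881 (allL N47881 (tt N34520 F304029) (tt N46733 F194675) (tt N81855 (iv2 F277280)) (tt N77377 (iv3 F306133)) (tt N25028 (iv4 D84781)) (tt N64877 F304030) (tt N46664 F304031) (tt N34814 F129988))
theorem Q47883 : ∀ i, i < 47883 → P i := stepQ 47882 Q47882 (allL N47882 (tt N81965 D178114) (tt N81966 D178115) (tt N81967 D178116) (tt N25030 (iv3 D84787)) (tt N81010 (iv4 F300491)) (tt N81968 D178117) (tt N64577 (iv6 F304612)) (tt N81853 (iv7 F277275)))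
theorem Q47884 : ∀ i, i < 47884 → P i := stepQ 47883 Q47883 (allL N47883 (tt N81962 (iv1 F277641)) (tt N81961 F277638) (tt N81774 (iv2 F302255)) (tt N81968 (iv3 F277669)) (tt N81929 (iv4 F277531)) (tt N25030 (iv5 D84788)) (tt N81969 D178119) (tt N81854 (iv7 F277277)))
theorem Q47885 : ∀ i, i < 47885 → P i := stepQ 47884 Q47884 (allL N47884 (tt N46733 F135953) (tt N34520 (iv0 F301831)) (tt N34814 F130002) (tt N81970 D178122) (tt N25031 (iv4 D84790)) (tt N64876 (iv5 F302096)) (tt N34492 F299271) (tt N81855 (iv7 F277282)))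
theorem Q47886 : ∀ i, i < 47886 → P i := stepQ 47885 Q47885 (allL N47885 (tt N81971 D178123) (tt N81972 D178124) (tt N59490 (iv2 F345335)) (tt N25032 (iv3 D84791)) (tt N64614 (iv4 F197905)) (tt N72972 (iv5 F345330)) (tt N81973 D178127) (tt N81856 (iv7 F277293)))
theorem Q47887 : ∀ i, i < 47887 → P i := stepQ 47886 Q47886 (allL N47886 (tt N45657 (iv1 F299325)) (tt N25420 F130005) (tt N31065 F326100) (tt N58699 F326101) (tt N25032 (iv4 D84792)) (tt N80315 (iv5 F263558)) (tt N31064 F326102) (tt N54842 (iv7 F158032)))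
theorem Q47888 : ∀ i, i < 47888 → P i := stepQ 47887 Q47887 (allL N47887 (tt N81974 D178129) (tt N81975 D178130) (tt N62187 (iv2 F345326)) (tt N72972 (iv3 F345329)) (tt N81923 (iv4 F277529)) (tt N25032 (iv5 D84793)) (tt N62186 (iv6 F345323)) (tt N81857 (iv7 F277295)))
theorem Q47889 : ∀ i, i < 47889 → P i := stepQ 47888 Q47888 (allL N47888 (tt N45366 (iv1 F303322)) (tt N59746 F325545) (tt N30837 F325546) (tt N81973 (iv3 F277680)) (tt N31064 F325547) (tt N58297 F325548) (tt N25032 (iv6 D84794)) (tt N59747 F325549))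
theorem Q47890 : ∀ i, i < 47890 → P i := stepQ 47889 Q47889 (allL N47889 (tt N81975 (iv1 F277691)) (tt N81974 F277688) (tt N81857 (iv2 F277294)) (tt N59488 (iv3 F325334)) (tt N81918 (iv4 F277518)) (tt N25033 (iv5 D84796)) (tt N72219 (iv6 F351213)) (tt N62187 (iv7 F345328)))
theorem Q47891 : ∀ i, i < 47891 → P i := stepQ 47890 Q47890 (allL N47890 (tt N45381 F254132) (tt N64310 F254133) (tt N78743 F255331) (tt N59489 (iv3 F325335)) (tt N45537 F302260) (tt N31708 F343742) (tt N25033 (iv6 D84797)) (tt N45620 F302261))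
theorem Q47892 : ∀ i, i < 47892 → P i := stepQ 47891 Q47891 (allL N47891 (tt N81976 D178142) (tt N25034 (iv0 D84798)) (tt N80180 (iv2 F358913)) (tt N72992 (iv3 F358910)) (tt N80179 (iv4 F358892)) (tt N72989 (iv5 F358911)) (tt N81977 D178147) (tt N80986 (iv7 F358887)))
theorem Q47893 : ∀ i, i < 47893 → P i := stepQ 47892 Q47892 (allL N47892 (tt N25034 (iv1 D84799)) (tt N81976 F277704) (tt N80986 (iv2 F358886)) (tt N81978 D178149) (tt N80183 (iv4 F350678)) (tt N81979 D178150) (tt N47295 (iv6 F358888)) (tt N80180 (iv7 F358914)))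
theorem Q47894 : ∀ i, i < 47894 → P i := stepQ 47893 Q47893 (allL N47893 (tt N80180 F262024) (tt N80986 (iv0 F358915)) (tt N25034 (iv2 D84800)) (tt N81860 (iv3 F277296)) (tt N25053 F130006) (tt N81980 D178153) (tt N44666 F130007) (tt N81976 (iv7 F277703)))
theorem Q47895 : ∀ i, i < 47895 → P i := stepQ 47894 Q47894 (allL N47894 (tt N81981 D178154) (tt N81982 D178155) (tt N81980 (iv2 F277708)) (tt N25035 F130008) (tt N81983 D178156) (tt N25034 (iv5 D84801)) (tt N81984 D178157) (tt N81985 D178158))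
theorem Q47896 : ∀ i, i < 47896 → P i := stepQ 47895 Q47895 (allL N47895 (tt N80986 (iv1 F358916)) (tt N80180 (iv0 F262023)) (tt N81976 F277701) (tt N25036 F130009) (tt N25055 F130010) (tt N81985 (iv5 F277712)) (tt N73090 (iv6 F324532)) (tt N25034 (iv7 D84802)))
theorem Q47897 : ∀ i, i < 47897 → P i := stepQ 47896 Q47896 (allL N47896 (tt N64934 (iv1 F302600)) (tt N25035 (iv0 D84803)) (tt N78141 (iv2 F360034)) (tt N81986 D178160) (tt N81908 (iv4 F277507)) (tt N63874 (iv5 F297435)) (tt N81987 D178161) (tt N81862 (iv7 F277305)))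
theorem Q47898 : ∀ i, i < 47898 → P i := stepQ 47897 Q47897 (allL N47897 (tt N25035 (iv1 D84804)) (tt N64934 (iv0 F302599)) (tt N81862 F277307) (tt N57747 (iv3 F360030)) (tt N77926 (iv4 F360087)) (tt N64936 (iv5 F299747)) (tt N81988 D178163) (tt N78141 (iv7 F360036)))
theorem Q47899 : ∀ i, i < 47899 → P i := stepQ 47898 Q47898 (allL N47898 (tt N64952 (iv1 F304976)) (tt N64891 (iv0 F306750)) (tt N81863 (iv2 F277308)) (tt N81989 D178164) (tt N25035 (iv4 D84805)) (tt N64930 (iv5 F305173)) (tt N77843 (iv6 F345267)) (tt N81852 F277242))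
theorem Q47900 : ∀ i, i < 47900 → P i := stepQ 47899 Q47899 (allL N47899 (tt N73026 (iv1 F345279)) (tt N38663 (iv0 F345265)) (tt N78134 (iv2 F349752)) (tt N81984 (iv3 F277709)) (tt N77843 (iv4 F345266)) (tt N44670 F130011) (tt N25035 (iv6 D84806)) (tt N78133 (iv7 F349767)))
theorem Q47901 : ∀ i, i < 47901 → P i := stepQ 47900 Q47900 (allL N47900 (tt N81862 (iv1 F277304)) (tt N78141 (iv0 F360032)) (tt N64934 (iv2 F302601)) (tt N81985 (iv3 F277711)) (tt N81852 (iv4 F277241)) (tt N25036 F130012) (tt N81990 D178169) (tt N25035 (iv7 D84807)))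
theorem Q47902 : ∀ i, i < 47902 → P i := stepQ 47901 Q47901 (allL N47901 (tt N47798 F333810) (tt N81991 D178174) (tt N81363 (iv2 F323504)) (tt N25039 (iv3 D84810)) (tt N79742 F302831) (tt N75011 (iv5 F317771)) (tt N78585 (iv6 F322597)) (tt N46204 F130016))
theorem Q47903 : ∀ i, i < 47903 → P i := stepQ 47902 Q47902 (allL N47902 (tt N81992 D178176) (tt N81993 D178177) (tt N81994 D178178) (tt N25040 (iv3 D84811)) (tt N64940 F304735) (tt N75009 (iv5 F317773)) (tt N25286 F130017) (tt N46203 F130018))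
theorem Q47904 : ∀ i, i < 47904 → P i := stepQ 47903 Q47903 (allL N47903 (tt N65149 (iv1 F199392)) (tt N25041 (iv0 D84812)) (tt N65148 (iv2 F340147)) (tt N81995 D178180) (tt N81996 D178181) (tt N81997 D178182) (tt N48038 F340146) (tt N65147 (iv7 F340176)))
theorem Q47905 : ∀ i, i < 47905 → P i := stepQ 47904 Q47904 (allL N47904 (tt N25041 (iv1 D84813)) (tt N65149 F199394) (tt N65147 (iv2 F340173)) (tt N46794 (iv3 F335989)) (tt N81998 D178186) (tt N43229 F335987) (tt N25294 (iv6 F335991)) (tt N65148 (iv7 F340148)))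
theorem Q47906 : ∀ i, i < 47906 → P i := stepQ 47905 Q47905 (allL N47905 (tt N65148 (iv1 F199393)) (tt N65147 F199388) (tt N25041 (iv2 D84814)) (tt N65139 (iv3 F199324)) (tt N55566 (iv4 F352057)) (tt N80203 (iv5 F262056)) (tt N70083 (iv6 F333840)) (tt N65149 (iv7 F199391)))
theorem Q47907 : ∀ i, i < 47907 → P i := stepQ 47906 Q47906 (allL N47906 (tt N81999 D178221) (tt N82000 D178222) (tt N82001 D178223) (tt N25042 (iv3 D84828)) (tt N25043 F130024) (tt N82002 D178224) (tt N45763 F130025) (tt N64284 (iv7 F299734)))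
theorem Q47908 : ∀ i, i < 47908 → P i := stepQ 47907 Q47907 (allL N47907 (tt N40349 (iv1 F341272)) (tt N40348 (iv0 F341275)) (tt N39909 (iv2 F341274)) (tt N82002 (iv3 F277779)) (tt N30749 (iv4 F341276)) (tt N25042 (iv5 D84829)) (tt N40357 (iv6 F341277)) (tt N33219 F341271))
theorem Q47909 : ∀ i, i < 47909 → P i := stepQ 47908 Q47908 (allL N47908 (tt N65139 (iv1 F199326)) (tt N25043 (iv0 D84830)) (tt N65138 (iv2 F353910)) (tt N51663 (iv3 F344671)) (tt N82003 D178230) (tt N82004 D178231) (tt N65397 (iv6 F341201)) (tt N65137 (iv7 F353913)))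
theorem Q47910 : ∀ i, i < 47910 → P i := stepQ 47909 Q47909 (allL N47909 (tt N25043 (iv1 D84831)) (tt N65139 F199328) (tt N65137 (iv2 F353912)) (tt N82005 D178234) (tt N82006 D178235) (tt N82007 D178236) (tt N82008 D178237) (tt N65138 (iv7 F353911)))
theorem Q47911 : ∀ i, i < 47911 → P i := stepQ 47910 Q47910 (allL N47910 (tt N65138 (iv1 F199327)) (tt N65137 F199323) (tt N25043 (iv2 D84832)) (tt N65149 (iv3 F199389)) (tt N82001 (iv4 F277777)) (tt N47975 F320192) (tt N45762 F130026) (tt N65139 (iv7 F199325)))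
theorem Q47912 : ∀ i, i < 47912 → P i := stepQ 47911 Q47911 (allL N47911 (tt N25044 (iv1 D84833)) (tt N64444 (iv0 F197172)) (tt N59955 (iv2 F326115)) (tt N82009 D178238) (tt N58473 (iv4 F326106)) (tt N40348 F341281) (tt N58472 (iv6 F326104)) (tt N63882 F191535))
theorem Q47913 : ∀ i, i < 47913 → P i := stepQ 47912 Q47912 (allL N47912 (tt N82010 D178239) (tt N82011 D178240) (tt N64612 (iv2 F197897)) (tt N80174 (iv3 F262003)) (tt N33311 (iv4 F344427)) (tt N25044 (iv5 D84834)) (tt N33309 (iv6 F344428)) (tt N64609 (iv7 F197891)))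
theorem Q47914 : ∀ i, i < 47914 → P i := stepQ 47913 Q47913 (allL N47913 (tt N46252 (iv1 F130028)) (tt N25045 (iv0 D84836)) (tt N46251 (iv2 F324875)) (tt N82012 D178245) (tt N29253 (iv4 F324801)) (tt N82013 D178247) (tt N82014 D178248) (tt N45806 F340630))
theorem Q47915 : ∀ i, i < 47915 → P i := stepQ 47914 Q47914 (allL N47914 (tt N25045 (iv1 D84837)) (tt N46252 F130032) (tt N45806 F340629) (tt N82015 D178250) (tt N29254 (iv4 F324802)) (tt N55589 (iv5 F324803)) (tt N34659 (iv6 F340633)) (tt N46251 (iv7 F324876)))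
theorem Q47916 : ∀ i, i < 47916 → P i := stepQ 47915 Q47915 (allL N47915 (tt N49614 (iv1 F324804)) (tt N49637 (iv0 F324805)) (tt N49634 F323501) (tt N25046 F130036) (tt N29364 (iv4 F324806)) (tt N25045 (iv5 D84840)) (tt N33626 (iv6 F321422)) (tt N46253 F130037))
theorem Q47917 : ∀ i, i < 47917 → P i := stepQ 47916 Q47916 (allL N47916 (tt N25048 (iv1 D84846)) (tt N46247 F130052) (tt N46246 (iv2 F335058)) (tt N58055 (iv3 F356023)) (tt N60410 (iv4 F356018)) (tt N75177 (iv5 F335059)) (tt N58054 (iv6 F341862)) (tt N45851 (iv7 F335060)))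
theorem Q47918 : ∀ i, i < 47918 → P i := stepQ 47917 Q47917 (allL N47917 (tt N45851 F334030) (tt N46246 F130051) (tt N25048 (iv2 D84847)) (tt N46252 F130049) (tt N82016 D178284) (tt N82017 D178285) (tt N82018 D178286) (tt N46247 F130050))
theorem Q47919 : ∀ i, i < 47919 → P i := stepQ 47918 Q47918 (allL N47918 (tt N82019 D178287) (tt N82020 D178288) (tt N82016 (iv2 F277833)) (tt N34741 F130054) (tt N25048 (iv4 D84848)) (tt N82021 D178289) (tt N79539 (iv6 F341681)) (tt N46243 F130055))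
theorem Q47920 : ∀ i, i < 47920 → P i := stepQ 47919 Q47919 (allL N47919 (tt N75001 (iv1 F337732)) (tt N80123 (iv0 F337726)) (tt N82017 (iv2 F277837)) (tt N25049 F130056) (tt N73610 (iv4 F330046)) (tt N25048 (iv5 D84849)) (tt N75196 (iv6 F334041)) (tt N41841 (iv7 F319816)))
theorem Q47921 : ∀ i, i < 47921 → P i := stepQ 47920 Q47920 (allL N47920 (tt N67050 (iv1 F320972)) (tt N47334 (iv0 F340246)) (tt N82018 (iv2 F277842)) (tt N25050 F130058) (tt N79539 (iv4 F341680)) (tt N69333 (iv5 F311623)) (tt N25048 (iv6 D84850)) (tt N45748 (iv7 F130059)))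
theorem Q47922 : ∀ i, i < 47922 → P i := stepQ 47921 Q47921 (allL N47921 (tt N37148 (iv1 F316552)) (tt N47511 (iv0 F316553)) (tt N46255 F130060) (tt N75196 (iv3 F334040)) (tt N41842 (iv4 F317178)) (tt N69334 F314101) (tt N25049 (iv6 D84851)) (tt N41852 (iv7 F317182)))
theorem Q47923 : ∀ i, i < 47923 → P i := stepQ 47922 Q47922 (allL N47922 (tt N25052 (iv1 F130067)) (tt N25051 (iv0 D84853)) (tt N25055 (iv2 F130065)) (tt N65152 (iv3 F199403)) (tt N81976 (iv4 F277702)) (tt N81469 (iv5 F334705)) (tt N60074 (iv6 F324549)) (tt N25053 F130066))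
theorem Q47924 : ∀ i, i < 47924 → P i := stepQ 47923 Q47923 (allL N47923 (tt N25055 F329026) (tt N25053 F329027) (tt N25051 (iv2 D84854)) (tt N75389 (iv3 F353486)) (tt N82022 D178307) (tt N61605 (iv5 F334719)) (tt N59988 F329028) (tt N25052 (iv7 F130068)))
theorem Q47925 : ∀ i, i < 47925 → P i := stepQ 47924 Q47924 (allL N47924 (tt N82023 D178317) (tt N82024 D178318) (tt N82022 (iv2 F277890)) (tt N31685 (iv3 F328591)) (tt N25051 (iv4 D84856)) (tt N62173 (iv5 F353305)) (tt N40321 (iv6 F328592)) (tt N82025 D178322))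
theorem Q47926 : ∀ i, i < 47926 → P i := stepQ 47925 Q47925 (allL N47925 (tt N61470 (iv1 F334689)) (tt N47468 F334694) (tt N61605 (iv2 F334718)) (tt N59991 (iv3 F327746)) (tt N61269 (iv4 F353307)) (tt N25051 (iv5 D84857)) (tt N74830 (iv6 F334749)) (tt N47505 F334699))
theorem Q47927 : ∀ i, i < 47927 → P i := stepQ 47926 Q47926 (allL N47926 (tt N25053 (iv1 F328595)) (tt N25055 (iv0 F328596)) (tt N25052 F130069) (tt N58068 F328218) (tt N82025 (iv4 F277904)) (tt N47505 F334698) (tt N46944 (iv6 F334701)) (tt N25051 (iv7 D84859)))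
theorem Q47928 : ∀ i, i < 47928 → P i := stepQ 47927 Q47927 (allL N47927 (tt N82026 D178333) (tt N82012 (iv0 F353480)) (tt N60105 (iv2 F353488)) (tt N25052 (iv3 D84860)) (tt N82027 D178336) (tt N56194 (iv5 F334714)) (tt N47294 (iv6 F334707)) (tt N75389 (iv7 F353487)))
theorem Q47929 : ∀ i, i < 47929 → P i := stepQ 47928 Q47928 (allL N47928 (tt N82024 (iv1 F277901)) (tt N82023 F277905) (tt N82025 (iv2 F277903)) (tt N82028 D178339) (tt N25052 (iv4 D84861)) (tt N82029 D178340) (tt N47121 (iv6 F334708)) (tt N82022 (iv7 F277891)))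
theorem Q47930 : ∀ i, i < 47930 → P i := stepQ 47929 Q47929 (allL N47929 (tt N47468 F334695) (tt N61470 (iv0 F334688)) (tt N47505 (iv2 F334696)) (tt N56194 F334716) (tt N32911 (iv4 F334717)) (tt N25052 (iv5 D84862)) (tt N47005 (iv6 F334697)) (tt N61605 (iv7 F334720)))
theorem Q47931 : ∀ i, i < 47931 → P i := stepQ 47930 Q47930 (allL N47930 (tt N82030 D178358) (tt N81454 (iv0 F345552)) (tt N25054 F130072) (tt N65162 (iv3 F199411)) (tt N82031 D178360) (tt N25053 (iv5 D84866)) (tt N76645 (iv6 F353624)) (tt N81469 (iv7 F334706)))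
theorem Q47932 : ∀ i, i < 47932 → P i := stepQ 47931 Q47931 (allL N47931 (tt N81469 (iv1 F334703)) (tt N25054 (iv0 D84867)) (tt N82030 (iv2 F345526)) (tt N82032 D178363) (tt N82033 D178364) (tt N81992 (iv5 F336010)) (tt N67917 (iv6 F336011)) (tt N81454 (iv7 F336000)))
theorem Q47933 : ∀ i, i < 47933 → P i := stepQ 47932 Q47932 (allL N47932 (tt N25054 (iv1 D84868)) (tt N81469 (iv0 F334702)) (tt N81454 (iv2 F335999)) (tt N82034 D178368) (tt N79892 (iv4 F335995)) (tt N81993 (iv5 F336002)) (tt N79891 (iv6 F335998)) (tt N82030 (iv7 F345528)))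
theorem Q47934 : ∀ i, i < 47934 → P i := stepQ 47933 Q47933 (allL N47933 (tt N51089 (iv1 F375434)) (tt N82035 D178373) (tt N82031 (iv2 F277921)) (tt N74821 (iv3 F317779)) (tt N25054 (iv4 D84869)) (tt N82036 D178375) (tt N63400 (iv6 F334760)) (tt N82037 D178377))
theorem Q47935 : ∀ i, i < 47935 → P i := stepQ 47934 Q47934 (allL N47934 (tt N75289 (iv1 F343318)) (tt N76647 (iv0 F334755)) (tt N76645 (iv2 F353621)) (tt N25058 F130073) (tt N63400 (iv4 F334759)) (tt N35532 F130074) (tt N25054 (iv6 D84870)) (tt N75383 (iv7 F313887)))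
theorem Q47936 : ∀ i, i < 47936 → P i := stepQ 47935 Q47935 (allL N47935 (tt N81454 (iv1 F345553)) (tt N82030 F277918) (tt N81469 (iv2 F334704)) (tt N25059 F130075) (tt N82037 (iv4 F277929)) (tt N25055 F130076) (tt N80902 (iv6 F347639)) (tt N25054 (iv7 D84871)))
theorem Q47937 : ∀ i, i < 47937 → P i := stepQ 47936 Q47936 (allL N47936 (tt N31266 (iv1 F324544)) (tt N60075 (iv0 F324545)) (tt N60074 (iv2 F324548)) (tt N25060 F130077) (tt N73090 (iv4 F324531)) (tt N81827 (iv5 F277110)) (tt N25055 (iv6 D84872)) (tt N25321 F130078))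
theorem Q47938 : ∀ i, i < 47938 → P i := stepQ 47937 Q47937 (allL N47937 (tt N82013 (iv1 F333965)) (tt N55589 (iv0 F340631)) (tt N75452 (iv2 F337752)) (tt N25056 (iv3 D84873)) (tt N26305 F333966) (tt N34736 F130079) (tt N67841 (iv6 F320514)) (tt N46238 F130080))
theorem Q47939 : ∀ i, i < 47939 → P i := stepQ 47938 Q47938 (allL N47938 (tt N75437 (iv1 F334582)) (tt N75304 (iv0 F338178)) (tt N63081 (iv2 F185006)) (tt N80902 (iv3 F347638)) (tt N62713 (iv4 F308865)) (tt N74822 (iv5 F313773)) (tt N25059 (iv6 D84880)) (tt N75384 (iv7 F313891)))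
theorem Q47940 : ∀ i, i < 47940 → P i := stepQ 47939 Q47939 (allL N47939 (tt N25489 F232550) (tt N25493 F232551) (tt N40024 (iv2 F308014)) (tt N69610 F306187) (tt N25062 F130089) (tt N82038 D178409) (tt N25061 (iv6 D84881)) (tt N40015 (iv7 F308185)))
theorem Q47941 : ∀ i, i < 47941 → P i := stepQ 47940 Q47940 (allL N47940 (tt N34450 F304255) (tt N43076 (iv0 F305658)) (tt N43093 (iv2 F305657)) (tt N44547 F311398) (tt N42683 (iv4 F306130)) (tt N25064 (iv5 D84889)) (tt N43095 F304256) (tt N34016 F304257))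
theorem Q47942 : ∀ i, i < 47942 → P i := stepQ 47941 Q47941 (allL N47941 (tt N68365 (iv1 F309919)) (tt N38323 (iv0 F311662)) (tt N63729 (iv2 F189024)) (tt N25161 F232889) (tt N63869 (iv4 F309784)) (tt N63337 (iv5 F187241)) (tt N25064 (iv6 D84890)) (tt N77629 (iv7 F244313)))
theorem Q47943 : ∀ i, i < 47943 → P i := stepQ 47942 Q47942 (allL N47942 (tt N63633 F232780) (tt N63628 F232781) (tt N63631 (iv2 F238281)) (tt N77169 (iv3 F241786)) (tt N76440 (iv4 F308737)) (tt N43092 F307793) (tt N25065 (iv6 D84894)) (tt N63632 F238287))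
theorem Q47944 : ∀ i, i < 47944 → P i := stepQ 47943 Q47943 (allL N47943 (tt N79495 (iv1 F334417)) (tt N43634 F306723) (tt N28764 F130106) (tt N25068 F130107) (tt N28760 F130108) (tt N81091 (iv5 F343419)) (tt N25067 (iv6 D84895)) (tt N63634 (iv7 F188540)))
theorem Q47945 : ∀ i, i < 47945 → P i := stepQ 47944 Q47944 (allL N47944 (tt N60381 (iv1 F359935)) (tt N66029 (iv0 F326826)) (tt N63535 (iv2 F187922)) (tt N81091 (iv3 F343418)) (tt N62060 (iv4 F336275)) (tt N25068 (iv5 D84898)) (tt N79405 (iv6 F255694)) (tt N63635 (iv7 F188544)))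
theorem Q47946 : ∀ i, i < 47946 → P i := stepQ 47945 Q47945 (allL N47945 (tt N36612 F155131) (tt N47365 F155132) (tt N33844 F130110) (tt N42532 F130111) (tt N25070 F130112) (tt N76678 (iv5 F239703)) (tt N25069 (iv6 D84900)) (tt N47397 F155133))
theorem Q47947 : ∀ i, i < 47947 → P i := stepQ 47946 Q47946 (allL N47946 (tt N78211 (iv1 F316071)) (tt N63837 (iv0 F311316)) (tt N63534 (iv2 F187920)) (tt N69859 (iv3 F336890)) (tt N59248 (iv4 F332234)) (tt N25070 (iv5 D84903)) (tt N79403 (iv6 F319558)) (tt N78215 (iv7 F349780)))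
theorem Q47948 : ∀ i, i < 47948 → P i := stepQ 47947 Q47947 (allL N47947 (tt N46360 (iv1 F340790)) (tt N46404 F340787) (tt N46398 F130119) (tt N46880 F130120) (tt N66749 (iv4 F333596)) (tt N37983 F320709) (tt N25072 (iv6 D84907)) (tt N46393 (iv7 F305456)))
theorem Q47949 : ∀ i, i < 47949 → P i := stepQ 47948 Q47948 (allL N47948 (tt N63557 (iv1 F188048)) (tt N25073 (iv0 D84908)) (tt N63555 (iv2 F317453)) (tt N81080 (iv3 F306526)) (tt N76039 F274049) (tt N35752 (iv5 F333673)) (tt N82039 D178439) (tt N60403 (iv7 F333675)))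
theorem Q47950 : ∀ i, i < 47950 → P i := stepQ 47949 Q47949 (allL N47949 (tt N25073 (iv1 D84909)) (tt N63557 F188047) (tt N60403 (iv2 F333674)) (tt N37639 (iv3 F317452)) (tt N76040 (iv4 F343403)) (tt N35774 (iv5 F333678)) (tt N62140 (iv6 F333679)) (tt N63555 (iv7 F317454)))
theorem Q47951 : ∀ i, i < 47951 → P i := stepQ 47950 Q47950 (allL N47950 (tt N60403 (iv1 F333688)) (tt N63555 F188046) (tt N63557 (iv2 F188044)) (tt N34767 F130123) (tt N44901 F130124) (tt N64137 (iv5 F317711)) (tt N46401 F130125) (tt N25073 (iv7 D84911)))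
theorem Q47952 : ∀ i, i < 47952 → P i := stepQ 47951 Q47951 (allL N47951 (tt N79498 (iv1 F334398)) (tt N79497 (iv0 F334393)) (tt N28809 F324277) (tt N25074 (iv3 D84913)) (tt N28808 F324278) (tt N45895 F328022) (tt N82040 D178452) (tt N63560 (iv7 F188069)))
theorem Q47953 : ∀ i, i < 47953 → P i := stepQ 47952 Q47952 (allL N47952 (tt N47336 F190050) (tt N34213 F190051) (tt N47335 (iv2 F189960)) (tt N33841 F130128) (tt N25074 (iv4 D84914)) (tt N76105 (iv5 F236382)) (tt N48229 (iv6 F155289)) (tt N33853 (iv7 F155326)))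
theorem Q47954 : ∀ i, i < 47954 → P i := stepQ 47953 Q47953 (allL N47953 (tt N25113 (iv1 F278060)) (tt N37986 F318019) (tt N63559 (iv2 F188067)) (tt N82040 (iv3 F278052)) (tt N48229 F155290) (tt N45901 (iv5 F328400)) (tt N25074 (iv6 D84916)) (tt N82041 D178458))
theorem Q47955 : ∀ i, i < 47955 → P i := stepQ 47954 Q47954 (allL N47954 (tt N34213 F190052) (tt N47336 F190053) (tt N33853 F155331) (tt N77581 (iv3 F243857)) (tt N25075 (iv4 D84919)) (tt N76102 (iv5 F236365)) (tt N82042 D178459) (tt N47335 (iv7 F189963)))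
theorem Q47956 : ∀ i, i < 47956 → P i := stepQ 47955 Q47955 (allL N47955 (tt N63642 (iv1 F332050)) (tt N63520 (iv0 F332084)) (tt N63561 (iv2 F188072)) (tt N77282 (iv3 F332047)) (tt N82042 (iv4 F278068)) (tt N77281 (iv5 F332064)) (tt N25075 (iv6 D84921)) (tt N63641 (iv7 F188550)))
theorem Q47957 : ∀ i, i < 47957 → P i := stepQ 47956 Q47956 (allL N47956 (tt N58872 F315483) (tt N25076 (iv0 D84922)) (tt N58882 F315484) (tt N82043 D178466) (tt N58072 (iv4 F317706)) (tt N67637 (iv5 F313814)) (tt N32082 (iv6 F317707)) (tt N32008 F315485))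
theorem Q47958 : ∀ i, i < 47958 → P i := stepQ 47957 Q47957 (allL N47957 (tt N47312 (iv1 F307480)) (tt N71613 (iv0 F331939)) (tt N63564 (iv2 F188098)) (tt N69297 (iv3 F333404)) (tt N25078 (iv4 D84928)) (tt N66038 (iv5 F343949)) (tt N69295 (iv6 F309292)) (tt N46972 F304843))
theorem Q47959 : ∀ i, i < 47959 → P i := stepQ 47958 Q47958 (allL N47958 (tt N25079 (iv1 D84930)) (tt N25115 (iv0 F130162)) (tt N25117 F130161) (tt N38323 F313466) (tt N37986 (iv4 F315776)) (tt N43398 F130478) (tt N25109 (iv6 F130139)) (tt N25098 (iv7 F130160)))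
theorem Q47960 : ∀ i, i < 47960 → P i := stepQ 47959 Q47959 (allL N47959 (tt N25117 (iv1 F130235)) (tt N25098 (iv0 F130236)) (tt N25115 F130176) (tt N46670 F130177) (tt N81267 (iv4 F274059)) (tt N63379 (iv5 F187036)) (tt N54147 (iv6 F308431)) (tt N25079 (iv7 D84931)))
theorem Q47961 : ∀ i, i < 47961 → P i := stepQ 47960 Q47960 (allL N47960 (tt N46394 F130183) (tt N42463 (iv0 F130184)) (tt N25377 F130180) (tt N43445 F305665) (tt N25080 (iv4 D84932)) (tt N43433 F305666) (tt N78313 (iv6 F307673)) (tt N43432 F305667))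
theorem Q47962 : ∀ i, i < 47962 → P i := stepQ 47961 Q47961 (allL N47961 (tt N62140 (iv1 F351486)) (tt N53573 F194826) (tt N34765 F130185) (tt N25083 F130186) (tt N78313 (iv4 F307672)) (tt N79418 (iv5 F302956)) (tt N25080 (iv6 D84933)) (tt N75842 (iv7 F312891)))
theorem Q47963 : ∀ i, i < 47963 → P i := stepQ 47962 Q47962 (allL N47962 (tt N77753 (iv1 F347886)) (tt N60088 (iv0 F350647)) (tt N79407 (iv2 F255730)) (tt N25086 F130187) (tt N82044 D178481) (tt N25081 (iv5 D84936)) (tt N79418 (iv6 F302957)) (tt N81101 (iv7 F273385)))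
theorem Q47964 : ∀ i, i < 47964 → P i := stepQ 47963 Q47963 (allL N47963 (tt N25083 (iv1 D84940)) (tt N46401 F130192) (tt N46399 F316775) (tt N80969 (iv3 F333409)) (tt N37589 F312051) (tt N82045 D178492) (tt N82046 D178493) (tt N37587 F316776))
theorem Q47965 : ∀ i, i < 47965 → P i := stepQ 47964 Q47964 (allL N47964 (tt N79401 (iv1 F348504)) (tt N79409 (iv0 F337581)) (tt N46400 F130193) (tt N79418 (iv3 F302955)) (tt N82047 D178496) (tt N25083 (iv5 D84941)) (tt N25086 F130194) (tt N79416 (iv7 F305464)))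
theorem Q47966 : ∀ i, i < 47966 → P i := stepQ 47965 Q47965 (allL N47965 (tt N46399 (iv1 F130197)) (tt N37587 F314259) (tt N46401 F130195) (tt N75842 F314260) (tt N75826 F314261) (tt N79416 (iv5 F305463)) (tt N63557 (iv6 F188045)) (tt N25083 (iv7 D84942)))
theorem Q47967 : ∀ i, i < 47967 → P i := stepQ 47966 Q47966 (allL N47966 (tt N36524 F188402) (tt N34205 F188403) (tt N36521 (iv2 F188767)) (tt N42551 F130290) (tt N25084 (iv4 D84945)) (tt N82048 D178498) (tt N49039 F304144) (tt N36522 (iv7 F188766)))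
theorem Q47968 : ∀ i, i < 47968 → P i := stepQ 47967 Q47967 (allL N47967 (tt N82049 D178500) (tt N78218 (iv0 F353055)) (tt N63537 (iv2 F187926)) (tt N77449 (iv3 F343430)) (tt N82050 D178502) (tt N25084 (iv5 D84946)) (tt N77448 (iv6 F359979)) (tt N63539 (iv7 F187931)))
theorem Q47969 : ∀ i, i < 47969 → P i := stepQ 47968 Q47968 (allL N47968 (tt N63525 (iv1 F188636)) (tt N63659 F188635) (tt N63538 (iv2 F187928)) (tt N45647 F301503) (tt N49039 F301504) (tt N27454 F301505) (tt N25084 (iv6 D84947)) (tt N52501 F301506))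
theorem Q47970 : ∀ i, i < 47970 → P i := stepQ 47969 Q47969 (allL N47969 (tt N67017 F309573) (tt N43811 (iv0 F309614)) (tt N67016 (iv2 F304216)) (tt N25085 (iv3 D84949)) (tt N42563 F130286) (tt N71337 (iv5 F354154)) (tt N67821 (iv6 F315812)) (tt N63536 (iv7 F187925)))
theorem Q47971 : ∀ i, i < 47971 → P i := stepQ 47970 Q47970 (allL N47970 (tt N78218 (iv1 F353056)) (tt N82049 F278156) (tt N63539 (iv2 F187930)) (tt N71337 (iv3 F354153)) (tt N82051 D178507) (tt N25085 (iv5 D84951)) (tt N69043 (iv6 F348505)) (tt N63537 (iv7 F187927)))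
theorem Q47972 : ∀ i, i < 47972 → P i := stepQ 47971 Q47971 (allL N47971 (tt N63542 (iv1 F187941)) (tt N25086 (iv0 D84953)) (tt N44114 (iv2 F353041)) (tt N51219 (iv3 F358738)) (tt N82052 D178513) (tt N82053 D178514) (tt N42344 F347858) (tt N63540 (iv7 F278198)))
theorem Q47973 : ∀ i, i < 47973 → P i := stepQ 47972 Q47972 (allL N47972 (tt N25086 (iv1 D84954)) (tt N63542 F187940) (tt N63540 (iv2 F278197)) (tt N82054 D178517) (tt N82055 D178518) (tt N82056 D178519) (tt N82057 D178520) (tt N44114 F353049))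
theorem Q47974 : ∀ i, i < 47974 → P i := stepQ 47973 Q47973 (allL N47973 (tt N81246 F273915) (tt N80174 (iv0 F330681)) (tt N63541 (iv2 F187936)) (tt N82058 D178521) (tt N25086 (iv4 D84955)) (tt N82059 D178522) (tt N82047 (iv6 F278129)) (tt N82060 D178523))
theorem Q47975 : ∀ i, i < 47975 → P i := stepQ 47974 Q47974 (allL N47974 (tt N63540 (iv1 F187934)) (tt N44114 F353042) (tt N63542 (iv2 F187937)) (tt N81101 (iv3 F273384)) (tt N82060 (iv4 F278209)) (tt N25087 F130201) (tt N82061 D178524) (tt N25086 (iv7 D84956)))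
theorem Q47976 : ∀ i, i < 47976 → P i := stepQ 47975 Q47975 (allL N47975 (tt N77574 (iv1 F243693)) (tt N77573 F243692) (tt N46279 F318011) (tt N61760 (iv3 F335985)) (tt N25088 (iv4 D84994)) (tt N47910 (iv5 F320192)) (tt N61759 (iv6 F320638)) (tt N63544 (iv7 F187990)))
theorem Q47977 : ∀ i, i < 47977 → P i := stepQ 47976 Q47976 (allL N47976 (tt N41929 F184002) (tt N41875 (iv0 F130228)) (tt N41926 F131627) (tt N61755 (iv3 F332562)) (tt N61759 (iv4 F320636)) (tt N78679 (iv5 F250263)) (tt N25088 (iv6 D84995)) (tt N41927 (iv7 F131628)))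
theorem Q47978 : ∀ i, i < 47978 → P i := stepQ 47977 Q47977 (allL N47977 (tt N66930 (iv1 F206160)) (tt N77577 F243737) (tt N62493 (iv2 F317985)) (tt N74828 (iv3 F323415)) (tt N25090 (iv4 D85005)) (tt N64244 (iv5 F330652)) (tt N62485 (iv6 F320893)) (tt N63546 (iv7 F188002)))
theorem Q47979 : ∀ i, i < 47979 → P i := stepQ 47978 Q47978 (allL N47978 (tt N34446 (iv1 F186985)) (tt N44426 F315907) (tt N34046 (iv2 F130243)) (tt N43389 (iv3 F130244)) (tt N81277 (iv4 F274102)) (tt N25090 (iv5 D85006)) (tt N34044 F130242) (tt N44433 F315967))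
theorem Q47980 : ∀ i, i < 47980 → P i := stepQ 47979 Q47979 (allL N47979 (tt N63551 (iv1 F188020)) (tt N25091 (iv0 D85008)) (tt N63547 (iv2 F206155)) (tt N65161 (iv3 F342138)) (tt N82062 D178534) (tt N65159 (iv5 F363189)) (tt N70086 (iv6 F331680)) (tt N63548 (iv7 F206157)))
theorem Q47981 : ∀ i, i < 47981 → P i := stepQ 47980 Q47980 (allL N47980 (tt N25091 (iv1 D85009)) (tt N63551 F188019) (tt N63548 F206156) (tt N82063 D178537) (tt N42573 (iv4 F185062)) (tt N82064 D178538) (tt N73693 (iv6 F319629)) (tt N63547 F206154))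
theorem Q47982 : ∀ i, i < 47982 → P i := stepQ 47981 Q47981 (allL N47981 (tt N82017 F334036) (tt N41841 (iv0 F334037)) (tt N80123 (iv2 F337728)) (tt N25091 (iv3 D85010)) (tt N64055 (iv4 F192422)) (tt N64239 (iv5 F337738)) (tt N64051 F192396) (tt N75001 (iv7 F337734)))
theorem Q47983 : ∀ i, i < 47983 → P i := stepQ 47982 Q47982 (allL N47982 (tt N82065 D178545) (tt N82066 D178546) (tt N63550 (iv2 F188015)) (tt N64239 (iv3 F337737)) (tt N82067 D178547) (tt N25091 (iv5 D85011)) (tt N82068 D178548) (tt N80118 (iv7 F337723)))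
theorem Q47984 : ∀ i, i < 47984 → P i := stepQ 47983 Q47983 (allL N47983 (tt N63548 (iv1 F188014)) (tt N63547 F188018) (tt N63551 (iv2 F188016)) (tt N75001 (iv3 F337733)) (tt N25092 F130353) (tt N80118 (iv5 F337722)) (tt N63707 (iv6 F339389)) (tt N25091 (iv7 D85012)))
theorem Q47985 : ∀ i, i < 47985 → P i := stepQ 47984 Q47984 (allL N47984 (tt N81519 (iv1 F275799)) (tt N82069 D178550) (tt N25103 F130372) (tt N69619 (iv3 F312211)) (tt N82070 D178551) (tt N25093 (iv5 D85021)) (tt N67819 (iv6 F315808)) (tt N25112 F130373))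
theorem Q47986 : ∀ i, i < 47986 → P i := stepQ 47985 Q47985 (allL N47985 (tt N77629 F278277) (tt N63729 F237239) (tt N68365 F310019) (tt N25098 F130388) (tt N38326 F310020) (tt N62494 (iv5 F322186)) (tt N25095 (iv6 D85029)) (tt N38323 (iv7 F311663)))
theorem Q47987 : ∀ i, i < 47987 → P i := stepQ 47986 Q47986 (allL N47986 (tt N82069 (iv1 F278248)) (tt N81519 F275800) (tt N25112 F130390) (tt N64222 (iv3 F311075)) (tt N75151 (iv4 F361426)) (tt N25096 (iv5 D85031)) (tt N82071 D178565) (tt N25103 F130391))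
theorem Q47988 : ∀ i, i < 47988 → P i := stepQ 47987 Q47987 (allL N47987 (tt N82041 (iv1 F278300)) (tt N63559 F278302) (tt N25113 F130392) (tt N35522 F318947) (tt N25098 F130393) (tt N44013 (iv5 F321017)) (tt N25096 (iv6 D85032)) (tt N37986 (iv7 F315777)))
theorem Q47989 : ∀ i, i < 47989 → P i := stepQ 47988 Q47988 (allL N47988 (tt N44281 F314630) (tt N68337 F314631) (tt N25114 F130394) (tt N82072 D178568) (tt N25097 (iv4 D85033)) (tt N44249 (iv5 F316899)) (tt N73203 (iv6 F316901)) (tt N25106 F130395))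
theorem Q47990 : ∀ i, i < 47990 → P i := stepQ 47989 Q47989 (allL N47989 (tt N25493 F133056) (tt N25489 F133057) (tt N40015 F308956) (tt N37488 F308957) (tt N25099 (iv4 D85051)) (tt N80592 (iv5 F342598)) (tt N56133 (iv6 F210917)) (tt N40024 F308958))
theorem Q47991 : ∀ i, i < 47991 → P i := stepQ 47990 Q47990 (allL N47990 (tt N48143 F131491) (tt N71107 (iv0 F313703)) (tt N38242 (iv2 F312272)) (tt N71103 (iv3 F314470)) (tt N25101 (iv4 D85065)) (tt N82073 D178614) (tt N76377 (iv6 F353551)) (tt N71108 (iv7 F312277)))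
theorem Q47992 : ∀ i, i < 47992 → P i := stepQ 47991 Q47991 (allL N47991 (tt N42225 F233149) (tt N42221 F233150) (tt N38260 (iv2 F312273)) (tt N25107 F130417) (tt N76377 (iv4 F353550)) (tt N40942 (iv5 F312194)) (tt N25101 (iv6 D85066)) (tt N73194 (iv7 F314472)))
theorem Q47993 : ∀ i, i < 47993 → P i := stepQ 47992 Q47992 (allL N47992 (tt N81049 (iv1 F273222)) (tt N81048 F273221) (tt N80905 (iv2 F272216)) (tt N25102 (iv3 D85072)) (tt N47494 F130423) (tt N47045 F342670) (tt N63634 (iv6 F188539)) (tt N63533 F187917))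
theorem Q47994 : ∀ i, i < 47994 → P i := stepQ 47993 Q47993 (allL N47993 (tt N63837 (iv1 F311317)) (tt N78211 (iv0 F316070)) (tt N78215 (iv2 F349776)) (tt N47045 F342668) (tt N77321 (iv4 F336355)) (tt N25102 (iv5 D85073)) (tt N82074 D178621) (tt N63534 (iv7 F187921)))
theorem Q47995 : ∀ i, i < 47995 → P i := stepQ 47994 Q47994 (allL N47994 (tt N25112 (iv1 F130428)) (tt N25103 (iv0 D85084)) (tt N81519 F275802) (tt N82075 D178633) (tt N82076 D178634) (tt N44430 F316075) (tt N42412 (iv6 F347823)) (tt N82069 (iv7 F278249)))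
theorem Q47996 : ∀ i, i < 47996 → P i := stepQ 47995 Q47995 (allL N47995 (tt N25103 (iv1 D85085)) (tt N25112 F130429) (tt N82069 F278250) (tt N69798 (iv3 F315802)) (tt N59270 (iv4 F315807)) (tt N44429 (iv5 F313593)) (tt N64251 (iv6 F348459)) (tt N81519 F275803))
theorem Q47997 : ∀ i, i < 47997 → P i := stepQ 47996 Q47996 (allL N47996 (tt N81325 F274446) (tt N81327 (iv0 F274364)) (tt N82070 (iv2 F278252)) (tt N75051 (iv3 F361423)) (tt N25103 (iv4 D85086)) (tt N81355 (iv5 F274443)) (tt N67832 (iv6 F315809)) (tt N75151 (iv7 F361428)))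
theorem Q47998 : ∀ i, i < 47998 → P i := stepQ 47997 Q47997 (allL N47997 (tt N81338 (iv1 F274391)) (tt N78125 F314994) (tt N65296 (iv2 F200679)) (tt N82077 D178649) (tt N25104 (iv4 D85093)) (tt N82078 D178650) (tt N82079 D178651) (tt N68353 (iv7 F313699)))
theorem Q47999 : ∀ i, i < 47999 → P i := stepQ 47998 Q47998 (allL N47998 (tt N44348 F316060) (tt N62218 (iv0 F318275)) (tt N62219 (iv2 F313689)) (tt N25428 F307600) (tt N82079 (iv4 F278460)) (tt N25425 F307601) (tt N25104 (iv6 D85095)) (tt N62220 (iv7 F341171)))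
theorem Q48000 : ∀ i, i < 48000 → P i := stepQ 47999 Q47999 (allL N47999 (tt N78125 F314995) (tt N81338 (iv0 F274390)) (tt N68353 (iv2 F313696)) (tt N82080 D178652) (tt N25105 (iv4 D85096)) (tt N82081 D178653) (tt N76595 (iv6 F239480)) (tt N65296 (iv7 F200680)))
theorem Q48001 : ∀ i, i < 48001 → P i := stepQ 48000 Q48000 (allL N48000 (tt N25114 (iv1 F130437)) (tt N25106 (iv0 D85097)) (tt N68337 F316103) (tt N44180 (iv3 F318315)) (tt N48218 F131913) (tt N44276 (iv5 F318300)) (tt N82082 D178656) (tt N44281 F316104))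
theorem Q48002 : ∀ i, i < 48002 → P i := stepQ 48001 Q48001 (allL N48001 (tt N25106 (iv1 D85098)) (tt N25114 F130438) (tt N44281 F316100) (tt N82083 D178657) (tt N72187 F316101) (tt N44275 (iv5 F318299)) (tt N76597 F239971) (tt N68337 F316102))
theorem Q48003 : ∀ i, i < 48003 → P i := stepQ 48002 Q48002 (allL N48002 (tt N82084 D178660) (tt N82085 D178661) (tt N39037 (iv2 F318477)) (tt N25106 (iv3 D85099)) (tt N71103 F316199) (tt N82086 D178663) (tt N82087 D178664) (tt N82072 (iv7 F278306)))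
theorem Q48004 : ∀ i, i < 48004 → P i := stepQ 48003 Q48003 (allL N48003 (tt N44171 F316200) (tt N44250 F316201) (tt N44248 F316202) (tt N82086 (iv3 F278472)) (tt N81356 F274449) (tt N25106 (iv5 D85100)) (tt N82088 D178667) (tt N44249 (iv7 F316900)))
theorem Q48005 : ∀ i, i < 48005 → P i := stepQ 48004 Q48004 (allL N48004 (tt N82089 D178668) (tt N82090 D178669) (tt N68336 (iv2 F313717)) (tt N82087 (iv3 F278473)) (tt N25107 F130439) (tt N82091 D178670) (tt N25106 (iv6 D85101)) (tt N82092 D178671))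
theorem Q48006 : ∀ i, i < 48006 → P i := stepQ 48005 Q48005 (allL N48005 (tt N62332 (iv1 F313726)) (tt N25107 (iv0 D85102)) (tt N65304 (iv2 F200711)) (tt N65235 (iv3 F243070)) (tt N82093 D178672) (tt N33760 F130440) (tt N63668 (iv6 F188658)) (tt N68352 (iv7 F313723)))
theorem Q48007 : ∀ i, i < 48007 → P i := stepQ 48006 Q48006 (allL N48006 (tt N25107 (iv1 D85103)) (tt N62332 (iv0 F313725)) (tt N68352 (iv2 F313720)) (tt N25145 F183647) (tt N33085 (iv4 F321477)) (tt N33759 (iv5 F130443)) (tt N72679 (iv6 F349397)) (tt N65304 (iv7 F200710)))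
theorem Q48008 : ∀ i, i < 48008 → P i := stepQ 48007 Q48007 (allL N48007 (tt N44035 F131038) (tt N33424 (iv0 F316806)) (tt N40835 F314486) (tt N40942 F314487) (tt N73833 (iv4 F347288)) (tt N25107 (iv5 D85104)) (tt N25108 F130442) (tt N82094 D178675))
theorem Q48009 : ∀ i, i < 48009 → P i := stepQ 48008 Q48008 (allL N48008 (tt N68352 (iv1 F313719)) (tt N65304 F240024) (tt N62332 (iv2 F313727)) (tt N73194 (iv3 F314471)) (tt N82092 (iv4 F278478)) (tt N82094 (iv5 F278483)) (tt N62330 (iv6 F316909)) (tt N25107 (iv7 D85105)))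
theorem Q48010 : ∀ i, i < 48010 → P i := stepQ 48009 Q48009 (allL N48009 (tt N41914 F155240) (tt N69799 (iv0 F336970)) (tt N44867 F130444) (tt N73845 (iv3 F347290)) (tt N25108 (iv4 D85106)) (tt N69786 (iv5 F336978)) (tt N73833 (iv6 F347289)) (tt N44865 F130445))
theorem Q48011 : ∀ i, i < 48011 → P i := stepQ 48010 Q48010 (allL N48010 (tt N80194 (iv1 F330753)) (tt N78372 (iv0 F347921)) (tt N31346 F328011) (tt N25112 F130465) (tt N31817 (iv4 F328399)) (tt N25111 (iv5 D85129)) (tt N31321 (iv6 F328397)) (tt N69619 (iv7 F312212)))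
theorem Q48012 : ∀ i, i < 48012 → P i := stepQ 48011 Q48011 (allL N48011 (tt N67906 (iv1 F314280)) (tt N67905 (iv0 F314282)) (tt N31348 F326953) (tt N25113 F130466) (tt N33952 (iv4 F313229)) (tt N31322 F326954) (tt N25111 (iv6 D85130)) (tt N67902 (iv7 F312115)))
theorem Q48013 : ∀ i, i < 48013 → P i := stepQ 48012 Q48012 (allL N48012 (tt N81327 F274455) (tt N81325 (iv0 F274357)) (tt N75151 (iv2 F361425)) (tt N82095 D178690) (tt N25112 (iv4 D85131)) (tt N81356 (iv5 F274448)) (tt N82096 D178691) (tt N82070 (iv7 F278253)))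
theorem Q48014 : ∀ i, i < 48014 → P i := stepQ 48013 Q48013 (allL N48013 (tt N78724 (iv1 F348482)) (tt N82097 D178693) (tt N82071 (iv2 F278294)) (tt N31321 (iv3 F328396)) (tt N82096 (iv4 F278511)) (tt N31320 F328010) (tt N25112 (iv6 D85132)) (tt N58511 (iv7 F328398)))
theorem Q48015 : ∀ i, i < 48015 → P i := stepQ 48014 Q48014 (allL N48014 (tt N37986 F318020) (tt N25113 (iv0 D85133)) (tt N82041 (iv2 F278066)) (tt N81516 (iv3 F278519)) (tt N82098 D178696) (tt N48274 F325406) (tt N63641 (iv6 F278064)) (tt N63559 F278062))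
theorem Q48016 : ∀ i, i < 48016 → P i := stepQ 48015 Q48015 (allL N48015 (tt N46149 (iv1 F324250)) (tt N46148 (iv0 F324251)) (tt N44013 F322774) (tt N31322 F326952) (tt N46263 (iv4 F324252)) (tt N25113 (iv5 D85135)) (tt N31320 (iv6 F327537)) (tt N46150 (iv7 F323013)))
theorem Q48017 : ∀ i, i < 48017 → P i := stepQ 48016 Q48016 (allL N48016 (tt N63559 (iv1 F278303)) (tt N82041 (iv0 F278299)) (tt N37986 (iv2 F315775)) (tt N67902 F313467) (tt N25117 F130467) (tt N46150 (iv5 F323012)) (tt N37984 F313468) (tt N25113 (iv7 D85136)))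
theorem Q48018 : ∀ i, i < 48018 → P i := stepQ 48017 Q48017 (allL N48017 (tt N44250 (iv1 F316170)) (tt N44171 (iv0 F316172)) (tt N44249 (iv2 F316898)) (tt N39503 (iv3 F318316)) (tt N81355 F274444) (tt N25114 (iv5 D85138)) (tt N61789 (iv6 F339878)) (tt N44248 F316106))
theorem Q48019 : ∀ i, i < 48019 → P i := stepQ 48018 Q48018 (allL N48018 (tt N82099 D178713) (tt N73623 (iv0 F319632)) (tt N59857 (iv2 F339840)) (tt N54479 (iv3 F339835)) (tt N25116 (iv4 D85144)) (tt N46276 F339839) (tt N59837 (iv6 F339844)) (tt N62495 (iv7 F322199)))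
theorem Q48020 : ∀ i, i < 48020 → P i := stepQ 48019 Q48019 (allL N48019 (tt N44424 F321514) (tt N44421 F321515) (tt N48029 (iv2 F319509)) (tt N25118 (iv3 D85188)) (tt N59245 (iv4 F319531)) (tt N72188 (iv5 F319533)) (tt N73347 (iv6 F323216)) (tt N48028 (iv7 F319508)))
theorem Q48021 : ∀ i, i < 48021 → P i := stepQ 48020 Q48020 (allL N48020 (tt N82100 D178766) (tt N82101 D178767) (tt N77889 (iv2 F317694)) (tt N72188 (iv3 F319532)) (tt N69812 (iv4 F332245)) (tt N25118 (iv5 D85190)) (tt N82102 D178768) (tt N78200 (iv7 F318057)))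
theorem Q48022 : ∀ i, i < 48022 → P i := stepQ 48021 Q48021 (allL N48021 (tt N44272 (iv1 F314364)) (tt N44268 (iv0 F314365)) (tt N44397 (iv2 F313375)) (tt N65370 (iv3 F201171)) (tt N25119 (iv4 D85194)) (tt N68019 F311947) (tt N80978 (iv6 F351466)) (tt N57674 (iv7 F313031)))
theorem Q48023 : ∀ i, i < 48023 → P i := stepQ 48022 Q48022 (allL N48022 (tt N82101 (iv1 F278650)) (tt N82100 F278647) (tt N78200 (iv2 F318056)) (tt N77809 (iv3 F319075)) (tt N69813 (iv4 F332242)) (tt N25119 (iv5 D85195)) (tt N82103 D178779) (tt N77889 (iv7 F317695)))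
theorem Q48024 : ∀ i, i < 48024 → P i := stepQ 48023 Q48023 (allL N48023 (tt N78220 (iv1 F351452)) (tt N78222 (iv0 F351566)) (tt N78201 (iv2 F318058)) (tt N77939 (iv3 F319076)) (tt N80978 (iv4 F351465)) (tt N82104 D178782) (tt N25119 (iv6 D85196)) (tt N81715 (iv7 F351518)))
theorem Q48025 : ∀ i, i < 48025 → P i := stepQ 48024 Q48024 (allL N48024 (tt N78203 (iv1 F320436)) (tt N25120 (iv0 D85197)) (tt N78202 (iv2 F320572)) (tt N39507 (iv3 F320574)) (tt N57362 (iv4 F320575)) (tt N68094 (iv5 F320576)) (tt N66385 (iv6 F336215)) (tt N71568 (iv7 F320578)))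
theorem Q48026 : ∀ i, i < 48026 → P i := stepQ 48025 Q48025 (allL N48025 (tt N25120 (iv1 D85198)) (tt N78203 (iv0 F320435)) (tt N71568 (iv2 F320577)) (tt N82105 D178791) (tt N57361 (iv4 F344864)) (tt N77869 (iv5 F366396)) (tt N82106 D178794) (tt N78202 (iv7 F320573)))
theorem Q48027 : ∀ i, i < 48027 → P i := stepQ 48026 Q48026 (allL N48026 (tt N78202 (iv1 F320434)) (tt N71568 (iv0 F320433)) (tt N25120 (iv2 D85199)) (tt N77922 (iv3 F319279)) (tt N25182 F130524) (tt N60211 (iv5 F320582)) (tt N63685 (iv6 F188676)) (tt N78203 (iv7 F320438)))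
theorem Q48028 : ∀ i, i < 48028 → P i := stepQ 48027 Q48027 (allL N48027 (tt N44221 (iv1 F320579)) (tt N60213 (iv0 F320580)) (tt N60211 (iv2 F320581)) (tt N25121 F130525) (tt N60297 (iv4 F320583)) (tt N25120 (iv5 D85200)) (tt N82107 D178801) (tt N60212 (iv7 F320439)))
theorem Q48029 : ∀ i, i < 48029 → P i := stepQ 48028 Q48028 (allL N48028 (tt N78199 (iv1 F316167)) (tt N25121 (iv0 D85202)) (tt N78205 (iv2 F317222)) (tt N44418 F319507) (tt N59291 (iv4 F317223)) (tt N78125 F314996) (tt N82108 D178806) (tt N48019 F319508))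
theorem Q48030 : ∀ i, i < 48030 → P i := stepQ 48029 Q48029 (allL N48029 (tt N25121 (iv1 D85203)) (tt N78199 F318412) (tt N48019 F319509) (tt N44235 (iv3 F320584)) (tt N59292 (iv4 F320585)) (tt N81338 F274392) (tt N61990 (iv6 F351551)) (tt N78205 F318413))
theorem Q48031 : ∀ i, i < 48031 → P i := stepQ 48030 Q48030 (allL N48030 (tt N81356 (iv1 F274447)) (tt N81355 F274445) (tt N78209 (iv2 F320448)) (tt N60298 (iv3 F366394)) (tt N25121 (iv4 D85204)) (tt N81299 (iv5 F274187)) (tt N82109 D178811) (tt N78206 (iv7 F320444)))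
theorem Q48032 : ∀ i, i < 48032 → P i := stepQ 48031 Q48031 (allL N48031 (tt N82110 D178812) (tt N82111 D178813) (tt N78210 (iv2 F320451)) (tt N82107 (iv3 F278667)) (tt N82109 (iv4 F278675)) (tt N63690 (iv5 F188685)) (tt N25121 (iv6 D85205)) (tt N82112 D178814))
theorem Q48033 : ∀ i, i < 48033 → P i := stepQ 48032 Q48032 (allL N48032 (tt N58754 (iv1 F348547)) (tt N75395 (iv0 F348544)) (tt N65306 (iv2 F200731)) (tt N41445 F315643) (tt N82113 D178818) (tt N25122 (iv5 D85217)) (tt N82114 D178819) (tt N63205 (iv7 F200297)))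
theorem Q48034 : ∀ i, i < 48034 → P i := stepQ 48033 Q48033 (allL N48033 (tt N63701 (iv1 F303119)) (tt N64217 (iv0 F303116)) (tt N25127 F302755) (tt N25123 (iv3 D85244)) (tt N25125 (iv4 F304125)) (tt N64164 (iv5 F322711)) (tt N25123 (iv6 F303111)) (tt N65307 (iv7 F200737)))
theorem Q48035 : ∀ i, i < 48035 → P i := stepQ 48034 Q48034 (allL N48034 (tt N65319 (iv1 F200775)) (tt N65318 F200774) (tt N25129 F130556) (tt N82115 D178827) (tt N25124 (iv4 D85247)) (tt N82116 D178828) (tt N82117 D178829) (tt N44476 F316055))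
theorem Q48036 : ∀ i, i < 48036 → P i := stepQ 48035 Q48035 (allL N48035 (tt N82118 D178830) (tt N42229 F230119) (tt N25130 F130557) (tt N56051 (iv3 F321484)) (tt N82117 (iv4 F278693)) (tt N40820 F320608) (tt N25124 (iv6 D85248)) (tt N62690 (iv7 F320292)))
theorem Q48037 : ∀ i, i < 48037 → P i := stepQ 48036 Q48036 (allL N48036 (tt N25132 (iv1 F130567)) (tt N25131 F130568) (tt N25134 F130564) (tt N25151 F305190) (tt N65307 F305191) (tt N41812 (iv5 F199958)) (tt N62533 (iv6 F322173)) (tt N25125 (iv7 D85252)))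
theorem Q48038 : ∀ i, i < 48038 → P i := stepQ 48037 Q48037 (allL N48037 (tt N42534 (iv1 F155120)) (tt N42533 (iv0 F155119)) (tt N35477 F131859) (tt N47397 F130570) (tt N25126 (iv4 D85254)) (tt N77997 (iv5 F316717)) (tt N49040 F310870) (tt N42532 (iv7 F155122)))
theorem Q48039 : ∀ i, i < 48039 → P i := stepQ 48038 Q48038 (allL N48038 (tt N77589 (iv1 F243902)) (tt N77588 F243900) (tt N65310 (iv2 F200753)) (tt N81512 (iv3 F275776)) (tt N82119 D178833) (tt N25126 (iv5 D85255)) (tt N47903 (iv6 F340146)) (tt N48280 F324623))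
theorem Q48040 : ∀ i, i < 48040 → P i := stepQ 48039 Q48039 (allL N48039 (tt N65307 (iv1 F303120)) (tt N25127 (iv0 D85265)) (tt N63701 (iv2 F201286)) (tt N69261 (iv3 F320101)) (tt N82120 D178853) (tt N78701 (iv5 F250303)) (tt N63691 F201287) (tt N64217 (iv7 F303099)))
theorem Q48041 : ∀ i, i < 48041 → P i := stepQ 48040 Q48040 (allL N48040 (tt N44468 F314312) (tt N44467 F314313) (tt N30634 F314314) (tt N60124 (iv3 F316692)) (tt N25128 (iv4 D85276)) (tt N82121 D178864) (tt N53423 (iv6 F337151)) (tt N44469 F314315))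
theorem Q48042 : ∀ i, i < 48042 → P i := stepQ 48041 Q48041 (allL N48041 (tt N44476 F316053) (tt N25129 (iv0 D85279)) (tt N65319 (iv2 F201205)) (tt N68092 (iv3 F318267)) (tt N72221 F316054) (tt N82122 D178867) (tt N74348 (iv6 F361614)) (tt N65318 F201206))
theorem Q48043 : ∀ i, i < 48043 → P i := stepQ 48042 Q48042 (allL N48042 (tt N25129 (iv1 D85280)) (tt N44476 F316052) (tt N65318 F201204) (tt N82123 D178869) (tt N48216 (iv4 F131911)) (tt N82124 D178870) (tt N63491 (iv6 F189712)) (tt N65319 (iv7 F201203)))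
theorem Q48044 : ∀ i, i < 48044 → P i := stepQ 48043 Q48043 (allL N48043 (tt N82125 D178876) (tt N82126 D178877) (tt N82116 (iv2 F278691)) (tt N68097 (iv3 F318271)) (tt N82127 D178878) (tt N25129 (iv5 D85282)) (tt N82128 D178879) (tt N65320 (iv7 F200778)))
theorem Q48045 : ∀ i, i < 48045 → P i := stepQ 48044 Q48044 (allL N48044 (tt N82129 D178880) (tt N58582 (iv0 F347162)) (tt N82117 (iv2 F278692)) (tt N68098 (iv3 F318272)) (tt N25130 F130578) (tt N58566 (iv5 F347153)) (tt N25129 (iv6 D85283)) (tt N82130 D178883))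
theorem Q48046 : ∀ i, i < 48046 → P i := stepQ 48045 Q48045 (allL N48045 (tt N62690 (iv1 F320290)) (tt N25130 (iv0 D85284)) (tt N82118 F278695) (tt N33765 F200298) (tt N82131 D178884) (tt N33712 F200299) (tt N63382 F200300) (tt N42229 F200301))
theorem Q48047 : ∀ i, i < 48047 → P i := stepQ 48046 Q48046 (allL N48046 (tt N25130 (iv1 D85285)) (tt N62690 (iv0 F320289)) (tt N42229 F200238) (tt N42078 F242938) (tt N82132 D178885) (tt N33711 F200239) (tt N62683 (iv6 F318381)) (tt N82118 (iv7 F278697)))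
theorem Q48048 : ∀ i, i < 48048 → P i := stepQ 48047 Q48047 (allL N48047 (tt N40823 F318112) (tt N40788 (iv0 F318481)) (tt N40820 F320606) (tt N25146 F130579) (tt N82133 D178886) (tt N25130 (iv5 D85286)) (tt N25133 F130580) (tt N40821 F320607))
theorem Q48049 : ∀ i, i < 48049 → P i := stepQ 48048 Q48048 (allL N48048 (tt N42229 F230118) (tt N82118 F278698) (tt N62690 (iv2 F320291)) (tt N25147 F130581) (tt N82130 (iv4 F278747)) (tt N40821 F320505) (tt N62685 F320506) (tt N25130 (iv7 D85287)))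
theorem Q48050 : ∀ i, i < 48050 → P i := stepQ 48049 Q48049 (allL N48049 (tt N54300 (iv1 F308155)) (tt N47433 (iv0 F307032)) (tt N54302 (iv2 F308160)) (tt N47390 (iv3 F319721)) (tt N25131 (iv4 D85290)) (tt N82134 D178890) (tt N47387 F317470) (tt N46982 F307885))
theorem Q48051 : ∀ i, i < 48051 → P i := stepQ 48050 Q48050 (allL N48050 (tt N65221 (iv1 F200422)) (tt N65224 F200442) (tt N65223 (iv2 F200436)) (tt N25132 (iv3 D85294)) (tt N47329 (iv4 F306248)) (tt N42095 F200250) (tt N47328 F305619) (tt N63705 F200254))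
theorem Q48052 : ∀ i, i < 48052 → P i := stepQ 48051 Q48051 (allL N48051 (tt N78112 (iv1 F338233)) (tt N82135 D178895) (tt N80012 (iv2 F259408)) (tt N82136 D178896) (tt N25133 (iv4 D85300)) (tt N78101 (iv5 F358659)) (tt N82133 (iv6 F278750)) (tt N44885 F130586))
theorem Q48053 : ∀ i, i < 48053 → P i := stepQ 48052 Q48052 (allL N48052 (tt N39911 (iv1 F315250)) (tt N39914 F312807) (tt N65230 (iv2 F200456)) (tt N72635 (iv3 F366690)) (tt N25135 (iv4 D85303)) (tt N82137 D178901) (tt N82138 D178902) (tt N65231 (iv7 F200459)))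
theorem Q48054 : ∀ i, i < 48054 → P i := stepQ 48053 Q48053 (allL N48053 (tt N74667 (iv1 F324152)) (tt N72982 (iv0 F324142)) (tt N25428 (iv2 F306653)) (tt N25137 F130587) (tt N82138 (iv4 F278780)) (tt N25392 F304662) (tt N25135 (iv6 D85304)) (tt N46176 (iv7 F306690)))
theorem Q48055 : ∀ i, i < 48055 → P i := stepQ 48054 Q48054 (allL N48054 (tt N78720 (iv1 F348497)) (tt N78723 (iv0 F348485)) (tt N82139 D178906) (tt N25136 (iv3 D85305)) (tt N72635 (iv4 F366691)) (tt N82140 D178907) (tt N82141 D178908) (tt N65300 (iv7 F200692)))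
theorem Q48056 : ∀ i, i < 48056 → P i := stepQ 48055 Q48055 (allL N48055 (tt N34578 F130592) (tt N34573 F130593) (tt N43941 F130589) (tt N82140 (iv3 F278782)) (tt N25222 F130591) (tt N25136 (iv5 D85306)) (tt N82142 D178909) (tt N44877 F130590))
theorem Q48057 : ∀ i, i < 48057 → P i := stepQ 48056 Q48056 (allL N48056 (tt N73427 (iv1 F341140)) (tt N40243 F318741) (tt N65298 (iv2 F200686)) (tt N82141 (iv3 F278784)) (tt N25137 F130594) (tt N70558 (iv5 F319096)) (tt N25136 (iv6 D85307)) (tt N70557 (iv7 F322449)))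
theorem Q48058 : ∀ i, i < 48058 → P i := stepQ 48057 Q48057 (allL N48057 (tt N32251 F351337) (tt N82143 D178915) (tt N63658 (iv2 F351332)) (tt N25138 (iv3 D85309)) (tt N82080 (iv4 F278461)) (tt N82144 D178917) (tt N63524 (iv6 F320679)) (tt N65297 (iv7 F200685)))
theorem Q48059 : ∀ i, i < 48059 → P i := stepQ 48058 Q48058 (allL N48058 (tt N34573 F130598) (tt N34578 F130599) (tt N44877 F130595) (tt N82144 (iv3 F278797)) (tt N25220 F130596) (tt N25138 (iv5 D85310)) (tt N74749 F228872) (tt N43941 F130597))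
theorem Q48060 : ∀ i, i < 48060 → P i := stepQ 48059 Q48059 (allL N48059 (tt N82145 D178918) (tt N68052 (iv0 F345569)) (tt N47528 (iv2 F327349)) (tt N25140 (iv3 D85311)) (tt N82146 D178921) (tt N47015 F326618) (tt N47230 (iv6 F327350)) (tt N48150 (iv7 F131498)))
theorem Q48061 : ∀ i, i < 48061 → P i := stepQ 48060 Q48060 (allL N48060 (tt N47306 F322568) (tt N47308 F322569) (tt N48146 (iv2 F131495)) (tt N47230 F327870) (tt N35483 F130600) (tt N68044 (iv5 F321787)) (tt N25140 (iv6 D85312)) (tt N68043 (iv7 F318736)))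
theorem Q48062 : ∀ i, i < 48062 → P i := stepQ 48061 Q48061 (allL N48061 (tt N65324 (iv1 F200788)) (tt N25142 (iv0 D85314)) (tt N65323 (iv2 F355439)) (tt N82147 D178929) (tt N82148 D178930) (tt N82149 D178931) (tt N82150 D178932) (tt N65322 (iv7 F355442)))
theorem Q48063 : ∀ i, i < 48063 → P i := stepQ 48062 Q48062 (allL N48062 (tt N25142 (iv1 D85315)) (tt N65324 F200790) (tt N65322 (iv2 F355441)) (tt N82151 D178934) (tt N54988 (iv4 F355516)) (tt N82152 D178936) (tt N54987 (iv6 F355163)) (tt N65323 (iv7 F355440)))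
theorem Q48064 : ∀ i, i < 48064 → P i := stepQ 48063 Q48063 (allL N48063 (tt N65323 (iv1 F200789)) (tt N65322 F200785) (tt N25142 (iv2 D85316)) (tt N65302 (iv3 F200694)) (tt N38181 F323801) (tt N74393 (iv5 F323954)) (tt N82153 D178938) (tt N65324 (iv7 F200787)))
theorem Q48065 : ∀ i, i < 48065 → P i := stepQ 48064 Q48064 (allL N48064 (tt N82154 D178939) (tt N82155 D178940) (tt N82153 (iv2 F278808)) (tt N25143 F130601) (tt N68098 (iv4 F318273)) (tt N42131 F322506) (tt N25142 (iv6 D85317)) (tt N81832 (iv7 F313877)))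
theorem Q48066 : ∀ i, i < 48066 → P i := stepQ 48065 Q48065 (allL N48065 (tt N65238 F243051) (tt N65212 F243052) (tt N65235 F243053) (tt N25144 (iv3 D85322)) (tt N82156 D178949) (tt N42064 F243054) (tt N45784 F310754) (tt N65236 F243055))
theorem Q48067 : ∀ i, i < 48067 → P i := stepQ 48066 Q48066 (allL N48066 (tt N69212 (iv1 F317751)) (tt N47512 F320198) (tt N44891 F130603) (tt N82157 D178955) (tt N25146 (iv4 D85326)) (tt N31951 F318586) (tt N25148 F130604) (tt N45936 F318684))
theorem Q48068 : ∀ i, i < 48068 → P i := stepQ 48067 Q48067 (allL N48067 (tt N44893 (iv1 F130608)) (tt N44892 (iv0 F130609)) (tt N44894 F130605) (tt N40821 F320610) (tt N45936 (iv4 F316436)) (tt N25147 F130606) (tt N42956 F130607) (tt N25146 (iv7 D85327)))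
theorem Q48069 : ∀ i, i < 48069 → P i := stepQ 48068 Q48068 (allL N48068 (tt N82158 D178958) (tt N82159 D178959) (tt N82160 D178960) (tt N25148 (iv3 D85328)) (tt N82136 (iv4 F278774)) (tt N35426 F130610) (tt N82157 (iv6 F278837)) (tt N44887 F130611))
theorem Q48070 : ∀ i, i < 48070 → P i := stepQ 48069 Q48069 (allL N48069 (tt N51996 (iv1 F301290)) (tt N51995 (iv0 F301289)) (tt N51997 (iv2 F301292)) (tt N44911 F307106) (tt N74764 (iv4 F332448)) (tt N25149 (iv5 D85364)) (tt N74764 (iv6 F308960)) (tt N51994 (iv7 F301288)))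
theorem Q48071 : ∀ i, i < 48071 → P i := stepQ 48070 Q48070 (allL N48070 (tt N44398 F314657) (tt N44396 F314658) (tt N65286 (iv2 F200581)) (tt N82161 D178964) (tt N25150 (iv4 D85366)) (tt N82162 D178965) (tt N82163 D178966) (tt N40020 F314659))
theorem Q48072 : ∀ i, i < 48072 → P i := stepQ 48071 Q48071 (allL N48071 (tt N63076 (iv1 F233152)) (tt N74871 F233224) (tt N65287 (iv2 F200583)) (tt N40002 F314660) (tt N82163 (iv4 F278853)) (tt N62792 (iv5 F232250)) (tt N25150 (iv6 D85367)) (tt N62791 F233005))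
theorem Q48073 : ∀ i, i < 48073 → P i := stepQ 48072 Q48072 (allL N48072 (tt N72695 (iv1 F321948)) (tt N63357 (iv0 F233203)) (tt N25159 F130641) (tt N44477 F314642) (tt N62286 (iv4 F320763)) (tt N73614 (iv5 F321219)) (tt N25152 (iv6 D85376)) (tt N62687 (iv7 F352800)))
theorem Q48074 : ∀ i, i < 48074 → P i := stepQ 48073 Q48073 (allL N48073 (tt N74965 (iv1 F353441)) (tt N74969 (iv0 F353439)) (tt N72376 (iv2 F319251)) (tt N34561 F306230) (tt N56045 (iv4 F324699)) (tt N42958 (iv5 F308233)) (tt N25154 (iv6 D85393)) (tt N56043 (iv7 F340852)))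
theorem Q48075 : ∀ i, i < 48075 → P i := stepQ 48074 Q48074 (allL N48074 (tt N65209 (iv1 F236027)) (tt N44460 F314334) (tt N65243 (iv2 F232985)) (tt N25156 (iv3 D85399)) (tt N65378 F201217) (tt N72391 F314335) (tt N76981 F241295) (tt N65244 (iv7 F232990)))
theorem Q48076 : ∀ i, i < 48076 → P i := stepQ 48075 Q48075 (allL N48075 (tt N39883 F317047) (tt N39887 F317048) (tt N65290 (iv2 F232991)) (tt N41920 (iv3 F338215)) (tt N25156 (iv4 D85400)) (tt N40622 F338214) (tt N82164 D179010) (tt N65288 (iv7 F232981)))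
theorem Q48077 : ∀ i, i < 48077 → P i := stepQ 48076 Q48076 (allL N48076 (tt N43078 F232637) (tt N34552 F305871) (tt N43095 F305872) (tt N72391 F314309) (tt N66863 (iv4 F307770)) (tt N25156 (iv5 D85401)) (tt N43093 F305873) (tt N34015 F305874))
theorem Q48078 : ∀ i, i < 48078 → P i := stepQ 48077 Q48077 (allL N48077 (tt N63273 F232639) (tt N63770 F232647) (tt N63337 F232648) (tt N76981 (iv3 F241294)) (tt N82164 (iv4 F278923)) (tt N63729 (iv5 F232646)) (tt N25156 (iv6 D85402)) (tt N63769 (iv7 F361473)))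
theorem Q48079 : ∀ i, i < 48079 → P i := stepQ 48078 Q48078 (allL N48078 (tt N39887 (iv1 F314743)) (tt N39883 (iv0 F314744)) (tt N65288 (iv2 F232994)) (tt N82165 D179012) (tt N25157 (iv4 D85405)) (tt N82166 D179013) (tt N82167 D179014) (tt N65290 F232993))
theorem Q48080 : ∀ i, i < 48080 → P i := stepQ 48079 Q48079 (allL N48079 (tt N75670 F247761) (tt N62673 (iv0 F350007)) (tt N65289 F232995) (tt N56118 (iv3 F308052)) (tt N82167 (iv4 F278933)) (tt N43094 F307108) (tt N25157 (iv6 D85407)) (tt N72703 (iv7 F361512)))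
theorem Q48081 : ∀ i, i < 48081 → P i := stepQ 48080 Q48080 (allL N48080 (tt N62687 (iv1 F352796)) (tt N25159 (iv0 D85413)) (tt N72695 (iv2 F321949)) (tt N74680 (iv3 F343140)) (tt N82168 D179036) (tt N58552 (iv5 F313707)) (tt N62672 (iv6 F321941)) (tt N63357 (iv7 F244603)))
theorem Q48082 : ∀ i, i < 48082 → P i := stepQ 48081 Q48081 (allL N48081 (tt N65249 (iv1 F242148)) (tt N65239 F242147) (tt N65247 F241308) (tt N25160 (iv3 D85418)) (tt N64913 (iv4 F306504)) (tt N63335 (iv5 F232971)) (tt N63722 (iv6 F305972)) (tt N63724 F232969))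
theorem Q48083 : ∀ i, i < 48083 → P i := stepQ 48082 Q48082 (allL N48082 (tt N72190 (iv1 F342517)) (tt N73606 (iv0 F322961)) (tt N42704 (iv2 F308236)) (tt N77266 (iv3 F308963)) (tt N25160 (iv4 D85419)) (tt N78822 (iv5 F308658)) (tt N36545 F307109) (tt N63726 F232970))
theorem Q48084 : ∀ i, i < 48084 → P i := stepQ 48083 Q48083 (allL N48083 (tt N73606 (iv1 F322962)) (tt N72190 (iv0 F342516)) (tt N63726 (iv2 F232968)) (tt N35498 F307110) (tt N25161 (iv4 D85424)) (tt N42873 (iv5 F308659)) (tt N63719 F232892) (tt N42704 (iv7 F308238)))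
theorem Q48085 : ∀ i, i < 48085 → P i := stepQ 48084 Q48084 (allL N48084 (tt N65302 (iv1 F200696)) (tt N25162 (iv0 D85431)) (tt N65301 (iv2 F339307)) (tt N30432 F318485) (tt N38436 (iv4 F320617)) (tt N36533 (iv5 F329664)) (tt N36536 (iv6 F329665)) (tt N30461 (iv7 F320618)))
theorem Q48086 : ∀ i, i < 48086 → P i := stepQ 48085 Q48085 (allL N48085 (tt N25162 (iv1 D85432)) (tt N65302 F200698) (tt N30461 F322393) (tt N82169 D179061) (tt N77323 (iv4 F336347)) (tt N82170 D179063) (tt N82171 D179064) (tt N65301 (iv7 F339308)))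
theorem Q48087 : ∀ i, i < 48087 → P i := stepQ 48086 Q48086 (allL N48086 (tt N65301 (iv1 F200697)) (tt N30461 F321899) (tt N25162 (iv2 D85433)) (tt N65324 (iv3 F200786)) (tt N65182 (iv4 F327052)) (tt N78715 (iv5 F250351)) (tt N65188 (iv6 F325323)) (tt N65302 (iv7 F200695)))
theorem Q48088 : ∀ i, i < 48088 → P i := stepQ 48087 Q48087 (allL N48087 (tt N39977 F316686) (tt N25164 (iv0 D85457)) (tt N65329 (iv2 F201187)) (tt N60229 (iv3 F319047)) (tt N77997 (iv4 F316716)) (tt N82125 (iv5 F278745)) (tt N82172 D179092) (tt N60234 F316687))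
theorem Q48089 : ∀ i, i < 48089 → P i := stepQ 48088 Q48088 (allL N48088 (tt N25164 (iv1 D85458)) (tt N39977 F315161) (tt N60234 (iv2 F316039)) (tt N82173 D179093) (tt N30661 F315162) (tt N82126 (iv5 F278746)) (tt N42746 F155446) (tt N65329 (iv7 F201185)))
theorem Q48090 : ∀ i, i < 48090 → P i := stepQ 48089 Q48089 (allL N48089 (tt N60224 (iv1 F319048)) (tt N29189 F331330) (tt N60223 (iv2 F319050)) (tt N25164 (iv3 D85459)) (tt N25167 F130680) (tt N69449 (iv5 F339718)) (tt N40778 F321153) (tt N60222 F316688))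
theorem Q48091 : ∀ i, i < 48091 → P i := stepQ 48090 Q48090 (allL N48090 (tt N82174 D179099) (tt N82175 D179100) (tt N78191 F316689) (tt N69449 (iv3 F339717)) (tt N82176 D179101) (tt N25164 (iv5 D85460)) (tt N82177 D179102) (tt N65330 (iv7 F200882)))
theorem Q48092 : ∀ i, i < 48092 → P i := stepQ 48091 Q48091 (allL N48091 (tt N81453 (iv1 F345561)) (tt N32223 (iv0 F318513)) (tt N82178 D179114) (tt N25166 (iv3 D85468)) (tt N82179 D179115) (tt N42834 F130684) (tt N82180 D179116) (tt N36648 F130685))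
theorem Q48093 : ∀ i, i < 48093 → P i := stepQ 48092 Q48092 (allL N48092 (tt N63077 (iv1 F184927)) (tt N63075 (iv0 F184923)) (tt N48141 (iv2 F131409)) (tt N82180 (iv3 F279070)) (tt N35476 F130686) (tt N41592 F130687) (tt N25166 (iv6 D85469)) (tt N36385 F130688))
theorem Q48094 : ∀ i, i < 48094 → P i := stepQ 48093 Q48093 (allL N48093 (tt N65333 (iv1 F200890)) (tt N25167 (iv0 D85470)) (tt N65332 (iv2 F355154)) (tt N82181 D179118) (tt N55010 (iv4 F360550)) (tt N41936 F354244) (tt N82182 D179121) (tt N55007 (iv7 F350205)))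
theorem Q48095 : ∀ i, i < 48095 → P i := stepQ 48094 Q48094 (allL N48094 (tt N25167 (iv1 D85471)) (tt N65333 F200892) (tt N55007 (iv2 F350204)) (tt N57790 (iv3 F360547)) (tt N50401 (iv4 F350209)) (tt N42018 F350202) (tt N50400 (iv6 F350207)) (tt N65332 (iv7 F355156)))
theorem Q48096 : ∀ i, i < 48096 → P i := stepQ 48095 Q48095 (allL N48095 (tt N65332 (iv1 F200891)) (tt N55007 (iv0 F355167)) (tt N25167 (iv2 D85472)) (tt N57378 (iv3 F321603)) (tt N60223 (iv4 F319051)) (tt N78712 (iv5 F250340)) (tt N66417 (iv6 F322874)) (tt N65333 (iv7 F200889)))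
theorem Q48097 : ∀ i, i < 48097 → P i := stepQ 48096 Q48096 (allL N48096 (tt N82183 D179128) (tt N82184 D179129) (tt N66417 (iv2 F322873)) (tt N25168 F130689) (tt N40778 F321152) (tt N67845 (iv5 F323655)) (tt N25167 (iv6 D85473)) (tt N66552 (iv7 F321551)))
theorem Q48098 : ∀ i, i < 48098 → P i := stepQ 48097 Q48097 (allL N48097 (tt N33370 F321145) (tt N33426 F321146) (tt N33409 F321147) (tt N25169 (iv3 D85479)) (tt N62370 (iv4 F322867)) (tt N73408 (iv5 F316382)) (tt N63786 (iv6 F189620)) (tt N33427 F321148))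
theorem Q48099 : ∀ i, i < 48099 → P i := stepQ 48098 Q48098 (allL N48098 (tt N41009 F339079) (tt N77696 (iv0 F252457)) (tt N25174 F130699) (tt N39979 F314655) (tt N78170 (iv4 F316926)) (tt N76440 (iv5 F238602)) (tt N25172 (iv6 D85498)) (tt N40768 (iv7 F323789)))
theorem Q48100 : ∀ i, i < 48100 → P i := stepQ 48099 Q48099 (allL N48099 (tt N55076 (iv1 F361443)) (tt N77261 (iv0 F353932)) (tt N82185 D179157) (tt N25173 (iv3 D85501)) (tt N25175 F130705) (tt N82186 D179158) (tt N79569 (iv6 F313851)) (tt N65326 (iv7 F200834)))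
theorem Q48101 : ∀ i, i < 48101 → P i := stepQ 48100 Q48100 (allL N48100 (tt N78105 F315854) (tt N39868 F315855) (tt N73387 (iv2 F337095)) (tt N82186 (iv3 F279110)) (tt N73354 (iv4 F350256)) (tt N25173 (iv5 D85502)) (tt N40934 F337092) (tt N65327 (iv7 F200835)))
theorem Q48102 : ∀ i, i < 48102 → P i := stepQ 48101 Q48101 (allL N48101 (tt N82187 D179164) (tt N41058 F319711) (tt N78170 F319244) (tt N79569 (iv3 F313850)) (tt N25174 F130706) (tt N82188 D179166) (tt N25173 (iv6 D85503)) (tt N40532 F325056))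
theorem Q48103 : ∀ i, i < 48103 → P i := stepQ 48102 Q48102 (allL N48102 (tt N40768 F325035) (tt N25174 (iv0 D85504)) (tt N41009 F339080) (tt N82189 D179168) (tt N73345 (iv4 F361578)) (tt N42474 F308073) (tt N82190 D179170) (tt N77696 (iv7 F279099)))
theorem Q48104 : ∀ i, i < 48104 → P i := stepQ 48103 Q48103 (allL N48103 (tt N25174 (iv1 D85505)) (tt N40768 F325034) (tt N77696 (iv2 F252470)) (tt N40037 (iv3 F339084)) (tt N73344 (iv4 F339087)) (tt N42470 F308071) (tt N76290 F252467) (tt N41009 F339083))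
theorem Q48105 : ∀ i, i < 48105 → P i := stepQ 48104 Q48104 (allL N48104 (tt N77696 F252455) (tt N41009 F339078) (tt N40768 (iv2 F323788)) (tt N25178 F130707) (tt N40532 (iv4 F323828)) (tt N42705 F313831) (tt N40531 F322292) (tt N25174 (iv7 D85506)))
theorem Q48106 : ∀ i, i < 48106 → P i := stepQ 48105 Q48105 (allL N48105 (tt N25175 (iv1 D85508)) (tt N57378 (iv0 F321601)) (tt N57308 (iv2 F321606)) (tt N57363 (iv3 F324667)) (tt N59239 (iv4 F340258)) (tt N78714 (iv5 F336343)) (tt N77440 (iv6 F336313)) (tt N57379 (iv7 F321605)))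
theorem Q48107 : ∀ i, i < 48107 → P i := stepQ 48106 Q48106 (allL N48106 (tt N57379 (iv1 F336301)) (tt N57308 (iv0 F350805)) (tt N25175 (iv2 D85509)) (tt N65333 (iv3 F200888)) (tt N82185 (iv4 F279109)) (tt N66940 (iv5 F345969)) (tt N79567 (iv6 F313849)) (tt N57378 (iv7 F321604)))
theorem Q48108 : ∀ i, i < 48108 → P i := stepQ 48107 Q48107 (allL N48107 (tt N33291 (iv1 F316113)) (tt N31154 F313712) (tt N40496 (iv2 F316111)) (tt N78221 (iv3 F316177)) (tt N45536 F323606) (tt N35767 F313713) (tt N25176 (iv6 D85518)) (tt N40495 (iv7 F316112)))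
theorem Q48109 : ∀ i, i < 48109 → P i := stepQ 48108 Q48108 (allL N48108 (tt N47748 F310753) (tt N65273 F209849) (tt N65272 F209902) (tt N25177 (iv3 D85520)) (tt N73573 (iv4 F346604)) (tt N57424 (iv5 F166664)) (tt N52357 (iv6 F308548)) (tt N65271 (iv7 F209893)))
theorem Q48110 : ∀ i, i < 48110 → P i := stepQ 48109 Q48109 (allL N48109 (tt N30438 F321286) (tt N25179 (iv0 D85531)) (tt N65335 (iv2 F351008)) (tt N82191 D179221) (tt N82192 D179222) (tt N78717 (iv5 F350975)) (tt N63792 (iv6 F338749)) (tt N65334 (iv7 F351007)))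
theorem Q48111 : ∀ i, i < 48111 → P i := stepQ 48110 Q48110 (allL N48110 (tt N25179 (iv1 D85532)) (tt N30438 F321285) (tt N65334 (iv2 F351006)) (tt N82193 D179226) (tt N82194 D179227) (tt N73699 (iv5 F330654)) (tt N82195 D179229) (tt N65335 (iv7 F351010)))
theorem Q48112 : ∀ i, i < 48112 → P i := stepQ 48111 Q48111 (allL N48111 (tt N65335 (iv1 F200921)) (tt N65334 F200917) (tt N25179 (iv2 D85533)) (tt N30440 F318514) (tt N57513 (iv4 F320634)) (tt N61759 (iv5 F320637)) (tt N79583 (iv6 F316251)) (tt N30438 (iv7 F319239)))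
theorem Q48113 : ∀ i, i < 48113 → P i := stepQ 48112 Q48112 (allL N48112 (tt N57510 (iv1 F366666)) (tt N57509 (iv0 F354250)) (tt N57513 (iv2 F320633)) (tt N57606 (iv3 F315119)) (tt N25179 (iv4 D85534)) (tt N78030 (iv5 F366393)) (tt N79587 (iv6 F316252)) (tt N57511 (iv7 F315144)))
theorem Q48114 : ∀ i, i < 48114 → P i := stepQ 48113 Q48113 (allL N48113 (tt N25181 (iv1 F130718)) (tt N25180 (iv0 D85540)) (tt N25184 (iv2 F130716)) (tt N57840 (iv3 F319276)) (tt N78203 (iv4 F320437)) (tt N64020 (iv5 F192210)) (tt N82196 D179244) (tt N25182 F130717))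
theorem Q48115 : ∀ i, i < 48115 → P i := stepQ 48114 Q48114 (allL N48114 (tt N25184 (iv1 F351394)) (tt N25182 F351391) (tt N25180 (iv2 D85541)) (tt N82197 D179247) (tt N77825 (iv4 F351396)) (tt N82198 D179249) (tt N65874 (iv6 F351363)) (tt N25181 (iv7 F130719)))
theorem Q48116 : ∀ i, i < 48116 → P i := stepQ 48115 Q48115 (allL N48115 (tt N82193 (iv1 F398609)) (tt N82199 D179252) (tt N82200 D179253) (tt N25180 (iv3 D85542)) (tt N82201 D179254) (tt N82202 D179255) (tt N82203 D179256) (tt N82204 D179257))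
theorem Q48117 : ∀ i, i < 48117 → P i := stepQ 48116 Q48116 (allL N48116 (tt N82205 D179264) (tt N77576 (iv0 F350634)) (tt N82198 (iv2 F279174)) (tt N82202 (iv3 F279178)) (tt N82206 D179266) (tt N25180 (iv5 D85544)) (tt N82207 D179267) (tt N82208 D179268))
theorem Q48118 : ∀ i, i < 48118 → P i := stepQ 48117 Q48117 (allL N48117 (tt N65867 (iv1 F351327)) (tt N36151 (iv0 F351323)) (tt N65874 (iv2 F351362)) (tt N82203 (iv3 F279179)) (tt N33165 F351321) (tt N82209 D179271) (tt N25180 (iv6 D85545)) (tt N65873 (iv7 F351370)))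
theorem Q48119 : ∀ i, i < 48119 → P i := stepQ 48118 Q48118 (allL N48118 (tt N25182 F351392) (tt N25184 (iv0 F351393)) (tt N25181 F130720) (tt N82204 (iv3 F279180)) (tt N77824 (iv4 F359957)) (tt N82208 (iv5 F279189)) (tt N64111 (iv6 F351390)) (tt N25180 (iv7 D85546)))
theorem Q48120 : ∀ i, i < 48120 → P i := stepQ 48119 Q48119 (allL N48119 (tt N75257 (iv1 F355471)) (tt N30481 (iv0 F323266)) (tt N82210 D179276) (tt N25181 (iv3 D85547)) (tt N82211 D179277) (tt N82212 D179278) (tt N82213 D179279) (tt N82197 (iv7 F279171)))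
theorem Q48121 : ∀ i, i < 48121 → P i := stepQ 48120 Q48120 (allL N48120 (tt N77576 (iv1 F350635)) (tt N82205 F279190) (tt N82208 (iv2 F279188)) (tt N82212 (iv3 F279193)) (tt N27857 (iv4 F347915)) (tt N25181 (iv5 D85549)) (tt N46275 F347912) (tt N82198 (iv7 F279175)))
theorem Q48122 : ∀ i, i < 48122 → P i := stepQ 48121 Q48121 (allL N48121 (tt N79588 (iv1 F357027)) (tt N82214 D179286) (tt N64111 (iv2 F351389)) (tt N82213 (iv3 F279194)) (tt N62122 (iv4 F351385)) (tt N64108 (iv5 F347916)) (tt N25181 (iv6 D85550)) (tt N64115 (iv7 F351383)))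
theorem Q48123 : ∀ i, i < 48123 → P i := stepQ 48122 Q48122 (allL N48122 (tt N60000 (iv1 F339812)) (tt N64019 F192208) (tt N25183 F130723) (tt N65346 (iv3 F200961)) (tt N82215 D179299) (tt N25182 (iv5 D85553)) (tt N77446 (iv6 F359975)) (tt N64020 (iv7 F192212)))
theorem Q48124 : ∀ i, i < 48124 → P i := stepQ 48123 Q48123 (allL N48123 (tt N64020 (iv1 F192213)) (tt N25183 (iv0 D85554)) (tt N60000 (iv2 F347904)) (tt N75249 (iv3 F347906)) (tt N58490 (iv4 F347907)) (tt N32251 F347903) (tt N31344 (iv6 F347908)) (tt N64019 (iv7 F347941)))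
theorem Q48125 : ∀ i, i < 48125 → P i := stepQ 48124 Q48124 (allL N48124 (tt N25183 (iv1 D85555)) (tt N64020 F192215) (tt N64019 (iv2 F347940)) (tt N75166 (iv3 F347957)) (tt N54975 (iv4 F347958)) (tt N82143 (iv5 F351342)) (tt N54973 (iv6 F347959)) (tt N60000 (iv7 F347905)))
theorem Q48126 : ∀ i, i < 48126 → P i := stepQ 48125 Q48125 (allL N48125 (tt N58510 (iv1 F351354)) (tt N82216 D179312) (tt N82215 (iv2 F279198)) (tt N51866 (iv3 F347834)) (tt N25183 (iv4 D85556)) (tt N82217 D179313) (tt N51863 (iv6 F347832)) (tt N64009 F192152))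
theorem Q48127 : ∀ i, i < 48127 → P i := stepQ 48126 Q48126 (allL N48126 (tt N77447 (iv1 F347845)) (tt N77183 (iv0 F347843)) (tt N77446 (iv2 F359973)) (tt N25185 F130724) (tt N51863 (iv4 F347831)) (tt N42342 F130725) (tt N25183 (iv6 D85557)) (tt N74836 (iv7 F229437)))
theorem Q48128 : ∀ i, i < 48128 → P i := stepQ 48127 Q48127 (allL N48127 (tt N82218 D179317) (tt N82219 D179318) (tt N82196 (iv2 F279165)) (tt N25186 F130726) (tt N78204 (iv4 F320440)) (tt N75761 (iv5 F233684)) (tt N25184 (iv6 D85558)) (tt N44122 F130727))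
theorem Q48129 : ∀ i, i < 48129 → P i := stepQ 48128 Q48128 (allL N48128 (tt N42416 (iv1 F130729)) (tt N25185 (iv0 D85559)) (tt N65352 F200975) (tt N76618 (iv3 F366769)) (tt N41593 F130728) (tt N79625 (iv5 F313790)) (tt N75987 (iv6 F307291)) (tt N65353 (iv7 F200978)))
theorem Q48130 : ∀ i, i < 48130 → P i := stepQ 48129 Q48129 (allL N48129 (tt N25185 (iv1 D85560)) (tt N42416 F130730) (tt N65353 F200980) (tt N41212 (iv3 F324028)) (tt N41334 F130731) (tt N41208 F322547) (tt N37953 F315526) (tt N65352 F200976))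
theorem Q48131 : ∀ i, i < 48131 → P i := stepQ 48130 Q48130 (allL N48130 (tt N25189 (iv1 D85577)) (tt N37519 F311863) (tt N37538 F311864) (tt N36426 (iv3 F314276)) (tt N46986 (iv4 F131225)) (tt N36425 (iv5 F314279)) (tt N82220 D179371) (tt N37533 F311865))
theorem Q48132 : ∀ i, i < 48132 → P i := stepQ 48131 Q48131 (allL N48131 (tt N69276 F309905) (tt N82220 (iv0 F341984)) (tt N67903 F309906) (tt N25190 (iv3 D85618)) (tt N37012 (iv4 F312003)) (tt N66818 (iv5 F312113)) (tt N65088 (iv6 F199153)) (tt N25398 F299065))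
theorem Q48133 : ∀ i, i < 48133 → P i := stepQ 48132 Q48132 (allL N48132 (tt N68461 (iv1 F310254)) (tt N68483 (iv0 F310256)) (tt N68415 (iv2 F309449)) (tt N25191 (iv3 D85627)) (tt N34717 (iv4 F297719)) (tt N44520 (iv5 F310259)) (tt N25406 F296470) (tt N48133 (iv7 F131366)))
theorem Q48134 : ∀ i, i < 48134 → P i := stepQ 48133 Q48133 (allL N48133 (tt N48501 (iv1 F299976)) (tt N37558 (iv0 F311654)) (tt N44514 (iv2 F311655)) (tt N25196 (iv3 D85652)) (tt N48515 (iv4 F299927)) (tt N43448 (iv5 F312547)) (tt N61421 (iv6 F312736)) (tt N48132 F131366))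
theorem Q48135 : ∀ i, i < 48135 → P i := stepQ 48134 Q48134 (allL N48134 (tt N40024 F309911) (tt N40015 F309912) (tt N25493 F191220) (tt N43118 (iv3 F312135)) (tt N25197 (iv4 D85660)) (tt N43118 (iv5 F312137)) (tt N76024 (iv6 F235807)) (tt N25489 F191221))
theorem Q48136 : ∀ i, i < 48136 → P i := stepQ 48135 Q48135 (allL N48135 (tt N25207 F191371) (tt N65386 F201255) (tt N25490 F191213) (tt N75859 (iv3 F234446)) (tt N54517 (iv4 F329272)) (tt N25198 (iv5 D85666)) (tt N82221 D179541) (tt N25494 F191214))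
theorem Q48137 : ∀ i, i < 48137 → P i := stepQ 48136 Q48136 (allL N48136 (tt N25452 F131385) (tt N25451 F131386) (tt N25200 F131383) (tt N67903 (iv3 F307938)) (tt N25199 (iv4 D85668)) (tt N46555 F312996) (tt N56111 (iv6 F162695)) (tt N25447 F131384))
theorem Q48138 : ∀ i, i < 48138 → P i := stepQ 48137 Q48137 (allL N48137 (tt N25447 (iv1 F131392)) (tt N25200 (iv0 D85670)) (tt N25452 (iv2 F131391)) (tt N25462 F312238) (tt N37451 (iv4 F307942)) (tt N25461 F312239) (tt N69630 (iv6 F307943)) (tt N25451 F131393))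
theorem Q48139 : ∀ i, i < 48139 → P i := stepQ 48138 Q48138 (allL N48138 (tt N25201 (iv1 D85673)) (tt N25487 F131401) (tt N25496 F234080) (tt N57682 (iv3 F312146)) (tt N40010 (iv4 F312147)) (tt N76133 (iv5 F236650)) (tt N36210 F321644) (tt N25497 F234081))
theorem Q48140 : ∀ i, i < 48140 → P i := stepQ 48139 Q48139 (allL N48139 (tt N73607 (iv1 F322968)) (tt N82222 D179559) (tt N71276 F312268) (tt N25203 F131405) (tt N71272 (iv4 F314612)) (tt N56078 (iv5 F162530)) (tt N25201 (iv6 D85675)) (tt N44996 F131406))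
theorem Q48141 : ∀ i, i < 48141 → P i := stepQ 48140 Q48140 (allL N48140 (tt N81807 (iv1 F336424)) (tt N82223 D179561) (tt N82224 D179562) (tt N25202 (iv3 D85676)) (tt N71270 F316895) (tt N42444 F131407) (tt N81473 (iv6 F334752)) (tt N25499 F131408))
theorem Q48142 : ∀ i, i < 48142 → P i := stepQ 48141 Q48141 (allL N48141 (tt N42338 (iv1 F167441)) (tt N42336 F167443) (tt N48092 F131409) (tt N81473 (iv3 F334750)) (tt N25203 F131410) (tt N41687 F131411) (tt N25202 (iv6 D85677)) (tt N36661 F131412))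
theorem Q48143 : ∀ i, i < 48143 → P i := stepQ 48142 Q48142 (allL N48142 (tt N25494 F191302) (tt N25490 F191303) (tt N25207 (iv2 D85755)) (tt N65383 (iv3 F201225)) (tt N69538 (iv4 F314413)) (tt N42842 F131490) (tt N56127 (iv6 F306056)) (tt N65386 (iv7 F201253)))
theorem Q48144 : ∀ i, i < 48144 → P i := stepQ 48143 Q48143 (allL N48143 (tt N39264 F313705) (tt N47990 (iv0 F131491)) (tt N69538 (iv2 F314412)) (tt N82225 D179594) (tt N25207 (iv4 D85756)) (tt N39351 (iv5 F316158)) (tt N82226 D179596) (tt N65387 (iv7 F201257)))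
theorem Q48145 : ∀ i, i < 48145 → P i := stepQ 48144 Q48144 (allL N48144 (tt N82227 D179597) (tt N82228 D179598) (tt N56127 (iv2 F306055)) (tt N25209 F131492) (tt N82226 (iv4 F279696)) (tt N25445 F303959) (tt N25207 (iv6 D85757)) (tt N75959 (iv7 F306081)))
theorem Q48146 : ∀ i, i < 48146 → P i := stepQ 48145 Q48145 (allL N48145 (tt N71126 (iv1 F342683)) (tt N71122 (iv0 F346454)) (tt N81448 (iv2 F327864)) (tt N25208 (iv3 D85758)) (tt N82225 (iv4 F279694)) (tt N78708 (iv5 F250318)) (tt N82229 D179602) (tt N47547 F313974))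
theorem Q48147 : ∀ i, i < 48147 → P i := stepQ 48146 Q48146 (allL N48146 (tt N80302 (iv1 F322571)) (tt N66521 (iv0 F320394)) (tt N48060 F131495) (tt N82229 (iv3 F279705)) (tt N25209 F131496) (tt N69343 (iv5 F321979)) (tt N25208 (iv6 D85759)) (tt N69342 (iv7 F320870)))
theorem Q48148 : ∀ i, i < 48148 → P i := stepQ 48147 Q48147 (allL N48147 (tt N40244 (iv1 F316492)) (tt N25209 (iv0 D85760)) (tt N39919 F316230) (tt N74309 (iv3 F318499)) (tt N73427 (iv4 F341141)) (tt N37624 F131497) (tt N56084 (iv6 F162558)) (tt N40240 (iv7 F316498)))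
theorem Q48149 : ∀ i, i < 48149 → P i := stepQ 48148 Q48148 (allL N48148 (tt N39882 F313024) (tt N65365 F201133) (tt N25210 (iv2 D85764)) (tt N65386 (iv3 F201252)) (tt N78249 (iv4 F314352)) (tt N69672 F313025) (tt N66873 (iv6 F241567)) (tt N65383 (iv7 F201227)))
theorem Q48150 : ∀ i, i < 48150 → P i := stepQ 48149 Q48149 (allL N48149 (tt N57655 (iv1 F311290)) (tt N57653 (iv0 F311284)) (tt N78249 (iv2 F314351)) (tt N82230 D179609) (tt N25210 (iv4 D85765)) (tt N82231 D179610) (tt N43571 F205963) (tt N65384 (iv7 F201238)))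
theorem Q48151 : ∀ i, i < 48151 → P i := stepQ 48150 Q48150 (allL N48150 (tt N81455 (iv1 F327861)) (tt N57336 (iv0 F331955)) (tt N81457 (iv2 F327868)) (tt N25211 (iv3 D85766)) (tt N82230 (iv4 F279725)) (tt N76644 (iv5 F326620)) (tt N76147 (iv6 F237081)) (tt N48059 F131498))
theorem Q48152 : ∀ i, i < 48152 → P i := stepQ 48151 Q48151 (allL N48151 (tt N45786 F313802) (tt N31279 F319476) (tt N45785 F313804) (tt N62697 F318724) (tt N25216 F131500) (tt N31189 (iv5 F321463)) (tt N40483 F318725) (tt N25212 (iv7 D85774)))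
theorem Q48153 : ∀ i, i < 48153 → P i := stepQ 48152 Q48152 (allL N48152 (tt N82232 D179631) (tt N82221 (iv0 F279561)) (tt N82233 D179632) (tt N25213 (iv3 D85776)) (tt N43047 F353552) (tt N75554 F231806) (tt N47812 F309229) (tt N65391 (iv7 F201280)))
theorem Q48154 : ∀ i, i < 48154 → P i := stepQ 48153 Q48153 (allL N48153 (tt N67061 (iv1 F355145)) (tt N74977 (iv0 F348849)) (tt N82234 D179637) (tt N25214 (iv3 D85779)) (tt N82235 D179638) (tt N75339 F243347) (tt N47719 F313776) (tt N47737 F313777))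
theorem Q48155 : ∀ i, i < 48155 → P i := stepQ 48154 Q48154 (allL N48154 (tt N35427 F230114) (tt N47813 F313784) (tt N47814 F313785) (tt N82236 D179640) (tt N25214 (iv4 D85780)) (tt N35331 (iv5 F315768)) (tt N74255 (iv6 F322406)) (tt N35286 F313786))
theorem Q48156 : ∀ i, i < 48156 → P i := stepQ 48155 Q48155 (allL N48155 (tt N48245 (iv1 F131955)) (tt N25215 (iv0 D85782)) (tt N48244 F131947) (tt N82237 D179642) (tt N67929 (iv4 F317155)) (tt N36220 (iv5 F319592)) (tt N36635 F131550) (tt N36219 (iv7 F319232)))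
theorem Q48157 : ∀ i, i < 48157 → P i := stepQ 48156 Q48156 (allL N48156 (tt N25215 (iv1 D85783)) (tt N48245 F131954) (tt N36219 (iv2 F319231)) (tt N74974 (iv3 F330053)) (tt N65403 (iv4 F318681)) (tt N36209 (iv5 F318527)) (tt N41695 F131555) (tt N48244 (iv7 F131948)))
theorem Q48158 : ∀ i, i < 48158 → P i := stepQ 48157 Q48157 (allL N48157 (tt N32011 (iv1 F323153)) (tt N58885 (iv0 F323147)) (tt N44897 F131560) (tt N33420 (iv3 F322656)) (tt N25215 (iv4 D85784)) (tt N25337 (iv5 F316329)) (tt N25218 F131561) (tt N45932 (iv7 F316319)))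
theorem Q48159 : ∀ i, i < 48159 → P i := stepQ 48158 Q48158 (allL N48158 (tt N25217 (iv1 D85787)) (tt N46226 F131568) (tt N46231 F205845) (tt N42977 (iv3 F305614)) (tt N47364 (iv4 F305615)) (tt N74416 F229094) (tt N40756 F322974) (tt N46232 (iv7 F205844)))
theorem Q48160 : ∀ i, i < 48160 → P i := stepQ 48159 Q48159 (allL N48159 (tt N46232 (iv1 F131569)) (tt N46231 F131567) (tt N25217 (iv2 D85788)) (tt N37520 F309838) (tt N52791 F303513) (tt N78727 (iv5 F250525)) (tt N34607 F303514) (tt N46226 F131566))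
theorem Q48161 : ∀ i, i < 48161 → P i := stepQ 48160 Q48160 (allL N48160 (tt N82238 D179651) (tt N82239 D179652) (tt N82240 D179653) (tt N25218 (iv3 D85790)) (tt N33421 F320894) (tt N35485 F131572) (tt N33420 (iv6 F322658)) (tt N44895 F131573))
theorem Q48162 : ∀ i, i < 48162 → P i := stepQ 48161 Q48161 (allL N48161 (tt N25219 (iv1 D85796)) (tt N35362 (iv0 F190391)) (tt N35389 (iv2 F190811)) (tt N82241 D179660) (tt N25631 (iv4 F305065)) (tt N63995 (iv5 F192107)) (tt N35401 (iv6 F190812)) (tt N35368 (iv7 F190855)))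
theorem Q48163 : ∀ i, i < 48163 → P i := stepQ 48162 Q48162 (allL N48162 (tt N44858 F131599) (tt N44857 (iv0 F131622)) (tt N44859 F131596) (tt N25222 F131597) (tt N82242 D179663) (tt N25221 (iv5 D85799)) (tt N75156 (iv6 F230370)) (tt N44860 F131598))
theorem Q48164 : ∀ i, i < 48164 → P i := stepQ 48163 Q48163 (allL N48163 (tt N72687 (iv1 F313193)) (tt N40831 (iv0 F313195)) (tt N43940 F131653) (tt N75156 (iv3 F230369)) (tt N82142 (iv4 F278786)) (tt N34297 F131654) (tt N25222 (iv6 D85800)) (tt N63044 F310952))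
theorem Q48165 : ∀ i, i < 48165 → P i := stepQ 48164 Q48164 (allL N48164 (tt N48470 (iv1 F302872)) (tt N48469 (iv0 F302871)) (tt N48471 (iv2 F302874)) (tt N25224 (iv3 D85812)) (tt N48556 (iv4 F302719)) (tt N27747 (iv5 F305064)) (tt N33824 F199801) (tt N27746 (iv7 F305062)))
theorem Q48166 : ∀ i, i < 48166 → P i := stepQ 48165 Q48165 (allL N48165 (tt N33856 F199810) (tt N35498 F131673) (tt N25226 F131670) (tt N48215 (iv3 F131905)) (tt N38344 F310992) (tt N36228 F321584) (tt N25225 (iv6 D85817)) (tt N35497 F131671))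
theorem Q48167 : ∀ i, i < 48167 → P i := stepQ 48166 Q48166 (allL N48166 (tt N54277 (iv1 F199582)) (tt N64291 F195634) (tt N25228 (iv2 D85827)) (tt N25826 F131682) (tt N80853 (iv4 F317284)) (tt N82243 D179685) (tt N54124 (iv6 F156025)) (tt N25822 F131683))
theorem Q48168 : ∀ i, i < 48168 → P i := stepQ 48167 Q48167 (allL N48167 (tt N76531 (iv1 F366449)) (tt N76523 (iv0 F366450)) (tt N82243 (iv2 F279896)) (tt N25229 F131685) (tt N82244 D179688) (tt N25228 (iv5 D85828)) (tt N70167 (iv6 F328926)) (tt N64292 (iv7 F195638)))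
theorem Q48169 : ∀ i, i < 48169 → P i := stepQ 48168 Q48168 (allL N48168 (tt N64549 (iv1 F361500)) (tt N63038 (iv0 F361489)) (tt N69649 (iv2 F313758)) (tt N25232 F131689) (tt N65395 (iv4 F201328)) (tt N82245 D179710) (tt N25230 (iv6 D85835)) (tt N64514 F304350))
theorem Q48170 : ∀ i, i < 48170 → P i := stepQ 48169 Q48169 (allL N48169 (tt N35175 (iv1 F304860)) (tt N34526 F304351) (tt N25242 F131690) (tt N82246 D179712) (tt N25231 (iv4 D85836)) (tt N35199 F304352) (tt N77120 (iv6 F342487)) (tt N58310 (iv7 F337480)))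
theorem Q48171 : ∀ i, i < 48171 → P i := stepQ 48170 Q48170 (allL N48170 (tt N82247 D179714) (tt N82248 D179715) (tt N25243 F131691) (tt N76507 (iv3 F318520)) (tt N77120 (iv4 F342486)) (tt N82249 D179716) (tt N25231 (iv6 D85837)) (tt N82250 D179717))
theorem Q48172 : ∀ i, i < 48172 → P i := stepQ 48171 Q48171 (allL N48171 (tt N34808 F131693) (tt N34806 F131694) (tt N25246 F131692) (tt N82245 (iv3 F279916)) (tt N82251 D179718) (tt N25232 (iv5 D85838)) (tt N82249 (iv6 F279924)) (tt N64516 (iv7 F304436)))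
theorem Q48173 : ∀ i, i < 48173 → P i := stepQ 48172 Q48172 (allL N48172 (tt N28178 (iv1 F131707)) (tt N28177 F131708) (tt N28179 F131704) (tt N25235 F131705) (tt N50592 (iv4 F295402)) (tt N25233 (iv5 D85842)) (tt N51133 (iv6 F295324)) (tt N26073 F131706))
theorem Q48174 : ∀ i, i < 48174 → P i := stepQ 48173 Q48173 (allL N48173 (tt N81876 (iv1 F277359)) (tt N81875 F277356) (tt N57760 (iv2 F327320)) (tt N70489 (iv3 F347400)) (tt N25235 (iv4 D85843)) (tt N64312 (iv5 F195847)) (tt N30761 F326581) (tt N65009 (iv7 F198882)))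
theorem Q48175 : ∀ i, i < 48175 → P i := stepQ 48174 Q48174 (allL N48174 (tt N63991 (iv1 F305539)) (tt N57691 (iv0 F315172)) (tt N65356 (iv2 F201015)) (tt N48722 F233142) (tt N82252 D179730) (tt N25236 (iv5 D85851)) (tt N69241 (iv6 F337793)) (tt N48703 (iv7 F232493)))
theorem Q48176 : ∀ i, i < 48176 → P i := stepQ 48175 Q48175 (allL N48175 (tt N65359 (iv1 F201029)) (tt N65358 F201028) (tt N25238 F131711) (tt N69648 (iv3 F313757)) (tt N82253 D179732) (tt N25237 (iv5 D85853)) (tt N82254 D179733) (tt N65357 (iv7 F201025)))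
theorem Q48177 : ∀ i, i < 48177 → P i := stepQ 48176 Q48176 (allL N48176 (tt N64913 (iv1 F306502)) (tt N63097 F237241) (tt N25239 F131712) (tt N69649 (iv3 F313759)) (tt N25253 F131713) (tt N82255 D179734) (tt N25237 (iv6 D85854)) (tt N64909 (iv7 F306500)))
theorem Q48178 : ∀ i, i < 48178 → P i := stepQ 48177 Q48177 (allL N48177 (tt N65357 (iv1 F201027)) (tt N25238 (iv0 D85855)) (tt N65359 (iv2 F236106)) (tt N82256 D179736) (tt N82257 D179737) (tt N57468 (iv5 F312682)) (tt N71391 (iv6 F337822)) (tt N65358 F236105))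
theorem Q48179 : ∀ i, i < 48179 → P i := stepQ 48178 Q48178 (allL N48178 (tt N25238 (iv1 D85856)) (tt N65357 F201026) (tt N65358 F236102) (tt N43469 (iv3 F308336)) (tt N82258 D179741) (tt N34879 F306515) (tt N70407 (iv6 F337789)) (tt N65359 (iv7 F236104)))
theorem Q48180 : ∀ i, i < 48180 → P i := stepQ 48179 Q48179 (allL N48179 (tt N57773 (iv1 F351245)) (tt N82259 D179744) (tt N82253 (iv2 F279952)) (tt N58105 (iv3 F343110)) (tt N25238 (iv4 D85857)) (tt N57752 (iv5 F343119)) (tt N82260 D179747) (tt N58339 (iv7 F343115)))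
theorem Q48181 : ∀ i, i < 48181 → P i := stepQ 48180 Q48180 (allL N48180 (tt N82261 D179748) (tt N82262 D179749) (tt N82254 (iv2 F279953)) (tt N25243 F131714) (tt N82260 (iv4 F279971)) (tt N82263 D179750) (tt N25238 (iv6 D85858)) (tt N82264 D179751))
theorem Q48182 : ∀ i, i < 48182 → P i := stepQ 48181 Q48181 (allL N48181 (tt N64909 (iv1 F306498)) (tt N25239 (iv0 D85859)) (tt N64913 (iv2 F306503)) (tt N82265 D179752) (tt N65247 F278979) (tt N63133 (iv5 F278981)) (tt N64431 (iv6 F361459)) (tt N63097 F278980))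
theorem Q48183 : ∀ i, i < 48183 → P i := stepQ 48182 Q48182 (allL N48182 (tt N25239 (iv1 D85860)) (tt N64909 (iv0 F306497)) (tt N63097 F233013) (tt N65254 (iv3 F330123)) (tt N63724 (iv4 F233012)) (tt N63134 F233015) (tt N39836 F326308) (tt N64913 (iv7 F306505)))
theorem Q48184 : ∀ i, i < 48184 → P i := stepQ 48183 Q48183 (allL N48183 (tt N82266 D179755) (tt N82267 D179756) (tt N82255 (iv2 F279954)) (tt N25246 F131715) (tt N82268 D179757) (tt N25239 (iv5 D85861)) (tt N82263 (iv6 F279973)) (tt N64914 (iv7 F304680)))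
theorem Q48185 : ∀ i, i < 48185 → P i := stepQ 48184 Q48184 (allL N48184 (tt N81867 (iv1 F338829)) (tt N81870 (iv0 F338830)) (tt N82269 D179761) (tt N25240 (iv3 D85863)) (tt N65250 (iv4 F338886)) (tt N82270 D179763) (tt N82271 D179764) (tt N65360 (iv7 F201032)))
theorem Q48186 : ∀ i, i < 48186 → P i := stepQ 48185 Q48185 (allL N48185 (tt N63979 (iv1 F304335)) (tt N63977 (iv0 F302881)) (tt N65363 (iv2 F201037)) (tt N65252 (iv3 F338887)) (tt N25240 (iv4 D85864)) (tt N64848 (iv5 F303324)) (tt N82272 D179769) (tt N65361 (iv7 F201034)))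
theorem Q48187 : ∀ i, i < 48187 → P i := stepQ 48186 Q48186 (allL N48186 (tt N34481 F300556) (tt N34479 F300557) (tt N34529 F300558) (tt N82270 (iv3 F279985)) (tt N34841 F300559) (tt N25240 (iv5 D85865)) (tt N34854 F300560) (tt N34482 F300561))
theorem Q48188 : ∀ i, i < 48188 → P i := stepQ 48187 Q48187 (allL N48187 (tt N82273 D179770) (tt N82274 D179771) (tt N65364 (iv2 F201039)) (tt N82271 (iv3 F279988)) (tt N82272 (iv4 F280002)) (tt N65023 (iv5 F198919)) (tt N25240 (iv6 D85866)) (tt N70420 (iv7 F360249)))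
theorem Q48189 : ∀ i, i < 48189 → P i := stepQ 48188 Q48188 (allL N48188 (tt N28175 (iv1 F286851)) (tt N28171 (iv0 F286852)) (tt N81199 (iv2 F304509)) (tt N25241 (iv3 D85867)) (tt N82275 D179776) (tt N34848 F301807) (tt N70421 (iv6 F350737)) (tt N65362 (iv7 F201036)))
theorem Q48190 : ∀ i, i < 48190 → P i := stepQ 48189 Q48189 (allL N48189 (tt N63977 (iv1 F302882)) (tt N63979 (iv0 F304334)) (tt N65361 (iv2 F201033)) (tt N70403 (iv3 F351247)) (tt N25241 (iv4 D85868)) (tt N64847 (iv5 F304463)) (tt N70422 (iv6 F350738)) (tt N65363 (iv7 F201038)))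
theorem Q48191 : ∀ i, i < 48191 → P i := stepQ 48190 Q48190 (allL N48190 (tt N58310 (iv1 F337477)) (tt N25242 (iv0 D85870)) (tt N35175 (iv2 F304861)) (tt N82276 D179784) (tt N34527 F304541) (tt N34943 F304542) (tt N82277 D179786) (tt N34526 F304543))
theorem Q48192 : ∀ i, i < 48192 → P i := stepQ 48191 Q48191 (allL N48191 (tt N25242 (iv1 D85871)) (tt N58310 (iv0 F337476)) (tt N34526 F302442) (tt N82278 D179787) (tt N34477 F302443) (tt N35176 (iv5 F304627)) (tt N70417 (iv6 F349738)) (tt N35175 (iv7 F304862)))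
theorem Q48193 : ∀ i, i < 48193 → P i := stepQ 48192 Q48192 (allL N48192 (tt N31765 F336744) (tt N64302 F195845) (tt N35199 F302089) (tt N31772 F337464) (tt N34946 F302090) (tt N25242 (iv5 D85873)) (tt N82279 D179795) (tt N31763 (iv7 F337466)))
theorem Q48194 : ∀ i, i < 48194 → P i := stepQ 48193 Q48193 (allL N48193 (tt N77119 (iv1 F360789)) (tt N77122 (iv0 F360788)) (tt N77120 (iv2 F342485)) (tt N58346 (iv3 F337468)) (tt N25243 F131728) (tt N82280 D179798) (tt N25242 (iv6 D85874)) (tt N58320 (iv7 F343153)))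
theorem Q48195 : ∀ i, i < 48195 → P i := stepQ 48194 Q48194 (allL N48194 (tt N82250 (iv1 F279928)) (tt N25243 (iv0 D85875)) (tt N82247 (iv2 F351141)) (tt N82281 D179801) (tt N82282 D179802) (tt N82283 D179803) (tt N70424 (iv6 F370506)) (tt N82248 (iv7 F351137)))
theorem Q48196 : ∀ i, i < 48196 → P i := stepQ 48195 Q48195 (allL N48195 (tt N25243 (iv1 D85876)) (tt N82250 F279927) (tt N82248 (iv2 F351136)) (tt N27075 F294627) (tt N82284 D179807) (tt N82285 D179808) (tt N27074 F294628) (tt N82247 (iv7 F351142)))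
theorem Q48197 : ∀ i, i < 48197 → P i := stepQ 48196 Q48196 (allL N48196 (tt N82286 D179810) (tt N82287 D179811) (tt N82249 (iv2 F279923)) (tt N82263 (iv3 F279972)) (tt N82288 D179812) (tt N25243 (iv5 D85877)) (tt N25246 F131729) (tt N82289 D179813))
theorem Q48198 : ∀ i, i < 48198 → P i := stepQ 48197 Q48197 (allL N48197 (tt N82248 (iv1 F279922)) (tt N82247 F279926) (tt N82250 (iv2 F279925)) (tt N82264 (iv3 F279974)) (tt N58320 (iv4 F343152)) (tt N82289 (iv5 F280034)) (tt N58319 (iv6 F337493)) (tt N25243 (iv7 D85878)))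
theorem Q48199 : ∀ i, i < 48199 → P i := stepQ 48198 Q48198 (allL N48198 (tt N65251 (iv1 F366943)) (tt N81871 (iv0 F338832)) (tt N77258 (iv2 F343480)) (tt N25244 (iv3 D85879)) (tt N64921 (iv4 F198616)) (tt N64326 (iv5 F195865)) (tt N64432 (iv6 F303844)) (tt N64921 (iv7 F304440)))
theorem Q48200 : ∀ i, i < 48200 → P i := stepQ 48199 Q48199 (allL N48199 (tt N28176 (iv1 F311782)) (tt N82290 D179819) (tt N81416 (iv2 F311720)) (tt N25245 (iv3 D85881)) (tt N28800 F309572) (tt N53546 (iv5 F311784)) (tt N28077 (iv6 F311714)) (tt N64564 (iv7 F304438)))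
theorem Q48201 : ∀ i, i < 48201 → P i := stepQ 48200 Q48200 (allL N48200 (tt N64516 (iv1 F304435)) (tt N25246 (iv0 D85882)) (tt N34808 (iv2 F131733)) (tt N82291 D179821) (tt N82292 D179822) (tt N27979 F131732) (tt N82293 D179823) (tt N34806 F131734))
theorem Q48202 : ∀ i, i < 48202 → P i := stepQ 48201 Q48201 (allL N48201 (tt N46659 F304675) (tt N82294 D179825) (tt N82251 (iv2 F279929)) (tt N82295 D179826) (tt N25246 (iv4 D85883)) (tt N82251 (iv5 F279930)) (tt N82288 (iv6 F280033)) (tt N64922 (iv7 F304683)))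
theorem Q48203 : ∀ i, i < 48203 → P i := stepQ 48202 Q48202 (allL N48202 (tt N35395 (iv1 F304449)) (tt N53084 (iv0 F304450)) (tt N53086 (iv2 F304451)) (tt N25247 (iv3 D85895)) (tt N35464 (iv4 F304337)) (tt N82296 D179846) (tt N43853 (iv6 F302829)) (tt N34960 F301730))
theorem Q48204 : ∀ i, i < 48204 → P i := stepQ 48203 Q48203 (allL N48203 (tt N44918 F131774) (tt N34568 F131775) (tt N35189 (iv2 F302819)) (tt N82296 (iv3 F280080)) (tt N64847 (iv4 F304462)) (tt N25247 (iv5 D85897)) (tt N72541 (iv6 F343238)) (tt N34961 F301734))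
theorem Q48205 : ∀ i, i < 48205 → P i := stepQ 48204 Q48204 (allL N48204 (tt N35196 F305155) (tt N25248 (iv0 D85902)) (tt N35195 F305156) (tt N37377 F311081) (tt N69638 F311082) (tt N71328 (iv5 F318995)) (tt N42520 F280102) (tt N35003 F305157))
theorem Q48206 : ∀ i, i < 48206 → P i := stepQ 48205 Q48205 (allL N48205 (tt N25248 (iv1 D85903)) (tt N35196 F305126) (tt N35003 F305127) (tt N35338 (iv3 F307035)) (tt N43905 (iv4 F306171)) (tt N71327 (iv5 F318991)) (tt N34888 F305128) (tt N35195 F305129))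
theorem Q48207 : ∀ i, i < 48207 → P i := stepQ 48206 Q48206 (allL N48206 (tt N35195 F305158) (tt N35003 F305159) (tt N25248 (iv2 D85904)) (tt N35191 F305160) (tt N25268 F131802) (tt N76095 F236296) (tt N35467 F131803) (tt N35196 F305161))
theorem Q48208 : ∀ i, i < 48208 → P i := stepQ 48207 Q48207 (allL N48207 (tt N63126 F233144) (tt N76097 F236301) (tt N76095 (iv2 F236297)) (tt N25249 F131804) (tt N82297 D179862) (tt N25248 (iv5 D85905)) (tt N82298 D179863) (tt N35197 F304407))
theorem Q48209 : ∀ i, i < 48209 → P i := stepQ 48208 Q48208 (allL N48208 (tt N64302 (iv1 F195720)) (tt N31765 F336743) (tt N31763 F337472) (tt N82299 D179864) (tt N25249 (iv4 D85906)) (tt N58310 (iv5 F337479)) (tt N31759 (iv6 F337482)) (tt N35199 F302093))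
theorem Q48210 : ∀ i, i < 48210 → P i := stepQ 48209 Q48209 (allL N48209 (tt N82300 D179866) (tt N82301 D179867) (tt N31762 F337485) (tt N82298 (iv3 F280133)) (tt N31759 F337486) (tt N30988 F337487) (tt N25249 (iv6 D85907)) (tt N82302 D179868))
theorem Q48211 : ∀ i, i < 48211 → P i := stepQ 48210 Q48210 (allL N48210 (tt N70514 (iv1 F357880)) (tt N64485 (iv0 F357864)) (tt N54146 (iv2 F351629)) (tt N25250 (iv3 D85914)) (tt N46872 F304301) (tt N82303 D179881) (tt N54143 (iv6 F351622)) (tt N64572 (iv7 F304676)))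
theorem Q48212 : ∀ i, i < 48212 → P i := stepQ 48211 Q48211 (allL N48211 (tt N27978 F131812) (tt N34846 F301692) (tt N46667 F301693) (tt N82303 (iv3 F280146)) (tt N64332 F195873) (tt N25250 (iv5 D85915)) (tt N82304 D179882) (tt N63931 F301694))
theorem Q48213 : ∀ i, i < 48213 → P i := stepQ 48212 Q48212 (allL N48212 (tt N54281 (iv1 F156350)) (tt N54280 F156354) (tt N54283 (iv2 F156351)) (tt N81429 (iv3 F275194)) (tt N82305 D179884) (tt N25252 (iv5 D85942)) (tt N70477 (iv6 F347398)) (tt N54273 (iv7 F156347)))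
theorem Q48214 : ∀ i, i < 48214 → P i := stepQ 48213 Q48213 (allL N48213 (tt N25261 (iv1 F131907)) (tt N25253 (iv0 D85952)) (tt N25258 F155337) (tt N81340 F278297) (tt N82306 D179891) (tt N63119 (iv5 F185699)) (tt N56150 (iv6 F185704)) (tt N25259 F155338))
theorem Q48215 : ∀ i, i < 48215 → P i := stepQ 48214 Q48214 (allL N48214 (tt N33885 (iv1 F185762)) (tt N33881 (iv0 F155425)) (tt N25260 F131903) (tt N40489 F311462) (tt N82307 D179892) (tt N25253 (iv5 D85954)) (tt N40488 (iv6 F313921)) (tt N40759 F319631))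
theorem Q48216 : ∀ i, i < 48216 → P i := stepQ 48215 Q48215 (allL N48215 (tt N25259 (iv1 F131908)) (tt N25258 F131909) (tt N25261 F131904) (tt N48165 F131905) (tt N64909 (iv4 F306499)) (tt N40759 F319580) (tt N35491 F131906) (tt N25253 (iv7 D85955)))
theorem Q48217 : ∀ i, i < 48217 → P i := stepQ 48216 Q48216 (allL N48216 (tt N75859 (iv1 F278738)) (tt N39910 (iv0 F316783)) (tt N78082 (iv2 F316787)) (tt N25254 (iv3 D85957)) (tt N48042 F131911) (tt N57483 F314452) (tt N63151 (iv6 F185774)) (tt N65373 (iv7 F201201)))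
theorem Q48218 : ∀ i, i < 48218 → P i := stepQ 48217 Q48217 (allL N48217 (tt N82308 D179895) (tt N78252 F315127) (tt N57556 F315128) (tt N82309 D179897) (tt N25254 (iv4 D85958)) (tt N57555 (iv5 F317328)) (tt N63152 (iv6 F185775)) (tt N65374 (iv7 F201208)))
theorem Q48219 : ∀ i, i < 48219 → P i := stepQ 48218 Q48218 (allL N48218 (tt N39886 F314362) (tt N67059 (iv0 F206456)) (tt N78124 F314363) (tt N25255 (iv3 D85962)) (tt N48000 (iv4 F131913)) (tt N42807 F155191) (tt N74310 (iv6 F316714)) (tt N65376 (iv7 F201211)))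
theorem Q48220 : ∀ i, i < 48220 → P i := stepQ 48219 Q48219 (allL N48219 (tt N78252 F315131) (tt N82308 F280175) (tt N65374 (iv2 F201207)) (tt N57501 (iv3 F317335)) (tt N25255 (iv4 D85963)) (tt N57500 (iv5 F317336)) (tt N74311 (iv6 F317337)) (tt N57556 F315132))
theorem Q48221 : ∀ i, i < 48221 → P i := stepQ 48220 Q48220 (allL N48220 (tt N37895 F316157) (tt N25256 (iv0 D85966)) (tt N65378 (iv2 F232984)) (tt N82310 D179905) (tt N65243 F201197) (tt N82311 D179906) (tt N63154 F233011) (tt N65377 F232986))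
theorem Q48222 : ∀ i, i < 48222 → P i := stepQ 48221 Q48221 (allL N48221 (tt N25256 (iv1 D85967)) (tt N37895 F316349) (tt N65377 F232983) (tt N78029 (iv3 F332269)) (tt N65244 (iv4 F232989)) (tt N82312 D179908) (tt N74281 (iv6 F363462)) (tt N65378 (iv7 F232982)))
theorem Q48223 : ∀ i, i < 48223 → P i := stepQ 48222 Q48222 (allL N48222 (tt N82313 D179910) (tt N82314 D179911) (tt N77858 (iv2 F322249)) (tt N25256 (iv3 D85968)) (tt N25262 F131914) (tt N82315 D179913) (tt N78365 (iv6 F324090)) (tt N65379 (iv7 F201220)))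
theorem Q48224 : ∀ i, i < 48224 → P i := stepQ 48223 Q48223 (allL N48223 (tt N57612 (iv1 F315168)) (tt N57608 (iv0 F343127)) (tt N78081 (iv2 F316481)) (tt N82315 (iv3 F280196)) (tt N57751 (iv4 F343125)) (tt N25256 (iv5 D85969)) (tt N82316 D179918) (tt N65380 (iv7 F201221)))
theorem Q48225 : ∀ i, i < 48225 → P i := stepQ 48224 Q48224 (allL N48224 (tt N74276 (iv1 F343137)) (tt N63171 (iv0 F233205)) (tt N40487 F318699) (tt N78365 (iv3 F324089)) (tt N25257 F131915) (tt N57631 (iv5 F351838)) (tt N25256 (iv6 D85970)) (tt N74722 (iv7 F320845)))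
theorem Q48226 : ∀ i, i < 48226 → P i := stepQ 48225 Q48225 (allL N48225 (tt N74734 (iv1 F318636)) (tt N74733 (iv0 F318639)) (tt N40488 F316368) (tt N25264 F131916) (tt N82317 D179926) (tt N25257 (iv5 D85973)) (tt N25260 F131917) (tt N74732 (iv7 F317361)))
theorem Q48227 : ∀ i, i < 48227 → P i := stepQ 48226 Q48226 (allL N48226 (tt N76025 (iv1 F280172)) (tt N75861 (iv0 F280213)) (tt N82318 D179929) (tt N25258 (iv3 D85976)) (tt N70553 (iv4 F308623)) (tt N63148 (iv5 F185771)) (tt N54134 (iv6 F350949)) (tt N63102 F185552))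
theorem Q48228 : ∀ i, i < 48228 → P i := stepQ 48227 Q48227 (allL N48227 (tt N82319 D179932) (tt N54279 (iv0 F242145)) (tt N82306 (iv2 F280153)) (tt N53372 (iv3 F344091)) (tt N25258 (iv4 D85977)) (tt N82320 D179934) (tt N54375 (iv6 F321082)) (tt N53366 (iv7 F321087)))
theorem Q48229 : ∀ i, i < 48229 → P i := stepQ 48228 Q48228 (allL N48228 (tt N56144 (iv1 F185570)) (tt N45742 F185568) (tt N56150 (iv2 F185703)) (tt N54134 (iv3 F350947)) (tt N54375 (iv4 F321081)) (tt N76073 F236206) (tt N25258 (iv6 D85979)) (tt N54371 (iv7 F321076)))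
theorem Q48230 : ∀ i, i < 48230 → P i := stepQ 48229 Q48229 (allL N48229 (tt N81293 (iv1 F274162)) (tt N80385 F264409) (tt N81264 (iv2 F274028)) (tt N25259 (iv3 D85981)) (tt N47953 (iv4 F155290)) (tt N63151 (iv5 F185773)) (tt N47952 F155289) (tt N81340 (iv7 F278298)))
theorem Q48231 : ∀ i, i < 48231 → P i := stepQ 48230 Q48230 (allL N48230 (tt N54279 F279496) (tt N82319 F280231) (tt N53366 (iv2 F321084)) (tt N54334 (iv3 F324280)) (tt N25259 (iv4 D85982)) (tt N82321 D179936) (tt N39849 F326328) (tt N82306 (iv7 F280154)))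
theorem Q48232 : ∀ i, i < 48232 → P i := stepQ 48231 Q48231 (allL N48231 (tt N40759 F319630) (tt N25260 (iv0 D85985)) (tt N33885 F187626) (tt N76763 (iv3 F239899)) (tt N82322 D179937) (tt N33870 F155444) (tt N40640 F320123) (tt N33881 F187627))
theorem Q48233 : ∀ i, i < 48233 → P i := stepQ 48232 Q48232 (allL N48232 (tt N82323 D179940) (tt N55978 (iv0 F322290)) (tt N82307 (iv2 F280157)) (tt N55953 (iv3 F321643)) (tt N25260 (iv4 D85987)) (tt N82324 D179943) (tt N82317 (iv6 F280206)) (tt N40760 (iv7 F321539)))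
theorem Q48234 : ∀ i, i < 48234 → P i := stepQ 48233 Q48233 (allL N48233 (tt N57327 (iv1 F318487)) (tt N25262 (iv0 D85988)) (tt N65389 (iv2 F350999)) (tt N66983 (iv3 F341256)) (tt N82325 D179946) (tt N66976 (iv5 F339417)) (tt N66979 (iv6 F341255)) (tt N65388 (iv7 F350998)))
theorem Q48235 : ∀ i, i < 48235 → P i := stepQ 48234 Q48234 (allL N48234 (tt N25262 (iv1 D85989)) (tt N57327 (iv0 F318486)) (tt N65388 (iv2 F350996)) (tt N79453 (iv3 F360153)) (tt N82326 D179951) (tt N82327 D179952) (tt N79451 (iv6 F350985)) (tt N65389 (iv7 F351000)))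
theorem Q48236 : ∀ i, i < 48236 → P i := stepQ 48235 Q48235 (allL N48235 (tt N65389 (iv1 F201262)) (tt N65388 F201258) (tt N25262 (iv2 D85990)) (tt N38164 F320510) (tt N77858 (iv4 F322250)) (tt N75155 (iv5 F339415)) (tt N66373 (iv6 F322251)) (tt N57327 F320511))
theorem Q48237 : ∀ i, i < 48237 → P i := stepQ 48236 Q48236 (allL N48236 (tt N80034 (iv1 F305844)) (tt N81360 (iv0 F307156)) (tt N82120 (iv2 F278724)) (tt N25266 (iv3 D86003)) (tt N63701 (iv4 F188776)) (tt N82328 D179979) (tt N42525 F155293) (tt N49038 F307024))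
theorem Q48238 : ∀ i, i < 48238 → P i := stepQ 48237 Q48237 (allL N48237 (tt N82329 D179980) (tt N82330 D179981) (tt N42565 (iv2 F155296)) (tt N28856 F314170) (tt N25266 (iv4 D86004)) (tt N82331 D179983) (tt N28853 F314171) (tt N65392 (iv7 F201289)))
theorem Q48239 : ∀ i, i < 48239 → P i := stepQ 48238 Q48238 (allL N48238 (tt N42784 F155267) (tt N34571 (iv0 F155295)) (tt N42568 F155297) (tt N82328 (iv3 F280305)) (tt N79072 (iv4 F314526)) (tt N25266 (iv5 D86005)) (tt N82332 D179985) (tt N44925 (iv7 F155389)))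
theorem Q48240 : ∀ i, i < 48240 → P i := stepQ 48239 Q48239 (allL N48239 (tt N47398 (iv1 F273262)) (tt N80148 F273263) (tt N67822 F318032) (tt N25267 (iv3 D86008)) (tt N36953 F318033) (tt N82333 D179986) (tt N53549 (iv6 F305584)) (tt N42562 (iv7 F155273)))
theorem Q48241 : ∀ i, i < 48241 → P i := stepQ 48240 Q48240 (allL N48240 (tt N82330 (iv1 F280319)) (tt N82329 F280311) (tt N65392 (iv2 F201288)) (tt N35058 (iv3 F309602)) (tt N25267 (iv4 D86009)) (tt N82334 D179989) (tt N35055 F307615) (tt N42565 (iv7 F155274)))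
theorem Q48242 : ∀ i, i < 48242 → P i := stepQ 48241 Q48241 (allL N48241 (tt N34571 (iv1 F155298)) (tt N42784 F155390) (tt N44925 F155387) (tt N82333 (iv3 F280337)) (tt N34084 (iv4 F311999)) (tt N25267 (iv5 D86010)) (tt N34083 F309793) (tt N42568 (iv7 F155275)))
theorem Q48243 : ∀ i, i < 48243 → P i := stepQ 48242 Q48242 (allL N48242 (tt N62722 F232608) (tt N74799 F232609) (tt N74782 (iv2 F229141)) (tt N38218 F320619) (tt N25269 (iv4 D86015)) (tt N38217 (iv5 F322394)) (tt N82335 D179992) (tt N65393 (iv7 F201292)))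
theorem Q48244 : ∀ i, i < 48244 → P i := stepQ 48243 Q48243 (allL N48243 (tt N67096 F206593) (tt N56020 (iv0 F317976)) (tt N40643 F315939) (tt N25270 F131943) (tt N82335 (iv4 F280365)) (tt N35481 F131944) (tt N25269 (iv6 D86016)) (tt N82336 D179993))
theorem Q48245 : ∀ i, i < 48245 → P i := stepQ 48244 Q48244 (allL N48244 (tt N40645 F319229) (tt N25270 (iv0 D86017)) (tt N48155 (iv2 F131947)) (tt N82337 D179994) (tt N69212 (iv4 F317752)) (tt N36655 F131946) (tt N42871 F131945) (tt N48156 F131948))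
theorem Q48246 : ∀ i, i < 48246 → P i := stepQ 48245 Q48245 (allL N48245 (tt N48156 (iv1 F131954)) (tt N48155 F131955) (tt N40645 F319233) (tt N82336 (iv3 F280366)) (tt N48350 (iv4 F313883)) (tt N35489 F131953) (tt N44378 F317399) (tt N25270 (iv7 D86018)))
theorem Q48247 : ∀ i, i < 48247 → P i := stepQ 48246 Q48246 (allL N48246 (tt N25295 (iv1 F131956)) (tt N25271 (iv0 D86019)) (tt N25294 (iv2 F324619)) (tt N82338 D179996) (tt N82339 D179997) (tt N46789 (iv5 F324613)) (tt N65147 (iv6 F340175)) (tt N25293 (iv7 F324615)))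
theorem Q48248 : ∀ i, i < 48248 → P i := stepQ 48247 Q48247 (allL N48247 (tt N25294 (iv1 F131960)) (tt N25293 F131958) (tt N25271 (iv2 D86021)) (tt N65399 (iv3 F201456)) (tt N55435 (iv4 F335299)) (tt N70081 (iv5 F330238)) (tt N78740 (iv6 F250699)) (tt N25295 F131957))
theorem Q48249 : ∀ i, i < 48249 → P i := stepQ 48248 Q48248 (allL N48248 (tt N25272 (iv1 D86023)) (tt N25442 F300077) (tt N39918 F312834) (tt N82227 (iv3 F305219)) (tt N82340 D180009) (tt N44905 (iv5 F148171)) (tt N40455 (iv6 F324177)) (tt N33248 F322680))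
theorem Q48250 : ∀ i, i < 48250 → P i := stepQ 48249 Q48249 (allL N48249 (tt N40376 F326242) (tt N82341 D180012) (tt N80410 (iv2 F267308)) (tt N39908 (iv3 F315249)) (tt N25272 (iv4 D86024)) (tt N64446 (iv5 F354378)) (tt N63182 (iv6 F314685)) (tt N39905 F312806))
theorem Q48251 : ∀ i, i < 48251 → P i := stepQ 48250 Q48250 (allL N48250 (tt N48451 F298913) (tt N48416 F298914) (tt N48448 F298915) (tt N82342 D180022) (tt N25274 (iv4 D86028)) (tt N82343 D180023) (tt N55598 (iv6 F160865)) (tt N46654 F131973))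
theorem Q48252 : ∀ i, i < 48252 → P i := stepQ 48251 Q48251 (allL N48251 (tt N45829 F297292) (tt N25275 (iv0 D86029)) (tt N34741 (iv2 F297619)) (tt N82344 D180024) (tt N25431 F297293) (tt N82345 D180025) (tt N81717 (iv6 F276591)) (tt N46240 (iv7 F297616)))
theorem Q48253 : ∀ i, i < 48253 → P i := stepQ 48252 Q48252 (allL N48252 (tt N82346 D180033) (tt N46189 F299598) (tt N80411 (iv2 F341735)) (tt N80726 (iv3 F323362)) (tt N82347 D180034) (tt N25275 (iv5 D86032)) (tt N82348 D180035) (tt N65405 (iv7 F201539)))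
theorem Q48254 : ∀ i, i < 48254 → P i := stepQ 48253 Q48253 (allL N48253 (tt N65125 (iv1 F280421)) (tt N45733 (iv0 F299412)) (tt N35909 (iv2 F324606)) (tt N81447 (iv3 F323363)) (tt N25276 F131975) (tt N82349 D180038) (tt N25275 (iv6 D86033)) (tt N35912 (iv7 F324419)))
theorem Q48255 : ∀ i, i < 48255 → P i := stepQ 48254 Q48254 (allL N48254 (tt N74395 (iv1 F333980)) (tt N68013 (iv0 F330129)) (tt N66881 (iv2 F323394)) (tt N25277 (iv3 D86036)) (tt N80812 F302236) (tt N43536 F321727) (tt N46347 F131981) (tt N45713 F131982))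
theorem Q48256 : ∀ i, i < 48256 → P i := stepQ 48255 Q48255 (allL N48255 (tt N65401 (iv1 F201501)) (tt N25279 (iv0 D86058)) (tt N52826 (iv2 F345517)) (tt N31268 (iv3 F345514)) (tt N58111 (iv4 F345515)) (tt N52823 (iv5 F345519)) (tt N31266 (iv6 F345516)) (tt N52830 (iv7 F345523)))
theorem Q48257 : ∀ i, i < 48257 → P i := stepQ 48256 Q48256 (allL N48256 (tt N25279 (iv1 D86059)) (tt N65401 F201503) (tt N52830 (iv2 F345522)) (tt N82350 D180111) (tt N82351 D180112) (tt N52824 (iv5 F342099)) (tt N78738 (iv6 F342101)) (tt N52826 (iv7 F345518)))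
theorem Q48258 : ∀ i, i < 48258 → P i := stepQ 48257 Q48257 (allL N48257 (tt N52826 (iv1 F336009)) (tt N52830 (iv0 F351711)) (tt N25279 (iv2 D86060)) (tt N46671 F322579) (tt N64619 (iv4 F304441)) (tt N64833 F322580) (tt N67940 (iv6 F324070)) (tt N65401 (iv7 F201500)))
theorem Q48259 : ∀ i, i < 48259 → P i := stepQ 48258 Q48258 (allL N48258 (tt N46187 F297529) (tt N25280 (iv0 D86063)) (tt N34738 F297530) (tt N82352 D180123) (tt N25430 F297531) (tt N82346 (iv5 F280416)) (tt N48434 F297532) (tt N27285 (iv7 F132001)))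
theorem Q48260 : ∀ i, i < 48260 → P i := stepQ 48259 Q48259 (allL N48259 (tt N80151 (iv1 F299802)) (tt N64242 (iv0 F299804)) (tt N80095 (iv2 F359325)) (tt N52840 (iv3 F323858)) (tt N82353 D180131) (tt N25280 (iv5 D86065)) (tt N82354 D180132) (tt N52838 (iv7 F347411)))
theorem Q48261 : ∀ i, i < 48261 → P i := stepQ 48260 Q48260 (allL N48260 (tt N82355 D180133) (tt N66049 (iv0 F333471)) (tt N65909 (iv2 F325652)) (tt N60659 (iv3 F326205)) (tt N25281 F132003) (tt N39070 F330406) (tt N25280 (iv6 D86066)) (tt N65910 (iv7 F325645)))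
theorem Q48262 : ∀ i, i < 48262 → P i := stepQ 48261 Q48261 (allL N48261 (tt N64161 F254954) (tt N64163 F254955) (tt N59932 (iv2 F323980)) (tt N25283 (iv3 D86078)) (tt N82356 D180163) (tt N64939 (iv5 F254959)) (tt N25340 F132034) (tt N64939 (iv7 F254960)))
theorem Q48263 : ∀ i, i < 48263 → P i := stepQ 48262 Q48262 (allL N48262 (tt N64281 F195567) (tt N25285 (iv0 D86082)) (tt N40366 (iv2 F341335)) (tt N82357 D180166) (tt N34768 F132040) (tt N33223 (iv5 F341337)) (tt N25324 (iv6 F132042)) (tt N65406 (iv7 F201554)))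
theorem Q48264 : ∀ i, i < 48264 → P i := stepQ 48263 Q48263 (allL N48263 (tt N25285 (iv1 D86083)) (tt N64281 (iv0 F195566)) (tt N65406 F201552) (tt N59526 (iv3 F323823)) (tt N34727 F299223) (tt N39906 (iv5 F341371)) (tt N34991 (iv6 F299743)) (tt N40366 F341359))
theorem Q48265 : ∀ i, i < 48265 → P i := stepQ 48264 Q48264 (allL N48264 (tt N82358 D180168) (tt N80982 (iv0 F358727)) (tt N82359 D180170) (tt N25285 (iv3 D86084)) (tt N25286 F132045) (tt N82360 D180171) (tt N64940 (iv6 F302545)) (tt N65407 (iv7 F201556)))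
theorem Q48266 : ∀ i, i < 48266 → P i := stepQ 48265 Q48265 (allL N48265 (tt N62356 (iv1 F344455)) (tt N72300 (iv0 F344451)) (tt N62567 (iv2 F341366)) (tt N82360 (iv3 F280525)) (tt N56797 (iv4 F344460)) (tt N25285 (iv5 D86085)) (tt N56795 (iv6 F362633)) (tt N65408 (iv7 F201557)))
theorem Q48267 : ∀ i, i < 48267 → P i := stepQ 48266 Q48266 (allL N48266 (tt N28006 F324244) (tt N25286 (iv0 D86086)) (tt N48404 (iv2 F328388)) (tt N74253 F328001) (tt N82361 D180178) (tt N67954 (iv5 F333767)) (tt N25331 (iv6 F328391)) (tt N47137 F328787))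
theorem Q48268 : ∀ i, i < 48268 → P i := stepQ 48267 Q48267 (allL N48267 (tt N25286 (iv1 D86087)) (tt N28006 F324243) (tt N47137 F328785) (tt N82362 D180182) (tt N82363 D180183) (tt N67955 (iv5 F344931)) (tt N46919 (iv6 F329143)) (tt N48404 F328757))
theorem Q48269 : ∀ i, i < 48269 → P i := stepQ 48268 Q48268 (allL N48268 (tt N48404 F328763) (tt N47137 F324242) (tt N25286 (iv2 D86088)) (tt N28011 (iv3 F321830)) (tt N82359 (iv4 F280524)) (tt N28007 F321788) (tt N81994 (iv6 F277731)) (tt N28006 (iv7 F322768)))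
theorem Q48270 : ∀ i, i < 48270 → P i := stepQ 48269 Q48269 (allL N48269 (tt N28005 (iv1 F320007)) (tt N28004 (iv0 F320008)) (tt N28007 (iv2 F320009)) (tt N25287 F132046) (tt N63926 (iv4 F320010)) (tt N25286 (iv5 D86089)) (tt N45428 (iv6 F318106)) (tt N28003 (iv7 F320011)))
theorem Q48271 : ∀ i, i < 48271 → P i := stepQ 48270 Q48270 (allL N48270 (tt N45913 (iv1 F332114)) (tt N25288 (iv0 D86091)) (tt N45915 (iv2 F332117)) (tt N44747 (iv3 F332118)) (tt N60376 (iv4 F332119)) (tt N47593 (iv5 F332120)) (tt N45903 (iv6 F332121)) (tt N45904 (iv7 F332122)))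
theorem Q48272 : ∀ i, i < 48272 → P i := stepQ 48271 Q48271 (allL N48271 (tt N45915 (iv1 F330702)) (tt N45904 F330689) (tt N25288 (iv2 D86093)) (tt N34142 (iv3 F322776)) (tt N58761 (iv4 F326914)) (tt N34138 F322450) (tt N58759 (iv6 F326657)) (tt N45913 (iv7 F332116)))
theorem Q48273 : ∀ i, i < 48273 → P i := stepQ 48272 Q48272 (allL N48272 (tt N28012 (iv1 F320688)) (tt N46852 (iv0 F320689)) (tt N34138 (iv2 F320690)) (tt N25289 F132048) (tt N75603 (iv4 F324847)) (tt N25288 (iv5 D86095)) (tt N27983 (iv6 F320692)) (tt N46851 F318546))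
theorem Q48274 : ∀ i, i < 48274 → P i := stepQ 48273 Q48273 (allL N48273 (tt N25292 (iv1 F132053)) (tt N25289 (iv0 D86097)) (tt N45582 F317629) (tt N82364 D180218) (tt N43155 F317630) (tt N35501 F132050) (tt N70556 (iv6 F319830)) (tt N45583 F317631))
theorem Q48275 : ∀ i, i < 48275 → P i := stepQ 48274 Q48274 (allL N48274 (tt N25291 (iv1 D86101)) (tt N34142 F324253) (tt N65409 (iv2 F330723)) (tt N82365 D180231) (tt N81802 (iv4 F333811)) (tt N48014 (iv5 F325406)) (tt N78745 (iv6 F330764)) (tt N34669 F329147))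
theorem Q48276 : ∀ i, i < 48276 → P i := stepQ 48275 Q48275 (allL N48275 (tt N34669 (iv1 F330728)) (tt N65409 F201601) (tt N25291 (iv2 D86102)) (tt N45913 F332123) (tt N80109 (iv4 F304979)) (tt N34143 F321836) (tt N80109 (iv6 F261631)) (tt N34142 (iv7 F322777)))
theorem Q48277 : ∀ i, i < 48277 → P i := stepQ 48276 Q48276 (allL N48276 (tt N34141 (iv1 F320087)) (tt N34140 (iv0 F320088)) (tt N34143 (iv2 F320089)) (tt N25292 F132060) (tt N34043 (iv4 F320090)) (tt N25291 (iv5 D86104)) (tt N34109 (iv6 F319964)) (tt N34110 (iv7 F320091)))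
theorem Q48278 : ∀ i, i < 48278 → P i := stepQ 48277 Q48277 (allL N48277 (tt N45574 (iv1 F319962)) (tt N45573 F317764) (tt N45576 F317765) (tt N34109 (iv3 F319963)) (tt N38379 F317766) (tt N80111 (iv5 F261633)) (tt N25292 (iv6 D86105)) (tt N34102 (iv7 F319971)))
theorem Q48279 : ∀ i, i < 48279 → P i := stepQ 48278 Q48278 (allL N48278 (tt N82365 (iv1 F347500)) (tt N82366 D180253) (tt N44743 (iv2 F324621)) (tt N25293 (iv3 D86107)) (tt N82367 D180255) (tt N44739 (iv5 F324622)) (tt N82368 D180257) (tt N82338 (iv7 F324624)))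
theorem Q48280 : ∀ i, i < 48280 → P i := stepQ 48279 Q48279 (allL N48279 (tt N82369 D180259) (tt N82370 D180260) (tt N46829 (iv2 F324616)) (tt N52206 (iv3 F348575)) (tt N25293 (iv4 D86108)) (tt N52205 (iv5 F348569)) (tt N82371 D180263) (tt N82339 (iv7 F324626)))
theorem Q48281 : ∀ i, i < 48281 → P i := stepQ 48280 Q48280 (allL N48280 (tt N82372 D180270) (tt N79376 (iv0 F345373)) (tt N43955 (iv2 F324618)) (tt N82368 (iv3 F280581)) (tt N82371 (iv4 F280585)) (tt N34278 (iv5 F324181)) (tt N25293 (iv6 D86110)) (tt N48038 (iv7 F324623)))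
theorem Q48282 : ∀ i, i < 48282 → P i := stepQ 48281 Q48281 (allL N48281 (tt N82370 (iv1 F280584)) (tt N82369 F280588) (tt N82339 (iv2 F324625)) (tt N82373 D180281) (tt N25294 (iv4 D86113)) (tt N82374 D180282) (tt N81998 (iv6 F335990)) (tt N46829 (iv7 F324617)))
theorem Q48283 : ∀ i, i < 48283 → P i := stepQ 48282 Q48282 (allL N48282 (tt N47031 (iv1 F330231)) (tt N70066 (iv0 F330232)) (tt N25296 F132063) (tt N65417 (iv3 F201629)) (tt N82375 D180290) (tt N25295 (iv5 D86116)) (tt N47076 F319517) (tt N70081 (iv7 F330239)))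
theorem Q48284 : ∀ i, i < 48284 → P i := stepQ 48283 Q48283 (allL N48283 (tt N70081 (iv1 F330236)) (tt N25296 (iv0 D86117)) (tt N47031 (iv2 F330240)) (tt N47581 (iv3 F330241)) (tt N70066 (iv4 F334685)) (tt N80042 (iv5 F330242)) (tt N47029 (iv6 F330243)) (tt N70066 (iv7 F330244)))
theorem Q48285 : ∀ i, i < 48285 → P i := stepQ 48284 Q48284 (allL N48284 (tt N81334 (iv1 F335281)) (tt N47407 (iv0 F335280)) (tt N82375 (iv2 F280600)) (tt N68407 (iv3 F317226)) (tt N25296 (iv4 D86119)) (tt N82376 D180303) (tt N47082 F319518) (tt N75612 F232127))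
theorem Q48286 : ∀ i, i < 48286 → P i := stepQ 48285 Q48285 (allL N48285 (tt N46541 F132068) (tt N46543 F132069) (tt N44625 F132065) (tt N37759 F327654) (tt N25600 F132067) (tt N25298 (iv5 D86125)) (tt N49037 (iv6 F295054)) (tt N37757 (iv7 F328126)))
theorem Q48287 : ∀ i, i < 48287 → P i := stepQ 48286 Q48286 (allL N48286 (tt N70724 F330391) (tt N70723 F330392) (tt N44626 F132070) (tt N58848 (iv3 F327077)) (tt N25299 F132071) (tt N39078 (iv5 F330395)) (tt N25298 (iv6 D86126)) (tt N70722 F330393))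
theorem Q48288 : ∀ i, i < 48288 → P i := stepQ 48287 Q48287 (allL N48287 (tt N82377 D180328) (tt N82378 D180329) (tt N60715 (iv2 F327406)) (tt N25301 (iv3 D86128)) (tt N70727 (iv4 F330373)) (tt N82379 D180331) (tt N70727 (iv6 F330374)) (tt N44624 F132074))
theorem Q48289 : ∀ i, i < 48289 → P i := stepQ 48288 Q48288 (allL N48288 (tt N46543 F132078) (tt N46541 F132079) (tt N37757 F328523) (tt N82379 (iv3 F280630)) (tt N25598 F132076) (tt N25301 (iv5 D86129)) (tt N37755 (iv6 F328938)) (tt N44625 F132077))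
theorem Q48290 : ∀ i, i < 48290 → P i := stepQ 48289 Q48289 (allL N48289 (tt N55693 (iv1 F358999)) (tt N82380 D180337) (tt N82381 D180338) (tt N25302 (iv3 D86131)) (tt N44700 F132082) (tt N48803 F295378) (tt N82382 D180340) (tt N48632 (iv7 F133658)))
theorem Q48291 : ∀ i, i < 48291 → P i := stepQ 48290 Q48290 (allL N48290 (tt N45839 (iv1 F297402)) (tt N45838 (iv0 F297412)) (tt N45841 F296836) (tt N82382 (iv3 F280645)) (tt N45821 F296837) (tt N70800 (iv5 F330404)) (tt N25302 (iv6 D86133)) (tt N45819 F296838))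
theorem Q48292 : ∀ i, i < 48292 → P i := stepQ 48291 Q48291 (allL N48291 (tt N82383 D180343) (tt N82384 D180344) (tt N69287 (iv2 F358992)) (tt N25303 (iv3 D86134)) (tt N34616 F132090) (tt N69260 (iv5 F338319)) (tt N26744 (iv6 F296235)) (tt N46162 F132091))
theorem Q48293 : ∀ i, i < 48293 → P i := stepQ 48292 Q48292 (allL N48292 (tt N35528 F132095) (tt N29470 F132096) (tt N44634 F132092) (tt N69260 (iv3 F338318)) (tt N25596 F132093) (tt N25303 (iv5 D86135)) (tt N69254 (iv6 F337800)) (tt N44635 F132094))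
theorem Q48294 : ∀ i, i < 48294 → P i := stepQ 48293 Q48293 (allL N48293 (tt N55593 (iv1 F160844)) (tt N25304 (iv0 D86137)) (tt N55592 (iv2 F258238)) (tt N82385 D180350) (tt N64258 F258237) (tt N82386 D180351) (tt N80717 (iv6 F345751)) (tt N55591 (iv7 F258239)))
theorem Q48295 : ∀ i, i < 48295 → P i := stepQ 48294 Q48294 (allL N48294 (tt N25304 (iv1 D86138)) (tt N55593 F160845) (tt N55591 F258240) (tt N55628 (iv3 F334354)) (tt N58815 (iv4 F325692)) (tt N56527 (iv5 F334358)) (tt N82387 D180355) (tt N55592 (iv7 F258234)))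
theorem Q48296 : ∀ i, i < 48296 → P i := stepQ 48295 Q48295 (allL N48295 (tt N55592 F160841) (tt N55591 F160839) (tt N25304 (iv2 D86139)) (tt N80418 (iv3 F267333)) (tt N25308 F132098) (tt N67278 (iv5 F345226)) (tt N65129 (iv6 F199308)) (tt N55593 (iv7 F160843)))
theorem Q48297 : ∀ i, i < 48297 → P i := stepQ 48296 Q48296 (allL N48296 (tt N67273 (iv1 F332751)) (tt N67279 (iv0 F332754)) (tt N67278 (iv2 F345225)) (tt N25305 F132099) (tt N53045 (iv4 F345229)) (tt N25304 (iv5 D86140)) (tt N82388 D180358) (tt N53042 (iv7 F332750)))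
theorem Q48298 : ∀ i, i < 48298 → P i := stepQ 48297 Q48297 (allL N48297 (tt N82389 D180359) (tt N82390 D180360) (tt N51599 F295051) (tt N82388 (iv3 F280676)) (tt N48806 F295052) (tt N65135 (iv5 F199312)) (tt N25305 (iv6 D86141)) (tt N82391 D180361))
theorem Q48299 : ∀ i, i < 48299 → P i := stepQ 48298 Q48298 (allL N48298 (tt N45807 F256632) (tt N59533 (iv0 F327517)) (tt N46169 F261313) (tt N25306 (iv3 D86143)) (tt N45923 F132101) (tt N31290 F327255) (tt N37602 F330857) (tt N46173 F261314))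
theorem Q48300 : ∀ i, i < 48300 → P i := stepQ 48299 Q48299 (allL N48299 (tt N82392 D180363) (tt N82393 D180364) (tt N65422 F261364) (tt N82394 D180365) (tt N25306 (iv4 D86144)) (tt N82395 D180366) (tt N67274 (iv6 F333041)) (tt N65420 (iv7 F261363)))
theorem Q48301 : ∀ i, i < 48301 → P i := stepQ 48300 Q48300 (allL N48300 (tt N47272 (iv1 F330861)) (tt N45858 (iv0 F330862)) (tt N47434 (iv2 F330863)) (tt N37602 F330856) (tt N67274 (iv4 F333039)) (tt N44767 (iv5 F330866)) (tt N25306 (iv6 D86146)) (tt N47435 (iv7 F330867)))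
theorem Q48302 : ∀ i, i < 48302 → P i := stepQ 48301 Q48301 (allL N48301 (tt N79806 (iv1 F258423)) (tt N45846 F257967) (tt N82396 D180372) (tt N25307 (iv3 D86148)) (tt N82397 D180373) (tt N44673 F256339) (tt N82398 D180374) (tt N65421 F261300))
theorem Q48303 : ∀ i, i < 48303 → P i := stepQ 48302 Q48302 (allL N48302 (tt N82393 (iv1 F280684)) (tt N82392 F280681) (tt N65420 (iv2 F261367)) (tt N82399 D180375) (tt N25307 (iv4 D86149)) (tt N82400 D180376) (tt N82401 D180377) (tt N65422 F261366))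
theorem Q48304 : ∀ i, i < 48304 → P i := stepQ 48303 Q48303 (allL N48303 (tt N38029 F334631) (tt N79835 (iv0 F334632)) (tt N46345 F330789) (tt N82398 (iv3 F280702)) (tt N82401 (iv4 F280704)) (tt N69399 (iv5 F334650)) (tt N25307 (iv6 D86151)) (tt N69406 (iv7 F334672)))
theorem Q48305 : ∀ i, i < 48305 → P i := stepQ 48304 Q48304 (allL N48304 (tt N82402 D180382) (tt N82403 D180383) (tt N82404 D180384) (tt N25309 (iv3 D86152)) (tt N79247 (iv4 F253701)) (tt N82405 D180385) (tt N82406 D180386) (tt N44658 F132103))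
theorem Q48306 : ∀ i, i < 48306 → P i := stepQ 48305 Q48305 (allL N48305 (tt N46709 F132106) (tt N46712 F132107) (tt N44654 F132104) (tt N82405 (iv3 F280714)) (tt N48308 (iv4 F132113)) (tt N25309 (iv5 D86153)) (tt N82407 D180387) (tt N44659 F132105))
theorem Q48307 : ∀ i, i < 48307 → P i := stepQ 48306 Q48306 (allL N48306 (tt N64158 (iv1 F300517)) (tt N64157 (iv0 F301037)) (tt N44655 F132108) (tt N82406 (iv3 F280716)) (tt N25310 F132109) (tt N82408 D180389) (tt N25309 (iv6 D86154)) (tt N64150 (iv7 F300426)))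
theorem Q48308 : ∀ i, i < 48308 → P i := stepQ 48307 Q48307 (allL N48307 (tt N82409 D180390) (tt N82410 D180391) (tt N59453 (iv2 F327451)) (tt N25311 (iv3 D86155)) (tt N64954 (iv4 F198717)) (tt N82411 D180393) (tt N64954 (iv6 F297087)) (tt N44660 F132110))
theorem Q48309 : ∀ i, i < 48309 → P i := stepQ 48308 Q48308 (allL N48308 (tt N46706 F132114) (tt N25369 F132115) (tt N44663 F132111) (tt N82411 (iv3 F280730)) (tt N48305 F132113) (tt N25311 (iv5 D86156)) (tt N82412 D180395) (tt N44661 F132112))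
theorem Q48310 : ∀ i, i < 48310 → P i := stepQ 48309 Q48309 (allL N48309 (tt N25369 F132123) (tt N46706 F132124) (tt N44661 F132120) (tt N58285 (iv3 F326774)) (tt N45949 F301274) (tt N25312 (iv5 D86159)) (tt N72877 (iv6 F359228)) (tt N44663 F132122))
theorem Q48311 : ∀ i, i < 48311 → P i := stepQ 48310 Q48310 (allL N48310 (tt N64162 (iv1 F299581)) (tt N64160 F299552) (tt N44662 F132125) (tt N59454 (iv3 F326776)) (tt N34729 F132126) (tt N82413 D180403) (tt N25312 (iv6 D86160)) (tt N45629 F299553))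
theorem Q48312 : ∀ i, i < 48312 → P i := stepQ 48311 Q48311 (allL N48311 (tt N44666 (iv1 F132127)) (tt N25313 (iv0 D86161)) (tt N44665 F258229) (tt N82414 D180404) (tt N79776 F258230) (tt N82415 D180405) (tt N64961 (iv6 F330797)) (tt N44664 F258231))
theorem Q48313 : ∀ i, i < 48313 → P i := stepQ 48312 Q48312 (allL N48312 (tt N44665 (iv1 F132131)) (tt N44664 F132130) (tt N25313 (iv2 D86162)) (tt N80560 (iv3 F268409)) (tt N25320 F132128) (tt N82416 D180407) (tt N82417 D180408) (tt N44666 F132129))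
theorem Q48314 : ∀ i, i < 48314 → P i := stepQ 48313 Q48313 (allL N48313 (tt N82418 D180409) (tt N82419 D180410) (tt N82416 (iv2 F280778)) (tt N25314 F132132) (tt N82420 D180411) (tt N25313 (iv5 D86163)) (tt N82421 D180412) (tt N44667 F132133))
theorem Q48315 : ∀ i, i < 48315 → P i := stepQ 48314 Q48314 (allL N48314 (tt N82422 D180413) (tt N82423 D180414) (tt N82417 (iv2 F280782)) (tt N25315 F132134) (tt N25321 F132135) (tt N59630 (iv5 F326447)) (tt N25313 (iv6 D86164)) (tt N73090 (iv7 F324533)))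
theorem Q48316 : ∀ i, i < 48316 → P i := stepQ 48315 Q48315 (allL N48315 (tt N82424 D180418) (tt N73513 (iv0 F367938)) (tt N59658 (iv2 F345268)) (tt N82421 (iv3 F280793)) (tt N78432 (iv4 F248779)) (tt N59396 (iv5 F345423)) (tt N25314 (iv6 D86166)) (tt N59654 (iv7 F345272)))
theorem Q48317 : ∀ i, i < 48317 → P i := stepQ 48316 Q48316 (allL N48316 (tt N31208 (iv1 F325711)) (tt N31218 (iv0 F325552)) (tt N59829 F324583) (tt N31679 (iv3 F325712)) (tt N25316 (iv4 D86171)) (tt N59518 (iv5 F341347)) (tt N64579 (iv6 F302633)) (tt N64610 (iv7 F297663)))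
theorem Q48318 : ∀ i, i < 48318 → P i := stepQ 48317 Q48317 (allL N48317 (tt N31218 F325625) (tt N31208 (iv0 F325710)) (tt N64610 (iv2 F297662)) (tt N82425 D180431) (tt N25317 (iv4 D86173)) (tt N59517 (iv5 F341344)) (tt N64444 (iv6 F301025)) (tt N59829 F325626))
theorem Q48319 : ∀ i, i < 48319 → P i := stepQ 48318 Q48318 (allL N48318 (tt N45849 (iv1 F256616)) (tt N57862 (iv0 F326779)) (tt N31287 (iv2 F326504)) (tt N25318 (iv3 D86175)) (tt N31254 F325962) (tt N46173 F194350) (tt N59974 (iv6 F326785)) (tt N31290 (iv7 F326505)))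
theorem Q48320 : ∀ i, i < 48320 → P i := stepQ 48319 Q48319 (allL N48319 (tt N82426 D180436) (tt N82427 D180437) (tt N44674 F261308) (tt N31654 F327418) (tt N25318 (iv4 D86176)) (tt N82428 D180439) (tt N58024 (iv6 F327949)) (tt N44671 F261309))
theorem Q48321 : ∀ i, i < 48321 → P i := stepQ 48320 Q48320 (allL N48320 (tt N67940 F330894) (tt N45813 (iv0 F330895)) (tt N44675 F261310) (tt N59974 (iv3 F326784)) (tt N58024 (iv4 F327948)) (tt N37355 F330889) (tt N25318 (iv6 D86178)) (tt N60015 (iv7 F336093)))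
theorem Q48322 : ∀ i, i < 48322 → P i := stepQ 48321 Q48321 (allL N48321 (tt N79848 (iv1 F258619)) (tt N45804 F258469) (tt N82429 D180445) (tt N25319 (iv3 D86180)) (tt N82430 D180446) (tt N65421 (iv5 F201643)) (tt N76562 (iv6 F330880)) (tt N44673 F261315))
theorem Q48323 : ∀ i, i < 48323 → P i := stepQ 48322 Q48322 (allL N48322 (tt N82427 (iv1 F280818)) (tt N82426 F280815) (tt N44671 F261316) (tt N82431 D180448) (tt N25319 (iv4 D86181)) (tt N82432 D180449) (tt N56874 (iv6 F342031)) (tt N44674 F261317))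
theorem Q48324 : ∀ i, i < 48324 → P i := stepQ 48323 Q48323 (allL N48323 (tt N45857 (iv1 F330876)) (tt N47293 (iv0 F330877)) (tt N44672 F261318) (tt N76562 (iv3 F330879)) (tt N56874 (iv4 F342030)) (tt N47430 F330870) (tt N25319 (iv6 D86183)) (tt N47291 (iv7 F330882)))
theorem Q48325 : ∀ i, i < 48325 → P i := stepQ 48324 Q48324 (allL N48324 (tt N60075 (iv1 F324546)) (tt N31266 (iv0 F324543)) (tt N25321 F132144) (tt N65423 (iv3 F201645)) (tt N82417 (iv4 F280783)) (tt N81820 (iv5 F277103)) (tt N25320 (iv6 D86184)) (tt N60074 (iv7 F324550)))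
theorem Q48326 : ∀ i, i < 48326 → P i := stepQ 48325 Q48325 (allL N48325 (tt N25321 (iv1 D86186)) (tt N60074 (iv0 F324547)) (tt N31266 (iv2 F324598)) (tt N60066 (iv3 F324599)) (tt N82433 D180462) (tt N81492 (iv5 F344937)) (tt N52826 (iv6 F336015)) (tt N60075 (iv7 F324597)))
theorem Q48327 : ∀ i, i < 48327 → P i := stepQ 48326 Q48326 (allL N48326 (tt N82014 (iv1 F333972)) (tt N45809 (iv0 F351992)) (tt N82434 D180467) (tt N25322 (iv3 D86187)) (tt N59810 (iv4 F324595)) (tt N44094 (iv5 F318576)) (tt N34636 F132145) (tt N46347 F132146))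
theorem Q48328 : ∀ i, i < 48328 → P i := stepQ 48327 Q48327 (allL N48327 (tt N45848 F329023) (tt N58054 (iv0 F321498)) (tt N60365 (iv2 F324601)) (tt N25323 (iv3 D86189)) (tt N82435 D180475) (tt N82436 D180476) (tt N46145 (iv6 F302655)) (tt N45747 F132149))
theorem Q48329 : ∀ i, i < 48329 → P i := stepQ 48328 Q48328 (allL N48328 (tt N36215 F321560) (tt N44095 (iv0 F316314)) (tt N44096 (iv2 F316257)) (tt N82436 (iv3 F280899)) (tt N34380 (iv4 F316315)) (tt N25323 (iv5 D86190)) (tt N44083 F313864) (tt N34377 (iv7 F316317)))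
theorem Q48330 : ∀ i, i < 48330 → P i := stepQ 48329 Q48329 (allL N48329 (tt N82437 D180480) (tt N82438 D180481) (tt N82439 D180482) (tt N25324 (iv3 D86192)) (tt N63872 (iv4 F191498)) (tt N73509 (iv5 F341314)) (tt N82357 (iv6 F280521)) (tt N48395 (iv7 F132334)))
theorem Q48331 : ∀ i, i < 48331 → P i := stepQ 48330 Q48330 (allL N48330 (tt N48398 (iv1 F132344)) (tt N25325 (iv0 D86193)) (tt N48397 (iv2 F254398)) (tt N82440 D180483) (tt N65440 (iv4 F201726)) (tt N82418 (iv5 F280784)) (tt N82358 (iv6 F358733)) (tt N48396 (iv7 F254362)))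
theorem Q48332 : ∀ i, i < 48332 → P i := stepQ 48331 Q48331 (allL N48331 (tt N25325 (iv1 D86194)) (tt N48398 F132345) (tt N48396 F254399) (tt N82441 D180485) (tt N34664 (iv4 F132152)) (tt N82419 (iv5 F280790)) (tt N80776 (iv6 F330714)) (tt N48397 F254397))
theorem Q48333 : ∀ i, i < 48333 → P i := stepQ 48332 Q48332 (allL N48332 (tt N48397 F132341) (tt N48396 F132339) (tt N25325 (iv2 D86195)) (tt N80563 (iv3 F268435)) (tt N25333 F132153) (tt N53812 (iv5 F345212)) (tt N82442 D180488) (tt N48398 (iv7 F132343)))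
theorem Q48334 : ∀ i, i < 48334 → P i := stepQ 48333 Q48333 (allL N48333 (tt N78456 F258236) (tt N78459 F256341) (tt N53812 (iv2 F345211)) (tt N25326 F132154) (tt N52161 (iv4 F345214)) (tt N25325 (iv5 D86196)) (tt N52165 (iv6 F345208)) (tt N48399 (iv7 F132347)))
theorem Q48335 : ∀ i, i < 48335 → P i := stepQ 48334 Q48334 (allL N48334 (tt N82443 D180491) (tt N82444 D180492) (tt N82442 (iv2 F280914)) (tt N25327 F132155) (tt N25334 F132156) (tt N82445 D180493) (tt N25325 (iv6 D86197)) (tt N30980 F321449))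
theorem Q48336 : ∀ i, i < 48336 → P i := stepQ 48335 Q48335 (allL N48335 (tt N44663 F132160) (tt N44661 F132161) (tt N25369 F132157) (tt N55318 (iv3 F332728)) (tt N25326 (iv4 D86198)) (tt N25366 F132159) (tt N55317 (iv6 F345204)) (tt N46706 F132158))
theorem Q48337 : ∀ i, i < 48337 → P i := stepQ 48336 Q48336 (allL N48336 (tt N61325 (iv1 F349735)) (tt N40391 (iv0 F351111)) (tt N61324 (iv2 F351120)) (tt N52165 (iv3 F345207)) (tt N55317 (iv4 F345203)) (tt N82446 D180499) (tt N25326 (iv6 D86199)) (tt N53807 (iv7 F345221)))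
theorem Q48338 : ∀ i, i < 48338 → P i := stepQ 48337 Q48337 (allL N48337 (tt N82447 D180507) (tt N57987 (iv0 F325593)) (tt N30984 (iv2 F325591)) (tt N82445 (iv3 F280917)) (tt N82448 D180509) (tt N25327 (iv5 D86202)) (tt N82446 (iv6 F280925)) (tt N30981 F324497))
theorem Q48339 : ∀ i, i < 48339 → P i := stepQ 48338 Q48338 (allL N48338 (tt N64163 (iv1 F301319)) (tt N64161 (iv0 F297668)) (tt N64939 (iv2 F299646)) (tt N31181 (iv3 F325266)) (tt N58685 (iv4 F325620)) (tt N59932 (iv5 F323981)) (tt N25329 (iv6 D86213)) (tt N59932 (iv7 F323982)))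
theorem Q48340 : ∀ i, i < 48340 → P i := stepQ 48339 Q48339 (allL N48339 (tt N79235 F253663) (tt N80579 F268479) (tt N48403 F256584) (tt N57910 (iv3 F327422)) (tt N25331 (iv4 D86215)) (tt N82449 D180526) (tt N82361 (iv6 F328390)) (tt N48401 F256582))
theorem Q48341 : ∀ i, i < 48341 → P i := stepQ 48340 Q48340 (allL N48340 (tt N78666 (iv1 F250188)) (tt N46330 F254228) (tt N79341 (iv2 F256536)) (tt N25332 (iv3 D86219)) (tt N48365 (iv4 F132250)) (tt N44640 (iv5 F248720)) (tt N47127 F328759) (tt N48402 (iv7 F256539)))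
theorem Q48342 : ∀ i, i < 48342 → P i := stepQ 48341 Q48341 (allL N48341 (tt N80579 F268480) (tt N79235 (iv0 F253661)) (tt N48401 (iv2 F256583)) (tt N80565 (iv3 F268457)) (tt N25332 (iv4 D86220)) (tt N82450 D180533) (tt N47130 F328760) (tt N48403 (iv7 F256585)))
theorem Q48343 : ∀ i, i < 48343 → P i := stepQ 48342 Q48342 (allL N48342 (tt N57497 F321440) (tt N31317 F321441) (tt N25334 F132172) (tt N60425 F321442) (tt N82442 (iv4 F280915)) (tt N80331 (iv5 F352174)) (tt N25333 (iv6 D86223)) (tt N57496 F321443))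
theorem Q48344 : ∀ i, i < 48344 → P i := stepQ 48343 Q48343 (allL N48343 (tt N25334 (iv1 D86225)) (tt N57496 F321444) (tt N31317 (iv2 F323076)) (tt N42122 (iv3 F323077)) (tt N58144 (iv4 F323078)) (tt N75787 (iv5 F323079)) (tt N47287 (iv6 F334610)) (tt N57497 (iv7 F323080)))
theorem Q48345 : ∀ i, i < 48345 → P i := stepQ 48344 Q48344 (allL N48344 (tt N46760 F325855) (tt N42115 (iv0 F319462)) (tt N80331 (iv2 F352172)) (tt N25335 F132173) (tt N75338 (iv4 F350712)) (tt N25334 (iv5 D86226)) (tt N35328 F132174) (tt N80329 (iv7 F352163)))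
theorem Q48346 : ∀ i, i < 48346 → P i := stepQ 48345 Q48345 (allL N48345 (tt N31317 (iv1 F319455)) (tt N57497 (iv0 F319456)) (tt N57496 (iv2 F319457)) (tt N25336 F132175) (tt N30980 (iv4 F319460)) (tt N80329 (iv5 F352162)) (tt N35285 F132176) (tt N25334 (iv7 D86227)))
theorem Q48347 : ∀ i, i < 48347 → P i := stepQ 48346 Q48346 (allL N48346 (tt N42037 (iv1 F314973)) (tt N42108 (iv0 F314974)) (tt N42107 F312508) (tt N80329 (iv3 F352161)) (tt N33500 F313264) (tt N25336 F132184) (tt N82451 D180564) (tt N25335 (iv7 D86230)))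
theorem Q48348 : ∀ i, i < 48348 → P i := stepQ 48347 Q48347 (allL N48347 (tt N78757 F345366) (tt N25355 F345367) (tt N78756 (iv2 F330665)) (tt N25337 (iv3 D86237)) (tt N59931 (iv4 F324000)) (tt N33420 (iv5 F322657)) (tt N58675 (iv6 F323127)) (tt N45931 F132192))
theorem Q48349 : ∀ i, i < 48349 → P i := stepQ 48348 Q48348 (allL N48348 (tt N31221 (iv1 F323983)) (tt N31223 (iv0 F323984)) (tt N31966 (iv2 F323977)) (tt N31719 (iv3 F323985)) (tt N25340 (iv4 D86244)) (tt N82452 D180574) (tt N82356 (iv6 F280518)) (tt N31967 (iv7 F323091)))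
theorem Q48350 : ∀ i, i < 48350 → P i := stepQ 48349 Q48349 (allL N48349 (tt N45399 F336504) (tt N65447 F336505) (tt N65445 (iv2 F339252)) (tt N25341 (iv3 D86246)) (tt N31719 (iv4 F323986)) (tt N82453 D180579) (tt N44873 F324630) (tt N45930 F132203))
theorem Q48351 : ∀ i, i < 48351 → P i := stepQ 48350 Q48350 (allL N48350 (tt N58885 (iv1 F323148)) (tt N32011 (iv0 F323152)) (tt N45932 F132204) (tt N82453 (iv3 F281069)) (tt N48245 F313883) (tt N25341 (iv5 D86247)) (tt N45577 F322475) (tt N44897 (iv7 F316323)))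
theorem Q48352 : ∀ i, i < 48352 → P i := stepQ 48351 Q48351 (allL N48351 (tt N34622 (iv1 F132210)) (tt N34621 F132211) (tt N25344 F132208) (tt N35770 F325139) (tt N25343 (iv4 D86258)) (tt N67886 (iv5 F345866)) (tt N35768 F325140) (tt N34623 F132209))
theorem Q48353 : ∀ i, i < 48353 → P i := stepQ 48352 Q48352 (allL N48352 (tt N34623 (iv1 F132214)) (tt N25344 (iv0 D86260)) (tt N34622 F256568) (tt N82454 D180588) (tt N79434 (iv4 F256612)) (tt N69127 (iv5 F348898)) (tt N80107 (iv6 F330775)) (tt N34621 F256569))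
theorem Q48354 : ∀ i, i < 48354 → P i := stepQ 48353 Q48353 (allL N48353 (tt N25344 (iv1 D86261)) (tt N34623 F132215) (tt N34621 F256566) (tt N82455 D180590) (tt N44637 (iv4 F132216)) (tt N69167 (iv5 F324967)) (tt N34643 F333779) (tt N34622 F256567))
theorem Q48355 : ∀ i, i < 48355 → P i := stepQ 48354 Q48354 (allL N48354 (tt N60378 (iv1 F324589)) (tt N60377 (iv0 F324590)) (tt N35768 (iv2 F324587)) (tt N31958 F323161) (tt N25345 F132220) (tt N66477 (iv5 F320642)) (tt N25344 (iv6 D86263)) (tt N58674 F323162))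
theorem Q48356 : ∀ i, i < 48356 → P i := stepQ 48355 Q48355 (allL N48355 (tt N35746 F323158) (tt N25345 (iv0 D86264)) (tt N66042 (iv2 F352270)) (tt N82456 D180599) (tt N82457 D180600) (tt N82458 D180601) (tt N60378 (iv6 F361324)) (tt N66043 (iv7 F352275)))
theorem Q48357 : ∀ i, i < 48357 → P i := stepQ 48356 Q48356 (allL N48356 (tt N25345 (iv1 D86265)) (tt N35746 F323159) (tt N66043 (iv2 F352274)) (tt N60556 (iv3 F324586)) (tt N68535 (iv4 F348466)) (tt N82459 D180606) (tt N37579 (iv6 F348467)) (tt N66042 (iv7 F352271)))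
theorem Q48358 : ∀ i, i < 48358 → P i := stepQ 48357 Q48357 (allL N48357 (tt N79263 (iv1 F348464)) (tt N82460 D180609) (tt N59854 (iv2 F324024)) (tt N25346 F132221) (tt N82461 D180610) (tt N25345 (iv5 D86266)) (tt N34748 F132222) (tt N82462 D180611))
theorem Q48359 : ∀ i, i < 48359 → P i := stepQ 48358 Q48358 (allL N48358 (tt N66043 (iv1 F321900)) (tt N66042 (iv0 F321901)) (tt N35746 (iv2 F321902)) (tt N25347 F132223) (tt N58674 (iv4 F321903)) (tt N82462 (iv5 F281116)) (tt N34645 F132224) (tt N25345 (iv7 D86267)))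
theorem Q48360 : ∀ i, i < 48360 → P i := stepQ 48359 Q48359 (allL N48359 (tt N31952 F319471) (tt N25346 (iv0 D86268)) (tt N45933 F132228) (tt N33439 (iv3 F320118)) (tt N33501 F313885) (tt N31341 (iv5 F321457)) (tt N41611 (iv6 F316336)) (tt N33498 (iv7 F315665)))
theorem Q48361 : ∀ i, i < 48361 → P i := stepQ 48360 Q48360 (allL N48360 (tt N33498 (iv1 F315664)) (tt N45933 F132238) (tt N31952 (iv2 F317195)) (tt N82462 (iv3 F281115)) (tt N42398 F314979) (tt N25347 F132236) (tt N82463 D180619) (tt N25346 (iv7 D86271)))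
theorem Q48362 : ∀ i, i < 48362 → P i := stepQ 48361 Q48361 (allL N48361 (tt N25348 (iv1 D86279)) (tt N78751 F254294) (tt N34667 F254355) (tt N65440 (iv3 F201727)) (tt N60562 (iv4 F328088)) (tt N79230 (iv5 F253648)) (tt N82366 (iv6 F345774)) (tt N78750 F254356))
theorem Q48363 : ∀ i, i < 48363 → P i := stepQ 48362 Q48362 (allL N48362 (tt N78750 F254289) (tt N34667 F254290) (tt N25348 (iv2 D86280)) (tt N45891 F254291) (tt N45868 F254292) (tt N82464 D180621) (tt N82465 D180622) (tt N78751 F254293))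
theorem Q48364 : ∀ i, i < 48364 → P i := stepQ 48363 Q48363 (allL N48363 (tt N34754 F254307) (tt N82466 D180623) (tt N82464 (iv2 F281146)) (tt N25350 F132247) (tt N45799 F254085) (tt N25348 (iv5 D86281)) (tt N60090 (iv6 F344697)) (tt N45950 F254308))
theorem Q48365 : ∀ i, i < 48365 → P i := stepQ 48364 Q48364 (allL N48364 (tt N82467 D180625) (tt N82468 D180626) (tt N82465 (iv2 F281153)) (tt N25351 F132248) (tt N80222 (iv4 F262198)) (tt N82469 D180627) (tt N25348 (iv6 D86282)) (tt N82470 D180628))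
theorem Q48366 : ∀ i, i < 48366 → P i := stepQ 48365 Q48365 (allL N48365 (tt N25353 (iv1 F132255)) (tt N25349 (iv0 D86284)) (tt N59921 (iv2 F326845)) (tt N82471 D180629) (tt N48340 F132250) (tt N82472 D180630) (tt N81005 (iv6 F328758)) (tt N78753 F256563))
theorem Q48367 : ∀ i, i < 48367 → P i := stepQ 48366 Q48366 (allL N48366 (tt N25349 (iv1 D86285)) (tt N25353 F132251) (tt N78753 (iv2 F256564)) (tt N59896 (iv3 F326794)) (tt N66045 (iv4 F326800)) (tt N82473 D180632) (tt N82370 (iv6 F348580)) (tt N59921 (iv7 F326847)))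
theorem Q48368 : ∀ i, i < 48368 → P i := stepQ 48367 Q48367 (allL N48367 (tt N78503 F254195) (tt N82474 D180634) (tt N82475 D180635) (tt N25349 (iv3 D86286)) (tt N80220 (iv4 F262188)) (tt N82476 D180636) (tt N82477 D180637) (tt N78754 (iv7 F254473)))
theorem Q48369 : ∀ i, i < 48369 → P i := stepQ 48368 Q48368 (allL N48368 (tt N82478 D180638) (tt N82479 D180639) (tt N78760 (iv2 F254475)) (tt N82476 (iv3 F281168)) (tt N82480 D180640) (tt N25349 (iv5 D86287)) (tt N82481 D180641) (tt N78755 (iv7 F254474)))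
theorem Q48370 : ∀ i, i < 48370 → P i := stepQ 48369 Q48369 (allL N48369 (tt N82482 D180642) (tt N82483 D180643) (tt N78761 (iv2 F254463)) (tt N82477 (iv3 F281169)) (tt N25351 F132252) (tt N82484 D180644) (tt N25349 (iv6 D86288)) (tt N82485 D180645))
theorem Q48371 : ∀ i, i < 48371 → P i := stepQ 48370 Q48370 (allL N48370 (tt N82397 (iv1 F280701)) (tt N82486 D180646) (tt N45954 (iv2 F254471)) (tt N82487 D180647) (tt N25350 (iv4 D86292)) (tt N82488 D180648) (tt N82489 D180649) (tt N45951 (iv7 F254470)))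
theorem Q48372 : ∀ i, i < 48372 → P i := stepQ 48371 Q48371 (allL N48371 (tt N66401 (iv1 F338756)) (tt N45929 F338757) (tt N45955 (iv2 F254472)) (tt N60090 (iv3 F344695)) (tt N82489 (iv4 F281187)) (tt N67736 (iv5 F338764)) (tt N25350 (iv6 D86293)) (tt N82490 D180653))
theorem Q48373 : ∀ i, i < 48373 → P i := stepQ 48372 Q48372 (allL N48372 (tt N45767 (iv1 F338768)) (tt N25351 (iv0 D86295)) (tt N34638 (iv2 F338769)) (tt N45762 (iv3 F338770)) (tt N79594 (iv4 F351055)) (tt N57316 F338767) (tt N65149 (iv6 F338771)) (tt N45768 (iv7 F338772)))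
theorem Q48374 : ∀ i, i < 48374 → P i := stepQ 48373 Q48373 (allL N48373 (tt N82491 D180664) (tt N45783 (iv0 F338766)) (tt N72133 (iv2 F336485)) (tt N82469 (iv3 F281163)) (tt N71329 (iv4 F336484)) (tt N25351 (iv5 D86297)) (tt N67736 (iv6 F338765)) (tt N74244 (iv7 F336483)))
theorem Q48375 : ∀ i, i < 48375 → P i := stepQ 48374 Q48374 (allL N48374 (tt N45768 (iv1 F336481)) (tt N34638 F336478) (tt N45767 F338774) (tt N82470 (iv3 F281164)) (tt N82485 (iv4 F281176)) (tt N74244 (iv5 F336482)) (tt N78757 (iv6 F254490)) (tt N25351 (iv7 D86298)))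
theorem Q48376 : ∀ i, i < 48376 → P i := stepQ 48375 Q48375 (allL N48375 (tt N45891 (iv1 F254408)) (tt N25352 (iv0 D86300)) (tt N45896 F254406) (tt N45906 (iv3 F254417)) (tt N65425 F201653) (tt N47108 (iv5 F330700)) (tt N44748 F330688) (tt N45892 (iv7 F254404)))
theorem Q48377 : ∀ i, i < 48377 → P i := stepQ 48376 Q48376 (allL N48376 (tt N45896 (iv1 F254371)) (tt N45892 F254407) (tt N25352 (iv2 D86302)) (tt N78751 (iv3 F254314)) (tt N82492 D180669) (tt N46333 F254313) (tt N60361 (iv6 F330676)) (tt N45891 F254316))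
theorem Q48378 : ∀ i, i < 48378 → P i := stepQ 48377 Q48377 (allL N48377 (tt N44641 (iv1 F248712)) (tt N44638 (iv0 F132261)) (tt N82492 (iv2 F281201)) (tt N82493 D180671) (tt N25352 (iv4 D86303)) (tt N82494 D180672) (tt N82495 D180673) (tt N78758 F254272))
theorem Q48379 : ∀ i, i < 48379 → P i := stepQ 48378 Q48378 (allL N48378 (tt N46334 (iv1 F258215)) (tt N45917 F258033) (tt N46333 (iv2 F254304)) (tt N25354 F132262) (tt N82426 (iv4 F280814)) (tt N25352 (iv5 D86304)) (tt N82496 D180674) (tt N45953 F254476))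
theorem Q48380 : ∀ i, i < 48380 → P i := stepQ 48379 Q48379 (allL N48379 (tt N42011 F351029) (tt N35751 (iv0 F351030)) (tt N60361 (iv2 F330675)) (tt N25355 F132263) (tt N82495 (iv4 F281208)) (tt N42087 F330672) (tt N25352 (iv6 D86305)) (tt N60360 (iv7 F330678)))
theorem Q48381 : ∀ i, i < 48381 → P i := stepQ 48380 Q48380 (allL N48380 (tt N52786 (iv1 F151335)) (tt N49303 (iv0 F135893)) (tt N52785 (iv2 F288737)) (tt N25353 (iv3 D86306)) (tt N82493 (iv4 F281207)) (tt N68385 (iv5 F332878)) (tt N68679 (iv6 F332881)) (tt N52784 F254479))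
theorem Q48382 : ∀ i, i < 48382 → P i := stepQ 48381 Q48381 (allL N48381 (tt N82479 (iv1 F281172)) (tt N82478 F281171) (tt N78755 (iv2 F254481)) (tt N68385 (iv3 F332877)) (tt N82497 D180682) (tt N25353 (iv5 D86307)) (tt N68384 (iv6 F359171)) (tt N78760 F254480))
theorem Q48383 : ∀ i, i < 48383 → P i := stepQ 48382 Q48382 (allL N48382 (tt N31125 F351023) (tt N59905 (iv0 F351024)) (tt N59903 (iv2 F330669)) (tt N68679 (iv3 F332880)) (tt N25355 F132264) (tt N68678 (iv5 F359068)) (tt N25353 (iv6 D86308)) (tt N59904 (iv7 F330680)))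
theorem Q48384 : ∀ i, i < 48384 → P i := stepQ 48383 Q48383 (allL N48383 (tt N82486 (iv1 F281177)) (tt N82397 (iv0 F280700)) (tt N45951 (iv2 F254478)) (tt N82498 D180688) (tt N25354 (iv4 D86309)) (tt N82499 D180689) (tt N82500 D180690) (tt N45954 F254477))
theorem Q48385 : ∀ i, i < 48385 → P i := stepQ 48384 Q48384 (allL N48384 (tt N34742 (iv1 F331716)) (tt N46260 (iv0 F331717)) (tt N45952 F254489) (tt N82496 (iv3 F281210)) (tt N82500 (iv4 F281223)) (tt N77574 (iv5 F337705)) (tt N25354 (iv6 D86310)) (tt N46259 (iv7 F330290)))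
theorem Q48386 : ∀ i, i < 48386 → P i := stepQ 48385 Q48385 (allL N48385 (tt N25355 (iv1 D86312)) (tt N78757 F254485) (tt N45931 (iv2 F345363)) (tt N65445 (iv3 F345364)) (tt N81627 (iv4 F349834)) (tt N33434 F345362) (tt N82372 (iv6 F345361)) (tt N78756 (iv7 F345365)))
theorem Q48387 : ∀ i, i < 48387 → P i := stepQ 48386 Q48386 (allL N48386 (tt N33439 (iv1 F330660)) (tt N33441 (iv0 F330661)) (tt N42258 F330658) (tt N42087 (iv3 F330662)) (tt N72807 (iv4 F330663)) (tt N25355 (iv5 D86313)) (tt N77574 (iv6 F337706)) (tt N42259 (iv7 F330664)))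
theorem Q48388 : ∀ i, i < 48388 → P i := stepQ 48387 Q48387 (allL N48387 (tt N45931 F330673) (tt N78756 F254488) (tt N78757 F254484) (tt N60360 (iv3 F330677)) (tt N59904 (iv4 F330679)) (tt N42259 F330674) (tt N45767 F338775) (tt N25355 (iv7 D86314)))
theorem Q48389 : ∀ i, i < 48389 → P i := stepQ 48388 Q48388 (allL N48388 (tt N37145 F308036) (tt N45409 F132298) (tt N25360 (iv2 D86322)) (tt N35061 F132295) (tt N37476 (iv4 F308223)) (tt N69679 (iv5 F305784)) (tt N47302 (iv6 F308911)) (tt N45410 F132297))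
theorem Q48390 : ∀ i, i < 48390 → P i := stepQ 48389 Q48389 (allL N48389 (tt N81195 (iv1 F336416)) (tt N81428 (iv0 F342675)) (tt N45403 F132305) (tt N44913 F309318) (tt N46430 F132306) (tt N47547 (iv5 F300824)) (tt N25361 (iv6 D86325)) (tt N78708 (iv7 F311546)))
theorem Q48391 : ∀ i, i < 48391 → P i := stepQ 48390 Q48390 (allL N48390 (tt N79440 (iv1 F256820)) (tt N25362 (iv0 D86328)) (tt N79438 (iv2 F355083)) (tt N74743 (iv3 F355088)) (tt N74746 (iv4 F355089)) (tt N82501 D180739) (tt N74742 (iv6 F355090)) (tt N79439 (iv7 F354970)))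
theorem Q48392 : ∀ i, i < 48392 → P i := stepQ 48391 Q48391 (allL N48391 (tt N25362 (iv1 D86329)) (tt N79440 F256819) (tt N79439 (iv2 F354969)) (tt N70478 (iv3 F354968)) (tt N80535 (iv4 F354967)) (tt N70476 (iv5 F354971)) (tt N82502 D180745) (tt N79438 (iv7 F355086)))
theorem Q48393 : ∀ i, i < 48393 → P i := stepQ 48392 Q48392 (allL N48392 (tt N82503 D180746) (tt N82504 D180747) (tt N68960 (iv2 F315272)) (tt N67008 (iv3 F206356)) (tt N68193 (iv4 F318981)) (tt N25362 (iv5 D86330)) (tt N25363 F132314) (tt N82505 D180749))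
theorem Q48394 : ∀ i, i < 48394 → P i := stepQ 48393 Q48393 (allL N48393 (tt N79439 (iv1 F256812)) (tt N79438 F256818) (tt N79440 (iv2 F256815)) (tt N67005 (iv3 F206348)) (tt N79436 (iv4 F256745)) (tt N82505 (iv5 F281338)) (tt N45653 F132315) (tt N25362 (iv7 D86331)))
theorem Q48395 : ∀ i, i < 48395 → P i := stepQ 48394 Q48394 (allL N48394 (tt N82506 D180777) (tt N82507 D180778) (tt N82508 D180779) (tt N25366 (iv3 D86342)) (tt N44620 F132332) (tt N55318 (iv5 F332729)) (tt N65007 (iv6 F198850)) (tt N46705 F132333))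
theorem Q48396 : ∀ i, i < 48396 → P i := stepQ 48395 Q48395 (allL N48395 (tt N57939 (iv1 F356729)) (tt N82509 D180781) (tt N58224 (iv2 F327469)) (tt N25367 (iv3 D86343)) (tt N79132 (iv4 F253099)) (tt N78463 (iv5 F248827)) (tt N64581 (iv6 F299238)) (tt N48329 F132334))
theorem Q48397 : ∀ i, i < 48397 → P i := stepQ 48396 Q48396 (allL N48396 (tt N48332 (iv1 F132339)) (tt N25368 (iv0 D86345)) (tt N48331 (iv2 F254399)) (tt N58278 (iv3 F346871)) (tt N47108 F330708) (tt N78461 (iv5 F258034)) (tt N47107 (iv6 F330715)) (tt N48330 F254362))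
theorem Q48398 : ∀ i, i < 48398 → P i := stepQ 48397 Q48397 (allL N48397 (tt N25368 (iv1 D86346)) (tt N48332 (iv0 F132341)) (tt N48330 F254398) (tt N82510 D180787) (tt N45894 (iv4 F248737)) (tt N78462 (iv5 F248825)) (tt N82511 D180788) (tt N48331 (iv7 F254397)))
theorem Q48399 : ∀ i, i < 48399 → P i := stepQ 48398 Q48398 (allL N48398 (tt N48331 (iv1 F132345)) (tt N48330 F132344) (tt N25368 (iv2 D86347)) (tt N82508 (iv3 F281396)) (tt N25372 F132342) (tt N82512 D180789) (tt N65053 (iv6 F199041)) (tt N48332 F132343))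
theorem Q48400 : ∀ i, i < 48400 → P i := stepQ 48399 Q48399 (allL N48399 (tt N82415 (iv1 F280776)) (tt N80275 (iv0 F262468)) (tt N82512 (iv2 F281419)) (tt N25369 F132346) (tt N82513 D180790) (tt N25368 (iv5 D86348)) (tt N82514 D180791) (tt N48333 F132347))
theorem Q48401 : ∀ i, i < 48401 → P i := stepQ 48400 Q48400 (allL N48400 (tt N82515 D180792) (tt N31001 (iv0 F345411)) (tt N55317 (iv2 F345202)) (tt N82514 (iv3 F281424)) (tt N61324 (iv4 F351121)) (tt N56919 F345410) (tt N25369 (iv6 D86349)) (tt N82516 D180794))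
theorem Q48402 : ∀ i, i < 48402 → P i := stepQ 48401 Q48401 (allL N48401 (tt N65442 F201728) (tt N82517 D180796) (tt N48341 F256583) (tt N30949 F327438) (tt N25370 (iv4 D86352)) (tt N82518 D180798) (tt N59519 (iv6 F327952)) (tt N48339 (iv7 F256582)))
theorem Q48403 : ∀ i, i < 48403 → P i := stepQ 48402 Q48402 (allL N48402 (tt N47652 F254410) (tt N45485 F254411) (tt N66045 (iv2 F326799)) (tt N25371 (iv3 D86356)) (tt N78753 (iv4 F250781)) (tt N65429 F248744) (tt N82519 D180804) (tt N48340 F256539))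
theorem Q48404 : ∀ i, i < 48404 → P i := stepQ 48403 Q48403 (allL N48403 (tt N82517 (iv1 F281429)) (tt N65442 F254414) (tt N48339 (iv2 F256584)) (tt N82520 D180805) (tt N25371 (iv4 D86357)) (tt N82521 D180806) (tt N82522 D180807) (tt N48341 F256585))
theorem Q48405 : ∀ i, i < 48405 → P i := stepQ 48404 Q48404 (allL N48404 (tt N35509 (iv1 F328764)) (tt N48268 (iv0 F328763)) (tt N48266 F328388) (tt N82519 (iv3 F281449)) (tt N82522 (iv4 F281456)) (tt N47277 (iv5 F328786)) (tt N25371 (iv6 D86359)) (tt N48267 (iv7 F328757)))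
theorem Q48406 : ∀ i, i < 48406 → P i := stepQ 48405 Q48405 (allL N48405 (tt N65535 (iv1 F361397)) (tt N82523 D180813) (tt N65716 (iv2 F327442)) (tt N25373 (iv3 D86360)) (tt N79351 (iv4 F254496)) (tt N82524 D180815) (tt N46584 F132351) (tt N27709 F132352))
theorem Q48407 : ∀ i, i < 48407 → P i := stepQ 48406 Q48406 (allL N48406 (tt N46548 F132356) (tt N46547 F132357) (tt N44619 F132353) (tt N82524 (iv3 F281478)) (tt N27275 F292475) (tt N25373 (iv5 D86361)) (tt N69775 (iv6 F329122)) (tt N27710 F132355))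
theorem Q48408 : ∀ i, i < 48408 → P i := stepQ 48407 Q48407 (allL N48407 (tt N25397 (iv1 F132358)) (tt N25374 (iv0 D86362)) (tt N25396 F133469) (tt N42759 F305451) (tt N82525 D180817) (tt N42758 F305452) (tt N81682 (iv6 F357098)) (tt N25395 F133470))
theorem Q48409 : ∀ i, i < 48409 → P i := stepQ 48408 Q48408 (allL N48408 (tt N25374 (iv1 D86363)) (tt N25397 F132359) (tt N25395 F133471) (tt N52933 (iv3 F151883)) (tt N81352 (iv4 F332282)) (tt N42796 F305450) (tt N82526 D180820) (tt N25396 F133472))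
theorem Q48410 : ∀ i, i < 48410 → P i := stepQ 48409 Q48409 (allL N48409 (tt N35291 (iv1 F297752)) (tt N25405 (iv0 F132376)) (tt N25472 F132373) (tt N80036 (iv3 F312436)) (tt N25375 (iv4 D86368)) (tt N75281 (iv5 F310636)) (tt N45735 F132374) (tt N25475 F132375))
theorem Q48411 : ∀ i, i < 48411 → P i := stepQ 48410 Q48410 (allL N48410 (tt N78312 (iv1 F339004)) (tt N76515 (iv0 F339000)) (tt N78313 (iv2 F307671)) (tt N25378 F132399) (tt N34765 F132400) (tt N77010 (iv5 F308517)) (tt N25377 (iv6 D86375)) (tt N68354 (iv7 F308522)))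
theorem Q48412 : ∀ i, i < 48412 → P i := stepQ 48411 Q48411 (allL N48411 (tt N80387 (iv1 F264515)) (tt N80389 (iv0 F264539)) (tt N52756 (iv2 F151208)) (tt N36374 (iv3 F320078)) (tt N25379 (iv4 D86386)) (tt N75614 (iv5 F317884)) (tt N63715 (iv6 F306888)) (tt N42276 F317909))
theorem Q48413 : ∀ i, i < 48413 → P i := stepQ 48412 Q48412 (allL N48412 (tt N25383 (iv1 D86392)) (tt N46728 F132431) (tt N46726 (iv2 F132434)) (tt N50925 (iv3 F143056)) (tt N52874 (iv4 F151759)) (tt N29119 F132433) (tt N38264 (iv6 F307596)) (tt N46727 F132432))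
theorem Q48414 : ∀ i, i < 48414 → P i := stepQ 48413 Q48413 (allL N48413 (tt N26020 F132440) (tt N27803 F132438) (tt N26117 F132435) (tt N25384 F132436) (tt N27750 F132439) (tt N25383 (iv5 D86393)) (tt N82527 D180879) (tt N27943 F132437))
theorem Q48415 : ∀ i, i < 48415 → P i := stepQ 48414 Q48414 (allL N48414 (tt N64313 (iv1 F336775)) (tt N26163 F289540) (tt N27945 F132444) (tt N82527 (iv3 F281615)) (tt N27944 F132445) (tt N34497 (iv5 F297097)) (tt N25384 (iv6 D86395)) (tt N82528 D180886))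
theorem Q48416 : ∀ i, i < 48416 → P i := stepQ 48415 Q48415 (allL N48415 (tt N51754 (iv1 F317856)) (tt N42157 (iv0 F307407)) (tt N46529 F296544) (tt N42253 F305365) (tt N27310 F296545) (tt N25387 (iv5 D86407)) (tt N25388 F132461) (tt N52006 (iv7 F312746)))
theorem Q48417 : ∀ i, i < 48417 → P i := stepQ 48416 Q48416 (allL N48416 (tt N48250 (iv1 F298914)) (tt N47744 (iv0 F298916)) (tt N25432 F132560) (tt N82529 D181007) (tt N25393 (iv4 D86447)) (tt N82530 D181008) (tt N25477 F132561) (tt N46177 F132562))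
theorem Q48418 : ∀ i, i < 48418 → P i := stepQ 48417 Q48417 (allL N48417 (tt N25394 (iv1 D86448)) (tt N25436 F132563) (tt N25434 (iv2 F132565)) (tt N42800 (iv3 F303911)) (tt N41034 (iv4 F305133)) (tt N42994 F132566) (tt N41033 (iv6 F302856)) (tt N25435 F132564))
theorem Q48419 : ∀ i, i < 48419 → P i := stepQ 48418 Q48418 (allL N48418 (tt N43959 F132573) (tt N77200 (iv0 F241961)) (tt N81352 (iv2 F332280)) (tt N66932 (iv3 F206167)) (tt N25395 (iv4 D86452)) (tt N75369 (iv5 F334543)) (tt N63854 (iv6 F332075)) (tt N82525 (iv7 F281485)))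
theorem Q48420 : ∀ i, i < 48420 → P i := stepQ 48419 Q48419 (allL N48419 (tt N76020 (iv1 F311868)) (tt N45718 (iv0 F309985)) (tt N82526 (iv2 F281496)) (tt N42802 F307993) (tt N63854 (iv4 F332074)) (tt N63105 (iv5 F309986)) (tt N25395 (iv6 D86453)) (tt N81685 (iv7 F357090)))
theorem Q48421 : ∀ i, i < 48421 → P i := stepQ 48420 Q48420 (allL N48420 (tt N52936 (iv1 F151889)) (tt N52935 F151887) (tt N42806 (iv2 F304146)) (tt N25396 (iv3 D86455)) (tt N25667 F132575) (tt N36421 F301499) (tt N81686 (iv6 F312608)) (tt N52933 (iv7 F151881)))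
theorem Q48422 : ∀ i, i < 48422 → P i := stepQ 48421 Q48421 (allL N48421 (tt N77200 F241962) (tt N43959 F132577) (tt N82525 (iv2 F281483)) (tt N46684 F132576) (tt N25396 (iv4 D86456)) (tt N75054 (iv5 F230206)) (tt N81687 (iv6 F313123)) (tt N81352 (iv7 F332283)))
theorem Q48423 : ∀ i, i < 48423 → P i := stepQ 48422 Q48422 (allL N48422 (tt N82220 (iv1 F341985)) (tt N69276 (iv0 F307934)) (tt N25398 F132578) (tt N25447 F132579) (tt N37016 (iv4 F307932)) (tt N78317 (iv5 F307936)) (tt N25397 (iv6 D86458)) (tt N67903 (iv7 F307939)))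
theorem Q48424 : ∀ i, i < 48424 → P i := stepQ 48423 Q48423 (allL N48423 (tt N67903 F309033) (tt N25398 (iv0 D86459)) (tt N82220 (iv2 F341986)) (tt N37552 F309034) (tt N69231 (iv4 F311197)) (tt N37556 (iv5 F311198)) (tt N37538 (iv6 F311199)) (tt N69276 (iv7 F311201)))
theorem Q48425 : ∀ i, i < 48425 → P i := stepQ 48424 Q48424 (allL N48424 (tt N25398 (iv1 D86460)) (tt N67903 (iv0 F307937)) (tt N69276 (iv2 F311200)) (tt N82531 D181034) (tt N69271 (iv4 F315978)) (tt N82531 (iv5 F342012)) (tt N81716 (iv6 F344133)) (tt N82220 (iv7 F341987)))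
theorem Q48426 : ∀ i, i < 48426 → P i := stepQ 48425 Q48425 (allL N48425 (tt N43421 F304698) (tt N43420 (iv0 F305663)) (tt N25404 (iv2 D86478)) (tt N45567 F132633) (tt N27701 F132634) (tt N47063 F132635) (tt N78309 (iv6 F306721)) (tt N42096 (iv7 F306675)))
theorem Q48427 : ∀ i, i < 48427 → P i := stepQ 48426 Q48426 (allL N48426 (tt N78308 (iv1 F338160)) (tt N46553 (iv0 F297771)) (tt N78309 (iv2 F306719)) (tt N25405 F132639) (tt N27703 F132640) (tt N52377 (iv5 F310252)) (tt N25404 (iv6 D86479)) (tt N35307 (iv7 F297772)))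
theorem Q48428 : ∀ i, i < 48428 → P i := stepQ 48427 Q48427 (allL N48427 (tt N43090 (iv1 F132649)) (tt N25483 F132648) (tt N25406 (iv2 D86482)) (tt N42096 F307418) (tt N34137 F132646) (tt N63720 (iv5 F188950)) (tt N68415 (iv6 F309451)) (tt N45567 F132647))
theorem Q48429 : ∀ i, i < 48429 → P i := stepQ 48428 Q48428 (allL N48428 (tt N43491 (iv1 F305738)) (tt N25407 (iv0 D86486)) (tt N34547 (iv2 F306263)) (tt N63731 (iv3 F306264)) (tt N29333 F232862) (tt N43715 (iv5 F306265)) (tt N34539 (iv6 F306266)) (tt N42164 (iv7 F306268)))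
theorem Q48430 : ∀ i, i < 48430 → P i := stepQ 48429 Q48429 (allL N48429 (tt N25407 (iv1 D86487)) (tt N43491 (iv0 F305737)) (tt N42164 (iv2 F306267)) (tt N77254 (iv3 F306269)) (tt N29334 F281642) (tt N43716 (iv5 F306270)) (tt N42057 (iv6 F306271)) (tt N34547 F307387))
theorem Q48431 : ∀ i, i < 48431 → P i := stepQ 48430 Q48430 (allL N48430 (tt N56123 F191376) (tt N78357 (iv0 F312347)) (tt N75824 (iv2 F309799)) (tt N25409 (iv3 D86492)) (tt N45535 F132663) (tt N63090 (iv5 F310272)) (tt N45603 F299950) (tt N45599 F132664))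
theorem Q48432 : ∀ i, i < 48432 → P i := stepQ 48431 Q48431 (allL N48431 (tt N47330 (iv1 F311613)) (tt N46605 (iv0 F300299)) (tt N47333 F310094) (tt N46312 F314776) (tt N25410 (iv4 D86497)) (tt N46311 (iv5 F317070)) (tt N63736 (iv6 F306272)) (tt N46310 F314777))
theorem Q48433 : ∀ i, i < 48433 → P i := stepQ 48432 Q48432 (allL N48432 (tt N81685 (iv1 F357088)) (tt N82526 (iv0 F332053)) (tt N76020 (iv2 F235763)) (tt N25412 (iv3 D86499)) (tt N45678 F132673) (tt N42499 (iv5 F311610)) (tt N65396 (iv6 F300307)) (tt N45718 F132674))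
theorem Q48434 : ∀ i, i < 48434 → P i := stepQ 48433 Q48433 (allL N48433 (tt N45730 (iv1 F132683)) (tt N45386 F299820) (tt N34626 F132681) (tt N65735 (iv3 F330150)) (tt N25413 (iv4 D86501)) (tt N65730 (iv5 F330158)) (tt N65093 F299821) (tt N45719 F132682))
theorem Q48435 : ∀ i, i < 48435 → P i := stepQ 48434 Q48434 (allL N48434 (tt N35908 F326137) (tt N44937 (iv0 F297380)) (tt N34637 F132686) (tt N82532 D181132) (tt N25414 (iv4 D86502)) (tt N82533 D181133) (tt N48258 (iv6 F297532)) (tt N44629 F297284))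
theorem Q48436 : ∀ i, i < 48436 → P i := stepQ 48435 Q48435 (allL N48435 (tt N82534 D181139) (tt N82535 D181140) (tt N82536 D181141) (tt N25415 (iv3 D86505)) (tt N78663 (iv4 F250181)) (tt N82537 D181142) (tt N45491 F132697) (tt N65982 (iv7 F326406)))
theorem Q48437 : ∀ i, i < 48437 → P i := stepQ 48436 Q48436 (allL N48436 (tt N82538 D181144) (tt N82539 D181145) (tt N46295 (iv2 F321369)) (tt N82537 (iv3 F282144)) (tt N46307 F321016) (tt N25415 (iv5 D86506)) (tt N46293 (iv6 F322770)) (tt N65986 (iv7 F326409)))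
theorem Q48438 : ∀ i, i < 48438 → P i := stepQ 48437 Q48437 (allL N48437 (tt N25418 (iv1 D86508)) (tt N28572 F132701) (tt N28282 (iv2 F132704)) (tt N51277 (iv3 F144656)) (tt N52935 (iv4 F151885)) (tt N27803 F132703) (tt N82540 D181149) (tt N46679 F132702))
theorem Q48439 : ∀ i, i < 48439 → P i := stepQ 48438 Q48438 (allL N48438 (tt N35035 F348256) (tt N69612 (iv0 F348260)) (tt N78303 (iv2 F305576)) (tt N25419 F132705) (tt N25425 F132706) (tt N82541 D181152) (tt N25418 (iv6 D86509)) (tt N35179 (iv7 F301763)))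
theorem Q48440 : ∀ i, i < 48440 → P i := stepQ 48439 Q48439 (allL N48439 (tt N82542 D181153) (tt N49051 F310411) (tt N35182 (iv2 F300876)) (tt N82541 (iv3 F282163)) (tt N81917 (iv4 F277516)) (tt N25419 (iv5 D86510)) (tt N49009 (iv6 F135035)) (tt N35180 (iv7 F301764)))
theorem Q48441 : ∀ i, i < 48441 → P i := stepQ 48440 Q48440 (allL N48440 (tt N47827 (iv1 F132713)) (tt N47777 (iv0 F299397)) (tt N47877 F132710) (tt N82543 D181154) (tt N25420 (iv4 D86511)) (tt N82544 D181155) (tt N45493 F132711) (tt N47876 (iv7 F132714)))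
theorem Q48442 : ∀ i, i < 48442 → P i := stepQ 48441 Q48441 (allL N48441 (tt N63733 F303702) (tt N44437 F305762) (tt N56116 (iv2 F162752)) (tt N25422 (iv3 D86513)) (tt N27743 F299899) (tt N63655 F303703) (tt N37489 F303704) (tt N48468 (iv7 F132846)))
theorem Q48443 : ∀ i, i < 48443 → P i := stepQ 48442 Q48442 (allL N48442 (tt N80036 (iv1 F312435)) (tt N77670 (iv0 F305756)) (tt N48775 (iv2 F134442)) (tt N56117 (iv3 F162758)) (tt N48772 (iv4 F134440)) (tt N41314 (iv5 F305758)) (tt N25423 (iv6 D86515)) (tt N69617 (iv7 F305761)))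
theorem Q48444 : ∀ i, i < 48444 → P i := stepQ 48443 Q48443 (allL N48443 (tt N43151 F304642) (tt N25426 (iv0 D86521)) (tt N35403 (iv2 F306656)) (tt N72348 (iv3 F313629)) (tt N29345 F238654) (tt N35373 (iv5 F306657)) (tt N43393 (iv6 F306658)) (tt N35406 (iv7 F306659)))
theorem Q48445 : ∀ i, i < 48445 → P i := stepQ 48444 Q48444 (allL N48444 (tt N35406 F304645) (tt N35403 F304646) (tt N43151 F304647) (tt N34424 F311307) (tt N25801 F132730) (tt N65211 (iv5 F306661)) (tt N43491 (iv6 F305740)) (tt N25426 (iv7 D86524)))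
theorem Q48446 : ∀ i, i < 48446 → P i := stepQ 48445 Q48445 (allL N48445 (tt N46176 (iv1 F132742)) (tt N25428 (iv0 D86530)) (tt N74667 (iv2 F324153)) (tt N82545 D181198) (tt N72217 (iv4 F312855)) (tt N69415 (iv5 F310656)) (tt N75179 (iv6 F351586)) (tt N72982 (iv7 F324145)))
theorem Q48447 : ∀ i, i < 48447 → P i := stepQ 48446 Q48446 (allL N48446 (tt N82340 (iv1 F302799)) (tt N40439 F324357) (tt N82138 (iv2 F306688)) (tt N57888 (iv3 F354375)) (tt N25428 (iv4 D86532)) (tt N57886 (iv5 F354280)) (tt N65230 (iv6 F306660)) (tt N82546 D181208))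
theorem Q48448 : ∀ i, i < 48448 → P i := stepQ 48447 Q48447 (allL N48447 (tt N72982 (iv1 F324143)) (tt N74667 (iv0 F324151)) (tt N46176 F132740) (tt N62220 (iv3 F341168)) (tt N82546 (iv4 F282243)) (tt N25429 F132741) (tt N43539 (iv6 F310106)) (tt N25428 (iv7 D86533)))
theorem Q48449 : ∀ i, i < 48449 → P i := stepQ 48448 Q48448 (allL N48448 (tt N46177 (iv1 F132773)) (tt N25432 (iv0 D86540)) (tt N48250 (iv2 F298915)) (tt N31307 (iv3 F326208)) (tt N31308 F325285) (tt N82547 D181222) (tt N31306 F325286) (tt N47744 (iv7 F298918)))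
theorem Q48450 : ∀ i, i < 48450 → P i := stepQ 48449 Q48449 (allL N48449 (tt N80748 (iv1 F366175)) (tt N82548 D181228) (tt N82549 D181229) (tt N25432 (iv3 D86542)) (tt N82543 (iv4 F282170)) (tt N75453 (iv5 F350077)) (tt N45496 F132770) (tt N82550 D181231))
theorem Q48451 : ∀ i, i < 48451 → P i := stepQ 48450 Q48450 (allL N48450 (tt N46537 (iv1 F297523)) (tt N82551 D181233) (tt N82530 (iv2 F281849)) (tt N75453 (iv3 F350076)) (tt N82552 D181234) (tt N25432 (iv5 D86543)) (tt N82553 D181235) (tt N82554 D181236))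
theorem Q48452 : ∀ i, i < 48452 → P i := stepQ 48451 Q48451 (allL N48451 (tt N47744 (iv1 F298917)) (tt N48250 (iv0 F298913)) (tt N46177 F132771) (tt N82550 (iv3 F282287)) (tt N25433 F132772) (tt N82554 (iv5 F282298)) (tt N58475 (iv6 F324604)) (tt N25432 (iv7 D86544)))
theorem Q48453 : ∀ i, i < 48453 → P i := stepQ 48452 Q48452 (allL N48452 (tt N42756 F303972) (tt N42759 F303973) (tt N42801 F303974) (tt N25435 (iv3 D86548)) (tt N46981 F132784) (tt N46129 (iv5 F132785)) (tt N37561 F303975) (tt N42800 F303976))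
theorem Q48454 : ∀ i, i < 48454 → P i := stepQ 48453 Q48453 (allL N48453 (tt N25454 F132789) (tt N33981 F132791) (tt N25437 F132786) (tt N46129 F132787) (tt N25436 F132790) (tt N25435 (iv5 D86549)) (tt N37633 (iv6 F302857)) (tt N42994 F132788))
theorem Q48455 : ∀ i, i < 48455 → P i := stepQ 48454 Q48454 (allL N48454 (tt N52933 (iv1 F151882)) (tt N42806 F306246) (tt N52936 (iv2 F151892)) (tt N25438 (iv3 D86565)) (tt N46679 F132807) (tt N36543 F132808) (tt N82555 D181285) (tt N52935 F151888))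
theorem Q48456 : ∀ i, i < 48456 → P i := stepQ 48455 Q48455 (allL N48455 (tt N37523 (iv1 F311159)) (tt N25461 (iv0 F311847)) (tt N64518 (iv2 F197417)) (tt N82555 (iv3 F282368)) (tt N64690 (iv4 F198087)) (tt N40030 (iv5 F311160)) (tt N25438 (iv6 D86566)) (tt N64892 (iv7 F311162)))
theorem Q48457 : ∀ i, i < 48457 → P i := stepQ 48456 Q48456 (allL N48456 (tt N64925 (iv1 F348251)) (tt N63079 (iv0 F348281)) (tt N64517 (iv2 F197415)) (tt N67058 (iv3 F304894)) (tt N47450 F348220) (tt N67055 (iv5 F309588)) (tt N25439 (iv6 D86567)) (tt N65086 (iv7 F338145)))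
theorem Q48458 : ∀ i, i < 48458 → P i := stepQ 48457 Q48457 (allL N48457 (tt N25440 (iv1 D86569)) (tt N41452 F311025) (tt N30536 (iv2 F313274)) (tt N37495 (iv3 F313275)) (tt N53327 (iv4 F332411)) (tt N42913 (iv5 F313276)) (tt N30529 (iv6 F313277)) (tt N53324 (iv7 F313273)))
theorem Q48459 : ∀ i, i < 48459 → P i := stepQ 48458 Q48458 (allL N48458 (tt N82341 (iv1 F303937)) (tt N40376 F326241) (tt N39905 F312851) (tt N82556 D181323) (tt N25442 (iv4 D86578)) (tt N82347 (iv5 F302555)) (tt N39903 F312852) (tt N80410 (iv7 F302291)))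
theorem Q48460 : ∀ i, i < 48460 → P i := stepQ 48459 Q48459 (allL N48459 (tt N76140 (iv1 F307641)) (tt N76139 F309643) (tt N42837 F305639) (tt N25444 F132824) (tt N34328 F132825) (tt N25458 F309644) (tt N25443 (iv6 D86580)) (tt N54138 (iv7 F310913)))
theorem Q48461 : ∀ i, i < 48461 → P i := stepQ 48460 Q48460 (allL N48460 (tt N36544 (iv1 F309013)) (tt N46603 F303040) (tt N34316 F307441) (tt N25458 F308734) (tt N34304 (iv4 F309485)) (tt N25444 (iv5 D86581)) (tt N44009 F307442) (tt N34312 (iv7 F309014)))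
theorem Q48462 : ∀ i, i < 48462 → P i := stepQ 48461 Q48461 (allL N48461 (tt N34612 F306001) (tt N45740 (iv0 F303927)) (tt N25450 F132829) (tt N54133 (iv3 F156073)) (tt N55808 (iv4 F161836)) (tt N57456 (iv5 F303928)) (tt N25446 (iv6 D86583)) (tt N45741 (iv7 F303929)))
theorem Q48463 : ∀ i, i < 48463 → P i := stepQ 48462 Q48462 (allL N48462 (tt N66857 (iv1 F307944)) (tt N44527 (iv0 F307946)) (tt N25453 F132830) (tt N78317 (iv3 F307935)) (tt N53304 (iv4 F313765)) (tt N25447 (iv5 D86584)) (tt N57456 F306000) (tt N46555 F312997))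
theorem Q48464 : ∀ i, i < 48464 → P i := stepQ 48463 Q48463 (allL N48463 (tt N42705 (iv1 F307806)) (tt N76440 F309808) (tt N55808 (iv2 F161834)) (tt N41014 F332498) (tt N25450 F132833) (tt N44060 (iv5 F312014)) (tt N25449 (iv6 D86586)) (tt N56136 (iv7 F307807)))
theorem Q48465 : ∀ i, i < 48465 → P i := stepQ 48464 Q48464 (allL N48464 (tt N45741 F305005) (tt N25450 (iv0 D86587)) (tt N34612 (iv2 F307804)) (tt N45723 F311103) (tt N62433 (iv4 F323436)) (tt N45722 (iv5 F313374)) (tt N64270 (iv6 F306944)) (tt N45740 (iv7 F306945)))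
theorem Q48466 : ∀ i, i < 48466 → P i := stepQ 48465 Q48465 (allL N48465 (tt N64518 (iv1 F309647)) (tt N64892 (iv0 F309848)) (tt N25461 (iv2 F311128)) (tt N37530 (iv3 F308917)) (tt N64512 (iv4 F311129)) (tt N25452 (iv5 D86595)) (tt N69652 (iv6 F310021)) (tt N37523 F308007))
theorem Q48467 : ∀ i, i < 48467 → P i := stepQ 48466 Q48466 (allL N48466 (tt N25453 (iv1 D86598)) (tt N46555 F312994) (tt N44527 (iv2 F307947)) (tt N42854 F311222) (tt N71299 (iv4 F309085)) (tt N44526 (iv5 F307959)) (tt N74001 (iv6 F332423)) (tt N66857 (iv7 F307945)))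
theorem Q48468 : ∀ i, i < 48468 → P i := stepQ 48467 Q48467 (allL N48467 (tt N53302 (iv1 F342628)) (tt N53269 (iv0 F342627)) (tt N53304 (iv2 F313764)) (tt N38265 (iv3 F309081)) (tt N25453 (iv4 D86599)) (tt N71277 (iv5 F309082)) (tt N53289 (iv6 F311967)) (tt N52715 (iv7 F309083)))
theorem Q48469 : ∀ i, i < 48469 → P i := stepQ 48468 Q48468 (allL N48468 (tt N38349 F305266) (tt N43988 (iv0 F305053)) (tt N42987 F132844) (tt N25668 F132845) (tt N25454 (iv4 D86600)) (tt N34254 F304095) (tt N45309 (iv6 F304551)) (tt N48441 F132846))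
theorem Q48470 : ∀ i, i < 48470 → P i := stepQ 48469 Q48469 (allL N48469 (tt N48164 F302871) (tt N25456 (iv0 D86606)) (tt N52389 (iv2 F299901)) (tt N25491 (iv3 F303816)) (tt N25823 F232506) (tt N41660 (iv5 F305229)) (tt N25488 (iv6 F305230)) (tt N52390 (iv7 F299908)))
theorem Q48471 : ∀ i, i < 48471 → P i := stepQ 48470 Q48470 (allL N48470 (tt N25456 (iv1 D86607)) (tt N48164 F302872) (tt N52390 (iv2 F299905)) (tt N82557 D181400) (tt N25824 F232509) (tt N41659 (iv5 F302873)) (tt N82558 D181402) (tt N52389 (iv7 F299904)))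
theorem Q48472 : ∀ i, i < 48472 → P i := stepQ 48471 Q48471 (allL N48471 (tt N52390 F300082) (tt N52389 F300083) (tt N48164 F302874) (tt N35413 F232375) (tt N25633 F132855) (tt N27502 F300084) (tt N43665 (iv6 F305068)) (tt N25456 (iv7 D86609)))
theorem Q48473 : ∀ i, i < 48473 → P i := stepQ 48472 Q48472 (allL N48472 (tt N43622 (iv1 F308289)) (tt N25629 F286202) (tt N43828 (iv2 F310126)) (tt N44589 (iv3 F315513)) (tt N25457 (iv4 D86612)) (tt N71895 (iv5 F338928)) (tt N82559 D181423) (tt N43709 (iv7 F310129)))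
theorem Q48474 : ∀ i, i < 48474 → P i := stepQ 48473 Q48473 (allL N48473 (tt N76139 F308732) (tt N76140 (iv0 F310907)) (tt N54138 (iv2 F310902)) (tt N42841 F313125) (tt N77475 (iv4 F310914)) (tt N25457 (iv5 D86613)) (tt N68265 (iv6 F310915)) (tt N42837 (iv7 F310916)))
theorem Q48475 : ∀ i, i < 48475 → P i := stepQ 48474 Q48474 (allL N48474 (tt N82558 (iv1 F330090)) (tt N64731 (iv0 F330110)) (tt N54139 (iv2 F310903)) (tt N44591 F313126) (tt N82559 (iv4 F282535)) (tt N63802 F308733) (tt N25457 (iv6 D86614)) (tt N63106 (iv7 F310917)))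
theorem Q48476 : ∀ i, i < 48476 → P i := stepQ 48475 Q48475 (allL N48475 (tt N25629 F286203) (tt N43622 (iv0 F308288)) (tt N43709 (iv2 F310128)) (tt N33847 F351600) (tt N25458 (iv4 D86617)) (tt N71020 (iv5 F351799)) (tt N35344 (iv6 F310130)) (tt N43828 (iv7 F310127)))
theorem Q48477 : ∀ i, i < 48477 → P i := stepQ 48476 Q48476 (allL N48476 (tt N25461 (iv1 D86642)) (tt N37523 F309001) (tt N64892 (iv2 F311153)) (tt N27741 (iv3 F311154)) (tt N64727 (iv4 F316792)) (tt N27740 (iv5 F312167)) (tt N65086 (iv6 F338144)) (tt N64518 (iv7 F309648)))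
theorem Q48478 : ∀ i, i < 48478 → P i := stepQ 48477 Q48477 (allL N48477 (tt N69651 (iv1 F332435)) (tt N69650 (iv0 F332434)) (tt N69652 (iv2 F311130)) (tt N25463 F132893) (tt N64514 (iv4 F197407)) (tt N73366 (iv5 F332426)) (tt N25461 (iv6 D86645)) (tt N65395 (iv7 F302263)))
theorem Q48479 : ∀ i, i < 48479 → P i := stepQ 48478 Q48478 (allL N48478 (tt N37499 (iv1 F314586)) (tt N37498 (iv0 F314587)) (tt N37500 F312240) (tt N69630 (iv3 F314585)) (tt N37450 (iv4 F314370)) (tt N63764 (iv5 F363049)) (tt N25462 (iv6 D86647)) (tt N36458 (iv7 F314588)))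
theorem Q48480 : ∀ i, i < 48480 → P i := stepQ 48479 Q48479 (allL N48479 (tt N65089 F299083) (tt N25464 (iv0 D86671)) (tt N65103 F299084) (tt N41594 (iv3 F311261)) (tt N82560 D181589) (tt N45384 F299085) (tt N42441 (iv6 F312105)) (tt N41590 (iv7 F310879)))
theorem Q48481 : ∀ i, i < 48481 → P i := stepQ 48480 Q48480 (allL N48480 (tt N25464 (iv1 D86672)) (tt N65089 F299087) (tt N41590 (iv2 F310878)) (tt N66658 (iv3 F312106)) (tt N41978 (iv4 F312107)) (tt N46497 (iv5 F132912)) (tt N41588 (iv6 F312108)) (tt N65103 F299089))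
theorem Q48482 : ∀ i, i < 48482 → P i := stepQ 48481 Q48481 (allL N48481 (tt N37193 F333916) (tt N74988 (iv0 F310641)) (tt N65104 F299090) (tt N37150 (iv3 F333922)) (tt N25464 (iv4 D86673)) (tt N67592 (iv5 F333923)) (tt N75446 (iv6 F307913)) (tt N65105 (iv7 F301888)))
theorem Q48483 : ∀ i, i < 48483 → P i := stepQ 48482 Q48482 (allL N48482 (tt N57438 (iv1 F308285)) (tt N69615 (iv0 F308284)) (tt N69616 (iv2 F306372)) (tt N25468 (iv3 D86692)) (tt N25470 F132948) (tt N63976 (iv5 F302803)) (tt N80519 (iv6 F302805)) (tt N35150 (iv7 F301603)))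
theorem Q48484 : ∀ i, i < 48484 → P i := stepQ 48483 Q48483 (allL N48483 (tt N37473 (iv1 F309777)) (tt N37472 (iv0 F309778)) (tt N37474 (iv2 F308184)) (tt N25471 F132960) (tt N80519 (iv4 F302804)) (tt N80495 (iv5 F302807)) (tt N25470 (iv6 D86699)) (tt N34114 (iv7 F309779)))
theorem Q48485 : ∀ i, i < 48485 → P i := stepQ 48484 Q48484 (allL N48484 (tt N35311 F297513) (tt N35310 F297514) (tt N80390 (iv2 F264551)) (tt N82561 D181680) (tt N25473 (iv4 D86709)) (tt N82562 D181681) (tt N41521 F325563) (tt N52176 F297515))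
theorem Q48486 : ∀ i, i < 48486 → P i := stepQ 48485 Q48485 (allL N48485 (tt N46242 F132974) (tt N31353 F323039) (tt N31965 F323040) (tt N45794 F296832) (tt N41521 (iv4 F324445)) (tt N31963 (iv5 F323939)) (tt N25473 (iv6 D86710)) (tt N27288 F296834))
theorem Q48487 : ∀ i, i < 48487 → P i := stepQ 48486 Q48486 (allL N48486 (tt N48775 F233189) (tt N69617 F306191) (tt N77670 F306192) (tt N25475 (iv3 D86713)) (tt N34915 (iv4 F301406)) (tt N82563 D181684) (tt N27280 F299095) (tt N80036 (iv7 F312439)))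
theorem Q48488 : ∀ i, i < 48488 → P i := stepQ 48487 Q48487 (allL N48487 (tt N69414 (iv1 F310634)) (tt N69412 (iv0 F310632)) (tt N46522 F299096) (tt N82563 (iv3 F282799)) (tt N82564 D181686) (tt N25475 (iv5 D86714)) (tt N75188 (iv6 F314819)) (tt N75281 (iv7 F310637)))
theorem Q48489 : ∀ i, i < 48489 → P i := stepQ 48488 Q48488 (allL N48488 (tt N35310 (iv1 F296421)) (tt N35311 (iv0 F296422)) (tt N52176 (iv2 F296374)) (tt N82565 D181689) (tt N25476 (iv4 D86716)) (tt N82566 D181690) (tt N27286 F296077) (tt N80390 (iv7 F264553)))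
theorem Q48490 : ∀ i, i < 48490 → P i := stepQ 48489 Q48489 (allL N48489 (tt N82567 D181694) (tt N82568 D181695) (tt N82569 D181696) (tt N25477 (iv3 D86719)) (tt N26008 F133001) (tt N52650 (iv5 F294062)) (tt N82529 (iv6 F281847)) (tt N45822 F133002))
theorem Q48491 : ∀ i, i < 48491 → P i := stepQ 48490 Q48490 (allL N48490 (tt N82570 D181699) (tt N82571 D181700) (tt N82572 D181701) (tt N25478 (iv3 D86721)) (tt N78436 (iv4 F248790)) (tt N52636 (iv5 F294051)) (tt N82573 D181703) (tt N45496 F133006))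
theorem Q48492 : ∀ i, i < 48492 → P i := stepQ 48491 Q48491 (allL N48491 (tt N31294 F325568) (tt N58474 F325569) (tt N45824 F133010) (tt N82573 (iv3 F282844)) (tt N25479 F133011) (tt N65767 (iv5 F326398)) (tt N25478 (iv6 D86723)) (tt N58475 F325570))
theorem Q48493 : ∀ i, i < 48493 → P i := stepQ 48492 Q48492 (allL N48492 (tt N25479 (iv1 D86724)) (tt N45734 F133012) (tt N31311 F323182) (tt N45793 (iv3 F133016)) (tt N65125 (iv4 F299410)) (tt N46242 (iv5 F133014)) (tt N46143 F297296) (tt N45720 F133013))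
theorem Q48494 : ∀ i, i < 48494 → P i := stepQ 48493 Q48493 (allL N48493 (tt N75914 (iv1 F234583)) (tt N75857 (iv0 F234428)) (tt N75804 (iv2 F234120)) (tt N25486 F133022) (tt N63699 (iv4 F334115)) (tt N25482 (iv5 D86742)) (tt N45186 F133023) (tt N75887 (iv7 F234528)))
theorem Q48495 : ∀ i, i < 48495 → P i := stepQ 48494 Q48494 (allL N48494 (tt N46524 F302276) (tt N46528 F302277) (tt N46526 F302278) (tt N25485 F133031) (tt N47378 (iv4 F304746)) (tt N72701 (iv5 F312357)) (tt N25483 (iv6 D86745)) (tt N46525 F302279))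
theorem Q48496 : ∀ i, i < 48496 → P i := stepQ 48495 Q48495 (allL N48495 (tt N46191 (iv1 F190020)) (tt N25485 (iv0 D86747)) (tt N42699 F305151) (tt N68273 F307419) (tt N41001 F307420) (tt N73417 (iv5 F342544)) (tt N42698 (iv6 F307076)) (tt N45248 F307421))
theorem Q48497 : ∀ i, i < 48497 → P i := stepQ 48496 Q48496 (allL N48496 (tt N72182 F312252) (tt N53359 (iv0 F341557)) (tt N54517 (iv2 F329271)) (tt N54208 (iv3 F368246)) (tt N25490 (iv4 D86783)) (tt N82574 D181739) (tt N82575 D181740) (tt N78087 F312254))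
theorem Q48498 : ∀ i, i < 48498 → P i := stepQ 48497 Q48497 (allL N48497 (tt N82233 (iv1 F282915)) (tt N65391 (iv0 F282911)) (tt N82221 (iv2 F279559)) (tt N39915 F312255) (tt N82575 (iv4 F282906)) (tt N82576 D181743) (tt N25490 (iv6 D86784)) (tt N82232 (iv7 F348040)))
theorem Q48499 : ∀ i, i < 48499 → P i := stepQ 48498 Q48498 (allL N48498 (tt N42823 F133092) (tt N42833 F133093) (tt N42831 F191232) (tt N41660 (iv3 F200381)) (tt N82577 D181745) (tt N25491 (iv5 D86788)) (tt N82576 (iv6 F282910)) (tt N42830 F194687))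
theorem Q48500 : ∀ i, i < 48500 → P i := stepQ 48499 Q48499 (allL N48499 (tt N78082 (iv1 F316786)) (tt N65373 F280165) (tt N39910 (iv2 F316784)) (tt N25494 F133095) (tt N44467 F314453) (tt N25492 (iv5 D86792)) (tt N82578 D181746) (tt N75859 (iv7 F234447)))
theorem Q48501 : ∀ i, i < 48501 → P i := stepQ 48500 Q48500 (allL N48500 (tt N82318 (iv1 F330101)) (tt N63102 (iv0 F330102)) (tt N75861 (iv2 F234451)) (tt N25495 F133096) (tt N76565 (iv4 F239308)) (tt N80393 (iv5 F264606)) (tt N25492 (iv6 D86793)) (tt N76025 (iv7 F235808)))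
theorem Q48502 : ∀ i, i < 48502 → P i := stepQ 48501 Q48501 (allL N48501 (tt N68415 (iv1 F309448)) (tt N48133 F299976) (tt N68483 (iv2 F310257)) (tt N25493 (iv3 D86794)) (tt N76563 (iv4 F239307)) (tt N68483 (iv5 F312448)) (tt N68460 (iv6 F312454)) (tt N68461 (iv7 F310255)))
theorem Q48503 : ∀ i, i < 48503 → P i := stepQ 48502 Q48502 (allL N48502 (tt N43117 (iv1 F312445)) (tt N37485 (iv0 F312353)) (tt N43118 (iv2 F312136)) (tt N68483 (iv3 F312447)) (tt N64728 (iv4 F342022)) (tt N25493 (iv5 D86795)) (tt N43109 (iv6 F312449)) (tt N43013 (iv7 F312123)))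
theorem Q48504 : ∀ i, i < 48504 → P i := stepQ 48503 Q48503 (allL N48503 (tt N78290 (iv1 F312450)) (tt N63869 (iv0 F312451)) (tt N76024 (iv2 F235806)) (tt N68460 (iv3 F312453)) (tt N25495 F133097) (tt N45274 (iv5 F312455)) (tt N25493 (iv6 D86796)) (tt N45273 (iv7 F312457)))
theorem Q48505 : ∀ i, i < 48505 → P i := stepQ 48504 Q48504 (allL N48504 (tt N53359 (iv1 F341558)) (tt N72182 (iv0 F310067)) (tt N78087 (iv2 F312143)) (tt N53412 (iv3 F352814)) (tt N25494 (iv4 D86797)) (tt N82579 D181757) (tt N71649 (iv6 F352809)) (tt N54517 (iv7 F329274)))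
theorem Q48506 : ∀ i, i < 48506 → P i := stepQ 48505 Q48505 (allL N48505 (tt N33289 F320766) (tt N66869 (iv0 F205947)) (tt N40475 F327726) (tt N82578 (iv3 F282922)) (tt N71649 (iv4 F352808)) (tt N80394 (iv5 F264613)) (tt N25494 (iv6 D86798)) (tt N76152 (iv7 F237100)))
theorem Q48507 : ∀ i, i < 48507 → P i := stepQ 48506 Q48506 (allL N48506 (tt N40001 (iv1 F312299)) (tt N40014 (iv0 F312280)) (tt N40010 F312260) (tt N82580 D181759) (tt N25496 (iv4 D86805)) (tt N82581 D181760) (tt N40890 F321645) (tt N40009 F312261))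
theorem Q48508 : ∀ i, i < 48508 → P i := stepQ 48507 Q48507 (allL N48507 (tt N57683 (iv1 F314596)) (tt N57671 (iv0 F314599)) (tt N44366 (iv2 F314601)) (tt N25497 (iv3 D86809)) (tt N39982 (iv4 F314602)) (tt N76061 F236168) (tt N82582 D181764) (tt N57682 F312263))
theorem Q48509 : ∀ i, i < 48509 → P i := stepQ 48508 Q48508 (allL N48508 (tt N40014 (iv1 F312281)) (tt N40001 (iv0 F312298)) (tt N40009 F312264) (tt N39311 (iv3 F314603)) (tt N25497 (iv4 D86810)) (tt N82583 D181766) (tt N54355 (iv6 F339122)) (tt N40010 F312265))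
theorem Q48510 : ∀ i, i < 48510 → P i := stepQ 48509 Q48509 (allL N48509 (tt N72063 (iv1 F316239)) (tt N72060 (iv0 F339045)) (tt N72309 (iv2 F312148)) (tt N82582 (iv3 F282929)) (tt N54355 (iv4 F339121)) (tt N53339 (iv5 F346688)) (tt N25497 (iv6 D86812)) (tt N71977 (iv7 F346607)))
theorem Q48511 : ∀ i, i < 48511 → P i := stepQ 48510 Q48510 (allL N48510 (tt N82224 (iv1 F279622)) (tt N25499 (iv0 D86823)) (tt N82223 (iv2 F344811)) (tt N77978 (iv3 F319241)) (tt N39295 (iv4 F319242)) (tt N79242 F344810) (tt N39626 (iv6 F344813)) (tt N81807 (iv7 F344815)))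
theorem Q48512 : ∀ i, i < 48512 → P i := stepQ 48511 Q48511 (allL N48511 (tt N25499 (iv1 D86824)) (tt N82224 F279624) (tt N81807 (iv2 F344814)) (tt N82584 D181796) (tt N39294 (iv4 F319243)) (tt N79241 (iv5 F346570)) (tt N81799 (iv6 F345849)) (tt N82223 (iv7 F344812)))
theorem Q48513 : ∀ i, i < 48513 → P i := stepQ 48512 Q48512 (allL N48512 (tt N82223 (iv1 F279623)) (tt N81807 (iv0 F336423)) (tt N25499 (iv2 D86825)) (tt N60352 (iv3 F320630)) (tt N71284 (iv4 F314604)) (tt N82585 D181800) (tt N44999 F133109) (tt N82224 (iv7 F279621)))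
theorem Q48514 : ∀ i, i < 48514 → P i := stepQ 48513 Q48513 (allL N48513 (tt N82586 D181801) (tt N82587 D181802) (tt N82585 (iv2 F282970)) (tt N25500 F133110) (tt N82588 D181803) (tt N25499 (iv5 D86826)) (tt N82589 D181804) (tt N42444 F133111))
theorem Q48515 : ∀ i, i < 48515 → P i := stepQ 48514 Q48514 (allL N48514 (tt N74832 (iv1 F229424)) (tt N69211 (iv0 F314913)) (tt N67100 (iv2 F206638)) (tt N82589 (iv3 F282978)) (tt N41594 F133112) (tt N36385 F133113) (tt N25500 (iv6 D86827)) (tt N41592 F133114))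
theorem Q48516 : ∀ i, i < 48516 → P i := stepQ 48515 Q48515 (allL N48515 (tt N46840 F155441) (tt N68472 (iv0 F309035)) (tt N68462 (iv2 F313512)) (tt N25502 (iv3 D86831)) (tt N48133 F299927) (tt N35803 F324937) (tt N34722 (iv6 F300373)) (tt N34717 F133127))
theorem Q48517 : ∀ i, i < 48517 → P i := stepQ 48516 Q48516 (allL N48516 (tt N34725 (iv1 F302749)) (tt N34724 (iv0 F302748)) (tt N34726 F302266) (tt N34336 F133208) (tt N40235 (iv4 F321816)) (tt N25503 (iv5 D86855)) (tt N75679 (iv6 F324823)) (tt N34714 F302267))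
theorem Q48518 : ∀ i, i < 48518 → P i := stepQ 48517 Q48517 (allL N48517 (tt N82590 D181879) (tt N82591 D181880) (tt N82592 D181881) (tt N25505 (iv3 D86871)) (tt N25591 F133276) (tt N52689 (iv5 F294505)) (tt N27654 F293571) (tt N27627 F133277))
theorem Q48519 : ∀ i, i < 48519 → P i := stepQ 48518 Q48518 (allL N48518 (tt N27569 (iv1 F292815)) (tt N82593 D181884) (tt N82594 D181885) (tt N25506 (iv3 D86873)) (tt N26464 F133281) (tt N52691 (iv5 F292816)) (tt N55098 F291787) (tt N26682 F133282))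
theorem Q48520 : ∀ i, i < 48520 → P i := stepQ 48519 Q48519 (allL N48519 (tt N49989 (iv1 F138309)) (tt N25507 (iv0 D86875)) (tt N49988 (iv2 F288950)) (tt N55061 F293462) (tt N50882 F293463) (tt N52684 (iv5 F293681)) (tt N50880 (iv6 F294383)) (tt N49987 (iv7 F288955)))
theorem Q48521 : ∀ i, i < 48521 → P i := stepQ 48520 Q48520 (allL N48520 (tt N25507 (iv1 D86876)) (tt N49989 F138311) (tt N49987 (iv2 F288954)) (tt N82595 D181893) (tt N51422 F293510) (tt N52685 (iv5 F360348)) (tt N55384 (iv6 F367171)) (tt N49988 (iv7 F288951)))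
theorem Q48522 : ∀ i, i < 48522 → P i := stepQ 48521 Q48521 (allL N48521 (tt N49988 (iv1 F138310)) (tt N49987 F138303) (tt N25507 (iv2 D86877)) (tt N49976 (iv3 F138232)) (tt N49853 (iv4 F137496)) (tt N82596 D181897) (tt N29301 (iv6 F294512)) (tt N49989 (iv7 F138308)))
theorem Q48523 : ∀ i, i < 48523 → P i := stepQ 48522 Q48522 (allL N48522 (tt N51787 (iv1 F294513)) (tt N82597 D181899) (tt N82596 (iv2 F283195)) (tt N25508 F133286) (tt N82598 D181900) (tt N25507 (iv5 D86878)) (tt N60150 (iv6 F357656)) (tt N49990 (iv7 F138313)))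
theorem Q48524 : ∀ i, i < 48524 → P i := stepQ 48523 Q48523 (allL N48523 (tt N25508 (iv1 D86880)) (tt N25914 F133289) (tt N27892 (iv2 F293898)) (tt N51142 (iv3 F143786)) (tt N52658 F293597) (tt N25511 F133290) (tt N68771 (iv6 F360834)) (tt N27754 (iv7 F294080)))
theorem Q48525 : ∀ i, i < 48525 → P i := stepQ 48524 Q48524 (allL N48524 (tt N82599 D181905) (tt N82600 D181906) (tt N49978 (iv2 F138239)) (tt N60150 (iv3 F357655)) (tt N79701 (iv4 F257754)) (tt N29306 (iv5 F294255)) (tt N25508 (iv6 D86881)) (tt N82601 D181907))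
theorem Q48526 : ∀ i, i < 48526 → P i := stepQ 48525 Q48525 (allL N48525 (tt N82602 D181908) (tt N51844 (iv0 F294755)) (tt N49497 (iv2 F294756)) (tt N25509 (iv3 D86882)) (tt N25512 F133291) (tt N51692 (iv5 F147039)) (tt N48916 (iv6 F134884)) (tt N25678 (iv7 F294511)))
theorem Q48527 : ∀ i, i < 48527 → P i := stepQ 48526 Q48526 (allL N48526 (tt N27904 F295214) (tt N25512 (iv0 D86892)) (tt N27903 F295215) (tt N52105 (iv3 F295307)) (tt N51140 (iv4 F295446)) (tt N82603 D181923) (tt N51138 (iv6 F295444)) (tt N27785 F295216))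
theorem Q48528 : ∀ i, i < 48528 → P i := stepQ 48527 Q48527 (allL N48527 (tt N27903 F295218) (tt N27785 F295219) (tt N25512 (iv2 D86894)) (tt N27894 F295220) (tt N49497 F295221) (tt N82604 D181927) (tt N48960 (iv6 F134940)) (tt N27904 F295222))
theorem Q48529 : ∀ i, i < 48529 → P i := stepQ 48528 Q48528 (allL N48528 (tt N82605 D181928) (tt N52120 (iv0 F295180)) (tt N82604 (iv2 F283225)) (tt N25513 F133319) (tt N82606 D181930) (tt N25512 (iv5 D86895)) (tt N82607 D181931) (tt N27905 F294689))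
theorem Q48530 : ∀ i, i < 48530 → P i := stepQ 48529 Q48529 (allL N48529 (tt N26369 (iv1 F133322)) (tt N25513 (iv0 D86896)) (tt N27897 (iv2 F293572)) (tt N50530 (iv3 F140145)) (tt N48681 (iv4 F134053)) (tt N26363 F133320) (tt N82608 D181932) (tt N27898 F292824))
theorem Q48531 : ∀ i, i < 48531 → P i := stepQ 48530 Q48530 (allL N48530 (tt N82609 D181933) (tt N73642 (iv0 F331294)) (tt N27900 F294690) (tt N82607 (iv3 F283226)) (tt N79684 (iv4 F257731)) (tt N48963 (iv5 F134944)) (tt N25513 (iv6 D86897)) (tt N82610 D181935))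
theorem Q48532 : ∀ i, i < 48532 → P i := stepQ 48531 Q48531 (allL N48531 (tt N46721 F133326) (tt N46719 F133327) (tt N28610 F133324) (tt N42466 F133325) (tt N25514 (iv4 D86898)) (tt N78932 (iv5 F251429)) (tt N76160 (iv6 F304004)) (tt N48994 (iv7 F135002)))
theorem Q48533 : ∀ i, i < 48533 → P i := stepQ 48532 Q48532 (allL N48532 (tt N80435 (iv1 F340973)) (tt N80437 (iv0 F337196)) (tt N28611 F133328) (tt N25516 F133329) (tt N76160 (iv4 F304003)) (tt N82611 D181939) (tt N25514 (iv6 D86899)) (tt N63933 (iv7 F304528)))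
theorem Q48534 : ∀ i, i < 48534 → P i := stepQ 48533 Q48533 (allL N48533 (tt N49283 (iv1 F135749)) (tt N25515 (iv0 D86900)) (tt N49280 (iv2 F283588)) (tt N78995 (iv3 F251694)) (tt N82612 D181942) (tt N77049 (iv5 F363130)) (tt N53172 (iv6 F289321)) (tt N49281 (iv7 F283587)))
theorem Q48535 : ∀ i, i < 48535 → P i := stepQ 48534 Q48534 (allL N48534 (tt N25515 (iv1 D86901)) (tt N49283 F135748) (tt N49281 (iv2 F283586)) (tt N52511 F149855) (tt N82613 D181945) (tt N82614 D181946) (tt N53039 (iv6 F289317)) (tt N49280 (iv7 F283589)))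
theorem Q48536 : ∀ i, i < 48536 → P i := stepQ 48535 Q48535 (allL N48535 (tt N82615 D181948) (tt N82616 D181949) (tt N49282 (iv2 F135741)) (tt N25518 F133330) (tt N82617 D181950) (tt N25515 (iv5 D86902)) (tt N82611 (iv6 F283234)) (tt N82618 D181951))
theorem Q48537 : ∀ i, i < 48537 → P i := stepQ 48536 Q48536 (allL N48536 (tt N49281 (iv1 F135740)) (tt N49280 F135747) (tt N49283 (iv2 F135743)) (tt N25519 F133331) (tt N48536 F133332) (tt N82618 (iv5 F283246)) (tt N49386 (iv6 F136194)) (tt N25515 (iv7 D86903)))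
theorem Q48538 : ∀ i, i < 48538 → P i := stepQ 48537 Q48537 (allL N48537 (tt N77276 (iv1 F307554)) (tt N54154 (iv0 F156112)) (tt N25539 F133334) (tt N82611 (iv3 F283233)) (tt N82619 D181962) (tt N25516 (iv5 D86906)) (tt N25518 F133335) (tt N63934 (iv7 F304530)))
theorem Q48539 : ∀ i, i < 48539 → P i := stepQ 48538 Q48538 (allL N48538 (tt N49571 (iv1 F337274)) (tt N82620 D181965) (tt N82621 D181966) (tt N25517 (iv3 D86908)) (tt N26799 F133341) (tt N82622 D181967) (tt N29320 (iv6 F292114)) (tt N25540 F133342))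
theorem Q48540 : ∀ i, i < 48540 → P i := stepQ 48539 Q48539 (allL N48539 (tt N49155 (iv1 F135251)) (tt N27065 F133345) (tt N25544 F133343) (tt N82622 (iv3 F283263)) (tt N77083 (iv4 F337942)) (tt N25517 (iv5 D86909)) (tt N77082 (iv6 F345155)) (tt N25541 F133344))
theorem Q48541 : ∀ i, i < 48541 → P i := stepQ 48540 Q48540 (allL N48540 (tt N82623 D181970) (tt N49153 (iv0 F135244)) (tt N25548 F133346) (tt N82624 D181971) (tt N25518 (iv4 D86910)) (tt N25868 F133347) (tt N82619 (iv6 F283250)) (tt N25867 (iv7 F133348)))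
theorem Q48542 : ∀ i, i < 48542 → P i := stepQ 48541 Q48541 (allL N48541 (tt N25547 (iv1 F133352)) (tt N25546 F133353) (tt N25549 F133349) (tt N82618 (iv3 F283245)) (tt N25867 F133350) (tt N25519 F133351) (tt N77336 (iv6 F342723)) (tt N25518 (iv7 D86911)))
theorem Q48543 : ∀ i, i < 48543 → P i := stepQ 48542 Q48542 (allL N48542 (tt N25521 (iv1 F133356)) (tt N25520 (iv0 D86912)) (tt N25552 (iv2 F133355)) (tt N49490 (iv3 F136684)) (tt N25971 F133354) (tt N49152 (iv5 F135239)) (tt N25618 (iv6 F133358)) (tt N25522 F133357))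
theorem Q48544 : ∀ i, i < 48544 → P i := stepQ 48543 Q48543 (allL N48543 (tt N49159 (iv1 F135276)) (tt N49157 (iv0 F135262)) (tt N25554 F133359) (tt N52881 (iv3 F151775)) (tt N82625 D181973) (tt N25520 (iv5 D86913)) (tt N82626 D181974) (tt N25561 F133360))
theorem Q48545 : ∀ i, i < 48545 → P i := stepQ 48544 Q48544 (allL N48544 (tt N49157 (iv1 F135263)) (tt N49159 (iv0 F135275)) (tt N25561 F133365) (tt N49700 (iv3 F137086)) (tt N77069 (iv4 F338034)) (tt N25521 (iv5 D86915)) (tt N77068 (iv6 F338039)) (tt N25554 F133366))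
theorem Q48546 : ∀ i, i < 48546 → P i := stepQ 48545 Q48545 (allL N48545 (tt N25889 F133368) (tt N25909 F133369) (tt N25616 F133367) (tt N49489 (iv3 F136682)) (tt N82627 D181977) (tt N25522 (iv5 D86916)) (tt N43564 F306630) (tt N49152 (iv7 F135238)))
theorem Q48547 : ∀ i, i < 48547 → P i := stepQ 48546 Q48546 (allL N48546 (tt N48662 (iv1 F295250)) (tt N48661 (iv0 F295247)) (tt N25524 F133370) (tt N25666 F133371) (tt N27038 F295223) (tt N72116 (iv5 F338416)) (tt N25523 (iv6 D86917)) (tt N48663 (iv7 F295246)))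
theorem Q48548 : ∀ i, i < 48548 → P i := stepQ 48547 Q48547 (allL N48547 (tt N25524 (iv1 D86918)) (tt N48663 (iv0 F295242)) (tt N48661 (iv2 F295248)) (tt N52917 (iv3 F151855)) (tt N48700 (iv4 F134128)) (tt N39747 (iv5 F333861)) (tt N71871 (iv6 F329310)) (tt N48662 (iv7 F295252)))
theorem Q48549 : ∀ i, i < 48549 → P i := stepQ 48548 Q48548 (allL N48548 (tt N52922 (iv1 F289978)) (tt N72038 (iv0 F341225)) (tt N72116 (iv2 F338414)) (tt N25527 F133373) (tt N82628 D181983) (tt N25524 (iv5 D86919)) (tt N42540 F133374) (tt N38810 F337818))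
theorem Q48550 : ∀ i, i < 48550 → P i := stepQ 48549 Q48549 (allL N48549 (tt N71894 (iv1 F339701)) (tt N82629 D181992) (tt N25673 F133376) (tt N42540 F133377) (tt N78406 (iv4 F295106)) (tt N25525 (iv5 D86922)) (tt N25527 F133378) (tt N43666 (iv7 F308297)))
theorem Q48551 : ∀ i, i < 48551 → P i := stepQ 48550 Q48550 (allL N48550 (tt N25557 (iv1 F133403)) (tt N25563 (iv0 F133402)) (tt N25680 F133400) (tt N49501 (iv3 F136713)) (tt N26055 F133401) (tt N48838 (iv5 F134643)) (tt N25526 (iv6 D86928)) (tt N49149 (iv7 F135230)))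
theorem Q48552 : ∀ i, i < 48552 → P i := stepQ 48551 Q48551 (allL N48551 (tt N53112 (iv1 F272722)) (tt N49465 F233106) (tt N42538 F133424) (tt N25530 F133425) (tt N38299 F305763) (tt N82630 D182024) (tt N25528 (iv6 D86936)) (tt N53111 F233029))
theorem Q48553 : ∀ i, i < 48553 → P i := stepQ 48552 Q48552 (allL N48552 (tt N53157 (iv1 F152555)) (tt N49477 (iv0 F140420)) (tt N52870 (iv2 F151742)) (tt N25532 F133427) (tt N82631 D182025) (tt N25529 (iv5 D86937)) (tt N82630 (iv6 F283408)) (tt N51445 (iv7 F145003)))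
theorem Q48554 : ∀ i, i < 48554 → P i := stepQ 48553 Q48553 (allL N48553 (tt N25633 (iv1 F133433)) (tt N25530 (iv0 D86938)) (tt N25630 F281940) (tt N47837 (iv3 F234472)) (tt N35368 F307011) (tt N76934 (iv5 F308827)) (tt N35366 (iv6 F308578)) (tt N25631 F281941))
theorem Q48555 : ∀ i, i < 48555 → P i := stepQ 48554 Q48554 (allL N48554 (tt N25530 (iv1 D86939)) (tt N25633 F133428) (tt N25631 F281944) (tt N81193 (iv3 F319025)) (tt N35389 F307009) (tt N76933 (iv5 F308819)) (tt N80524 (iv6 F308822)) (tt N25630 F281945))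
theorem Q48556 : ∀ i, i < 48556 → P i := stepQ 48555 Q48555 (allL N48555 (tt N82632 D182030) (tt N82633 D182031) (tt N25632 F133429) (tt N82630 (iv3 F283407)) (tt N82634 D182032) (tt N25530 (iv5 D86940)) (tt N25532 F133430) (tt N82635 D182033))
theorem Q48557 : ∀ i, i < 48557 → P i := stepQ 48556 Q48556 (allL N48556 (tt N25631 (iv1 F133434)) (tt N25630 F133435) (tt N25633 F133431) (tt N53111 F233028) (tt N48164 F302719) (tt N82635 (iv5 F283430)) (tt N25674 F133432) (tt N25530 (iv7 D86941)))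
theorem Q48558 : ∀ i, i < 48558 → P i := stepQ 48557 Q48557 (allL N48557 (tt N26756 F295012) (tt N26759 F295013) (tt N25635 F133436) (tt N50494 F295014) (tt N82636 D182034) (tt N25531 (iv5 D86942)) (tt N82637 D182035) (tt N25637 F133437))
theorem Q48559 : ∀ i, i < 48559 → P i := stepQ 48558 Q48558 (allL N48558 (tt N25642 (iv1 F133448)) (tt N25532 (iv0 D86944)) (tt N25639 (iv2 F133449)) (tt N50497 (iv3 F294857)) (tt N82638 D182036) (tt N25906 F133447) (tt N82639 D182037) (tt N25640 (iv7 F133450)))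
theorem Q48560 : ∀ i, i < 48560 → P i := stepQ 48559 Q48559 (allL N48559 (tt N25532 (iv1 D86945)) (tt N25642 F133451) (tt N25640 (iv2 F133454)) (tt N82640 D182038) (tt N82641 D182039) (tt N25727 F133453) (tt N82642 D182040) (tt N25639 F133452))
theorem Q48561 : ∀ i, i < 48561 → P i := stepQ 48560 Q48560 (allL N48560 (tt N50582 F295016) (tt N50575 (iv0 F295235)) (tt N25641 F133455) (tt N82643 D182041) (tt N25532 (iv4 D86946)) (tt N48740 (iv5 F134186)) (tt N82634 (iv6 F283428)) (tt N48739 (iv7 F134182)))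
theorem Q48562 : ∀ i, i < 48562 → P i := stepQ 48561 Q48561 (allL N48561 (tt N49617 (iv1 F337266)) (tt N49612 (iv0 F337267)) (tt N49604 (iv2 F136903)) (tt N46877 F133456) (tt N61397 F178755) (tt N64475 (iv5 F304522)) (tt N25533 (iv6 D86947)) (tt N49616 (iv7 F337235)))
theorem Q48563 : ∀ i, i < 48563 → P i := stepQ 48562 Q48562 (allL N48562 (tt N25540 (iv1 F333362)) (tt N82621 (iv0 F333363)) (tt N49571 (iv2 F136853)) (tt N53049 (iv3 F152154)) (tt N51236 (iv4 F144542)) (tt N82644 D182048) (tt N25534 (iv6 D86948)) (tt N82620 (iv7 F364167)))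
theorem Q48564 : ∀ i, i < 48564 → P i := stepQ 48563 Q48563 (allL N48563 (tt N48666 (iv1 F294195)) (tt N25535 (iv0 D86949)) (tt N48665 (iv2 F344266)) (tt N49575 F150720) (tt N82645 D182051) (tt N71851 (iv5 F338483)) (tt N82646 D182053) (tt N48664 (iv7 F344267)))
theorem Q48565 : ∀ i, i < 48565 → P i := stepQ 48564 Q48564 (allL N48564 (tt N25535 (iv1 D86950)) (tt N48666 (iv0 F294194)) (tt N48664 F344268) (tt N82647 D182055) (tt N51246 (iv4 F144568)) (tt N82648 D182056) (tt N82649 D182057) (tt N48665 F344269))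
theorem Q48566 : ∀ i, i < 48566 → P i := stepQ 48565 Q48565 (allL N48565 (tt N70357 (iv1 F328105)) (tt N70356 (iv0 F328104)) (tt N70358 (iv2 F327071)) (tt N25536 F133457) (tt N82650 D182060) (tt N25535 (iv5 D86951)) (tt N54123 (iv6 F156022)) (tt N48667 (iv7 F294199)))
theorem Q48567 : ∀ i, i < 48567 → P i := stepQ 48566 Q48566 (allL N48566 (tt N43327 (iv1 F307996)) (tt N43323 (iv0 F307997)) (tt N46501 F306051) (tt N25538 F133478) (tt N44718 F133479) (tt N82651 D182069) (tt N25537 (iv6 D86956)) (tt N42484 F306052))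
theorem Q48568 : ∀ i, i < 48568 → P i := stepQ 48567 Q48567 (allL N48567 (tt N66873 (iv1 F307172)) (tt N63802 (iv0 F307171)) (tt N46452 F133481) (tt N82651 (iv3 F283474)) (tt N76884 (iv4 F330094)) (tt N25538 (iv5 D86959)) (tt N46449 F133482) (tt N66733 (iv7 F307170)))
theorem Q48569 : ∀ i, i < 48569 → P i := stepQ 48568 Q48568 (allL N48568 (tt N63934 (iv1 F304529)) (tt N25539 (iv0 D86971)) (tt N77276 (iv2 F308322)) (tt N82652 D182128) (tt N77076 (iv4 F345161)) (tt N54155 (iv5 F309031)) (tt N82653 D182131) (tt N54154 (iv7 F308319)))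
theorem Q48570 : ∀ i, i < 48570 → P i := stepQ 48569 Q48569 (allL N48569 (tt N25539 (iv1 D86972)) (tt N63934 F306418) (tt N54154 (iv2 F308318)) (tt N46667 (iv3 F308320)) (tt N77075 (iv4 F308321)) (tt N46666 (iv5 F306610)) (tt N82654 D182135) (tt N77276 (iv7 F308323)))
theorem Q48571 : ∀ i, i < 48571 → P i := stepQ 48570 Q48570 (allL N48570 (tt N82655 D182136) (tt N82656 D182137) (tt N82619 (iv2 F283249)) (tt N82657 D182138) (tt N25539 (iv4 D86973)) (tt N82658 D182139) (tt N25548 F133490) (tt N78329 (iv7 F307555)))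
theorem Q48572 : ∀ i, i < 48572 → P i := stepQ 48571 Q48571 (allL N48571 (tt N82621 (iv1 F283260)) (tt N25540 (iv0 D86975)) (tt N82620 (iv2 F364166)) (tt N49574 (iv3 F337238)) (tt N82659 D182143) (tt N82660 D182144) (tt N49616 (iv6 F287407)) (tt N49571 (iv7 F333364)))
theorem Q48573 : ∀ i, i < 48573 → P i := stepQ 48572 Q48572 (allL N48572 (tt N82620 (iv1 F283261)) (tt N49571 (iv0 F337273)) (tt N25540 (iv2 D86977)) (tt N46756 F335666) (tt N26816 F133492) (tt N82661 D182151) (tt N82662 D182152) (tt N82621 (iv7 F283259)))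
theorem Q48574 : ∀ i, i < 48574 → P i := stepQ 48573 Q48573 (allL N48573 (tt N82663 D182153) (tt N82664 D182154) (tt N82661 (iv2 F283605)) (tt N25541 F133493) (tt N82665 D182155) (tt N25540 (iv5 D86978)) (tt N82666 D182156) (tt N82622 (iv7 F283264)))
theorem Q48575 : ∀ i, i < 48575 → P i := stepQ 48574 Q48574 (allL N48574 (tt N71862 (iv1 F335761)) (tt N82667 D182158) (tt N82662 (iv2 F283606)) (tt N25542 F133494) (tt N50074 (iv4 F138818)) (tt N54111 (iv5 F155986)) (tt N25540 (iv6 D86979)) (tt N51461 (iv7 F145060)))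
theorem Q48576 : ∀ i, i < 48576 → P i := stepQ 48575 Q48575 (allL N48575 (tt N25544 (iv1 F133496)) (tt N25541 (iv0 D86980)) (tt N27065 (iv2 F133497)) (tt N82668 D182159) (tt N82669 D182160) (tt N25774 F133495) (tt N82670 D182161) (tt N49155 (iv7 F135249)))
theorem Q48577 : ∀ i, i < 48577 → P i := stepQ 48576 Q48576 (allL N48576 (tt N82671 D182164) (tt N82672 D182165) (tt N49763 (iv2 F137170)) (tt N82673 D182166) (tt N25541 (iv4 D86982)) (tt N25861 F133501) (tt N82674 D182167) (tt N77083 (iv7 F337944)))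
theorem Q48578 : ∀ i, i < 48578 → P i := stepQ 48577 Q48577 (allL N48577 (tt N82675 D182168) (tt N82676 D182169) (tt N49764 (iv2 F137173)) (tt N82666 (iv3 F283608)) (tt N82674 (iv4 F283629)) (tt N54113 (iv5 F155991)) (tt N25541 (iv6 D86983)) (tt N82677 D182170))
theorem Q48579 : ∀ i, i < 48579 → P i := stepQ 48578 Q48578 (allL N48578 (tt N25543 (iv1 D86985)) (tt N46756 F335655) (tt N49760 (iv2 F335737)) (tt N49541 (iv3 F289542)) (tt N49623 (iv4 F137163)) (tt N82678 D182176) (tt N49623 (iv6 F289536)) (tt N27977 (iv7 F289543)))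
theorem Q48580 : ∀ i, i < 48580 → P i := stepQ 48579 Q48579 (allL N48579 (tt N27977 F335736) (tt N49760 F137154) (tt N25543 (iv2 D86986)) (tt N82621 (iv3 F283257)) (tt N46724 F335613) (tt N82679 D182178) (tt N78171 (iv6 F340075)) (tt N46756 (iv7 F335623)))
theorem Q48581 : ∀ i, i < 48581 → P i := stepQ 48580 Q48580 (allL N48580 (tt N82680 D182180) (tt N82681 D182181) (tt N82679 (iv2 F283633)) (tt N25544 F133502) (tt N82682 D182182) (tt N25543 (iv5 D86987)) (tt N82683 D182183) (tt N49761 (iv7 F137166)))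
theorem Q48582 : ∀ i, i < 48582 → P i := stepQ 48581 Q48581 (allL N48581 (tt N72619 (iv1 F356417)) (tt N72606 (iv0 F329815)) (tt N78171 (iv2 F340073)) (tt N25545 F133503) (tt N27001 F292869) (tt N50647 (iv5 F140494)) (tt N25543 (iv6 D86988)) (tt N29321 F292870))
theorem Q48583 : ∀ i, i < 48583 → P i := stepQ 48582 Q48582 (allL N48582 (tt N82672 (iv1 F283625)) (tt N82671 F283624) (tt N77083 F337946) (tt N64336 (iv3 F364077)) (tt N25544 (iv4 D86989)) (tt N25857 F133504) (tt N63378 (iv6 F337953)) (tt N49763 (iv7 F137171)))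
theorem Q48584 : ∀ i, i < 48584 → P i := stepQ 48583 Q48583 (allL N48583 (tt N82684 D182188) (tt N82685 D182189) (tt N77082 (iv2 F345153)) (tt N82683 (iv3 F283635)) (tt N63378 (iv4 F337952)) (tt N50649 (iv5 F140500)) (tt N25544 (iv6 D86990)) (tt N76872 (iv7 F364079)))
theorem Q48585 : ∀ i, i < 48585 → P i := stepQ 48584 Q48584 (allL N48584 (tt N82660 (iv1 F287410)) (tt N82644 (iv0 F333367)) (tt N82686 D182192) (tt N25546 (iv3 D86991)) (tt N82687 D182193) (tt N49069 (iv5 F135144)) (tt N82688 D182194) (tt N49068 F135142))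
theorem Q48586 : ∀ i, i < 48586 → P i := stepQ 48585 Q48585 (allL N48585 (tt N82689 D182195) (tt N48690 (iv0 F134102)) (tt N54648 (iv2 F157215)) (tt N82690 D182196) (tt N25546 (iv4 D86992)) (tt N25853 F133505) (tt N82691 D182197) (tt N49080 (iv7 F337948)))
theorem Q48587 : ∀ i, i < 48587 → P i := stepQ 48586 Q48586 (allL N48586 (tt N82692 D182198) (tt N82693 D182199) (tt N54649 (iv2 F157218)) (tt N82688 (iv3 F283638)) (tt N82691 (iv4 F283644)) (tt N51454 (iv5 F145048)) (tt N25546 (iv6 D86993)) (tt N82691 (iv7 F337951)))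
theorem Q48588 : ∀ i, i < 48588 → P i := stepQ 48587 Q48587 (allL N48587 (tt N52758 (iv1 F352774)) (tt N82678 (iv0 F335674)) (tt N82694 D182203) (tt N25547 (iv3 D86994)) (tt N82695 D182204) (tt N28958 F133506) (tt N82696 D182205) (tt N54647 (iv7 F157214)))
theorem Q48589 : ∀ i, i < 48589 → P i := stepQ 48588 Q48588 (allL N48588 (tt N48690 (iv1 F134103)) (tt N82689 F283641) (tt N49080 (iv2 F337947)) (tt N82696 (iv3 F337949)) (tt N25547 (iv4 D86995)) (tt N25845 F133507) (tt N25547 (iv6 F337950)) (tt N54648 (iv7 F157217)))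
theorem Q48590 : ∀ i, i < 48590 → P i := stepQ 48589 Q48589 (allL N48589 (tt N25867 (iv1 F133511)) (tt N25548 (iv0 D86997)) (tt N82623 F283272) (tt N82697 D182211) (tt N25889 F133509) (tt N25904 (iv5 F133510)) (tt N82698 D182212) (tt N49153 (iv7 F135242)))
theorem Q48591 : ∀ i, i < 48591 → P i := stepQ 48590 Q48590 (allL N48590 (tt N25548 (iv1 D86998)) (tt N25867 F133512) (tt N49153 (iv2 F135241)) (tt N82699 D182213) (tt N25909 (iv4 F133513)) (tt N25882 F133514) (tt N25884 (iv6 F329950)) (tt N82623 (iv7 F283274)))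
theorem Q48592 : ∀ i, i < 48592 → P i := stepQ 48591 Q48591 (allL N48591 (tt N82700 D182215) (tt N82701 D182216) (tt N82702 D182217) (tt N25548 (iv3 D86999)) (tt N49758 (iv4 F137146)) (tt N82703 D182218) (tt N82657 (iv6 F283520)) (tt N82704 D182219))
theorem Q48593 : ∀ i, i < 48593 → P i := stepQ 48592 Q48592 (allL N48592 (tt N25865 (iv1 F133518)) (tt N25864 F133519) (tt N25868 F133515) (tt N82703 (iv3 F283655)) (tt N25697 F133516) (tt N25548 (iv5 D87000)) (tt N82705 D182220) (tt N25696 F133517))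
theorem Q48594 : ∀ i, i < 48594 → P i := stepQ 48593 Q48593 (allL N48593 (tt N49153 (iv1 F135245)) (tt N82623 F283273) (tt N25867 F133520) (tt N82704 (iv3 F283657)) (tt N25549 F133521) (tt N25696 F133522) (tt N82706 D182221) (tt N25548 (iv7 D87001)))
theorem Q48595 : ∀ i, i < 48595 → P i := stepQ 48594 Q48594 (allL N48594 (tt N77334 (iv1 F336385)) (tt N77333 (iv0 F342725)) (tt N77336 (iv2 F342721)) (tt N49739 (iv3 F137119)) (tt N82706 (iv4 F283662)) (tt N49638 (iv5 F136971)) (tt N25549 (iv6 D87002)) (tt N64707 (iv7 F307556)))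
theorem Q48596 : ∀ i, i < 48596 → P i := stepQ 48595 Q48595 (allL N48595 (tt N53070 (iv1 F152402)) (tt N53069 (iv0 F152401)) (tt N53072 (iv2 F152406)) (tt N25552 (iv3 D87005)) (tt N26339 F133538) (tt N82707 D182224) (tt N49864 (iv6 F137665)) (tt N25614 F133539))
theorem Q48597 : ∀ i, i < 48597 → P i := stepQ 48596 Q48596 (allL N48596 (tt N25909 F133541) (tt N25889 F133542) (tt N49152 F135240) (tt N82707 (iv3 F283663)) (tt N82708 D182225) (tt N25552 (iv5 D87006)) (tt N82709 D182226) (tt N25616 F133540))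
theorem Q48598 : ∀ i, i < 48598 → P i := stepQ 48597 Q48597 (allL N48597 (tt N49696 (iv1 F137081)) (tt N25553 (iv0 D87007)) (tt N49699 (iv2 F335695)) (tt N34804 F335672) (tt N48698 F335673) (tt N82710 D182229) (tt N42794 (iv6 F335708)) (tt N25619 (iv7 F335692)))
theorem Q48599 : ∀ i, i < 48599 → P i := stepQ 48598 Q48598 (allL N48598 (tt N49699 (iv1 F137085)) (tt N25619 (iv0 F335586)) (tt N25553 (iv2 D87009)) (tt N52871 (iv3 F151746)) (tt N49406 (iv4 F136222)) (tt N82711 D182236) (tt N82712 D182237) (tt N49696 (iv7 F137078)))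
theorem Q48600 : ∀ i, i < 48600 → P i := stepQ 48599 Q48599 (allL N48599 (tt N82713 D182238) (tt N82714 D182239) (tt N82711 (iv2 F283678)) (tt N25554 F133543) (tt N82715 D182240) (tt N25553 (iv5 D87010)) (tt N82716 D182241) (tt N49700 (iv7 F137087)))
theorem Q48601 : ∀ i, i < 48601 → P i := stepQ 48600 Q48600 (allL N48600 (tt N39690 (iv1 F335572)) (tt N39687 (iv0 F335573)) (tt N82712 (iv2 F283679)) (tt N25555 F133544) (tt N49408 (iv4 F136230)) (tt N78090 (iv5 F335579)) (tt N25553 (iv6 D87011)) (tt N51463 (iv7 F145061)))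
theorem Q48602 : ∀ i, i < 48602 → P i := stepQ 48601 Q48601 (allL N48601 (tt N25561 (iv1 F133546)) (tt N25554 (iv0 D87012)) (tt N49159 (iv2 F135273)) (tt N82717 D182245) (tt N82718 D182246) (tt N25767 F133545) (tt N82719 D182247) (tt N49157 (iv7 F135261)))
theorem Q48603 : ∀ i, i < 48603 → P i := stepQ 48602 Q48602 (allL N48602 (tt N25554 (iv1 D87013)) (tt N25561 F133547) (tt N49157 (iv2 F135260)) (tt N82720 D182248) (tt N82721 D182249) (tt N25883 F133548) (tt N82722 D182250) (tt N49159 (iv7 F135274)))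
theorem Q48604 : ∀ i, i < 48604 → P i := stepQ 48603 Q48603 (allL N48603 (tt N82669 (iv1 F283614)) (tt N55606 (iv0 F294285)) (tt N82625 (iv2 F283282)) (tt N82723 D182251) (tt N25554 (iv4 D87014)) (tt N25865 F133549) (tt N82724 D182252) (tt N77069 (iv7 F338036)))
theorem Q48605 : ∀ i, i < 48605 → P i := stepQ 48604 Q48604 (allL N48604 (tt N82725 D182253) (tt N82726 D182254) (tt N82626 (iv2 F283286)) (tt N82716 (iv3 F283680)) (tt N82724 (iv4 F283697)) (tt N82727 D182255) (tt N25554 (iv6 D87015)) (tt N82728 D182256))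
theorem Q48606 : ∀ i, i < 48606 → P i := stepQ 48605 Q48605 (allL N48605 (tt N25555 (iv1 D87016)) (tt N29319 (iv0 F291920)) (tt N49927 (iv2 F137960)) (tt N49824 F137340) (tt N26243 (iv4 F133551)) (tt N29361 F134175) (tt N48939 (iv6 F134915)) (tt N25638 F133550))
theorem Q48607 : ∀ i, i < 48607 → P i := stepQ 48606 Q48606 (allL N48606 (tt N25711 F133552) (tt N52451 (iv0 F292401)) (tt N51466 (iv2 F145068)) (tt N78090 (iv3 F335578)) (tt N54115 F156000) (tt N25555 (iv5 D87017)) (tt N82727 (iv6 F283698)) (tt N51464 (iv7 F145063)))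
theorem Q48608 : ∀ i, i < 48608 → P i := stepQ 48607 Q48607 (allL N48607 (tt N25862 F133556) (tt N25858 F133557) (tt N27066 F133553) (tt N82729 D182257) (tt N25556 (iv4 D87018)) (tt N28959 F133555) (tt N29235 F292867) (tt N25686 F133554))
theorem Q48609 : ∀ i, i < 48609 → P i := stepQ 48608 Q48608 (allL N48608 (tt N25563 (iv1 F133559)) (tt N25557 (iv0 D87019)) (tt N49149 (iv2 F135229)) (tt N82730 D182258) (tt N26240 F133558) (tt N48839 (iv5 F134649)) (tt N29313 (iv6 F292839)) (tt N25680 F133560))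
theorem Q48610 : ∀ i, i < 48610 → P i := stepQ 48609 Q48609 (allL N48609 (tt N71867 (iv1 F335581)) (tt N71871 (iv0 F335580)) (tt N71136 (iv2 F346016)) (tt N25557 (iv3 D87020)) (tt N53173 (iv4 F152604)) (tt N82731 D182262) (tt N54935 F294174) (tt N49866 F137677))
theorem Q48611 : ∀ i, i < 48611 → P i := stepQ 48610 Q48610 (allL N48610 (tt N25875 F133561) (tt N25712 F133562) (tt N51704 F147067) (tt N82731 (iv3 F283706)) (tt N25864 F133563) (tt N25557 (iv5 D87021)) (tt N77379 (iv6 F338027)) (tt N49870 (iv7 F137685)))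
theorem Q48612 : ∀ i, i < 48612 → P i := stepQ 48611 Q48611 (allL N48611 (tt N25558 (iv1 D87023)) (tt N28373 F292047) (tt N49174 (iv2 F135306)) (tt N25566 F133573) (tt N26358 F133571) (tt N25747 F133570) (tt N26645 (iv6 F133572)) (tt N25659 F133569))
theorem Q48613 : ∀ i, i < 48613 → P i := stepQ 48612 Q48612 (allL N48612 (tt N27260 (iv1 F133577)) (tt N25559 (iv0 D87024)) (tt N26645 (iv2 F133576)) (tt N28468 F292172) (tt N26352 (iv4 F133579)) (tt N26644 F133580) (tt N49174 (iv6 F135308)) (tt N25658 F133578))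
theorem Q48614 : ∀ i, i < 48614 → P i := stepQ 48613 Q48613 (allL N48613 (tt N82732 D182265) (tt N53616 (iv0 F283621)) (tt N52882 (iv2 F151777)) (tt N25561 F133583) (tt N82733 D182266) (tt N25560 (iv5 D87026)) (tt N82734 D182267) (tt N52881 (iv7 F151776)))
theorem Q48615 : ∀ i, i < 48615 → P i := stepQ 48614 Q48614 (allL N48614 (tt N82735 D182268) (tt N49515 (iv0 F136738)) (tt N52883 (iv2 F151778)) (tt N25562 F133584) (tt N52478 (iv4 F149753)) (tt N53771 (iv5 F154572)) (tt N25560 (iv6 D87027)) (tt N29317 (iv7 F294033)))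
theorem Q48616 : ∀ i, i < 48616 → P i := stepQ 48615 Q48615 (allL N48615 (tt N55606 (iv1 F294286)) (tt N82669 (iv0 F283613)) (tt N77069 (iv2 F338033)) (tt N82736 D182269) (tt N25561 (iv4 D87028)) (tt N25864 F133585) (tt N76966 (iv6 F338043)) (tt N82625 (iv7 F283283)))
theorem Q48617 : ∀ i, i < 48617 → P i := stepQ 48616 Q48616 (allL N48616 (tt N82737 D182271) (tt N82738 D182272) (tt N77068 (iv2 F338038)) (tt N82734 (iv3 F283711)) (tt N76966 (iv4 F338042)) (tt N82739 D182273) (tt N25561 (iv6 D87029)) (tt N77063 (iv7 F338044)))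
theorem Q48618 : ∀ i, i < 48618 → P i := stepQ 48617 Q48617 (allL N48617 (tt N27557 (iv1 F292375)) (tt N25562 (iv0 D87030)) (tt N29313 (iv2 F292838)) (tt N50464 (iv3 F292004)) (tt N48902 F291821) (tt N29350 F133586) (tt N49149 F135234) (tt N25677 (iv7 F133587)))
theorem Q48619 : ∀ i, i < 48619 → P i := stepQ 48618 Q48618 (allL N48618 (tt N25728 (iv1 F133589)) (tt N25726 F133588) (tt N29315 (iv2 F293566)) (tt N53771 F154573) (tt N50651 (iv4 F140504)) (tt N25562 (iv5 D87032)) (tt N82739 (iv6 F283718)) (tt N29318 (iv7 F293563)))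
theorem Q48620 : ∀ i, i < 48620 → P i := stepQ 48619 Q48619 (allL N48619 (tt N52998 (iv1 F151982)) (tt N49790 (iv0 F137248)) (tt N53002 (iv2 F287747)) (tt N25563 (iv3 D87033)) (tt N52428 (iv4 F149598)) (tt N72664 (iv5 F340570)) (tt N49444 F136477) (tt N53001 F151990))
theorem Q48621 : ∀ i, i < 48621 → P i := stepQ 48620 Q48620 (allL N48620 (tt N25712 F133591) (tt N25875 F133592) (tt N49870 (iv2 F137684)) (tt N72664 (iv3 F340569)) (tt N25865 F133590) (tt N25563 (iv5 D87034)) (tt N82740 D182278) (tt N51704 (iv7 F147069)))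
theorem Q48622 : ∀ i, i < 48622 → P i := stepQ 48621 Q48621 (allL N48621 (tt N26430 (iv1 F133594)) (tt N25564 (iv0 D87035)) (tt N26961 (iv2 F133595)) (tt N82741 D182279) (tt N67917 (iv4 F321774)) (tt N25936 F133593) (tt N82033 (iv6 F336014)) (tt N48625 (iv7 F133613)))
theorem Q48623 : ∀ i, i < 48623 → P i := stepQ 48622 Q48622 (allL N48622 (tt N82742 D182283) (tt N54864 (iv0 F291384)) (tt N50762 (iv2 F142289)) (tt N82743 D182285) (tt N25564 (iv4 D87037)) (tt N50237 F139305) (tt N80713 (iv6 F326544)) (tt N48626 (iv7 F133614)))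
theorem Q48624 : ∀ i, i < 48624 → P i := stepQ 48623 Q48623 (allL N48623 (tt N26270 F133602) (tt N27273 F133603) (tt N26998 F133599) (tt N82744 D182290) (tt N25566 (iv4 D87039)) (tt N50886 (iv5 F142895)) (tt N26648 F133600) (tt N26294 F290832))
theorem Q48625 : ∀ i, i < 48625 → P i := stepQ 48624 Q48624 (allL N48624 (tt N26404 (iv1 F133608)) (tt N25567 (iv0 D87040)) (tt N27250 (iv2 F133607)) (tt N82745 D182291) (tt N29019 F133605) (tt N25949 F133604) (tt N26593 F133606) (tt N26772 (iv7 F291353)))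
theorem Q48626 : ∀ i, i < 48626 → P i := stepQ 48625 Q48625 (allL N48625 (tt N26806 (iv1 F133612)) (tt N25568 (iv0 D87041)) (tt N29089 F292548) (tt N78959 (iv3 F251565)) (tt N82746 D182292) (tt N25939 F133610) (tt N51553 (iv6 F145477)) (tt N48621 F133613))
theorem Q48627 : ∀ i, i < 48627 → P i := stepQ 48626 Q48626 (allL N48626 (tt N82747 D182293) (tt N51092 (iv0 F143479)) (tt N50083 (iv2 F138831)) (tt N82748 D182294) (tt N25568 (iv4 D87042)) (tt N50895 (iv5 F142937)) (tt N61286 (iv6 F178523)) (tt N48622 F133614))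
theorem Q48628 : ∀ i, i < 48628 → P i := stepQ 48627 Q48627 (allL N48627 (tt N27335 (iv1 F133634)) (tt N25571 (iv0 D87047)) (tt N27334 F254754) (tt N51230 F144525) (tt N82749 D182297) (tt N52922 (iv5 F295085)) (tt N49160 (iv6 F295087)) (tt N27333 F254755))
theorem Q48629 : ∀ i, i < 48629 → P i := stepQ 48628 Q48628 (allL N48628 (tt N25571 (iv1 D87048)) (tt N27335 F133637) (tt N27333 F254756) (tt N72045 (iv3 F356320)) (tt N48863 (iv4 F294604)) (tt N72038 (iv5 F341228)) (tt N48861 (iv6 F295091)) (tt N27334 F254757))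
theorem Q48630 : ∀ i, i < 48630 → P i := stepQ 48629 Q48629 (allL N48629 (tt N25573 (iv1 D87053)) (tt N28126 (iv0 F294409)) (tt N52297 (iv2 F294434)) (tt N82750 D182316) (tt N82751 D182317) (tt N82752 D182318) (tt N53352 (iv6 F294435)) (tt N52298 (iv7 F294432)))
theorem Q48631 : ∀ i, i < 48631 → P i := stepQ 48630 Q48630 (allL N48630 (tt N49382 (iv1 F294437)) (tt N53034 (iv0 F294438)) (tt N49598 (iv2 F294436)) (tt N25574 F133643) (tt N73828 (iv4 F352441)) (tt N25573 (iv5 D87055)) (tt N73827 (iv6 F352440)) (tt N52299 (iv7 F148508)))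
theorem Q48632 : ∀ i, i < 48632 → P i := stepQ 48631 Q48631 (allL N48631 (tt N82753 D182325) (tt N82754 D182326) (tt N25587 F133644) (tt N73827 (iv3 F352439)) (tt N65427 (iv4 F201663)) (tt N51196 (iv5 F294442)) (tt N25574 (iv6 D87056)) (tt N82755 D182327))
theorem Q48633 : ∀ i, i < 48633 → P i := stepQ 48632 Q48632 (allL N48632 (tt N82756 D182328) (tt N82757 D182329) (tt N82758 D182330) (tt N25575 (iv3 D87059)) (tt N47627 F133657) (tt N56720 (iv5 F359002)) (tt N50666 (iv6 F296040)) (tt N48289 F133658))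
theorem Q48634 : ∀ i, i < 48634 → P i := stepQ 48633 Q48633 (allL N48633 (tt N52311 (iv1 F295108)) (tt N49524 (iv0 F295109)) (tt N52996 (iv2 F295110)) (tt N25578 F133696) (tt N82759 D182386) (tt N25577 (iv5 D87087)) (tt N82760 D182387) (tt N25671 (iv7 F294521)))
theorem Q48635 : ∀ i, i < 48635 → P i := stepQ 48634 Q48634 (allL N48634 (tt N82761 D182392) (tt N82762 D182393) (tt N38808 F337799) (tt N82760 (iv3 F283942)) (tt N56717 (iv4 F337806)) (tt N51446 (iv5 F294735)) (tt N25578 (iv6 D87089)) (tt N82763 D182395))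
theorem Q48636 : ∀ i, i < 48636 → P i := stepQ 48635 Q48635 (allL N48635 (tt N55600 (iv1 F160956)) (tt N25579 (iv0 D87095)) (tt N55599 (iv2 F361049)) (tt N50546 F140159) (tt N82764 D182407) (tt N70357 (iv5 F328106)) (tt N82765 D182409) (tt N54085 (iv7 F361047)))
theorem Q48637 : ∀ i, i < 48637 → P i := stepQ 48636 Q48636 (allL N48636 (tt N25579 (iv1 D87096)) (tt N55600 F160958) (tt N54085 (iv2 F361046)) (tt N82766 D182411) (tt N52745 (iv4 F151159)) (tt N70356 (iv5 F361056)) (tt N51198 (iv6 F361053)) (tt N55599 (iv7 F361050)))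
theorem Q48638 : ∀ i, i < 48638 → P i := stepQ 48637 Q48637 (allL N48637 (tt N55599 (iv1 F160957)) (tt N54085 (iv0 F348531)) (tt N25579 (iv2 D87097)) (tt N50006 (iv3 F138487)) (tt N51441 (iv4 F291007)) (tt N82767 D182415) (tt N54074 (iv6 F292333)) (tt N55600 (iv7 F160955)))
theorem Q48639 : ∀ i, i < 48639 → P i := stepQ 48638 Q48638 (allL N48638 (tt N29473 F133702) (tt N51442 (iv0 F291010)) (tt N51441 (iv2 F291005)) (tt N25967 F133700) (tt N25579 (iv4 D87098)) (tt N49367 (iv5 F136166)) (tt N26489 (iv6 F290937)) (tt N25990 F133701))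
theorem Q48640 : ∀ i, i < 48640 → P i := stepQ 48639 Q48639 (allL N48639 (tt N82768 D182419) (tt N82769 D182420) (tt N82767 (iv2 F283960)) (tt N25580 F133703) (tt N82770 D182421) (tt N25579 (iv5 D87099)) (tt N71427 (iv6 F345451)) (tt N51597 (iv7 F292474)))
theorem Q48641 : ∀ i, i < 48641 → P i := stepQ 48640 Q48640 (allL N48640 (tt N70275 (iv1 F349658)) (tt N71620 (iv0 F360827)) (tt N50007 (iv2 F138495)) (tt N71427 (iv3 F345450)) (tt N52366 (iv4 F149000)) (tt N54107 (iv5 F293822)) (tt N25580 (iv6 D87101)) (tt N82771 D182430))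
theorem Q48642 : ∀ i, i < 48642 → P i := stepQ 48641 Q48641 (allL N48641 (tt N50006 (iv1 F138490)) (tt N25581 (iv0 D87104)) (tt N50005 (iv2 F328098)) (tt N82772 D182434) (tt N50570 (iv4 F140213)) (tt N59455 F327636) (tt N25809 (iv6 F294424)) (tt N50004 (iv7 F294426)))
theorem Q48643 : ∀ i, i < 48643 → P i := stepQ 48642 Q48642 (allL N48642 (tt N25581 (iv1 D87105)) (tt N50006 F138492) (tt N50004 (iv2 F294425)) (tt N53408 (iv3 F295182)) (tt N50521 (iv4 F140137)) (tt N59456 (iv5 F328769)) (tt N54641 (iv6 F352773)) (tt N50005 (iv7 F328102)))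
theorem Q48644 : ∀ i, i < 48644 → P i := stepQ 48643 Q48643 (allL N48643 (tt N50005 (iv1 F138491)) (tt N50004 F138486) (tt N25581 (iv2 D87106)) (tt N55600 (iv3 F160953)) (tt N27073 F133708) (tt N30956 F327617) (tt N82773 D182442) (tt N50006 (iv7 F138489)))
theorem Q48645 : ∀ i, i < 48645 → P i := stepQ 48644 Q48644 (allL N48644 (tt N82774 D182446) (tt N53470 (iv0 F356416)) (tt N82773 (iv2 F283986)) (tt N25583 F133710) (tt N26500 F133711) (tt N35123 F356456) (tt N25581 (iv6 D87108)) (tt N50659 (iv7 F292173)))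
theorem Q48646 : ∀ i, i < 48646 → P i := stepQ 48645 Q48645 (allL N48645 (tt N26169 (iv1 F292331)) (tt N26157 (iv0 F292330)) (tt N26166 F291550) (tt N35123 F356454) (tt N82775 D182453) (tt N25583 (iv5 D87110)) (tt N38451 F329137) (tt N26167 (iv7 F292174)))
theorem Q48647 : ∀ i, i < 48647 → P i := stepQ 48646 Q48646 (allL N48646 (tt N82776 D182488) (tt N39554 (iv0 F346639)) (tt N49599 (iv2 F295371)) (tt N25587 F133717) (tt N32376 F352456) (tt N29213 (iv5 F295239)) (tt N25584 (iv6 D87124)) (tt N82777 D182490))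
theorem Q48648 : ∀ i, i < 48648 → P i := stepQ 48647 Q48647 (allL N48647 (tt N82778 D182509) (tt N82779 D182510) (tt N82780 D182511) (tt N25586 (iv3 D87129)) (tt N53029 (iv4 F295373)) (tt N52251 (iv5 F148281)) (tt N82781 D182512) (tt N55601 (iv7 F160972)))
theorem Q48649 : ∀ i, i < 48649 → P i := stepQ 48648 Q48648 (allL N48648 (tt N82782 D182513) (tt N82783 D182514) (tt N65427 (iv2 F201662)) (tt N82781 (iv3 F284027)) (tt N25587 F133720) (tt N82784 D182515) (tt N25586 (iv6 D87130)) (tt N82785 D182516))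
theorem Q48650 : ∀ i, i < 48650 → P i := stepQ 48649 Q48649 (allL N48649 (tt N82755 (iv1 F283862)) (tt N25587 (iv0 D87131)) (tt N82753 (iv2 F352435)) (tt N82786 D182518) (tt N82787 D182519) (tt N77409 (iv5 F358597)) (tt N77370 (iv6 F358596)) (tt N82754 (iv7 F359717)))
theorem Q48651 : ∀ i, i < 48651 → P i := stepQ 48650 Q48650 (allL N48650 (tt N25587 (iv1 D87132)) (tt N82755 F283861) (tt N82754 (iv2 F359716)) (tt N40567 (iv3 F350838)) (tt N82788 D182524) (tt N82789 D182525) (tt N82790 D182526) (tt N82753 (iv7 F352436)))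
theorem Q48652 : ∀ i, i < 48652 → P i := stepQ 48651 Q48651 (allL N48651 (tt N82754 (iv1 F283858)) (tt N82753 F283860) (tt N82755 (iv2 F283859)) (tt N82777 (iv3 F284012)) (tt N82785 (iv4 F284028)) (tt N51213 (iv5 F295240)) (tt N55605 (iv6 F160976)) (tt N25587 (iv7 D87133)))
theorem Q48653 : ∀ i, i < 48653 → P i := stepQ 48652 Q48652 (allL N48652 (tt N27675 (iv1 F133781)) (tt N25591 (iv0 D87175)) (tt N27674 (iv2 F138350)) (tt N82791 D182590) (tt N55585 (iv4 F294385)) (tt N48781 (iv5 F294475)) (tt N82792 D182593) (tt N27673 F138351))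
theorem Q48654 : ∀ i, i < 48654 → P i := stepQ 48653 Q48653 (allL N48653 (tt N25591 (iv1 D87176)) (tt N27675 F133785) (tt N27673 F138349) (tt N28113 F293512) (tt N29157 F293513) (tt N28111 (iv5 F294473)) (tt N28209 (iv6 F294474)) (tt N27674 (iv7 F138348)))
theorem Q48655 : ∀ i, i < 48655 → P i := stepQ 48654 Q48654 (allL N48654 (tt N27674 (iv1 F133786)) (tt N27673 F133784) (tt N25591 (iv2 D87177)) (tt N39749 F328549) (tt N82592 (iv4 F283166)) (tt N39741 (iv5 F328975)) (tt N28392 (iv6 F293824)) (tt N27675 F133783))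
theorem Q48656 : ∀ i, i < 48656 → P i := stepQ 48655 Q48655 (allL N48655 (tt N52997 (iv1 F295121)) (tt N49514 (iv0 F295122)) (tt N39741 F329336) (tt N25592 F133787) (tt N82793 D182599) (tt N25591 (iv5 D87178)) (tt N39733 (iv6 F329580)) (tt N27676 F133788))
theorem Q48657 : ∀ i, i < 48657 → P i := stepQ 48656 Q48656 (allL N48656 (tt N39714 (iv1 F329587)) (tt N39713 (iv0 F329588)) (tt N39185 F329349) (tt N39733 (iv3 F329579)) (tt N51623 (iv4 F146938)) (tt N29367 F294517) (tt N25592 (iv6 D87179)) (tt N39707 (iv7 F329589)))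
theorem Q48658 : ∀ i, i < 48658 → P i := stepQ 48657 Q48657 (allL N48657 (tt N26112 F295057) (tt N25593 (iv0 D87180)) (tt N28120 (iv2 F295379)) (tt N82794 D182605) (tt N52916 (iv4 F295381)) (tt N72053 (iv5 F356331)) (tt N28193 (iv6 F295386)) (tt N26025 (iv7 F295388)))
theorem Q48659 : ∀ i, i < 48659 → P i := stepQ 48658 Q48658 (allL N48658 (tt N25593 (iv1 D87181)) (tt N26112 F295058) (tt N26025 (iv2 F295387)) (tt N51899 (iv3 F295389)) (tt N52901 (iv4 F295390)) (tt N72049 (iv5 F357349)) (tt N25957 (iv6 F295396)) (tt N28120 (iv7 F295380)))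
theorem Q48660 : ∀ i, i < 48660 → P i := stepQ 48659 Q48659 (allL N48659 (tt N40961 F334887) (tt N82752 (iv0 F335416)) (tt N28121 (iv2 F294450)) (tt N25594 F133792) (tt N53038 (iv4 F345235)) (tt N25593 (iv5 D87183)) (tt N53037 (iv6 F345238)) (tt N48804 (iv7 F294429)))
theorem Q48661 : ∀ i, i < 48661 → P i := stepQ 48660 Q48660 (allL N48660 (tt N70284 (iv1 F332742)) (tt N70277 (iv0 F332743)) (tt N25602 F133793) (tt N53037 (iv3 F345237)) (tt N53041 (iv4 F332739)) (tt N53481 (iv5 F294454)) (tt N25594 (iv6 D87184)) (tt N70282 (iv7 F332724)))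
theorem Q48662 : ∀ i, i < 48662 → P i := stepQ 48661 Q48661 (allL N48661 (tt N48546 F295247) (tt N25595 (iv0 D87188)) (tt N48547 F295248) (tt N28057 (iv3 F295257)) (tt N25625 (iv4 F295455)) (tt N68262 (iv5 F324219)) (tt N82795 D182631) (tt N28060 F295249))
theorem Q48663 : ∀ i, i < 48663 → P i := stepQ 48662 Q48662 (allL N48662 (tt N25595 (iv1 D87189)) (tt N48546 F295250) (tt N28060 F295251) (tt N82796 D182632) (tt N25624 (iv4 F295255)) (tt N70991 (iv5 F328561)) (tt N55302 (iv6 F343881)) (tt N48547 F295252))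
theorem Q48664 : ∀ i, i < 48664 → P i := stepQ 48663 Q48663 (allL N48663 (tt N48547 F295242) (tt N28060 F295243) (tt N25595 (iv2 D87190)) (tt N28100 F295244) (tt N50490 (iv4 F140046)) (tt N70391 (iv5 F337814)) (tt N48702 F295245) (tt N48546 F295246))
theorem Q48665 : ∀ i, i < 48665 → P i := stepQ 48664 Q48664 (allL N48664 (tt N46695 F294197) (tt N25597 (iv0 D87213)) (tt N48564 (iv2 F344268)) (tt N26140 (iv3 F294952)) (tt N79033 (iv4 F294953)) (tt N82768 (iv5 F344335)) (tt N82797 D182692) (tt N48563 F344267))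
theorem Q48666 : ∀ i, i < 48666 → P i := stepQ 48665 Q48665 (allL N48665 (tt N25597 (iv1 D87214)) (tt N46695 F294198) (tt N48563 F344266) (tt N82798 D182694) (tt N51468 (iv4 F294956)) (tt N82769 (iv5 F362418)) (tt N55311 (iv6 F361035)) (tt N48564 (iv7 F344269)))
theorem Q48667 : ∀ i, i < 48667 → P i := stepQ 48666 Q48666 (allL N48666 (tt N48564 F294194) (tt N48563 F294195) (tt N25597 (iv2 D87215)) (tt N38789 F328108) (tt N49356 (iv4 F136151)) (tt N38785 F328109) (tt N49359 F294657) (tt N46695 F294196))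
theorem Q48668 : ∀ i, i < 48668 → P i := stepQ 48667 Q48667 (allL N48667 (tt N82799 D182700) (tt N82800 D182701) (tt N38785 F328107) (tt N25598 F133870) (tt N82801 D182702) (tt N25597 (iv5 D87216)) (tt N38783 (iv6 F328516)) (tt N48565 F294199))
theorem Q48669 : ∀ i, i < 48669 → P i := stepQ 48668 Q48668 (allL N48668 (tt N38766 F328743) (tt N38765 F328744) (tt N31664 F328745) (tt N38783 F328746) (tt N37755 (iv4 F328937)) (tt N51163 (iv5 F294739)) (tt N25598 (iv6 D87218)) (tt N38767 F328747))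
theorem Q48670 : ∀ i, i < 48670 → P i := stepQ 48669 Q48669 (allL N48669 (tt N38789 (iv1 F327641)) (tt N25599 (iv0 D87223)) (tt N46698 (iv2 F295447)) (tt N82802 D182716) (tt N27947 (iv4 F295361)) (tt N38453 F327407) (tt N55313 (iv6 F343849)) (tt N46699 (iv7 F295450)))
theorem Q48671 : ∀ i, i < 48671 → P i := stepQ 48670 Q48670 (allL N48670 (tt N25599 (iv1 D87224)) (tt N38789 F328110) (tt N46699 (iv2 F295449)) (tt N51147 (iv3 F295445)) (tt N27948 (iv4 F295334)) (tt N38454 (iv5 F328517)) (tt N82803 D182722) (tt N46698 (iv7 F295448)))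
theorem Q48672 : ∀ i, i < 48672 → P i := stepQ 48671 Q48671 (allL N48671 (tt N38788 (iv1 F327637)) (tt N38787 (iv0 F327638)) (tt N38790 F327067) (tt N25600 F133877) (tt N31663 F327068) (tt N25599 (iv5 D87226)) (tt N34770 (iv6 F295053)) (tt N31662 (iv7 F327403)))
theorem Q48673 : ∀ i, i < 48673 → P i := stepQ 48672 Q48672 (allL N48672 (tt N82804 D182766) (tt N82805 D182767) (tt N82806 D182768) (tt N25601 (iv3 D87244)) (tt N52157 (iv4 F295376)) (tt N52295 (iv5 F148454)) (tt N82807 D182769) (tt N51598 F295049))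
theorem Q48674 : ∀ i, i < 48674 → P i := stepQ 48673 Q48673 (allL N48673 (tt N82808 D182770) (tt N82809 D182771) (tt N53041 (iv2 F332738)) (tt N82807 (iv3 F284337)) (tt N25602 F133890) (tt N82810 D182772) (tt N25601 (iv6 D87245)) (tt N82811 D182773))
theorem Q48675 : ∀ i, i < 48675 → P i := stepQ 48674 Q48674 (allL N48674 (tt N70282 (iv1 F332722)) (tt N25602 (iv0 D87246)) (tt N70284 (iv2 F332726)) (tt N82812 D182775) (tt N82813 D182776) (tt N82814 D182777) (tt N82815 D182778) (tt N70277 (iv7 F332725)))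
theorem Q48676 : ∀ i, i < 48676 → P i := stepQ 48675 Q48675 (allL N48675 (tt N70277 (iv1 F332744)) (tt N70284 (iv0 F332741)) (tt N70282 (iv2 F332723)) (tt N52162 (iv3 F295377)) (tt N82811 (iv4 F284338)) (tt N55321 (iv5 F159435)) (tt N51603 F295050) (tt N25602 (iv7 D87248)))
theorem Q48677 : ∀ i, i < 48677 → P i := stepQ 48676 Q48676 (allL N48676 (tt N29436 F293075) (tt N25603 (iv0 D87289)) (tt N49980 (iv2 F343071)) (tt N50525 F140139) (tt N82816 D182848) (tt N51750 (iv5 F343046)) (tt N29218 (iv6 F343047)) (tt N49979 (iv7 F343079)))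
theorem Q48678 : ∀ i, i < 48678 → P i := stepQ 48677 Q48677 (allL N48677 (tt N25603 (iv1 D87290)) (tt N29436 F293074) (tt N49979 (iv2 F343076)) (tt N82817 D182852) (tt N82818 D182853) (tt N51749 (iv5 F343042)) (tt N55363 (iv6 F343048)) (tt N49980 (iv7 F343074)))
theorem Q48679 : ∀ i, i < 48679 → P i := stepQ 48678 Q48678 (allL N48678 (tt N49980 (iv1 F138245)) (tt N49979 F138240) (tt N25603 (iv2 D87291)) (tt N25920 F133981) (tt N48678 F133982) (tt N81640 (iv5 F343064)) (tt N29391 F291222) (tt N29436 (iv7 F291947)))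
theorem Q48680 : ∀ i, i < 48680 → P i := stepQ 48679 Q48679 (allL N48679 (tt N52329 (iv1 F343050)) (tt N52333 (iv0 F343049)) (tt N81640 (iv2 F343062)) (tt N25604 F133983) (tt N52657 (iv4 F327100)) (tt N25603 (iv5 D87292)) (tt N52656 (iv6 F365809)) (tt N49981 (iv7 F138248)))
theorem Q48681 : ∀ i, i < 48681 → P i := stepQ 48680 Q48680 (allL N48680 (tt N52609 (iv1 F361260)) (tt N82819 D182862) (tt N25923 F133984) (tt N52656 (iv3 F365808)) (tt N46296 F133985) (tt N52527 (iv5 F290796)) (tt N25604 (iv6 D87293)) (tt N82820 D182863))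
theorem Q48682 : ∀ i, i < 48682 → P i := stepQ 48681 Q48681 (allL N48681 (tt N27880 F293833) (tt N27873 F293834) (tt N52352 (iv2 F148941)) (tt N65941 (iv3 F326806)) (tt N48529 F134053) (tt N25610 (iv5 D87312)) (tt N82821 D182878) (tt N52692 F293835))
theorem Q48683 : ∀ i, i < 48683 → P i := stepQ 48682 Q48682 (allL N48682 (tt N49497 F157627) (tt N25678 F157628) (tt N51844 (iv2 F147313)) (tt N52901 (iv3 F151805)) (tt N51898 (iv4 F147423)) (tt N82822 D182916) (tt N25611 (iv6 D87334)) (tt N82602 (iv7 F294754)))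
theorem Q48684 : ∀ i, i < 48684 → P i := stepQ 48683 Q48683 (allL N48683 (tt N25634 F157233) (tt N50491 (iv0 F294845)) (tt N51843 (iv2 F147311)) (tt N49342 F294788) (tt N51935 (iv4 F147472)) (tt N82823 D182917) (tt N25612 (iv6 D87335)) (tt N52134 F157235))
theorem Q48685 : ∀ i, i < 48685 → P i := stepQ 48684 Q48684 (allL N48684 (tt N82824 D182918) (tt N82825 D182919) (tt N53068 (iv2 F152398)) (tt N25615 F134096) (tt N53895 (iv4 F154905)) (tt N82826 D182920) (tt N25613 (iv6 D87336)) (tt N43482 F304713))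
theorem Q48686 : ∀ i, i < 48686 → P i := stepQ 48685 Q48685 (allL N48685 (tt N53072 (iv1 F152410)) (tt N25614 (iv0 D87337)) (tt N53069 (iv2 F284515)) (tt N52903 (iv3 F364400)) (tt N82827 D182924) (tt N82828 D182925) (tt N82829 D182926) (tt N53070 F284512))
theorem Q48687 : ∀ i, i < 48687 → P i := stepQ 48686 Q48686 (allL N48686 (tt N25614 (iv1 D87338)) (tt N53072 F152409) (tt N53070 (iv2 F284514)) (tt N49439 (iv3 F283528)) (tt N82830 D182927) (tt N82831 D182928) (tt N82832 D182929) (tt N53069 (iv7 F284516)))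
theorem Q48688 : ∀ i, i < 48688 → P i := stepQ 48687 Q48687 (allL N48687 (tt N82833 D182930) (tt N82834 D182931) (tt N53071 (iv2 F152404)) (tt N25616 F134097) (tt N82835 D182932) (tt N25614 (iv5 D87339)) (tt N82826 (iv6 F284506)) (tt N82707 (iv7 F283664)))
theorem Q48689 : ∀ i, i < 48689 → P i := stepQ 48688 Q48688 (allL N48688 (tt N43562 (iv1 F308338)) (tt N43561 (iv0 F308337)) (tt N43564 F306623) (tt N82826 (iv3 F284505)) (tt N82836 D182945) (tt N25615 (iv5 D87342)) (tt N25616 F134098) (tt N43490 (iv7 F307614)))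
theorem Q48690 : ∀ i, i < 48690 → P i := stepQ 48689 Q48689 (allL N48689 (tt N49152 (iv1 F135237)) (tt N25616 (iv0 D87344)) (tt N25889 (iv2 F134100)) (tt N52884 (iv3 F283275)) (tt N82623 (iv4 F283271)) (tt N25702 F134099) (tt N82837 D182947) (tt N25909 F134101))
theorem Q48691 : ∀ i, i < 48691 → P i := stepQ 48690 Q48690 (allL N48690 (tt N48585 F134102) (tt N48588 F134103) (tt N82627 (iv2 F283292)) (tt N82838 D182948) (tt N25616 (iv4 D87345)) (tt N49101 (iv5 F135174)) (tt N82836 (iv6 F284525)) (tt N82708 (iv7 F283667)))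
theorem Q48692 : ∀ i, i < 48692 → P i := stepQ 48691 Q48691 (allL N48691 (tt N25617 (iv1 D87351)) (tt N43486 F309577) (tt N29364 F134108) (tt N82839 D182962) (tt N49634 F137671) (tt N26742 (iv5 F134107)) (tt N75381 (iv6 F350039)) (tt N27664 (iv7 F292504)))
theorem Q48693 : ∀ i, i < 48693 → P i := stepQ 48692 Q48692 (allL N48692 (tt N82775 (iv1 F292467)) (tt N54191 (iv0 F156199)) (tt N36577 F309574) (tt N82004 (iv3 F331707)) (tt N25617 (iv4 D87352)) (tt N51663 (iv5 F344675)) (tt N35098 F309575) (tt N82840 D182967))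
theorem Q48694 : ∀ i, i < 48694 → P i := stepQ 48693 Q48693 (allL N48693 (tt N29364 (iv1 F134110)) (tt N27664 (iv0 F292502)) (tt N43486 F309578) (tt N49809 (iv3 F137309)) (tt N82840 (iv4 F284566)) (tt N25618 F134109) (tt N43554 (iv6 F311786)) (tt N25617 (iv7 D87353)))
theorem Q48695 : ∀ i, i < 48695 → P i := stepQ 48694 Q48694 (allL N48694 (tt N82841 D182979) (tt N49145 F289845) (tt N76098 (iv2 F236303)) (tt N34803 F134111) (tt N82842 D182981) (tt N25619 (iv5 D87356)) (tt N33877 F134112) (tt N82710 (iv7 F335707)))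
theorem Q48696 : ∀ i, i < 48696 → P i := stepQ 48695 Q48695 (allL N48695 (tt N52858 (iv1 F349051)) (tt N82843 D182984) (tt N46723 F134115) (tt N25621 F134116) (tt N46723 F134117) (tt N63259 (iv5 F305317)) (tt N25620 (iv6 D87358)) (tt N82844 D182986))
theorem Q48697 : ∀ i, i < 48697 → P i := stepQ 48696 Q48696 (allL N48696 (tt N25621 (iv1 D87360)) (tt N42794 F134118) (tt N42793 F335685) (tt N49445 (iv3 F344209)) (tt N49572 (iv4 F344208)) (tt N82845 D182995) (tt N55074 (iv6 F364403)) (tt N42792 F335686))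
theorem Q48698 : ∀ i, i < 48698 → P i := stepQ 48697 Q48697 (allL N48697 (tt N51683 (iv1 F293415)) (tt N33678 (iv0 F319319)) (tt N34884 F306469) (tt N63259 F306470) (tt N66643 (iv4 F337244)) (tt N25621 (iv5 D87361)) (tt N34880 F306471) (tt N74808 (iv7 F319322)))
theorem Q48699 : ∀ i, i < 48699 → P i := stepQ 48698 Q48698 (allL N48698 (tt N42793 (iv1 F134124)) (tt N42792 F134125) (tt N42794 F134121) (tt N82844 (iv3 F284579)) (tt N48597 (iv4 F335673)) (tt N74808 (iv5 F319321)) (tt N49699 (iv6 F335584)) (tt N25621 (iv7 D87362)))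
theorem Q48700 : ∀ i, i < 48700 → P i := stepQ 48699 Q48699 (allL N48699 (tt N25627 (iv1 F134132)) (tt N25622 (iv0 D87363)) (tt N25624 F152063) (tt N82846 D183001) (tt N28060 (iv4 F134134)) (tt N82847 D183002) (tt N55073 (iv6 F343900)) (tt N25625 F152064))
theorem Q48701 : ∀ i, i < 48701 → P i := stepQ 48700 Q48700 (allL N48700 (tt N25622 (iv1 D87364)) (tt N25627 F134126) (tt N25625 F152059) (tt N27023 F295309) (tt N48547 F134128) (tt N82848 D183004) (tt N39690 F329312) (tt N25624 F152060))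
theorem Q48702 : ∀ i, i < 48702 → P i := stepQ 48701 Q48701 (allL N48701 (tt N82849 D183006) (tt N82850 D183007) (tt N25626 F134129) (tt N52870 (iv3 F151743)) (tt N82851 D183008) (tt N25622 (iv5 D87365)) (tt N42539 F134130) (tt N82852 D183009))
theorem Q48703 : ∀ i, i < 48703 → P i := stepQ 48702 Q48702 (allL N48702 (tt N25625 (iv1 F134133)) (tt N25624 F134135) (tt N25627 F134131) (tt N49470 F136550) (tt N49578 (iv4 F136859)) (tt N82852 (iv5 F284617)) (tt N48663 (iv6 F295245)) (tt N25622 (iv7 D87366)))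
theorem Q48704 : ∀ i, i < 48704 → P i := stepQ 48703 Q48703 (allL N48703 (tt N82853 D183010) (tt N57469 (iv0 F312696)) (tt N42539 F134137) (tt N25632 F134138) (tt N82854 D183012) (tt N25623 (iv5 D87369)) (tt N25626 F134139) (tt N48174 F232493))
theorem Q48705 : ∀ i, i < 48705 → P i := stepQ 48704 Q48704 (allL N48704 (tt N82855 D183016) (tt N82856 D183017) (tt N82847 (iv2 F284600)) (tt N49448 (iv3 F136488)) (tt N78439 (iv4 F333854)) (tt N25624 (iv5 D87373)) (tt N82857 D183019) (tt N82848 (iv7 F284607)))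
theorem Q48706 : ∀ i, i < 48706 → P i := stepQ 48705 Q48705 (allL N48705 (tt N55074 (iv1 F343890)) (tt N54935 (iv0 F343882)) (tt N55073 (iv2 F343897)) (tt N49449 (iv3 F136489)) (tt N55302 (iv4 F343879)) (tt N72454 (iv5 F328894)) (tt N25624 (iv6 D87374)) (tt N55072 (iv7 F335547)))
theorem Q48707 : ∀ i, i < 48707 → P i := stepQ 48706 Q48706 (allL N48706 (tt N50858 (iv1 F294597)) (tt N50856 (iv0 F294801)) (tt N49450 (iv2 F136492)) (tt N25625 (iv3 D87376)) (tt N49450 (iv4 F136493)) (tt N82858 D183025) (tt N82859 D183026) (tt N82846 (iv7 F284597)))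
theorem Q48708 : ∀ i, i < 48708 → P i := stepQ 48707 Q48707 (allL N48707 (tt N82856 (iv1 F284644)) (tt N82855 F284643) (tt N82848 (iv2 F284605)) (tt N82858 (iv3 F284658)) (tt N82860 D183029) (tt N25625 (iv5 D87378)) (tt N78162 (iv6 F337821)) (tt N82847 (iv7 F284601)))
theorem Q48709 : ∀ i, i < 48709 → P i := stepQ 48708 Q48708 (allL N48708 (tt N51463 (iv1 F335568)) (tt N82712 (iv0 F335574)) (tt N39690 (iv2 F328970)) (tt N82859 (iv3 F284659)) (tt N82795 (iv4 F295458)) (tt N33368 F328554) (tt N25625 (iv6 D87379)) (tt N39687 (iv7 F328971)))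
theorem Q48710 : ∀ i, i < 48710 → P i := stepQ 48709 Q48709 (allL N48709 (tt N82852 (iv1 F284620)) (tt N25626 (iv0 D87380)) (tt N82849 (iv2 F284676)) (tt N49453 (iv3 F284674)) (tt N78435 (iv4 F333847)) (tt N50058 (iv5 F294267)) (tt N82861 D183039) (tt N82850 (iv7 F284673)))
theorem Q48711 : ∀ i, i < 48711 → P i := stepQ 48710 Q48710 (allL N48710 (tt N25626 (iv1 D87381)) (tt N82852 F284619) (tt N82850 (iv2 F284672)) (tt N82862 D183041) (tt N82863 D183042) (tt N50684 (iv5 F295150)) (tt N82864 D183044) (tt N82849 (iv7 F284677)))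
theorem Q48712 : ∀ i, i < 48712 → P i := stepQ 48711 Q48711 (allL N48711 (tt N82865 D183045) (tt N82866 D183046) (tt N82851 (iv2 F284614)) (tt N82867 D183047) (tt N25626 (iv4 D87382)) (tt N70518 (iv5 F339515)) (tt N82854 (iv6 F284631)) (tt N82868 D183049))
theorem Q48713 : ∀ i, i < 48713 → P i := stepQ 48712 Q48712 (allL N48712 (tt N82850 (iv1 F284611)) (tt N82849 F284618) (tt N82852 (iv2 F284616)) (tt N25642 F134153) (tt N82868 (iv4 F284680)) (tt N25627 F134154) (tt N38809 F337795) (tt N25626 (iv7 D87383)))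
theorem Q48714 : ∀ i, i < 48714 → P i := stepQ 48713 Q48713 (allL N48713 (tt N81196 (iv1 F342330)) (tt N81197 (iv0 F342331)) (tt N53080 (iv2 F152436)) (tt N25629 F134155) (tt N79497 (iv4 F334396)) (tt N82869 D183053) (tt N25628 (iv6 D87384)) (tt N43823 (iv7 F310131)))
theorem Q48715 : ∀ i, i < 48715 → P i := stepQ 48714 Q48714 (allL N48714 (tt N76931 (iv1 F310132)) (tt N76895 F308104) (tt N55333 (iv2 F159591)) (tt N82869 (iv3 F284683)) (tt N78350 (iv4 F310133)) (tt N25629 (iv5 D87387)) (tt N25711 F134156) (tt N43829 (iv7 F310135)))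
theorem Q48716 : ∀ i, i < 48716 → P i := stepQ 48715 Q48715 (allL N48715 (tt N80889 F272106) (tt N80822 (iv0 F319027)) (tt N53087 (iv2 F281934)) (tt N25630 (iv3 D87394)) (tt N81048 (iv4 F273220)) (tt N82870 D183083) (tt N35382 (iv6 F308829)) (tt N81193 (iv7 F319026)))
theorem Q48717 : ∀ i, i < 48717 → P i := stepQ 48716 Q48716 (allL N48716 (tt N76010 (iv1 F307405)) (tt N76936 (iv0 F308830)) (tt N76934 (iv2 F308825)) (tt N82870 (iv3 F284697)) (tt N82871 D183089) (tt N25630 (iv5 D87396)) (tt N82872 D183090) (tt N76933 (iv7 F308820)))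
theorem Q48718 : ∀ i, i < 48718 → P i := stepQ 48717 Q48717 (allL N48717 (tt N76936 (iv1 F308831)) (tt N76010 (iv0 F307404)) (tt N76933 (iv2 F308818)) (tt N53091 F281931) (tt N82873 D183097) (tt N25631 (iv5 D87401)) (tt N82874 D183098) (tt N76934 (iv7 F308828)))
theorem Q48719 : ∀ i, i < 48719 → P i := stepQ 48718 Q48718 (allL N48718 (tt N43706 (iv1 F308464)) (tt N82559 (iv0 F330092)) (tt N80524 (iv2 F308821)) (tt N53092 F281932) (tt N35401 F307010) (tt N77062 (iv5 F308823)) (tt N25631 (iv6 D87402)) (tt N35397 (iv7 F308824)))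
theorem Q48720 : ∀ i, i < 48720 → P i := stepQ 48719 Q48719 (allL N48719 (tt N82635 (iv1 F283433)) (tt N25632 (iv0 D87403)) (tt N82632 (iv2 F364044)) (tt N82875 D183104) (tt N82876 D183105) (tt N34543 F311630) (tt N82877 D183107) (tt N82633 (iv7 F309402)))
theorem Q48721 : ∀ i, i < 48721 → P i := stepQ 48720 Q48720 (allL N48720 (tt N25632 (iv1 D87404)) (tt N82635 F283432) (tt N82633 (iv2 F309401)) (tt N53094 (iv3 F268865)) (tt N82878 D183109) (tt N34546 F307383) (tt N82879 D183110) (tt N82632 (iv7 F364046)))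
theorem Q48722 : ∀ i, i < 48722 → P i := stepQ 48721 Q48721 (allL N48721 (tt N82880 D183111) (tt N82881 D183112) (tt N82634 (iv2 F283427)) (tt N82882 D183113) (tt N25632 (iv4 D87405)) (tt N82883 D183114) (tt N25641 F134160) (tt N82884 D183115))
theorem Q48723 : ∀ i, i < 48723 → P i := stepQ 48722 Q48722 (allL N48722 (tt N82633 (iv1 F283425)) (tt N82632 F283431) (tt N82635 (iv2 F283429)) (tt N48174 (iv3 F233142)) (tt N82884 (iv4 F284730)) (tt N25633 F134161) (tt N82885 D183116) (tt N25632 (iv7 D87406)))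
theorem Q48724 : ∀ i, i < 48724 → P i := stepQ 48723 Q48723 (allL N48723 (tt N50491 (iv1 F294846)) (tt N25634 (iv0 D87407)) (tt N52134 F150062) (tt N50856 (iv3 F294803)) (tt N82886 D183117) (tt N82887 D183118) (tt N82602 (iv6 F294753)) (tt N51843 (iv7 F157244)))
theorem Q48725 : ∀ i, i < 48725 → P i := stepQ 48724 Q48724 (allL N48724 (tt N82888 D183119) (tt N82889 D183120) (tt N53097 (iv2 F152456)) (tt N25635 F134162) (tt N82890 D183121) (tt N25634 (iv5 D87409)) (tt N82891 D183122) (tt N52135 (iv7 F147743)))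
theorem Q48726 : ∀ i, i < 48726 → P i := stepQ 48725 Q48725 (allL N48725 (tt N82892 D183123) (tt N82893 D183124) (tt N53098 (iv2 F152458)) (tt N25636 F134163) (tt N50625 (iv4 F293317)) (tt N48941 (iv5 F134917)) (tt N25634 (iv6 D87410)) (tt N55071 (iv7 F292851)))
theorem Q48727 : ∀ i, i < 48727 → P i := stepQ 48726 Q48726 (allL N48726 (tt N25635 (iv1 D87411)) (tt N25637 F134164) (tt N26759 (iv2 F294834)) (tt N82856 (iv3 F362813)) (tt N51455 (iv4 F145050)) (tt N25890 F134165) (tt N66803 (iv6 F356706)) (tt N26756 (iv7 F294765)))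
theorem Q48728 : ∀ i, i < 48728 → P i := stepQ 48727 Q48727 (allL N48727 (tt N50568 (iv1 F294568)) (tt N50573 (iv0 F295280)) (tt N82636 (iv2 F283434)) (tt N82894 D183128) (tt N25635 (iv4 D87412)) (tt N48735 (iv5 F134178)) (tt N82895 D183129) (tt N52137 (iv7 F147747)))
theorem Q48729 : ∀ i, i < 48729 → P i := stepQ 48728 Q48728 (allL N48728 (tt N82896 D183130) (tt N82897 D183131) (tt N82637 (iv2 F283438)) (tt N82891 (iv3 F284736)) (tt N82895 (iv4 F284742)) (tt N48943 (iv5 F134919)) (tt N25635 (iv6 D87413)) (tt N82898 D183132))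
theorem Q48730 : ∀ i, i < 48730 → P i := stepQ 48729 Q48729 (allL N48729 (tt N50573 (iv1 F295281)) (tt N50568 (iv0 F294567)) (tt N52137 (iv2 F147746)) (tt N82899 D183133) (tt N25637 (iv4 D87415)) (tt N48733 (iv5 F134176)) (tt N82900 D183134) (tt N82636 (iv7 F283435)))
theorem Q48731 : ∀ i, i < 48731 → P i := stepQ 48730 Q48730 (allL N48730 (tt N82901 D183135) (tt N82902 D183136) (tt N52138 (iv2 F147750)) (tt N53102 (iv3 F152463)) (tt N82900 (iv4 F284743)) (tt N82903 D183137) (tt N25637 (iv6 D87416)) (tt N82904 D183138))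
theorem Q48732 : ∀ i, i < 48732 → P i := stepQ 48731 Q48731 (allL N48731 (tt N27784 (iv1 F292844)) (tt N29353 F134171) (tt N29360 F134170) (tt N29025 (iv3 F153685)) (tt N54183 (iv4 F156190)) (tt N25638 (iv5 D87418)) (tt N82903 (iv6 F284746)) (tt N29361 (iv7 F134174)))
theorem Q48733 : ∀ i, i < 48733 → P i := stepQ 48732 Q48732 (allL N48732 (tt N82887 (iv1 F372559)) (tt N82823 (iv0 F366996)) (tt N53103 (iv2 F152465)) (tt N25639 (iv3 D87419)) (tt N82905 D183141) (tt N50683 (iv5 F294366)) (tt N82906 D183142) (tt N82640 (iv7 F283447)))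
theorem Q48734 : ∀ i, i < 48734 → P i := stepQ 48733 Q48733 (allL N48733 (tt N51162 (iv1 F295042)) (tt N27954 F134177) (tt N82638 (iv2 F283440)) (tt N82907 D183143) (tt N25639 (iv4 D87420)) (tt N48729 F134176) (tt N82908 D183144) (tt N82641 (iv7 F283450)))
theorem Q48735 : ∀ i, i < 48735 → P i := stepQ 48734 Q48734 (allL N48734 (tt N82909 D183145) (tt N82910 D183146) (tt N82639 (iv2 F283445)) (tt N82906 (iv3 F284748)) (tt N82908 (iv4 F284750)) (tt N77219 (iv5 F359696)) (tt N25639 (iv6 D87421)) (tt N82911 D183148))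
theorem Q48736 : ∀ i, i < 48736 → P i := stepQ 48735 Q48735 (allL N48735 (tt N27954 F134179) (tt N51162 (iv0 F295041)) (tt N82641 (iv2 F283448)) (tt N82912 D183149) (tt N25640 (iv4 D87423)) (tt N48727 F134178) (tt N82913 D183150) (tt N82638 (iv7 F283441)))
theorem Q48737 : ∀ i, i < 48737 → P i := stepQ 48736 Q48736 (allL N48736 (tt N82914 D183151) (tt N82915 D183152) (tt N82642 (iv2 F283453)) (tt N53107 (iv3 F152469)) (tt N82913 (iv4 F284752)) (tt N55358 (iv5 F159723)) (tt N25640 (iv6 D87424)) (tt N82916 D183153))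
theorem Q48738 : ∀ i, i < 48738 → P i := stepQ 48737 Q48737 (allL N48737 (tt N48739 (iv1 F134187)) (tt N25641 (iv0 D87425)) (tt N50582 (iv2 F294670)) (tt N74955 (iv3 F356641)) (tt N48748 (iv4 F134209)) (tt N27195 (iv5 F134210)) (tt N82917 D183155) (tt N50575 (iv7 F295237)))
theorem Q48739 : ∀ i, i < 48739 → P i := stepQ 48738 Q48738 (allL N48738 (tt N82918 D183158) (tt N82919 D183159) (tt N82920 D183160) (tt N25641 (iv3 D87427)) (tt N82867 (iv4 F284679)) (tt N82921 D183161) (tt N82882 (iv6 F284729)) (tt N82922 D183162))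
theorem Q48740 : ∀ i, i < 48740 → P i := stepQ 48739 Q48739 (allL N48739 (tt N26703 F295289) (tt N48737 F134187) (tt N48740 (iv2 F134184)) (tt N82921 (iv3 F284755)) (tt N27189 F134181) (tt N25641 (iv5 D87428)) (tt N82923 D183163) (tt N48560 F134182))
theorem Q48741 : ∀ i, i < 48741 → P i := stepQ 48740 Q48740 (allL N48740 (tt N50575 (iv1 F295236)) (tt N50582 F295015) (tt N48739 F134184) (tt N82922 (iv3 F284757)) (tt N25642 F134185) (tt N48560 F134186) (tt N82924 D183164) (tt N25641 (iv7 D87429)))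
theorem Q48742 : ∀ i, i < 48742 → P i := stepQ 48741 Q48741 (allL N48741 (tt N82925 D183165) (tt N82926 D183166) (tt N51446 (iv2 F145005)) (tt N38809 F337794) (tt N82924 (iv4 F284761)) (tt N38808 (iv5 F337796)) (tt N25642 (iv6 D87430)) (tt N82885 (iv7 F284732)))
theorem Q48743 : ∀ i, i < 48743 → P i := stepQ 48742 Q48742 (allL N48742 (tt N51170 (iv1 F295019)) (tt N51169 (iv0 F295017)) (tt N26866 F294791) (tt N25644 F134188) (tt N82927 D183167) (tt N25643 (iv5 D87431)) (tt N82928 D183168) (tt N51171 (iv7 F295023)))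
theorem Q48744 : ∀ i, i < 48744 → P i := stepQ 48743 Q48743 (allL N48743 (tt N49398 (iv1 F288510)) (tt N82929 D183170) (tt N26861 F292931) (tt N25645 F134189) (tt N48743 F134190) (tt N49023 (iv5 F135058)) (tt N25643 (iv6 D87432)) (tt N55070 (iv7 F293324)))
theorem Q48745 : ∀ i, i < 48745 → P i := stepQ 48744 Q48744 (allL N48744 (tt N49190 (iv1 F135331)) (tt N51455 F145052) (tt N27042 F295291) (tt N82930 D183172) (tt N25644 (iv4 D87433)) (tt N26703 F295292) (tt N82931 D183173) (tt N51448 (iv7 F145015)))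
theorem Q48746 : ∀ i, i < 48746 → P i := stepQ 48745 Q48745 (allL N48745 (tt N82932 D183174) (tt N82933 D183175) (tt N27043 F295353) (tt N82928 (iv3 F284762)) (tt N82931 (iv4 F284771)) (tt N49024 (iv5 F135059)) (tt N25644 (iv6 D87434)) (tt N82934 D183176))
theorem Q48747 : ∀ i, i < 48747 → P i := stepQ 48746 Q48746 (allL N48746 (tt N25645 (iv1 D87435)) (tt N26362 F292796) (tt N27016 F294638) (tt N53843 (iv3 F293945)) (tt N48844 F292797) (tt N27061 F134198) (tt N25858 (iv6 F134196)) (tt N27015 F294639))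
theorem Q48748 : ∀ i, i < 48748 → P i := stepQ 48747 Q48747 (allL N48747 (tt N26468 (iv1 F294662)) (tt N26467 F294295) (tt N26408 F294296) (tt N25646 (iv3 D87437)) (tt N48747 F134204) (tt N50595 (iv5 F294990)) (tt N51677 (iv6 F291548)) (tt N26469 (iv7 F294664)))
theorem Q48749 : ∀ i, i < 48749 → P i := stepQ 48748 Q48748 (allL N48748 (tt N26702 (iv1 F294736)) (tt N26154 F134208) (tt N26705 F294565) (tt N50595 (iv3 F294989)) (tt N48737 F134209) (tt N25646 (iv5 D87438)) (tt N82935 D183181) (tt N26701 (iv7 F294768)))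
theorem Q48750 : ∀ i, i < 48750 → P i := stepQ 48749 Q48749 (allL N48749 (tt N48905 (iv1 F134838)) (tt N27397 F134271) (tt N48907 (iv2 F134845)) (tt N37553 F134269) (tt N64046 (iv4 F192384)) (tt N25650 (iv5 D87457)) (tt N82936 D183213) (tt N42590 F134270))
theorem Q48751 : ∀ i, i < 48751 → P i := stepQ 48750 Q48750 (allL N48750 (tt N52426 (iv1 F289532)) (tt N27434 (iv0 F289533)) (tt N52392 (iv2 F149500)) (tt N51735 (iv3 F147121)) (tt N49542 (iv4 F136802)) (tt N82937 D183216) (tt N25650 (iv6 D87458)) (tt N52425 (iv7 F344218)))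
theorem Q48752 : ∀ i, i < 48752 → P i := stepQ 48751 Q48751 (allL N48751 (tt N27397 F134274) (tt N48905 (iv0 F134837)) (tt N42590 F134272) (tt N48907 F134844) (tt N46137 F134273) (tt N25651 (iv5 D87459)) (tt N82938 D183218) (tt N48907 (iv7 F134842)))
theorem Q48753 : ∀ i, i < 48753 → P i := stepQ 48752 Q48752 (allL N48752 (tt N27405 (iv1 F289556)) (tt N52476 (iv0 F289557)) (tt N52391 (iv2 F149498)) (tt N52392 (iv3 F149501)) (tt N52757 (iv4 F151220)) (tt N82939 D183221) (tt N25651 (iv6 D87460)) (tt N52475 (iv7 F367274)))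
theorem Q48754 : ∀ i, i < 48754 → P i := stepQ 48753 Q48753 (allL N48753 (tt N52185 (iv1 F147949)) (tt N52183 (iv0 F147940)) (tt N25653 F134275) (tt N27352 F134276) (tt N51973 F147521) (tt N25652 (iv5 D87461)) (tt N63839 (iv6 F363167)) (tt N52210 (iv7 F148018)))
theorem Q48755 : ∀ i, i < 48755 → P i := stepQ 48754 Q48754 (allL N48754 (tt N52676 (iv1 F150148)) (tt N52675 F150142) (tt N25654 F134277) (tt N27418 F134278) (tt N25666 F134279) (tt N82940 D183224) (tt N25652 (iv6 D87462)) (tt N52677 (iv7 F150146)))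
theorem Q48756 : ∀ i, i < 48756 → P i := stepQ 48755 Q48755 (allL N48755 (tt N25653 (iv1 D87463)) (tt N52210 F148020) (tt N52183 (iv2 F147937)) (tt N52185 (iv3 F147945)) (tt N63252 (iv4 F298161)) (tt N25741 F134280) (tt N58496 (iv6 F354557)) (tt N52185 (iv7 F147946)))
theorem Q48757 : ∀ i, i < 48757 → P i := stepQ 48756 Q48756 (allL N48756 (tt N51971 (iv1 F147517)) (tt N27841 F134282) (tt N51973 (iv2 F147522)) (tt N41608 F310174) (tt N25653 (iv4 D87464)) (tt N46134 F134281) (tt N63235 (iv6 F330758)) (tt N51972 F147520))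
theorem Q48758 : ∀ i, i < 48758 → P i := stepQ 48757 Q48757 (allL N48757 (tt N82941 D183227) (tt N82942 D183228) (tt N63839 (iv2 F363165)) (tt N25656 F134283) (tt N63235 (iv4 F330757)) (tt N58923 (iv5 F330361)) (tt N25653 (iv6 D87465)) (tt N58921 (iv7 F363177)))
theorem Q48759 : ∀ i, i < 48759 → P i := stepQ 48758 Q48758 (allL N48758 (tt N52677 (iv1 F150147)) (tt N25654 (iv0 D87466)) (tt N52676 F270442) (tt N51745 F147135) (tt N82943 D183231) (tt N82944 D183232) (tt N77711 (iv6 F330006)) (tt N52675 F270440))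
theorem Q48760 : ∀ i, i < 48760 → P i := stepQ 48759 Q48759 (allL N48759 (tt N25654 (iv1 D87467)) (tt N52677 F150149) (tt N52675 (iv2 F270437)) (tt N52395 F268363) (tt N80549 (iv4 F268360)) (tt N82945 D183234) (tt N82946 D183235) (tt N52676 (iv7 F270441)))
theorem Q48761 : ∀ i, i < 48761 → P i := stepQ 48760 Q48760 (allL N48760 (tt N82947 D183236) (tt N82948 D183237) (tt N82940 (iv2 F284873)) (tt N25657 F134284) (tt N58927 (iv4 F363170)) (tt N25654 (iv5 D87468)) (tt N58923 (iv6 F330362)) (tt N52678 (iv7 F150151)))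
theorem Q48762 : ∀ i, i < 48762 → P i := stepQ 48761 Q48761 (allL N48761 (tt N27858 (iv1 F334457)) (tt N27862 (iv0 F334458)) (tt N46530 F134287) (tt N42279 F313208) (tt N25656 F134288) (tt N42277 (iv5 F315594)) (tt N25655 (iv6 D87470)) (tt N77243 (iv7 F308129)))
theorem Q48763 : ∀ i, i < 48763 → P i := stepQ 48762 Q48762 (allL N48762 (tt N82949 D183255) (tt N82950 D183256) (tt N52218 (iv2 F148031)) (tt N58923 F330363) (tt N30105 (iv4 F330364)) (tt N25656 (iv5 D87473)) (tt N25657 F134289) (tt N58920 (iv7 F330366)))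
theorem Q48764 : ∀ i, i < 48764 → P i := stepQ 48763 Q48763 (allL N48763 (tt N52217 (iv1 F148030)) (tt N52216 F148035) (tt N52219 (iv2 F148033)) (tt N58921 (iv3 F363176)) (tt N77243 (iv4 F308128)) (tt N58920 (iv5 F330365)) (tt N52215 (iv6 F148026)) (tt N25656 (iv7 D87474)))
theorem Q48765 : ∀ i, i < 48765 → P i := stepQ 48764 Q48764 (allL N48764 (tt N27883 F134291) (tt N27886 F134292) (tt N52397 (iv2 F149527)) (tt N30107 (iv3 F330368)) (tt N25657 (iv4 D87476)) (tt N44622 (iv5 F294094)) (tt N30105 F330367) (tt N52679 (iv7 F150153)))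
theorem Q48766 : ∀ i, i < 48766 → P i := stepQ 48765 Q48765 (allL N48765 (tt N48919 (iv1 F134890)) (tt N28418 (iv0 F134360)) (tt N52875 (iv2 F151767)) (tt N25660 (iv3 D87493)) (tt N46727 F134358) (tt N36469 F134359) (tt N82951 D183292) (tt N52874 F151763))
theorem Q48767 : ∀ i, i < 48767 → P i := stepQ 48766 Q48766 (allL N48766 (tt N57705 (iv1 F307731)) (tt N46454 F313840) (tt N64362 (iv2 F196371)) (tt N82951 (iv3 F284947)) (tt N78330 (iv4 F248316)) (tt N53343 (iv5 F339131)) (tt N25660 (iv6 D87494)) (tt N30545 (iv7 F307735)))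
theorem Q48768 : ∀ i, i < 48768 → P i := stepQ 48767 Q48767 (allL N48767 (tt N52875 (iv1 F151764)) (tt N52874 F151761) (tt N28418 F134435) (tt N46446 F134436) (tt N25663 (iv4 D87536)) (tt N54131 (iv5 F156069)) (tt N52382 (iv6 F298492)) (tt N48919 (iv7 F134889)))
theorem Q48769 : ∀ i, i < 48769 → P i := stepQ 48768 Q48768 (allL N48768 (tt N34874 F301169) (tt N42687 F301170) (tt N28419 F134437) (tt N44711 F301171) (tt N52382 F301172) (tt N79125 (iv5 F303942)) (tt N25663 (iv6 D87537)) (tt N43462 F301173))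
theorem Q48770 : ∀ i, i < 48770 → P i := stepQ 48769 Q48769 (allL N48769 (tt N49422 (iv1 F136302)) (tt N25664 (iv0 D87538)) (tt N49444 (iv2 F136476)) (tt N42792 F335678) (tt N52426 (iv4 F149590)) (tt N82952 D183385) (tt N53002 (iv6 F287748)) (tt N49445 (iv7 F136479)))
theorem Q48771 : ∀ i, i < 48771 → P i := stepQ 48770 Q48770 (allL N48770 (tt N78691 (iv1 F347304)) (tt N82839 F284558) (tt N49446 (iv2 F136481)) (tt N52852 (iv3 F151711)) (tt N78688 (iv4 F347297)) (tt N25664 (iv5 D87540)) (tt N79125 (iv6 F303943)) (tt N82953 D183388))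
theorem Q48772 : ∀ i, i < 48772 → P i := stepQ 48771 Q48771 (allL N48771 (tt N49445 (iv1 F136478)) (tt N49444 F136474) (tt N49422 F136301) (tt N49769 (iv3 F137205)) (tt N49896 (iv4 F137894)) (tt N82953 (iv5 F285099)) (tt N52873 (iv6 F151756)) (tt N25664 (iv7 D87541)))
theorem Q48773 : ∀ i, i < 48773 → P i := stepQ 48772 Q48772 (allL N48772 (tt N49506 F232485) (tt N52963 F268295) (tt N25669 F134438) (tt N33845 F134439) (tt N48442 F134440) (tt N72114 (iv5 F338409)) (tt N25665 (iv6 D87542)) (tt N52962 F232486))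
theorem Q48774 : ∀ i, i < 48774 → P i := stepQ 48773 Q48773 (allL N48773 (tt N49524 F151752) (tt N52311 (iv0 F293519)) (tt N25671 F134441) (tt N72116 (iv3 F338415)) (tt N82954 D183390) (tt N25666 (iv5 D87543)) (tt N72114 (iv6 F338410)) (tt N52996 (iv7 F151976)))
theorem Q48775 : ∀ i, i < 48775 → P i := stepQ 48774 Q48774 (allL N48774 (tt N42542 F317270) (tt N43818 F310394) (tt N49460 (iv2 F136515)) (tt N52925 (iv3 F151870)) (tt N81686 (iv4 F312607)) (tt N82955 D183393) (tt N25667 (iv6 D87544)) (tt N82956 D183394))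
theorem Q48776 : ∀ i, i < 48776 → P i := stepQ 48775 Q48775 (allL N48775 (tt N46141 F312433) (tt N48486 (iv0 F233189)) (tt N48442 F134442) (tt N45309 (iv3 F304550)) (tt N25669 F134443) (tt N34259 (iv5 F306193)) (tt N25668 (iv6 D87545)) (tt N63082 (iv7 F304547)))
theorem Q48777 : ∀ i, i < 48777 → P i := stepQ 48776 Q48776 (allL N48776 (tt N52962 (iv1 F233024)) (tt N25669 (iv0 D87546)) (tt N49506 (iv2 F268267)) (tt N52950 F233022) (tt N82957 D183398) (tt N82958 D183399) (tt N82959 D183400) (tt N52963 F233023))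
theorem Q48778 : ∀ i, i < 48778 → P i := stepQ 48777 Q48777 (allL N48777 (tt N71934 (iv1 F365466)) (tt N52975 (iv0 F233166)) (tt N72114 (iv2 F338408)) (tt N25673 F134444) (tt N82960 D183402) (tt N25669 (iv5 D87548)) (tt N25671 F134445) (tt N82961 D183403))
theorem Q48779 : ∀ i, i < 48779 → P i := stepQ 48778 Q48778 (allL N48778 (tt N52963 (iv1 F268294)) (tt N49506 F233027) (tt N52962 F233025) (tt N25674 F134446) (tt N63082 F306548) (tt N82961 (iv5 F285124)) (tt N53111 (iv6 F233026)) (tt N25669 (iv7 D87549)))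
theorem Q48780 : ∀ i, i < 48780 → P i := stepQ 48779 Q48779 (allL N48779 (tt N39741 F329335) (tt N27676 F295068) (tt N49514 (iv2 F136732)) (tt N52983 (iv3 F151967)) (tt N82962 D183404) (tt N25670 (iv5 D87550)) (tt N82963 D183405) (tt N52997 (iv7 F151980)))
theorem Q48781 : ∀ i, i < 48781 → P i := stepQ 48780 Q48780 (allL N48780 (tt N52883 (iv1 F154639)) (tt N29317 F294887) (tt N49515 (iv2 F136735)) (tt N52984 (iv3 F151969)) (tt N41158 F308756) (tt N82964 D183406) (tt N25670 (iv6 D87551)) (tt N82735 (iv7 F283714)))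
theorem Q48782 : ∀ i, i < 48782 → P i := stepQ 48781 Q48781 (allL N48781 (tt N52996 (iv1 F151978)) (tt N25671 (iv0 D87552)) (tt N49524 (iv2 F136897)) (tt N53010 (iv3 F151998)) (tt N82965 D183407) (tt N48652 F294475) (tt N82966 D183408) (tt N52311 F294476))
theorem Q48783 : ∀ i, i < 48783 → P i := stepQ 48782 Q48782 (allL N48782 (tt N82967 D183409) (tt N82968 D183410) (tt N82954 (iv2 F285104)) (tt N82969 D183411) (tt N25671 (iv4 D87554)) (tt N82970 D183412) (tt N82960 (iv6 F285122)) (tt N82759 F295124))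
theorem Q48784 : ∀ i, i < 48784 → P i := stepQ 48783 Q48783 (allL N48783 (tt N49496 F233187) (tt N35013 F301612) (tt N49494 (iv2 F285185)) (tt N25672 (iv3 D87557)) (tt N75891 (iv4 F304373)) (tt N82971 D183423) (tt N43698 (iv6 F304374)) (tt N35357 (iv7 F304376)))
theorem Q48785 : ∀ i, i < 48785 → P i := stepQ 48784 Q48784 (allL N48784 (tt N43668 (iv1 F308299)) (tt N43667 (iv0 F308300)) (tt N43670 (iv2 F308298)) (tt N82971 (iv3 F285142)) (tt N82972 D183432) (tt N25672 (iv5 D87559)) (tt N82973 D183433) (tt N35360 (iv7 F308301)))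
theorem Q48786 : ∀ i, i < 48786 → P i := stepQ 48785 Q48785 (allL N48785 (tt N43666 F310388) (tt N25673 (iv0 D87566)) (tt N71894 (iv2 F345930)) (tt N82974 D183451) (tt N82975 D183452) (tt N44581 F310389) (tt N70989 (iv6 F345942)) (tt N82629 (iv7 F310660)))
theorem Q48787 : ∀ i, i < 48787 → P i := stepQ 48786 Q48786 (allL N48786 (tt N25673 (iv1 D87567)) (tt N43666 F310390) (tt N82629 (iv2 F310659)) (tt N82976 D183456) (tt N82977 D183457) (tt N48874 (iv5 F134768)) (tt N72096 (iv6 F412615)) (tt N71894 (iv7 F345932)))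
theorem Q48788 : ∀ i, i < 48788 → P i := stepQ 48787 Q48787 (allL N48787 (tt N82978 D183459) (tt N82979 D183460) (tt N78406 (iv2 F295105)) (tt N60956 (iv3 F347556)) (tt N25673 (iv4 D87568)) (tt N60955 (iv5 F347555)) (tt N25683 F134451) (tt N82980 D183463))
theorem Q48789 : ∀ i, i < 48789 → P i := stepQ 48788 Q48788 (allL N48788 (tt N82629 (iv1 F283312)) (tt N71894 (iv0 F339700)) (tt N43666 (iv2 F308296)) (tt N82961 (iv3 F285123)) (tt N82980 (iv4 F285213)) (tt N25674 F134452) (tt N82763 F295125) (tt N25673 (iv7 D87569)))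
theorem Q48790 : ∀ i, i < 48790 → P i := stepQ 48789 Q48789 (allL N48789 (tt N29029 F135033) (tt N82981 D183465) (tt N49498 (iv2 F136709)) (tt N25676 F134453) (tt N82982 D183466) (tt N25675 (iv5 D87571)) (tt N82983 D183467) (tt N49500 (iv7 F136712)))
theorem Q48791 : ∀ i, i < 48791 → P i := stepQ 48790 Q48790 (allL N48790 (tt N49838 F142412) (tt N50465 (iv0 F292009)) (tt N49499 (iv2 F136710)) (tt N25677 F134454) (tt N27243 F134455) (tt N28508 (iv5 F135031)) (tt N25675 (iv6 D87572)) (tt N50464 (iv7 F292008)))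
theorem Q48792 : ∀ i, i < 48792 → P i := stepQ 48791 Q48791 (allL N48791 (tt N82984 D183475) (tt N82985 D183476) (tt N51693 F295059) (tt N82983 (iv3 F285220)) (tt N80429 F295060) (tt N48893 (iv5 F134786)) (tt N25676 (iv6 D87576)) (tt N82986 D183477))
theorem Q48793 : ∀ i, i < 48793 → P i := stepQ 48792 Q48792 (allL N48792 (tt N25678 (iv1 D87578)) (tt N49497 F136707) (tt N82602 (iv2 F294751)) (tt N49518 (iv3 F151965)) (tt N82987 D183478) (tt N82988 D183479) (tt N52134 (iv6 F157637)) (tt N51844 (iv7 F157613)))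
theorem Q48794 : ∀ i, i < 48794 → P i := stepQ 48793 Q48793 (allL N48793 (tt N51844 (iv1 F157612)) (tt N82602 F295113) (tt N25678 (iv2 D87579)) (tt N49491 (iv3 F136692)) (tt N27904 F134462) (tt N82989 D183480) (tt N82990 D183481) (tt N49497 (iv7 F136706)))
theorem Q48795 : ∀ i, i < 48795 → P i := stepQ 48794 Q48794 (allL N48794 (tt N82991 D183482) (tt N82992 D183483) (tt N82989 (iv2 F285234)) (tt N25679 F134463) (tt N61584 (iv4 F364805)) (tt N25678 (iv5 D87580)) (tt N61583 (iv6 F364809)) (tt N51692 F295061))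
theorem Q48796 : ∀ i, i < 48796 → P i := stepQ 48795 Q48795 (allL N48795 (tt N82993 D183486) (tt N82994 D183487) (tt N82990 (iv2 F285236)) (tt N25680 F134464) (tt N27906 F134465) (tt N49146 (iv5 F135219)) (tt N25678 (iv6 D87581)) (tt N82730 (iv7 F283703)))
theorem Q48797 : ∀ i, i < 48797 → P i := stepQ 48796 Q48796 (allL N48796 (tt N82995 D183491) (tt N82996 D183492) (tt N51694 F295062) (tt N61583 (iv3 F364807)) (tt N61591 (iv4 F364817)) (tt N49147 (iv5 F135224)) (tt N25679 (iv6 D87583)) (tt N82997 D183493))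
theorem Q48798 : ∀ i, i < 48798 → P i := stepQ 48797 Q48797 (allL N48797 (tt N49505 F143986) (tt N49492 (iv0 F157559)) (tt N49502 F136717) (tt N25681 (iv3 D87584)) (tt N82998 D183494) (tt N27332 F293619) (tt N69922 (iv6 F367673)) (tt N49503 F136716))
theorem Q48799 : ∀ i, i < 48799 → P i := stepQ 48798 Q48798 (allL N48798 (tt N37757 F328522) (tt N44625 (iv0 F294524)) (tt N46541 F293625) (tt N82999 D183496) (tt N25681 (iv4 D87585)) (tt N27289 (iv5 F294527)) (tt N83000 D183498) (tt N46543 F293626))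
theorem Q48800 : ∀ i, i < 48800 → P i := stepQ 48799 Q48799 (allL N48799 (tt N72100 (iv1 F380783)) (tt N83001 D183500) (tt N52308 F293627) (tt N69922 (iv3 F367672)) (tt N83000 (iv4 F285244)) (tt N82722 (iv5 F283695)) (tt N25681 (iv6 D87586)) (tt N83002 D183501))
theorem Q48801 : ∀ i, i < 48801 → P i := stepQ 48800 Q48800 (allL N48800 (tt N82822 F284504) (tt N82988 (iv0 F356269)) (tt N83003 D183503) (tt N25682 (iv3 D87587)) (tt N83004 D183504) (tt N27331 F294500) (tt N83005 D183505) (tt N52307 F294501))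
theorem Q48802 : ∀ i, i < 48802 → P i := stepQ 48801 Q48801 (allL N48801 (tt N44625 (iv1 F294525)) (tt N37757 F328521) (tt N46543 F294502) (tt N83006 D183506) (tt N25682 (iv4 D87588)) (tt N27291 (iv5 F294528)) (tt N83007 D183508) (tt N46541 F294503))
theorem Q48803 : ∀ i, i < 48803 → P i := stepQ 48802 Q48802 (allL N48802 (tt N83008 D183509) (tt N71011 (iv0 F365377)) (tt N52303 F294504) (tt N83005 (iv3 F285245)) (tt N83007 (iv4 F285247)) (tt N55344 (iv5 F159643)) (tt N25682 (iv6 D87589)) (tt N83009 D183511))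
theorem Q48804 : ∀ i, i < 48804 → P i := stepQ 48803 Q48803 (allL N48803 (tt N83010 D183517) (tt N83011 D183518) (tt N83012 D183519) (tt N25683 (iv3 D87592)) (tt N82969 (iv4 F285130)) (tt N48289 (iv5 F295378)) (tt N60956 (iv6 F347557)) (tt N56720 (iv7 F359003)))
theorem Q48805 : ∀ i, i < 48805 → P i := stepQ 48804 Q48804 (allL N48804 (tt N53036 (iv1 F152079)) (tt N53035 F152078) (tt N49533 (iv2 F136787)) (tt N25685 F134468) (tt N83013 D183526) (tt N25684 (iv5 D87596)) (tt N83014 D183527) (tt N48659 F294429))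
theorem Q48806 : ∀ i, i < 48806 → P i := stepQ 48805 Q48805 (allL N48805 (tt N83015 D183528) (tt N49394 (iv0 F289293)) (tt N49534 (iv2 F136790)) (tt N25686 F134469) (tt N48805 F134470) (tt N49070 (iv5 F135145)) (tt N25684 (iv6 D87597)) (tt N82729 (iv7 F283701)))
theorem Q48807 : ∀ i, i < 48807 → P i := stepQ 48806 Q48806 (allL N48806 (tt N83016 D183532) (tt N77299 (iv0 F358606)) (tt N27277 F134472) (tt N83014 (iv3 F285253)) (tt N48297 (iv4 F295052)) (tt N49072 (iv5 F135148)) (tt N25685 (iv6 D87599)) (tt N83017 D183534))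
theorem Q48808 : ∀ i, i < 48808 → P i := stepQ 48807 Q48807 (allL N48807 (tt N53332 (iv1 F153359)) (tt N53331 (iv0 F153356)) (tt N32837 F134576) (tt N32862 F134577) (tt N28290 F134578) (tt N25687 (iv5 D87666)) (tt N62853 (iv6 F314938)) (tt N53308 (iv7 F153306)))
theorem Q48809 : ∀ i, i < 48809 → P i := stepQ 48808 Q48808 (allL N48808 (tt N83018 D183753) (tt N53227 (iv0 F290158)) (tt N50934 F160567) (tt N25688 (iv3 D87673)) (tt N49231 F135458) (tt N83019 D183754) (tt N83020 D183755) (tt N50937 (iv7 F160566)))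
theorem Q48810 : ∀ i, i < 48810 → P i := stepQ 48809 Q48809 (allL N48809 (tt N54660 F157379) (tt N48855 F289776) (tt N52721 (iv2 F160541)) (tt N28381 (iv3 F134591)) (tt N25688 (iv4 D87674)) (tt N83021 D183756) (tt N83022 D183757) (tt N52724 (iv7 F160545)))
theorem Q48811 : ∀ i, i < 48811 → P i := stepQ 48810 Q48810 (allL N48810 (tt N54593 F157644) (tt N54642 F157645) (tt N52722 (iv2 F160574)) (tt N83019 (iv3 F285524)) (tt N83023 D183758) (tt N25688 (iv5 D87675)) (tt N83024 D183759) (tt N52725 (iv7 F160573)))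
theorem Q48812 : ∀ i, i < 48812 → P i := stepQ 48811 Q48811 (allL N48811 (tt N50520 (iv1 F292184)) (tt N49154 (iv0 F288152)) (tt N52723 (iv2 F160575)) (tt N83020 (iv3 F285526)) (tt N83022 (iv4 F285531)) (tt N83025 D183762) (tt N25688 (iv6 D87676)) (tt N50161 (iv7 F295168)))
theorem Q48813 : ∀ i, i < 48813 → P i := stepQ 48812 Q48812 (allL N48812 (tt N53253 (iv1 F289658)) (tt N54633 (iv0 F157169)) (tt N83026 D183764) (tt N25689 (iv3 D87678)) (tt N29124 F134593) (tt N83027 D183765) (tt N50155 (iv6 F293092)) (tt N52720 F160571))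
theorem Q48814 : ∀ i, i < 48814 → P i := stepQ 48813 Q48813 (allL N48813 (tt N48855 F289777) (tt N54660 (iv0 F157376)) (tt N52724 F160542) (tt N49130 (iv3 F135201)) (tt N25689 (iv4 D87679)) (tt N83028 D183767) (tt N50156 (iv6 F294911)) (tt N52721 F160536))
theorem Q48815 : ∀ i, i < 48815 → P i := stepQ 48814 Q48814 (allL N48814 (tt N54642 (iv1 F160578)) (tt N54593 F160580) (tt N52725 (iv2 F160577)) (tt N83027 (iv3 F285548)) (tt N72027 (iv4 F382863)) (tt N25689 (iv5 D87680)) (tt N83029 D183770) (tt N52722 F160576))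
theorem Q48816 : ∀ i, i < 48816 → P i := stepQ 48815 Q48815 (allL N48815 (tt N52729 (iv1 F150993)) (tt N25690 (iv0 D87682)) (tt N52726 (iv2 F289301)) (tt N83030 D183774) (tt N83031 D183775) (tt N83015 (iv5 F285254)) (tt N83032 D183776) (tt N52727 (iv7 F289299)))
theorem Q48817 : ∀ i, i < 48817 → P i := stepQ 48816 Q48816 (allL N48816 (tt N25690 (iv1 D87683)) (tt N52729 F150992) (tt N52727 (iv2 F289298)) (tt N83033 D183778) (tt N83034 D183779) (tt N49394 (iv5 F136204)) (tt N83035 D183780) (tt N52726 (iv7 F289302)))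
theorem Q48818 : ∀ i, i < 48818 → P i := stepQ 48817 Q48817 (allL N48817 (tt N83036 D183781) (tt N83037 D183782) (tt N52728 (iv2 F150987)) (tt N83038 D183783) (tt N25690 (iv4 D87684)) (tt N83039 D183784) (tt N77387 (iv6 F310353)) (tt N83040 D183785))
theorem Q48819 : ∀ i, i < 48819 → P i := stepQ 48818 Q48818 (allL N48818 (tt N52727 (iv1 F150986)) (tt N52726 F150991) (tt N52729 (iv2 F150988)) (tt N25697 F134594) (tt N83040 (iv4 F285563)) (tt N25691 F134595) (tt N66870 (iv6 F352727)) (tt N25690 (iv7 D87685)))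
theorem Q48820 : ∀ i, i < 48820 → P i := stepQ 48819 Q48819 (allL N48819 (tt N25692 (iv1 D87701)) (tt N25839 F134611) (tt N25838 F156162) (tt N83018 F285523) (tt N68306 (iv4 F335796)) (tt N83041 D183848) (tt N54076 (iv6 F290223)) (tt N25786 F290201))
theorem Q48821 : ∀ i, i < 48821 → P i := stepQ 48820 Q48820 (allL N48820 (tt N25786 F290203) (tt N25838 F134610) (tt N25692 (iv2 D87702)) (tt N25850 F134608) (tt N50888 (iv4 F142911)) (tt N83042 D183850) (tt N50565 (iv6 F292618)) (tt N25839 F134609))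
theorem Q48822 : ∀ i, i < 48822 → P i := stepQ 48821 Q48821 (allL N48821 (tt N83043 D183852) (tt N83044 D183853) (tt N83042 (iv2 F285655)) (tt N25693 F134613) (tt N77912 (iv4 F359533)) (tt N25692 (iv5 D87703)) (tt N83045 D183855) (tt N25841 F134614))
theorem Q48823 : ∀ i, i < 48823 → P i := stepQ 48822 Q48822 (allL N48822 (tt N49079 (iv1 F337963)) (tt N49078 (iv0 F337965)) (tt N25853 F134616) (tt N83046 D183858) (tt N25693 (iv4 D87705)) (tt N54648 (iv5 F157216)) (tt N49095 (iv6 F337970)) (tt N25845 F134617))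
theorem Q48824 : ∀ i, i < 48824 → P i := stepQ 48823 Q48823 (allL N48823 (tt N77401 (iv1 F312623)) (tt N77161 (iv0 F308377)) (tt N25854 F134618) (tt N83045 (iv3 F285665)) (tt N49095 F337973) (tt N50569 (iv5 F294573)) (tt N25693 (iv6 D87706)) (tt N49092 F337974))
theorem Q48825 : ∀ i, i < 48825 → P i := stepQ 48824 Q48824 (allL N48824 (tt N54634 (iv1 F336767)) (tt N53466 (iv0 F336647)) (tt N83047 D183865) (tt N25694 (iv3 D87707)) (tt N81890 (iv4 F362118)) (tt N49765 (iv5 F137187)) (tt N72480 (iv6 F352342)) (tt N25860 F134619))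
theorem Q48826 : ∀ i, i < 48826 → P i := stepQ 48825 Q48825 (allL N48825 (tt N49134 (iv1 F135207)) (tt N48853 (iv0 F134711)) (tt N25857 F134620) (tt N83048 D183868) (tt N25694 (iv4 D87708)) (tt N77083 (iv5 F337943)) (tt N43788 F337937) (tt N25861 F134621))
theorem Q48827 : ∀ i, i < 48827 → P i := stepQ 48826 Q48826 (allL N48826 (tt N43856 (iv1 F337931)) (tt N43826 (iv0 F337928)) (tt N25859 F134622) (tt N72480 (iv3 F352341)) (tt N43788 (iv4 F337934)) (tt N51206 (iv5 F143967)) (tt N25694 (iv6 D87709)) (tt N49048 F337920))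
theorem Q48828 : ∀ i, i < 48828 → P i := stepQ 48827 Q48827 (allL N48827 (tt N53980 (iv1 F290194)) (tt N83041 (iv0 F285649)) (tt N83049 D183873) (tt N25695 (iv3 D87710)) (tt N83050 D183874) (tt N49619 F136954) (tt N83051 D183875) (tt N25856 F134623))
theorem Q48829 : ∀ i, i < 48829 → P i := stepQ 48828 Q48828 (allL N48828 (tt N48853 (iv1 F134712)) (tt N49134 (iv0 F135206)) (tt N25861 F134624) (tt N83052 D183876) (tt N25695 (iv4 D87711)) (tt N49763 (iv5 F137172)) (tt N83053 D183877) (tt N25857 F134625))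
theorem Q48830 : ∀ i, i < 48830 → P i := stepQ 48829 Q48829 (allL N48829 (tt N77147 (iv1 F353706)) (tt N77150 (iv0 F355063)) (tt N25863 F134626) (tt N83051 (iv3 F285698)) (tt N83053 (iv4 F285701)) (tt N49622 (iv5 F136964)) (tt N25695 (iv6 D87712)) (tt N77350 (iv7 F352351)))
theorem Q48831 : ∀ i, i < 48831 → P i := stepQ 48830 Q48830 (allL N48830 (tt N25868 (iv1 F134627)) (tt N25696 (iv0 D87713)) (tt N25864 F137691) (tt N83054 D183881) (tt N51704 (iv4 F147066)) (tt N77069 (iv5 F338035)) (tt N43824 F338030) (tt N25865 F137692))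
theorem Q48832 : ∀ i, i < 48832 → P i := stepQ 48831 Q48831 (allL N48831 (tt N25696 (iv1 D87714)) (tt N25868 F134628) (tt N25865 F137689) (tt N83055 D183883) (tt N49870 (iv4 F137688)) (tt N82625 (iv5 F283284)) (tt N83056 D183884) (tt N25864 F137690))
theorem Q48833 : ∀ i, i < 48833 → P i := stepQ 48832 Q48832 (allL N48832 (tt N83057 D183885) (tt N83058 D183886) (tt N83059 D183887) (tt N25696 (iv3 D87715)) (tt N83038 (iv4 F285562)) (tt N82704 (iv5 F283658)) (tt N77388 (iv6 F310367)) (tt N82703 F283656))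
theorem Q48834 : ∀ i, i < 48834 → P i := stepQ 48833 Q48833 (allL N48833 (tt N77383 (iv1 F310898)) (tt N77382 (iv0 F310897)) (tt N25869 F134629) (tt N66870 (iv3 F352726)) (tt N82705 (iv4 F283660)) (tt N54118 (iv5 F156010)) (tt N25697 (iv6 D87716)) (tt N77157 (iv7 F310373)))
theorem Q48835 : ∀ i, i < 48835 → P i := stepQ 48834 Q48834 (allL N48834 (tt N49870 (iv1 F137687)) (tt N51704 F147068) (tt N25875 F134630) (tt N53687 (iv3 F154409)) (tt N49101 (iv4 F135175)) (tt N25699 (iv5 D87717)) (tt N83060 D183890) (tt N25712 F134631))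
theorem Q48836 : ∀ i, i < 48836 → P i := stepQ 48835 Q48835 (allL N48835 (tt N25901 (iv1 F134633)) (tt N25700 (iv0 D87718)) (tt N25900 (iv2 F134632)) (tt N53489 (iv3 F153854)) (tt N54942 (iv4 F158377)) (tt N77930 (iv5 F340587)) (tt N53430 (iv6 F153665)) (tt N25752 F134634))
theorem Q48837 : ∀ i, i < 48837 → P i := stepQ 48836 Q48836 (allL N48836 (tt N25900 (iv1 F134639)) (tt N25752 F134638) (tt N25700 (iv2 D87719)) (tt N25877 F134636) (tt N52229 (iv4 F148071)) (tt N83061 D183892) (tt N49193 (iv6 F135342)) (tt N25901 F134637))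
theorem Q48838 : ∀ i, i < 48838 → P i := stepQ 48837 Q48837 (allL N48837 (tt N83062 D183893) (tt N54812 (iv0 F157918)) (tt N83061 (iv2 F285718)) (tt N25701 F134641) (tt N77934 (iv4 F340574)) (tt N25700 (iv5 D87720)) (tt N83063 D183895) (tt N25902 F134642))
theorem Q48839 : ∀ i, i < 48839 → P i := stepQ 48838 Q48838 (allL N48838 (tt N25703 (iv1 F134644)) (tt N25701 (iv0 D87721)) (tt N25880 (iv2 F134645)) (tt N54821 F157955) (tt N49075 (iv4 F135151)) (tt N48550 F134643) (tt N77362 (iv6 F353696)) (tt N25881 (iv7 F134646)))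
theorem Q48840 : ∀ i, i < 48840 → P i := stepQ 48839 Q48839 (allL N48839 (tt N25701 (iv1 D87722)) (tt N25703 F134647) (tt N25881 (iv2 F134650)) (tt N83064 D183897) (tt N49076 (iv4 F135154)) (tt N48608 F134649) (tt N83065 D183898) (tt N25880 F134648))
theorem Q48841 : ∀ i, i < 48841 → P i := stepQ 48840 Q48840 (allL N48840 (tt N51604 (iv1 F146165)) (tt N54643 (iv0 F157192)) (tt N25882 F134651) (tt N83063 (iv3 F329946)) (tt N25701 (iv4 D87723)) (tt N49153 (iv5 F135243)) (tt N25701 (iv6 F329948)) (tt N25904 F134652))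
theorem Q48842 : ∀ i, i < 48842 → P i := stepQ 48841 Q48841 (allL N48841 (tt N82792 (iv1 F294478)) (tt N28445 (iv0 F134655)) (tt N83066 D183905) (tt N25702 (iv3 D87725)) (tt N55504 (iv4 F160402)) (tt N52884 F283276) (tt N26758 F294100) (tt N25908 F134654))
theorem Q48843 : ∀ i, i < 48843 → P i := stepQ 48842 Q48842 (allL N48842 (tt N54643 (iv1 F157193)) (tt N51604 (iv0 F146164)) (tt N25904 F134656) (tt N83067 D183906) (tt N25703 (iv4 D87726)) (tt N82623 (iv5 F283270)) (tt N83068 D183907) (tt N25882 F134657))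
theorem Q48844 : ∀ i, i < 48844 → P i := stepQ 48843 Q48843 (allL N48843 (tt N77399 (iv1 F353749)) (tt N83069 D183909) (tt N25905 F134658) (tt N54502 (iv3 F157030)) (tt N83068 (iv4 F285757)) (tt N50688 (iv5 F295234)) (tt N25703 (iv6 D87727)) (tt N83068 (iv7 F329954)))
theorem Q48845 : ∀ i, i < 48845 → P i := stepQ 48844 Q48844 (allL N48844 (tt N26610 F134677) (tt N26609 F134678) (tt N26242 F291769) (tt N25706 F134675) (tt N48746 (iv4 F292797)) (tt N25705 (iv5 D87731)) (tt N26235 F291770) (tt N26605 F134676))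
theorem Q48846 : ∀ i, i < 48846 → P i := stepQ 48845 Q48845 (allL N48845 (tt N25972 F290752) (tt N26472 (iv0 F134682)) (tt N26244 F290753) (tt N25707 F134680) (tt N29110 F134681) (tt N26236 (iv5 F291116)) (tt N25705 (iv6 D87732)) (tt N27625 F290754))
theorem Q48847 : ∀ i, i < 48847 → P i := stepQ 48846 Q48846 (allL N48846 (tt N53182 F157773) (tt N25765 F157774) (tt N51699 (iv2 F147044)) (tt N28265 F134706) (tt N53853 (iv4 F154826)) (tt N83070 D183920) (tt N25708 (iv6 D87740)) (tt N55341 (iv7 F159627)))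
theorem Q48848 : ∀ i, i < 48848 → P i := stepQ 48847 Q48847 (allL N48847 (tt N25725 F177361) (tt N53693 F177362) (tt N51698 (iv2 F147043)) (tt N50216 (iv3 F139249)) (tt N53852 (iv4 F154824)) (tt N83071 D183921) (tt N25709 (iv6 D87741)) (tt N53716 F177363))
theorem Q48849 : ∀ i, i < 48849 → P i := stepQ 48848 Q48848 (allL N48848 (tt N53433 F153676) (tt N25710 (iv0 D87742)) (tt N53679 F154398) (tt N28297 F134707) (tt N53870 (iv4 F289597)) (tt N72002 (iv5 F331215)) (tt N83072 D183923) (tt N53680 (iv7 F154397)))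
theorem Q48850 : ∀ i, i < 48850 → P i := stepQ 48849 Q48849 (allL N48849 (tt N25710 (iv1 D87743)) (tt N53433 F153677) (tt N53680 (iv2 F154399)) (tt N50219 F154400) (tt N53871 (iv4 F289602)) (tt N71999 (iv5 F331216)) (tt N52305 (iv6 F350442)) (tt N53679 F154401))
theorem Q48851 : ∀ i, i < 48851 → P i := stepQ 48850 Q48850 (allL N48850 (tt N47546 (iv1 F329426)) (tt N47544 (iv0 F329427)) (tt N53681 (iv2 F154403)) (tt N25711 F134708) (tt N46856 F329090) (tt N25710 (iv5 D87744)) (tt N82869 (iv6 F284684)) (tt N55364 (iv7 F159814)))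
theorem Q48852 : ∀ i, i < 48852 → P i := stepQ 48851 Q48851 (allL N48851 (tt N52451 F293043) (tt N25711 (iv0 D87745)) (tt N51464 (iv2 F145062)) (tt N53507 (iv3 F155996)) (tt N54114 (iv4 F155992)) (tt N29319 F293044) (tt N83073 D183929) (tt N51466 (iv7 F145069)))
theorem Q48853 : ∀ i, i < 48853 → P i := stepQ 48852 Q48852 (allL N48852 (tt N28749 F134709) (tt N28752 F134710) (tt N55334 (iv2 F159598)) (tt N83074 D183930) (tt N25711 (iv4 D87746)) (tt N51967 (iv5 F291432)) (tt N78350 (iv6 F310134)) (tt N55365 (iv7 F159822)))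
theorem Q48854 : ∀ i, i < 48854 → P i := stepQ 48853 Q48853 (allL N48853 (tt N48825 F134711) (tt N48828 F134712) (tt N49102 F135179) (tt N83075 D183932) (tt N25712 (iv4 D87747)) (tt N82708 (iv5 F283666)) (tt N43856 F308466) (tt N49101 F135177))
theorem Q48855 : ∀ i, i < 48855 → P i := stepQ 48854 Q48854 (allL N48854 (tt N57517 (iv1 F326314)) (tt N78090 (iv0 F326315)) (tt N39279 (iv2 F326311)) (tt N35251 F134713) (tt N33156 (iv4 F326313)) (tt N25713 (iv5 D87750)) (tt N33848 F134714) (tt N39278 (iv7 F326316)))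
theorem Q48856 : ∀ i, i < 48856 → P i := stepQ 48855 Q48855 (allL N48855 (tt N48809 (iv1 F289776)) (tt N48813 (iv0 F289777)) (tt N47818 F134717) (tt N25715 F134718) (tt N47818 F134719) (tt N83076 D183949) (tt N25714 (iv6 D87752)) (tt N54497 (iv7 F289778)))
theorem Q48857 : ∀ i, i < 48857 → P i := stepQ 48856 Q48856 (allL N48856 (tt N82731 (iv1 F343889)) (tt N62024 (iv0 F346034)) (tt N42541 F134721) (tt N83076 (iv3 F285803)) (tt N62067 (iv4 F346025)) (tt N25715 (iv5 D87755)) (tt N42521 F134722) (tt N54498 (iv7 F289782)))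
theorem Q48858 : ∀ i, i < 48858 → P i := stepQ 48857 Q48857 (allL N48857 (tt N25720 (iv1 F134733)) (tt N25716 (iv0 D87757)) (tt N25717 F154190) (tt N83077 D183965) (tt N28403 (iv4 F134735)) (tt N83078 D183966) (tt N50684 (iv6 F295151)) (tt N25718 F154191))
theorem Q48859 : ∀ i, i < 48859 → P i := stepQ 48858 Q48858 (allL N48858 (tt N25716 (iv1 D87758)) (tt N25720 F134728) (tt N25718 F154186) (tt N28408 F134729) (tt N28649 F134730) (tt N83079 D183967) (tt N54681 (iv6 F289858)) (tt N25717 F154187))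
theorem Q48860 : ∀ i, i < 48860 → P i := stepQ 48859 Q48859 (allL N48859 (tt N83080 D183969) (tt N83081 D183970) (tt N25719 F134731) (tt N53504 (iv3 F153878)) (tt N61656 (iv4 F360998)) (tt N25716 (iv5 D87759)) (tt N63126 (iv6 F185731)) (tt N63475 (iv7 F335365)))
theorem Q48861 : ∀ i, i < 48861 → P i := stepQ 48860 Q48860 (allL N48860 (tt N25718 (iv1 F134734)) (tt N25717 F134736) (tt N25720 F134732) (tt N50631 (iv3 F140422)) (tt N53233 (iv4 F153154)) (tt N63475 (iv5 F335364)) (tt N51189 (iv6 F143898)) (tt N25716 (iv7 D87760)))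
theorem Q48862 : ∀ i, i < 48862 → P i := stepQ 48861 Q48861 (allL N48861 (tt N27051 F134738) (tt N28642 F143901) (tt N28403 F154188) (tt N53285 (iv3 F157784)) (tt N25717 (iv4 D87762)) (tt N83082 D183973) (tt N48628 F295091) (tt N28649 F154189))
theorem Q48863 : ∀ i, i < 48863 → P i := stepQ 48862 Q48862 (allL N48862 (tt N83083 D183975) (tt N39357 (iv0 F338289)) (tt N83078 (iv2 F285829)) (tt N53202 (iv3 F153003)) (tt N67720 (iv4 F362693)) (tt N25717 (iv5 D87763)) (tt N83084 D183978) (tt N83079 (iv7 F285833)))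
theorem Q48864 : ∀ i, i < 48864 → P i := stepQ 48863 Q48863 (allL N48863 (tt N50685 F294602) (tt N49164 (iv0 F289932)) (tt N50684 (iv2 F295149)) (tt N27071 F294603) (tt N48628 F294604) (tt N82850 F284612) (tt N25717 (iv6 D87764)) (tt N50058 F294605))
theorem Q48865 : ∀ i, i < 48865 → P i := stepQ 48864 Q48864 (allL N48864 (tt N28272 F177413) (tt N83085 D183981) (tt N53203 (iv2 F153008)) (tt N25718 (iv3 D87766)) (tt N53203 (iv4 F153009)) (tt N83086 D183982) (tt N83087 D183983) (tt N83077 (iv7 F285826)))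
theorem Q48866 : ∀ i, i < 48866 → P i := stepQ 48865 Q48865 (allL N48865 (tt N28642 (iv1 F134742)) (tt N27051 (iv0 F134740)) (tt N28649 F154179) (tt N28399 (iv3 F134741)) (tt N25718 (iv4 D87767)) (tt N83088 D183984) (tt N49143 F289897) (tt N28403 F154180))
theorem Q48867 : ∀ i, i < 48867 → P i := stepQ 48866 Q48866 (allL N48866 (tt N39357 F338290) (tt N83083 F285857) (tt N83079 (iv2 F285831)) (tt N83086 (iv3 F285865)) (tt N67721 (iv4 F383482)) (tt N25718 (iv5 D87768)) (tt N83089 D183987) (tt N83078 (iv7 F285830)))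
theorem Q48868 : ∀ i, i < 48868 → P i := stepQ 48867 Q48867 (allL N48867 (tt N27329 F293413) (tt N55367 (iv0 F289909)) (tt N54681 (iv2 F289857)) (tt N83087 (iv3 F285866)) (tt N49143 F289896) (tt N83090 D183990) (tt N25718 (iv6 D87769)) (tt N55369 (iv7 F289869)))
theorem Q48869 : ∀ i, i < 48869 → P i := stepQ 48868 Q48868 (allL N48868 (tt N63475 (iv1 F335362)) (tt N25719 (iv0 D87770)) (tt N83080 (iv2 F285848)) (tt N40130 F329840) (tt N83091 D183992) (tt N55301 (iv5 F343867)) (tt N83092 D183994) (tt N83081 F285849))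
theorem Q48870 : ∀ i, i < 48870 → P i := stepQ 48869 Q48869 (allL N48869 (tt N25719 (iv1 D87771)) (tt N63475 (iv0 F335361)) (tt N83081 (iv2 F285839)) (tt N83093 D183995) (tt N83094 D183996) (tt N55302 (iv5 F343880)) (tt N83095 D183997) (tt N83080 (iv7 F285847)))
theorem Q48871 : ∀ i, i < 48871 → P i := stepQ 48870 Q48870 (allL N48870 (tt N54020 (iv1 F344248)) (tt N54024 (iv0 F155771)) (tt N61656 (iv2 F360997)) (tt N83096 D183999) (tt N25719 (iv4 D87772)) (tt N83097 D184000) (tt N76096 (iv6 F236298)) (tt N83098 D184001))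
theorem Q48872 : ∀ i, i < 48872 → P i := stepQ 48871 Q48871 (allL N48871 (tt N83081 (iv1 F285837)) (tt N83080 F285845) (tt N63475 (iv2 F335363)) (tt N25733 F134743) (tt N83098 (iv4 F285886)) (tt N25720 F134744) (tt N83099 D184002) (tt N25719 (iv7 D87773)))
theorem Q48873 : ∀ i, i < 48873 → P i := stepQ 48872 Q48872 (allL N48872 (tt N67932 (iv1 F315087)) (tt N52820 (iv0 F321376)) (tt N53706 (iv2 F265230)) (tt N25721 (iv3 D87785)) (tt N70529 (iv4 F311279)) (tt N83100 D184035) (tt N83101 D184036) (tt N55353 (iv7 F308568)))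
theorem Q48874 : ∀ i, i < 48874 → P i := stepQ 48873 Q48873 (allL N48873 (tt N65225 (iv1 F310401)) (tt N65175 (iv0 F366750)) (tt N55351 (iv2 F308565)) (tt N83100 (iv3 F285985)) (tt N64740 (iv4 F338874)) (tt N25721 (iv5 D87787)) (tt N83102 D184041) (tt N55354 (iv7 F308570)))
theorem Q48875 : ∀ i, i < 48875 → P i := stepQ 48874 Q48874 (allL N48874 (tt N76965 (iv1 F311651)) (tt N77065 (iv0 F311650)) (tt N55352 (iv2 F308567)) (tt N83101 (iv3 F285986)) (tt N65264 (iv4 F304665)) (tt N48786 F134768) (tt N25721 (iv6 D87788)) (tt N76876 (iv7 F311653)))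
theorem Q48876 : ∀ i, i < 48876 → P i := stepQ 48875 Q48875 (allL N48875 (tt N65175 (iv1 F366751)) (tt N65225 (iv0 F310400)) (tt N55354 (iv2 F308569)) (tt N53710 F265227) (tt N64741 (iv4 F338865)) (tt N25722 (iv5 D87792)) (tt N83103 D184048) (tt N55351 (iv7 F308566)))
theorem Q48877 : ∀ i, i < 48877 → P i := stepQ 48876 Q48876 (allL N48876 (tt N55356 (iv1 F159717)) (tt N25723 (iv0 D87794)) (tt N35396 F308458) (tt N83104 D184053) (tt N83105 D184054) (tt N35370 (iv5 F308576)) (tt N83106 D184055) (tt N35383 F308459))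
theorem Q48878 : ∀ i, i < 48878 → P i := stepQ 48877 Q48877 (allL N48877 (tt N25723 (iv1 D87795)) (tt N55356 F159716) (tt N35383 F308460) (tt N53713 F283417) (tt N83107 D184056) (tt N35366 (iv5 F308577)) (tt N83108 D184057) (tt N35396 F308461))
theorem Q48879 : ∀ i, i < 48879 → P i := stepQ 48878 Q48878 (allL N48878 (tt N64732 (iv1 F351235)) (tt N62201 (iv0 F331046)) (tt N55355 (iv2 F159711)) (tt N83109 D184060) (tt N25723 (iv4 D87796)) (tt N78068 (iv5 F350384)) (tt N25732 F134770) (tt N83110 D184062))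
theorem Q48880 : ∀ i, i < 48880 → P i := stepQ 48879 Q48879 (allL N48879 (tt N35383 F308462) (tt N35396 F308463) (tt N55356 (iv2 F159713)) (tt N76097 (iv3 F236299)) (tt N83110 (iv4 F286008)) (tt N25724 F134771) (tt N83111 D184063) (tt N25723 (iv7 D87797)))
theorem Q48881 : ∀ i, i < 48881 → P i := stepQ 48880 Q48880 (allL N48880 (tt N53693 (iv1 F154429)) (tt N25725 (iv0 D87798)) (tt N53716 (iv2 F154728)) (tt N83085 (iv3 F285864)) (tt N83112 D184064) (tt N83113 D184065) (tt N55341 (iv6 F177433)) (tt N51698 (iv7 F177381)))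
theorem Q48882 : ∀ i, i < 48882 → P i := stepQ 48881 Q48881 (allL N48881 (tt N83114 D184066) (tt N83115 D184067) (tt N53717 (iv2 F154490)) (tt N25726 F134772) (tt N83116 D184068) (tt N25725 (iv5 D87800)) (tt N83117 D184069) (tt N55077 (iv7 F158597)))
theorem Q48883 : ∀ i, i < 48883 → P i := stepQ 48882 Q48882 (allL N48882 (tt N83118 D184070) (tt N83119 D184071) (tt N50507 (iv2 F292349)) (tt N25727 F134773) (tt N27569 F134774) (tt N82640 (iv5 F283446)) (tt N25725 (iv6 D87801)) (tt N50683 (iv7 F294367)))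
theorem Q48884 : ∀ i, i < 48884 → P i := stepQ 48883 Q48883 (allL N48883 (tt N25726 (iv1 D87802)) (tt N25728 F134775) (tt N29318 (iv2 F293562)) (tt N39357 (iv3 F343908)) (tt N50650 (iv4 F140502)) (tt N27557 F293422) (tt N39356 (iv6 F343909)) (tt N29315 (iv7 F293567)))
theorem Q48885 : ∀ i, i < 48885 → P i := stepQ 48884 Q48884 (allL N48884 (tt N50613 (iv1 F140498)) (tt N50616 (iv0 F140341)) (tt N55357 (iv2 F159718)) (tt N83120 D184074) (tt N25726 (iv4 D87803)) (tt N55281 (iv5 F293322)) (tt N73114 (iv6 F358481)) (tt N55078 (iv7 F158602)))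
theorem Q48886 : ∀ i, i < 48886 → P i := stepQ 48885 Q48885 (allL N48885 (tt N73489 (iv1 F358551)) (tt N73487 (iv0 F358552)) (tt N55358 (iv2 F159722)) (tt N83117 (iv3 F286013)) (tt N73114 (iv4 F358480)) (tt N82642 (iv5 F283454)) (tt N25726 (iv6 D87804)) (tt N83121 D184079))
theorem Q48887 : ∀ i, i < 48887 → P i := stepQ 48886 Q48886 (allL N48886 (tt N50616 (iv1 F140342)) (tt N50613 (iv0 F140340)) (tt N55078 (iv2 F158601)) (tt N83122 D184080) (tt N25728 (iv4 D87805)) (tt N55278 (iv5 F293231)) (tt N83123 D184082) (tt N55357 (iv7 F159719)))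
theorem Q48888 : ∀ i, i < 48888 → P i := stepQ 48887 Q48887 (allL N48887 (tt N83124 D184083) (tt N76955 (iv0 F366803)) (tt N55079 (iv2 F158605)) (tt N53722 (iv3 F154507)) (tt N83123 (iv4 F286024)) (tt N83125 D184085) (tt N25728 (iv6 D87806)) (tt N83126 D184086))
theorem Q48889 : ∀ i, i < 48889 → P i := stepQ 48888 Q48888 (allL N48888 (tt N49862 F137634) (tt N49861 (iv0 F137627)) (tt N49867 F137680) (tt N49811 (iv3 F286029)) (tt N83127 D184087) (tt N25729 (iv5 D87808)) (tt N83125 (iv6 F286025)) (tt N49868 (iv7 F137682)))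
theorem Q48890 : ∀ i, i < 48890 → P i := stepQ 48889 Q48889 (allL N48889 (tt N83113 (iv1 F366084)) (tt N83071 (iv0 F352899)) (tt N53723 (iv2 F154509)) (tt N25730 (iv3 D87809)) (tt N83128 D184090) (tt N55300 (iv5 F293841)) (tt N83129 D184092) (tt N55360 (iv7 F159726)))
theorem Q48891 : ∀ i, i < 48891 → P i := stepQ 48890 Q48890 (allL N48890 (tt N49006 (iv1 F135029)) (tt N28369 (iv0 F134780)) (tt N49003 F135024) (tt N83130 D184093) (tt N25730 (iv4 D87810)) (tt N52191 (iv5 F294999)) (tt N66811 (iv6 F358491)) (tt N49004 F135023))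
theorem Q48892 : ∀ i, i < 48892 → P i := stepQ 48891 Q48891 (allL N48891 (tt N83131 D184096) (tt N83132 D184097) (tt N55359 (iv2 F159724)) (tt N83129 (iv3 F286046)) (tt N66811 (iv4 F358490)) (tt N83065 (iv5 F285735)) (tt N25730 (iv6 D87812)) (tt N83133 D184098))
theorem Q48893 : ∀ i, i < 48893 → P i := stepQ 48892 Q48892 (allL N48892 (tt N28369 F134785) (tt N49006 F135028) (tt N49004 F135022) (tt N83134 D184099) (tt N25731 (iv4 D87814)) (tt N55270 (iv5 F294998)) (tt N83135 D184101) (tt N49003 (iv7 F135026)))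
theorem Q48894 : ∀ i, i < 48894 → P i := stepQ 48893 Q48893 (allL N48893 (tt N83136 D184102) (tt N83137 D184103) (tt N55361 (iv2 F159727)) (tt N53728 (iv3 F154511)) (tt N83135 (iv4 F286050)) (tt N48791 F134786) (tt N25731 (iv6 D87815)) (tt N83138 D184104))
theorem Q48895 : ∀ i, i < 48895 → P i := stepQ 48894 Q48894 (allL N48894 (tt N83139 D184110) (tt N83140 D184111) (tt N83141 D184112) (tt N25732 (iv3 D87818)) (tt N83096 (iv4 F285885)) (tt N55294 (iv5 F294318)) (tt N83109 (iv6 F286007)) (tt N83142 D184114))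
theorem Q48896 : ∀ i, i < 48896 → P i := stepQ 48895 Q48895 (allL N48895 (tt N53480 (iv1 F153815)) (tt N53478 (iv0 F153803)) (tt N50633 (iv2 F140429)) (tt N83142 (iv3 F286057)) (tt N25733 F134788) (tt N55141 (iv5 F294324)) (tt N83143 D184116) (tt N25732 (iv7 D87820)))
theorem Q48897 : ∀ i, i < 48897 → P i := stepQ 48896 Q48896 (allL N48896 (tt N83144 D184117) (tt N83145 D184118) (tt N50634 (iv2 F140435)) (tt N83099 (iv3 F285887)) (tt N83143 (iv4 F286058)) (tt N51192 (iv5 F143912)) (tt N25733 (iv6 D87821)) (tt N83111 (iv7 F286009)))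
theorem Q48898 : ∀ i, i < 48898 → P i := stepQ 48897 Q48897 (allL N48897 (tt N53821 (iv1 F154736)) (tt N53820 F154735) (tt N50141 (iv2 F293977)) (tt N25735 F134789) (tt N83146 D184119) (tt N25734 (iv5 D87822)) (tt N83147 D184120) (tt N50635 (iv7 F140448)))
theorem Q48899 : ∀ i, i < 48899 → P i := stepQ 48898 Q48898 (allL N48898 (tt N50651 (iv1 F140503)) (tt N50650 F140501) (tt N26716 F134793) (tt N83148 D184123) (tt N25735 (iv4 D87824)) (tt N50663 (iv5 F140573)) (tt N62343 (iv6 F331052)) (tt N50637 (iv7 F140453)))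
theorem Q48900 : ∀ i, i < 48900 → P i := stepQ 48899 Q48899 (allL N48899 (tt N73492 (iv1 F331067)) (tt N73491 (iv0 F331066)) (tt N26717 F134794) (tt N83147 (iv3 F286059)) (tt N62343 (iv4 F331051)) (tt N50576 (iv5 F295238)) (tt N25735 (iv6 D87825)) (tt N73481 (iv7 F331065)))
theorem Q48901 : ∀ i, i < 48901 → P i := stepQ 48900 Q48900 (allL N48900 (tt N83149 D184128) (tt N52330 (iv0 F343057)) (tt N49935 (iv2 F292220)) (tt N25736 (iv3 D87826)) (tt N48900 F134795) (tt N55230 (iv5 F292221)) (tt N27441 F291395) (tt N50639 (iv7 F140465)))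
theorem Q48902 : ∀ i, i < 48902 → P i := stepQ 48901 Q48901 (allL N48901 (tt N25738 (iv1 D87848)) (tt N25751 F134824) (tt N25749 F134828) (tt N27004 (iv3 F134827)) (tt N29233 (iv4 F134829)) (tt N27159 F134826) (tt N27561 F291137) (tt N25748 F134825))
theorem Q48903 : ∀ i, i < 48903 → P i := stepQ 48902 Q48902 (allL N48902 (tt N25749 (iv1 F134833)) (tt N25748 F134834) (tt N25751 F134830) (tt N26271 (iv3 F291299)) (tt N48617 (iv4 F291821)) (tt N25739 F134832) (tt N28960 (iv6 F291297)) (tt N25738 (iv7 D87849)))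
theorem Q48904 : ∀ i, i < 48904 → P i := stepQ 48903 Q48903 (allL N48903 (tt N52229 (iv1 F289682)) (tt N25893 (iv0 F289683)) (tt N52186 (iv2 F147950)) (tt N54908 (iv3 F158268)) (tt N53253 (iv4 F153221)) (tt N31810 (iv5 F329882)) (tt N25740 (iv6 D87850)) (tt N52228 (iv7 F289684)))
theorem Q48905 : ∀ i, i < 48905 → P i := stepQ 48904 Q48904 (allL N48904 (tt N27315 (iv1 F289637)) (tt N52277 (iv0 F289638)) (tt N52184 (iv2 F147942)) (tt N52186 (iv3 F147951)) (tt N53278 (iv4 F153280)) (tt N58497 (iv5 F354564)) (tt N25741 (iv6 D87851)) (tt N52276 (iv7 F289642)))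
theorem Q48906 : ∀ i, i < 48906 → P i := stepQ 48905 Q48905 (allL N48905 (tt N48751 F134837) (tt N48749 F134838) (tt N25743 F134835) (tt N27348 F134836) (tt N52500 (iv4 F149838)) (tt N25742 (iv5 D87852)) (tt N52869 (iv6 F308341)) (tt N51802 (iv7 F147246)))
theorem Q48907 : ∀ i, i < 48907 → P i := stepQ 48906 Q48906 (allL N48906 (tt N55268 (iv1 F159262)) (tt N53911 (iv0 F154962)) (tt N25744 F134839) (tt N27349 F134840) (tt N25753 F134841) (tt N83150 D184192) (tt N25742 (iv6 D87853)) (tt N53605 (iv7 F154095)))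
theorem Q48908 : ∀ i, i < 48908 → P i := stepQ 48907 Q48907 (allL N48907 (tt N25743 (iv1 D87854)) (tt N51802 F147248) (tt N48749 F134845) (tt N48751 (iv3 F134844)) (tt N64061 (iv4 F192669)) (tt N27750 F134843) (tt N83151 D184193) (tt N48751 F134842))
theorem Q48909 : ∀ i, i < 48909 → P i := stepQ 48908 Q48908 (allL N48908 (tt N75920 (iv1 F366333)) (tt N58509 (iv0 F361285)) (tt N52869 (iv2 F308340)) (tt N25745 F134847) (tt N63440 (iv4 F304284)) (tt N83152 D184197) (tt N25743 (iv6 D87856)) (tt N83153 D184198))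
theorem Q48910 : ∀ i, i < 48910 → P i := stepQ 48909 Q48909 (allL N48909 (tt N53605 (iv1 F154097)) (tt N25744 (iv0 D87857)) (tt N55268 (iv2 F159265)) (tt N54910 (iv3 F158270)) (tt N53281 (iv4 F157793)) (tt N83154 D184199) (tt N52239 (iv6 F370110)) (tt N53911 F154964))
theorem Q48911 : ∀ i, i < 48911 → P i := stepQ 48910 Q48910 (allL N48910 (tt N25744 (iv1 D87858)) (tt N53605 F154096) (tt N53911 (iv2 F154961)) (tt N52189 F158455) (tt N53282 (iv4 F157789)) (tt N77708 (iv5 F358499)) (tt N83155 D184202) (tt N55268 (iv7 F159263)))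
theorem Q48912 : ∀ i, i < 48912 → P i := stepQ 48911 Q48911 (allL N48911 (tt N83156 D184203) (tt N63498 (iv0 F365408)) (tt N83150 (iv2 F286119)) (tt N25746 F134848) (tt N83157 D184205) (tt N25744 (iv5 D87859)) (tt N83152 (iv6 F286125)) (tt N55269 (iv7 F159268)))
theorem Q48913 : ∀ i, i < 48913 → P i := stepQ 48912 Q48912 (allL N48912 (tt N83158 D184216) (tt N83159 D184217) (tt N51811 (iv2 F147268)) (tt N83152 (iv3 F286124)) (tt N83160 D184218) (tt N25745 (iv5 D87862)) (tt N25746 F134849) (tt N83161 D184219))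
theorem Q48914 : ∀ i, i < 48914 → P i := stepQ 48913 Q48913 (allL N48913 (tt N51810 (iv1 F147267)) (tt N51809 F147272) (tt N51812 (iv2 F147270)) (tt N83153 (iv3 F286126)) (tt N75008 (iv4 F314955)) (tt N83161 (iv5 F286130)) (tt N51808 (iv6 F147257)) (tt N25745 (iv7 D87863)))
theorem Q48915 : ∀ i, i < 48915 → P i := stepQ 48914 Q48914 (allL N48914 (tt N52129 (iv1 F147697)) (tt N25746 (iv0 D87864)) (tt N50624 (iv2 F293310)) (tt N53882 (iv3 F329988)) (tt N55137 (iv4 F158983)) (tt N26739 F293229) (tt N79566 (iv6 F357426)) (tt N50626 (iv7 F293320)))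
theorem Q48916 : ∀ i, i < 48916 → P i := stepQ 48915 Q48915 (allL N48915 (tt N29289 F134873) (tt N29291 F134850) (tt N52191 (iv2 F147966)) (tt N83162 D184221) (tt N25746 (iv4 D87865)) (tt N49003 (iv5 F294996)) (tt N83160 (iv6 F286129)) (tt N55270 (iv7 F159270)))
theorem Q48917 : ∀ i, i < 48917 → P i := stepQ 48916 Q48916 (allL N48916 (tt N83163 D184228) (tt N83164 D184229) (tt N83165 D184230) (tt N25750 (iv3 D87873)) (tt N25779 F134883) (tt N55360 (iv5 F293880)) (tt N48525 F134884) (tt N55300 (iv7 F159354)))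
theorem Q48918 : ∀ i, i < 48918 → P i := stepQ 48917 Q48917 (allL N48917 (tt N83166 D184234) (tt N72664 (iv0 F340567)) (tt N53174 (iv2 F152851)) (tt N53488 (iv3 F153852)) (tt N77931 (iv4 F340590)) (tt N25752 (iv5 D87876)) (tt N82955 (iv6 F285108)) (tt N77930 (iv7 F340588)))
theorem Q48919 : ∀ i, i < 48919 → P i := stepQ 48918 Q48918 (allL N48918 (tt N53194 (iv1 F154101)) (tt N53632 F154145) (tt N25757 F134887) (tt N53987 (iv3 F155640)) (tt N83167 D184236) (tt N25753 (iv5 D87877)) (tt N76092 (iv6 F236292)) (tt N53606 (iv7 F154099)))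
theorem Q48920 : ∀ i, i < 48920 → P i := stepQ 48919 Q48919 (allL N48919 (tt N36422 F303690) (tt N48765 F134890) (tt N28037 F134888) (tt N45498 F134891) (tt N25754 (iv4 D87878)) (tt N49039 (iv5 F135086)) (tt N83168 D184237) (tt N48767 F134889))
theorem Q48921 : ∀ i, i < 48921 → P i := stepQ 48920 Q48920 (allL N48920 (tt N63128 (iv1 F344408)) (tt N76963 (iv0 F306624)) (tt N28038 F134892) (tt N53534 (iv3 F153972)) (tt N83168 (iv4 F286166)) (tt N83169 D184240) (tt N25754 (iv6 D87879)) (tt N76924 (iv7 F302983)))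
theorem Q48922 : ∀ i, i < 48922 → P i := stepQ 48921 Q48921 (allL N48921 (tt N53568 (iv1 F232753)) (tt N25755 (iv0 D87880)) (tt N53183 (iv2 F275008)) (tt N53556 F232751) (tt N83170 D184242) (tt N83171 D184243) (tt N70536 (iv6 F359868)) (tt N53569 F232752))
theorem Q48923 : ∀ i, i < 48923 → P i := stepQ 48922 Q48922 (allL N48922 (tt N83172 D184245) (tt N53584 (iv0 F346704)) (tt N76092 (iv2 F236290)) (tt N25761 F134893) (tt N83173 D184247) (tt N25755 (iv5 D87882)) (tt N25757 F134894) (tt N78326 (iv7 F311806)))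
theorem Q48924 : ∀ i, i < 48924 → P i := stepQ 48923 Q48923 (allL N48923 (tt N53613 (iv1 F154124)) (tt N53612 F154122) (tt N53192 (iv2 F152919)) (tt N53592 (iv3 F154076)) (tt N83174 D184249) (tt N25756 (iv5 D87884)) (tt N83175 D184250) (tt N53608 (iv7 F154109)))
theorem Q48925 : ∀ i, i < 48925 → P i := stepQ 48924 Q48924 (allL N48924 (tt N53606 (iv1 F154102)) (tt N25757 (iv0 D87886)) (tt N53194 (iv2 F152928)) (tt N53624 (iv3 F154135)) (tt N83176 D184251) (tt N83177 D184252) (tt N83178 D184253) (tt N53632 (iv7 F154143)))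
theorem Q48926 : ∀ i, i < 48926 → P i := stepQ 48925 Q48925 (allL N48925 (tt N83179 D184254) (tt N83180 D184255) (tt N83167 (iv2 F286163)) (tt N83181 D184256) (tt N25757 (iv4 D87888)) (tt N83182 D184257) (tt N83173 (iv6 F286176)) (tt N83183 D184258))
theorem Q48927 : ∀ i, i < 48927 → P i := stepQ 48926 Q48926 (allL N48926 (tt N53632 (iv1 F154144)) (tt N53194 (iv0 F152927)) (tt N53606 (iv2 F154098)) (tt N25771 F134896) (tt N83183 (iv4 F286186)) (tt N25758 F134897) (tt N83184 D184259) (tt N25757 (iv7 D87889)))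
theorem Q48928 : ∀ i, i < 48928 → P i := stepQ 48927 Q48927 (allL N48927 (tt N65187 (iv1 F312388)) (tt N65185 (iv0 F343504)) (tt N55336 (iv2 F307376)) (tt N80617 (iv3 F268862)) (tt N79369 (iv4 F332007)) (tt N25759 (iv5 D87893)) (tt N83185 D184272) (tt N55338 (iv7 F307389)))
theorem Q48929 : ∀ i, i < 48929 → P i := stepQ 48928 Q48928 (allL N48928 (tt N44813 (iv1 F312375)) (tt N80917 (iv0 F312376)) (tt N80618 (iv2 F268868)) (tt N25760 (iv3 D87896)) (tt N45682 F310110) (tt N80935 (iv5 F312378)) (tt N75471 (iv6 F307390)) (tt N55335 (iv7 F307375)))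
theorem Q48930 : ∀ i, i < 48930 → P i := stepQ 48929 Q48929 (allL N48929 (tt N65185 (iv1 F343505)) (tt N65187 (iv0 F312387)) (tt N55338 (iv2 F307388)) (tt N80935 (iv3 F312377)) (tt N83186 D184286) (tt N25760 (iv5 D87898)) (tt N83187 D184287) (tt N55336 (iv7 F307377)))
theorem Q48931 : ∀ i, i < 48931 → P i := stepQ 48930 Q48930 (allL N48930 (tt N25761 (iv1 D87901)) (tt N43710 (iv0 F306633)) (tt N43712 (iv2 F306643)) (tt N83188 D184295) (tt N66362 (iv4 F329828)) (tt N35346 (iv5 F307393)) (tt N83189 D184297) (tt N35345 (iv7 F306639)))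
theorem Q48932 : ∀ i, i < 48932 → P i := stepQ 48931 Q48931 (allL N48931 (tt N64689 (iv1 F307394)) (tt N77327 (iv0 F306451)) (tt N55340 (iv2 F159617)) (tt N83190 D184300) (tt N25761 (iv4 D87902)) (tt N83191 D184301) (tt N25770 F134901) (tt N77326 (iv7 F307396)))
theorem Q48933 : ∀ i, i < 48933 → P i := stepQ 48932 Q48932 (allL N48932 (tt N43712 (iv1 F306642)) (tt N35345 (iv0 F306637)) (tt N43710 (iv2 F306634)) (tt N78326 (iv3 F311805)) (tt N77326 (iv4 F307395)) (tt N25762 F134902) (tt N83192 D184303) (tt N25761 (iv7 D87903)))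
theorem Q48934 : ∀ i, i < 48934 → P i := stepQ 48933 Q48933 (allL N48933 (tt N83193 D184313) (tt N83194 D184314) (tt N55344 (iv2 F159642)) (tt N40540 F329562) (tt N63783 (iv4 F329733)) (tt N52303 (iv5 F293587)) (tt N25764 (iv6 D87909)) (tt N83195 D184315))
theorem Q48935 : ∀ i, i < 48935 → P i := stepQ 48934 Q48934 (allL N48934 (tt N25765 (iv1 D87911)) (tt N53182 F152890) (tt N55341 F159625) (tt N50438 (iv3 F154219)) (tt N53905 (iv4 F154944)) (tt N83196 D184316) (tt N53716 (iv6 F177432)) (tt N51699 (iv7 F157761)))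
theorem Q48936 : ∀ i, i < 48936 → P i := stepQ 48935 Q48935 (allL N48935 (tt N51699 F159079) (tt N55341 F159626) (tt N25765 (iv2 D87912)) (tt N51093 (iv3 F292312)) (tt N28587 (iv4 F143251)) (tt N76288 (iv5 F354449)) (tt N83197 D184318) (tt N53182 (iv7 F152889)))
theorem Q48937 : ∀ i, i < 48937 → P i := stepQ 48936 Q48936 (allL N48936 (tt N83198 D184319) (tt N83199 D184320) (tt N76288 (iv2 F354448)) (tt N25766 F134909) (tt N55289 (iv4 F349159)) (tt N25765 (iv5 D87913)) (tt N83200 D184322) (tt N55342 (iv7 F159629)))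
theorem Q48938 : ∀ i, i < 48938 → P i := stepQ 48937 Q48937 (allL N48937 (tt N83201 D184323) (tt N83202 D184324) (tt N83197 (iv2 F286254)) (tt N25767 F134910) (tt N29308 F134911) (tt N82717 (iv5 F283682)) (tt N25765 (iv6 D87914)) (tt N49156 (iv7 F135259)))
theorem Q48939 : ∀ i, i < 48939 → P i := stepQ 48938 Q48938 (allL N48938 (tt N83203 D184328) (tt N47196 (iv0 F358783)) (tt N55345 (iv2 F159648)) (tt N83200 (iv3 F286256)) (tt N77699 (iv4 F329895)) (tt N82719 (iv5 F283688)) (tt N25766 (iv6 D87916)) (tt N83204 D184330))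
theorem Q48940 : ∀ i, i < 48940 → P i := stepQ 48939 Q48939 (allL N48939 (tt N29118 (iv1 F293042)) (tt N26310 F134914) (tt N29193 F292023) (tt N44057 F328898) (tt N49766 (iv4 F137194)) (tt N25768 (iv5 D87919)) (tt N48605 F134915) (tt N29194 (iv7 F293126)))
theorem Q48941 : ∀ i, i < 48941 → P i := stepQ 48940 Q48940 (allL N48940 (tt N83205 D184337) (tt N83206 D184338) (tt N55347 (iv2 F159651)) (tt N44058 F328899) (tt N44065 F328900) (tt N55375 (iv5 F159846)) (tt N25768 (iv6 D87920)) (tt N79529 (iv7 F329244)))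
theorem Q48942 : ∀ i, i < 48942 → P i := stepQ 48941 Q48941 (allL N48941 (tt N83070 F285784) (tt N83196 (iv0 F286278)) (tt N76199 (iv2 F328506)) (tt N25769 (iv3 D87921)) (tt N28588 F329991) (tt N48725 F134917) (tt N83207 D184343) (tt N55346 (iv7 F159649)))
theorem Q48943 : ∀ i, i < 48943 → P i := stepQ 48942 Q48942 (allL N48942 (tt N28696 F134918) (tt N44063 F329035) (tt N34362 F329036) (tt N44066 (iv3 F329370)) (tt N25769 (iv4 D87922)) (tt N55005 (iv5 F294886)) (tt N66942 (iv6 F336307)) (tt N44064 F329037))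
theorem Q48944 : ∀ i, i < 48944 → P i := stepQ 48943 Q48943 (allL N48943 (tt N83208 D184347) (tt N77194 (iv0 F358554)) (tt N55348 (iv2 F159652)) (tt N83207 (iv3 F286279)) (tt N66942 (iv4 F336305)) (tt N48728 F134919) (tt N25769 (iv6 D87923)) (tt N83209 D184349))
theorem Q48945 : ∀ i, i < 48945 → P i := stepQ 48944 Q48944 (allL N48944 (tt N51191 (iv1 F143910)) (tt N25770 (iv0 D87924)) (tt N54095 (iv2 F155932)) (tt N63799 (iv3 F354185)) (tt N25817 F134920) (tt N63798 (iv5 F347881)) (tt N79611 (iv6 F354189)) (tt N51115 (iv7 F294653)))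
theorem Q48946 : ∀ i, i < 48946 → P i := stepQ 48945 Q48945 (allL N48945 (tt N25770 (iv1 D87925)) (tt N51191 (iv0 F143909)) (tt N51115 (iv2 F294652)) (tt N71341 (iv3 F343448)) (tt N25818 F134923) (tt N49964 (iv5 F292274)) (tt N77192 (iv6 F343442)) (tt N54095 (iv7 F155933)))
theorem Q48947 : ∀ i, i < 48947 → P i := stepQ 48946 Q48946 (allL N48946 (tt N44132 (iv1 F331308)) (tt N34390 (iv0 F331309)) (tt N44131 (iv2 F331310)) (tt N25770 (iv3 D87926)) (tt N83181 (iv4 F286185)) (tt N39406 F331291) (tt N83190 (iv6 F286245)) (tt N39405 F331292))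
theorem Q48948 : ∀ i, i < 48948 → P i := stepQ 48947 Q48947 (allL N48947 (tt N51115 (iv1 F294651)) (tt N54095 (iv0 F155935)) (tt N51191 (iv2 F143906)) (tt N39405 (iv3 F331268)) (tt N25771 F134924) (tt N39404 F331256) (tt N83210 D184361) (tt N25770 (iv7 D87928)))
theorem Q48949 : ∀ i, i < 48949 → P i := stepQ 48948 Q48948 (allL N48948 (tt N40114 (iv1 F331752)) (tt N66355 (iv0 F331753)) (tt N51192 (iv2 F143911)) (tt N83184 (iv3 F286187)) (tt N83210 (iv4 F286290)) (tt N50634 (iv5 F140436)) (tt N25771 (iv6 D87929)) (tt N83192 (iv7 F286247)))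
theorem Q48950 : ∀ i, i < 48950 → P i := stepQ 48949 Q48949 (allL N48949 (tt N53641 (iv1 F154221)) (tt N53640 F154220) (tt N53198 (iv2 F152953)) (tt N25773 F134925) (tt N83211 D184364) (tt N25772 (iv5 D87930)) (tt N83212 D184365) (tt N51194 (iv7 F143923)))
theorem Q48951 : ∀ i, i < 48951 → P i := stepQ 48950 Q48950 (allL N48950 (tt N50161 (iv1 F295164)) (tt N52723 F285543) (tt N50520 (iv2 F292185)) (tt N25774 F134926) (tt N48950 F134927) (tt N82668 (iv5 F283610)) (tt N25772 (iv6 D87931)) (tt N49154 (iv7 F135247)))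
theorem Q48952 : ∀ i, i < 48952 → P i := stepQ 48951 Q48951 (allL N48951 (tt N83213 D184368) (tt N83214 D184369) (tt N27064 F134929) (tt N83212 (iv3 F286291)) (tt N47194 F358741) (tt N82670 (iv5 F283616)) (tt N25773 (iv6 D87933)) (tt N83215 D184370))
theorem Q48953 : ∀ i, i < 48953 → P i := stepQ 48952 Q48952 (allL N48952 (tt N52330 (iv1 F343055)) (tt N83149 (iv0 F367107)) (tt N50639 (iv2 F294328)) (tt N25775 (iv3 D87936)) (tt N48952 F134933) (tt N83216 D184379) (tt N81554 (iv6 F343023)) (tt N49935 (iv7 F292273)))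
theorem Q48954 : ∀ i, i < 48954 → P i := stepQ 48953 Q48953 (allL N48953 (tt N26608 F291898) (tt N29109 F291899) (tt N27068 F134934) (tt N83216 (iv3 F286308)) (tt N63798 (iv4 F347880)) (tt N25775 (iv5 D87937)) (tt N83217 D184381) (tt N29158 F291900))
theorem Q48955 : ∀ i, i < 48955 → P i := stepQ 48954 Q48954 (allL N48954 (tt N26328 F292798) (tt N26327 F292799) (tt N26330 F292800) (tt N81554 (iv3 F343021)) (tt N25776 F134936) (tt N29127 F292801) (tt N25775 (iv6 D87938)) (tt N26317 F292802))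
theorem Q48956 : ∀ i, i < 48956 → P i := stepQ 48955 Q48955 (allL N48955 (tt N50661 (iv1 F295352)) (tt N83218 D184384) (tt N83219 D184385) (tt N25777 (iv3 D87939)) (tt N27010 F134937) (tt N55289 (iv5 F294884)) (tt N27408 F294156) (tt N52699 F294157))
theorem Q48957 : ∀ i, i < 48957 → P i := stepQ 48956 Q48956 (allL N48956 (tt N29116 F294025) (tt N29115 F294026) (tt N29186 F294027) (tt N55289 (iv3 F294883)) (tt N55005 (iv4 F294885)) (tt N25777 (iv5 D87940)) (tt N83220 D184388) (tt N29187 F294028))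
theorem Q48958 : ∀ i, i < 48958 → P i := stepQ 48957 Q48957 (allL N48957 (tt N26336 F292058) (tt N26334 (iv0 F292365)) (tt N27567 F292059) (tt N77713 (iv3 F326523)) (tt N29316 F134939) (tt N27320 (iv5 F293160)) (tt N25778 (iv6 D87944)) (tt N27407 F292060))
theorem Q48959 : ∀ i, i < 48959 → P i := stepQ 48958 Q48958 (allL N48958 (tt N83221 D184397) (tt N25779 (iv0 D87945)) (tt N52432 (iv2 F295212)) (tt N83222 D184399) (tt N83223 D184400) (tt N83224 D184401) (tt N49928 (iv6 F340538)) (tt N83225 D184403))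
theorem Q48960 : ∀ i, i < 48960 → P i := stepQ 48959 Q48959 (allL N48959 (tt N25779 (iv1 D87946)) (tt N83221 F286329) (tt N83225 (iv2 F286331)) (tt N27552 (iv3 F295209)) (tt N53046 (iv4 F294973)) (tt N55280 (iv5 F295210)) (tt N47606 F326739) (tt N52432 (iv7 F295213)))
theorem Q48961 : ∀ i, i < 48961 → P i := stepQ 48960 Q48960 (allL N48960 (tt N52432 (iv1 F295206)) (tt N83225 (iv0 F340533)) (tt N25779 (iv2 D87947)) (tt N52683 (iv3 F294978)) (tt N83165 (iv4 F286155)) (tt N54582 (iv5 F346623)) (tt N48527 F134940) (tt N83221 (iv7 F286328)))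
theorem Q48962 : ∀ i, i < 48962 → P i := stepQ 48961 Q48961 (allL N48961 (tt N51706 (iv1 F352886)) (tt N55082 (iv0 F359410)) (tt N54582 (iv2 F346621)) (tt N25780 F134941) (tt N53427 (iv4 F346669)) (tt N25779 (iv5 D87948)) (tt N70889 (iv6 F331274)) (tt N54579 (iv7 F352903)))
theorem Q48963 : ∀ i, i < 48963 → P i := stepQ 48962 Q48962 (allL N48962 (tt N83225 (iv1 F340534)) (tt N52432 (iv0 F295205)) (tt N83221 F286327) (tt N25781 F134942) (tt N55300 (iv4 F159353)) (tt N54579 (iv5 F352902)) (tt N49967 (iv6 F293238)) (tt N25779 (iv7 D87949)))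
theorem Q48964 : ∀ i, i < 48964 → P i := stepQ 48963 Q48963 (allL N48963 (tt N71575 (iv1 F331270)) (tt N41280 (iv0 F331271)) (tt N39389 F331258) (tt N70889 (iv3 F331272)) (tt N39403 (iv4 F331266)) (tt N48530 F134944) (tt N25780 (iv6 D87953)) (tt N71576 (iv7 F331276)))
theorem Q48965 : ∀ i, i < 48965 → P i := stepQ 48964 Q48964 (allL N48964 (tt N51627 F293901) (tt N27593 F293902) (tt N49973 (iv2 F294118)) (tt N54579 (iv3 F352901)) (tt N54927 (iv4 F293993)) (tt N25781 F134945) (tt N83226 D184426) (tt N25780 (iv7 D87954)))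
theorem Q48966 : ∀ i, i < 48966 → P i := stepQ 48965 Q48965 (allL N48965 (tt N50270 (iv1 F290314)) (tt N50250 (iv0 F363855)) (tt N50086 (iv2 F138846)) (tt N53978 (iv3 F155620)) (tt N25783 F134948) (tt N60867 (iv5 F177082)) (tt N25782 (iv6 D87956)) (tt N54170 (iv7 F290180)))
theorem Q48967 : ∀ i, i < 48967 → P i := stepQ 48966 Q48966 (allL N48966 (tt N54201 (iv1 F352687)) (tt N54111 (iv0 F352685)) (tt N54075 (iv2 F155893)) (tt N53229 (iv3 F153133)) (tt N78246 (iv4 F363854)) (tt N25783 (iv5 D87959)) (tt N80544 (iv6 F268344)) (tt N54171 (iv7 F290181)))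
theorem Q48968 : ∀ i, i < 48968 → P i := stepQ 48967 Q48967 (allL N48967 (tt N50934 (iv1 F290216)) (tt N50937 (iv0 F290217)) (tt N53227 (iv2 F153120)) (tt N25786 F134949) (tt N50864 (iv4 F142810)) (tt N83227 D184447) (tt N25784 (iv6 D87961)) (tt N83018 (iv7 F290218)))
theorem Q48969 : ∀ i, i < 48969 → P i := stepQ 48968 Q48968 (allL N48968 (tt N53490 (iv1 F290227)) (tt N53493 (iv0 F290228)) (tt N53978 (iv2 F155619)) (tt N26841 F134950) (tt N25786 F134951) (tt N60864 (iv5 F177076)) (tt N25785 (iv6 D87962)) (tt N68306 (iv7 F335798)))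
theorem Q48970 : ∀ i, i < 48970 → P i := stepQ 48969 Q48969 (allL N48969 (tt N25856 (iv1 F290229)) (tt N83049 (iv0 F290230)) (tt N53980 (iv2 F155627)) (tt N83227 (iv3 F286353)) (tt N77814 (iv4 F359551)) (tt N25786 (iv5 D87965)) (tt N77142 (iv6 F306762)) (tt N83041 (iv7 F290226)))
theorem Q48971 : ∀ i, i < 48971 → P i := stepQ 48970 Q48970 (allL N48970 (tt N25796 (iv1 F134958)) (tt N25787 (iv0 D87967)) (tt N25793 F155679) (tt N53295 (iv3 F177403)) (tt N50095 (iv4 F138868)) (tt N83228 D184466) (tt N50564 (iv6 F362649)) (tt N25794 F155680))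
theorem Q48972 : ∀ i, i < 48972 → P i := stepQ 48971 Q48971 (allL N48971 (tt N76713 (iv1 F361039)) (tt N54023 F155773) (tt N25795 F134953) (tt N46748 F134954) (tt N76707 (iv4 F345121)) (tt N25787 (iv5 D87969)) (tt N46745 F134955) (tt N83229 D184470))
theorem Q48973 : ∀ i, i < 48973 → P i := stepQ 48972 Q48972 (allL N48972 (tt N25794 (iv1 F134959)) (tt N25793 F134960) (tt N25796 F134956) (tt N40138 F329535) (tt N50837 (iv4 F142698)) (tt N83229 (iv5 F286368)) (tt N51199 (iv6 F143948)) (tt N25787 (iv7 D87970)))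
theorem Q48974 : ∀ i, i < 48974 → P i := stepQ 48973 Q48973 (allL N48973 (tt N53673 F154353) (tt N48992 (iv0 F345125)) (tt N43288 F134961) (tt N26474 F134962) (tt N53221 (iv4 F345130)) (tt N25788 (iv5 D87972)) (tt N43205 F134963) (tt N51076 (iv7 F143449)))
theorem Q48975 : ∀ i, i < 48975 → P i := stepQ 48974 Q48974 (allL N48974 (tt N42664 F134971) (tt N43438 F134972) (tt N42810 F134967) (tt N43531 F134968) (tt N25790 (iv4 D87974)) (tt N45291 F134969) (tt N65416 (iv6 F330650)) (tt N43439 F134970))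
theorem Q48976 : ∀ i, i < 48976 → P i := stepQ 48975 Q48975 (allL N48975 (tt N43565 F303721) (tt N34815 F195921) (tt N46742 F134973) (tt N76987 (iv3 F241318)) (tt N65416 (iv4 F330649)) (tt N83230 D184476) (tt N25790 (iv6 D87975)) (tt N79138 (iv7 F301833)))
theorem Q48977 : ∀ i, i < 48977 → P i := stepQ 48976 Q48976 (allL N48976 (tt N25791 (iv1 D87976)) (tt N34790 F134974) (tt N28412 (iv2 F134978)) (tt N79363 (iv3 F254532)) (tt N28411 F134976) (tt N34432 F134977) (tt N46865 F312612) (tt N44712 F302449))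
theorem Q48978 : ∀ i, i < 48978 → P i := stepQ 48977 Q48977 (allL N48977 (tt N33691 F134982) (tt N41877 F134983) (tt N41931 F134979) (tt N66877 (iv3 F205970)) (tt N42530 F134981) (tt N25791 (iv5 D87977)) (tt N66742 (iv6 F321609)) (tt N41932 F134980))
theorem Q48979 : ∀ i, i < 48979 → P i := stepQ 48978 Q48978 (allL N48978 (tt N83231 D184480) (tt N79991 (iv0 F332302)) (tt N46739 F134984) (tt N44428 F316067) (tt N25792 F134985) (tt N80867 (iv5 F338579)) (tt N25791 (iv6 D87978)) (tt N83232 D184483))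
theorem Q48980 : ∀ i, i < 48980 → P i := stepQ 48979 Q48979 (allL N48979 (tt N44915 (iv1 F134992)) (tt N25792 (iv0 D87979)) (tt N46743 F233092) (tt N42779 (iv3 F233067)) (tt N75770 (iv4 F233861)) (tt N83233 D184484) (tt N83234 D184485) (tt N46744 (iv7 F233090)))
theorem Q48981 : ∀ i, i < 48981 → P i := stepQ 48980 Q48980 (allL N48980 (tt N25792 (iv1 D87980)) (tt N44915 F134986) (tt N46744 (iv2 F233088)) (tt N83235 D184486) (tt N70550 (iv4 F332320)) (tt N83236 D184488) (tt N70549 (iv6 F351811)) (tt N46743 F233093))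
theorem Q48982 : ∀ i, i < 48982 → P i := stepQ 48981 Q48981 (allL N48981 (tt N64484 (iv1 F357863)) (tt N64481 (iv0 F357824)) (tt N46745 F134987) (tt N25800 F134988) (tt N83237 D184492) (tt N25792 (iv5 D87981)) (tt N25795 F134989) (tt N83238 D184493))
theorem Q48983 : ∀ i, i < 48983 → P i := stepQ 48982 Q48982 (allL N48982 (tt N46744 (iv1 F134993)) (tt N46743 F134994) (tt N44915 F134990) (tt N25801 F134991) (tt N83232 (iv4 F286414)) (tt N83238 (iv5 F286437)) (tt N54082 (iv6 F155906)) (tt N25792 (iv7 D87982)))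
theorem Q48984 : ∀ i, i < 48984 → P i := stepQ 48983 Q48983 (allL N48983 (tt N53780 F154731) (tt N50241 (iv0 F177351)) (tt N50095 (iv2 F155681)) (tt N54083 (iv3 F155908)) (tt N25793 (iv4 D87985)) (tt N83239 D184494) (tt N83240 D184495) (tt N54014 (iv7 F155762)))
theorem Q48985 : ∀ i, i < 48985 → P i := stepQ 48984 Q48984 (allL N48984 (tt N51081 (iv1 F340065)) (tt N50644 (iv0 F340062)) (tt N83228 (iv2 F286360)) (tt N53988 (iv3 F155643)) (tt N83241 D184498) (tt N25793 (iv5 D87986)) (tt N83242 D184499) (tt N54015 (iv7 F155766)))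
theorem Q48986 : ∀ i, i < 48986 → P i := stepQ 48985 Q48985 (allL N48985 (tt N50565 (iv1 F292616)) (tt N50567 (iv0 F292412)) (tt N50564 (iv2 F362648)) (tt N50145 (iv3 F338434)) (tt N83240 (iv4 F286441)) (tt N83243 D184502) (tt N25793 (iv6 D87987)) (tt N50545 (iv7 F338439)))
theorem Q48987 : ∀ i, i < 48987 → P i := stepQ 48986 Q48986 (allL N48986 (tt N50926 (iv1 F177371)) (tt N53298 (iv0 F177397)) (tt N53296 (iv2 F177407)) (tt N25794 (iv3 D87989)) (tt N51053 (iv4 F143347)) (tt N83244 D184504) (tt N83245 D184505) (tt N53295 (iv7 F177405)))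
theorem Q48988 : ∀ i, i < 48988 → P i := stepQ 48987 Q48987 (allL N48987 (tt N50241 (iv1 F177352)) (tt N53780 (iv0 F154612)) (tt N54014 (iv2 F155761)) (tt N26843 (iv3 F134997)) (tt N25794 (iv4 D87990)) (tt N83246 D184506) (tt N79006 (iv6 F349298)) (tt N50095 (iv7 F155677)))
theorem Q48989 : ∀ i, i < 48989 → P i := stepQ 48988 Q48988 (allL N48988 (tt N50644 (iv1 F340063)) (tt N51081 (iv0 F340064)) (tt N54015 (iv2 F155764)) (tt N83244 (iv3 F286445)) (tt N83247 D184508) (tt N25794 (iv5 D87991)) (tt N83248 D184509) (tt N83228 (iv7 F286361)))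
theorem Q48990 : ∀ i, i < 48990 → P i := stepQ 48989 Q48989 (allL N48989 (tt N50658 (iv1 F349295)) (tt N54173 (iv0 F349312)) (tt N54016 (iv2 F155767)) (tt N83245 (iv3 F286446)) (tt N79006 (iv4 F349297)) (tt N81321 (iv5 F360954)) (tt N25794 (iv6 D87992)) (tt N54177 (iv7 F344236)))
theorem Q48991 : ∀ i, i < 48991 → P i := stepQ 48990 Q48990 (allL N48990 (tt N83229 (iv1 F286371)) (tt N25795 (iv0 D87993)) (tt N76713 (iv2 F361040)) (tt N53990 (iv3 F362664)) (tt N79027 (iv4 F361036)) (tt N55310 (iv5 F349152)) (tt N76582 (iv6 F361037)) (tt N54023 (iv7 F361028)))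
theorem Q48992 : ∀ i, i < 48992 → P i := stepQ 48991 Q48991 (allL N48991 (tt N25795 (iv1 D87994)) (tt N83229 F286370) (tt N54023 (iv2 F361027)) (tt N83249 D184520) (tt N83250 D184521) (tt N55311 (iv5 F361034)) (tt N83251 D184523) (tt N76713 (iv7 F361041)))
theorem Q48993 : ∀ i, i < 48993 → P i := stepQ 48992 Q48992 (allL N48992 (tt N48973 F345125) (tt N76708 F345126) (tt N76707 F345127) (tt N61216 (iv3 F345132)) (tt N25795 (iv4 D87995)) (tt N53831 (iv5 F345134)) (tt N83237 (iv6 F286434)) (tt N76706 F345128))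
theorem Q48994 : ∀ i, i < 48994 → P i := stepQ 48993 Q48993 (allL N48993 (tt N54023 F155772) (tt N76713 (iv0 F361038)) (tt N83229 (iv2 F286366)) (tt N25804 F134998) (tt N76706 (iv4 F345123)) (tt N25796 F134999) (tt N83252 D184529) (tt N25795 (iv7 D87996)))
theorem Q48995 : ∀ i, i < 48995 → P i := stepQ 48994 Q48994 (allL N48994 (tt N53927 (iv1 F155024)) (tt N53926 F155021) (tt N26027 F135000) (tt N29763 F302950) (tt N25797 (iv4 D87997)) (tt N63018 (iv5 F307859)) (tt N29761 F302951) (tt N48531 F135002))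
theorem Q48996 : ∀ i, i < 48996 → P i := stepQ 48995 Q48995 (allL N48995 (tt N53304 (iv1 F315419)) (tt N52715 (iv0 F311973)) (tt N53269 F155415) (tt N25798 (iv3 D88004)) (tt N83253 D184547) (tt N83254 D184548) (tt N83255 D184549) (tt N53302 (iv7 F342632)))
theorem Q48997 : ∀ i, i < 48997 → P i := stepQ 48996 Q48996 (allL N48996 (tt N35114 (iv1 F306665)) (tt N35093 (iv0 F306662)) (tt N35111 F304667) (tt N83254 (iv3 F286486)) (tt N83256 D184551) (tt N25798 (iv5 D88006)) (tt N83257 D184552) (tt N35112 F304668))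
theorem Q48998 : ∀ i, i < 48998 → P i := stepQ 48997 Q48997 (allL N48997 (tt N43391 F308315) (tt N77245 F308316) (tt N53473 (iv2 F155829)) (tt N83255 (iv3 F286487)) (tt N78089 (iv4 F309280)) (tt N49036 F135083) (tt N25798 (iv6 D88007)) (tt N44570 F307579))
theorem Q48999 : ∀ i, i < 48999 → P i := stepQ 48998 Q48998 (allL N48998 (tt N35093 (iv1 F306663)) (tt N35114 (iv0 F306664)) (tt N35112 F304648) (tt N53272 (iv3 F155412)) (tt N83258 D184556) (tt N25799 (iv5 D88011)) (tt N83259 D184557) (tt N35111 F304649))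
theorem Q49000 : ∀ i, i < 49000 → P i := stepQ 48999 Q48999 (allL N48999 (tt N65252 (iv1 F309403)) (tt N65228 (iv0 F309406)) (tt N53476 (iv2 F153793)) (tt N83260 D184567) (tt N25800 (iv4 D88015)) (tt N83261 D184568) (tt N25803 F135018) (tt N83262 D184569))
theorem Q49001 : ∀ i, i < 49001 → P i := stepQ 49000 Q49000 (allL N49000 (tt N53475 (iv1 F153791)) (tt N53474 F153797) (tt N53477 (iv2 F153795)) (tt N83238 (iv3 F286436)) (tt N83262 (iv4 F286556)) (tt N25801 F135019) (tt N83263 D184570) (tt N25800 (iv7 D88016)))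
theorem Q49002 : ∀ i, i < 49002 → P i := stepQ 49001 Q49001 (allL N49001 (tt N53307 (iv1 F157668)) (tt N52716 (iv0 F157661)) (tt N53276 (iv2 F153267)) (tt N25802 (iv3 D88017)) (tt N83264 D184571) (tt N55148 (iv5 F292864)) (tt N83265 D184572) (tt N53305 (iv7 F157649)))
theorem Q49003 : ∀ i, i < 49003 → P i := stepQ 49002 Q49002 (allL N49002 (tt N76715 (iv1 F351170)) (tt N76717 (iv0 F351162)) (tt N53479 (iv2 F153805)) (tt N83265 (iv3 F286560)) (tt N55264 (iv4 F294749)) (tt N54644 (iv5 F157195)) (tt N25802 (iv6 D88018)) (tt N76714 (iv7 F351175)))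
theorem Q49004 : ∀ i, i < 49004 → P i := stepQ 49003 Q49003 (allL N49003 (tt N50642 (iv1 F140481)) (tt N25803 (iv0 D88020)) (tt N48890 (iv2 F135024)) (tt N82282 (iv3 F345421)) (tt N29350 F135025) (tt N48915 F294996) (tt N83266 D184581) (tt N48892 F135026))
theorem Q49005 : ∀ i, i < 49005 → P i := stepQ 49004 Q49004 (allL N49004 (tt N25803 (iv1 D88021)) (tt N50642 (iv0 F140480)) (tt N48892 (iv2 F135022)) (tt N83267 D184582) (tt N29351 F135021) (tt N55250 (iv5 F294758)) (tt N83268 D184584) (tt N48890 (iv7 F135023)))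
theorem Q49006 : ∀ i, i < 49006 → P i := stepQ 49005 Q49005 (allL N49005 (tt N59103 (iv1 F335719)) (tt N59105 (iv0 F362342)) (tt N74217 (iv2 F345170)) (tt N25803 (iv3 D88022)) (tt N61216 (iv4 F345133)) (tt N55244 (iv5 F294312)) (tt N83260 (iv6 F286555)) (tt N56861 (iv7 F345169)))
theorem Q49007 : ∀ i, i < 49007 → P i := stepQ 49006 Q49006 (allL N49006 (tt N48892 (iv1 F135028)) (tt N48890 F135029) (tt N50642 (iv2 F140478)) (tt N56861 (iv3 F345168)) (tt N25804 F135027) (tt N51052 (iv5 F292255)) (tt N83269 D184593) (tt N25803 (iv7 D88024)))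
theorem Q49008 : ∀ i, i < 49008 → P i := stepQ 49007 Q49007 (allL N49007 (tt N83270 D184594) (tt N83271 D184595) (tt N50643 (iv2 F140482)) (tt N83252 (iv3 F286462)) (tt N83269 (iv4 F286584)) (tt N51202 (iv5 F143965)) (tt N25804 (iv6 D88025)) (tt N83263 (iv7 F286559)))
theorem Q49009 : ∀ i, i < 49009 → P i := stepQ 49008 Q49008 (allL N49008 (tt N52720 (iv1 F289655)) (tt N83026 (iv0 F289656)) (tt N53253 (iv2 F153219)) (tt N25806 F135034) (tt N52186 (iv4 F147952)) (tt N83272 D184598) (tt N25805 (iv6 D88026)) (tt N54633 (iv7 F289652)))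
theorem Q49010 : ∀ i, i < 49010 → P i := stepQ 49009 Q49009 (allL N49009 (tt N83047 (iv1 F356384)) (tt N25860 F356381) (tt N53466 (iv2 F153773)) (tt N83272 (iv3 F286585)) (tt N83273 D184612) (tt N25806 (iv5 D88029)) (tt N48439 F135035) (tt N54634 (iv7 F289653)))
theorem Q49011 : ∀ i, i < 49011 → P i := stepQ 49010 Q49010 (allL N49010 (tt N54108 (iv1 F343853)) (tt N54211 (iv0 F356435)) (tt N53464 (iv2 F153764)) (tt N53252 (iv3 F153211)) (tt N83274 D184626) (tt N25807 (iv5 D88033)) (tt N49304 (iv6 F135896)) (tt N54192 (iv7 F289622)))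
theorem Q49012 : ∀ i, i < 49012 → P i := stepQ 49011 Q49011 (allL N49011 (tt N25808 (iv1 D88035)) (tt N25812 F135036) (tt N25810 F154984) (tt N53282 (iv3 F157788)) (tt N46747 (iv4 F135037)) (tt N59290 (iv5 F329909)) (tt N54640 (iv6 F352770)) (tt N25809 F154985))
theorem Q49013 : ∀ i, i < 49013 → P i := stepQ 49012 Q49012 (allL N49012 (tt N40065 (iv1 F329610)) (tt N40064 (iv0 F329609)) (tt N25811 F135039) (tt N54077 (iv3 F155900)) (tt N58961 F329524) (tt N25808 (iv5 D88036)) (tt N34796 F135040) (tt N40068 (iv7 F329611)))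
theorem Q49014 : ∀ i, i < 49014 → P i := stepQ 49013 Q49013 (allL N49013 (tt N25810 (iv1 F135044)) (tt N25809 F135045) (tt N25812 F135041) (tt N51199 (iv3 F143946)) (tt N40131 F329541) (tt N40068 F329767) (tt N40138 F329542) (tt N25808 (iv7 D88037)))
theorem Q49015 : ∀ i, i < 49015 → P i := stepQ 49014 Q49014 (allL N49014 (tt N53284 (iv1 F157780)) (tt N53279 (iv0 F157771)) (tt N53281 (iv2 F157791)) (tt N25809 (iv3 D88039)) (tt N55268 F159264) (tt N78173 (iv5 F329911)) (tt N82772 (iv6 F294417)) (tt N53282 (iv7 F157790)))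
theorem Q49016 : ∀ i, i < 49016 → P i := stepQ 49015 Q49015 (allL N49015 (tt N28961 (iv1 F356412)) (tt N54636 (iv0 F356413)) (tt N54640 (iv2 F352768)) (tt N53880 (iv3 F154880)) (tt N53470 (iv4 F153788)) (tt N82681 (iv5 F356415)) (tt N25810 (iv6 D88046)) (tt N54641 (iv7 F352772)))
theorem Q49017 : ∀ i, i < 49017 → P i := stepQ 49016 Q49016 (allL N49016 (tt N43718 (iv1 F306441)) (tt N43713 (iv0 F306442)) (tt N54092 F156890) (tt N53240 (iv3 F155503)) (tt N83275 D184664) (tt N25813 (iv5 D88054)) (tt N83276 D184665) (tt N53946 F156900))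
theorem Q49018 : ∀ i, i < 49018 → P i := stepQ 49017 Q49017 (allL N49017 (tt N34505 F304413) (tt N34511 F304414) (tt N34509 F304415) (tt N53241 (iv3 F155504)) (tt N52000 (iv4 F301295)) (tt N49032 F135077) (tt N25813 (iv6 D88055)) (tt N34508 F304416))
theorem Q49019 : ∀ i, i < 49019 → P i := stepQ 49018 Q49018 (allL N49018 (tt N52718 (iv1 F314251)) (tt N53289 (iv0 F314254)) (tt N53242 F155506) (tt N25814 (iv3 D88057)) (tt N43130 F314127) (tt N83277 D184670) (tt N83278 D184671) (tt N43128 F314128))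
theorem Q49020 : ∀ i, i < 49020 → P i := stepQ 49019 Q49019 (allL N49019 (tt N43713 (iv1 F306443)) (tt N43718 (iv0 F306440)) (tt N53946 (iv2 F156898)) (tt N83277 (iv3 F286662)) (tt N75486 (iv4 F340227)) (tt N25814 (iv5 D88059)) (tt N75485 (iv6 F353727)) (tt N54092 F156887))
theorem Q49021 : ∀ i, i < 49021 → P i := stepQ 49020 Q49020 (allL N49020 (tt N77377 (iv1 F306445)) (tt N43567 (iv0 F306416)) (tt N43799 (iv2 F306422)) (tt N83278 (iv3 F286663)) (tt N76029 (iv4 F306444)) (tt N43613 (iv5 F306447)) (tt N25814 (iv6 D88060)) (tt N43803 (iv7 F306449)))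
theorem Q49022 : ∀ i, i < 49022 → P i := stepQ 49021 Q49021 (allL N49021 (tt N65188 (iv1 F308467)) (tt N73191 (iv0 F325011)) (tt N54093 (iv2 F155925)) (tt N36084 F329678) (tt N25815 (iv4 D88063)) (tt N43977 (iv5 F331979)) (tt N25819 F135055) (tt N36079 (iv7 F329715)))
theorem Q49023 : ∀ i, i < 49023 → P i := stepQ 49022 Q49022 (allL N49022 (tt N83279 D184685) (tt N75421 (iv0 F354191)) (tt N54096 (iv2 F155937)) (tt N51124 (iv3 F292960)) (tt N79611 (iv4 F354188)) (tt N54182 (iv5 F156189)) (tt N25817 (iv6 D88065)) (tt N83280 D184687))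
theorem Q49024 : ∀ i, i < 49024 → P i := stepQ 49023 Q49023 (allL N49023 (tt N52719 (iv1 F157303)) (tt N53292 (iv0 F157306)) (tt N50851 (iv2 F292933)) (tt N25818 (iv3 D88066)) (tt N83281 D184688) (tt N48743 F135058) (tt N83282 D184689) (tt N53290 (iv7 F157325)))
theorem Q49025 : ∀ i, i < 49025 → P i := stepQ 49024 Q49024 (allL N49024 (tt N83283 D184690) (tt N83284 D184691) (tt N51116 (iv2 F294654)) (tt N83282 (iv3 F286689)) (tt N77192 (iv4 F343441)) (tt N48745 F135059) (tt N25818 (iv6 D88067)) (tt N83285 D184692))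
theorem Q49026 : ∀ i, i < 49026 → P i := stepQ 49025 Q49025 (allL N49025 (tt N36055 (iv1 F329606)) (tt N36054 (iv0 F329607)) (tt N36057 (iv2 F329608)) (tt N25819 (iv3 D88070)) (tt N33483 (iv4 F329499)) (tt N55031 (iv5 F294115)) (tt N36084 (iv6 F329498)) (tt N35998 F329369))
theorem Q49027 : ∀ i, i < 49027 → P i := stepQ 49026 Q49026 (allL N49026 (tt N38040 F317513) (tt N80870 (iv0 F354617)) (tt N47571 F300673) (tt N68003 F317514) (tt N25822 F135070) (tt N69547 (iv5 F319747)) (tt N25821 (iv6 D88074)) (tt N80853 (iv7 F317285)))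
theorem Q49028 : ∀ i, i < 49028 → P i := stepQ 49027 Q49027 (allL N49027 (tt N76523 (iv1 F366451)) (tt N76531 (iv0 F366448)) (tt N64292 (iv2 F195636)) (tt N25825 F135071) (tt N83286 D184712) (tt N25822 (iv5 D88075)) (tt N49608 (iv6 F136910)) (tt N82243 (iv7 F279898)))
theorem Q49029 : ∀ i, i < 49029 → P i := stepQ 49028 Q49028 (allL N49028 (tt N34510 F304539) (tt N83287 D184717) (tt N52768 (iv2 F156454)) (tt N43115 F316753) (tt N73163 (iv4 F356671)) (tt N25823 (iv5 D88079)) (tt N73162 (iv6 F356690)) (tt N52769 F156449))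
theorem Q49030 : ∀ i, i < 49030 → P i := stepQ 49029 Q49029 (allL N49029 (tt N83287 (iv1 F287113)) (tt N34510 F304538) (tt N52769 F156451) (tt N49566 (iv3 F155421)) (tt N83288 D184721) (tt N25824 (iv5 D88084)) (tt N83289 D184722) (tt N52768 F156466))
theorem Q49031 : ∀ i, i < 49031 → P i := stepQ 49030 Q49030 (allL N49030 (tt N54155 (iv1 F309030)) (tt N46666 (iv0 F309032)) (tt N52770 F156452) (tt N49567 (iv3 F155422)) (tt N82558 (iv4 F282518)) (tt N83290 D184724) (tt N25824 (iv6 D88085)) (tt N54153 (iv7 F156463)))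
theorem Q49032 : ∀ i, i < 49032 → P i := stepQ 49031 Q49031 (allL N49031 (tt N52774 (iv1 F151245)) (tt N25825 (iv0 D88086)) (tt N52771 (iv2 F156894)) (tt N76332 (iv3 F362842)) (tt N82880 (iv4 F356684)) (tt N63935 (iv5 F304531)) (tt N77400 (iv6 F312621)) (tt N52772 F156893))
theorem Q49033 : ∀ i, i < 49033 → P i := stepQ 49032 Q49032 (allL N49032 (tt N25825 (iv1 D88087)) (tt N52774 F151244) (tt N52772 (iv2 F156892)) (tt N49569 F155507) (tt N82881 (iv4 F284728)) (tt N49017 (iv5 F135077)) (tt N83291 D184729) (tt N52771 (iv7 F156896)))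
theorem Q49034 : ∀ i, i < 49034 → P i := stepQ 49033 Q49033 (allL N49033 (tt N83292 D184730) (tt N83293 D184731) (tt N52773 (iv2 F151238)) (tt N83294 D184732) (tt N25825 (iv4 D88088)) (tt N83295 D184733) (tt N49609 (iv6 F136912)) (tt N83296 D184734))
theorem Q49035 : ∀ i, i < 49035 → P i := stepQ 49034 Q49034 (allL N49034 (tt N52772 (iv1 F151237)) (tt N52771 F151243) (tt N52774 (iv2 F151240)) (tt N82243 (iv3 F279897)) (tt N83296 (iv4 F287204)) (tt N25826 F135078) (tt N70335 (iv6 F349709)) (tt N25825 (iv7 D88089)))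
theorem Q49036 : ∀ i, i < 49036 → P i := stepQ 49035 Q49035 (allL N49035 (tt N54129 (iv1 F156046)) (tt N25827 (iv0 D88100)) (tt N54126 (iv2 F156043)) (tt N49593 (iv3 F156045)) (tt N82978 (iv4 F285210)) (tt N76874 (iv5 F307567)) (tt N83297 D184747) (tt N54127 F156044))
theorem Q49037 : ∀ i, i < 49037 → P i := stepQ 49036 Q49036 (allL N49036 (tt N25827 (iv1 D88101)) (tt N54129 F156041) (tt N54127 (iv2 F156034)) (tt N83298 D184748) (tt N82979 (iv4 F285211)) (tt N48997 (iv5 F135083)) (tt N83299 D184749) (tt N54126 (iv7 F156042)))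
theorem Q49038 : ∀ i, i < 49038 → P i := stepQ 49037 Q49037 (allL N49037 (tt N66007 (iv1 F345929)) (tt N83300 D184751) (tt N54128 (iv2 F156036)) (tt N56540 (iv3 F362880)) (tt N25827 (iv4 D88102)) (tt N70819 (iv5 F330397)) (tt N48285 F295054) (tt N56537 (iv7 F328264)))
theorem Q49039 : ∀ i, i < 49039 → P i := stepQ 49038 Q49038 (allL N49038 (tt N75860 (iv1 F307022)) (tt N82557 (iv0 F342056)) (tt N54132 (iv2 F156071)) (tt N35490 F305095) (tt N45527 F135085) (tt N78737 (iv5 F307023)) (tt N25828 (iv6 D88104)) (tt N48236 (iv7 F307024)))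
theorem Q49040 : ∀ i, i < 49040 → P i := stepQ 49039 Q49039 (allL N49039 (tt N46132 F135087) (tt N36543 (iv0 F135088)) (tt N52876 (iv2 F151769)) (tt N25829 (iv3 D88105)) (tt N47968 (iv4 F301504)) (tt N48919 F135086) (tt N47966 (iv6 F304144)) (tt N54131 (iv7 F156070)))
theorem Q49041 : ∀ i, i < 49041 → P i := stepQ 49040 Q49040 (allL N49040 (tt N25831 (iv1 D88109)) (tt N56112 F308725) (tt N44026 (iv2 F310867)) (tt N63610 (iv3 F310868)) (tt N34335 (iv4 F310869)) (tt N83301 D184777) (tt N48037 (iv6 F310870)) (tt N43226 (iv7 F310866)))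
theorem Q49042 : ∀ i, i < 49042 → P i := stepQ 49041 Q49041 (allL N49041 (tt N67093 (iv1 F361111)) (tt N64779 (iv0 F361112)) (tt N56140 (iv2 F307809)) (tt N25834 F135093) (tt N77648 (iv4 F357703)) (tt N25831 (iv5 D88110)) (tt N65102 (iv6 F297820)) (tt N77373 (iv7 F310871)))
theorem Q49043 : ∀ i, i < 49043 → P i := stepQ 49042 Q49042 (allL N49042 (tt N56073 F308720) (tt N75308 (iv0 F310858)) (tt N62597 (iv2 F310451)) (tt N43916 (iv3 F310453)) (tt N42069 (iv4 F310860)) (tt N25832 (iv5 D88115)) (tt N41958 (iv6 F310861)) (tt N75427 (iv7 F310455)))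
theorem Q49044 : ∀ i, i < 49044 → P i := stepQ 49043 Q49043 (allL N49043 (tt N75308 (iv1 F310859)) (tt N56073 F308722) (tt N75427 (iv2 F310454)) (tt N44375 F313114) (tt N42158 (iv4 F310864)) (tt N25833 (iv5 D88120)) (tt N44374 (iv6 F314690)) (tt N62597 (iv7 F310452)))
theorem Q49045 : ∀ i, i < 49045 → P i := stepQ 49044 Q49044 (allL N49044 (tt N56132 F308727) (tt N25834 (iv0 D88122)) (tt N67091 (iv2 F310601)) (tt N67053 (iv3 F310872)) (tt N43835 (iv4 F310873)) (tt N83302 D184828) (tt N66666 (iv6 F310875)) (tt N77374 (iv7 F310597)))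
theorem Q49046 : ∀ i, i < 49046 → P i := stepQ 49045 Q49045 (allL N49045 (tt N25834 (iv1 D88123)) (tt N56132 F308487) (tt N77374 (iv2 F310596)) (tt N42871 (iv3 F310598)) (tt N43834 (iv4 F310599)) (tt N42868 F308488) (tt N82337 (iv6 F310600)) (tt N67091 (iv7 F310602)))
theorem Q49047 : ∀ i, i < 49047 → P i := stepQ 49046 Q49046 (allL N49046 (tt N75261 (iv1 F337912)) (tt N63756 (iv0 F337909)) (tt N75446 (iv2 F307912)) (tt N83303 D184836) (tt N25834 (iv4 D88124)) (tt N75312 (iv5 F337905)) (tt N65104 (iv6 F297825)) (tt N75444 (iv7 F310880)))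
theorem Q49048 : ∀ i, i < 49048 → P i := stepQ 49047 Q49047 (allL N49047 (tt N77140 (iv1 F429263)) (tt N77142 (iv0 F430901)) (tt N83304 D184951) (tt N25835 (iv3 D88171)) (tt N83305 D184952) (tt N83306 D184953) (tt N83307 D184954) (tt N77376 (iv7 F310363)))
theorem Q49049 : ∀ i, i < 49049 → P i := stepQ 49048 Q49048 (allL N49048 (tt N49105 (iv1 F337916)) (tt N49104 (iv0 F337917)) (tt N49107 (iv2 F337918)) (tt N59243 (iv3 F352338)) (tt N25835 (iv4 D88172)) (tt N59241 (iv5 F352339)) (tt N49115 (iv6 F337919)) (tt N48826 (iv7 F337920)))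
theorem Q49050 : ∀ i, i < 49050 → P i := stepQ 49049 Q49049 (allL N49049 (tt N43803 F308307) (tt N43799 F308308) (tt N77377 F308309) (tt N83306 (iv3 F287367)) (tt N42162 (iv4 F310273)) (tt N25835 (iv5 D88173)) (tt N77245 F308310) (tt N43567 F308311))
theorem Q49051 : ∀ i, i < 49051 → P i := stepQ 49050 Q49050 (allL N49050 (tt N77360 (iv1 F358613)) (tt N83308 D184962) (tt N77378 (iv2 F310361)) (tt N83307 (iv3 F287369)) (tt N49115 F337933) (tt N77299 (iv5 F358609)) (tt N25835 (iv6 D88174)) (tt N49113 (iv7 F337936)))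
theorem Q49052 : ∀ i, i < 49052 → P i := stepQ 49051 Q49051 (allL N49051 (tt N48439 (iv1 F310411)) (tt N64349 (iv0 F310412)) (tt N64876 (iv2 F310413)) (tt N25836 (iv3 D88176)) (tt N81850 (iv4 F310414)) (tt N34814 F308331) (tt N49103 (iv6 F337945)) (tt N64877 (iv7 F310358)))
theorem Q49053 : ∀ i, i < 49053 → P i := stepQ 49052 Q49052 (allL N49052 (tt N43799 (iv1 F306421)) (tt N43803 (iv0 F306448)) (tt N43567 (iv2 F306417)) (tt N34814 (iv3 F306457)) (tt N34049 (iv4 F306458)) (tt N25836 (iv5 D88178)) (tt N34048 F304639) (tt N77377 (iv7 F306446)))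
theorem Q49054 : ∀ i, i < 49054 → P i := stepQ 49053 Q49053 (allL N49053 (tt N77156 (iv1 F310370)) (tt N25837 (iv0 D88180)) (tt N77380 (iv2 F310889)) (tt N83309 D184979) (tt N43825 F308729) (tt N83310 D184980) (tt N83311 D184981) (tt N77379 (iv7 F310892)))
theorem Q49055 : ∀ i, i < 49055 → P i := stepQ 49054 Q49054 (allL N49054 (tt N25837 (iv1 D88181)) (tt N77156 (iv0 F310369)) (tt N77379 (iv2 F310891)) (tt N83312 D184983) (tt N43824 (iv4 F310893)) (tt N55099 (iv5 F353759)) (tt N51704 (iv6 F353755)) (tt N77380 (iv7 F310890)))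
theorem Q49056 : ∀ i, i < 49056 → P i := stepQ 49055 Q49055 (allL N49055 (tt N83313 D184987) (tt N83314 D184988) (tt N83315 D184989) (tt N25837 (iv3 D88182)) (tt N54445 (iv4 F156918)) (tt N72574 (iv5 F341128)) (tt N25866 F135129) (tt N72573 (iv7 F341131)))
theorem Q49057 : ∀ i, i < 49057 → P i := stepQ 49056 Q49056 (allL N49056 (tt N83316 D184992) (tt N83317 D184993) (tt N75443 (iv2 F310368)) (tt N72574 (iv3 F341126)) (tt N75311 (iv4 F337988)) (tt N25837 (iv5 D88183)) (tt N83318 D184995) (tt N72569 (iv7 F336318)))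
theorem Q49058 : ∀ i, i < 49058 → P i := stepQ 49057 Q49057 (allL N49057 (tt N53493 F153866) (tt N53490 (iv0 F153861)) (tt N68306 F335801) (tt N54170 (iv3 F156132)) (tt N25838 (iv4 D88187)) (tt N38112 (iv5 F335803)) (tt N54170 (iv6 F290224)) (tt N53978 (iv7 F290192)))
theorem Q49059 : ∀ i, i < 49059 → P i := stepQ 49058 Q49058 (allL N49058 (tt N83049 (iv1 F285694)) (tt N25856 F285653) (tt N83041 (iv2 F285647)) (tt N53986 (iv3 F290198)) (tt N77907 (iv4 F359548)) (tt N25838 (iv5 D88188)) (tt N71510 (iv6 F365540)) (tt N53980 (iv7 F290195)))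
theorem Q49060 : ∀ i, i < 49060 → P i := stepQ 49059 Q49059 (allL N49059 (tt N83044 (iv1 F285663)) (tt N83043 F285662) (tt N25841 F135134) (tt N54635 (iv3 F157178)) (tt N77910 (iv4 F359532)) (tt N25839 (iv5 D88195)) (tt N83319 D185017) (tt N83042 (iv7 F285657)))
theorem Q49061 : ∀ i, i < 49061 → P i := stepQ 49060 Q49060 (allL N49060 (tt N54088 (iv1 F361043)) (tt N82765 (iv0 F344322)) (tt N25842 F135135) (tt N54636 (iv3 F157183)) (tt N50898 (iv4 F142962)) (tt N83320 D185020) (tt N25839 (iv6 D88196)) (tt N83321 D185021))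
theorem Q49062 : ∀ i, i < 49062 → P i := stepQ 49061 Q49061 (allL N49061 (tt N26637 F135139) (tt N83322 D185025) (tt N50898 (iv2 F142961)) (tt N26517 F135137) (tt N25842 F135138) (tt N38575 F321885) (tt N25840 (iv6 D88198)) (tt N51091 (iv7 F143472)))
theorem Q49063 : ∀ i, i < 49063 → P i := stepQ 49062 Q49062 (allL N49062 (tt N83042 (iv1 F285659)) (tt N25841 (iv0 D88199)) (tt N83044 (iv2 F344317)) (tt N54603 (iv3 F357605)) (tt N83323 D185028) (tt N82797 (iv5 F339542)) (tt N83324 D185030) (tt N83043 (iv7 F344321)))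
theorem Q49064 : ∀ i, i < 49064 → P i := stepQ 49063 Q49063 (allL N49063 (tt N25841 (iv1 D88200)) (tt N83042 F285658) (tt N83043 (iv2 F344320)) (tt N83325 D185032) (tt N76831 (iv4 F359503)) (tt N83326 D185034) (tt N76712 (iv6 F359593)) (tt N83044 (iv7 F344319)))
theorem Q49065 : ∀ i, i < 49065 → P i := stepQ 49064 Q49064 (allL N49064 (tt N83327 D185036) (tt N76845 (iv0 F361009)) (tt N77910 (iv2 F359531)) (tt N83328 D185038) (tt N25841 (iv4 D88201)) (tt N77815 (iv5 F359530)) (tt N83329 D185040) (tt N77912 (iv7 F359534)))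
theorem Q49066 : ∀ i, i < 49066 → P i := stepQ 49065 Q49065 (allL N49065 (tt N83330 D185041) (tt N83331 D185042) (tt N83319 (iv2 F287402)) (tt N25846 F135140) (tt N83329 (iv4 F287433)) (tt N83332 D185043) (tt N25841 (iv6 D88202)) (tt N49091 F337967))
theorem Q49067 : ∀ i, i < 49067 → P i := stepQ 49066 Q49066 (allL N49066 (tt N83321 (iv1 F287419)) (tt N25842 (iv0 D88203)) (tt N54088 (iv2 F344231)) (tt N50556 (iv3 F339711)) (tt N83333 D185047) (tt N82663 (iv5 F344234)) (tt N51197 (iv6 F344230)) (tt N82765 (iv7 F361045)))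
theorem Q49068 : ∀ i, i < 49068 → P i := stepQ 49067 Q49067 (allL N49067 (tt N25842 (iv1 D88204)) (tt N83321 F287418) (tt N82765 (iv2 F361044)) (tt N83334 D185051) (tt N83335 D185052) (tt N82664 F287427) (tt N55599 (iv6 F335763)) (tt N54088 (iv7 F344232)))
theorem Q49069 : ∀ i, i < 49069 → P i := stepQ 49068 Q49068 (allL N49068 (tt N83336 D185054) (tt N83337 D185055) (tt N83320 (iv2 F287404)) (tt N25847 F135141) (tt N83338 D185056) (tt N25842 (iv5 D88205)) (tt N83332 (iv6 F287435)) (tt N48584 (iv7 F135142)))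
theorem Q49070 : ∀ i, i < 49070 → P i := stepQ 49069 Q49069 (allL N49069 (tt N82765 (iv1 F344323)) (tt N54088 (iv0 F361042)) (tt N83321 (iv2 F287413)) (tt N25848 F135143) (tt N51091 (iv4 F143469)) (tt N48584 F135144) (tt N50567 (iv6 F292414)) (tt N25842 (iv7 D88206)))
theorem Q49071 : ∀ i, i < 49071 → P i := stepQ 49070 Q49070 (allL N49070 (tt N52725 (iv1 F160579)) (tt N52722 (iv0 F157660)) (tt N54593 (iv2 F157122)) (tt N25843 (iv3 D88207)) (tt N83339 D185057) (tt N48805 F135145) (tt N83340 D185058) (tt N54642 (iv7 F157189)))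
theorem Q49072 : ∀ i, i < 49072 → P i := stepQ 49071 Q49071 (allL N49071 (tt N25904 F135146) (tt N25882 F135147) (tt N51604 (iv2 F146162)) (tt N83341 D185059) (tt N25843 (iv4 D88208)) (tt N51224 (iv5 F144147)) (tt N83342 D185060) (tt N54643 (iv7 F157191)))
theorem Q49073 : ∀ i, i < 49073 → P i := stepQ 49072 Q49072 (allL N49072 (tt N83343 D185061) (tt N43783 (iv0 F358577)) (tt N51602 (iv2 F146159)) (tt N83340 (iv3 F287444)) (tt N83342 (iv4 F287446)) (tt N48806 F135148) (tt N25843 (iv6 D88209)) (tt N83344 D185063))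
theorem Q49074 : ∀ i, i < 49074 → P i := stepQ 49073 Q49073 (allL N49073 (tt N25882 F135149) (tt N25904 F135150) (tt N54643 (iv2 F157190)) (tt N83345 D185064) (tt N25844 (iv4 D88210)) (tt N83346 D185065) (tt N83347 D185066) (tt N51604 (iv7 F146163)))
theorem Q49075 : ∀ i, i < 49075 → P i := stepQ 49074 Q49074 (allL N49074 (tt N77164 (iv1 F310357)) (tt N77372 (iv0 F310888)) (tt N54644 (iv2 F157194)) (tt N54056 (iv3 F155852)) (tt N83347 (iv4 F287453)) (tt N53479 (iv5 F153807)) (tt N25844 (iv6 D88211)) (tt N77411 (iv7 F358593)))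
theorem Q49076 : ∀ i, i < 49076 → P i := stepQ 49075 Q49075 (allL N49075 (tt N25853 (iv1 F135152)) (tt N25845 (iv0 D88212)) (tt N49078 F337981) (tt N83348 D185068) (tt N48838 F135151) (tt N82718 (iv5 F283685)) (tt N43781 F353697) (tt N49079 F337982))
theorem Q49077 : ∀ i, i < 49077 → P i := stepQ 49076 Q49076 (allL N49076 (tt N25845 (iv1 D88213)) (tt N25853 F135153) (tt N49079 F337975) (tt N83349 D185070) (tt N48839 F135154) (tt N82721 (iv5 F283691)) (tt N83350 D185071) (tt N49078 F337976))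
theorem Q49078 : ∀ i, i < 49078 → P i := stepQ 49077 Q49077 (allL N49077 (tt N83351 D185072) (tt N83352 D185073) (tt N83353 D185074) (tt N25845 (iv3 D88214)) (tt N83328 (iv4 F287432)) (tt N82696 F337960) (tt N28957 (iv6 F337968)) (tt N83046 (iv7 F285666)))
theorem Q49079 : ∀ i, i < 49079 → P i := stepQ 49078 Q49078 (allL N49078 (tt N48822 F337965) (tt N25846 (iv0 D88216)) (tt N49075 (iv2 F337981)) (tt N83354 D185081) (tt N25880 (iv4 F337984)) (tt N82671 F337966) (tt N77151 (iv6 F310885)) (tt N49076 (iv7 F337976)))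
theorem Q49080 : ∀ i, i < 49080 → P i := stepQ 49079 Q49079 (allL N49079 (tt N25846 (iv1 D88217)) (tt N48822 F337963) (tt N49076 (iv2 F337975)) (tt N54599 (iv3 F390250)) (tt N25881 (iv4 F337978)) (tt N82672 F337964) (tt N83355 D185088) (tt N49075 (iv7 F337982)))
theorem Q49081 : ∀ i, i < 49081 → P i := stepQ 49080 Q49080 (allL N49080 (tt N82627 (iv1 F337954)) (tt N82708 (iv0 F337955)) (tt N48588 F337947) (tt N83332 (iv3 F287434)) (tt N25847 (iv4 F337957)) (tt N25846 (iv5 D88218)) (tt N25847 F135157) (tt N48585 F337948))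
theorem Q49082 : ∀ i, i < 49082 → P i := stepQ 49081 Q49081 (allL N49081 (tt N25860 F356382) (tt N83047 (iv0 F356383)) (tt N54634 (iv2 F157171)) (tt N53866 (iv3 F289680)) (tt N83356 D185104) (tt N25849 (iv5 D88226)) (tt N83357 D185105) (tt N53466 (iv7 F289620)))
theorem Q49083 : ∀ i, i < 49083 → P i := stepQ 49082 Q49082 (allL N49082 (tt N54638 (iv1 F157186)) (tt N54637 F157185) (tt N25851 F135163) (tt N83042 (iv3 F285656)) (tt N83358 D185110) (tt N25850 (iv5 D88228)) (tt N83359 D185111) (tt N54635 (iv7 F157179)))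
theorem Q49084 : ∀ i, i < 49084 → P i := stepQ 49083 Q49083 (allL N49083 (tt N50521 (iv1 F295071)) (tt N50570 (iv0 F294418)) (tt N25852 F135164) (tt N50565 (iv3 F292617)) (tt N53453 (iv4 F153739)) (tt N58287 (iv5 F336759)) (tt N25850 (iv6 D88229)) (tt N50571 (iv7 F295078)))
theorem Q49085 : ∀ i, i < 49085 → P i := stepQ 49084 Q49084 (allL N49084 (tt N54635 (iv1 F157181)) (tt N25851 (iv0 D88230)) (tt N54638 (iv2 F290114)) (tt N83360 D185117) (tt N83361 D185118) (tt N83362 D185119) (tt N81948 (iv6 F363013)) (tt N54637 (iv7 F290113)))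
theorem Q49086 : ∀ i, i < 49086 → P i := stepQ 49085 Q49085 (allL N49085 (tt N25851 (iv1 D88231)) (tt N54635 F157180) (tt N54637 (iv2 F290111)) (tt N54588 (iv3 F356203)) (tt N83363 D185123) (tt N82803 (iv5 F295453)) (tt N83364 D185125) (tt N54638 (iv7 F290115)))
theorem Q49087 : ∀ i, i < 49087 → P i := stepQ 49086 Q49086 (allL N49086 (tt N83365 D185126) (tt N83366 D185127) (tt N83358 (iv2 F287479)) (tt N83367 D185128) (tt N25851 (iv4 D88232)) (tt N83368 D185129) (tt N83369 D185130) (tt N54639 (iv7 F157187)))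
theorem Q49088 : ∀ i, i < 49088 → P i := stepQ 49087 Q49087 (allL N49087 (tt N83370 D185131) (tt N64887 (iv0 F306745)) (tt N83359 (iv2 F287480)) (tt N25854 F135165) (tt N83369 (iv4 F287495)) (tt N83371 D185133) (tt N25851 (iv6 D88233)) (tt N83372 D185134))
theorem Q49089 : ∀ i, i < 49089 → P i := stepQ 49088 Q49088 (allL N49088 (tt N50571 (iv1 F295075)) (tt N25852 (iv0 D88234)) (tt N50521 (iv2 F295072)) (tt N83373 D185136) (tt N50004 (iv4 F294259)) (tt N52765 (iv5 F343095)) (tt N82774 (iv6 F356512)) (tt N50570 (iv7 F294421)))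
theorem Q49090 : ∀ i, i < 49090 → P i := stepQ 49089 Q49089 (allL N49089 (tt N25852 (iv1 D88235)) (tt N50571 (iv0 F295074)) (tt N50570 (iv2 F294419)) (tt N50149 (iv3 F357536)) (tt N50005 (iv4 F328100)) (tt N52766 F289937) (tt N46746 (iv6 F289942)) (tt N50521 (iv7 F295073)))
theorem Q49091 : ∀ i, i < 49091 → P i := stepQ 49090 Q49090 (allL N49090 (tt N83374 D185144) (tt N83375 D185145) (tt N58287 (iv2 F336758)) (tt N25855 F135166) (tt N57928 (iv4 F362810)) (tt N25852 (iv5 D88236)) (tt N83371 (iv6 F287497)) (tt N50572 (iv7 F295081)))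
theorem Q49092 : ∀ i, i < 49092 → P i := stepQ 49091 Q49091 (allL N49091 (tt N83376 D185147) (tt N83377 D185148) (tt N83378 D185149) (tt N25853 (iv3 D88238)) (tt N83367 (iv4 F287494)) (tt N82690 (iv5 F283643)) (tt N83379 D185150) (tt N49065 (iv7 F337967)))
theorem Q49093 : ∀ i, i < 49093 → P i := stepQ 49092 Q49092 (allL N49092 (tt N43804 (iv1 F337971)) (tt N49093 (iv0 F337972)) (tt N49095 (iv2 F337969)) (tt N83379 (iv3 F287501)) (tt N25854 F135170) (tt N50813 (iv5 F362833)) (tt N25853 (iv6 D88239)) (tt N48823 (iv7 F337974)))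
theorem Q49094 : ∀ i, i < 49094 → P i := stepQ 49093 Q49093 (allL N49093 (tt N49092 F337972) (tt N25854 (iv0 D88240)) (tt N77401 (iv2 F312624)) (tt N54608 (iv3 F372792)) (tt N83069 (iv4 F353735)) (tt N83380 D185157) (tt N43806 F353734) (tt N77161 (iv7 F308379)))
theorem Q49095 : ∀ i, i < 49095 → P i := stepQ 49094 Q49094 (allL N49094 (tt N83381 D185161) (tt N83382 D185162) (tt N50569 (iv2 F294572)) (tt N83371 (iv3 F287496)) (tt N50105 (iv4 F362820)) (tt N25854 (iv5 D88242)) (tt N25855 F135171) (tt N50104 (iv7 F362831)))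
theorem Q49096 : ∀ i, i < 49096 → P i := stepQ 49095 Q49095 (allL N49095 (tt N77161 (iv1 F308378)) (tt N77401 (iv0 F312622)) (tt N49092 F337969) (tt N83372 (iv3 F287498)) (tt N48823 (iv4 F337973)) (tt N50104 (iv5 F362830)) (tt N48822 F337970) (tt N25854 (iv7 D88243)))
theorem Q49097 : ∀ i, i < 49097 → P i := stepQ 49096 Q49096 (allL N49096 (tt N52137 (iv1 F147749)) (tt N82636 (iv0 F283436)) (tt N50568 (iv2 F294569)) (tt N50130 (iv3 F362825)) (tt N25855 (iv4 D88244)) (tt N50568 (iv5 F294570)) (tt N50105 (iv6 F362821)) (tt N50573 (iv7 F295284)))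
theorem Q49098 : ∀ i, i < 49098 → P i := stepQ 49097 Q49097 (allL N49097 (tt N83041 (iv1 F285652)) (tt N53980 (iv0 F290193)) (tt N25856 (iv2 D88247)) (tt N83047 (iv3 F285676)) (tt N83383 D185166) (tt N83384 D185167) (tt N83385 D185168) (tt N83049 (iv7 F285693)))
theorem Q49099 : ∀ i, i < 49099 → P i := stepQ 49098 Q49098 (allL N49098 (tt N83386 D185169) (tt N83387 D185170) (tt N83383 (iv2 F287505)) (tt N83388 D185171) (tt N25856 (iv4 D88248)) (tt N83389 D185172) (tt N83390 D185173) (tt N83050 (iv7 F285696)))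
theorem Q49100 : ∀ i, i < 49100 → P i := stepQ 49099 Q49099 (allL N49099 (tt N83391 D185174) (tt N82649 (iv0 F344328)) (tt N83384 (iv2 F287507)) (tt N25858 F135172) (tt N51596 (iv4 F145638)) (tt N25856 (iv5 D88249)) (tt N53843 (iv6 F293947)) (tt N49619 F136955))
theorem Q49101 : ∀ i, i < 49101 → P i := stepQ 49100 Q49100 (allL N49100 (tt N83392 D185176) (tt N83393 D185177) (tt N83385 (iv2 F287509)) (tt N25859 F135173) (tt N83390 (iv4 F287515)) (tt N83394 D185178) (tt N25856 (iv6 D88250)) (tt N83395 D185179))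
theorem Q49102 : ∀ i, i < 49102 → P i := stepQ 49101 Q49101 (allL N49101 (tt N25861 (iv1 F135176)) (tt N25857 (iv0 D88251)) (tt N49134 (iv2 F135204)) (tt N83396 D185180) (tt N48834 F135175) (tt N48690 F135174) (tt N83397 D185181) (tt N48853 (iv7 F135177)))
theorem Q49103 : ∀ i, i < 49103 → P i := stepQ 49102 Q49102 (allL N49102 (tt N25857 (iv1 D88252)) (tt N25861 F135178) (tt N48853 (iv2 F135179)) (tt N83398 D185182) (tt N27346 (iv4 F135180)) (tt N82689 (iv5 F283639)) (tt N49104 F337927) (tt N49134 (iv7 F135205)))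
theorem Q49104 : ∀ i, i < 49104 → P i := stepQ 49103 Q49103 (allL N49103 (tt N83399 D185183) (tt N83400 D185184) (tt N83401 D185185) (tt N25857 (iv3 D88253)) (tt N83388 (iv4 F287514)) (tt N64336 (iv5 F364078)) (tt N49051 F337945) (tt N83052 (iv7 F285699)))
theorem Q49105 : ∀ i, i < 49105 → P i := stepQ 49104 Q49104 (allL N49104 (tt N49048 F337917) (tt N25859 (iv0 D88255)) (tt N43856 (iv2 F337924)) (tt N83402 D185192) (tt N43628 (iv4 F337926)) (tt N83403 D185194) (tt N49102 (iv6 F337927)) (tt N43826 (iv7 F337922)))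
theorem Q49106 : ∀ i, i < 49106 → P i := stepQ 49105 Q49105 (allL N49105 (tt N25859 (iv1 D88256)) (tt N49048 F337916) (tt N43826 (iv2 F337921)) (tt N54615 (iv3 F368563)) (tt N43621 (iv4 F337923)) (tt N83404 D185199) (tt N83405 D185200) (tt N43856 (iv7 F337925)))
theorem Q49107 : ∀ i, i < 49107 → P i := stepQ 49106 Q49106 (allL N49106 (tt N75485 (iv1 F353726)) (tt N75465 (iv0 F353732)) (tt N51206 (iv2 F143966)) (tt N83394 (iv3 F287516)) (tt N75431 (iv4 F336311)) (tt N25859 (iv5 D88257)) (tt N27061 F135182) (tt N83406 D185203))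
theorem Q49108 : ∀ i, i < 49108 → P i := stepQ 49107 Q49107 (allL N49107 (tt N43826 (iv1 F337929)) (tt N43856 (iv0 F337930)) (tt N49048 F337918) (tt N83395 (iv3 F287518)) (tt N43789 (iv4 F337932)) (tt N83406 (iv5 F287530)) (tt N77350 (iv6 F352350)) (tt N25859 (iv7 D88258)))
theorem Q49109 : ∀ i, i < 49109 → P i := stepQ 49108 Q49108 (allL N49108 (tt N53466 (iv1 F336648)) (tt N54634 (iv0 F336766)) (tt N25860 (iv2 D88261)) (tt N83049 (iv3 F285692)) (tt N81891 (iv4 F336770)) (tt N83407 D185215) (tt N83408 D185216) (tt N83047 (iv7 F285677)))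
theorem Q49110 : ∀ i, i < 49110 → P i := stepQ 49109 Q49109 (allL N49109 (tt N81842 (iv1 F357249)) (tt N81894 (iv0 F343893)) (tt N81891 (iv2 F336769)) (tt N83409 D185219) (tt N25860 (iv4 D88262)) (tt N83410 D185220) (tt N83411 D185221) (tt N81890 (iv7 F362119)))
theorem Q49111 : ∀ i, i < 49111 → P i := stepQ 49110 Q49110 (allL N49110 (tt N80550 (iv1 F356393)) (tt N83412 D185223) (tt N83407 (iv2 F287534)) (tt N25862 F135183) (tt N49433 (iv4 F136376)) (tt N25860 (iv5 D88263)) (tt N49610 (iv6 F136914)) (tt N49765 (iv7 F137188)))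
theorem Q49112 : ∀ i, i < 49112 → P i := stepQ 49111 Q49111 (allL N49111 (tt N64811 (iv1 F362807)) (tt N64813 (iv0 F362806)) (tt N83408 (iv2 F287535)) (tt N25863 F135184) (tt N83411 (iv4 F287537)) (tt N83413 D185226) (tt N25860 (iv6 D88264)) (tt N83414 D185227))
theorem Q49113 : ∀ i, i < 49113 → P i := stepQ 49112 Q49112 (allL N49112 (tt N83415 D185228) (tt N83416 D185229) (tt N83417 D185230) (tt N25861 (iv3 D88265)) (tt N83409 (iv4 F287536)) (tt N82673 (iv5 F283628)) (tt N83418 D185231) (tt N83048 (iv7 F285683)))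
theorem Q49114 : ∀ i, i < 49114 → P i := stepQ 49113 Q49113 (allL N49113 (tt N83419 D185232) (tt N83420 D185233) (tt N83053 (iv2 F285700)) (tt N83418 (iv3 F287540)) (tt N25863 F135185) (tt N51600 (iv5 F337939)) (tt N25861 (iv6 D88266)) (tt N49050 F337936))
theorem Q49115 : ∀ i, i < 49115 → P i := stepQ 49114 Q49114 (allL N49114 (tt N78338 (iv1 F313124)) (tt N83421 D185247) (tt N49622 (iv2 F136963)) (tt N83413 (iv3 F287538)) (tt N83422 D185248) (tt N25863 (iv5 D88269)) (tt N49611 (iv6 F136917)) (tt N83423 D185249))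
theorem Q49116 : ∀ i, i < 49116 → P i := stepQ 49115 Q49115 (allL N49115 (tt N77150 (iv1 F355064)) (tt N77147 (iv0 F353705)) (tt N77350 (iv2 F352349)) (tt N83414 (iv3 F287539)) (tt N49050 (iv4 F337933)) (tt N83423 (iv5 F287546)) (tt N49048 F337919) (tt N25863 (iv7 D88270)))
theorem Q49117 : ∀ i, i < 49117 → P i := stepQ 49116 Q49116 (allL N49116 (tt N83424 D185250) (tt N83425 D185251) (tt N83426 D185252) (tt N25864 (iv3 D88272)) (tt N83427 D185253) (tt N82736 (iv5 F283716)) (tt N42547 F338050) (tt N83055 (iv7 F285710)))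
theorem Q49118 : ∀ i, i < 49118 → P i := stepQ 49117 Q49117 (allL N49117 (tt N43628 (iv1 F338023)) (tt N43621 (iv0 F338024)) (tt N43824 (iv2 F338025)) (tt N42547 F338049) (tt N77379 (iv4 F338026)) (tt N75470 (iv5 F338028)) (tt N25864 (iv6 D88273)) (tt N43825 (iv7 F338029)))
theorem Q49119 : ∀ i, i < 49119 → P i := stepQ 49118 Q49118 (allL N49118 (tt N83428 D185259) (tt N83429 D185260) (tt N83430 D185261) (tt N25865 (iv3 D88275)) (tt N72652 (iv4 F363548)) (tt N82723 (iv5 F283696)) (tt N83431 D185263) (tt N83054 (iv7 F285708)))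
theorem Q49120 : ∀ i, i < 49120 → P i := stepQ 49119 Q49119 (allL N49119 (tt N77351 (iv1 F365549)) (tt N77359 (iv0 F377736)) (tt N83056 (iv2 F285711)) (tt N83431 (iv3 F287548)) (tt N82740 (iv4 F283733)) (tt N82995 (iv5 F353763)) (tt N25865 (iv6 D88276)) (tt N83432 D185267))
theorem Q49121 : ∀ i, i < 49121 → P i := stepQ 49120 Q49120 (allL N49120 (tt N83433 D185268) (tt N25866 (iv0 D88277)) (tt N83434 D185269) (tt N83435 D185270) (tt N83436 D185271) (tt N83437 D185272) (tt N83438 D185273) (tt N83439 D185274))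
theorem Q49122 : ∀ i, i < 49122 → P i := stepQ 49121 Q49121 (allL N49121 (tt N25866 (iv1 D88278)) (tt N83433 F287551) (tt N83439 (iv2 F287553)) (tt N83440 D185275) (tt N83441 D185276) (tt N64400 (iv5 F426781)) (tt N83442 D185278) (tt N83434 F287552))
theorem Q49123 : ∀ i, i < 49123 → P i := stepQ 49122 Q49122 (allL N49122 (tt N83434 (iv1 F426817)) (tt N83439 (iv0 F426813)) (tt N25866 (iv2 D88279)) (tt N83059 (iv3 F285712)) (tt N54630 (iv4 F157159)) (tt N83443 D185281) (tt N83315 (iv6 F287390)) (tt N83433 (iv7 F287550)))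
theorem Q49124 : ∀ i, i < 49124 → P i := stepQ 49123 Q49123 (allL N49123 (tt N83444 D185282) (tt N83445 D185283) (tt N83443 (iv2 F287556)) (tt N25867 F135188) (tt N83446 D185284) (tt N25866 (iv5 D88280)) (tt N83447 D185285) (tt N82624 (iv7 F283279)))
theorem Q49125 : ∀ i, i < 49125 → P i := stepQ 49124 Q49124 (allL N49124 (tt N83439 (iv1 F426814)) (tt N83434 (iv0 F426816)) (tt N83433 F287549) (tt N25868 F135189) (tt N54587 (iv4 F157104)) (tt N82624 (iv5 F283278)) (tt N83448 D185286) (tt N25866 (iv7 D88281)))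
theorem Q49126 : ∀ i, i < 49126 → P i := stepQ 49125 Q49125 (allL N49125 (tt N83449 D185287) (tt N77074 (iv0 F358778)) (tt N82706 (iv2 F283661)) (tt N83447 (iv3 F287557)) (tt N77336 (iv4 F342722)) (tt N83318 (iv5 F287393)) (tt N25867 (iv6 D88282)) (tt N77335 (iv7 F342724)))
theorem Q49127 : ∀ i, i < 49127 → P i := stepQ 49126 Q49126 (allL N49126 (tt N83450 D185290) (tt N83451 D185291) (tt N82705 (iv2 F283659)) (tt N83448 (iv3 F287558)) (tt N25869 F135190) (tt N83452 D185292) (tt N25868 (iv6 D88283)) (tt N77381 (iv7 F310896)))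
theorem Q49128 : ∀ i, i < 49128 → P i := stepQ 49127 Q49127 (allL N49127 (tt N77157 (iv1 F310372)) (tt N25869 (iv0 D88284)) (tt N77383 (iv2 F386090)) (tt N83453 D185294) (tt N83454 D185295) (tt N83455 D185296) (tt N83456 D185297) (tt N77382 (iv7 F386095)))
theorem Q49129 : ∀ i, i < 49129 → P i := stepQ 49128 Q49128 (allL N49128 (tt N25869 (iv1 D88285)) (tt N77157 (iv0 F310371)) (tt N77382 (iv2 F386094)) (tt N83457 D185299) (tt N76716 (iv4 F373380)) (tt N83458 D185301) (tt N83459 D185302) (tt N77383 (iv7 F386093)))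
theorem Q49130 : ∀ i, i < 49130 → P i := stepQ 49129 Q49129 (allL N49129 (tt N83460 D185303) (tt N28662 F344226) (tt N83461 D185305) (tt N25871 (iv3 D88286)) (tt N25888 F135191) (tt N49416 (iv5 F136266)) (tt N28897 F135192) (tt N28321 F135193))
theorem Q49131 : ∀ i, i < 49131 → P i := stepQ 49130 Q49130 (allL N49130 (tt N51700 F147050) (tt N25874 (iv0 D88288)) (tt N51702 (iv2 F160532)) (tt N48813 F135201) (tt N53856 (iv4 F289700)) (tt N83462 D185306) (tt N83118 F286015) (tt N51701 (iv7 F160534)))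
theorem Q49132 : ∀ i, i < 49132 → P i := stepQ 49131 Q49131 (allL N49131 (tt N25874 (iv1 D88289)) (tt N51700 F147051) (tt N51701 F160535) (tt N53486 (iv3 F158400)) (tt N53855 (iv4 F289691)) (tt N83463 D185307) (tt N83202 (iv6 F287659)) (tt N51702 F160533))
theorem Q49133 : ∀ i, i < 49133 → P i := stepQ 49132 Q49132 (allL N49132 (tt N51702 (iv1 F147054)) (tt N51701 F147053) (tt N25874 (iv2 D88290)) (tt N52741 (iv3 F151051)) (tt N29430 F135202) (tt N83464 D185309) (tt N53433 (iv6 F153674)) (tt N51700 F147049))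
theorem Q49134 : ∀ i, i < 49134 → P i := stepQ 49133 Q49133 (allL N49133 (tt N83465 D185310) (tt N83466 D185311) (tt N83464 (iv2 F287574)) (tt N25875 F135203) (tt N83467 D185312) (tt N25874 (iv5 D88291)) (tt N83468 D185313) (tt N51703 (iv7 F147056)))
theorem Q49135 : ∀ i, i < 49135 → P i := stepQ 49134 Q49134 (allL N49134 (tt N48828 F135206) (tt N48825 F135207) (tt N49101 F135204) (tt N83469 D185314) (tt N25875 (iv4 D88292)) (tt N82627 (iv5 F283293)) (tt N83470 D185315) (tt N49102 F135205))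
theorem Q49136 : ∀ i, i < 49136 → P i := stepQ 49135 Q49135 (allL N49135 (tt N83471 D185316) (tt N83472 D185317) (tt N83060 (iv2 F285715)) (tt N83468 (iv3 F287576)) (tt N83470 (iv4 F287579)) (tt N55366 (iv5 F159825)) (tt N25875 (iv6 D88293)) (tt N43827 (iv7 F359648)))
theorem Q49137 : ∀ i, i < 49137 → P i := stepQ 49136 Q49136 (allL N49136 (tt N27783 F293730) (tt N29357 (iv0 F153587)) (tt N28969 F157339) (tt N53349 F153391) (tt N25876 (iv4 D88295)) (tt N44322 F327682) (tt N28893 F289783) (tt N28647 F289748))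
theorem Q49138 : ∀ i, i < 49138 → P i := stepQ 49137 Q49137 (allL N49137 (tt N62024 (iv1 F346035)) (tt N82731 (iv0 F343888)) (tt N54498 (iv2 F157368)) (tt N47849 F289793) (tt N62068 (iv4 F346027)) (tt N25876 (iv5 D88296)) (tt N39490 (iv6 F328568)) (tt N42541 F289794))
theorem Q49139 : ∀ i, i < 49139 → P i := stepQ 49138 Q49138 (allL N49138 (tt N54500 (iv1 F157028)) (tt N54499 F157027) (tt N25878 F135215) (tt N83061 (iv3 F285719)) (tt N39697 (iv4 F329584)) (tt N25877 (iv5 D88303)) (tt N83473 D185340) (tt N54495 (iv7 F157010)))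
theorem Q49140 : ∀ i, i < 49140 → P i := stepQ 49139 Q49139 (allL N49139 (tt N49161 (iv1 F135280)) (tt N49160 F135277) (tt N25879 F135216) (tt N49193 (iv3 F135341)) (tt N53397 (iv4 F153555)) (tt N83474 D185341) (tt N25877 (iv6 D88304)) (tt N49162 (iv7 F135278)))
theorem Q49141 : ∀ i, i < 49141 → P i := stepQ 49140 Q49140 (allL N49140 (tt N54495 (iv1 F157012)) (tt N25878 (iv0 D88305)) (tt N54500 (iv2 F290012)) (tt N54804 F287493) (tt N83475 D185343) (tt N82795 (iv5 F295459)) (tt N83476 D185345) (tt N54499 (iv7 F290017)))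
theorem Q49142 : ∀ i, i < 49142 → P i := stepQ 49141 Q49141 (allL N49141 (tt N25878 (iv1 D88306)) (tt N54495 F157011) (tt N54499 (iv2 F290015)) (tt N83477 D185347) (tt N40765 (iv4 F329586)) (tt N83478 D185349) (tt N83479 D185350) (tt N54500 (iv7 F290013)))
theorem Q49143 : ∀ i, i < 49143 → P i := stepQ 49142 Q49142 (allL N49142 (tt N83480 D185356) (tt N83481 D185357) (tt N83473 (iv2 F287595)) (tt N25882 (iv3 F329855)) (tt N77879 F329739) (tt N82699 (iv5 F329856)) (tt N25878 (iv6 D88308)) (tt N83067 (iv7 F329858)))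
theorem Q49144 : ∀ i, i < 49144 → P i := stepQ 49143 Q49143 (allL N49143 (tt N49162 (iv1 F135279)) (tt N25879 (iv0 D88309)) (tt N49161 (iv2 F289895)) (tt N53517 F289894) (tt N48867 (iv4 F289896)) (tt N82713 (iv5 F362133)) (tt N48865 (iv6 F289897)) (tt N49160 (iv7 F289898)))
theorem Q49145 : ∀ i, i < 49145 → P i := stepQ 49144 Q49144 (allL N49144 (tt N25879 (iv1 D88310)) (tt N49162 F135281) (tt N49160 F289899) (tt N83482 D185365) (tt N51681 (iv4 F293410)) (tt N82714 (iv5 F346008)) (tt N27334 F295345) (tt N49161 F289900))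
theorem Q49146 : ∀ i, i < 49146 → P i := stepQ 49145 Q49145 (allL N49145 (tt N48694 (iv1 F289845)) (tt N83483 D185369) (tt N83474 (iv2 F287596)) (tt N25884 F135218) (tt N83484 D185370) (tt N25879 (iv5 D88311)) (tt N82699 (iv6 F329857)) (tt N49163 (iv7 F135283)))
theorem Q49147 : ∀ i, i < 49147 → P i := stepQ 49146 Q49146 (allL N49146 (tt N83462 (iv1 F378211)) (tt N83463 (iv0 F287572)) (tt N83485 D185372) (tt N25880 (iv3 D88312)) (tt N83486 D185373) (tt N48795 F135219) (tt N83487 D185374) (tt N83064 (iv7 F285733)))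
theorem Q49148 : ∀ i, i < 49148 → P i := stepQ 49147 Q49147 (allL N49147 (tt N83488 D185377) (tt N83489 D185378) (tt N77362 (iv2 F353694)) (tt N83487 (iv3 F287611)) (tt N77151 (iv4 F337986)) (tt N48796 F135224) (tt N25880 (iv6 D88314)) (tt N77365 (iv7 F358620)))
theorem Q49149 : ∀ i, i < 49149 → P i := stepQ 49148 Q49148 (allL N49148 (tt N52742 F151078) (tt N53684 (iv0 F287622)) (tt N54820 F157958) (tt N25881 (iv3 D88315)) (tt N81896 (iv4 F332660)) (tt N83490 D185382) (tt N83491 D185383) (tt N54821 (iv7 F157957)))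
theorem Q49150 : ∀ i, i < 49150 → P i := stepQ 49149 Q49149 (allL N49149 (tt N26306 F135233) (tt N29211 (iv0 F293171)) (tt N48608 F135229) (tt N83490 (iv3 F287617)) (tt N28960 F135231) (tt N25881 (iv5 D88317)) (tt N48617 (iv6 F135234)) (tt N48550 F135230))
theorem Q49151 : ∀ i, i < 49151 → P i := stepQ 49150 Q49150 (allL N49150 (tt N83492 D185386) (tt N83493 D185387) (tt N83065 (iv2 F285734)) (tt N83491 (iv3 F287624)) (tt N83355 (iv4 F337980)) (tt N55359 (iv5 F159725)) (tt N25881 (iv6 D88318)) (tt N83494 D185388))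
theorem Q49152 : ∀ i, i < 49152 → P i := stepQ 49151 Q49151 (allL N49151 (tt N50514 (iv1 F290612)) (tt N50509 (iv0 F290949)) (tt N50512 (iv2 F290943)) (tt N25883 (iv3 D88325)) (tt N49245 (iv4 F135491)) (tt N82720 (iv5 F283689)) (tt N27332 F293620) (tt N49158 (iv7 F135272)))
theorem Q49153 : ∀ i, i < 49153 → P i := stepQ 49152 Q49152 (allL N49152 (tt N25884 (iv1 D88326)) (tt N48689 F135237) (tt N48596 (iv2 F135240)) (tt N83495 D185412) (tt N82689 (iv4 F283640)) (tt N48542 F135239) (tt N77059 (iv6 F314205)) (tt N48545 F135238))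
theorem Q49154 : ∀ i, i < 49154 → P i := stepQ 49153 Q49153 (allL N49153 (tt N48540 F135244) (tt N48593 F135245) (tt N48590 F135241) (tt N83496 D185414) (tt N25884 (iv4 D88327)) (tt N48840 F135243) (tt N25909 (iv6 F329949)) (tt N48589 F135242))
theorem Q49155 : ∀ i, i < 49155 → P i := stepQ 49154 Q49154 (allL N49154 (tt N48811 F288152) (tt N83497 D185416) (tt N50207 (iv2 F291502)) (tt N25885 (iv3 D88328)) (tt N49154 F135246) (tt N83498 D185417) (tt N27667 F294372) (tt N48950 F135247))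
theorem Q49156 : ∀ i, i < 49156 → P i := stepQ 49155 Q49155 (allL N49155 (tt N26238 F135250) (tt N48539 F135251) (tt N29472 F294177) (tt N83498 (iv3 F287646)) (tt N83346 (iv4 F287449)) (tt N25885 (iv5 D88329)) (tt N83499 D185418) (tt N48575 F135249))
theorem Q49157 : ∀ i, i < 49157 → P i := stepQ 49156 Q49156 (allL N49156 (tt N83500 D185419) (tt N83501 D185420) (tt N83502 D185421) (tt N25886 (iv3 D88331)) (tt N29427 F135258) (tt N83503 D185422) (tt N27671 F293589) (tt N48937 F135259))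
theorem Q49158 : ∀ i, i < 49158 → P i := stepQ 49157 Q49157 (allL N49157 (tt N48543 F135262) (tt N48544 F135263) (tt N48602 F135260) (tt N83503 (iv3 F287661)) (tt N82672 (iv4 F283627)) (tt N25886 (iv5 D88332)) (tt N83504 D185424) (tt N48601 F135261))
theorem Q49159 : ∀ i, i < 49159 → P i := stepQ 49158 Q49158 (allL N49158 (tt N26673 F290948) (tt N81879 (iv0 F289803)) (tt N83505 D185427) (tt N25887 (iv3 D88334)) (tt N49242 (iv4 F135474)) (tt N83506 D185428) (tt N28203 F135271) (tt N49151 F135272))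
theorem Q49160 : ∀ i, i < 49160 → P i := stepQ 49159 Q49159 (allL N49159 (tt N48544 F135275) (tt N48543 F135276) (tt N48601 F135273) (tt N83506 (iv3 F287687)) (tt N82671 (iv4 F283623)) (tt N25887 (iv5 D88335)) (tt N83507 D185429) (tt N48602 F135274))
theorem Q49161 : ∀ i, i < 49161 → P i := stepQ 49160 Q49160 (allL N49160 (tt N49139 (iv1 F135277)) (tt N25888 (iv0 D88336)) (tt N49144 (iv2 F289899)) (tt N50211 (iv3 F292663)) (tt N55369 F159832) (tt N83508 D185431) (tt N48627 F295087) (tt N49143 F289898))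
theorem Q49162 : ∀ i, i < 49162 → P i := stepQ 49161 Q49161 (allL N49161 (tt N25888 (iv1 D88337)) (tt N49139 F135280) (tt N49143 F289895) (tt N83509 D185434) (tt N54681 (iv4 F157412)) (tt N83510 D185435) (tt N28649 (iv6 F289863)) (tt N49144 (iv7 F289900)))
theorem Q49163 : ∀ i, i < 49163 → P i := stepQ 49162 Q49162 (allL N49162 (tt N49144 (iv1 F135281)) (tt N49143 F135279) (tt N25888 (iv2 D88338)) (tt N83066 (iv3 F285750)) (tt N83461 (iv4 F287566)) (tt N82841 (iv5 F289853)) (tt N83511 D185438) (tt N49139 F135278))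
theorem Q49164 : ∀ i, i < 49164 → P i := stepQ 49163 Q49163 (allL N49163 (tt N82710 (iv1 F335704)) (tt N76098 (iv0 F289959)) (tt N82841 (iv2 F289852)) (tt N25889 F135282) (tt N83512 D185441) (tt N25888 (iv5 D88339)) (tt N83513 D185442) (tt N49145 F135283))
theorem Q49165 : ∀ i, i < 49165 → P i := stepQ 49164 Q49164 (allL N49164 (tt N48863 F289932) (tt N82749 (iv0 F294917)) (tt N83511 (iv2 F287699)) (tt N25890 F135284) (tt N28897 F135285) (tt N82856 (iv5 F362814)) (tt N25888 (iv6 D88340)) (tt N26755 (iv7 F294763)))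
theorem Q49166 : ∀ i, i < 49166 → P i := stepQ 49165 Q49165 (allL N49165 (tt N83514 D185445) (tt N83515 D185446) (tt N82837 (iv2 F284527)) (tt N83513 (iv3 F287709)) (tt N82698 (iv4 F283652)) (tt N66803 (iv5 F356705)) (tt N25889 (iv6 D88341)) (tt N83516 D185447))
theorem Q49167 : ∀ i, i < 49167 → P i := stepQ 49166 Q49166 (allL N49166 (tt N25893 (iv1 D88343)) (tt N52229 F148074) (tt N52228 (iv2 F157113)) (tt N52276 (iv3 F157114)) (tt N54633 (iv4 F157168)) (tt N31870 F329422) (tt N52276 (iv6 F289686)) (tt N52186 (iv7 F289641)))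
theorem Q49168 : ∀ i, i < 49168 → P i := stepQ 49167 Q49167 (allL N49167 (tt N52186 (iv1 F289640)) (tt N52228 F148067) (tt N25893 (iv2 D88344)) (tt N52233 (iv3 F148088)) (tt N25901 F135287) (tt N59963 (iv5 F340577)) (tt N83517 D185453) (tt N52229 (iv7 F148072)))
theorem Q49169 : ∀ i, i < 49169 → P i := stepQ 49168 Q49168 (allL N49168 (tt N59864 (iv1 F347487)) (tt N59920 (iv0 F363544)) (tt N59963 (iv2 F340576)) (tt N25894 F135288) (tt N59686 (iv4 F340612)) (tt N25893 (iv5 D88345)) (tt N59685 (iv6 F363513)) (tt N52230 (iv7 F148076)))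
theorem Q49170 : ∀ i, i < 49170 → P i := stepQ 49169 Q49169 (allL N49169 (tt N83518 D185458) (tt N83519 D185459) (tt N83517 (iv2 F287715)) (tt N25895 F135289) (tt N25903 F135290) (tt N52117 (iv5 F147681)) (tt N25893 (iv6 D88346)) (tt N50689 F294574))
theorem Q49171 : ∀ i, i < 49171 → P i := stepQ 49170 Q49170 (allL N49170 (tt N27360 (iv1 F135294)) (tt N25894 (iv0 D88347)) (tt N49921 (iv2 F137937)) (tt N83520 D185460) (tt N29409 F135293) (tt N26356 F135292) (tt N83521 D185461) (tt N27910 (iv7 F135295)))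
theorem Q49172 : ∀ i, i < 49172 → P i := stepQ 49171 Q49171 (allL N49171 (tt N25894 (iv1 D88348)) (tt N27360 F135300) (tt N27910 (iv2 F135302)) (tt N83522 D185462) (tt N29408 (iv4 F135303)) (tt N26355 F135301) (tt N78507 (iv6 F358093)) (tt N49921 (iv7 F137939)))
theorem Q49173 : ∀ i, i < 49173 → P i := stepQ 49172 Q49172 (allL N49172 (tt N29448 (iv1 F135305)) (tt N29451 F135304) (tt N52234 (iv2 F148095)) (tt N83523 D185464) (tt N25894 (iv4 D88349)) (tt N51933 (iv5 F147461)) (tt N83524 D185465) (tt N52231 (iv7 F148078)))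
theorem Q49174 : ∀ i, i < 49174 → P i := stepQ 49173 Q49173 (allL N49173 (tt N83525 D185466) (tt N83526 D185467) (tt N52235 (iv2 F148100)) (tt N59685 (iv3 F363512)) (tt N83524 (iv4 F287730)) (tt N52119 (iv5 F147687)) (tt N25894 (iv6 D88350)) (tt N83524 (iv7 F363514)))
theorem Q49175 : ∀ i, i < 49175 → P i := stepQ 49174 Q49174 (allL N49174 (tt N26778 F135310) (tt N26776 F135312) (tt N48611 F135306) (tt N46878 F135307) (tt N26332 F135311) (tt N25896 (iv5 D88351)) (tt N48612 F135308) (tt N46281 (iv7 F292085)))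
theorem Q49176 : ∀ i, i < 49176 → P i := stepQ 49175 Q49175 (allL N49175 (tt N83527 D185469) (tt N83528 D185470) (tt N83529 D185471) (tt N25898 (iv3 D88352)) (tt N25908 F135313) (tt N52483 (iv5 F149765)) (tt N27617 F135314) (tt N55504 (iv7 F160405)))
theorem Q49177 : ∀ i, i < 49177 → P i := stepQ 49176 Q49176 (allL N49176 (tt N72664 (iv1 F340568)) (tt N83166 F286162) (tt N77930 (iv2 F340586)) (tt N49791 F137253) (tt N77821 (iv4 F340591)) (tt N25900 (iv5 D88354)) (tt N83530 D185473) (tt N53174 (iv7 F152853)))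
theorem Q49178 : ∀ i, i < 49178 → P i := stepQ 49177 Q49177 (allL N49177 (tt N54812 (iv1 F285722)) (tt N83062 F285726) (tt N25902 F135320) (tt N54495 (iv3 F157009)) (tt N77933 (iv4 F340571)) (tt N25901 (iv5 D88355)) (tt N83531 D185475) (tt N83061 (iv7 F285720)))
theorem Q49179 : ∀ i, i < 49179 → P i := stepQ 49178 Q49178 (allL N49178 (tt N26832 F293093) (tt N50057 (iv0 F293670)) (tt N25903 F135321) (tt N50685 (iv3 F294101)) (tt N83517 (iv4 F287716)) (tt N83532 D185476) (tt N25901 (iv6 D88356)) (tt N50056 (iv7 F293667)))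
theorem Q49180 : ∀ i, i < 49180 → P i := stepQ 49179 Q49179 (allL N49179 (tt N83061 (iv1 F285723)) (tt N25902 (iv0 D88357)) (tt N54812 (iv2 F157913)) (tt N83533 D185477) (tt N83534 D185478) (tt N83535 D185479) (tt N83536 D185480) (tt N83062 (iv7 F285727)))
theorem Q49181 : ∀ i, i < 49181 → P i := stepQ 49180 Q49180 (allL N49180 (tt N25902 (iv1 D88358)) (tt N83061 (iv0 F285721)) (tt N83062 F285725) (tt N28106 F151996) (tt N83537 D185481) (tt N28103 F151997) (tt N83538 D185482) (tt N54812 (iv7 F157912)))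
theorem Q49182 : ∀ i, i < 49182 → P i := stepQ 49181 Q49181 (allL N49181 (tt N83539 D185483) (tt N83540 D185484) (tt N77933 F340572) (tt N83541 D185485) (tt N25902 (iv4 D88359)) (tt N39954 (iv5 F340573)) (tt N83542 D185487) (tt N77934 (iv7 F340575)))
theorem Q49183 : ∀ i, i < 49183 → P i := stepQ 49182 Q49182 (allL N49182 (tt N83543 D185488) (tt N83544 D185489) (tt N83531 (iv2 F287735)) (tt N25905 F135322) (tt N83542 (iv4 F287752)) (tt N83545 D185490) (tt N25902 (iv6 D88360)) (tt N83546 D185491))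
theorem Q49184 : ∀ i, i < 49184 → P i := stepQ 49183 Q49183 (allL N49183 (tt N50056 (iv1 F293663)) (tt N25903 (iv0 D88361)) (tt N26832 F292622) (tt N50055 F292623) (tt N49994 F292624) (tt N53157 F152561) (tt N52290 (iv6 F293553)) (tt N50057 (iv7 F293672)))
theorem Q49185 : ∀ i, i < 49185 → P i := stepQ 49184 Q49184 (allL N49184 (tt N83547 D185494) (tt N28181 (iv0 F135324)) (tt N83532 (iv2 F287736)) (tt N25907 F135323) (tt N83548 D185495) (tt N25903 (iv5 D88362)) (tt N83545 (iv6 F287754)) (tt N50691 (iv7 F294099)))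
theorem Q49186 : ∀ i, i < 49186 → P i := stepQ 49185 Q49185 (allL N49185 (tt N83549 D185497) (tt N83550 D185498) (tt N83551 D185499) (tt N25904 (iv3 D88364)) (tt N83541 (iv4 F287751)) (tt N82697 (iv5 F283651)) (tt N83546 (iv6 F329981)) (tt N83063 (iv7 F329947)))
theorem Q49187 : ∀ i, i < 49187 → P i := stepQ 49186 Q49186 (allL N49186 (tt N83069 (iv1 F329978)) (tt N77399 (iv0 F353748)) (tt N83068 (iv2 F285756)) (tt N83546 (iv3 F329980)) (tt N25905 F135327) (tt N83552 D185503) (tt N25904 (iv6 D88365)) (tt N25905 (iv7 F329982)))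
theorem Q49188 : ∀ i, i < 49188 → P i := stepQ 49187 Q49187 (allL N49187 (tt N83068 (iv1 F329953)) (tt N25905 (iv0 D88366)) (tt N77399 (iv2 F353750)) (tt N83553 D185506) (tt N77161 (iv4 F353736)) (tt N83554 D185508) (tt N77160 (iv6 F353754)) (tt N83069 (iv7 F338019)))
theorem Q49189 : ∀ i, i < 49189 → P i := stepQ 49188 Q49188 (allL N49188 (tt N25905 (iv1 D88367)) (tt N83068 (iv0 F329952)) (tt N83069 (iv2 F338016)) (tt N83555 D185511) (tt N77401 (iv4 F353752)) (tt N82877 (iv5 F284725)) (tt N83556 D185513) (tt N77399 (iv7 F353751)))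
theorem Q49190 : ∀ i, i < 49190 → P i := stepQ 49189 Q49189 (allL N49189 (tt N83557 D185514) (tt N83558 D185515) (tt N50688 (iv2 F295233)) (tt N83545 (iv3 F287753)) (tt N83559 D185516) (tt N25905 (iv5 D88368)) (tt N25907 F135328) (tt N83552 (iv7 F329983)))
theorem Q49191 : ∀ i, i < 49191 → P i := stepQ 49190 Q49190 (allL N49190 (tt N27195 F135330) (tt N48744 F135331) (tt N50687 (iv2 F295230)) (tt N83560 D185518) (tt N25907 (iv4 D88371)) (tt N50687 (iv5 F295231)) (tt N83559 (iv6 F287782)) (tt N50692 (iv7 F295276)))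
theorem Q49192 : ∀ i, i < 49192 → P i := stepQ 49191 Q49191 (allL N49191 (tt N83066 (iv1 F285753)) (tt N25908 (iv0 D88373)) (tt N28445 (iv2 F135339)) (tt N83561 D185520) (tt N83562 D185521) (tt N83563 D185522) (tt N28442 F135340) (tt N82792 (iv7 F294480)))
theorem Q49193 : ∀ i, i < 49193 → P i := stepQ 49192 Q49192 (allL N49192 (tt N25908 (iv1 D88374)) (tt N83066 F285754) (tt N82792 F295065) (tt N26675 (iv3 F291057)) (tt N29370 F290797) (tt N83564 D185523) (tt N27674 F295066) (tt N28445 F135338))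
theorem Q49194 : ∀ i, i < 49194 → P i := stepQ 49193 Q49193 (allL N49193 (tt N28445 F285749) (tt N82792 (iv0 F294477)) (tt N25908 (iv2 D88375)) (tt N49139 F135341) (tt N83529 (iv4 F287732)) (tt N52885 F151779) (tt N48836 F135342) (tt N83066 (iv7 F285752)))
theorem Q49195 : ∀ i, i < 49195 → P i := stepQ 49194 Q49194 (allL N49194 (tt N52872 F151751) (tt N52887 F151783) (tt N52885 (iv2 F151780)) (tt N25909 F135343) (tt N83565 D185524) (tt N25908 (iv5 D88376)) (tt N83496 (iv6 F329967)) (tt N52884 F283277))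
theorem Q49196 : ∀ i, i < 49196 → P i := stepQ 49195 Q49195 (allL N49195 (tt N83566 D185529) (tt N82387 (iv0 F334374)) (tt N83567 D185531) (tt N25910 (iv3 D88378)) (tt N38029 F323709) (tt N52709 (iv5 F294071)) (tt N65404 (iv6 F297613)) (tt N45825 F135347))
theorem Q49197 : ∀ i, i < 49197 → P i := stepQ 49196 Q49196 (allL N49196 (tt N83568 D185557) (tt N36858 F341821) (tt N83569 D185559) (tt N25911 (iv3 D88391)) (tt N45364 F135380) (tt N52694 (iv5 F294067)) (tt N83570 D185560) (tt N45827 F135381))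
theorem Q49198 : ∀ i, i < 49198 → P i := stepQ 49197 Q49197 (allL N49197 (tt N45733 F135384) (tt N65125 (iv0 F299408)) (tt N35912 F325531) (tt N83570 (iv3 F287866)) (tt N25912 F135383) (tt N83571 D185561) (tt N25911 (iv6 D88392)) (tt N35909 F325532))
theorem Q49199 : ∀ i, i < 49199 → P i := stepQ 49198 Q49198 (allL N49198 (tt N49976 (iv1 F138234)) (tt N25913 (iv0 D88408)) (tt N49975 (iv2 F138408)) (tt N83572 D185593) (tt N83573 D185594) (tt N52703 (iv5 F356257)) (tt N55089 (iv6 F356258)) (tt N49974 (iv7 F138410)))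
theorem Q49200 : ∀ i, i < 49200 → P i := stepQ 49199 Q49199 (allL N49199 (tt N25913 (iv1 D88409)) (tt N49976 F138236) (tt N49974 F138409) (tt N27554 (iv3 F294543)) (tt N28328 (iv4 F294695)) (tt N52704 (iv5 F294696)) (tt N27619 (iv6 F294697)) (tt N49975 F138407))
theorem Q49201 : ∀ i, i < 49201 → P i := stepQ 49200 Q49200 (allL N49200 (tt N49975 (iv1 F138235)) (tt N49974 F138230) (tt N25913 (iv2 D88410)) (tt N49989 (iv3 F138306)) (tt N52306 (iv4 F148555)) (tt N83574 D185599) (tt N55509 (iv6 F294699)) (tt N49976 (iv7 F138233)))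
theorem Q49202 : ∀ i, i < 49202 → P i := stepQ 49201 Q49201 (allL N49201 (tt N82603 (iv1 F344361)) (tt N51785 (iv0 F294698)) (tt N83574 (iv2 F287923)) (tt N25914 F135403) (tt N83575 D185603) (tt N25913 (iv5 D88411)) (tt N83576 D185604) (tt N49977 (iv7 F138238)))
theorem Q49203 : ∀ i, i < 49203 → P i := stepQ 49202 Q49202 (allL N49202 (tt N83577 D185609) (tt N83578 D185610) (tt N49991 (iv2 F138316)) (tt N83576 (iv3 F287925)) (tt N79699 (iv4 F257752)) (tt N55511 (iv5 F294263)) (tt N25914 (iv6 D88413)) (tt N83579 D185612))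
theorem Q49204 : ∀ i, i < 49204 → P i := stepQ 49203 Q49203 (allL N49203 (tt N49994 (iv1 F138331)) (tt N25915 (iv0 D88427)) (tt N49993 (iv2 F357379)) (tt N54877 (iv3 F158223)) (tt N83580 D185626) (tt N52629 (iv5 F357386)) (tt N54941 (iv6 F357383)) (tt N49992 (iv7 F357378)))
theorem Q49205 : ∀ i, i < 49205 → P i := stepQ 49204 Q49204 (allL N49204 (tt N25915 (iv1 D88428)) (tt N49994 F138333) (tt N49992 (iv2 F357376)) (tt N81658 (iv3 F365437)) (tt N83581 D185631) (tt N52630 (iv5 F294039)) (tt N55388 (iv6 F370218)) (tt N49993 (iv7 F357380)))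
theorem Q49206 : ∀ i, i < 49206 → P i := stepQ 49205 Q49205 (allL N49205 (tt N49993 (iv1 F138332)) (tt N49992 F138328) (tt N25915 (iv2 D88429)) (tt N49302 (iv3 F135857)) (tt N50057 (iv4 F138778)) (tt N78198 (iv5 F295136)) (tt N29278 (iv6 F293641)) (tt N49994 (iv7 F138330)))
theorem Q49207 : ∀ i, i < 49207 → P i := stepQ 49206 Q49206 (allL N49206 (tt N51897 (iv1 F294041)) (tt N83582 D185637) (tt N78198 (iv2 F295134)) (tt N25916 F135419) (tt N83583 D185638) (tt N25915 (iv5 D88430)) (tt N76566 (iv6 F348761)) (tt N27882 F293050))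
theorem Q49208 : ∀ i, i < 49208 → P i := stepQ 49207 Q49207 (allL N49207 (tt N83584 D185643) (tt N83585 D185644) (tt N27887 F293055) (tt N76566 (iv3 F348760)) (tt N79671 (iv4 F257695)) (tt N29281 (iv5 F293296)) (tt N25916 (iv6 D88432)) (tt N83586 D185646))
theorem Q49209 : ∀ i, i < 49209 → P i := stepQ 49208 Q49208 (allL N49208 (tt N49302 (iv1 F135860)) (tt N25917 (iv0 D88434)) (tt N49301 F294546) (tt N83587 D185649) (tt N54886 (iv4 F158245)) (tt N51351 (iv5 F294676)) (tt N55018 (iv6 F350446)) (tt N49300 F294547))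
theorem Q49210 : ∀ i, i < 49210 → P i := stepQ 49209 Q49209 (allL N49209 (tt N25917 (iv1 D88435)) (tt N49302 F135862) (tt N49300 (iv2 F293647)) (tt N55000 (iv3 F293464)) (tt N50273 (iv4 F293467)) (tt N52646 (iv5 F293468)) (tt N29250 (iv6 F293469)) (tt N49301 (iv7 F293648)))
theorem Q49211 : ∀ i, i < 49211 → P i := stepQ 49210 Q49210 (allL N49210 (tt N49301 (iv1 F135861)) (tt N49300 F135856) (tt N25917 (iv2 D88436)) (tt N49994 (iv3 F138329)) (tt N49320 (iv4 F136041)) (tt N83588 D185656) (tt N55493 (iv6 F293471)) (tt N49302 (iv7 F135859)))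
theorem Q49212 : ∀ i, i < 49212 → P i := stepQ 49211 Q49211 (allL N49211 (tt N51374 (iv1 F295133)) (tt N51938 (iv0 F293470)) (tt N83588 (iv2 F287966)) (tt N25918 F135424) (tt N51570 (iv4 F293649)) (tt N25917 (iv5 D88437)) (tt N83589 D185660) (tt N27885 F292442))
theorem Q49213 : ∀ i, i < 49213 → P i := stepQ 49212 Q49212 (allL N49212 (tt N83590 D185665) (tt N83591 D185666) (tt N27884 F293058) (tt N83589 (iv3 F287968)) (tt N79356 (iv4 F254509)) (tt N49909 (iv5 F293336)) (tt N25918 (iv6 D88439)) (tt N83592 D185668))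
theorem Q49214 : ∀ i, i < 49214 → P i := stepQ 49213 Q49213 (allL N49213 (tt N54876 F158221) (tt N54877 (iv0 F284060)) (tt N83593 D185682) (tt N25919 (iv3 D88447)) (tt N27175 (iv4 F293507)) (tt N51768 (iv5 F294017)) (tt N54829 (iv6 F294018)) (tt N29461 (iv7 F293511)))
theorem Q49215 : ∀ i, i < 49215 → P i := stepQ 49214 Q49214 (allL N49214 (tt N27161 (iv1 F294000)) (tt N27379 (iv0 F294001)) (tt N25921 F135429) (tt N81640 (iv3 F343063)) (tt N83594 D185691) (tt N25920 (iv5 D88450)) (tt N83595 D185692) (tt N27519 (iv7 F294002)))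
theorem Q49216 : ∀ i, i < 49216 → P i := stepQ 49215 Q49215 (allL N49215 (tt N27550 (iv1 F294019)) (tt N27565 (iv0 F294020)) (tt N83594 (iv2 F287988)) (tt N83596 D185701) (tt N25921 (iv4 D88453)) (tt N83594 (iv5 F287989)) (tt N83597 D185702) (tt N29462 (iv7 F294010)))
theorem Q49217 : ∀ i, i < 49217 → P i := stepQ 49216 Q49216 (allL N49216 (tt N83598 D185703) (tt N83599 D185704) (tt N83595 (iv2 F287990)) (tt N25923 F135430) (tt N83597 (iv4 F287996)) (tt N29423 F293032) (tt N25921 (iv6 D88454)) (tt N83600 D185705))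
theorem Q49218 : ∀ i, i < 49218 → P i := stepQ 49217 Q49217 (allL N49217 (tt N83601 D185723) (tt N83602 D185724) (tt N83603 D185725) (tt N25922 (iv3 D88459)) (tt N83596 (iv4 F287995)) (tt N46282 F135433) (tt N83604 D185726) (tt N49999 (iv7 F138385)))
theorem Q49219 : ∀ i, i < 49219 → P i := stepQ 49218 Q49218 (allL N49218 (tt N83605 D185727) (tt N83606 D185728) (tt N46296 F135434) (tt N83604 (iv3 F288006)) (tt N25923 F135435) (tt N80213 (iv5 F326384)) (tt N25922 (iv6 D88460)) (tt N83607 D185730))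
theorem Q49220 : ∀ i, i < 49220 → P i := stepQ 49219 Q49219 (allL N49219 (tt N82820 (iv1 F284412)) (tt N25923 (iv0 D88461)) (tt N52609 (iv2 F358277)) (tt N81625 (iv3 F382169)) (tt N83608 D185733) (tt N83609 D185734) (tt N52344 (iv6 F358279)) (tt N82819 (iv7 F361262)))
theorem Q49221 : ∀ i, i < 49221 → P i := stepQ 49220 Q49220 (allL N49220 (tt N25923 (iv1 D88462)) (tt N82820 F284411) (tt N82819 (iv2 F361261)) (tt N60220 (iv3 F358275)) (tt N56563 (iv4 F358276)) (tt N83610 D185739) (tt N56562 (iv6 F358274)) (tt N52609 (iv7 F358278)))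
theorem Q49222 : ∀ i, i < 49222 → P i := stepQ 49221 Q49221 (allL N49221 (tt N82819 (iv1 F284407)) (tt N52609 (iv0 F361259)) (tt N82820 (iv2 F284408)) (tt N83600 (iv3 F287997)) (tt N83607 (iv4 F288011)) (tt N55395 (iv5 F159971)) (tt N50003 (iv6 F138388)) (tt N25923 (iv7 D88463)))
theorem Q49223 : ∀ i, i < 49223 → P i := stepQ 49222 Q49222 (allL N49222 (tt N26878 (iv1 F135437)) (tt N25924 (iv0 D88464)) (tt N26880 F160267) (tt N49325 F292559) (tt N27306 F135436) (tt N60789 (iv5 F176890)) (tt N49322 F292560) (tt N26879 F160268))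
theorem Q49224 : ∀ i, i < 49224 → P i := stepQ 49223 Q49223 (allL N49223 (tt N25924 (iv1 D88465)) (tt N26878 F135444) (tt N26879 F160271) (tt N83611 D185741) (tt N27305 (iv4 F135438)) (tt N83612 D185742) (tt N83613 D185743) (tt N26880 F160272))
theorem Q49225 : ∀ i, i < 49225 → P i := stepQ 49224 Q49224 (allL N49224 (tt N26880 (iv1 F135445)) (tt N26879 F135443) (tt N25924 (iv2 D88466)) (tt N49251 (iv3 F135529)) (tt N29440 F135440) (tt N36279 F135441) (tt N50172 (iv6 F139163)) (tt N26878 F135442))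
theorem Q49226 : ∀ i, i < 49226 → P i := stepQ 49225 Q49225 (allL N49225 (tt N50237 (iv1 F139303)) (tt N50236 F139301) (tt N49253 (iv2 F135541)) (tt N83614 D185744) (tt N25925 (iv4 D88467)) (tt N26427 F135447) (tt N67621 (iv6 F319567)) (tt N26888 F135446))
theorem Q49227 : ∀ i, i < 49227 → P i := stepQ 49226 Q49226 (allL N49226 (tt N26906 (iv1 F135448)) (tt N25926 (iv0 D88469)) (tt N49254 F285645) (tt N68306 (iv3 F335795)) (tt N83615 D185748) (tt N68304 (iv5 F335788)) (tt N49254 (iv6 F290237)) (tt N26841 F290233))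
theorem Q49228 : ∀ i, i < 49228 → P i := stepQ 49227 Q49227 (allL N49227 (tt N83616 D185753) (tt N83617 D185754) (tt N50204 (iv2 F139215)) (tt N25927 F135450) (tt N68777 (iv4 F354358)) (tt N25926 (iv5 D88471)) (tt N61744 (iv6 F326532)) (tt N49255 (iv7 F135549)))
theorem Q49229 : ∀ i, i < 49229 → P i := stepQ 49228 Q49228 (allL N49228 (tt N50101 (iv1 F364342)) (tt N52744 (iv0 F291659)) (tt N50205 (iv2 F139217)) (tt N25928 F135451) (tt N49228 F135452) (tt N51504 (iv5 F145391)) (tt N25926 (iv6 D88472)) (tt N49229 (iv7 F135456)))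
theorem Q49230 : ∀ i, i < 49230 → P i := stepQ 49229 Q49229 (allL N49229 (tt N83618 D185764) (tt N50810 (iv0 F349302)) (tt N27929 F291661) (tt N25929 (iv3 D88475)) (tt N49229 F135455) (tt N51287 (iv5 F144671)) (tt N27932 (iv6 F292651)) (tt N49228 F135456))
theorem Q49231 : ∀ i, i < 49231 → P i := stepQ 49230 Q49230 (allL N49230 (tt N26914 (iv1 F135457)) (tt N25930 (iv0 D88476)) (tt N26918 F160562) (tt N26929 F143149) (tt N83619 D185767) (tt N83620 D185768) (tt N50324 (iv6 F251607)) (tt N26917 F160563))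
theorem Q49232 : ∀ i, i < 49232 → P i := stepQ 49231 Q49231 (allL N49231 (tt N25930 (iv1 D88477)) (tt N26914 (iv0 F135459)) (tt N26917 F160564) (tt N53490 (iv3 F153860)) (tt N48808 (iv4 F135458)) (tt N61737 (iv5 F332653)) (tt N78970 (iv6 F251598)) (tt N26918 F160565))
theorem Q49233 : ∀ i, i < 49233 → P i := stepQ 49232 Q49232 (allL N49232 (tt N26918 (iv1 F135462)) (tt N26917 F135461) (tt N25930 (iv2 D88478)) (tt N49261 (iv3 F135559)) (tt N52741 (iv4 F151052)) (tt N83621 D185770) (tt N50245 (iv6 F139322)) (tt N26914 F135460))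
theorem Q49234 : ∀ i, i < 49234 → P i := stepQ 49233 Q49233 (allL N49233 (tt N60856 F177037) (tt N83622 D185771) (tt N83621 (iv2 F288081)) (tt N25931 F135463) (tt N77454 (iv4 F349300)) (tt N25930 (iv5 D88479)) (tt N68343 (iv6 F317738)) (tt N26919 F135464))
theorem Q49235 : ∀ i, i < 49235 → P i := stepQ 49234 Q49234 (allL N49234 (tt N83620 (iv1 F288079)) (tt N61737 (iv0 F332650)) (tt N83623 D185778) (tt N25932 (iv3 D88482)) (tt N83624 D185779) (tt N50715 (iv5 F292140)) (tt N83625 D185780) (tt N49263 (iv7 F135574)))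
theorem Q49236 : ∀ i, i < 49236 → P i := stepQ 49235 Q49235 (allL N49235 (tt N37141 F319810) (tt N37135 F319811) (tt N37138 F323380) (tt N69242 (iv3 F338549)) (tt N25932 (iv4 D88483)) (tt N51013 (iv5 F143265)) (tt N37169 F342176) (tt N37139 F323381))
theorem Q49237 : ∀ i, i < 49237 → P i := stepQ 49236 Q49236 (allL N49236 (tt N70811 (iv1 F351703)) (tt N83626 D185784) (tt N49266 (iv2 F135585)) (tt N83625 (iv3 F288110)) (tt N37169 F342175) (tt N49855 (iv5 F292648)) (tt N25932 (iv6 D88484)) (tt N83627 D185785))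
theorem Q49238 : ∀ i, i < 49238 → P i := stepQ 49237 Q49237 (allL N49237 (tt N50271 (iv1 F288362)) (tt N50272 (iv0 F288363)) (tt N83628 D185788) (tt N25933 (iv3 D88485)) (tt N83629 D185789) (tt N51542 (iv5 F145468)) (tt N74842 (iv6 F370735)) (tt N49265 (iv7 F135580)))
theorem Q49239 : ∀ i, i < 49239 → P i := stepQ 49238 Q49238 (allL N49238 (tt N37135 F319808) (tt N37141 F319809) (tt N37139 F323372) (tt N83630 D185791) (tt N25933 (iv4 D88486)) (tt N82746 (iv5 F283809)) (tt N83631 D185792) (tt N37138 F323373))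
theorem Q49240 : ∀ i, i < 49240 → P i := stepQ 49239 Q49239 (allL N49239 (tt N83632 D185793) (tt N83633 D185794) (tt N49264 (iv2 F135577)) (tt N74842 (iv3 F370733)) (tt N83631 (iv4 F288113)) (tt N50122 (iv5 F138933)) (tt N25933 (iv6 D88487)) (tt N83634 D185795))
theorem Q49241 : ∀ i, i < 49241 → P i := stepQ 49240 Q49240 (allL N49240 (tt N49257 (iv1 F135556)) (tt N25934 (iv0 D88488)) (tt N49268 F135590) (tt N83635 D185796) (tt N29016 F135468) (tt N51092 (iv5 F143478)) (tt N83636 D185797) (tt N49267 (iv7 F135593)))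
theorem Q49242 : ∀ i, i < 49242 → P i := stepQ 49241 Q49241 (allL N49241 (tt N25934 (iv1 D88489)) (tt N49257 (iv0 F135555)) (tt N49267 F135592) (tt N69122 (iv3 F354296)) (tt N29015 F135469) (tt N82747 (iv5 F283813)) (tt N83637 D185799) (tt N49268 F135591))
theorem Q49243 : ∀ i, i < 49243 → P i := stepQ 49242 Q49242 (allL N49242 (tt N78969 (iv1 F288149)) (tt N78970 (iv0 F288150)) (tt N78983 F251654) (tt N25936 (iv3 D88497)) (tt N49158 F135474) (tt N82741 (iv5 F283734)) (tt N26848 F135475) (tt N49245 (iv7 F135492)))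
theorem Q49244 : ∀ i, i < 49244 → P i := stepQ 49243 Q49243 (allL N49243 (tt N50878 F161695) (tt N79978 F288037) (tt N83638 D185823) (tt N25938 (iv3 D88501)) (tt N29417 F135487) (tt N83639 D185824) (tt N25997 F291531) (tt N49248 (iv7 F135507)))
theorem Q49245 : ∀ i, i < 49245 → P i := stepQ 49244 Q49244 (allL N49244 (tt N26797 F135488) (tt N26800 F135489) (tt N29077 F291331) (tt N83639 (iv3 F288135)) (tt N82747 (iv4 F283814)) (tt N25938 (iv5 D88502)) (tt N81450 (iv6 F326300)) (tt N49249 (iv7 F135509)))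
theorem Q49246 : ∀ i, i < 49246 → P i := stepQ 49245 Q49245 (allL N49245 (tt N45118 (iv1 F151790)) (tt N45114 (iv0 F251567)) (tt N83640 D185826) (tt N25939 (iv3 D88503)) (tt N49151 F135491) (tt N78959 (iv5 F251566)) (tt N26295 F292545) (tt N49242 F135492))
theorem Q49247 : ∀ i, i < 49247 → P i := stepQ 49246 Q49246 (allL N49246 (tt N47569 (iv1 F328229)) (tt N26427 F135504) (tt N47570 (iv2 F328232)) (tt N43770 F346103) (tt N25940 (iv4 D88506)) (tt N49257 (iv5 F135553)) (tt N42008 F330312) (tt N47026 F328227))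
theorem Q49248 : ∀ i, i < 49248 → P i := stepQ 49247 Q49247 (allL N49247 (tt N61579 (iv1 F334783)) (tt N61586 (iv0 F334778)) (tt N51288 (iv2 F144672)) (tt N29060 F291747) (tt N42008 F330310) (tt N29093 (iv5 F292763)) (tt N25940 (iv6 D88507)) (tt N47591 F327767))
theorem Q49249 : ∀ i, i < 49249 → P i := stepQ 49248 Q49248 (allL N49248 (tt N83641 D185832) (tt N83613 (iv0 F288038)) (tt N83642 D185833) (tt N25941 (iv3 D88508)) (tt N29285 F135505) (tt N83643 D185834) (tt N26857 F135506) (tt N49243 F135507))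
theorem Q49250 : ∀ i, i < 49250 → P i := stepQ 49249 Q49249 (allL N49249 (tt N26266 F135510) (tt N26423 F135511) (tt N26995 F135508) (tt N83643 (iv3 F288216)) (tt N82742 (iv4 F283777)) (tt N25941 (iv5 D88509)) (tt N83644 D185835) (tt N49244 F135509))
theorem Q49251 : ∀ i, i < 49251 → P i := stepQ 49250 Q49250 (allL N49250 (tt N26508 (iv1 F135526)) (tt N25942 (iv0 D88513)) (tt N26489 (iv2 F135525)) (tt N50910 (iv3 F143003)) (tt N54074 (iv4 F290175)) (tt N83645 D185839) (tt N51441 (iv6 F144904)) (tt N26510 F135527))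
theorem Q49252 : ∀ i, i < 49252 → P i := stepQ 49251 Q49251 (allL N49251 (tt N26489 (iv1 F135533)) (tt N26510 F135532) (tt N25942 (iv2 D88514)) (tt N49224 F135529) (tt N28965 F135530) (tt N41896 (iv5 F135535)) (tt N50887 F142908) (tt N26508 F135531))
theorem Q49253 : ∀ i, i < 49253 → P i := stepQ 49252 Q49252 (allL N49252 (tt N41895 (iv1 F135539)) (tt N41894 F135540) (tt N41896 F135536) (tt N25943 F135537) (tt N67525 (iv4 F325467)) (tt N25942 (iv5 D88515)) (tt N38119 F324312) (tt N26511 F135538))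
theorem Q49254 : ∀ i, i < 49254 → P i := stepQ 49253 Q49253 (allL N49253 (tt N50896 (iv1 F142942)) (tt N50895 F142939) (tt N49225 F135541) (tt N36954 (iv3 F322860)) (tt N25943 (iv4 D88516)) (tt N26803 F135543) (tt N36951 F321125) (tt N26520 F135542))
theorem Q49255 : ∀ i, i < 49255 → P i := stepQ 49254 Q49254 (allL N49254 (tt N25944 (iv1 D88519)) (tt N26495 F135547) (tt N49226 (iv2 F285645)) (tt N83646 D185850) (tt N83647 D185851) (tt N83648 D185852) (tt N49226 F290237) (tt N26435 F290222))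
theorem Q49256 : ∀ i, i < 49256 → P i := stepQ 49255 Q49255 (allL N49255 (tt N70023 (iv1 F349143)) (tt N83649 D185855) (tt N50922 (iv2 F143043)) (tt N25945 F135548) (tt N83650 D185856) (tt N25944 (iv5 D88520)) (tt N83651 D185857) (tt N49227 F135549))
theorem Q49257 : ∀ i, i < 49257 → P i := stepQ 49256 Q49256 (allL N49256 (tt N27931 (iv1 F294554)) (tt N27930 (iv0 F294555)) (tt N25966 F293650) (tt N25946 F135550) (tt N49256 F135551) (tt N51333 (iv5 F144733)) (tt N25944 (iv6 D88521)) (tt N27932 F293651))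
theorem Q49258 : ∀ i, i < 49258 → P i := stepQ 49257 Q49257 (allL N49257 (tt N49241 F135555) (tt N49240 F135556) (tt N25951 F135552) (tt N77338 (iv3 F346104)) (tt N25945 (iv4 D88522)) (tt N49246 F135553) (tt N83652 D185861) (tt N47597 F327761))
theorem Q49259 : ∀ i, i < 49259 → P i := stepQ 49258 Q49258 (allL N49258 (tt N83653 D185862) (tt N83654 D185863) (tt N25952 F135557) (tt N83651 (iv3 F288285)) (tt N83652 (iv4 F288289)) (tt N51335 (iv5 F144739)) (tt N25945 (iv6 D88523)) (tt N83655 D185864))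
theorem Q49260 : ∀ i, i < 49260 → P i := stepQ 49259 Q49259 (allL N49259 (tt N26539 (iv1 F135558)) (tt N25947 (iv0 D88524)) (tt N26541 F153471) (tt N83656 D185865) (tt N55163 F159097) (tt N83657 D185866) (tt N83658 D185867) (tt N26540 F153472))
theorem Q49261 : ∀ i, i < 49261 → P i := stepQ 49260 Q49260 (allL N49260 (tt N25947 (iv1 D88525)) (tt N26539 F135563) (tt N26540 F153436) (tt N26527 F145329) (tt N55151 (iv4 F159055)) (tt N83659 D185868) (tt N45035 F135564) (tt N26541 F153437))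
theorem Q49262 : ∀ i, i < 49262 → P i := stepQ 49261 Q49261 (allL N49261 (tt N26541 (iv1 F135567)) (tt N26540 F135562) (tt N25947 (iv2 D88526)) (tt N49232 F135559) (tt N29384 F135560) (tt N75721 (iv5 F233528)) (tt N50954 (iv6 F143146)) (tt N26539 F135561))
theorem Q49263 : ∀ i, i < 49263 → P i := stepQ 49262 Q49262 (allL N49262 (tt N75720 (iv1 F233525)) (tt N75719 F233530) (tt N75721 (iv2 F233527)) (tt N25948 F135568) (tt N83660 D185869) (tt N25947 (iv5 D88527)) (tt N69392 (iv6 F319149)) (tt N26542 F135569))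
theorem Q49264 : ∀ i, i < 49264 → P i := stepQ 49263 Q49263 (allL N49263 (tt N50935 (iv1 F288080)) (tt N50938 F287623) (tt N83661 D185874) (tt N25949 (iv3 D88530)) (tt N83662 D185875) (tt N82745 (iv5 F283798)) (tt N83663 D185876) (tt N49234 F135574))
theorem Q49265 : ∀ i, i < 49265 → P i := stepQ 49264 Q49264 (allL N49264 (tt N83664 D185879) (tt N83665 D185880) (tt N49239 F135577) (tt N83663 (iv3 F288338)) (tt N56355 (iv4 F336035)) (tt N26594 F135578) (tt N25949 (iv6 D88532)) (tt N83666 D185881))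
theorem Q49266 : ∀ i, i < 49266 → P i := stepQ 49265 Q49265 (allL N49265 (tt N83657 F288317) (tt N83659 (iv0 F288323)) (tt N83667 D185882) (tt N25950 (iv3 D88533)) (tt N83668 D185883) (tt N27248 F135579) (tt N83669 D185884) (tt N49237 F135580))
theorem Q49267 : ∀ i, i < 49267 → P i := stepQ 49266 Q49266 (allL N49266 (tt N70502 (iv1 F362718)) (tt N83670 D185888) (tt N49236 F135585) (tt N83669 (iv3 F288366)) (tt N67918 (iv4 F323385)) (tt N27249 F135586) (tt N25950 (iv6 D88535)) (tt N67956 (iv7 F336100)))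
theorem Q49268 : ∀ i, i < 49268 → P i := stepQ 49267 Q49267 (allL N49267 (tt N47597 F327758) (tt N25951 (iv0 D88536)) (tt N49241 (iv2 F135592)) (tt N70480 (iv3 F337856)) (tt N50886 (iv4 F142896)) (tt N54864 (iv5 F291386)) (tt N83671 D185891) (tt N49240 F135593))
theorem Q49269 : ∀ i, i < 49269 → P i := stepQ 49268 Q49268 (allL N49268 (tt N25951 (iv1 D88537)) (tt N47597 F327757) (tt N49240 (iv2 F135590)) (tt N37945 (iv3 F354295)) (tt N27274 F135589) (tt N82742 (iv5 F283776)) (tt N70506 (iv6 F366464)) (tt N49241 (iv7 F135591)))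
theorem Q49270 : ∀ i, i < 49270 → P i := stepQ 49269 Q49269 (allL N49269 (tt N37952 (iv1 F341748)) (tt N38613 (iv0 F329046)) (tt N38615 (iv2 F329045)) (tt N25951 (iv3 D88538)) (tt N55412 (iv4 F160064)) (tt N81504 (iv5 F328616)) (tt N38627 F328610) (tt N38601 F328611))
theorem Q49271 : ∀ i, i < 49271 → P i := stepQ 49270 Q49270 (allL N49270 (tt N83672 D185900) (tt N67907 (iv0 F334331)) (tt N83652 (iv2 F288288)) (tt N38627 (iv3 F328235)) (tt N25952 F135599) (tt N83673 D185902) (tt N25951 (iv6 D88540)) (tt N38620 F327766))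
theorem Q49272 : ∀ i, i < 49272 → P i := stepQ 49271 Q49271 (allL N49271 (tt N83655 (iv1 F288304)) (tt N25952 (iv0 D88541)) (tt N83653 (iv2 F288302)) (tt N83674 D185904) (tt N38028 (iv4 F333826)) (tt N83675 D185906) (tt N83676 D185907) (tt N83654 F288303))
theorem Q49273 : ∀ i, i < 49273 → P i := stepQ 49272 Q49272 (allL N49272 (tt N25952 (iv1 D88542)) (tt N83655 F288299) (tt N83654 (iv2 F288294)) (tt N42375 F143117) (tt N38027 F324721) (tt N68136 (iv5 F209186)) (tt N42373 (iv6 F143113)) (tt N83653 (iv7 F288300)))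
theorem Q49274 : ∀ i, i < 49274 → P i := stepQ 49273 Q49273 (allL N49273 (tt N83677 D185909) (tt N83678 D185910) (tt N51335 (iv2 F144738)) (tt N26299 F293768) (tt N83679 D185911) (tt N25952 (iv5 D88543)) (tt N25955 F135600) (tt N83680 D185912))
theorem Q49275 : ∀ i, i < 49275 → P i := stepQ 49274 Q49274 (allL N49274 (tt N83654 (iv1 F288291)) (tt N83653 F288298) (tt N83655 (iv2 F288296)) (tt N55416 (iv3 F160075)) (tt N38620 (iv4 F327295)) (tt N83680 (iv5 F288408)) (tt N38619 F326538) (tt N25952 (iv7 D88544)))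
theorem Q49276 : ∀ i, i < 49276 → P i := stepQ 49275 Q49275 (allL N49275 (tt N83681 D185913) (tt N50939 F288420) (tt N50795 (iv2 F293381)) (tt N25953 (iv3 D88545)) (tt N26670 F292356) (tt N27147 F135603) (tt N29057 F291715) (tt N26571 F135604))
theorem Q49277 : ∀ i, i < 49277 → P i := stepQ 49276 Q49276 (allL N49276 (tt N83658 (iv1 F288316)) (tt N45131 (iv0 F157810)) (tt N75991 (iv2 F235275)) (tt N25954 (iv3 D88546)) (tt N29185 F135605) (tt N27150 F135606) (tt N26446 F135607) (tt N29090 F293642))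
theorem Q49278 : ∀ i, i < 49278 → P i := stepQ 49277 Q49277 (allL N49277 (tt N51275 (iv1 F144653)) (tt N51271 (iv0 F144631)) (tt N51334 (iv2 F144734)) (tt N80661 (iv3 F294677)) (tt N25955 (iv4 D88547)) (tt N51334 (iv5 F144735)) (tt N83679 (iv6 F288407)) (tt N29092 F293767))
theorem Q49279 : ∀ i, i < 49279 → P i := stepQ 49278 Q49278 (allL N49278 (tt N82594 (iv1 F283181)) (tt N26682 (iv0 F135733)) (tt N82593 (iv2 F283174)) (tt N25956 (iv3 D88580)) (tt N50683 (iv4 F141494)) (tt N83682 D185956) (tt N55091 (iv6 F294694)) (tt N27569 F293829))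
theorem Q49280 : ∀ i, i < 49280 → P i := stepQ 49279 Q49279 (allL N49279 (tt N51778 (iv1 F295303)) (tt N27753 (iv0 F295302)) (tt N27556 F294877) (tt N83682 (iv3 F288461)) (tt N51774 (iv4 F295305)) (tt N25956 (iv5 D88581)) (tt N83683 D185959) (tt N27570 F294878))
theorem Q49281 : ∀ i, i < 49281 → P i := stepQ 49280 Q49280 (allL N49280 (tt N48536 (iv1 F135747)) (tt N25959 (iv0 D88591)) (tt N48533 F283588) (tt N83684 D185980) (tt N52903 (iv4 F364401)) (tt N83685 D185981) (tt N83686 D185982) (tt N48534 F283589))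
theorem Q49282 : ∀ i, i < 49282 → P i := stepQ 49281 Q49281 (allL N49281 (tt N25959 (iv1 D88592)) (tt N48536 F135740) (tt N48534 F283586) (tt N51284 (iv3 F144669)) (tt N52904 (iv4 F364397)) (tt N83687 D185984) (tt N55146 (iv6 F335414)) (tt N48533 F283587))
theorem Q49283 : ∀ i, i < 49283 → P i := stepQ 49282 Q49282 (allL N49282 (tt N83688 D185986) (tt N83025 (iv0 F285533)) (tt N48535 F135741) (tt N25962 F135742) (tt N83689 D185987) (tt N25959 (iv5 D88593)) (tt N53932 (iv6 F155040)) (tt N83690 D185988))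
theorem Q49284 : ∀ i, i < 49284 → P i := stepQ 49283 Q49283 (allL N49283 (tt N48534 (iv1 F135748)) (tt N48533 F135749) (tt N48536 F135743) (tt N25963 F135744) (tt N49283 F135745) (tt N83690 (iv5 F288516)) (tt N26032 F135746) (tt N25959 (iv7 D88594)))
theorem Q49285 : ∀ i, i < 49285 → P i := stepQ 49284 Q49284 (allL N49284 (tt N76993 F337268) (tt N26136 F337269) (tt N76099 (iv2 F335681)) (tt N25960 (iv3 D88595)) (tt N26304 F135750) (tt N83691 D185992) (tt N28912 F135751) (tt N26229 F135752))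
theorem Q49286 : ∀ i, i < 49286 → P i := stepQ 49285 Q49285 (allL N49285 (tt N28466 F135756) (tt N50208 F292106) (tt N26227 F135753) (tt N83691 (iv3 F288530)) (tt N83692 D185993) (tt N25960 (iv5 D88596)) (tt N28918 F135754) (tt N26230 F135755))
theorem Q49287 : ∀ i, i < 49287 → P i := stepQ 49286 Q49286 (allL N49286 (tt N26116 F335745) (tt N80678 (iv0 F335746)) (tt N80676 (iv2 F289547)) (tt N25961 (iv3 D88597)) (tt N27772 F135757) (tt N83693 D185997) (tt N52163 (iv6 F147823)) (tt N26226 F135758))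
theorem Q49288 : ∀ i, i < 49288 → P i := stepQ 49287 Q49287 (allL N49287 (tt N50208 F292105) (tt N28466 F135761) (tt N26230 F135759) (tt N83693 (iv3 F288543)) (tt N83694 D185998) (tt N25961 (iv5 D88598)) (tt N83695 D185999) (tt N26227 F135760))
theorem Q49289 : ∀ i, i < 49289 → P i := stepQ 49288 Q49288 (allL N49288 (tt N50519 F293255) (tt N50920 F293256) (tt N26234 F135765) (tt N83696 D186003) (tt N25962 (iv4 D88600)) (tt N29376 F293257) (tt N53939 (iv6 F155047)) (tt N55413 F293258))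
theorem Q49290 : ∀ i, i < 49290 → P i := stepQ 49289 Q49289 (allL N49289 (tt N26233 (iv1 F135768)) (tt N26232 F135769) (tt N26225 F135766) (tt N83690 (iv3 F288515)) (tt N55413 (iv4 F292346)) (tt N25963 F135767) (tt N83697 D186006) (tt N25962 (iv7 D88601)))
theorem Q49291 : ∀ i, i < 49291 → P i := stepQ 49290 Q49290 (allL N49290 (tt N28149 (iv1 F136672)) (tt N26091 (iv0 F135773)) (tt N28147 F136451) (tt N25964 (iv3 D88602)) (tt N26393 F135770) (tt N83698 D186007) (tt N26281 F135771) (tt N26288 F135772))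
theorem Q49292 : ∀ i, i < 49292 → P i := stepQ 49291 Q49291 (allL N49291 (tt N28448 F135776) (tt N50210 F291676) (tt N26286 F135774) (tt N83698 (iv3 F288567)) (tt N83699 D186009) (tt N25964 (iv5 D88603)) (tt N83700 D186010) (tt N26289 F135775))
theorem Q49293 : ∀ i, i < 49293 → P i := stepQ 49292 Q49292 (allL N49292 (tt N50210 F291677) (tt N28448 (iv0 F135785)) (tt N26289 F135783) (tt N64316 (iv3 F335608)) (tt N83701 D186015) (tt N25965 (iv5 D88606)) (tt N83702 D186016) (tt N26286 F135784))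
theorem Q49294 : ∀ i, i < 49294 → P i := stepQ 49293 Q49293 (allL N49293 (tt N27932 (iv1 F135810)) (tt N25966 (iv0 D88614)) (tt N27931 F295137) (tt N83703 D186036) (tt N83704 D186037) (tt N51476 (iv5 F335768)) (tt N83618 (iv6 F335765)) (tt N27930 (iv7 F295421)))
theorem Q49295 : ∀ i, i < 49295 → P i := stepQ 49294 Q49294 (allL N49294 (tt N25966 (iv1 D88615)) (tt N27932 F135815) (tt N27930 (iv2 F295420)) (tt N83705 D186041) (tt N83706 D186042) (tt N51477 (iv5 F294552)) (tt N26438 (iv6 F294553)) (tt N27931 F295138))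
theorem Q49296 : ∀ i, i < 49296 → P i := stepQ 49295 Q49295 (allL N49295 (tt N29073 (iv1 F135817)) (tt N25968 (iv0 D88617)) (tt N29072 (iv2 F138397)) (tt N54741 (iv3 F294481)) (tt N50565 (iv4 F140194)) (tt N49363 F295032) (tt N50888 (iv6 F292621)) (tt N29071 (iv7 F138399)))
theorem Q49297 : ∀ i, i < 49297 → P i := stepQ 49296 Q49296 (allL N49296 (tt N25968 (iv1 D88618)) (tt N29073 F135821) (tt N29071 F138398) (tt N26622 (iv3 F292411)) (tt N50567 (iv4 F140198)) (tt N49364 F293458) (tt N51091 (iv6 F292415)) (tt N29072 F138396))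
theorem Q49298 : ∀ i, i < 49298 → P i := stepQ 49297 Q49297 (allL N49297 (tt N29072 (iv1 F135822)) (tt N29071 F135820) (tt N25968 (iv2 D88619)) (tt N25995 F135818) (tt N50793 (iv4 F142560)) (tt N83707 D186050) (tt N50838 (iv6 F292418)) (tt N29073 F135819))
theorem Q49299 : ∀ i, i < 49299 → P i := stepQ 49298 Q49298 (allL N49298 (tt N50068 (iv1 F362337)) (tt N51583 (iv0 F340448)) (tt N83707 (iv2 F288658)) (tt N25969 F135823) (tt N83708 D186053) (tt N25968 (iv5 D88620)) (tt N83709 D186054) (tt N29074 F135824))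
theorem Q49300 : ∀ i, i < 49300 → P i := stepQ 49299 Q49299 (allL N49299 (tt N69585 (iv1 F353356)) (tt N83710 D186056) (tt N25999 F135825) (tt N83709 (iv3 F288666)) (tt N51566 (iv4 F292436)) (tt N50841 (iv5 F292000)) (tt N25969 (iv6 D88621)) (tt N83711 D186057))
theorem Q49301 : ∀ i, i < 49301 → P i := stepQ 49300 Q49300 (allL N49300 (tt N49210 (iv1 F135856)) (tt N25973 (iv0 D88627)) (tt N49209 F293647) (tt N83712 D186059) (tt N83658 (iv4 F294545)) (tt N83713 D186061) (tt N55163 (iv6 F350445)) (tt N49208 (iv7 F294547)))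
theorem Q49302 : ∀ i, i < 49302 → P i := stepQ 49301 Q49301 (allL N49301 (tt N25973 (iv1 D88628)) (tt N49210 F135861) (tt N49208 (iv2 F294546)) (tt N55584 (iv3 F292584)) (tt N45131 (iv4 F292586)) (tt N83714 D186066) (tt N45130 (iv6 F292587)) (tt N49209 F293648))
theorem Q49303 : ∀ i, i < 49303 → P i := stepQ 49302 Q49302 (allL N49302 (tt N49209 (iv1 F135862)) (tt N49208 F135860) (tt N25973 (iv2 D88629)) (tt N49205 F135857) (tt N25995 F135858) (tt N52662 (iv5 F292594)) (tt N51051 (iv6 F292583)) (tt N49210 F135859))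
theorem Q49304 : ∀ i, i < 49304 → P i := stepQ 49303 Q49303 (allL N49303 (tt N48380 F135893) (tt N83715 D186082) (tt N83716 D186083) (tt N25977 (iv3 D88640)) (tt N44628 F135891) (tt N78536 (iv5 F249057)) (tt N80927 (iv6 F299351)) (tt N27963 F135892))
theorem Q49305 : ∀ i, i < 49305 → P i := stepQ 49304 Q49304 (allL N49304 (tt N45352 (iv1 F301964)) (tt N45336 F299209) (tt N45349 (iv2 F301396)) (tt N47268 F135895) (tt N83717 D186084) (tt N25978 (iv5 D88641)) (tt N49010 F135896) (tt N45350 (iv7 F301966)))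
theorem Q49306 : ∀ i, i < 49306 → P i := stepQ 49305 Q49305 (allL N49305 (tt N28727 F310309) (tt N35248 F135902) (tt N35181 (iv2 F301400)) (tt N28807 F324284) (tt N25981 F135899) (tt N45350 (iv5 F301965)) (tt N34827 (iv6 F299439)) (tt N25978 (iv7 D88642)))
theorem Q49307 : ∀ i, i < 49307 → P i := stepQ 49306 Q49306 (allL N49306 (tt N45631 (iv1 F298089)) (tt N45630 (iv0 F298413)) (tt N34729 F135923) (tt N45627 F135924) (tt N44662 F135925) (tt N49306 F135926) (tt N25982 (iv6 D88647)) (tt N45627 F297433))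
theorem Q49308 : ∀ i, i < 49308 → P i := stepQ 49307 Q49307 (allL N49307 (tt N65058 (iv1 F199063)) (tt N65059 (iv0 F199078)) (tt N46250 F300502) (tt N83718 D186087) (tt N25983 (iv4 D88650)) (tt N80789 (iv5 F271620)) (tt N46249 F300503) (tt N59716 (iv7 F325194)))
theorem Q49309 : ∀ i, i < 49309 → P i := stepQ 49308 Q49308 (allL N49308 (tt N65059 (iv1 F199079)) (tt N65058 (iv0 F199062)) (tt N59716 (iv2 F325191)) (tt N66685 F323914) (tt N25984 (iv4 D88652)) (tt N80790 (iv5 F271626)) (tt N31087 F323915) (tt N46250 F301442))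
theorem Q49310 : ∀ i, i < 49310 → P i := stepQ 49309 Q49309 (allL N49309 (tt N34652 F296612) (tt N25987 (iv0 D88662)) (tt N34657 F296613) (tt N45631 (iv3 F298091)) (tt N45973 (iv4 F254712)) (tt N45664 (iv5 F298092)) (tt N34633 (iv6 F298094)) (tt N34656 F296614))
theorem Q49311 : ∀ i, i < 49311 → P i := stepQ 49310 Q49310 (allL N49310 (tt N50505 (iv1 F140083)) (tt N25988 (iv0 D88678)) (tt N50504 (iv2 F349275)) (tt N52748 (iv3 F151162)) (tt N83719 D186130) (tt N53056 (iv5 F355754)) (tt N42290 (iv6 F349281)) (tt N50503 (iv7 F355744)))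
theorem Q49312 : ∀ i, i < 49312 → P i := stepQ 49311 Q49311 (allL N49311 (tt N25988 (iv1 D88679)) (tt N50505 F140085) (tt N50503 (iv2 F355741)) (tt N54747 (iv3 F360979)) (tt N50542 (iv4 F140157)) (tt N53057 (iv5 F349266)) (tt N51054 (iv6 F349267)) (tt N50504 (iv7 F349277)))
theorem Q49313 : ∀ i, i < 49313 → P i := stepQ 49312 Q49312 (allL N49312 (tt N50504 (iv1 F140084)) (tt N50503 F140079) (tt N25988 (iv2 D88680)) (tt N51441 (iv3 F291006)) (tt N26836 F136020) (tt N83720 D186137) (tt N50910 (iv6 F290953)) (tt N50505 (iv7 F140082)))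
theorem Q49314 : ∀ i, i < 49314 → P i := stepQ 49313 Q49313 (allL N49313 (tt N83721 D186139) (tt N83722 D186140) (tt N83720 (iv2 F288872)) (tt N25989 F136021) (tt N83723 D186141) (tt N25988 (iv5 D88681)) (tt N83724 D186142) (tt N49369 (iv7 F136170)))
theorem Q49315 : ∀ i, i < 49315 → P i := stepQ 49314 Q49314 (allL N49314 (tt N81657 (iv1 F365435)) (tt N81660 (iv0 F364449)) (tt N49368 (iv2 F136168)) (tt N83724 (iv3 F288875)) (tt N27563 F329425) (tt N50913 F291523) (tt N25989 (iv6 D88683)) (tt N83725 D186150))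
theorem Q49316 : ∀ i, i < 49316 → P i := stepQ 49315 Q49315 (allL N49315 (tt N25990 (iv1 D88687)) (tt N51441 (iv0 F291004)) (tt N29473 F283959) (tt N51423 (iv3 F292483)) (tt N82791 (iv4 F284089)) (tt N83726 D186157) (tt N83322 (iv6 F292496)) (tt N51442 (iv7 F291012)))
theorem Q49317 : ∀ i, i < 49317 → P i := stepQ 49316 Q49316 (allL N49316 (tt N51442 (iv1 F291011)) (tt N29473 F136030) (tt N25990 (iv2 D88688)) (tt N50505 (iv3 F140080)) (tt N55600 (iv4 F160954)) (tt N51428 (iv5 F291020)) (tt N51083 (iv6 F290623)) (tt N51441 (iv7 F291009)))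
theorem Q49318 : ∀ i, i < 49318 → P i := stepQ 49317 Q49317 (allL N49317 (tt N51269 (iv1 F291016)) (tt N51426 (iv0 F344368)) (tt N51428 (iv2 F291018)) (tt N25991 F136031) (tt N74486 (iv4 F326239)) (tt N25990 (iv5 D88689)) (tt N41366 F325365) (tt N49367 (iv7 F136167)))
theorem Q49319 : ∀ i, i < 49319 → P i := stepQ 49318 Q49318 (allL N49318 (tt N29075 F291619) (tt N51078 (iv0 F290621)) (tt N51083 (iv2 F290622)) (tt N25992 F136032) (tt N50658 (iv4 F290624)) (tt N41367 F318687) (tt N25990 (iv6 D88690)) (tt N50904 (iv7 F290608)))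
theorem Q49320 : ∀ i, i < 49320 → P i := stepQ 49319 Q49319 (allL N49319 (tt N32179 (iv1 F291034)) (tt N83727 D186170) (tt N49370 (iv2 F136171)) (tt N41366 (iv3 F324133)) (tt N78537 (iv4 F249060)) (tt N41365 F322607) (tt N25991 (iv6 D88691)) (tt N74775 (iv7 F324138)))
theorem Q49321 : ∀ i, i < 49321 → P i := stepQ 49320 Q49320 (allL N49320 (tt N25994 (iv1 F136043)) (tt N25993 (iv0 D88694)) (tt N25997 (iv2 F136039)) (tt N29073 F136040) (tt N49210 F136041) (tt N60253 (iv5 F292451)) (tt N83638 (iv6 F292454)) (tt N25995 F136042))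
theorem Q49322 : ∀ i, i < 49322 → P i := stepQ 49321 Q49321 (allL N49321 (tt N25997 (iv1 F288941)) (tt N25995 (iv0 F288942)) (tt N25993 (iv2 D88695)) (tt N83728 D186179) (tt N55061 (iv4 F292438)) (tt N83729 D186181) (tt N26477 (iv6 F292441)) (tt N25994 (iv7 F136044)))
theorem Q49323 : ∀ i, i < 49323 → P i := stepQ 49322 Q49322 (allL N49322 (tt N51423 (iv1 F292482)) (tt N26617 (iv0 F292481)) (tt N50882 (iv2 F292478)) (tt N25993 (iv3 D88696)) (tt N49988 F138304) (tt N51403 (iv5 F292558)) (tt N49222 (iv6 F292560)) (tt N51422 (iv7 F292480)))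
theorem Q49324 : ∀ i, i < 49324 → P i := stepQ 49323 Q49323 (allL N49323 (tt N27555 (iv1 F292562)) (tt N55058 (iv0 F292563)) (tt N55061 (iv2 F292437)) (tt N83730 D186185) (tt N25993 (iv4 D88697)) (tt N83731 D186186) (tt N27606 (iv6 F292566)) (tt N55062 (iv7 F292569)))
theorem Q49325 : ∀ i, i < 49325 → P i := stepQ 49324 Q49324 (allL N49324 (tt N83732 D186188) (tt N27263 (iv0 F292570)) (tt N83729 (iv2 F288935)) (tt N51403 (iv3 F292556)) (tt N27878 F294059) (tt N25993 (iv5 D88698)) (tt N83733 D186190) (tt N60203 (iv7 F292579)))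
theorem Q49326 : ∀ i, i < 49326 → P i := stepQ 49325 Q49325 (allL N49325 (tt N26475 (iv1 F292572)) (tt N26479 (iv0 F292573)) (tt N26477 (iv2 F292440)) (tt N49222 (iv3 F292559)) (tt N27606 (iv4 F292565)) (tt N83734 D186194) (tt N25993 (iv6 D88699)) (tt N26476 (iv7 F292574)))
theorem Q49327 : ∀ i, i < 49327 → P i := stepQ 49326 Q49326 (allL N49326 (tt N25995 F288943) (tt N25997 F288944) (tt N25994 F136046) (tt N51422 (iv3 F292479)) (tt N55062 (iv4 F292568)) (tt N60203 (iv5 F292578)) (tt N55767 (iv6 F292581)) (tt N25993 (iv7 D88700)))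
theorem Q49328 : ∀ i, i < 49328 → P i := stepQ 49327 Q49327 (allL N49327 (tt N52746 F151160) (tt N52748 (iv0 F288976)) (tt N83735 D186198) (tt N25994 (iv3 D88701)) (tt N83735 (iv4 F288975)) (tt N83736 D186199) (tt N61014 (iv6 F292582)) (tt N83728 (iv7 F288931)))
theorem Q49329 : ∀ i, i < 49329 → P i := stepQ 49328 Q49328 (allL N49328 (tt N55058 (iv1 F292564)) (tt N27555 (iv0 F292561)) (tt N55062 (iv2 F292567)) (tt N49987 (iv3 F138302)) (tt N25994 (iv4 D88702)) (tt N83737 D186201) (tt N55505 (iv6 F292575)) (tt N55061 (iv7 F292439)))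
theorem Q49330 : ∀ i, i < 49330 → P i := stepQ 49329 Q49329 (allL N49329 (tt N27263 (iv1 F292571)) (tt N83732 F288971) (tt N60203 (iv2 F292576)) (tt N83736 (iv3 F288978)) (tt N83738 D186203) (tt N25994 (iv5 D88703)) (tt N32186 (iv6 F292580)) (tt N83729 (iv7 F288936)))
theorem Q49331 : ∀ i, i < 49331 → P i := stepQ 49330 Q49330 (allL N49330 (tt N32128 (iv1 F292447)) (tt N51570 (iv0 F292444)) (tt N25996 F136049) (tt N83707 (iv3 F288659)) (tt N83739 D186211) (tt N25995 (iv5 D88707)) (tt N83740 D186212) (tt N60253 (iv7 F292452)))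
theorem Q49332 : ∀ i, i < 49332 → P i := stepQ 49331 Q49331 (allL N49331 (tt N25996 (iv1 D88709)) (tt N60253 (iv0 F292448)) (tt N51570 (iv2 F292597)) (tt N83741 D186219) (tt N83588 (iv4 F340447)) (tt N49843 (iv5 F292598)) (tt N60256 (iv6 F292599)) (tt N32128 (iv7 F292596)))
theorem Q49333 : ∀ i, i < 49333 → P i := stepQ 49332 Q49332 (allL N49332 (tt N37466 (iv1 F292600)) (tt N52132 (iv0 F331364)) (tt N83739 (iv2 F288991)) (tt N52681 (iv3 F294947)) (tt N25996 (iv4 D88710)) (tt N27544 F294192) (tt N83742 D186225) (tt N52398 (iv7 F294588)))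
theorem Q49334 : ∀ i, i < 49334 → P i := stepQ 49333 Q49333 (allL N49333 (tt N83743 D186227) (tt N83744 D186228) (tt N83740 (iv2 F288993)) (tt N25999 F136050) (tt N83742 (iv4 F288996)) (tt N51064 (iv5 F292041)) (tt N25996 (iv6 D88711)) (tt N83745 D186229))
theorem Q49335 : ∀ i, i < 49335 → P i := stepQ 49334 Q49334 (allL N49334 (tt N51570 (iv1 F292445)) (tt N32128 (iv0 F292446)) (tt N60253 (iv2 F292449)) (tt N26000 F136051) (tt N52398 (iv4 F294587)) (tt N25997 F136052) (tt N83746 D186230) (tt N25996 (iv7 D88712)))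
theorem Q49336 : ∀ i, i < 49336 → P i := stepQ 49335 Q49335 (allL N49335 (tt N51443 (iv1 F292608)) (tt N83726 (iv0 F339539)) (tt N83747 D186245) (tt N25998 (iv3 D88716)) (tt N70791 (iv4 F344973)) (tt N26010 F136056) (tt N70793 (iv6 F344969)) (tt N50008 (iv7 F292214)))
theorem Q49337 : ∀ i, i < 49337 → P i := stepQ 49336 Q49336 (allL N49336 (tt N83748 D186248) (tt N83749 D186249) (tt N50487 (iv2 F140031)) (tt N70793 (iv3 F344968)) (tt N81570 (iv4 F276101)) (tt N83750 D186250) (tt N25998 (iv6 D88717)) (tt N60258 (iv7 F344970)))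
theorem Q49338 : ∀ i, i < 49338 → P i := stepQ 49337 Q49337 (allL N49337 (tt N83711 (iv1 F288672)) (tt N25999 (iv0 D88718)) (tt N69585 (iv2 F352835)) (tt N83751 D186253) (tt N69594 (iv4 F352837)) (tt N83752 D186255) (tt N83753 D186256) (tt N83710 (iv7 F353354)))
theorem Q49339 : ∀ i, i < 49339 → P i := stepQ 49338 Q49338 (allL N49338 (tt N25999 (iv1 D88719)) (tt N83711 F288671) (tt N83710 (iv2 F353352)) (tt N37457 (iv3 F352834)) (tt N37465 F352833) (tt N83754 D186260) (tt N83755 D186261) (tt N69585 (iv7 F352836)))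
theorem Q49340 : ∀ i, i < 49340 → P i := stepQ 49339 Q49339 (allL N49339 (tt N83710 (iv1 F288667)) (tt N69585 (iv0 F353355)) (tt N83711 (iv2 F288668)) (tt N83745 (iv3 F288999)) (tt N81614 (iv4 F276238)) (tt N51075 (iv5 F292045)) (tt N83756 D186262) (tt N25999 (iv7 D88720)))
theorem Q49341 : ∀ i, i < 49341 → P i := stepQ 49340 Q49340 (allL N49340 (tt N83757 D186263) (tt N83758 D186264) (tt N29076 F136057) (tt N83746 (iv3 F289000)) (tt N51564 (iv4 F292459)) (tt N81450 (iv5 F326299)) (tt N26000 (iv6 D88721)) (tt N83756 (iv7 F289014)))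
theorem Q49342 : ∀ i, i < 49342 → P i := stepQ 49341 Q49341 (allL N49341 (tt N28185 F293933) (tt N26001 (iv0 D88735)) (tt N28184 (iv2 F294782)) (tt N53170 (iv3 F294784)) (tt N83759 D186279) (tt N83760 D186280) (tt N28093 (iv6 F294785)) (tt N28018 (iv7 F294787)))
theorem Q49343 : ∀ i, i < 49343 → P i := stepQ 49342 Q49342 (allL N49342 (tt N26001 (iv1 D88736)) (tt N28185 F293934) (tt N28018 (iv2 F294786)) (tt N48683 (iv3 F294788)) (tt N51499 (iv4 F294789)) (tt N83761 D186285) (tt N26057 (iv6 F294790)) (tt N28184 (iv7 F294783)))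
theorem Q49344 : ∀ i, i < 49344 → P i := stepQ 49343 Q49343 (allL N49343 (tt N28184 F293935) (tt N28018 F293936) (tt N26001 (iv2 D88737)) (tt N28180 (iv3 F294630)) (tt N26014 F136082) (tt N83762 D186287) (tt N53678 (iv6 F154388)) (tt N28185 F293937))
theorem Q49345 : ∀ i, i < 49345 → P i := stepQ 49344 Q49344 (allL N49344 (tt N83763 D186288) (tt N83764 D186289) (tt N83762 (iv2 F289053)) (tt N26002 F136083) (tt N83765 D186290) (tt N26001 (iv5 D88738)) (tt N83766 D186291) (tt N28186 F293938))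
theorem Q49346 : ∀ i, i < 49346 → P i := stepQ 49345 Q49345 (allL N49345 (tt N83767 D186292) (tt N70415 (iv0 F359433)) (tt N28183 (iv2 F294283)) (tt N83766 (iv3 F289054)) (tt N28188 F294987) (tt N53197 F293939) (tt N26002 (iv6 D88739)) (tt N83768 D186294))
theorem Q49347 : ∀ i, i < 49347 → P i := stepQ 49346 Q49346 (allL N49346 (tt N45667 (iv1 F298766)) (tt N45666 (iv0 F298762)) (tt N45670 (iv2 F300454)) (tt N83769 D186297) (tt N26003 (iv4 D88746)) (tt N80816 (iv5 F271771)) (tt N46922 F136115) (tt N45645 F298315))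
theorem Q49348 : ∀ i, i < 49348 → P i := stepQ 49347 Q49347 (allL N49347 (tt N58420 (iv1 F364566)) (tt N83770 D186299) (tt N83771 D186300) (tt N26006 (iv3 D88751)) (tt N82529 (iv4 F281846)) (tt N74135 (iv5 F345714)) (tt N26008 F136140) (tt N83772 D186302))
theorem Q49349 : ∀ i, i < 49349 → P i := stepQ 49348 Q49348 (allL N49348 (tt N47236 F136141) (tt N47239 F136142) (tt N54847 (iv2 F158043)) (tt N74135 (iv3 F345713)) (tt N83773 D186303) (tt N26006 (iv5 D88752)) (tt N83774 D186304) (tt N83775 D186305))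
theorem Q49350 : ∀ i, i < 49350 → P i := stepQ 49349 Q49349 (allL N49349 (tt N35323 (iv1 F136145)) (tt N46938 F136146) (tt N45660 (iv2 F299331)) (tt N83772 (iv3 F289066)) (tt N26007 F136144) (tt N83775 (iv5 F289077)) (tt N54852 (iv6 F158083)) (tt N26006 (iv7 D88753)))
theorem Q49351 : ∀ i, i < 49351 → P i := stepQ 49350 Q49350 (allL N49350 (tt N54850 (iv1 F158078)) (tt N26008 (iv0 D88754)) (tt N54849 (iv2 F364549)) (tt N31825 F327946) (tt N83776 D186308) (tt N52083 (iv5 F360327)) (tt N83777 D186310) (tt N54848 (iv7 F364548)))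
theorem Q49352 : ∀ i, i < 49352 → P i := stepQ 49351 Q49351 (allL N49351 (tt N26008 (iv1 D88755)) (tt N54850 F158080) (tt N54848 (iv2 F364545)) (tt N83778 D186312) (tt N83779 D186313) (tt N81609 (iv5 F364555)) (tt N79306 (iv6 F364554)) (tt N54849 (iv7 F364550)))
theorem Q49353 : ∀ i, i < 49353 → P i := stepQ 49352 Q49352 (allL N49352 (tt N54849 (iv1 F158079)) (tt N54848 F158076) (tt N26008 (iv2 D88756)) (tt N54845 (iv3 F158041)) (tt N82569 (iv4 F282821)) (tt N74182 (iv5 F350477)) (tt N83771 (iv6 F289064)) (tt N54850 (iv7 F158077)))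
theorem Q49354 : ∀ i, i < 49354 → P i := stepQ 49353 Q49353 (allL N49353 (tt N33533 (iv1 F350532)) (tt N52060 F350527) (tt N74182 (iv2 F350474)) (tt N26009 F136147) (tt N83780 D186319) (tt N26008 (iv5 D88757)) (tt N83781 D186320) (tt N47665 F136148))
theorem Q49355 : ∀ i, i < 49355 → P i := stepQ 49354 Q49354 (allL N49354 (tt N83782 D186321) (tt N83783 D186322) (tt N47664 F136149) (tt N83781 (iv3 F289097)) (tt N49847 (iv4 F137449)) (tt N83774 (iv5 F289074)) (tt N26009 (iv6 D88758)) (tt N83784 D186323))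
theorem Q49356 : ∀ i, i < 49356 → P i := stepQ 49355 Q49355 (allL N49355 (tt N26010 (iv1 D88760)) (tt N26814 F293183) (tt N27094 F293184) (tt N27165 (iv3 F294190)) (tt N28094 (iv4 F294193)) (tt N83785 D186327) (tt N53831 (iv6 F345030)) (tt N27178 F293185))
theorem Q49357 : ∀ i, i < 49357 → P i := stepQ 49356 Q49356 (allL N49356 (tt N27178 F293186) (tt N27094 F293187) (tt N26010 (iv2 D88761)) (tt N50485 (iv3 F140021)) (tt N48666 F136151) (tt N83747 (iv5 F289005)) (tt N26012 F293723) (tt N26814 F293188))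
theorem Q49358 : ∀ i, i < 49358 → P i := stepQ 49357 Q49357 (allL N49357 (tt N26623 F290735) (tt N29474 F293533) (tt N27163 F290737) (tt N51583 (iv3 F291088)) (tt N51366 (iv4 F291089)) (tt N26011 (iv5 D88765)) (tt N83750 (iv6 F289010)) (tt N26782 F290738))
theorem Q49359 : ∀ i, i < 49359 → P i := stepQ 49358 Q49358 (allL N49358 (tt N49482 (iv1 F295033)) (tt N49481 (iv0 F295034)) (tt N27162 (iv2 F295036)) (tt N26012 (iv3 D88774)) (tt N49493 (iv4 F294939)) (tt N83786 D186360) (tt N50485 (iv6 F294658)) (tt N49480 F294388))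
theorem Q49360 : ∀ i, i < 49360 → P i := stepQ 49359 Q49359 (allL N49359 (tt N49607 (iv1 F295037)) (tt N49606 (iv0 F295038)) (tt N27040 F141310) (tt N51451 (iv3 F295039)) (tt N26012 (iv4 D88775)) (tt N70355 (iv5 F364231)) (tt N48666 (iv6 F294657)) (tt N49605 F294389))
theorem Q49361 : ∀ i, i < 49361 → P i := stepQ 49360 Q49360 (allL N49360 (tt N83707 F295069) (tt N29074 F295070) (tt N51583 (iv2 F293699)) (tt N83786 (iv3 F289142)) (tt N83787 D186369) (tt N26012 (iv5 D88776)) (tt N83788 D186370) (tt N50068 (iv7 F293697)))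
theorem Q49362 : ∀ i, i < 49362 → P i := stepQ 49361 Q49361 (allL N49361 (tt N29074 (iv1 F294490)) (tt N83707 (iv0 F294491)) (tt N50068 (iv2 F293696)) (tt N26782 F293539) (tt N83789 D186378) (tt N26013 (iv5 D88781)) (tt N32130 (iv6 F294492)) (tt N51583 (iv7 F293700)))
theorem Q49363 : ∀ i, i < 49363 → P i := stepQ 49362 Q49362 (allL N49362 (tt N51587 (iv1 F291647)) (tt N51586 (iv0 F291646)) (tt N26015 F136164) (tt N51571 (iv3 F291629)) (tt N83790 D186384) (tt N26014 (iv5 D88783)) (tt N83791 D186385) (tt N51584 (iv7 F291649)))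
theorem Q49364 : ∀ i, i < 49364 → P i := stepQ 49363 Q49363 (allL N49363 (tt N51584 (iv1 F291648)) (tt N26015 (iv0 D88784)) (tt N51587 F294387) (tt N83792 D186387) (tt N83793 D186388) (tt N49295 (iv5 F295032)) (tt N83794 D186390) (tt N51586 (iv7 F293456)))
theorem Q49365 : ∀ i, i < 49365 → P i := stepQ 49364 Q49364 (allL N49364 (tt N26015 (iv1 D88785)) (tt N51584 F292460) (tt N51586 (iv2 F293455)) (tt N27169 (iv3 F293457)) (tt N73671 (iv4 F359561)) (tt N49296 (iv5 F293458)) (tt N73670 (iv6 F330320)) (tt N51587 (iv7 F293473)))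
theorem Q49366 : ∀ i, i < 49366 → P i := stepQ 49365 Q49365 (allL N49365 (tt N83795 D186396) (tt N74347 (iv0 F376738)) (tt N83790 (iv2 F289170)) (tt N83796 D186398) (tt N26015 (iv4 D88786)) (tt N83797 D186399) (tt N83798 D186400) (tt N51588 (iv7 F291651)))
theorem Q49367 : ∀ i, i < 49367 → P i := stepQ 49366 Q49366 (allL N49366 (tt N83799 D186401) (tt N83800 D186402) (tt N83791 (iv2 F289171)) (tt N26019 F136165) (tt N83798 (iv4 F289176)) (tt N53846 (iv5 F154813)) (tt N26015 (iv6 D88787)) (tt N83801 D186403))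
theorem Q49368 : ∀ i, i < 49368 → P i := stepQ 49367 Q49367 (allL N49367 (tt N27179 (iv1 F291561)) (tt N83785 (iv0 F345027)) (tt N83802 D186405) (tt N26016 (iv3 D88788)) (tt N83803 D186406) (tt N48638 F136166) (tt N83804 D186407) (tt N49317 F136167))
theorem Q49369 : ∀ i, i < 49369 → P i := stepQ 49368 Q49368 (allL N49368 (tt N83805 D186408) (tt N83806 D186409) (tt N49314 F136168) (tt N83804 (iv3 F289185)) (tt N52139 (iv4 F329423)) (tt N50192 (iv5 F291469)) (tt N26016 (iv6 D88789)) (tt N83807 D186411))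
theorem Q49370 : ∀ i, i < 49370 → P i := stepQ 49369 Q49369 (allL N49369 (tt N53051 (iv1 F349284)) (tt N53054 (iv0 F367102)) (tt N83808 D186414) (tt N26017 (iv3 D88790)) (tt N83809 D186415) (tt N26665 F136169) (tt N83810 D186416) (tt N49313 F136170))
theorem Q49371 : ∀ i, i < 49371 → P i := stepQ 49370 Q49370 (allL N49370 (tt N60262 (iv1 F355668)) (tt N60271 (iv0 F355665)) (tt N49319 F136171) (tt N83810 (iv3 F289202)) (tt N78501 (iv4 F248997)) (tt N50033 (iv5 F290703)) (tt N26017 (iv6 D88791)) (tt N60270 (iv7 F291600)))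
theorem Q49372 : ∀ i, i < 49372 → P i := stepQ 49371 Q49371 (allL N49371 (tt N83811 D186421) (tt N83812 D186422) (tt N83813 D186423) (tt N26018 (iv3 D88792)) (tt N83796 (iv4 F289174)) (tt N45965 F136172) (tt N83814 D186424) (tt N47663 F136173))
theorem Q49373 : ∀ i, i < 49373 → P i := stepQ 49372 Q49372 (allL N49372 (tt N83815 D186425) (tt N83816 D186426) (tt N47666 F136174) (tt N83814 (iv3 F289218)) (tt N26019 F136175) (tt N83817 D186427) (tt N26018 (iv6 D88793)) (tt N83818 D186428))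
theorem Q49374 : ∀ i, i < 49374 → P i := stepQ 49373 Q49373 (allL N49373 (tt N51581 (iv1 F291643)) (tt N26019 (iv0 D88794)) (tt N51578 F377608) (tt N69485 (iv3 F374372)) (tt N69496 (iv4 F374373)) (tt N83819 D186432) (tt N69484 (iv6 F374371)) (tt N51579 (iv7 F377610)))
theorem Q49375 : ∀ i, i < 49375 → P i := stepQ 49374 Q49374 (allL N49374 (tt N26019 (iv1 D88795)) (tt N51581 (iv0 F291642)) (tt N51579 (iv2 F377609)) (tt N83820 D186435) (tt N81584 (iv4 F374375)) (tt N83821 D186437) (tt N83822 D186438) (tt N51578 (iv7 F377607)))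
theorem Q49376 : ∀ i, i < 49376 → P i := stepQ 49375 Q49375 (allL N49375 (tt N51579 (iv1 F291640)) (tt N51578 (iv0 F291639)) (tt N51581 (iv2 F291644)) (tt N83801 (iv3 F289177)) (tt N83818 (iv4 F289223)) (tt N53850 (iv5 F154821)) (tt N51595 (iv6 F291657)) (tt N26019 (iv7 D88796)))
theorem Q49377 : ∀ i, i < 49377 → P i := stepQ 49376 Q49376 (allL N49376 (tt N51136 (iv1 F295338)) (tt N83823 D186440) (tt N51895 (iv2 F147418)) (tt N26022 F136176) (tt N27808 F136177) (tt N83824 D186441) (tt N26020 (iv6 D88797)) (tt N50855 (iv7 F294800)))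
theorem Q49378 : ∀ i, i < 49378 → P i := stepQ 49377 Q49377 (allL N49377 (tt N82846 F284599) (tt N49450 F157238) (tt N50858 (iv2 F294598)) (tt N51843 (iv3 F147312)) (tt N26022 F136178) (tt N83825 D186443) (tt N26021 (iv6 D88798)) (tt N50856 (iv7 F294805)))
theorem Q49379 : ∀ i, i < 49379 → P i := stepQ 49378 Q49378 (allL N49378 (tt N50595 F295169) (tt N26470 F295170) (tt N50594 (iv2 F294817)) (tt N83824 (iv3 F289241)) (tt N83826 D186444) (tt N26022 (iv5 D88801)) (tt N57439 (iv6 F309781)) (tt N50593 (iv7 F294807)))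
theorem Q49380 : ∀ i, i < 49380 → P i := stepQ 49379 Q49379 (allL N49379 (tt N27209 (iv1 F136183)) (tt N26023 (iv0 D88803)) (tt N26133 (iv2 F136182)) (tt N26151 F136181) (tt N26080 F136180) (tt N46741 F136179) (tt N77545 (iv6 F306703)) (tt N28128 F136184))
theorem Q49381 : ∀ i, i < 49381 → P i := stepQ 49380 Q49380 (allL N49380 (tt N82798 (iv1 F294955)) (tt N83827 D186448) (tt N51278 (iv2 F144661)) (tt N26025 F136185) (tt N27212 F136186) (tt N83828 D186449) (tt N26023 (iv6 D88804)) (tt N82794 (iv7 F294972)))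
theorem Q49382 : ∀ i, i < 49382 → P i := stepQ 49381 Q49381 (allL N49381 (tt N52911 F157588) (tt N52917 F157589) (tt N52901 (iv2 F151804)) (tt N49435 (iv3 F136427)) (tt N26025 F136187) (tt N72043 (iv5 F356325)) (tt N26024 (iv6 D88805)) (tt N52916 F157590))
theorem Q49383 : ∀ i, i < 49383 → P i := stepQ 49382 Q49382 (allL N49382 (tt N53047 F285544) (tt N48630 F294437) (tt N72049 (iv2 F357348)) (tt N83828 (iv3 F289262)) (tt N72017 (iv4 F356318)) (tt N26025 (iv5 D88808)) (tt N81367 (iv6 F274738)) (tt N72053 (iv7 F356332)))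
theorem Q49384 : ∀ i, i < 49384 → P i := stepQ 49383 Q49383 (allL N49383 (tt N26032 (iv1 F136195)) (tt N26026 (iv0 D88810)) (tt N26029 F147452) (tt N77565 (iv3 F337219)) (tt N52858 (iv4 F151729)) (tt N83829 D186456) (tt N83830 D186457) (tt N26030 F147453))
theorem Q49385 : ∀ i, i < 49385 → P i := stepQ 49384 Q49384 (allL N49384 (tt N26026 (iv1 D88811)) (tt N26032 F136188) (tt N26030 F147450) (tt N51916 (iv3 F147449)) (tt N82843 (iv4 F349053)) (tt N83831 D186459) (tt N50849 (iv6 F292924)) (tt N26029 F147451))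
theorem Q49386 : ∀ i, i < 49386 → P i := stepQ 49385 Q49385 (allL N49385 (tt N76301 (iv1 F356340)) (tt N53351 (iv0 F153396)) (tt N26031 F136189) (tt N26157 F136190) (tt N34000 (iv4 F309259)) (tt N26026 (iv5 D88812)) (tt N33999 F307262) (tt N61541 (iv7 F309265)))
theorem Q49387 : ∀ i, i < 49387 → P i := stepQ 49386 Q49386 (allL N49386 (tt N26030 (iv1 F136196)) (tt N26029 F136197) (tt N26032 F136191) (tt N26158 F136192) (tt N49386 F136193) (tt N61541 (iv5 F309264)) (tt N48536 F136194) (tt N26026 (iv7 D88813)))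
theorem Q49388 : ∀ i, i < 49388 → P i := stepQ 49387 Q49387 (allL N49387 (tt N52574 (iv1 F149984)) (tt N52575 F149991) (tt N63018 (iv2 F307857)) (tt N42348 F136198) (tt N78932 (iv4 F251428)) (tt N26027 (iv5 D88814)) (tt N43906 (iv6 F305326)) (tt N53928 (iv7 F155034)))
theorem Q49389 : ∀ i, i < 49389 → P i := stepQ 49388 Q49388 (allL N49388 (tt N34503 (iv1 F301840)) (tt N26028 (iv0 D88816)) (tt N44558 (iv2 F301843)) (tt N34493 F299057) (tt N34834 F299058) (tt N43033 (iv5 F301845)) (tt N83832 D186472) (tt N44559 (iv7 F301847)))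
theorem Q49390 : ∀ i, i < 49390 → P i := stepQ 49389 Q49389 (allL N49389 (tt N26028 (iv1 D88817)) (tt N34503 (iv0 F301839)) (tt N44559 (iv2 F301846)) (tt N53698 F299882) (tt N34833 F299883) (tt N43032 (iv5 F302703)) (tt N43121 (iv6 F307263)) (tt N44558 (iv7 F301844)))
theorem Q49391 : ∀ i, i < 49391 → P i := stepQ 49390 Q49390 (allL N49390 (tt N44559 F302941) (tt N44558 (iv0 F305307)) (tt N34503 F302942) (tt N26036 F136202) (tt N34017 F302943) (tt N34001 (iv5 F305309)) (tt N53933 (iv6 F155042)) (tt N26028 (iv7 D88819)))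
theorem Q49392 : ∀ i, i < 49392 → P i := stepQ 49391 Q49391 (allL N49391 (tt N83833 D186482) (tt N82527 (iv0 F289544)) (tt N51912 (iv2 F147445)) (tt N26029 (iv3 D88821)) (tt N49895 F137892) (tt N83834 D186484) (tt N83835 D186485) (tt N51916 (iv7 F147448)))
theorem Q49393 : ∀ i, i < 49393 → P i := stepQ 49392 Q49392 (allL N49392 (tt N82844 (iv1 F335652)) (tt N46723 F335615) (tt N52858 F151730) (tt N51845 (iv3 F147315)) (tt N26029 (iv4 D88822)) (tt N83836 D186487) (tt N83837 D186488) (tt N82843 (iv7 F349054)))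
theorem Q49394 : ∀ i, i < 49394 → P i := stepQ 49393 Q49393 (allL N49393 (tt N83838 D186489) (tt N54722 F289292) (tt N83829 (iv2 F289289)) (tt N83834 (iv3 F289349)) (tt N83839 D186490) (tt N26029 (iv5 D88823)) (tt N83840 D186491) (tt N83831 (iv7 F289306)))
theorem Q49395 : ∀ i, i < 49395 → P i := stepQ 49394 Q49394 (allL N49394 (tt N48805 F289293) (tt N50046 (iv0 F291153)) (tt N83830 (iv2 F289294)) (tt N83835 (iv3 F289350)) (tt N83837 (iv4 F289354)) (tt N48816 F136204) (tt N26029 (iv6 D88824)) (tt N83841 D186493))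
theorem Q49396 : ∀ i, i < 49396 → P i := stepQ 49395 Q49395 (allL N49395 (tt N77545 (iv1 F306700)) (tt N77566 (iv0 F349327)) (tt N76297 (iv2 F356576)) (tt N26030 (iv3 D88826)) (tt N27215 F136206) (tt N77623 (iv5 F349346)) (tt N63275 (iv6 F335910)) (tt N77565 (iv7 F337221)))
theorem Q49397 : ∀ i, i < 49397 → P i := stepQ 49396 Q49396 (allL N49396 (tt N46723 F335616) (tt N82844 (iv0 F335651)) (tt N82843 (iv2 F349052)) (tt N49767 (iv3 F137203)) (tt N26030 (iv4 D88827)) (tt N81324 (iv5 F336793)) (tt N83842 D186500) (tt N52858 (iv7 F151728)))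
theorem Q49398 : ∀ i, i < 49398 → P i := stepQ 49397 Q49397 (allL N49397 (tt N54722 F288508) (tt N83838 F289357) (tt N83831 (iv2 F289305)) (tt N77623 (iv3 F349345)) (tt N83843 D186501) (tt N26030 (iv5 D88828)) (tt N77310 (iv6 F349067)) (tt N83829 (iv7 F289290)))
theorem Q49399 : ∀ i, i < 49399 → P i := stepQ 49398 Q49398 (allL N49398 (tt N50852 (iv1 F292706)) (tt N48743 F288510) (tt N50849 (iv2 F292922)) (tt N63275 (iv3 F335908)) (tt N83842 (iv4 F289386)) (tt N63274 (iv5 F352993)) (tt N26030 (iv6 D88829)) (tt N50850 (iv7 F292930)))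
theorem Q49400 : ∀ i, i < 49400 → P i := stepQ 49399 Q49399 (allL N49399 (tt N61541 (iv1 F309261)) (tt N26031 (iv0 D88830)) (tt N76301 (iv2 F356341)) (tt N78687 (iv3 F347296)) (tt N63260 (iv4 F349057)) (tt N53352 F289275) (tt N78685 (iv6 F347292)) (tt N53351 (iv7 F289276)))
theorem Q49401 : ∀ i, i < 49401 → P i := stepQ 49400 Q49400 (allL N49400 (tt N26031 (iv1 D88831)) (tt N61541 (iv0 F309260)) (tt N53351 (iv2 F153473)) (tt N77544 (iv3 F309300)) (tt N56310 (iv4 F309301)) (tt N53315 (iv5 F153326)) (tt N83844 D186510) (tt N76301 (iv7 F356344)))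
theorem Q49402 : ∀ i, i < 49402 → P i := stepQ 49401 Q49401 (allL N49401 (tt N53351 (iv1 F153398)) (tt N76301 (iv0 F356339)) (tt N61541 (iv2 F309262)) (tt N26044 F136207) (tt N43031 (iv4 F309294)) (tt N26032 F136208) (tt N83845 D186516) (tt N26031 (iv7 D88833)))
theorem Q49403 : ∀ i, i < 49403 → P i := stepQ 49402 Q49402 (allL N49402 (tt N43122 F319335) (tt N53241 F156369) (tt N26180 F156370) (tt N64419 F303371) (tt N80696 (iv4 F270624)) (tt N54284 (iv5 F156361)) (tt N26034 (iv6 D88842)) (tt N53945 F156393))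
theorem Q49404 : ∀ i, i < 49404 → P i := stepQ 49403 Q49403 (allL N49403 (tt N26035 (iv1 D88844)) (tt N26184 F136211) (tt N26182 F274784) (tt N35060 (iv3 F307498)) (tt N27786 (iv4 F307499)) (tt N28852 (iv5 F136212)) (tt N51300 (iv6 F307502)) (tt N26181 F274785))
theorem Q49405 : ∀ i, i < 49405 → P i := stepQ 49404 Q49404 (allL N49404 (tt N26182 (iv1 F136218)) (tt N26181 F136219) (tt N26184 F136215) (tt N34001 (iv3 F305308)) (tt N51941 (iv4 F306779)) (tt N26036 F136216) (tt N83846 D186534) (tt N26035 (iv7 D88846)))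
theorem Q49406 : ∀ i, i < 49406 → P i := stepQ 49405 Q49405 (allL N49405 (tt N26205 (iv1 F136220)) (tt N26037 (iv0 D88847)) (tt N26204 (iv2 F337262)) (tt N77566 (iv3 F349329)) (tt N76993 (iv4 F337263)) (tt N62777 (iv5 F337264)) (tt N76993 (iv6 F337265)) (tt N26134 (iv7 F337261)))
theorem Q49407 : ∀ i, i < 49407 → P i := stepQ 49406 Q49406 (allL N49406 (tt N26204 (iv1 F136226)) (tt N26134 F337225) (tt N26037 (iv2 D88849)) (tt N26190 F136221) (tt N48598 F136222) (tt N83847 D186542) (tt N83848 D186543) (tt N26205 F136223))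
theorem Q49408 : ∀ i, i < 49408 → P i := stepQ 49407 Q49407 (allL N49407 (tt N83849 D186544) (tt N83850 D186545) (tt N83847 (iv2 F289462)) (tt N26038 F136227) (tt N83851 D186546) (tt N26037 (iv5 D88850)) (tt N33735 F346066) (tt N26207 F136228))
theorem Q49409 : ∀ i, i < 49409 → P i := stepQ 49408 Q49408 (allL N49408 (tt N83852 D186548) (tt N83853 D186549) (tt N83848 (iv2 F289467)) (tt N26039 F136229) (tt N48600 F136230) (tt N28948 (iv5 F136231)) (tt N26037 (iv6 D88851)) (tt N51111 (iv7 F291496)))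
theorem Q49410 : ∀ i, i < 49410 → P i := stepQ 49409 Q49409 (allL N49409 (tt N49781 (iv1 F137235)) (tt N49783 (iv0 F137241)) (tt N26199 F136232) (tt N83854 D186551) (tt N26038 (iv4 D88852)) (tt N28334 F136234) (tt N83855 D186552) (tt N26210 F136233))
theorem Q49411 : ∀ i, i < 49411 → P i := stepQ 49410 Q49410 (allL N49410 (tt N83856 D186553) (tt N83857 D186554) (tt N26200 F136235) (tt N33735 F346063) (tt N83855 (iv4 F289483)) (tt N28950 F136236) (tt N26038 (iv6 D88853)) (tt N83858 D186555))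
theorem Q49412 : ∀ i, i < 49412 → P i := stepQ 49411 Q49411 (allL N49411 (tt N26040 (iv1 D88857)) (tt N26190 F136252) (tt N26189 F335725) (tt N83833 (iv3 F344214)) (tt N83859 D186562) (tt N54461 (iv5 F335751)) (tt N80678 (iv6 F335734)) (tt N26119 F335726))
theorem Q49413 : ∀ i, i < 49413 → P i := stepQ 49412 Q49412 (allL N49412 (tt N26119 F289522) (tt N26189 F136251) (tt N26040 (iv2 D88858)) (tt N26205 F136249) (tt N51832 (iv4 F147290)) (tt N83860 D186565) (tt N51103 (iv6 F294161)) (tt N26190 F136250))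
theorem Q49414 : ∀ i, i < 49414 → P i := stepQ 49413 Q49413 (allL N49413 (tt N83861 D186567) (tt N83862 D186568) (tt N83860 (iv2 F289502)) (tt N26041 F136254) (tt N83863 D186569) (tt N26040 (iv5 D88859)) (tt N59261 (iv6 F347689)) (tt N26192 F136255))
theorem Q49415 : ∀ i, i < 49415 → P i := stepQ 49414 Q49414 (allL N49414 (tt N49783 (iv1 F137242)) (tt N49781 (iv0 F137234)) (tt N26210 F136257) (tt N60163 (iv3 F352665)) (tt N26041 (iv4 D88861)) (tt N28331 F136258) (tt N83864 D186574) (tt N26199 F136259))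
theorem Q49416 : ∀ i, i < 49416 → P i := stepQ 49415 Q49415 (allL N49415 (tt N83865 D186575) (tt N64683 (iv0 F366861)) (tt N26211 F136260) (tt N59261 (iv3 F347688)) (tt N83864 (iv4 F367280)) (tt N51105 (iv5 F294169)) (tt N26041 (iv6 D88862)) (tt N83866 D186576))
theorem Q49417 : ∀ i, i < 49417 → P i := stepQ 49416 Q49416 (allL N49416 (tt N62777 (iv1 F337258)) (tt N62869 F337257) (tt N74992 F337253) (tt N26042 (iv3 D88864)) (tt N65096 (iv4 F337277)) (tt N49129 F136266) (tt N75169 F352607) (tt N26216 F136267))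
theorem Q49418 : ∀ i, i < 49418 → P i := stepQ 49417 Q49417 (allL N49417 (tt N49771 (iv1 F137216)) (tt N49447 (iv0 F136485)) (tt N26214 F136268) (tt N51805 (iv3 F339725)) (tt N26042 (iv4 D88865)) (tt N28329 F136269) (tt N83867 D186577) (tt N26217 F136270))
theorem Q49419 : ∀ i, i < 49419 → P i := stepQ 49418 Q49418 (allL N49418 (tt N83868 D186578) (tt N83869 D186579) (tt N26215 F136271) (tt N75169 (iv3 F352609)) (tt N83867 (iv4 F367292)) (tt N52154 (iv5 F147809)) (tt N26042 (iv6 D88866)) (tt N83870 D186580))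
theorem Q49420 : ∀ i, i < 49420 → P i := stepQ 49419 Q49419 (allL N49419 (tt N26223 (iv1 F136274)) (tt N26043 (iv0 D88867)) (tt N26219 (iv2 F136273)) (tt N55109 F353225) (tt N28033 F136272) (tt N28355 (iv5 F136276)) (tt N83871 D186581) (tt N26220 F136275))
theorem Q49421 : ∀ i, i < 49421 → P i := stepQ 49420 Q49420 (allL N49420 (tt N83872 D186582) (tt N83873 D186583) (tt N26224 F136279) (tt N83845 (iv3 F289402)) (tt N28929 F136280) (tt N83697 (iv5 F288565)) (tt N26044 (iv6 D88869)) (tt N83846 (iv7 F289455)))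
theorem Q49422 : ∀ i, i < 49422 → P i := stepQ 49421 Q49421 (allL N49421 (tt N26998 F136284) (tt N26294 F290829) (tt N27273 F136281) (tt N83874 D186584) (tt N26045 (iv4 D88870)) (tt N26886 F136283) (tt N26632 F290830) (tt N26270 F136282))
theorem Q49423 : ∀ i, i < 49423 → P i := stepQ 49422 Q49422 (allL N49422 (tt N26308 F136298) (tt N48769 F136302) (tt N48771 (iv2 F136301)) (tt N26047 (iv3 D88873)) (tt N26319 F136295) (tt N54718 (iv5 F157444)) (tt N28042 F136296) (tt N26062 F136297))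
theorem Q49424 : ∀ i, i < 49424 → P i := stepQ 49423 Q49423 (allL N49423 (tt N26274 (iv1 F136304)) (tt N26048 (iv0 D88874)) (tt N26273 (iv2 F136303)) (tt N83875 D186585) (tt N51485 (iv4 F145287)) (tt N73888 (iv5 F337214)) (tt N28149 (iv6 F136306)) (tt N26090 F136305))
theorem Q49425 : ∀ i, i < 49425 → P i := stepQ 49424 Q49424 (allL N49424 (tt N83876 D186586) (tt N83490 (iv0 F287621)) (tt N80623 (iv2 F364409)) (tt N26050 F136314) (tt N50750 (iv4 F142236)) (tt N83877 D186587) (tt N26048 (iv6 D88877)) (tt N51098 F291440))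
theorem Q49426 : ∀ i, i < 49426 → P i := stepQ 49425 Q49425 (allL N49425 (tt N54466 (iv1 F156967)) (tt N54472 (iv0 F156973)) (tt N26252 F136315) (tt N77550 (iv3 F353148)) (tt N26049 (iv4 D88878)) (tt N28337 F136317) (tt N83878 D186588) (tt N26277 F136316))
theorem Q49427 : ∀ i, i < 49427 → P i := stepQ 49426 Q49426 (allL N49426 (tt N83879 D186589) (tt N83880 D186590) (tt N26253 F136322) (tt N77555 F363032) (tt N83878 (iv4 F367340)) (tt N83881 D186591) (tt N26049 (iv6 D88879)) (tt N83882 D186592))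
theorem Q49428 : ∀ i, i < 49428 → P i := stepQ 49427 Q49427 (allL N49427 (tt N26050 (iv1 D88880)) (tt N26256 F136323) (tt N26254 F136327) (tt N83883 D186593) (tt N26812 (iv4 F290821)) (tt N50048 (iv5 F291162)) (tt N26625 (iv6 F291163)) (tt N26107 F136324))
theorem Q49429 : ∀ i, i < 49429 → P i := stepQ 49428 Q49428 (allL N49428 (tt N28197 F136329) (tt N28387 F136330) (tt N26255 F136328) (tt N83877 (iv3 F367331)) (tt N28952 (iv4 F136331)) (tt N26050 (iv5 D88881)) (tt N83881 (iv6 F367349)) (tt N28385 F136338))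
theorem Q49430 : ∀ i, i < 49430 → P i := stepQ 49429 Q49429 (allL N49429 (tt N54765 F157695) (tt N28165 (iv0 F136340)) (tt N83884 D186594) (tt N26051 (iv3 D88883)) (tt N83874 (iv4 F367317)) (tt N83885 D186595) (tt N26642 F292013) (tt N26281 F136339))
theorem Q49431 : ∀ i, i < 49431 → P i := stepQ 49430 Q49430 (allL N49430 (tt N28342 F136343) (tt N26506 F136344) (tt N26260 F136341) (tt N83885 (iv3 F367367)) (tt N28336 F136345) (tt N26051 (iv5 D88884)) (tt N83886 D186596) (tt N26282 F136342))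
theorem Q49432 : ∀ i, i < 49432 → P i := stepQ 49431 Q49431 (allL N49431 (tt N54472 (iv1 F156974)) (tt N54466 (iv0 F156966)) (tt N26277 F136362) (tt N83887 D186597) (tt N26053 (iv4 D88891)) (tt N28336 F136364) (tt N83888 D186598) (tt N26252 F136363))
theorem Q49433 : ∀ i, i < 49433 → P i := stepQ 49432 Q49432 (allL N49432 (tt N83889 D186599) (tt N83890 D186600) (tt N26278 F136365) (tt N31573 F335712) (tt N83888 (iv4 F367380)) (tt N31572 F335713) (tt N26053 (iv6 D88892)) (tt N59227 F335714))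
theorem Q49434 : ∀ i, i < 49434 → P i := stepQ 49433 Q49433 (allL N49433 (tt N51125 F335697) (tt N54670 F335698) (tt N64315 (iv2 F356405)) (tt N26054 (iv3 D88895)) (tt N49110 F136376) (tt N65011 F335699) (tt N26285 F136377) (tt N26259 F136378))
theorem Q49435 : ∀ i, i < 49435 → P i := stepQ 49434 Q49434 (allL N49434 (tt N26506 F136382) (tt N28342 F136383) (tt N26282 F136379) (tt N65011 (iv3 F357229)) (tt N28337 F136380) (tt N26054 (iv5 D88896)) (tt N83891 D186601) (tt N26260 F136381))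
theorem Q49436 : ∀ i, i < 49436 → P i := stepQ 49435 Q49435 (allL N49435 (tt N28094 F157572) (tt N26105 F157573) (tt N28020 F136426) (tt N49381 F136427) (tt N51481 (iv4 F145274)) (tt N83892 D186602) (tt N26056 (iv6 D88910)) (tt N28093 F157574))
theorem Q49437 : ∀ i, i < 49437 → P i := stepQ 49436 Q49436 (allL N49436 (tt N26067 F136431) (tt N28069 F136432) (tt N28017 F136428) (tt N46947 F136429) (tt N36559 F136433) (tt N26057 (iv5 D88911)) (tt N83893 D186603) (tt N28019 F136430))
theorem Q49438 : ∀ i, i < 49438 → P i := stepQ 49437 Q49437 (allL N49437 (tt N83894 D186604) (tt N83895 D186605) (tt N26059 F136436) (tt N28036 F136437) (tt N26815 F136438) (tt N83896 D186606) (tt N26058 (iv6 D88913)) (tt N83897 D186607))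
theorem Q49439 : ∀ i, i < 49439 → P i := stepQ 49438 Q49438 (allL N49438 (tt N83897 (iv1 F367441)) (tt N26059 (iv0 D88914)) (tt N83894 (iv2 F367426)) (tt N82612 (iv3 F283241)) (tt N78994 F251693) (tt N83898 D186608) (tt N83899 D186609) (tt N83895 (iv7 F367430)))
theorem Q49440 : ∀ i, i < 49440 → P i := stepQ 49439 Q49439 (allL N49439 (tt N26059 (iv1 D88915)) (tt N83897 F367440) (tt N83895 (iv2 F367433)) (tt N48686 F283528) (tt N79040 (iv4 F251975)) (tt N83900 D186610) (tt N83901 D186611) (tt N83894 (iv7 F367427)))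
theorem Q49441 : ∀ i, i < 49441 → P i := stepQ 49440 Q49440 (allL N49440 (tt N83902 D186612) (tt N83903 D186613) (tt N83896 (iv2 F367434)) (tt N26060 F136460) (tt N83904 D186614) (tt N26059 (iv5 D88916)) (tt N53538 (iv6 F153975)) (tt N83905 D186615))
theorem Q49442 : ∀ i, i < 49442 → P i := stepQ 49441 Q49441 (allL N49441 (tt N83895 (iv1 F367429)) (tt N83894 (iv0 F367428)) (tt N83897 (iv2 F367436)) (tt N26061 F136461) (tt N26818 F136462) (tt N83905 (iv5 F367448)) (tt N26246 F136463) (tt N26059 (iv7 D88917)))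
theorem Q49443 : ∀ i, i < 49443 → P i := stepQ 49442 Q49442 (allL N49442 (tt N49751 (iv1 F137142)) (tt N49754 (iv0 F137143)) (tt N28048 F136467) (tt N83906 D186616) (tt N26060 (iv4 D88919)) (tt N50907 F365792) (tt N53547 (iv6 F153983)) (tt N83907 D186617))
theorem Q49444 : ∀ i, i < 49444 → P i := stepQ 49443 Q49443 (allL N49443 (tt N28047 (iv1 F136470)) (tt N26501 (iv0 F291673)) (tt N28049 F136468) (tt N83905 (iv3 F367447)) (tt N83907 (iv4 F367450)) (tt N26061 F136469) (tt N83908 D186618) (tt N26060 (iv7 D88920)))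
theorem Q49445 : ∀ i, i < 49445 → P i := stepQ 49444 Q49444 (allL N49444 (tt N48771 (iv1 F136474)) (tt N26062 (iv0 D88921)) (tt N48769 F136476) (tt N26300 F136472) (tt N27769 F136473) (tt N75043 (iv5 F356598)) (tt N48619 (iv6 F136477)) (tt N26308 (iv7 F136475)))
theorem Q49446 : ∀ i, i < 49446 → P i := stepQ 49445 Q49445 (allL N49445 (tt N26062 (iv1 D88922)) (tt N48771 F136478) (tt N26308 (iv2 F136480)) (tt N48696 F344209) (tt N51878 (iv4 F147372)) (tt N75044 (iv5 F356589)) (tt N83909 D186619) (tt N48769 F136479))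
theorem Q49447 : ∀ i, i < 49447 → P i := stepQ 49446 Q49446 (allL N49446 (tt N52292 (iv1 F360635)) (tt N62864 (iv0 F360632)) (tt N48770 F136481) (tt N26063 F136482) (tt N64637 F347298) (tt N26062 (iv5 D88923)) (tt N53552 (iv6 F154002)) (tt N54718 (iv7 F157445)))
theorem Q49448 : ∀ i, i < 49448 → P i := stepQ 49447 Q49447 (allL N49447 (tt N49417 F136485) (tt N28889 F136486) (tt N28034 F136483) (tt N27400 F307544) (tt N26063 (iv4 D88924)) (tt N28967 F136484) (tt N27399 F307545) (tt N49718 (iv7 F137100)))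
theorem Q49449 : ∀ i, i < 49449 → P i := stepQ 49448 Q49448 (allL N49448 (tt N50061 F294623) (tt N27074 F294624) (tt N50063 (iv2 F294280)) (tt N48704 F136488) (tt N58484 (iv4 F326836)) (tt N26064 (iv5 D88926)) (tt N62418 F343170) (tt N50062 (iv7 F294279)))
theorem Q49450 : ∀ i, i < 49450 → P i := stepQ 49449 Q49449 (allL N49449 (tt N44390 (iv1 F329237)) (tt N50847 (iv0 F335660)) (tt N40134 (iv2 F329218)) (tt N48705 F136489) (tt N50434 (iv4 F343885)) (tt N40062 F328895) (tt N26064 (iv6 D88927)) (tt N40136 (iv7 F329217)))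
theorem Q49451 : ∀ i, i < 49451 → P i := stepQ 49450 Q49450 (allL N49450 (tt N49377 (iv1 F157238)) (tt N53170 (iv0 F152591)) (tt N48706 F136492) (tt N26065 (iv3 D88929)) (tt N48706 F136493) (tt N83910 D186620) (tt N72010 F356216) (tt N51126 (iv7 F295261)))
theorem Q49452 : ∀ i, i < 49452 → P i := stepQ 49451 Q49451 (allL N49451 (tt N27074 F294625) (tt N50061 F294626) (tt N50062 (iv2 F294277)) (tt N83910 (iv3 F367464)) (tt N83911 D186621) (tt N26065 (iv5 D88930)) (tt N82273 (iv6 F280003)) (tt N50063 (iv7 F294281)))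
theorem Q49453 : ∀ i, i < 49453 → P i := stepQ 49452 Q49452 (allL N49452 (tt N26259 F335667) (tt N64315 (iv0 F356402)) (tt N51125 (iv2 F295312)) (tt N72010 (iv3 F356213)) (tt N49777 F335668) (tt N53455 F290002) (tt N26065 (iv6 D88931)) (tt N54670 (iv7 F290005)))
theorem Q49454 : ∀ i, i < 49454 → P i := stepQ 49453 Q49453 (allL N49453 (tt N51127 (iv1 F295294)) (tt N26066 (iv0 D88932)) (tt N51129 (iv2 F294620)) (tt N48709 F284674) (tt N58221 (iv4 F326225)) (tt N26411 F294272) (tt N72965 F341408) (tt N51128 (iv7 F294614)))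
theorem Q49455 : ∀ i, i < 49455 → P i := stepQ 49454 Q49454 (allL N49454 (tt N26066 (iv1 D88933)) (tt N51127 (iv0 F295293)) (tt N51128 (iv2 F294612)) (tt N83912 D186622) (tt N58225 (iv4 F351113)) (tt N26412 F294275) (tt N83913 D186623) (tt N51129 (iv7 F294621)))
theorem Q49456 : ∀ i, i < 49456 → P i := stepQ 49455 Q49455 (allL N49455 (tt N58216 F327458) (tt N58218 F327459) (tt N31656 (iv2 F327966)) (tt N50588 F295142) (tt N26066 (iv4 D88934)) (tt N31596 F327460) (tt N65009 (iv6 F198881)) (tt N51130 F295144))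
theorem Q49457 : ∀ i, i < 49457 → P i := stepQ 49456 Q49456 (allL N49456 (tt N28019 (iv1 F136500)) (tt N28017 F136499) (tt N26067 (iv2 D88936)) (tt N28074 F136496) (tt N54119 (iv4 F156013)) (tt N26504 F136497) (tt N83914 D186624) (tt N28069 F136498))
theorem Q49458 : ∀ i, i < 49458 → P i := stepQ 49457 Q49457 (allL N49457 (tt N73955 F351746) (tt N83915 D186625) (tt N83914 (iv2 F367476)) (tt N26068 F136501) (tt N80532 (iv4 F268250)) (tt N83916 D186626) (tt N26067 (iv6 D88937)) (tt N83917 D186627))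
theorem Q49459 : ∀ i, i < 49459 → P i := stepQ 49458 Q49458 (allL N49458 (tt N83918 D186628) (tt N65024 F286960) (tt N28079 F136503) (tt N83916 (iv3 F367482)) (tt N54392 F156808) (tt N26068 (iv5 D88940)) (tt N26506 F136504) (tt N83919 D186629))
theorem Q49460 : ∀ i, i < 49460 → P i := stepQ 49459 Q49459 (allL N49459 (tt N28078 (iv1 F136509)) (tt N28077 F136510) (tt N28080 F136505) (tt N83917 (iv3 F367485)) (tt N46833 F136506) (tt N83919 (iv5 F367494)) (tt N28073 F136507) (tt N26068 (iv7 D88941)))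
theorem Q49461 : ∀ i, i < 49461 → P i := stepQ 49460 Q49460 (allL N49460 (tt N65171 F348272) (tt N68272 (iv0 F348273)) (tt N48774 F136515) (tt N26070 F136516) (tt N74529 (iv4 F348270)) (tt N83920 D186630) (tt N26069 (iv6 D88943)) (tt N75868 (iv7 F312629)))
theorem Q49462 : ∀ i, i < 49462 → P i := stepQ 49461 Q49461 (allL N49461 (tt N81845 F338082) (tt N81920 F338086) (tt N28072 F136518) (tt N83920 (iv3 F367499)) (tt N83921 D186631) (tt N26070 (iv5 D88946)) (tt N28197 F136519) (tt N81394 (iv7 F274897)))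
theorem Q49463 : ∀ i, i < 49463 → P i := stepQ 49462 Q49462 (allL N49462 (tt N67619 F317515) (tt N83893 (iv0 F367421)) (tt N80866 (iv2 F354646)) (tt N26071 (iv3 D88949)) (tt N38040 F317516) (tt N76504 F317517) (tt N80856 F357793) (tt N28173 F272712))
theorem Q49464 : ∀ i, i < 49464 → P i := stepQ 49463 Q49463 (allL N49463 (tt N81199 (iv1 F304508)) (tt N65362 F286912) (tt N28171 F272713) (tt N76504 (iv3 F354659)) (tt N70378 (iv4 F354660)) (tt N26071 (iv5 D88951)) (tt N83922 D186632) (tt N28175 F272714))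
theorem Q49465 : ∀ i, i < 49465 → P i := stepQ 49464 Q49464 (allL N49464 (tt N64894 F310433) (tt N45548 F310434) (tt N28172 F272715) (tt N80856 F310435) (tt N46839 (iv4 F155437)) (tt N28520 F136527) (tt N26071 (iv6 D88952)) (tt N64893 F310436))
theorem Q49466 : ∀ i, i < 49466 → P i := stepQ 49465 Q49465 (allL N49465 (tt N48551 (iv1 F233106)) (tt N65355 (iv0 F201012)) (tt N75863 F272716) (tt N26072 (iv3 D88954)) (tt N68481 (iv4 F342009)) (tt N83923 D186633) (tt N83924 D186634) (tt N28169 F272717))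
theorem Q49467 : ∀ i, i < 49467 → P i := stepQ 49466 Q49466 (allL N49466 (tt N65362 (iv1 F287033)) (tt N81199 (iv0 F304507)) (tt N28175 F272718) (tt N83923 (iv3 F367507)) (tt N70380 (iv4 F332680)) (tt N26072 (iv5 D88956)) (tt N50515 (iv6 F367221)) (tt N28171 F272719))
theorem Q49468 : ∀ i, i < 49468 → P i := stepQ 49467 Q49467 (allL N49467 (tt N64564 F337573) (tt N81416 F275099) (tt N28176 F272720) (tt N83924 (iv3 F367509)) (tt N46842 (iv4 F155440)) (tt N83925 D186635) (tt N26072 (iv6 D88957)) (tt N82290 (iv7 F344110)))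
theorem Q49469 : ∀ i, i < 49469 → P i := stepQ 49468 Q49468 (allL N49468 (tt N28179 (iv1 F136529)) (tt N26073 (iv0 D88958)) (tt N28177 F275019) (tt N70538 (iv3 F366173)) (tt N51131 (iv4 F295425)) (tt N53567 F275020) (tt N83926 D186636) (tt N28178 F275021))
theorem Q49470 : ∀ i, i < 49470 → P i := stepQ 49469 Q49469 (allL N49469 (tt N26073 (iv1 D88959)) (tt N28179 F136530) (tt N28178 F275016) (tt N83927 D186637) (tt N51132 (iv4 F295428)) (tt N53185 (iv5 F152910)) (tt N83928 D186638) (tt N28177 F275017))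
theorem Q49471 : ∀ i, i < 49471 → P i := stepQ 49470 Q49470 (allL N49470 (tt N26074 (iv1 D88969)) (tt N28180 F136552) (tt N27188 (iv2 F136549)) (tt N48702 (iv3 F136550)) (tt N52105 (iv4 F147666)) (tt N83929 D186639) (tt N28100 (iv6 F136551)) (tt N28035 F136548))
theorem Q49472 : ∀ i, i < 49472 → P i := stepQ 49471 Q49471 (allL N49471 (tt N28035 (iv1 F136556)) (tt N27188 F136555) (tt N26074 (iv2 D88970)) (tt N28185 F136553) (tt N50675 F294589) (tt N83547 (iv5 F287767)) (tt N71955 F365470) (tt N28180 F136554))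
theorem Q49473 : ∀ i, i < 49473 → P i := stepQ 49472 Q49472 (allL N49472 (tt N50691 F294376) (tt N83532 F287769) (tt N83547 F287765) (tt N26075 F136558) (tt N83930 D186640) (tt N26074 (iv5 D88971)) (tt N83931 D186641) (tt N28181 F136559))
theorem Q49474 : ∀ i, i < 49474 → P i := stepQ 49473 Q49473 (allL N49473 (tt N55308 F352787) (tt N83932 D186642) (tt N71955 (iv2 F365468)) (tt N26076 F136560) (tt N49968 (iv4 F138102)) (tt N53440 (iv5 F153699)) (tt N26074 (iv6 D88972)) (tt N54695 (iv7 F157427)))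
theorem Q49475 : ∀ i, i < 49475 → P i := stepQ 49474 Q49474 (allL N49474 (tt N83933 D186643) (tt N83934 D186644) (tt N28188 F136563) (tt N83931 (iv3 F367526)) (tt N28183 F294988) (tt N53441 (iv5 F153702)) (tt N26075 (iv6 D88974)) (tt N83935 D186645))
theorem Q49476 : ∀ i, i < 49476 → P i := stepQ 49475 Q49475 (allL N49475 (tt N83760 (iv1 F367084)) (tt N83761 (iv0 F367083)) (tt N83936 D186646) (tt N26077 (iv3 D88975)) (tt N83937 D186647) (tt N26409 F291613) (tt N83938 D186648) (tt N28191 F136564))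
theorem Q49477 : ∀ i, i < 49477 → P i := stepQ 49476 Q49476 (allL N49476 (tt N50602 (iv1 F372994)) (tt N50606 (iv0 F372988)) (tt N28190 F136568) (tt N83938 (iv3 F367550)) (tt N28192 F294578) (tt N54728 (iv5 F157483)) (tt N26077 (iv6 D88977)) (tt N83939 D186651))
theorem Q49478 : ∀ i, i < 49478 → P i := stepQ 49477 Q49477 (allL N49477 (tt N48552 F140420) (tt N83929 (iv0 F367522)) (tt N83940 D186652) (tt N26078 (iv3 D88978)) (tt N83941 D186653) (tt N26410 F294040) (tt N83942 D186654) (tt N28189 F136570))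
theorem Q49479 : ∀ i, i < 49479 → P i := stepQ 49478 Q49478 (allL N49478 (tt N83943 D186655) (tt N83944 D186656) (tt N28192 F136574) (tt N83942 (iv3 F367565)) (tt N28190 F294986) (tt N28526 F136575) (tt N26078 (iv6 D88980)) (tt N83945 D186657))
theorem Q49480 : ∀ i, i < 49480 → P i := stepQ 49479 Q49479 (allL N49479 (tt N26393 F337229) (tt N50777 F337230) (tt N28129 F136650) (tt N28130 F136651) (tt N76988 (iv4 F241322)) (tt N63258 (iv5 F186609)) (tt N26081 (iv6 D89014)) (tt N50776 F349334))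
theorem Q49481 : ∀ i, i < 49481 → P i := stepQ 49480 Q49480 (allL N49480 (tt N51397 F144820) (tt N51396 F144818) (tt N26084 F136652) (tt N26416 F136653) (tt N26092 F136654) (tt N83946 D186658) (tt N26082 (iv6 D89015)) (tt N49358 (iv7 F294388)))
theorem Q49482 : ∀ i, i < 49482 → P i := stepQ 49481 Q49481 (allL N49481 (tt N49358 F295034) (tt N26084 (iv0 D89016)) (tt N51397 F344270) (tt N51469 (iv3 F145089)) (tt N82798 F295035) (tt N76473 (iv5 F375296)) (tt N83947 D186660) (tt N51396 (iv7 F344272)))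
theorem Q49483 : ∀ i, i < 49483 → P i := stepQ 49482 Q49482 (allL N49482 (tt N26084 (iv1 D89017)) (tt N49358 F295033) (tt N51396 F344273) (tt N28135 F152162) (tt N83827 F289261) (tt N83948 D186661) (tt N83949 D186662) (tt N51397 F344263))
theorem Q49484 : ∀ i, i < 49484 → P i := stepQ 49483 Q49483 (allL N49483 (tt N83950 D186663) (tt N83951 D186664) (tt N83946 (iv2 F367576)) (tt N26086 F136655) (tt N83952 D186665) (tt N26084 (iv5 D89018)) (tt N56090 (iv6 F162594)) (tt N51398 (iv7 F144827)))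
theorem Q49485 : ∀ i, i < 49485 → P i := stepQ 49484 Q49484 (allL N49484 (tt N56608 (iv1 F164422)) (tt N29986 F136657) (tt N50180 (iv2 F139173)) (tt N56090 (iv3 F162593)) (tt N83953 D186666) (tt N26085 (iv5 D89019)) (tt N26086 F136656) (tt N56609 (iv7 F164426)))
theorem Q49486 : ∀ i, i < 49486 → P i := stepQ 49485 Q49485 (allL N49485 (tt N27148 F136661) (tt N27151 F136662) (tt N50723 (iv2 F142142)) (tt N83954 D186667) (tt N26086 (iv4 D89021)) (tt N51366 (iv5 F144774)) (tt N83953 (iv6 F367593)) (tt N51399 (iv7 F144829)))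
theorem Q49487 : ∀ i, i < 49487 → P i := stepQ 49486 Q49486 (allL N49486 (tt N83955 D186668) (tt N83956 D186669) (tt N27415 F136663) (tt N26090 F136664) (tt N27420 F136665) (tt N76947 (iv5 F357338)) (tt N26089 (iv6 D89022)) (tt N83875 (iv7 F367324)))
theorem Q49488 : ∀ i, i < 49488 → P i := stepQ 49487 Q49487 (allL N49487 (tt N64427 (iv1 F306482)) (tt N29042 (iv0 F136668)) (tt N28150 F136667) (tt N76947 F304490) (tt N45312 F304491) (tt N26090 (iv5 D89023)) (tt N45311 F304492) (tt N73888 (iv7 F316951)))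
theorem Q49489 : ∀ i, i < 49489 → P i := stepQ 49488 Q49488 (allL N49488 (tt N26091 (iv1 D89024)) (tt N28149 F136669) (tt N26288 (iv2 F136671)) (tt N28053 F335701) (tt N50777 (iv4 F142399)) (tt N83957 D186670) (tt N83958 D186671) (tt N28147 F136670))
theorem Q49490 : ∀ i, i < 49490 → P i := stepQ 49489 Q49489 (allL N49489 (tt N50513 (iv1 F355739)) (tt N83959 D186672) (tt N28148 F136681) (tt N48545 F136682) (tt N83960 D186673) (tt N26091 (iv5 D89025)) (tt N53700 (iv6 F154470)) (tt N83495 (iv7 F287636)))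
theorem Q49491 : ∀ i, i < 49491 → P i := stepQ 49490 Q49490 (allL N49490 (tt N26288 (iv1 F136687)) (tt N28147 F136688) (tt N28149 F136683) (tt N48542 F136684) (tt N27107 F136685) (tt N83495 (iv5 F287635)) (tt N26273 F136686) (tt N26091 (iv7 D89026)))
theorem Q49492 : ∀ i, i < 49492 → P i := stepQ 49491 Q49491 (allL N49491 (tt N26092 (iv1 D89027)) (tt N26097 F136689) (tt N26095 (iv2 F136691)) (tt N48793 F136692) (tt N50714 F294940) (tt N54777 (iv5 F157818)) (tt N83876 (iv6 F367328)) (tt N26094 F136690))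
theorem Q49493 : ∀ i, i < 49493 → P i := stepQ 49492 Q49492 (allL N49492 (tt N48797 F157559) (tt N83961 D186674) (tt N26096 F136694) (tt N28058 F136695) (tt N83962 D186675) (tt N26092 (iv5 D89028)) (tt N64598 (iv6 F301618)) (tt N70173 (iv7 F364854)))
theorem Q49494 : ∀ i, i < 49494 → P i := stepQ 49493 Q49493 (allL N49493 (tt N26095 (iv1 F136699)) (tt N26094 F136700) (tt N26097 F136696) (tt N28059 F136697) (tt N49358 F294939) (tt N70173 F364853) (tt N26662 (iv6 F293982)) (tt N26092 (iv7 D89029)))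
theorem Q49495 : ∀ i, i < 49495 → P i := stepQ 49494 Q49494 (allL N49494 (tt N64441 (iv1 F301619)) (tt N26093 (iv0 D89030)) (tt N48783 F285185) (tt N77205 (iv3 F334421)) (tt N83963 D186676) (tt N83964 D186677) (tt N64566 F334422) (tt N64528 (iv7 F301614)))
theorem Q49496 : ∀ i, i < 49496 → P i := stepQ 49495 Q49495 (allL N49495 (tt N70374 (iv1 F332667)) (tt N70373 F365767) (tt N64598 (iv2 F301617)) (tt N26100 F136701) (tt N83620 F332657) (tt N26093 (iv5 D89032)) (tt N26096 F136702) (tt N70369 (iv7 F332665)))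
theorem Q49497 : ∀ i, i < 49497 → P i := stepQ 49496 Q49496 (allL N49496 (tt N64528 (iv1 F301613)) (tt N48783 (iv0 F233187)) (tt N64441 (iv2 F301620)) (tt N26101 F136703) (tt N77171 (iv4 F241794)) (tt N70369 F332662) (tt N28160 F136704) (tt N26093 (iv7 D89033)))
theorem Q49498 : ∀ i, i < 49498 → P i := stepQ 49497 Q49497 (allL N49497 (tt N48792 (iv1 F136707)) (tt N48682 (iv0 F157627)) (tt N48525 F294756) (tt N26094 (iv3 D89034)) (tt N48527 (iv4 F295221)) (tt N83965 D186678) (tt N83165 F294757) (tt N48793 F136706))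
theorem Q49499 : ∀ i, i < 49499 → P i := stepQ 49498 Q49498 (allL N49498 (tt N54763 F157686) (tt N54779 F157823) (tt N48789 F136709) (tt N83965 (iv3 F367644)) (tt N83966 D186679) (tt N26094 (iv5 D89035)) (tt N83967 D186680) (tt N54777 (iv7 F157819)))
theorem Q49500 : ∀ i, i < 49500 → P i := stepQ 49499 Q49499 (allL N49499 (tt N83958 F367615) (tt N26642 F292002) (tt N48790 F136710) (tt N83165 F366973) (tt N51523 (iv4 F145424)) (tt N53696 F154433) (tt N26094 (iv6 D89036)) (tt N53725 (iv7 F154510)))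
theorem Q49501 : ∀ i, i < 49501 → P i := stepQ 49500 Q49500 (allL N49500 (tt N54779 (iv1 F157824)) (tt N54763 F157820) (tt N54777 F157817) (tt N27338 F294941) (tt N83968 D186681) (tt N26095 (iv5 D89037)) (tt N83969 D186682) (tt N48789 F136712))
theorem Q49502 : ∀ i, i < 49502 → P i := stepQ 49501 Q49501 (allL N49501 (tt N51098 F365473) (tt N80623 (iv0 F356432)) (tt N83876 F367329) (tt N48550 F136713) (tt N50715 F293164) (tt N54821 F157956) (tt N26095 (iv6 D89038)) (tt N83490 (iv7 F287618)))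
theorem Q49503 : ∀ i, i < 49503 → P i := stepQ 49502 Q49502 (allL N49502 (tt N70173 F364856) (tt N26096 (iv0 D89039)) (tt N48797 (iv2 F136717)) (tt N83970 D186683) (tt N83971 D186684) (tt N29028 (iv5 F157558)) (tt N83972 D186685) (tt N83961 (iv7 F367625)))
theorem Q49504 : ∀ i, i < 49504 → P i := stepQ 49503 Q49503 (allL N49503 (tt N26096 (iv1 D89040)) (tt N70173 (iv0 F364855)) (tt N83961 (iv2 F367627)) (tt N27670 F293582) (tt N74405 (iv4 F363454)) (tt N27669 F293583) (tt N55726 F363447) (tt N48797 (iv7 F136716)))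
theorem Q49505 : ∀ i, i < 49505 → P i := stepQ 49504 Q49504 (allL N49504 (tt N83973 D186686) (tt N55724 (iv0 F347565)) (tt N83962 (iv2 F367629)) (tt N55743 (iv3 F347563)) (tt N26096 (iv4 D89041)) (tt N83974 D186687) (tt N83620 (iv6 F347564)) (tt N60933 F347562))
theorem Q49506 : ∀ i, i < 49506 → P i := stepQ 49505 Q49505 (allL N49505 (tt N83961 (iv1 F367624)) (tt N48797 (iv0 F143986)) (tt N70173 (iv2 F332670)) (tt N26111 F136718) (tt N60933 (iv4 F347561)) (tt N26097 F136719) (tt N70171 F332666) (tt N26096 (iv7 D89042)))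
theorem Q49507 : ∀ i, i < 49507 → P i := stepQ 49506 Q49506 (allL N49506 (tt N48778 (iv1 F233027)) (tt N48772 (iv0 F232485)) (tt N48776 F268267) (tt N26098 (iv3 D89044)) (tt N83975 D186688) (tt N83976 D186689) (tt N77267 (iv6 F346702)) (tt N28085 F268268))
theorem Q49508 : ∀ i, i < 49508 → P i := stepQ 49507 Q49507 (allL N49507 (tt N64604 F343478) (tt N83977 D186690) (tt N28083 F268271) (tt N83976 (iv3 F367684)) (tt N83978 D186691) (tt N26098 (iv5 D89046)) (tt N83979 D186692) (tt N28087 F268272))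
theorem Q49509 : ∀ i, i < 49509 → P i := stepQ 49508 Q49508 (allL N49508 (tt N45616 F343473) (tt N64563 F343474) (tt N28084 F268273) (tt N77267 (iv3 F346701)) (tt N46894 F184763) (tt N28431 F136722) (tt N26098 (iv6 D89047)) (tt N64524 F343488))
theorem Q49510 : ∀ i, i < 49510 → P i := stepQ 49509 Q49509 (allL N49509 (tt N83977 (iv1 F367687)) (tt N64604 F343479) (tt N28087 F268259) (tt N80851 F366746) (tt N83980 D186693) (tt N26099 (iv5 D89051)) (tt N68597 F354694) (tt N28083 F268260))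
theorem Q49511 : ∀ i, i < 49511 → P i := stepQ 49510 Q49510 (allL N49510 (tt N28092 (iv1 F136729)) (tt N26100 (iv0 D89053)) (tt N28089 F272841) (tt N83981 D186694) (tt N54266 (iv4 F272844)) (tt N53744 F272842) (tt N83982 D186695) (tt N28090 F272843))
theorem Q49512 : ∀ i, i < 49512 → P i := stepQ 49511 Q49511 (allL N49511 (tt N26100 (iv1 D89054)) (tt N28092 F136724) (tt N28090 F272830) (tt N83983 D186696) (tt N54267 F184768) (tt N53208 (iv5 F153017)) (tt N83984 D186697) (tt N28089 F272831))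
theorem Q49513 : ∀ i, i < 49513 → P i := stepQ 49512 Q49512 (allL N49512 (tt N67335 (iv1 F361726)) (tt N67334 (iv0 F345244)) (tt N28091 F136725) (tt N83985 D186698) (tt N26100 (iv4 D89055)) (tt N83986 D186699) (tt N26110 F136726) (tt N67331 F361723))
theorem Q49514 : ∀ i, i < 49514 → P i := stepQ 49513 Q49513 (allL N49513 (tt N28090 (iv1 F136730)) (tt N28089 F136731) (tt N28092 F136727) (tt N70369 (iv3 F332663)) (tt N67331 (iv4 F361722)) (tt N26101 F136728) (tt N67319 (iv6 F332678)) (tt N26100 (iv7 D89056)))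
theorem Q49515 : ∀ i, i < 49515 → P i := stepQ 49514 Q49514 (allL N49514 (tt N48655 F295122) (tt N52312 F295123) (tt N48779 F136732) (tt N26103 F136733) (tt N83987 D186700) (tt N26102 (iv5 D89057)) (tt N83988 D186701) (tt N28102 F136734))
theorem Q49516 : ∀ i, i < 49516 → P i := stepQ 49515 Q49515 (allL N49515 (tt N48614 F136738) (tt N55306 F352760) (tt N48780 F136735) (tt N26104 F136736) (tt N27518 F136737) (tt N53223 (iv5 F153051)) (tt N26102 (iv6 D89058)) (tt N53794 (iv7 F154634)))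
theorem Q49517 : ∀ i, i < 49517 → P i := stepQ 49516 Q49516 (allL N49516 (tt N28898 F136741) (tt N52168 (iv0 F147841)) (tt N28098 F136739) (tt N83989 D186702) (tt N26103 (iv4 D89059)) (tt N49528 (iv5 F136769)) (tt N83990 D186703) (tt N28104 F136740))
theorem Q49518 : ∀ i, i < 49518 → P i := stepQ 49517 Q49517 (allL N49517 (tt N83991 D186704) (tt N83992 D186705) (tt N28099 F136742) (tt N83988 (iv3 F367727)) (tt N83990 (iv4 F367731)) (tt N53224 (iv5 F153055)) (tt N26103 (iv6 D89060)) (tt N83993 D186706))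
theorem Q49519 : ∀ i, i < 49519 → P i := stepQ 49518 Q49518 (allL N49518 (tt N26105 (iv1 D89062)) (tt N28094 F136748) (tt N28093 F145420) (tt N48792 F151965) (tt N79034 (iv4 F251928)) (tt N83994 D186707) (tt N28184 F157614) (tt N28020 F157615))
theorem Q49520 : ∀ i, i < 49520 → P i := stepQ 49519 Q49519 (allL N49519 (tt N28020 F157610) (tt N28093 F136747) (tt N26105 (iv2 D89063)) (tt N28101 F136744) (tt N27178 F136745) (tt N83995 D186708) (tt N83996 D186709) (tt N28094 F136746))
theorem Q49521 : ∀ i, i < 49521 → P i := stepQ 49520 Q49520 (allL N49520 (tt N83997 D186710) (tt N83998 D186711) (tt N83995 (iv2 F367754)) (tt N26106 F136751) (tt N83999 D186712) (tt N26105 (iv5 D89064)) (tt N84000 D186713) (tt N28095 F136752))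
theorem Q49522 : ∀ i, i < 49522 → P i := stepQ 49521 Q49521 (allL N49521 (tt N84001 D186714) (tt N84002 D186715) (tt N83996 (iv2 F367760)) (tt N26107 F136753) (tt N27180 F136754) (tt N54809 (iv5 F157904)) (tt N26105 (iv6 D89065)) (tt N83883 (iv7 F367358)))
theorem Q49523 : ∀ i, i < 49523 → P i := stepQ 49522 Q49522 (allL N49522 (tt N52168 (iv1 F147842)) (tt N28898 F136757) (tt N28104 F136755) (tt N84003 D186716) (tt N26106 (iv4 D89066)) (tt N49525 (iv5 F136763)) (tt N84004 D186717) (tt N28098 F136756))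
theorem Q49524 : ∀ i, i < 49524 → P i := stepQ 49523 Q49523 (allL N49523 (tt N84005 D186718) (tt N84006 D186719) (tt N28105 F136758) (tt N84000 (iv3 F367772)) (tt N84004 (iv4 F367778)) (tt N54811 (iv5 F157910)) (tt N26106 (iv6 D89067)) (tt N84007 D186720))
theorem Q49525 : ∀ i, i < 49525 → P i := stepQ 49524 Q49524 (allL N49524 (tt N48633 F295109) (tt N48773 (iv0 F151752)) (tt N48781 F136897) (tt N26108 (iv3 D89068)) (tt N84008 D186721) (tt N27674 F295064) (tt N84009 D186722) (tt N28111 F136760))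
theorem Q49526 : ∀ i, i < 49526 → P i := stepQ 49525 Q49525 (allL N49525 (tt N49602 (iv1 F136902)) (tt N46805 F136764) (tt N28108 F136761) (tt N84010 D186723) (tt N26108 (iv4 D89069)) (tt N49522 F136763) (tt N84011 D186724) (tt N28112 F136762))
theorem Q49527 : ∀ i, i < 49527 → P i := stepQ 49526 Q49526 (allL N49526 (tt N84012 D186725) (tt N84013 D186726) (tt N28110 F136765) (tt N84009 (iv3 F367788)) (tt N84011 (iv4 F367792)) (tt N84014 D186727) (tt N26108 (iv6 D89070)) (tt N84015 D186728))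
theorem Q49528 : ∀ i, i < 49528 → P i := stepQ 49527 Q49527 (allL N49527 (tt N83892 F367416) (tt N83994 (iv0 F367751)) (tt N84016 D186729) (tt N26109 (iv3 D89071)) (tt N84017 D186730) (tt N28437 F136766) (tt N84018 D186731) (tt N28107 F136767))
theorem Q49529 : ∀ i, i < 49529 → P i := stepQ 49528 Q49528 (allL N49528 (tt N46805 F136771) (tt N49602 F136901) (tt N28112 F136768) (tt N84019 D186732) (tt N26109 (iv4 D89072)) (tt N49516 F136769) (tt N84020 D186733) (tt N28108 F136770))
theorem Q49530 : ∀ i, i < 49530 → P i := stepQ 49529 Q49529 (allL N49529 (tt N55727 F367826) (tt N60648 F360364) (tt N28114 F136772) (tt N84018 (iv3 F367818)) (tt N84020 (iv4 F367823)) (tt N28440 F136773) (tt N26109 (iv6 D89073)) (tt N60653 (iv7 F383746)))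
theorem Q49531 : ∀ i, i < 49531 → P i := stepQ 49530 Q49530 (allL N49530 (tt N28119 (iv1 F136775)) (tt N26110 (iv0 D89074)) (tt N28115 (iv2 F136776)) (tt N84021 D186735) (tt N26147 F136774) (tt N49535 (iv5 F136794)) (tt N84022 D186736) (tt N28116 (iv7 F136777)))
theorem Q49532 : ∀ i, i < 49532 → P i := stepQ 49531 Q49531 (allL N49531 (tt N26110 (iv1 D89075)) (tt N28119 F136778) (tt N28116 (iv2 F136782)) (tt N84023 D186737) (tt N26148 F136780) (tt N27573 F136781) (tt N55747 (iv6 F345754)) (tt N28115 F136779))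
theorem Q49533 : ∀ i, i < 49533 → P i := stepQ 49532 Q49532 (allL N49532 (tt N60665 F332868) (tt N36270 F332869) (tt N36819 F327324) (tt N26110 (iv3 D89076)) (tt N55743 (iv4 F342966)) (tt N35628 F327325) (tt N83985 (iv6 F367717)) (tt N53030 F152024))
theorem Q49534 : ∀ i, i < 49534 → P i := stepQ 49533 Q49533 (allL N49533 (tt N82752 (iv1 F335417)) (tt N40961 F334886) (tt N48804 F136787) (tt N26113 F136788) (tt N84024 D186738) (tt N26112 (iv5 D89080)) (tt N84025 D186739) (tt N28121 F136789))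
theorem Q49535 : ∀ i, i < 49535 → P i := stepQ 49534 Q49534 (allL N49534 (tt N83841 (iv1 F289370)) (tt N83830 F289297) (tt N48805 F136790) (tt N26114 F136791) (tt N49534 F136792) (tt N54593 (iv5 F157123)) (tt N26112 (iv6 D89081)) (tt N50046 F291340))
theorem Q49536 : ∀ i, i < 49536 → P i := stepQ 49535 Q49535 (allL N49535 (tt N52156 (iv1 F147814)) (tt N52155 F147812) (tt N27580 F136793) (tt N84026 D186740) (tt N26113 (iv4 D89082)) (tt N49530 F136794) (tt N84027 D186741) (tt N28123 F136795))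
theorem Q49537 : ∀ i, i < 49537 → P i := stepQ 49536 Q49536 (allL N49536 (tt N84028 D186742) (tt N84029 D186743) (tt N27581 F136796) (tt N84025 (iv3 F367845)) (tt N84027 (iv4 F367856)) (tt N54595 (iv5 F157128)) (tt N26113 (iv6 D89083)) (tt N84030 D186744))
theorem Q49538 : ∀ i, i < 49538 → P i := stepQ 49537 Q49537 (allL N49537 (tt N46066 F136799) (tt N49656 F306524) (tt N42595 F136797) (tt N49655 (iv3 F307540)) (tt N34863 F136798) (tt N26115 (iv5 D89084)) (tt N84031 D186745) (tt N49655 (iv7 F307543)))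
theorem Q49539 : ∀ i, i < 49539 → P i := stepQ 49538 Q49538 (allL N49538 (tt N52537 F353209) (tt N52510 F353210) (tt N52321 (iv2 F148679)) (tt N80674 (iv3 F270402)) (tt N26116 F136800) (tt N84032 D186746) (tt N26115 (iv6 D89085)) (tt N84033 D186747))
theorem Q49540 : ∀ i, i < 49540 → P i := stepQ 49539 Q49539 (allL N49539 (tt N80678 (iv1 F270423)) (tt N26116 (iv0 D89086)) (tt N26226 F335741) (tt N76099 F335742) (tt N27789 F335743) (tt N84034 D186748) (tt N81495 (iv6 F335748)) (tt N80676 F335744))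
theorem Q49541 : ∀ i, i < 49541 → P i := stepQ 49540 Q49540 (allL N49540 (tt N84035 D186749) (tt N54592 (iv0 F289696)) (tt N80677 (iv2 F270418)) (tt N52805 (iv3 F151423)) (tt N84036 D186750) (tt N26116 (iv5 D89088)) (tt N52804 (iv6 F151418)) (tt N84037 D186751))
theorem Q49542 : ∀ i, i < 49542 → P i := stepQ 49541 Q49541 (allL N49541 (tt N80676 (iv1 F270417)) (tt N26226 (iv0 F289551)) (tt N80678 (iv2 F270419)) (tt N48578 F289542) (tt N84033 (iv4 F367873)) (tt N84037 (iv5 F367881)) (tt N26189 F289531) (tt N26116 (iv7 D89089)))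
theorem Q49543 : ∀ i, i < 49543 → P i := stepQ 49542 Q49542 (allL N49542 (tt N51912 F289523) (tt N51916 F289524) (tt N82527 (iv2 F281614)) (tt N26119 F136801) (tt N48750 F136802) (tt N84038 D186752) (tt N26117 (iv6 D89090)) (tt N83833 F344216))
theorem Q49544 : ∀ i, i < 49544 → P i := stepQ 49543 Q49543 (allL N49543 (tt N49656 F306523) (tt N46066 F136806) (tt N49655 (iv2 F307539)) (tt N27366 F136803) (tt N45270 F136804) (tt N26118 (iv5 D89091)) (tt N84039 D186753) (tt N42595 F136805))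
theorem Q49545 : ∀ i, i < 49545 → P i := stepQ 49544 Q49544 (allL N49544 (tt N84040 D186754) (tt N79014 F289525) (tt N80674 (iv2 F270401)) (tt N27367 F136807) (tt N26119 F136808) (tt N84041 D186755) (tt N26118 (iv6 D89092)) (tt N83859 F364381))
theorem Q49546 : ∀ i, i < 49546 → P i := stepQ 49545 Q49545 (allL N49545 (tt N26213 F289945) (tt N54448 F289946) (tt N35122 F303372) (tt N84038 (iv3 F367884)) (tt N32630 F303373) (tt N26119 (iv5 D89095)) (tt N32629 F303374) (tt N54461 F335753))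
theorem Q49547 : ∀ i, i < 49547 → P i := stepQ 49546 Q49546 (allL N49546 (tt N47492 (iv1 F155433)) (tt N46681 (iv0 F155430)) (tt N26125 F136809) (tt N28777 F136810) (tt N63533 (iv4 F187916)) (tt N84042 D186756) (tt N26120 (iv6 D89097)) (tt N47494 (iv7 F155175)))
theorem Q49548 : ∀ i, i < 49548 → P i := stepQ 49547 Q49547 (allL N49547 (tt N51144 F295262) (tt N51143 F295263) (tt N26128 F136812) (tt N51156 (iv3 F295437)) (tt N84043 D186757) (tt N26121 (iv5 D89100)) (tt N84042 (iv6 F367896)) (tt N51139 F295264))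
theorem Q49549 : ∀ i, i < 49549 → P i := stepQ 49548 Q49548 (allL N49548 (tt N34972 (iv1 F136819)) (tt N47269 F136818) (tt N51710 (iv2 F147098)) (tt N75574 (iv3 F309428)) (tt N26122 (iv4 D89102)) (tt N34955 F136817) (tt N83890 F367406) (tt N51645 (iv7 F146964)))
theorem Q49550 : ∀ i, i < 49550 → P i := stepQ 49549 Q49549 (allL N49549 (tt N49709 F352644) (tt N84044 D186758) (tt N51711 (iv2 F147102)) (tt N27610 F136820) (tt N83890 (iv4 F367408)) (tt N84045 D186759) (tt N26122 (iv6 D89103)) (tt N84046 D186760))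
theorem Q49551 : ∀ i, i < 49551 → P i := stepQ 49550 Q49550 (allL N49550 (tt N83682 F294894) (tt N68390 (iv0 F357561)) (tt N51847 (iv2 F147337)) (tt N27754 F136821) (tt N84047 D186761) (tt N26123 (iv5 D89105)) (tt N84045 (iv6 F367905)) (tt N51142 F294895))
theorem Q49552 : ∀ i, i < 49552 → P i := stepQ 49551 Q49551 (allL N49551 (tt N28849 F312002) (tt N42563 F154835) (tt N28568 F136822) (tt N78303 (iv3 F305577)) (tt N46379 F136823) (tt N84048 D186762) (tt N26124 (iv6 D89106)) (tt N81378 (iv7 F348280)))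
theorem Q49553 : ∀ i, i < 49553 → P i := stepQ 49552 Q49552 (allL N49552 (tt N26125 (iv1 D89108)) (tt N47494 F155176) (tt N46681 (iv2 F155177)) (tt N69616 (iv3 F306373)) (tt N47008 F155178) (tt N84049 D186763) (tt N84050 D186764) (tt N47492 F155173))
theorem Q49554 : ∀ i, i < 49554 → P i := stepQ 49553 Q49553 (allL N49553 (tt N84051 D186765) (tt N84052 D186766) (tt N84042 (iv2 F367894)) (tt N26131 F136824) (tt N84053 D186767) (tt N26125 (iv5 D89109)) (tt N26128 F136825) (tt N84054 D186768))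
theorem Q49555 : ∀ i, i < 49555 → P i := stepQ 49554 Q49554 (allL N49554 (tt N46681 (iv1 F155432)) (tt N47492 F155434) (tt N47494 F155174) (tt N26132 F136826) (tt N80905 (iv4 F272217)) (tt N84054 (iv5 F367951)) (tt N28768 F136827) (tt N26125 (iv7 D89110)))
theorem Q49556 : ∀ i, i < 49556 → P i := stepQ 49555 Q49555 (allL N49555 (tt N27193 F136830) (tt N27946 (iv0 F136908)) (tt N27947 F270463) (tt N26126 (iv3 D89112)) (tt N46698 F136829) (tt N83375 F289707) (tt N40141 F329819) (tt N27948 F270464))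
theorem Q49557 : ∀ i, i < 49557 → P i := stepQ 49556 Q49556 (allL N49556 (tt N81559 (iv1 F364443)) (tt N52489 (iv0 F157254)) (tt N51137 (iv2 F294341)) (tt N80680 (iv3 F270429)) (tt N26126 (iv4 D89113)) (tt N80664 F364442) (tt N84055 D186769) (tt N51134 (iv7 F364441)))
theorem Q49558 : ∀ i, i < 49558 → P i := stepQ 49557 Q49557 (allL N49557 (tt N50527 (iv1 F343088)) (tt N50152 (iv0 F343086)) (tt N50532 (iv2 F356247)) (tt N83375 (iv3 F289710)) (tt N84056 D186770) (tt N26126 (iv5 D89114)) (tt N84057 D186771) (tt N50531 F356245))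
theorem Q49559 : ∀ i, i < 49559 → P i := stepQ 49558 Q49558 (allL N49558 (tt N51103 (iv1 F294158)) (tt N50848 (iv0 F292891)) (tt N51102 (iv2 F357531)) (tt N40141 F329813) (tt N84055 (iv4 F367955)) (tt N40140 F329814) (tt N26126 (iv6 D89115)) (tt N51101 (iv7 F345037)))
theorem Q49560 : ∀ i, i < 49560 → P i := stepQ 49559 Q49559 (allL N49559 (tt N51895 F157292) (tt N50855 (iv0 F294796)) (tt N83823 (iv2 F289240)) (tt N26127 (iv3 D89117)) (tt N52103 (iv4 F147664)) (tt N84058 D186772) (tt N81558 F335331) (tt N51136 (iv7 F295341)))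
theorem Q49561 : ∀ i, i < 49561 → P i := stepQ 49560 Q49560 (allL N49560 (tt N50152 (iv1 F356249)) (tt N50527 (iv0 F335332)) (tt N50531 F356243) (tt N84058 (iv3 F367959)) (tt N84059 D186773) (tt N26127 (iv5 D89119)) (tt N84060 D186774) (tt N50532 (iv7 F356246)))
theorem Q49562 : ∀ i, i < 49562 → P i := stepQ 49561 Q49561 (allL N49561 (tt N51139 F295265) (tt N26128 (iv0 D89121)) (tt N51144 (iv2 F357556)) (tt N84061 D186775) (tt N84062 D186776) (tt N26679 F357558) (tt N84063 D186777) (tt N51143 F357559))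
theorem Q49563 : ∀ i, i < 49563 → P i := stepQ 49562 Q49562 (allL N49562 (tt N26128 (iv1 D89122)) (tt N51139 F295266) (tt N51143 F357557) (tt N84064 D186778) (tt N84065 D186779) (tt N26680 F357554) (tt N84066 D186780) (tt N51144 F357555))
theorem Q49564 : ∀ i, i < 49564 → P i := stepQ 49563 Q49563 (allL N49563 (tt N82905 F284747) (tt N84067 D186781) (tt N84043 (iv2 F367899)) (tt N50498 F295267) (tt N26128 (iv4 D89123)) (tt N84068 D186782) (tt N84053 (iv6 F367946)) (tt N51145 F295268))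
theorem Q49565 : ∀ i, i < 49565 → P i := stepQ 49564 Q49564 (allL N49564 (tt N49650 F137016) (tt N84069 D186783) (tt N28782 F156432) (tt N76330 (iv3 F366586)) (tt N84070 D186784) (tt N26129 (iv5 D89128)) (tt N84071 D186785) (tt N28784 F156433))
theorem Q49566 : ∀ i, i < 49566 → P i := stepQ 49565 Q49565 (allL N49565 (tt N28856 F272016) (tt N43729 F311760) (tt N28783 F156427) (tt N76331 (iv3 F354643)) (tt N45553 F310376) (tt N28673 F136837) (tt N26129 (iv6 D89129)) (tt N81358 F310377))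
theorem Q49567 : ∀ i, i < 49567 → P i := stepQ 49566 Q49566 (allL N49566 (tt N84069 (iv1 F367981)) (tt N49650 F156469) (tt N28784 F156440) (tt N49029 F155421) (tt N84072 D186786) (tt N26130 (iv5 D89133)) (tt N50559 (iv6 F367120)) (tt N28782 F156441))
theorem Q49568 : ∀ i, i < 49568 → P i := stepQ 49567 Q49567 (allL N49567 (tt N28822 F156659) (tt N28310 F156668) (tt N28785 F156442) (tt N49030 F155422) (tt N78582 (iv4 F249607)) (tt N84073 D186787) (tt N26130 (iv6 D89134)) (tt N28820 F156443))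
theorem Q49569 : ∀ i, i < 49569 → P i := stepQ 49568 Q49568 (allL N49568 (tt N28788 (iv1 F136844)) (tt N26131 (iv0 D89135)) (tt N28786 F156879) (tt N43123 F319337) (tt N50590 (iv4 F352480)) (tt N43122 F319338) (tt N84074 D186788) (tt N28787 F156881))
theorem Q49570 : ∀ i, i < 49570 → P i := stepQ 49569 Q49569 (allL N49569 (tt N26131 (iv1 D89136)) (tt N28788 F136839) (tt N28787 F156876) (tt N49032 (iv3 F155507)) (tt N50591 (iv4 F352554)) (tt N53241 (iv5 F153173)) (tt N84075 D186789) (tt N28786 F156877))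
theorem Q49571 : ∀ i, i < 49571 → P i := stepQ 49570 Q49570 (allL N49570 (tt N28787 (iv1 F136845)) (tt N28786 F136846) (tt N28788 F136842) (tt N84054 (iv3 F367950)) (tt N50502 F295270) (tt N26132 F136843) (tt N51153 F295271) (tt N26131 (iv7 D89138)))
theorem Q49572 : ∀ i, i < 49572 → P i := stepQ 49571 Q49571 (allL N49571 (tt N48572 F337273) (tt N48538 F337274) (tt N48562 F136853) (tt N26136 F136854) (tt N79026 (iv4 F251900)) (tt N83336 F337275) (tt N26135 (iv6 D89151)) (tt N48571 F333364))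
theorem Q49573 : ∀ i, i < 49573 → P i := stepQ 49572 Q49572 (allL N49572 (tt N26136 (iv1 D89153)) (tt N76993 F241334) (tt N26229 F337270) (tt N80676 F337271) (tt N48696 F344208) (tt N84076 D186790) (tt N84077 D186791) (tt N76099 F337272))
theorem Q49574 : ∀ i, i < 49574 → P i := stepQ 49573 Q49573 (allL N49573 (tt N50557 (iv1 F344210)) (tt N84078 D186792) (tt N76992 (iv2 F241328)) (tt N83336 (iv3 F364161)) (tt N84079 D186793) (tt N26136 (iv5 D89154)) (tt N53999 (iv6 F155736)) (tt N84080 D186794))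
theorem Q49575 : ∀ i, i < 49575 → P i := stepQ 49574 Q49574 (allL N49574 (tt N26229 F337236) (tt N76099 F337237) (tt N76993 (iv2 F241330)) (tt N48571 F337238) (tt N26204 F337239) (tt N84080 (iv5 F368034)) (tt N26204 F337240) (tt N26136 (iv7 D89155)))
theorem Q49576 : ∀ i, i < 49576 → P i := stepQ 49575 Q49575 (allL N49575 (tt N26142 (iv1 F136860)) (tt N26137 (iv0 D89156)) (tt N26139 F344252) (tt N48563 (iv3 F150720)) (tt N50489 (iv4 F294779)) (tt N39678 F338481) (tt N54025 F155774) (tt N26140 F344253))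
theorem Q49577 : ∀ i, i < 49577 → P i := stepQ 49576 Q49576 (allL N49576 (tt N26137 (iv1 D89157)) (tt N26142 F136855) (tt N26140 F344260) (tt N83827 F289260) (tt N50488 (iv4 F294777)) (tt N39677 F344342) (tt N83852 (iv6 F346010)) (tt N26139 F344261))
theorem Q49578 : ∀ i, i < 49578 → P i := stepQ 49577 Q49577 (allL N49577 (tt N84081 D186795) (tt N71657 F350293) (tt N26141 F136856) (tt N80679 (iv3 F270425)) (tt N38897 F337842) (tt N26137 (iv5 D89158)) (tt N42536 F136857) (tt N38892 F337843))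
theorem Q49579 : ∀ i, i < 49579 → P i := stepQ 49578 Q49578 (allL N49578 (tt N26140 (iv1 F136861)) (tt N26139 F136862) (tt N26142 F136858) (tt N51140 (iv3 F294219)) (tt N48702 F136859) (tt N38892 F339502) (tt N50490 (iv6 F294780)) (tt N26137 (iv7 D89159)))
theorem Q49580 : ∀ i, i < 49580 → P i := stepQ 49579 Q49579 (allL N49579 (tt N70913 F338461) (tt N71496 F338465) (tt N42536 F136865) (tt N26145 F136866) (tt N38883 F332705) (tt N26138 (iv5 D89162)) (tt N26141 F136867) (tt N38875 F332706))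
theorem Q49581 : ∀ i, i < 49581 → P i := stepQ 49580 Q49580 (allL N49580 (tt N82794 (iv1 F294969)) (tt N51278 (iv0 F157630)) (tt N82798 F344265) (tt N26139 (iv3 D89165)) (tt N51397 F144819) (tt N84082 D186796) (tt N84083 D186797) (tt N83827 F344262))
theorem Q49582 : ∀ i, i < 49582 → P i := stepQ 49581 Q49581 (allL N49581 (tt N39171 F329363) (tt N39679 (iv0 F329582)) (tt N39678 F344340) (tt N84082 (iv3 F368041)) (tt N66395 F362656) (tt N26139 (iv5 D89166)) (tt N84084 D186798) (tt N39677 F344341))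
theorem Q49583 : ∀ i, i < 49583 → P i := stepQ 49582 Q49582 (allL N49582 (tt N84077 F368031) (tt N52164 F343883) (tt N54025 F344251) (tt N84083 (iv3 F368044)) (tt N51106 (iv4 F357581)) (tt N53991 F155703) (tt N26139 (iv6 D89167)) (tt N54021 (iv7 F344247)))
theorem Q49584 : ∀ i, i < 49584 → P i := stepQ 49583 Q49583 (allL N49583 (tt N39679 F338455) (tt N39171 F338456) (tt N39677 F344337) (tt N82768 F344338) (tt N66394 F344355) (tt N26140 (iv5 D89171)) (tt N84085 D186799) (tt N39678 F344339))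
theorem Q49585 : ∀ i, i < 49585 → P i := stepQ 49584 Q49584 (allL N49584 (tt N51111 F339531) (tt N83848 (iv0 F356792)) (tt N83852 F346012) (tt N82797 (iv3 F357606)) (tt N39685 F339532) (tt N54603 F338454) (tt N26140 (iv6 D89172)) (tt N83853 F357617))
theorem Q49586 : ∀ i, i < 49586 → P i := stepQ 49585 Q49585 (allL N49585 (tt N38892 F339519) (tt N26141 (iv0 D89173)) (tt N84081 F368037) (tt N84086 D186800) (tt N69227 F363996) (tt N28895 F338449) (tt N70061 (iv6 F338478)) (tt N71657 F350291))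
theorem Q49587 : ∀ i, i < 49587 → P i := stepQ 49586 Q49586 (allL N49586 (tt N26141 (iv1 D89174)) (tt N38892 F339516) (tt N71657 F350290) (tt N82799 (iv3 F348534)) (tt N84087 D186801) (tt N28896 F289984) (tt N70938 (iv6 F350296)) (tt N84081 (iv7 F368039)))
theorem Q49588 : ∀ i, i < 49588 → P i := stepQ 49587 Q49587 (allL N49587 (tt N38895 F339521) (tt N37126 F338306) (tt N38897 F339522) (tt N84088 D186802) (tt N26141 (iv4 D89175)) (tt N79431 (iv5 F338418)) (tt N38883 F339523) (tt N38884 F339524))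
theorem Q49589 : ∀ i, i < 49589 → P i := stepQ 49588 Q49588 (allL N49588 (tt N71657 F350292) (tt N84081 F368038) (tt N38892 F339503) (tt N26150 F136877) (tt N38884 (iv4 F339505)) (tt N26142 F136878) (tt N38876 F339504) (tt N26141 (iv7 D89176)))
theorem Q49590 : ∀ i, i < 49590 → P i := stepQ 49589 Q49589 (allL N49589 (tt N84089 D186803) (tt N84090 D186804) (tt N28770 F156756) (tt N43744 F306918) (tt N60635 (iv4 F352525)) (tt N26143 (iv5 D89180)) (tt N60634 F352523) (tt N28772 F156757))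
theorem Q49591 : ∀ i, i < 49591 → P i := stepQ 49590 Q49590 (allL N49590 (tt N28314 F156724) (tt N28833 (iv0 F156483)) (tt N28771 F156758) (tt N35083 F306919) (tt N45621 F306920) (tt N28623 F136880) (tt N26143 (iv6 D89181)) (tt N28831 F156759))
theorem Q49592 : ∀ i, i < 49592 → P i := stepQ 49591 Q49591 (allL N49591 (tt N28284 F348288) (tt N57451 F348289) (tt N35086 (iv2 F304958)) (tt N26144 (iv3 D89183)) (tt N43909 F304747) (tt N84091 D186805) (tt N35085 F304748) (tt N28769 F156745))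
theorem Q49593 : ∀ i, i < 49593 → P i := stepQ 49592 Q49592 (allL N49592 (tt N84090 (iv1 F368062)) (tt N84089 F368059) (tt N28772 F156748) (tt N84091 (iv3 F368069)) (tt N68633 (iv4 F352506)) (tt N26144 (iv5 D89185)) (tt N68631 F352505) (tt N28770 F156749))
theorem Q49594 : ∀ i, i < 49594 → P i := stepQ 49593 Q49593 (allL N49593 (tt N28776 (iv1 F136887)) (tt N26145 (iv0 D89187)) (tt N28773 F155797) (tt N49035 F156045) (tt N67335 F361727) (tt N54038 F155795) (tt N70908 (iv6 F345436)) (tt N28774 (iv7 F155796)))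
theorem Q49595 : ∀ i, i < 49595 → P i := stepQ 49594 Q49594 (allL N49594 (tt N26145 (iv1 D89188)) (tt N28776 F136882) (tt N28774 (iv2 F155798)) (tt N84092 D186806) (tt N67334 (iv4 F345246)) (tt N53271 (iv5 F153256)) (tt N78404 (iv6 F345249)) (tt N28773 F155819))
theorem Q49596 : ∀ i, i < 49596 → P i := stepQ 49595 Q49595 (allL N49595 (tt N52972 (iv1 F272847)) (tt N52976 (iv0 F184675)) (tt N28775 F136883) (tt N79743 (iv3 F342194)) (tt N26145 (iv4 D89189)) (tt N79742 F361241) (tt N26149 F136884) (tt N84093 D186807))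
theorem Q49597 : ∀ i, i < 49597 → P i := stepQ 49596 Q49596 (allL N49596 (tt N28774 (iv1 F136888)) (tt N28773 F136889) (tt N28776 F136885) (tt N38875 (iv3 F332697)) (tt N84093 (iv4 F368077)) (tt N26146 F136886) (tt N38873 F332696) (tt N26145 (iv7 D89190)))
theorem Q49598 : ∀ i, i < 49598 → P i := stepQ 49597 Q49597 (allL N49597 (tt N84094 D186808) (tt N70057 (iv0 F355351)) (tt N53048 (iv2 F152105)) (tt N29471 F294448) (tt N84022 (iv4 F367835)) (tt N55418 (iv5 F367111)) (tt N26147 (iv6 D89191)) (tt N84095 D186809))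
theorem Q49599 : ∀ i, i < 49599 → P i := stepQ 49598 Q49598 (allL N49598 (tt N72049 (iv1 F357347)) (tt N72053 (iv0 F356328)) (tt N48630 F294436) (tt N26148 (iv3 D89192)) (tt N84096 D186810) (tt N28458 F136890) (tt N72022 F350427) (tt N53047 (iv7 F152101)))
theorem Q49600 : ∀ i, i < 49600 → P i := stepQ 49599 Q49599 (allL N49599 (tt N71645 (iv1 F352446)) (tt N71634 F352448) (tt N48646 F295371) (tt N72022 F350426) (tt N55747 (iv4 F352451)) (tt N28461 F136891) (tt N26148 (iv6 D89193)) (tt N60651 (iv7 F352466)))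
theorem Q49601 : ∀ i, i < 49601 → P i := stepQ 49600 Q49600 (allL N49600 (tt N69174 F365892) (tt N84097 D186811) (tt N84098 D186812) (tt N26149 (iv3 D89194)) (tt N84088 (iv4 F368053)) (tt N84099 D186813) (tt N79743 (iv6 F361253)) (tt N36853 F361252))
theorem Q49602 : ∀ i, i < 49602 → P i := stepQ 49601 Q49601 (allL N49601 (tt N28112 F136894) (tt N28108 F136895) (tt N49602 (iv2 F136898)) (tt N84099 (iv3 F368097)) (tt N27035 F294225) (tt N26149 (iv5 D89195)) (tt N67439 (iv6 F347403)) (tt N46805 F136893))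
theorem Q49603 : ∀ i, i < 49603 → P i := stepQ 49602 Q49602 (allL N49602 (tt N49528 (iv1 F136901)) (tt N49525 F136902) (tt N49601 F136898) (tt N36853 F361235) (tt N26150 F136899) (tt N46805 F136900) (tt N36850 F361236) (tt N26149 (iv7 D89196)))
theorem Q49604 : ∀ i, i < 49604 → P i := stepQ 49603 Q49603 (allL N49603 (tt N67330 F332684) (tt N67327 F332685) (tt N51152 (iv2 F294226)) (tt N38876 F332686) (tt N36850 F332687) (tt N26707 (iv5 F294781)) (tt N26150 (iv6 D89197)) (tt N38873 F332688))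
theorem Q49605 : ∀ i, i < 49605 → P i := stepQ 49604 Q49604 (allL N49604 (tt N26160 F290312) (tt N84100 D186814) (tt N48561 F136903) (tt N77545 (iv3 F306701)) (tt N32847 F136904) (tt N64763 F343008) (tt N26151 (iv6 D89198)) (tt N84101 D186815))
theorem Q49606 : ∀ i, i < 49606 → P i := stepQ 49605 Q49605 (allL N49605 (tt N51160 (iv1 F294590)) (tt N51155 (iv0 F295434)) (tt N26153 F136905) (tt N27946 F136906) (tt N26416 F136907) (tt N84102 D186816) (tt N26152 (iv6 D89199)) (tt N49359 (iv7 F294389)))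
theorem Q49607 : ∀ i, i < 49607 → P i := stepQ 49606 Q49606 (allL N49606 (tt N49359 F295038) (tt N26153 (iv0 D89200)) (tt N51160 (iv2 F344288)) (tt N50489 (iv3 F294778)) (tt N84103 D186817) (tt N84104 D186818) (tt N84105 D186819) (tt N51155 (iv7 F344256)))
theorem Q49608 : ∀ i, i < 49608 → P i := stepQ 49607 Q49607 (allL N49607 (tt N26153 (iv1 D89201)) (tt N49359 F295037) (tt N51155 F344290) (tt N84106 D186820) (tt N51472 (iv4 F145092)) (tt N84107 D186821) (tt N84108 D186822) (tt N51160 F344289))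
theorem Q49609 : ∀ i, i < 49609 → P i := stepQ 49608 Q49608 (allL N49608 (tt N84109 D186823) (tt N84110 D186824) (tt N84102 (iv2 F368114)) (tt N26154 F136909) (tt N84111 D186825) (tt N26153 (iv5 D89202)) (tt N49027 F136910) (tt N51161 F295040))
theorem Q49610 : ∀ i, i < 49610 → P i := stepQ 49609 Q49609 (allL N49609 (tt N82638 (iv1 F283444)) (tt N82641 (iv0 F283451)) (tt N27954 F136911) (tt N84112 D186826) (tt N26154 (iv4 D89203)) (tt N50578 F295203) (tt N49033 F136912) (tt N51162 F295204))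
theorem Q49611 : ∀ i, i < 49611 → P i := stepQ 49610 Q49610 (allL N49610 (tt N82528 F335727) (tt N27945 F335728) (tt N64313 (iv2 F344212)) (tt N26155 (iv3 D89204)) (tt N26285 F136913) (tt N84113 D186827) (tt N49110 F136914) (tt N26163 F136915))
theorem Q49612 : ∀ i, i < 49612 → P i := stepQ 49611 Q49611 (allL N49611 (tt N26738 F136919) (tt N51678 F292052) (tt N26161 F136916) (tt N84113 (iv3 F368149)) (tt N84114 D186828) (tt N26155 (iv5 D89205)) (tt N49114 F136917) (tt N26164 F136918))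
theorem Q49613 : ∀ i, i < 49613 → P i := stepQ 49612 Q49612 (allL N49612 (tt N48561 F337267) (tt N84101 F368112) (tt N84100 (iv2 F368107)) (tt N26156 (iv3 D89206)) (tt N26395 F136920) (tt N84115 D186829) (tt N51113 (iv6 F294634)) (tt N26160 F136921))
theorem Q49614 : ∀ i, i < 49614 → P i := stepQ 49613 Q49613 (allL N49613 (tt N51678 F291987) (tt N26738 F136924) (tt N26164 F136922) (tt N84115 (iv3 F368158)) (tt N84116 D186830) (tt N26156 (iv5 D89207)) (tt N64685 (iv6 F336366)) (tt N26161 F136923))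
theorem Q49615 : ∀ i, i < 49615 → P i := stepQ 49614 Q49614 (allL N49614 (tt N52293 F293373) (tt N47915 F324804) (tt N26168 F136928) (tt N61005 F307557) (tt N26157 (iv4 D89209)) (tt N29400 F293374) (tt N35097 F307558) (tt N55545 F293375))
theorem Q49616 : ∀ i, i < 49616 → P i := stepQ 49615 Q49615 (allL N49615 (tt N26167 (iv1 F136931)) (tt N26166 F136932) (tt N26169 F136929) (tt N61541 (iv3 F309263)) (tt N55545 F291551) (tt N26158 F136930) (tt N43765 F307559) (tt N26157 (iv7 D89210)))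
theorem Q49617 : ∀ i, i < 49617 → P i := stepQ 49616 Q49616 (allL N49616 (tt N84100 (iv1 F368102)) (tt N26160 (iv0 D89230)) (tt N84101 (iv2 F368108)) (tt N26204 F137139) (tt N79004 (iv4 F251782)) (tt N84117 D186831) (tt N48571 F287407) (tt N48561 F337235))
theorem Q49618 : ∀ i, i < 49618 → P i := stepQ 49617 Q49617 (allL N49617 (tt N84101 (iv1 F368113)) (tt N48561 F337266) (tt N26160 (iv2 D89232)) (tt N64313 F344211) (tt N26418 F136951) (tt N84118 D186832) (tt N84119 D186833) (tt N84100 (iv7 F368103)))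
theorem Q49619 : ∀ i, i < 49619 → P i := stepQ 49618 Q49618 (allL N49618 (tt N84120 D186834) (tt N84121 D186835) (tt N84118 (iv2 F368172)) (tt N26161 F136952) (tt N79402 F339570) (tt N26160 (iv5 D89233)) (tt N84122 D186836) (tt N84115 (iv7 F368160)))
theorem Q49620 : ∀ i, i < 49620 → P i := stepQ 49619 Q49619 (allL N49619 (tt N82797 (iv1 F339555)) (tt N83326 (iv0 F287431)) (tt N84119 (iv2 F368176)) (tt N26162 F136953) (tt N50773 (iv4 F142391)) (tt N48827 (iv5 F136954)) (tt N26160 (iv6 D89234)) (tt N49099 (iv7 F136955)))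
theorem Q49621 : ∀ i, i < 49621 → P i := stepQ 49620 Q49620 (allL N49620 (tt N26164 (iv1 F136957)) (tt N26161 (iv0 D89235)) (tt N26738 (iv2 F136958)) (tt N83838 (iv3 F289358)) (tt N82013 F333968) (tt N26728 F136956) (tt N84123 D186837) (tt N51678 F292053))
theorem Q49622 : ∀ i, i < 49622 → P i := stepQ 49621 Q49621 (allL N49621 (tt N83127 (iv1 F286027)) (tt N84124 D186838) (tt N84114 (iv2 F368152)) (tt N80761 (iv3 F339571)) (tt N26161 (iv4 D89237)) (tt N52070 (iv5 F361222)) (tt N84125 D186839) (tt N84116 (iv7 F368165)))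
theorem Q49623 : ∀ i, i < 49623 → P i := stepQ 49622 Q49622 (allL N49622 (tt N77366 F357259) (tt N77363 (iv0 F353699)) (tt N49114 F136963) (tt N84122 (iv3 F368197)) (tt N84125 (iv4 F368207)) (tt N48829 F136964) (tt N26161 (iv6 D89238)) (tt N77322 (iv7 F336368)))
theorem Q49624 : ∀ i, i < 49624 → P i := stepQ 49623 Q49623 (allL N49623 (tt N26163 (iv1 D89240)) (tt N64313 (iv0 F336774)) (tt N82528 F289529) (tt N26189 F137162) (tt N48578 F137163) (tt N35125 F299000) (tt N48578 F289536) (tt N27945 F289530))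
theorem Q49625 : ∀ i, i < 49625 → P i := stepQ 49624 Q49624 (allL N49624 (tt N27945 F335729) (tt N82528 F335730) (tt N26163 (iv2 D89241)) (tt N84100 F368105) (tt N28053 F335702) (tt N59250 F335731) (tt N59251 (iv6 F356458)) (tt N64313 F344213))
theorem Q49626 : ∀ i, i < 49626 → P i := stepQ 49625 Q49625 (allL N49625 (tt N84126 D186840) (tt N84127 D186841) (tt N59250 F356359) (tt N26164 F136965) (tt N69741 F356360) (tt N26163 (iv5 D89242)) (tt N31581 F356361) (tt N84113 (iv7 F368151)))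
theorem Q49627 : ∀ i, i < 49627 → P i := stepQ 49626 Q49626 (allL N49626 (tt N40147 F335385) (tt N40141 F335386) (tt N59251 F335387) (tt N26165 F136966) (tt N26626 F293859) (tt N31582 F335388) (tt N26163 (iv6 D89243)) (tt N51114 (iv7 F294643)))
theorem Q49628 : ∀ i, i < 49628 → P i := stepQ 49627 Q49627 (allL N49627 (tt N84124 (iv1 F368201)) (tt N83127 (iv0 F286026)) (tt N84116 (iv2 F368162)) (tt N64254 F333970) (tt N26164 (iv4 D89244)) (tt N55543 (iv5 F333969)) (tt N66981 F353922) (tt N84114 (iv7 F368154)))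
theorem Q49629 : ∀ i, i < 49629 → P i := stepQ 49628 Q49628 (allL N49628 (tt N84117 (iv1 F368171)) (tt N64763 (iv0 F348526)) (tt N84128 D186842) (tt N26166 (iv3 D89246)) (tt N78721 (iv4 F348525)) (tt N50658 (iv5 F140515)) (tt N78719 F348520) (tt N54178 (iv7 F156176)))
theorem Q49630 : ∀ i, i < 49630 → P i := stepQ 49629 Q49629 (allL N49629 (tt N82840 (iv1 F284568)) (tt N36577 F311629) (tt N82775 (iv2 F292468)) (tt N46792 F352033) (tt N26166 (iv4 D89247)) (tt N55175 F353921) (tt N47582 F339653) (tt N54191 (iv7 F156198)))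
theorem Q49631 : ∀ i, i < 49631 → P i := stepQ 49630 Q49630 (allL N49630 (tt N43780 F339651) (tt N84129 D186843) (tt N38451 F329134) (tt N78719 (iv3 F348516)) (tt N47582 F339652) (tt N38450 F329135) (tt N26166 (iv6 D89248)) (tt N84130 D186844))
theorem Q49632 : ∀ i, i < 49632 → P i := stepQ 49631 Q49631 (allL N49631 (tt N34497 F336772) (tt N35125 F336773) (tt N35124 F356445) (tt N26167 (iv3 D89249)) (tt N63928 (iv4 F336777)) (tt N50659 (iv5 F140523)) (tt N69989 F356372) (tt N35123 (iv7 F356453)))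
theorem Q49633 : ∀ i, i < 49633 → P i := stepQ 49632 Q49632 (allL N49632 (tt N36577 (iv1 F309399)) (tt N82840 F284567) (tt N54191 (iv2 F156197)) (tt N59997 F321395) (tt N26167 (iv4 D89250)) (tt N29128 F293242) (tt N42075 F321396) (tt N82775 F293243))
theorem Q49634 : ∀ i, i < 49634 → P i := stepQ 49633 Q49633 (allL N49633 (tt N84131 D186845) (tt N84132 D186846) (tt N54189 (iv2 F156195)) (tt N69989 (iv3 F357250)) (tt N42075 F357251) (tt N54104 (iv5 F155968)) (tt N26167 (iv6 D89251)) (tt N84133 D186847))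
theorem Q49635 : ∀ i, i < 49635 → P i := stepQ 49634 Q49634 (allL N49634 (tt N26168 (iv1 D89253)) (tt N55545 F292806) (tt N47915 (iv2 F323501)) (tt N75013 (iv3 F321713)) (tt N48691 (iv4 F137671)) (tt N27322 F292807) (tt N42105 F322750) (tt N52293 F292808))
theorem Q49636 : ∀ i, i < 49636 → P i := stepQ 49635 Q49635 (allL N49635 (tt N84134 D186848) (tt N84135 D186849) (tt N76538 F308368) (tt N26168 (iv3 D89254)) (tt N26221 F136968) (tt N84136 D186850) (tt N36484 F308369) (tt N84137 D186851))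
theorem Q49637 : ∀ i, i < 49637 → P i := stepQ 49636 Q49636 (allL N49636 (tt N34736 F328291) (tt N46237 (iv0 F328687)) (tt N29400 F293496) (tt N84136 (iv3 F368259)) (tt N27325 F293497) (tt N26168 (iv5 D89255)) (tt N36488 F308370) (tt N46236 F329088))
theorem Q49638 : ∀ i, i < 49638 → P i := stepQ 49637 Q49637 (allL N49637 (tt N47915 F324805) (tt N52293 F293376) (tt N55545 F293377) (tt N84137 (iv3 F368265)) (tt N26169 F136969) (tt N46236 F329087) (tt N81043 (iv6 F340283)) (tt N26168 (iv7 D89256)))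
theorem Q49639 : ∀ i, i < 49639 → P i := stepQ 49638 Q49638 (allL N49638 (tt N43763 F308371) (tt N43762 F308372) (tt N43765 F308373) (tt N26224 F136970) (tt N81043 (iv4 F342715)) (tt N48594 F136971) (tt N26169 (iv6 D89257)) (tt N35096 F308374))
theorem Q49640 : ∀ i, i < 49640 → P i := stepQ 49639 Q49639 (allL N49639 (tt N37607 (iv1 F305271)) (tt N37606 (iv0 F305274)) (tt N37609 (iv2 F304566)) (tt N26170 (iv3 D89258)) (tt N37572 F302921) (tt N46761 F136973) (tt N77617 F301920) (tt N37569 F302922))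
theorem Q49641 : ∀ i, i < 49641 → P i := stepQ 49640 Q49640 (allL N49640 (tt N47286 F306098) (tt N72408 (iv0 F309288)) (tt N37567 F307276) (tt N37599 F307277) (tt N33946 F304845) (tt N84138 D186852) (tt N26171 (iv6 D89260)) (tt N69295 (iv7 F309293)))
theorem Q49642 : ∀ i, i < 49642 → P i := stepQ 49641 Q49641 (allL N49641 (tt N79141 (iv1 F354486)) (tt N71772 (iv0 F354483)) (tt N64418 F301488) (tt N26176 F136999) (tt N77023 F301489) (tt N53387 (iv5 F153530)) (tt N26173 (iv6 D89290)) (tt N54389 (iv7 F156801)))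
theorem Q49643 : ∀ i, i < 49643 → P i := stepQ 49642 Q49642 (allL N49642 (tt N47101 (iv1 F156789)) (tt N84139 D186853) (tt N54403 (iv2 F156817)) (tt N80689 (iv3 F298844)) (tt N26176 F137002) (tt N84140 D186854) (tt N26174 (iv6 D89296)) (tt N54396 (iv7 F156811)))
theorem Q49644 : ∀ i, i < 49644 → P i := stepQ 49643 Q49643 (allL N49643 (tt N84141 D186855) (tt N84142 D186856) (tt N33723 F319203) (tt N64667 F349945) (tt N52260 F319204) (tt N53389 (iv5 F153531)) (tt N26175 (iv6 D89301)) (tt N84143 D186857))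
theorem Q49645 : ∀ i, i < 49645 → P i := stepQ 49644 Q49644 (allL N49644 (tt N26176 (iv1 D89304)) (tt N53385 F153524) (tt N54044 (iv2 F155844)) (tt N43453 F307560) (tt N46381 F307561) (tt N28817 F155836) (tt N54038 (iv6 F155794)) (tt N44566 F307562))
theorem Q49646 : ∀ i, i < 49646 → P i := stepQ 49645 Q49645 (allL N49645 (tt N26177 (iv1 D89308)) (tt N42755 F286784) (tt N42798 F286785) (tt N34470 F302430) (tt N43433 F286787) (tt N64764 F302431) (tt N54000 F286788) (tt N42764 F286789))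
theorem Q49647 : ∀ i, i < 49647 → P i := stepQ 49646 Q49646 (allL N49646 (tt N84144 D186858) (tt N70525 (iv0 F312668)) (tt N42809 F286795) (tt N26180 F137013) (tt N30665 F310490) (tt N84145 D186859) (tt N26177 (iv6 D89312)) (tt N57484 (iv7 F312664)))
theorem Q49648 : ∀ i, i < 49648 → P i := stepQ 49647 Q49647 (allL N49647 (tt N68580 (iv1 F324752)) (tt N47200 F273365) (tt N80696 F270626) (tt N63220 F287037) (tt N26180 F137014) (tt N84146 D186860) (tt N26178 (iv6 D89315)) (tt N84147 D186861))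
theorem Q49649 : ∀ i, i < 49649 → P i := stepQ 49648 Q49648 (allL N49648 (tt N84148 D186862) (tt N50599 (iv0 F294958)) (tt N77287 F307585) (tt N80460 F307586) (tt N27353 F307587) (tt N84149 D186863) (tt N26179 (iv6 D89317)) (tt N84150 D186864))
theorem Q49650 : ∀ i, i < 49650 → P i := stepQ 49649 Q49649 (allL N49649 (tt N53945 (iv1 F156399)) (tt N26180 (iv0 D89318)) (tt N43122 F319336) (tt N34508 F304533) (tt N47271 F304534) (tt N28786 F137015) (tt N53950 (iv6 F156398)) (tt N53241 (iv7 F156872)))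
theorem Q49651 : ∀ i, i < 49651 → P i := stepQ 49650 Q49650 (allL N49650 (tt N49566 (iv1 F156469)) (tt N49564 (iv0 F137016)) (tt N54284 F156368) (tt N84145 (iv3 F368318)) (tt N67230 F354757) (tt N26180 (iv5 D89320)) (tt N84149 (iv6 F368339)) (tt N54285 F156366))
theorem Q49652 : ∀ i, i < 49652 → P i := stepQ 49651 Q49651 (allL N49651 (tt N53241 F153525) (tt N43122 (iv0 F317059)) (tt N53945 (iv2 F156394)) (tt N57484 F315126) (tt N84147 (iv4 F368330)) (tt N54285 (iv5 F156363)) (tt N53385 (iv6 F153523)) (tt N26180 (iv7 D89321)))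
theorem Q49653 : ∀ i, i < 49653 → P i := stepQ 49652 Q49652 (allL N49652 (tt N32626 F308352) (tt N32629 F308353) (tt N35057 F308354) (tt N26181 (iv3 D89323)) (tt N29891 F308355) (tt N34906 F308356) (tt N61483 F308357) (tt N35060 F308358))
theorem Q49654 : ∀ i, i < 49654 → P i := stepQ 49653 Q49653 (allL N49653 (tt N84151 D186865) (tt N84152 D186866) (tt N51852 F308359) (tt N61483 F308360) (tt N51848 F308361) (tt N53825 F154739) (tt N26181 (iv6 D89326)) (tt N84153 D186867))
theorem Q49655 : ∀ i, i < 49655 → P i := stepQ 49654 Q49654 (allL N49654 (tt N43774 F342799) (tt N84154 D186868) (tt N51300 F308363) (tt N67040 (iv3 F318174)) (tt N27788 F308365) (tt N81377 (iv5 F274765)) (tt N26182 (iv6 D89330)) (tt N84155 D186869))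
theorem Q49656 : ∀ i, i < 49656 → P i := stepQ 49655 Q49655 (allL N49655 (tt N51941 F307538) (tt N26183 (iv0 D89331)) (tt N49543 F307539) (tt N49537 F307540) (tt N45547 F307541) (tt N46797 F307542) (tt N84156 D186870) (tt N49537 F307543))
theorem Q49657 : ∀ i, i < 49657 → P i := stepQ 49656 Q49656 (allL N49656 (tt N49537 (iv1 F306524)) (tt N49543 (iv0 F306523)) (tt N51941 (iv2 F306778)) (tt N27812 F305475) (tt N26184 F137020) (tt N28565 F305476) (tt N84157 D186871) (tt N26183 (iv7 D89335)))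
theorem Q49658 : ∀ i, i < 49658 → P i := stepQ 49657 Q49657 (allL N49657 (tt N83873 (iv1 F367316)) (tt N83872 F367315) (tt N83846 (iv2 F289453)) (tt N35096 F305477) (tt N84157 (iv4 F368387)) (tt N84158 D186872) (tt N26184 (iv6 D89336)) (tt N26224 F137021))
theorem Q49659 : ∀ i, i < 49659 → P i := stepQ 49658 Q49658 (allL N49658 (tt N28821 F137024) (tt N53938 F155050) (tt N53940 (iv2 F155048)) (tt N44557 (iv3 F305545)) (tt N84159 D186873) (tt N26185 (iv5 D89337)) (tt N84158 (iv6 F368392)) (tt N26188 F137023))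
theorem Q49660 : ∀ i, i < 49660 → P i := stepQ 49659 Q49659 (allL N49659 (tt N34500 F354012) (tt N52801 (iv0 F354017)) (tt N52802 (iv2 F354020)) (tt N26186 (iv3 D89339)) (tt N77025 (iv4 F354019)) (tt N84160 D186874) (tt N84161 D186875) (tt N52803 F354025))
theorem Q49661 : ∀ i, i < 49661 → P i := stepQ 49660 Q49660 (allL N49660 (tt N54291 F156485) (tt N54367 (iv0 F156905)) (tt N53934 (iv2 F366762)) (tt N84160 (iv3 F368395)) (tt N84162 D186876) (tt N26186 (iv5 D89341)) (tt N84163 D186877) (tt N53936 F366705))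
theorem Q49662 : ∀ i, i < 49662 → P i := stepQ 49661 Q49661 (allL N49661 (tt N53244 (iv1 F156855)) (tt N53950 (iv0 F156400)) (tt N53935 (iv2 F338110)) (tt N84161 (iv3 F368397)) (tt N80693 F271106) (tt N47459 F137026) (tt N26186 (iv6 D89342)) (tt N53949 F338112))
theorem Q49663 : ∀ i, i < 49663 → P i := stepQ 49662 Q49662 (allL N49662 (tt N54367 F274864) (tt N54291 (iv0 F274661)) (tt N53936 (iv2 F366706)) (tt N76995 (iv3 F366766)) (tt N84164 D186878) (tt N26187 (iv5 D89346)) (tt N84165 D186879) (tt N53934 F366763))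
theorem Q49664 : ∀ i, i < 49664 → P i := stepQ 49663 Q49663 (allL N49663 (tt N54038 (iv1 F274660)) (tt N53271 (iv0 F274658)) (tt N53937 (iv2 F338119)) (tt N76996 (iv3 F359834)) (tt N76762 (iv4 F311780)) (tt N54257 (iv5 F156315)) (tt N26187 (iv6 D89347)) (tt N54037 (iv7 F338108)))
theorem Q49665 : ∀ i, i < 49665 → P i := stepQ 49664 Q49664 (allL N49664 (tt N53940 (iv1 F155052)) (tt N26188 (iv0 D89348)) (tt N53938 F156663) (tt N84166 D186880) (tt N84167 D186881) (tt N28822 F156664) (tt N84168 D186882) (tt N28821 F156665))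
theorem Q49666 : ∀ i, i < 49666 → P i := stepQ 49665 Q49665 (allL N49665 (tt N26188 (iv1 D89349)) (tt N53940 F155051) (tt N28821 F156666) (tt N76998 F362741) (tt N84169 D186883) (tt N28310 (iv5 F137028)) (tt N84170 D186884) (tt N53938 F156667))
theorem Q49667 : ∀ i, i < 49667 → P i := stepQ 49666 Q49666 (allL N49666 (tt N84171 D186885) (tt N84172 D186886) (tt N53939 (iv2 F155046)) (tt N84173 D186887) (tt N26188 (iv4 D89350)) (tt N84174 D186888) (tt N26234 F137029) (tt N84159 (iv7 F368394)))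
theorem Q49668 : ∀ i, i < 49668 → P i := stepQ 49667 Q49667 (allL N49667 (tt N79014 F251837) (tt N84040 F367890) (tt N83859 F364383) (tt N84033 (iv3 F367872)) (tt N26189 (iv4 D89353)) (tt N84175 D186889) (tt N84033 (iv6 F367874)) (tt N80674 (iv7 F364384)))
theorem Q49669 : ∀ i, i < 49669 → P i := stepQ 49668 Q49668 (allL N49668 (tt N54448 F289948) (tt N26213 F289949) (tt N54461 F335752) (tt N35125 F303375) (tt N61556 (iv4 F336778)) (tt N26189 (iv5 D89354)) (tt N84176 D186890) (tt N35122 F303376))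
theorem Q49670 : ∀ i, i < 49670 → P i := stepQ 49669 Q49669 (allL N49669 (tt N83862 (iv1 F289510)) (tt N83861 F289509) (tt N26192 F137033) (tt N83847 (iv3 F289463)) (tt N84177 D186891) (tt N26190 (iv5 D89361)) (tt N84178 D186892) (tt N83860 (iv7 F289504)))
theorem Q49671 : ∀ i, i < 49671 → P i := stepQ 49670 Q49670 (allL N49670 (tt N80685 F362410) (tt N84179 D186893) (tt N26193 F137034) (tt N83848 (iv3 F289468)) (tt N51857 (iv4 F147352)) (tt N84180 D186894) (tt N26190 (iv6 D89362)) (tt N84181 D186895))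
theorem Q49672 : ∀ i, i < 49672 → P i := stepQ 49671 Q49671 (allL N49671 (tt N55090 F158641) (tt N84182 D186896) (tt N51856 (iv2 F147350)) (tt N27795 F137035) (tt N84183 D186897) (tt N26191 (iv5 D89363)) (tt N84184 D186898) (tt N51833 (iv7 F147295)))
theorem Q49673 : ∀ i, i < 49673 → P i := stepQ 49672 Q49672 (allL N49672 (tt N27906 F137038) (tt N84185 D186899) (tt N51857 (iv2 F147351)) (tt N27796 F137036) (tt N26193 F137037) (tt N51671 (iv5 F146995)) (tt N26191 (iv6 D89364)) (tt N52148 (iv7 F147769)))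
theorem Q49674 : ∀ i, i < 49674 → P i := stepQ 49673 Q49673 (allL N49673 (tt N83860 (iv1 F289506)) (tt N26192 (iv0 D89365)) (tt N83862 (iv2 F362404)) (tt N84127 F368216) (tt N84186 D186900) (tt N28870 F357146) (tt N84187 D186901) (tt N83861 F362408))
theorem Q49675 : ∀ i, i < 49675 → P i := stepQ 49674 Q49674 (allL N49674 (tt N26192 (iv1 D89366)) (tt N83860 F289505) (tt N83861 F362407) (tt N42241 F347747) (tt N74462 F347748) (tt N28871 F347749) (tt N42240 F347750) (tt N83862 (iv7 F362405)))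
theorem Q49676 : ∀ i, i < 49676 → P i := stepQ 49675 Q49675 (allL N49675 (tt N84188 D186902) (tt N84189 D186903) (tt N84177 (iv2 F368423)) (tt N84190 D186904) (tt N26192 (iv4 D89367)) (tt N26588 F347696) (tt N26589 F347697) (tt N83863 (iv7 F289511)))
theorem Q49677 : ∀ i, i < 49677 → P i := stepQ 49676 Q49676 (allL N49676 (tt N50780 F347698) (tt N50774 F347699) (tt N84178 (iv2 F368426)) (tt N26200 F137039) (tt N26589 F347700) (tt N28946 F347701) (tt N26192 (iv6 D89368)) (tt N84191 D186905))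
theorem Q49678 : ∀ i, i < 49678 → P i := stepQ 49677 Q49677 (allL N49677 (tt N84181 (iv1 F368448)) (tt N26193 (iv0 D89369)) (tt N80685 F356202) (tt N82803 F356198) (tt N80653 (iv4 F356199)) (tt N54588 (iv5 F356204)) (tt N51147 (iv6 F356201)) (tt N84179 (iv7 F368434)))
theorem Q49679 : ∀ i, i < 49679 → P i := stepQ 49678 Q49678 (allL N49678 (tt N26193 (iv1 D89370)) (tt N84181 F368447) (tt N84179 F368435) (tt N84192 D186906) (tt N84193 D186907) (tt N54589 F287610) (tt N84194 D186908) (tt N80685 F356206))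
theorem Q49680 : ∀ i, i < 49680 → P i := stepQ 49679 Q49679 (allL N49679 (tt N28570 F367276) (tt N84195 D186909) (tt N84180 (iv2 F368437)) (tt N26202 F137040) (tt N28947 F347703) (tt N26193 (iv5 D89371)) (tt N28946 F347704) (tt N28945 (iv7 F137041)))
theorem Q49681 : ∀ i, i < 49681 → P i := stepQ 49680 Q49680 (allL N49680 (tt N84179 (iv1 F368433)) (tt N80685 (iv0 F361764)) (tt N84181 (iv2 F368444)) (tt N26203 F137042) (tt N52148 (iv4 F147768)) (tt N28945 F137043) (tt N50848 (iv6 F292893)) (tt N26193 (iv7 D89372)))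
theorem Q49682 : ∀ i, i < 49682 → P i := stepQ 49681 Q49681 (allL N49681 (tt N83831 (iv1 F289307)) (tt N83829 (iv0 F289291)) (tt N83838 F289356) (tt N26197 (iv3 D89375)) (tt N84196 D186910) (tt N28546 F137056) (tt N84197 D186911) (tt N54722 (iv7 F157459)))
theorem Q49683 : ∀ i, i < 49683 → P i := stepQ 49682 Q49682 (allL N49682 (tt N26277 F137057) (tt N26252 F137058) (tt N54466 (iv2 F156963)) (tt N84198 D186912) (tt N26197 (iv4 D89376)) (tt N51188 (iv5 F294830)) (tt N84199 D186913) (tt N54472 (iv7 F156972)))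
theorem Q49684 : ∀ i, i < 49684 → P i := stepQ 49683 Q49683 (allL N49683 (tt N84200 D186914) (tt N84201 D186915) (tt N54723 (iv2 F157468)) (tt N84197 (iv3 F368490)) (tt N84199 (iv4 F368493)) (tt N28547 F137059) (tt N26197 (iv6 D89377)) (tt N84202 D186916))
theorem Q49685 : ∀ i, i < 49685 → P i := stepQ 49684 Q49684 (allL N49684 (tt N26252 F137060) (tt N26277 F137061) (tt N54472 (iv2 F156970)) (tt N71737 (iv3 F353330)) (tt N26198 (iv4 D89378)) (tt N53399 (iv5 F153565)) (tt N58243 F353329) (tt N54466 (iv7 F156964)))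
theorem Q49686 : ∀ i, i < 49686 → P i := stepQ 49685 Q49685 (allL N49685 (tt N77287 (iv1 F305561)) (tt N84150 F368343) (tt N50599 (iv2 F294959)) (tt N55590 (iv3 F356769)) (tt N58243 (iv4 F353331)) (tt N26713 (iv5 F294661)) (tt N26198 (iv6 D89379)) (tt N84148 F368337))
theorem Q49687 : ∀ i, i < 49687 → P i := stepQ 49686 Q49686 (allL N49686 (tt N26210 (iv1 F137064)) (tt N26199 (iv0 D89380)) (tt N49781 (iv2 F137231)) (tt N84203 D186917) (tt N29003 F137063) (tt N28982 F137062) (tt N84204 D186918) (tt N49783 (iv7 F137240)))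
theorem Q49688 : ∀ i, i < 49688 → P i := stepQ 49687 Q49687 (allL N49687 (tt N26199 (iv1 D89381)) (tt N26210 F137065) (tt N49783 (iv2 F137238)) (tt N84205 D186919) (tt N29001 F137067) (tt N28985 F137066) (tt N84206 D186920) (tt N49781 (iv7 F137232)))
theorem Q49689 : ∀ i, i < 49689 → P i := stepQ 49688 Q49688 (allL N49688 (tt N66541 (iv1 F352672)) (tt N66538 F352673) (tt N68118 (iv2 F352671)) (tt N26199 (iv3 D89382)) (tt N84190 (iv4 F368461)) (tt N28914 F137068) (tt N84207 D186921) (tt N60163 F352670))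
theorem Q49690 : ∀ i, i < 49690 → P i := stepQ 49689 Q49689 (allL N49689 (tt N84208 D186922) (tt N84209 D186923) (tt N83855 (iv2 F289482)) (tt N84207 (iv3 F368511)) (tt N26200 F137069) (tt N84210 D186924) (tt N26199 (iv6 D89383)) (tt N84211 D186925))
theorem Q49691 : ∀ i, i < 49691 → P i := stepQ 49690 Q49690 (allL N49690 (tt N83858 (iv1 F289491)) (tt N26200 (iv0 D89384)) (tt N83856 (iv2 F368294)) (tt N84212 D186926) (tt N84213 D186927) (tt N84214 D186928) (tt N84141 F368293) (tt N83857 (iv7 F368296)))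
theorem Q49692 : ∀ i, i < 49692 → P i := stepQ 49691 Q49691 (allL N49691 (tt N26200 (iv1 D89385)) (tt N83858 F289490) (tt N83857 F368297) (tt N77363 (iv3 F368298)) (tt N84215 D186929) (tt N77361 F368299) (tt N84216 D186930) (tt N83856 F368295))
theorem Q49693 : ∀ i, i < 49693 → P i := stepQ 49692 Q49692 (allL N49692 (tt N84217 D186931) (tt N84218 D186932) (tt N28950 F137070) (tt N28946 F347702) (tt N84219 D186933) (tt N26200 (iv5 D89386)) (tt N26202 F137071) (tt N84220 D186934))
theorem Q49694 : ∀ i, i < 49694 → P i := stepQ 49693 Q49693 (allL N49693 (tt N83857 (iv1 F289485)) (tt N83856 F289489) (tt N83858 (iv2 F289486)) (tt N84191 (iv3 F368469)) (tt N84211 (iv4 F368525)) (tt N84220 (iv5 F368559)) (tt N83866 (iv6 F367288)) (tt N26200 (iv7 D89387)))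
theorem Q49695 : ∀ i, i < 49695 → P i := stepQ 49694 Q49694 (allL N49694 (tt N53175 (iv1 F152856)) (tt N53502 F153871) (tt N28949 F137072) (tt N84220 (iv3 F368557)) (tt N26202 (iv4 D89388)) (tt N84191 (iv5 F368471)) (tt N84219 (iv6 F368554)) (tt N28946 F137073))
theorem Q49696 : ∀ i, i < 49696 → P i := stepQ 49695 Q49695 (allL N49695 (tt N26216 F337241) (tt N74992 F337251) (tt N62777 (iv2 F337249)) (tt N84117 (iv3 F368167)) (tt N62771 (iv4 F337247)) (tt N26204 (iv5 D89397)) (tt N84221 D186935) (tt N62869 F337248))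
theorem Q49697 : ∀ i, i < 49697 → P i := stepQ 49696 Q49696 (allL N49696 (tt N42791 F335691) (tt N48597 F137081) (tt N26206 F137077) (tt N28040 (iv3 F149748)) (tt N26205 (iv4 D89399)) (tt N84222 D186936) (tt N55303 (iv6 F343916)) (tt N48598 F137078))
theorem Q49698 : ∀ i, i < 49698 → P i := stepQ 49697 Q49697 (allL N49697 (tt N83850 (iv1 F289472)) (tt N83849 F289471) (tt N26207 F137082) (tt N83860 (iv3 F289503)) (tt N84223 D186937) (tt N26205 (iv5 D89400)) (tt N84224 D186938) (tt N83847 (iv7 F289464)))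
theorem Q49699 : ∀ i, i < 49699 → P i := stepQ 49698 Q49698 (allL N49698 (tt N51107 F357590) (tt N51106 F357619) (tt N26208 F137083) (tt N51103 (iv3 F294159)) (tt N55303 F362781) (tt N84225 D186939) (tt N26205 (iv6 D89401)) (tt N51108 F357620))
theorem Q49700 : ∀ i, i < 49700 → P i := stepQ 49699 Q49699 (allL N49699 (tt N26206 (iv1 D89403)) (tt N48598 F137085) (tt N48597 F335695) (tt N84226 D186940) (tt N42794 (iv4 F335591)) (tt N83483 F335583) (tt N48698 F335584) (tt N42791 F335585))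
theorem Q49701 : ∀ i, i < 49701 → P i := stepQ 49700 Q49700 (allL N49700 (tt N83508 (iv1 F343876)) (tt N83510 (iv0 F343874)) (tt N84222 (iv2 F368571)) (tt N48544 F137086) (tt N84227 D186941) (tt N26206 (iv5 D89404)) (tt N84228 D186942) (tt N48599 F137087))
theorem Q49702 : ∀ i, i < 49702 → P i := stepQ 49701 Q49701 (allL N49701 (tt N83847 (iv1 F289466)) (tt N26207 (iv0 D89406)) (tt N83850 F356783) (tt N77554 (iv3 F356788)) (tt N42230 F356784) (tt N83460 F356785) (tt N42228 F356786) (tt N83849 F356787))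
theorem Q49703 : ∀ i, i < 49703 → P i := stepQ 49702 Q49702 (allL N49702 (tt N26207 (iv1 D89407)) (tt N83847 F289465) (tt N83849 F344223) (tt N84120 F368186) (tt N75663 F344224) (tt N28662 (iv5 F344225)) (tt N84229 D186943) (tt N83850 (iv7 F346005)))
theorem Q49704 : ∀ i, i < 49704 → P i := stepQ 49703 Q49703 (allL N49703 (tt N84230 D186944) (tt N84231 D186945) (tt N84223 (iv2 F368576)) (tt N52388 (iv3 F356802)) (tt N26207 (iv4 D89408)) (tt N84232 D186946) (tt N52387 F352633) (tt N83851 (iv7 F289473)))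
theorem Q49705 : ∀ i, i < 49705 → P i := stepQ 49704 Q49704 (allL N49704 (tt N78703 F352629) (tt N78705 (iv0 F352634)) (tt N84224 (iv2 F368580)) (tt N26211 F137090) (tt N52387 (iv4 F352631)) (tt N84233 D186947) (tt N26207 (iv6 D89409)) (tt N84234 D186948))
theorem Q49706 : ∀ i, i < 49706 → P i := stepQ 49705 Q49705 (allL N49705 (tt N51108 (iv1 F357622)) (tt N26208 (iv0 D89410)) (tt N51107 F357586) (tt N76179 F349208) (tt N54021 F344245) (tt N53237 (iv5 F344241)) (tt N39682 F344239) (tt N51106 (iv7 F357584)))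
theorem Q49707 : ∀ i, i < 49707 → P i := stepQ 49706 Q49706 (allL N49706 (tt N26208 (iv1 D89411)) (tt N51108 F357621) (tt N51106 (iv2 F357579)) (tt N84105 (iv3 F368123)) (tt N54025 (iv4 F349306)) (tt N53238 F349310) (tt N50489 F349309) (tt N51107 (iv7 F357585)))
theorem Q49708 : ∀ i, i < 49708 → P i := stepQ 49707 Q49707 (allL N49707 (tt N76187 F364323) (tt N84235 D186949) (tt N84225 (iv2 F368587)) (tt N26212 F137091) (tt N84236 D186950) (tt N26208 (iv5 D89412)) (tt N84233 (iv6 F368618)) (tt N51110 (iv7 F293429)))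
theorem Q49709 : ∀ i, i < 49709 → P i := stepQ 49708 Q49708 (allL N49708 (tt N52224 F360234) (tt N84237 D186951) (tt N68108 (iv2 F346791)) (tt N26210 (iv3 D89414)) (tt N52388 (iv4 F345662)) (tt N28904 F137093) (tt N52212 (iv6 F339719)) (tt N83854 (iv7 F289481)))
theorem Q49710 : ∀ i, i < 49710 → P i := stepQ 49709 Q49709 (allL N49709 (tt N84238 D186952) (tt N49549 (iv0 F352644)) (tt N83864 (iv2 F367278)) (tt N52212 (iv3 F352639)) (tt N26211 F137094) (tt N84239 D186953) (tt N26210 (iv6 D89415)) (tt N84240 D186954))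
theorem Q49711 : ∀ i, i < 49711 → P i := stepQ 49710 Q49710 (allL N49710 (tt N83866 (iv1 F367290)) (tt N26211 (iv0 D89416)) (tt N83865 F367283) (tt N64687 (iv3 F352511)) (tt N84241 D186955) (tt N84242 D186956) (tt N77291 F352510) (tt N64683 (iv7 F352512)))
theorem Q49712 : ∀ i, i < 49712 → P i := stepQ 49711 Q49711 (allL N49711 (tt N26211 (iv1 D89417)) (tt N83866 F367289) (tt N64683 F307588) (tt N43040 F307589) (tt N80026 F307590) (tt N53952 (iv5 F155573)) (tt N43039 F307591) (tt N83865 (iv7 F367285)))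
theorem Q49713 : ∀ i, i < 49713 → P i := stepQ 49712 Q49712 (allL N49712 (tt N84243 D186957) (tt N84244 D186958) (tt N51105 (iv2 F294168)) (tt N84233 (iv3 F368617)) (tt N57768 F364764) (tt N26211 (iv5 D89418)) (tt N26212 F137095) (tt N84245 D186959))
theorem Q49714 : ∀ i, i < 49714 → P i := stepQ 49713 Q49713 (allL N49713 (tt N64683 (iv1 F366862)) (tt N83865 F367286) (tt N83866 (iv2 F367287)) (tt N84234 (iv3 F368624)) (tt N84240 (iv4 F368651)) (tt N84245 (iv5 F368664)) (tt N83858 (iv6 F289488)) (tt N26211 (iv7 D89419)))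
theorem Q49715 : ∀ i, i < 49715 → P i := stepQ 49714 Q49714 (allL N49714 (tt N50442 (iv1 F139739)) (tt N53193 (iv0 F152924)) (tt N51029 (iv2 F294166)) (tt N57770 F364766) (tt N26212 (iv4 D89420)) (tt N50828 (iv5 F354457)) (tt N57768 (iv6 F364765)) (tt N51018 (iv7 F293433)))
theorem Q49716 : ∀ i, i < 49716 → P i := stepQ 49715 Q49715 (allL N49715 (tt N54461 (iv1 F156959)) (tt N35122 F335732) (tt N26213 (iv2 D89423)) (tt N74992 F337254) (tt N84246 D186960) (tt N54449 (iv5 F156941)) (tt N84247 D186961) (tt N54448 F156937))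
theorem Q49717 : ∀ i, i < 49717 → P i := stepQ 49716 Q49716 (allL N49716 (tt N84248 D186962) (tt N84249 D186963) (tt N84246 (iv2 F368665)) (tt N71833 F355677) (tt N26213 (iv4 D89424)) (tt N84250 D186964) (tt N84251 D186965) (tt N54462 (iv7 F156960)))
theorem Q49718 : ∀ i, i < 49718 → P i := stepQ 49717 Q49717 (allL N49717 (tt N84252 D186966) (tt N75137 F368673) (tt N84247 (iv2 F368669)) (tt N26215 F137096) (tt N84251 (iv4 F368690)) (tt N84253 D186967) (tt N26213 (iv6 D89425)) (tt N84254 D186968))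
theorem Q49719 : ∀ i, i < 49719 → P i := stepQ 49718 Q49718 (allL N49718 (tt N26217 (iv1 F137099)) (tt N26214 (iv0 D89426)) (tt N49771 (iv2 F137212)) (tt N51812 F353227) (tt N28995 F137098) (tt N28903 F137097) (tt N53889 (iv6 F353229)) (tt N49447 F137100))
theorem Q49720 : ∀ i, i < 49720 → P i := stepQ 49719 Q49719 (allL N49719 (tt N84255 D186969) (tt N84256 D186970) (tt N83867 (iv2 F367291)) (tt N71826 F365324) (tt N26215 F137102) (tt N71823 (iv5 F365325)) (tt N26214 (iv6 D89428)) (tt N84257 D186971))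
theorem Q49721 : ∀ i, i < 49721 → P i := stepQ 49720 Q49720 (allL N49720 (tt N83870 (iv1 F367307)) (tt N26215 (iv0 D89429)) (tt N83868 (iv2 F367304)) (tt N84258 D186972) (tt N84259 D186973) (tt N68697 F367305) (tt N84154 (iv6 F368358)) (tt N83869 F367306))
theorem Q49722 : ∀ i, i < 49722 → P i := stepQ 49721 Q49721 (allL N49721 (tt N26215 (iv1 D89430)) (tt N83870 F367301) (tt N83869 (iv2 F367295)) (tt N84129 F368226) (tt N84260 D186974) (tt N68700 (iv5 F354705)) (tt N84261 D186975) (tt N83868 (iv7 F367302)))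
theorem Q49723 : ∀ i, i < 49723 → P i := stepQ 49722 Q49722 (allL N49722 (tt N68631 F352508) (tt N68634 F352509) (tt N52154 (iv2 F147808)) (tt N84253 (iv3 F368701)) (tt N84262 D186976) (tt N26215 (iv5 D89431)) (tt N27579 F137103) (tt N84263 D186977))
theorem Q49724 : ∀ i, i < 49724 → P i := stepQ 49723 Q49723 (allL N49723 (tt N83869 (iv1 F367293)) (tt N83868 F367300) (tt N83870 (iv2 F367296)) (tt N84254 (iv3 F368707)) (tt N84257 (iv4 F368715)) (tt N84263 (iv5 F368731)) (tt N54492 (iv6 F156990)) (tt N26215 (iv7 D89432)))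
theorem Q49725 : ∀ i, i < 49725 → P i := stepQ 49724 Q49724 (allL N49724 (tt N62869 F329752) (tt N62777 F329753) (tt N26216 (iv2 D89435)) (tt N54448 (iv3 F156936)) (tt N60863 F329754) (tt N53397 F153556) (tt N39650 F329755) (tt N74992 (iv7 F337252)))
theorem Q49726 : ∀ i, i < 49726 → P i := stepQ 49725 Q49725 (allL N49725 (tt N54492 (iv1 F156993)) (tt N26218 (iv0 D89440)) (tt N54489 (iv2 F359230)) (tt N84131 (iv3 F368235)) (tt N79847 F344530) (tt N54404 (iv5 F156994)) (tt N84264 D186978) (tt N54490 (iv7 F352820)))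
theorem Q49727 : ∀ i, i < 49727 → P i := stepQ 49726 Q49726 (allL N49726 (tt N26218 (iv1 D89441)) (tt N54492 F156992) (tt N54490 (iv2 F352819)) (tt N84265 D186979) (tt N84266 D186980) (tt N54405 (iv5 F344547)) (tt N84151 (iv6 F368344)) (tt N54489 F359237))
theorem Q49728 : ∀ i, i < 49728 → P i := stepQ 49727 Q49727 (allL N49727 (tt N54490 (iv1 F156985)) (tt N54489 F156991) (tt N54492 (iv2 F156988)) (tt N39160 F329747) (tt N58507 F329748) (tt N39157 F329749) (tt N83870 (iv6 F367299)) (tt N26218 (iv7 D89442)))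
theorem Q49729 : ∀ i, i < 49729 → P i := stepQ 49728 Q49728 (allL N49728 (tt N28929 F357210) (tt N84157 F368389) (tt N75928 (iv2 F353226)) (tt N26219 (iv3 D89443)) (tt N64408 (iv4 F356536)) (tt N29031 F137107) (tt N84267 D186981) (tt N54720 (iv7 F157449)))
theorem Q49730 : ∀ i, i < 49730 → P i := stepQ 49729 Q49729 (allL N49729 (tt N84259 (iv1 F368720)) (tt N84260 (iv0 F368722)) (tt N83871 (iv2 F367313)) (tt N84267 (iv3 F368746)) (tt N29009 F137108) (tt N84268 D186982) (tt N26219 (iv6 D89444)) (tt N69984 F365584))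
theorem Q49731 : ∀ i, i < 49731 → P i := stepQ 49730 Q49730 (allL N49730 (tt N79847 (iv1 F344531)) (tt N84266 (iv0 F368741)) (tt N54716 (iv2 F157440)) (tt N72733 F322925) (tt N29043 F137110) (tt N31179 F322926) (tt N26220 (iv6 D89446)) (tt N59882 F322927))
theorem Q49732 : ∀ i, i < 49732 → P i := stepQ 49731 Q49731 (allL N49731 (tt N26221 (iv1 D89448)) (tt N55196 F352744) (tt N55126 F352745) (tt N55208 F352746) (tt N46267 F352747) (tt N43399 F352748) (tt N84269 D186983) (tt N55197 F352749))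
theorem Q49733 : ∀ i, i < 49733 → P i := stepQ 49732 Q49732 (allL N49732 (tt N55197 (iv1 F342453)) (tt N55126 (iv0 F342451)) (tt N26221 (iv2 D89449)) (tt N51943 F312634) (tt N76538 F312635) (tt N84270 D186984) (tt N27811 F312636) (tt N55196 (iv7 F357202)))
theorem Q49734 : ∀ i, i < 49734 → P i := stepQ 49733 Q49733 (allL N49733 (tt N55219 (iv1 F346760)) (tt N43402 F335757) (tt N84270 (iv2 F368752)) (tt N26222 F137111) (tt N75816 F335758) (tt N26221 (iv5 D89450)) (tt N41156 F335759) (tt N28338 (iv7 F137112)))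
theorem Q49735 : ∀ i, i < 49735 → P i := stepQ 49734 Q49734 (allL N49734 (tt N55126 (iv1 F342452)) (tt N55197 (iv0 F346746)) (tt N55196 (iv2 F352736)) (tt N26223 F137113) (tt N84137 (iv4 F368266)) (tt N28338 F137114) (tt N77798 F357196) (tt N26221 (iv7 D89451)))
theorem Q49736 : ∀ i, i < 49736 → P i := stepQ 49735 Q49735 (allL N49735 (tt N84271 D186985) (tt N84272 D186986) (tt N28930 F137115) (tt N41156 F339162) (tt N28339 F137116) (tt N55149 F359411) (tt N26222 (iv6 D89452)) (tt N84273 D186987))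
theorem Q49737 : ∀ i, i < 49737 → P i := stepQ 49736 Q49736 (allL N49736 (tt N54720 (iv1 F357214)) (tt N75928 (iv0 F357193)) (tt N28929 F137117) (tt N77798 (iv3 F357194)) (tt N26224 F137118) (tt N84274 D186988) (tt N26223 (iv6 D89453)) (tt N84157 (iv7 F368388)))
theorem Q49738 : ∀ i, i < 49738 → P i := stepQ 49737 Q49737 (allL N49737 (tt N83846 (iv1 F289457)) (tt N26224 (iv0 D89454)) (tt N83872 (iv2 F378674)) (tt N84275 D186990) (tt N53887 (iv4 F357192)) (tt N84276 D186991) (tt N84277 D186992) (tt N83873 (iv7 F378677)))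
theorem Q49739 : ∀ i, i < 49739 → P i := stepQ 49738 Q49738 (allL N49738 (tt N26224 (iv1 D89455)) (tt N83846 F289456) (tt N83873 (iv2 F378676)) (tt N81701 F357199) (tt N53886 (iv4 F357198)) (tt N84278 D186994) (tt N84279 D186995) (tt N83872 (iv7 F378675)))
theorem Q49740 : ∀ i, i < 49740 → P i := stepQ 49739 Q49739 (allL N49739 (tt N84173 (iv1 F371234)) (tt N84280 D186997) (tt N83697 (iv2 F288564)) (tt N48594 F137119) (tt N84281 D186998) (tt N26224 (iv5 D89456)) (tt N26225 F137120) (tt N84158 (iv7 F368393)))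
theorem Q49741 : ∀ i, i < 49741 → P i := stepQ 49740 Q49740 (allL N49740 (tt N50920 F293259) (tt N50519 F293260) (tt N55413 F293261) (tt N84282 D186999) (tt N26225 (iv4 D89457)) (tt N50923 F293262) (tt N84281 (iv6 F368791)) (tt N26234 F137121))
theorem Q49742 : ∀ i, i < 49742 → P i := stepQ 49741 Q49741 (allL N49741 (tt N84283 D187000) (tt N84284 D187001) (tt N84034 (iv2 F367877)) (tt N26227 F137123) (tt N54541 (iv4 F368830)) (tt N26226 (iv5 D89461)) (tt N84285 D187003) (tt N83693 (iv7 F288544)))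
theorem Q49743 : ∀ i, i < 49743 → P i := stepQ 49742 Q49742 (allL N49742 (tt N51135 (iv1 F356190)) (tt N54454 F159836) (tt N81495 F335749) (tt N26228 F137124) (tt N51872 (iv4 F147362)) (tt N28333 (iv5 F137125)) (tt N26226 (iv6 D89462)) (tt N28900 (iv7 F137126)))
theorem Q49744 : ∀ i, i < 49744 → P i := stepQ 49743 Q49743 (allL N49743 (tt N26230 (iv1 F137128)) (tt N26227 (iv0 D89463)) (tt N28466 (iv2 F137129)) (tt N84286 D187004) (tt N84287 D187005) (tt N26678 F292187) (tt N84288 D187006) (tt N50208 F292188))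
theorem Q49745 : ∀ i, i < 49745 → P i := stepQ 49744 Q49744 (allL N49744 (tt N53623 (iv1 F154134)) (tt N84289 D187007) (tt N83692 (iv2 F288533)) (tt N83504 (iv3 F365786)) (tt N26227 (iv4 D89465)) (tt N51362 (iv5 F365787)) (tt N83503 F365785) (tt N83694 (iv7 F288546)))
theorem Q49746 : ∀ i, i < 49746 → P i := stepQ 49745 Q49745 (allL N49745 (tt N84290 D187008) (tt N84291 D187009) (tt N28918 F137134) (tt N84285 (iv3 F368799)) (tt N83503 F365784) (tt N28335 F137135) (tt N26227 (iv6 D89466)) (tt N84292 D187010))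
theorem Q49747 : ∀ i, i < 49747 → P i := stepQ 49746 Q49746 (allL N49746 (tt N84293 D187011) (tt N84294 D187012) (tt N84076 (iv2 F368025)) (tt N26230 F137140) (tt N84295 D187013) (tt N26229 (iv5 D89471)) (tt N84296 D187014) (tt N83691 (iv7 F288532)))
theorem Q49748 : ∀ i, i < 49748 → P i := stepQ 49747 Q49747 (allL N49747 (tt N54021 F338298) (tt N54025 (iv0 F344203)) (tt N84077 (iv2 F368026)) (tt N26231 F137141) (tt N29195 (iv4 F293855)) (tt N55323 (iv5 F159457)) (tt N26229 (iv6 D89472)) (tt N52164 (iv7 F147824)))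
theorem Q49749 : ∀ i, i < 49749 → P i := stepQ 49748 Q49748 (allL N49748 (tt N84289 (iv1 F368813)) (tt N53623 (iv0 F154133)) (tt N83694 (iv2 F288545)) (tt N84297 D187015) (tt N26230 (iv4 D89473)) (tt N55410 (iv5 F365789)) (tt N84298 D187016) (tt N83692 (iv7 F288535)))
theorem Q49750 : ∀ i, i < 49750 → P i := stepQ 49749 Q49749 (allL N49749 (tt N84299 D187017) (tt N84300 D187018) (tt N83695 (iv2 F288547)) (tt N84296 (iv3 F368839)) (tt N84298 (iv4 F368843)) (tt N55324 (iv5 F159460)) (tt N26230 (iv6 D89474)) (tt N84301 D187019))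
theorem Q49751 : ∀ i, i < 49751 → P i := stepQ 49750 Q49750 (allL N49750 (tt N84037 F367882) (tt N80677 (iv0 F357539)) (tt N84035 F367879) (tt N26232 (iv3 D89475)) (tt N84302 D187020) (tt N50153 (iv5 F291782)) (tt N84303 D187021) (tt N54592 (iv7 F157121)))
theorem Q49752 : ∀ i, i < 49752 → P i := stepQ 49751 Q49751 (allL N49751 (tt N52899 (iv1 F151803)) (tt N49442 F137142) (tt N50563 (iv2 F292659)) (tt N84304 D187022) (tt N26232 (iv4 D89476)) (tt N50964 (iv5 F365803)) (tt N84305 D187023) (tt N50963 (iv7 F292656)))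
theorem Q49753 : ∀ i, i < 49753 → P i := stepQ 49752 Q49752 (allL N49752 (tt N84306 D187024) (tt N84307 D187025) (tt N50561 (iv2 F292660)) (tt N84303 (iv3 F368866)) (tt N84305 (iv4 F368867)) (tt N50154 (iv5 F293826)) (tt N26232 (iv6 D89477)) (tt N84308 D187026))
theorem Q49754 : ∀ i, i < 49754 → P i := stepQ 49753 Q49753 (allL N49753 (tt N76992 F367242) (tt N84080 F368035) (tt N84078 (iv2 F372874)) (tt N26233 (iv3 D89478)) (tt N84309 D187028) (tt N50558 (iv5 F292283)) (tt N84310 D187029) (tt N50557 (iv7 F292657)))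
theorem Q49755 : ∀ i, i < 49755 → P i := stepQ 49754 Q49754 (allL N49754 (tt N49442 F137143) (tt N52899 F151802) (tt N50963 F293345) (tt N84311 D187030) (tt N26233 (iv4 D89479)) (tt N26536 F293346) (tt N84312 D187031) (tt N50563 F293347))
theorem Q49756 : ∀ i, i < 49756 → P i := stepQ 49755 Q49755 (allL N49755 (tt N82838 (iv1 F390981)) (tt N84313 D187033) (tt N54600 (iv2 F157137)) (tt N84310 (iv3 F368870)) (tt N84312 (iv4 F368872)) (tt N52733 (iv5 F151016)) (tt N26233 (iv6 D89480)) (tt N84314 D187034))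
theorem Q49757 : ∀ i, i < 49757 → P i := stepQ 49756 Q49756 (allL N49756 (tt N55413 F292673) (tt N26234 (iv0 D89481)) (tt N50519 F292674) (tt N84315 D187035) (tt N26501 F292675) (tt N50921 F292676) (tt N84316 D187036) (tt N50920 F292677))
theorem Q49758 : ∀ i, i < 49758 → P i := stepQ 49757 Q49757 (allL N49757 (tt N26234 (iv1 D89482)) (tt N55413 (iv0 F292345)) (tt N50920 (iv2 F292181)) (tt N84317 D187037) (tt N28047 F137145) (tt N26493 F291470) (tt N84318 D187038) (tt N50519 (iv7 F292347)))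
theorem Q49759 : ∀ i, i < 49759 → P i := stepQ 49758 Q49758 (allL N49758 (tt N84319 D187039) (tt N84320 D187040) (tt N84321 D187041) (tt N26234 (iv3 D89483)) (tt N48591 F137146) (tt N84322 D187042) (tt N84173 (iv6 F368419)) (tt N84282 (iv7 F368793)))
theorem Q49760 : ∀ i, i < 49760 → P i := stepQ 49759 Q49759 (allL N49759 (tt N51440 F291717) (tt N55411 F291718) (tt N29376 (iv2 F292649)) (tt N84322 (iv3 F368887)) (tt N26496 F291719) (tt N26234 (iv5 D89484)) (tt N84323 D187043) (tt N50923 (iv7 F292730)))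
theorem Q49761 : ∀ i, i < 49761 → P i := stepQ 49760 Q49760 (allL N49760 (tt N48579 (iv1 F137154)) (tt N26237 (iv0 D89486)) (tt N48578 F335737) (tt N84324 D187044) (tt N82528 F335738) (tt N84325 D187045) (tt N82528 F335739) (tt N27944 F335740))
theorem Q49762 : ∀ i, i < 49762 → P i := stepQ 49761 Q49761 (allL N49761 (tt N84326 D187046) (tt N84327 D187047) (tt N80624 F356426) (tt N26238 F137165) (tt N84328 D187048) (tt N26237 (iv5 D89489)) (tt N84329 D187049) (tt N48580 F137166))
theorem Q49763 : ∀ i, i < 49763 → P i := stepQ 49762 Q49762 (allL N49762 (tt N84330 D187050) (tt N81494 (iv0 F331234)) (tt N80625 F356433) (tt N26239 F137167) (tt N26249 F137168) (tt N28751 (iv5 F137169)) (tt N26237 (iv6 D89490)) (tt N55316 (iv7 F343855)))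
theorem Q49764 : ∀ i, i < 49764 → P i := stepQ 49763 Q49763 (allL N49763 (tt N82718 (iv1 F283687)) (tt N82721 (iv0 F283693)) (tt N48576 F137170) (tt N84331 D187051) (tt N26238 (iv4 D89491)) (tt N48828 F137172) (tt N84332 D187052) (tt N48582 F137171))
theorem Q49765 : ∀ i, i < 49765 → P i := stepQ 49764 Q49764 (allL N49764 (tt N84333 D187053) (tt N84334 D187054) (tt N48577 F137173) (tt N84329 (iv3 F368921)) (tt N84332 (iv4 F368932)) (tt N28753 F137174) (tt N26238 (iv6 D89492)) (tt N84335 D187055))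
theorem Q49766 : ∀ i, i < 49766 → P i := stepQ 49765 Q49765 (allL N49765 (tt N83362 F343263) (tt N82803 (iv0 F336765)) (tt N84336 D187056) (tt N26241 (iv3 D89495)) (tt N26259 F137186) (tt N48824 F137187) (tt N51114 (iv6 F294642)) (tt N49110 F137188))
theorem Q49767 : ∀ i, i < 49767 → P i := stepQ 49766 Q49766 (allL N49766 (tt N26242 (iv1 D89496)) (tt N26605 F291262) (tt N26609 F291263) (tt N28480 (iv3 F137192)) (tt N48939 F137194) (tt N26779 (iv5 F292025)) (tt N26243 (iv6 F137195)) (tt N26610 (iv7 F291993)))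
theorem Q49768 : ∀ i, i < 49768 → P i := stepQ 49767 Q49767 (allL N49767 (tt N28022 (iv1 F137204)) (tt N26246 (iv0 D89498)) (tt N28028 F145299) (tt N49396 F137203) (tt N51488 (iv4 F145298)) (tt N47393 F346298) (tt N53676 (iv6 F367140)) (tt N28027 (iv7 F145300)))
theorem Q49769 : ∀ i, i < 49769 → P i := stepQ 49768 Q49768 (allL N49768 (tt N26246 (iv1 D89499)) (tt N28022 F137208) (tt N28027 (iv2 F145302)) (tt N83955 F367598) (tt N51500 (iv4 F145349)) (tt N84337 D187057) (tt N84002 F367774) (tt N28028 F145301))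
theorem Q49770 : ∀ i, i < 49770 → P i := stepQ 49769 Q49769 (allL N49769 (tt N28028 (iv1 F137209)) (tt N28027 F137207) (tt N26246 (iv2 D89500)) (tt N48771 F137205) (tt N50024 F138577) (tt N84338 D187058) (tt N83897 (iv6 F367439)) (tt N28022 F137206))
theorem Q49771 : ∀ i, i < 49771 → P i := stepQ 49770 Q49770 (allL N49770 (tt N84339 D187059) (tt N84340 D187060) (tt N84338 (iv2 F368963)) (tt N26247 F137210) (tt N84341 D187061) (tt N26246 (iv5 D89501)) (tt N84342 D187062) (tt N28029 F137211))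
theorem Q49772 : ∀ i, i < 49772 → P i := stepQ 49771 Q49771 (allL N49771 (tt N28889 F137215) (tt N49417 F137216) (tt N49718 F137212) (tt N84343 D187063) (tt N26247 (iv4 D89502)) (tt N28394 F137213) (tt N84344 D187064) (tt N28034 F137214))
theorem Q49773 : ∀ i, i < 49773 → P i := stepQ 49772 Q49772 (allL N49772 (tt N84345 D187065) (tt N64408 F356537) (tt N54719 (iv2 F157446)) (tt N84342 (iv3 F368989)) (tt N84344 (iv4 F368997)) (tt N83908 (iv5 F367455)) (tt N26247 (iv6 D89503)) (tt N84346 D187066))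
theorem Q49774 : ∀ i, i < 49774 → P i := stepQ 49773 Q49773 (allL N49773 (tt N44389 F335626) (tt N26248 (iv0 D89516)) (tt N54735 F335627) (tt N84347 D187067) (tt N84348 D187068) (tt N28978 F335628) (tt N69948 (iv6 F364410)) (tt N54733 F335629))
theorem Q49775 : ∀ i, i < 49775 → P i := stepQ 49774 Q49774 (allL N49774 (tt N26248 (iv1 D89517)) (tt N44389 F335630) (tt N54733 F335631) (tt N84349 D187069) (tt N79152 (iv4 F360251)) (tt N28979 F335632) (tt N64376 F335633) (tt N54735 F335634))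
theorem Q49776 : ∀ i, i < 49776 → P i := stepQ 49775 Q49775 (allL N49775 (tt N69928 (iv1 F363025)) (tt N69927 F363026) (tt N69929 F363024) (tt N84350 D187070) (tt N26248 (iv4 D89518)) (tt N64413 (iv5 F356509)) (tt N69950 F363022) (tt N68688 (iv7 F363023)))
theorem Q49777 : ∀ i, i < 49777 → P i := stepQ 49776 Q49776 (allL N49776 (tt N72258 F363017) (tt N72257 F363033) (tt N72260 (iv2 F363019)) (tt N26253 F137227) (tt N69950 (iv4 F363021)) (tt N81889 F364405) (tt N26248 (iv6 D89519)) (tt N59229 F363018))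
theorem Q49778 : ∀ i, i < 49778 → P i := stepQ 49777 Q49777 (allL N49777 (tt N80628 F335635) (tt N26249 (iv0 D89520)) (tt N28065 F335636) (tt N82795 F335637) (tt N49452 (iv4 F335668)) (tt N54804 F335638) (tt N28057 F335639) (tt N80626 F335640))
theorem Q49779 : ∀ i, i < 49779 → P i := stepQ 49778 Q49778 (allL N49778 (tt N26249 (iv1 D89521)) (tt N80628 F335641) (tt N80626 F335642) (tt N84351 D187071) (tt N49796 (iv4 F137266)) (tt N54805 F335643) (tt N72602 F345083) (tt N28065 F335644))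
theorem Q49780 : ∀ i, i < 49780 → P i := stepQ 49779 Q49779 (allL N49779 (tt N80626 F335646) (tt N28065 F335647) (tt N80628 F335648) (tt N26256 F137229) (tt N55316 (iv4 F343856)) (tt N81841 F335649) (tt N50847 F335650) (tt N26249 (iv7 D89523)))
theorem Q49781 : ∀ i, i < 49781 → P i := stepQ 49780 Q49780 (allL N49780 (tt N47393 F357756) (tt N84337 (iv0 F368961)) (tt N84352 D187072) (tt N26250 (iv3 D89524)) (tt N84353 D187073) (tt N28530 F137230) (tt N84354 D187074) (tt N54727 (iv7 F157478)))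
theorem Q49782 : ∀ i, i < 49782 → P i := stepQ 49781 Q49781 (allL N49781 (tt N49414 F137234) (tt N49409 F137235) (tt N49686 F137231) (tt N84355 D187075) (tt N26250 (iv4 D89525)) (tt N28881 F137233) (tt N84356 D187076) (tt N49687 F137232))
theorem Q49783 : ∀ i, i < 49783 → P i := stepQ 49782 Q49782 (allL N49782 (tt N84357 D187077) (tt N69944 (iv0 F354735)) (tt N54732 (iv2 F157500)) (tt N84354 (iv3 F369038)) (tt N84356 (iv4 F369044)) (tt N28532 F137236) (tt N26250 (iv6 D89526)) (tt N84358 D187078))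
theorem Q49784 : ∀ i, i < 49784 → P i := stepQ 49783 Q49783 (allL N49783 (tt N49409 F137241) (tt N49414 F137242) (tt N49687 F137238) (tt N51656 (iv3 F348023)) (tt N26251 (iv4 D89528)) (tt N28882 F137239) (tt N51654 F348021) (tt N49686 F137240))
theorem Q49785 : ∀ i, i < 49785 → P i := stepQ 49784 Q49784 (allL N49784 (tt N84359 D187079) (tt N84360 D187080) (tt N84361 D187081) (tt N26252 (iv3 D89530)) (tt N84350 (iv4 F369025)) (tt N28922 F137244) (tt N84362 D187082) (tt N83887 (iv7 F367378)))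
theorem Q49786 : ∀ i, i < 49786 → P i := stepQ 49785 Q49785 (allL N49785 (tt N84213 F368535) (tt N84215 (iv0 F368539)) (tt N83878 (iv2 F367338)) (tt N84362 (iv3 F369051)) (tt N26253 F137245) (tt N84363 D187083) (tt N26252 (iv6 D89531)) (tt N84364 D187084))
theorem Q49787 : ∀ i, i < 49787 → P i := stepQ 49786 Q49786 (allL N49786 (tt N83882 (iv1 F367355)) (tt N26253 (iv0 D89532)) (tt N83879 F367342) (tt N84365 D187085) (tt N58645 (iv4 F362581)) (tt N84366 D187086) (tt N58644 F362580) (tt N83880 (iv7 F367346)))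
theorem Q49788 : ∀ i, i < 49788 → P i := stepQ 49787 Q49787 (allL N49787 (tt N26253 (iv1 D89533)) (tt N83882 F367354) (tt N83880 F367347) (tt N84367 D187087) (tt N84368 D187088) (tt N84369 D187089) (tt N84370 D187090) (tt N83879 F367344))
theorem Q49789 : ∀ i, i < 49789 → P i := stepQ 49788 Q49788 (allL N49788 (tt N84371 D187091) (tt N84372 D187092) (tt N83881 (iv2 F367348)) (tt N81889 (iv3 F364404)) (tt N84373 D187093) (tt N26253 (iv5 D89534)) (tt N26255 F137246) (tt N84374 D187094))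
theorem Q49790 : ∀ i, i < 49790 → P i := stepQ 49789 Q49789 (allL N49789 (tt N83880 (iv1 F367345)) (tt N83879 (iv0 F367343)) (tt N83882 (iv2 F367351)) (tt N59229 (iv3 F363020)) (tt N84364 (iv4 F369054)) (tt N84374 (iv5 F369063)) (tt N59227 F363031) (tt N26253 (iv7 D89535)))
theorem Q49791 : ∀ i, i < 49791 → P i := stepQ 49790 Q49790 (allL N49790 (tt N48619 F137248) (tt N59824 F340560) (tt N83535 (iv2 F287741)) (tt N26254 (iv3 D89536)) (tt N84375 D187095) (tt N54812 (iv5 F157911)) (tt N53794 F154636) (tt N28103 F137247))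
theorem Q49792 : ∀ i, i < 49792 → P i := stepQ 49791 Q49791 (allL N49791 (tt N26255 (iv1 D89537)) (tt N28385 F137249) (tt N28387 (iv2 F137252)) (tt N49176 (iv3 F137253)) (tt N54613 (iv4 F157148)) (tt N26406 F291466) (tt N84376 D187096) (tt N28197 F137250))
theorem Q49793 : ∀ i, i < 49793 → P i := stepQ 49792 Q49792 (allL N49792 (tt N27925 F137255) (tt N28934 F137256) (tt N28952 F137254) (tt N84377 D187097) (tt N26255 (iv4 D89538)) (tt N84378 D187098) (tt N84373 (iv6 F369062)) (tt N28951 F137262))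
theorem Q49794 : ∀ i, i < 49794 → P i := stepQ 49793 Q49793 (allL N49793 (tt N28387 (iv1 F137259)) (tt N28197 F137260) (tt N28385 F137257) (tt N81841 F362122) (tt N28951 (iv4 F137261)) (tt N26256 F137258) (tt N84379 D187099) (tt N26255 (iv7 D89539)))
theorem Q49795 : ∀ i, i < 49795 → P i := stepQ 49794 Q49794 (allL N49794 (tt N83686 F288488) (tt N84380 D187100) (tt N52449 F342532) (tt N26257 (iv3 D89540)) (tt N49794 F137263) (tt N40962 F334878) (tt N50852 (iv6 F292709)) (tt N28194 F137264))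
theorem Q49796 : ∀ i, i < 49796 → P i := stepQ 49795 Q49795 (allL N49795 (tt N83899 (iv1 F369094)) (tt N84381 D187102) (tt N84382 D187103) (tt N26258 (iv3 D89541)) (tt N51094 (iv4 F143482)) (tt N53442 (iv5 F153703)) (tt N51095 (iv6 F292682)) (tt N28187 F137265))
theorem Q49797 : ∀ i, i < 49797 → P i := stepQ 49796 Q49796 (allL N49796 (tt N64315 F356403) (tt N26259 (iv0 D89542)) (tt N54670 F343258) (tt N70973 F343259) (tt N49778 F137266) (tt N53454 F343260) (tt N40136 F343261) (tt N51125 F343262))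
theorem Q49798 : ∀ i, i < 49798 → P i := stepQ 49797 Q49797 (allL N49797 (tt N54670 (iv1 F357223)) (tt N51125 F357224) (tt N26259 (iv2 D89544)) (tt N83884 (iv3 F367359)) (tt N84336 (iv4 F368952)) (tt N65010 (iv5 F357225)) (tt N84383 D187104) (tt N64315 F357222))
theorem Q49799 : ∀ i, i < 49799 → P i := stepQ 49798 Q49798 (allL N49798 (tt N28971 F343264) (tt N28397 F343265) (tt N65010 F357226) (tt N26260 F137268) (tt N84384 D187105) (tt N26259 (iv5 D89545)) (tt N71102 F343226) (tt N65011 F357228))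
theorem Q49800 : ∀ i, i < 49800 → P i := stepQ 49799 Q49799 (allL N49799 (tt N28062 F336646) (tt N72602 F345084) (tt N84383 (iv2 F369098)) (tt N26261 F137269) (tt N51114 (iv4 F294640)) (tt N84385 D187106) (tt N26259 (iv6 D89546)) (tt N26626 (iv7 F292901)))
theorem Q49801 : ∀ i, i < 49801 → P i := stepQ 49800 Q49800 (allL N49800 (tt N84386 D187107) (tt N84387 D187108) (tt N83886 (iv2 F367374)) (tt N71102 (iv3 F343227)) (tt N28921 F137270) (tt N84388 D187109) (tt N26260 (iv6 D89547)) (tt N84389 D187110))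
theorem Q49802 : ∀ i, i < 49802 → P i := stepQ 49801 Q49801 (allL N49801 (tt N28225 F137273) (tt N28227 F137274) (tt N26643 (iv2 F292300)) (tt N84385 (iv3 F369106)) (tt N55325 (iv4 F159461)) (tt N26261 (iv5 D89548)) (tt N84388 (iv6 F369113)) (tt N26627 (iv7 F292903)))
theorem Q49803 : ∀ i, i < 49803 → P i := stepQ 49802 Q49802 (allL N49802 (tt N55767 F290554) (tt N55770 F290555) (tt N61015 F290556) (tt N26262 (iv3 D89549)) (tt N29164 (iv4 F290572)) (tt N61178 F290557) (tt N26458 (iv6 F290574)) (tt N29055 F137276))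
theorem Q49804 : ∀ i, i < 49804 → P i := stepQ 49803 Q49803 (allL N49803 (tt N26824 (iv1 F290602)) (tt N26821 (iv0 F290603)) (tt N26640 (iv2 F290607)) (tt N61178 F290597) (tt N84390 D187111) (tt N26262 (iv5 D89550)) (tt N84391 D187112) (tt N29056 F137278))
theorem Q49805 : ∀ i, i < 49805 → P i := stepQ 49804 Q49804 (allL N49804 (tt N26265 (iv1 D89553)) (tt N50748 F142232) (tt N50747 (iv2 F349333)) (tt N50776 F289377) (tt N77566 F349330) (tt N63758 F349331) (tt N50776 (iv6 F349335)) (tt N28130 F349332))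
theorem Q49806 : ∀ i, i < 49806 → P i := stepQ 49805 Q49805 (allL N49805 (tt N28130 F337228) (tt N50747 F142225) (tt N26265 (iv2 D89554)) (tt N50752 (iv3 F142253)) (tt N26274 F137285) (tt N63014 F340077) (tt N76193 (iv6 F340076)) (tt N50748 (iv7 F142230)))
theorem Q49807 : ∀ i, i < 49807 → P i := stepQ 49806 Q49806 (allL N49806 (tt N84392 D187113) (tt N84393 D187114) (tt N76193 (iv2 F340072)) (tt N26267 F137287) (tt N26276 F137288) (tt N50418 (iv5 F139680)) (tt N26265 (iv6 D89556)) (tt N28554 F290889))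
theorem Q49808 : ∀ i, i < 49808 → P i := stepQ 49807 Q49807 (allL N49807 (tt N82746 (iv1 F283812)) (tt N51013 (iv0 F143266)) (tt N50753 (iv2 F142258)) (tt N41599 F321003) (tt N26266 (iv4 D89557)) (tt N50231 (iv5 F139292)) (tt N41598 F321004) (tt N47475 F321778))
theorem Q49809 : ∀ i, i < 49809 → P i := stepQ 49808 Q49808 (allL N49808 (tt N84394 D187115) (tt N84395 D187116) (tt N84396 D187117) (tt N26270 (iv3 D89561)) (tt N26281 F137300) (tt N50233 (iv5 F139295)) (tt N26393 F137301) (tt N83874 (iv7 F367320)))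
theorem Q49810 : ∀ i, i < 49810 → P i := stepQ 49809 Q49809 (allL N49809 (tt N29042 (iv1 F137311)) (tt N64427 (iv0 F306481)) (tt N73888 F337215) (tt N48693 F137309) (tt N75957 (iv4 F333330)) (tt N26273 (iv5 D89563)) (tt N75956 (iv6 F356478)) (tt N28150 F137310))
theorem Q49811 : ∀ i, i < 49811 → P i := stepQ 49810 Q49810 (allL N49810 (tt N77542 F356437) (tt N26275 (iv0 D89566)) (tt N54801 (iv2 F286032)) (tt N84397 D187118) (tt N62314 F337122) (tt N50796 (iv5 F293392)) (tt N62313 F359687) (tt N54800 (iv7 F286033)))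
theorem Q49812 : ∀ i, i < 49812 → P i := stepQ 49811 Q49811 (allL N49811 (tt N26275 (iv1 D89567)) (tt N77542 F340086) (tt N54800 F286028) (tt N48888 F286029) (tt N72811 (iv4 F360912)) (tt N28506 F286030) (tt N75666 (iv6 F360915)) (tt N54801 F286031))
theorem Q49813 : ∀ i, i < 49813 → P i := stepQ 49812 Q49812 (allL N49812 (tt N72250 F337115) (tt N43695 F337116) (tt N44388 F337117) (tt N26278 F137314) (tt N75999 F337118) (tt N44387 F337119) (tt N26275 (iv6 D89569)) (tt N72248 F337120))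
theorem Q49814 : ∀ i, i < 49814 → P i := stepQ 49813 Q49813 (allL N49813 (tt N51097 (iv1 F329246)) (tt N26276 (iv0 D89570)) (tt N44057 F328862) (tt N84398 D187119) (tt N84399 D187120) (tt N40127 F328863) (tt N54765 F286040) (tt N28163 F286041))
theorem Q49815 : ∀ i, i < 49815 → P i := stepQ 49814 Q49814 (allL N49814 (tt N26276 (iv1 D89571)) (tt N51097 (iv0 F329245)) (tt N28163 (iv2 F137318)) (tt N29194 F293199) (tt N27133 (iv4 F137316)) (tt N34360 F328867) (tt N26661 F294852) (tt N44057 F328868))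
theorem Q49816 : ∀ i, i < 49816 → P i := stepQ 49815 Q49815 (allL N49815 (tt N75897 F337125) (tt N75896 (iv0 F337136)) (tt N84400 D187121) (tt N26277 (iv3 D89574)) (tt N65193 F337112) (tt N28920 F137322) (tt N52324 (iv6 F337137)) (tt N77550 F353150))
theorem Q49817 : ∀ i, i < 49817 → P i := stepQ 49816 Q49816 (allL N49816 (tt N84241 F368657) (tt N80026 (iv0 F360930)) (tt N83888 (iv2 F367379)) (tt N52324 F337147) (tt N26278 F137323) (tt N81649 (iv5 F353334)) (tt N26277 (iv6 D89575)) (tt N84401 D187122))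
theorem Q49818 : ∀ i, i < 49818 → P i := stepQ 49817 Q49817 (allL N49817 (tt N59227 F361771) (tt N26278 (iv0 D89576)) (tt N83889 (iv2 F367403)) (tt N84402 D187123) (tt N84046 (iv4 F367907)) (tt N59283 F356538) (tt N69942 F361770) (tt N83890 (iv7 F367405)))
theorem Q49819 : ∀ i, i < 49819 → P i := stepQ 49818 Q49818 (allL N49818 (tt N26278 (iv1 D89577)) (tt N59227 (iv0 F342225)) (tt N83890 (iv2 F367407)) (tt N47424 F342221) (tt N51711 (iv4 F363175)) (tt N53583 (iv5 F154055)) (tt N51710 (iv6 F301800)) (tt N83889 F367402))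
theorem Q49820 : ∀ i, i < 49820 → P i := stepQ 49819 Q49819 (allL N49819 (tt N59225 F329723) (tt N59224 F329724) (tt N31572 F329725) (tt N44387 F329726) (tt N57813 F329727) (tt N26278 (iv5 D89578)) (tt N26280 F137324) (tt N59226 F329728))
theorem Q49821 : ∀ i, i < 49821 → P i := stepQ 49820 Q49820 (allL N49820 (tt N83890 (iv1 F367404)) (tt N83889 F367401) (tt N59227 F361772) (tt N72248 (iv3 F361773)) (tt N84401 (iv4 F369169)) (tt N59226 (iv5 F361774)) (tt N83882 (iv6 F367353)) (tt N26278 (iv7 D89579)))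
theorem Q49822 : ∀ i, i < 49822 → P i := stepQ 49821 Q49821 (allL N49821 (tt N29209 F294728) (tt N83909 (iv0 F367460)) (tt N83177 (iv2 F286179)) (tt N26279 (iv3 D89580)) (tt N49962 (iv4 F138086)) (tt N53194 (iv5 F152925)) (tt N54695 F157429) (tt N28182 F137325))
theorem Q49823 : ∀ i, i < 49823 → P i := stepQ 49822 Q49822 (allL N49822 (tt N28464 F137334) (tt N28460 F137335) (tt N51039 (iv2 F292916)) (tt N43872 F329722) (tt N26280 (iv4 D89582)) (tt N50831 (iv5 F349182)) (tt N57813 (iv6 F364386)) (tt N51036 (iv7 F292697)))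
theorem Q49824 : ∀ i, i < 49824 → P i := stepQ 49823 Q49823 (allL N49823 (tt N83884 (iv1 F367362)) (tt N26281 (iv0 D89584)) (tt N28165 (iv2 F137342)) (tt N80135 F331221) (tt N84403 D187124) (tt N53436 (iv5 F153688)) (tt N26660 F294850) (tt N54765 (iv7 F157694)))
theorem Q49825 : ∀ i, i < 49825 → P i := stepQ 49824 Q49824 (allL N49824 (tt N26281 (iv1 D89585)) (tt N83884 F367363) (tt N54765 (iv2 F157693)) (tt N48605 (iv3 F137340)) (tt N84404 D187125) (tt N53437 F153696) (tt N44057 F328904) (tt N28165 F137341))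
theorem Q49826 : ∀ i, i < 49826 → P i := stepQ 49825 Q49825 (allL N49825 (tt N28165 F157697) (tt N54765 F157696) (tt N26281 (iv2 D89586)) (tt N64315 F356404) (tt N84396 (iv4 F369141)) (tt N84405 D187126) (tt N28147 F137344) (tt N83884 (iv7 F367361)))
theorem Q49827 : ∀ i, i < 49827 → P i := stepQ 49826 Q49826 (allL N49826 (tt N28483 F137346) (tt N29021 F139329) (tt N84405 (iv2 F369184)) (tt N26282 F137345) (tt N84406 D187127) (tt N26281 (iv5 D89587)) (tt N84407 D187128) (tt N83885 (iv7 F367368)))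
theorem Q49828 : ∀ i, i < 49828 → P i := stepQ 49827 Q49827 (allL N49827 (tt N84408 D187129) (tt N84409 D187130) (tt N83891 (iv2 F367409)) (tt N84407 (iv3 F369191)) (tt N28923 F137347) (tt N83700 (iv5 F288579)) (tt N26282 (iv6 D89588)) (tt N84410 D187131))
theorem Q49829 : ∀ i, i < 49829 → P i := stepQ 49828 Q49828 (allL N49828 (tt N84411 D187132) (tt N28552 F295344) (tt N84412 D187133) (tt N26283 (iv3 D89589)) (tt N50432 (iv4 F139707)) (tt N53673 F349150) (tt N51432 (iv6 F291267)) (tt N51100 (iv7 F291247)))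
theorem Q49830 : ∀ i, i < 49830 → P i := stepQ 49829 Q49829 (allL N49829 (tt N26284 (iv1 D89592)) (tt N27942 F137349) (tt N29316 F137353) (tt N27177 F291024) (tt N27567 (iv4 F291571)) (tt N28375 (iv5 F137352)) (tt N27260 (iv6 F291573)) (tt N28374 F137350))
theorem Q49831 : ∀ i, i < 49831 → P i := stepQ 49830 Q49830 (allL N49830 (tt N84413 D187134) (tt N84414 D187135) (tt N64314 (iv2 F364394)) (tt N26286 F137362) (tt N84415 D187136) (tt N26285 (iv5 D89597)) (tt N84416 D187137) (tt N64316 (iv7 F335609)))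
theorem Q49832 : ∀ i, i < 49832 → P i := stepQ 49831 Q49831 (allL N49831 (tt N26289 (iv1 F137364)) (tt N26286 (iv0 D89598)) (tt N28448 (iv2 F137365)) (tt N84417 D187138) (tt N84418 D187139) (tt N26630 F137363) (tt N84419 D187140) (tt N50210 F291435))
theorem Q49833 : ∀ i, i < 49833 → P i := stepQ 49832 Q49832 (allL N49832 (tt N26286 (iv1 D89599)) (tt N26289 F137366) (tt N50210 F291665) (tt N83564 (iv3 F287796)) (tt N84420 D187141) (tt N26675 F291666) (tt N84014 (iv6 F367801)) (tt N28448 F137367))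
theorem Q49834 : ∀ i, i < 49834 → P i := stepQ 49833 Q49833 (allL N49833 (tt N84287 (iv1 F368810)) (tt N55417 F365799) (tt N83699 (iv2 F288575)) (tt N80516 F365798) (tt N26286 (iv4 D89600)) (tt N51440 (iv5 F365797)) (tt N84421 D187142) (tt N83701 (iv7 F288593)))
theorem Q49835 : ∀ i, i < 49835 → P i := stepQ 49834 Q49834 (allL N49834 (tt N84422 D187143) (tt N84423 D187144) (tt N83700 (iv2 F288578)) (tt N84416 (iv3 F369214)) (tt N84421 (iv4 F369232)) (tt N83891 (iv5 F367411)) (tt N26286 (iv6 D89601)) (tt N84424 D187145))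
theorem Q49836 : ∀ i, i < 49836 → P i := stepQ 49835 Q49835 (allL N49835 (tt N50733 F353184) (tt N84425 D187146) (tt N84426 D187147) (tt N26287 (iv3 D89606)) (tt N49919 (iv4 F350464)) (tt N84427 D187148) (tt N51096 (iv6 F291246)) (tt N51274 (iv7 F291391)))
theorem Q49837 : ∀ i, i < 49837 → P i := stepQ 49836 Q49836 (allL N49836 (tt N26487 F290704) (tt N26490 (iv0 F290938)) (tt N50906 (iv2 F290984)) (tt N84427 (iv3 F369243)) (tt N55411 F290705) (tt N26287 (iv5 D89607)) (tt N84428 D187149) (tt N50905 (iv7 F290983)))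
theorem Q49838 : ∀ i, i < 49838 → P i := stepQ 49837 Q49837 (allL N49837 (tt N84429 D187150) (tt N83506 (iv0 F287690)) (tt N83957 (iv2 F367606)) (tt N26289 F137393) (tt N84430 D187151) (tt N26288 (iv5 D89611)) (tt N84431 D187152) (tt N83698 (iv7 F288568)))
theorem Q49839 : ∀ i, i < 49839 → P i := stepQ 49838 Q49838 (allL N49838 (tt N53725 (iv1 F283725)) (tt N48790 (iv0 F142412)) (tt N83958 (iv2 F367610)) (tt N26290 F137394) (tt N50779 (iv4 F142407)) (tt N84432 D187153) (tt N26288 (iv6 D89612)) (tt N26642 (iv7 F291252)))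
theorem Q49840 : ∀ i, i < 49840 → P i := stepQ 49839 Q49839 (allL N49839 (tt N55417 (iv1 F365800)) (tt N84287 (iv0 F368809)) (tt N83701 (iv2 F288592)) (tt N84433 D187154) (tt N26289 (iv4 D89613)) (tt N55411 (iv5 F365794)) (tt N84434 D187155) (tt N83699 (iv7 F288576)))
theorem Q49841 : ∀ i, i < 49841 → P i := stepQ 49840 Q49840 (allL N49840 (tt N84435 D187156) (tt N84436 D187157) (tt N83702 (iv2 F288595)) (tt N84431 (iv3 F369250)) (tt N84434 (iv4 F369256)) (tt N84437 D187158) (tt N26289 (iv6 D89614)) (tt N84438 D187159))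
theorem Q49842 : ∀ i, i < 49842 → P i := stepQ 49841 Q49841 (allL N49841 (tt N28227 F137398) (tt N28225 F137397) (tt N26627 (iv2 F292902)) (tt N84432 (iv3 F369252)) (tt N55326 (iv4 F159467)) (tt N26290 (iv5 D89615)) (tt N84437 (iv6 F369258)) (tt N26643 (iv7 F292301)))
theorem Q49843 : ∀ i, i < 49843 → P i := stepQ 49842 Q49842 (allL N49842 (tt N29070 (iv1 F137433)) (tt N26291 (iv0 D89645)) (tt N29068 (iv2 F137430)) (tt N51616 (iv3 F146904)) (tt N31811 (iv4 F323921)) (tt N45461 F296276) (tt N45449 (iv6 F297260)) (tt N29069 (iv7 F137431)))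
theorem Q49844 : ∀ i, i < 49844 → P i := stepQ 49843 Q49843 (allL N49843 (tt N26292 (iv1 D89648)) (tt N27262 (iv0 F292628)) (tt N27261 (iv2 F292633)) (tt N84439 D187160) (tt N27544 (iv4 F293176)) (tt N49331 F292598) (tt N50727 F292076) (tt N26388 (iv7 F292635)))
theorem Q49845 : ∀ i, i < 49845 → P i := stepQ 49844 Q49844 (allL N49844 (tt N26388 (iv1 F292634)) (tt N27261 (iv0 F292632)) (tt N26292 (iv2 D89649)) (tt N27269 (iv3 F292643)) (tt N27877 (iv4 F293175)) (tt N83732 (iv5 F331405)) (tt N84440 D187161) (tt N27262 (iv7 F292629)))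
theorem Q49846 : ∀ i, i < 49846 → P i := stepQ 49845 Q49845 (allL N49845 (tt N60203 (iv1 F331397)) (tt N83729 F331401) (tt N83732 F331414) (tt N26293 F137445) (tt N83737 (iv4 F288981)) (tt N26292 (iv5 D89650)) (tt N60189 F291540) (tt N27263 F291541))
theorem Q49847 : ∀ i, i < 49847 → P i := stepQ 49846 Q49846 (allL N49846 (tt N60829 F290836) (tt N60833 F290837) (tt N84440 (iv2 F369263)) (tt N26294 F137447) (tt N27879 (iv4 F291300)) (tt N54750 F290838) (tt N26292 (iv6 D89651)) (tt N82744 F290839))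
theorem Q49848 : ∀ i, i < 49848 → P i := stepQ 49847 Q49847 (allL N49847 (tt N84441 D187162) (tt N84442 D187163) (tt N27272 F291542) (tt N60189 F291543) (tt N49354 F137449) (tt N54751 F291544) (tt N26293 (iv6 D89652)) (tt N84443 D187164))
theorem Q49849 : ∀ i, i < 49849 → P i := stepQ 49848 Q49848 (allL N49848 (tt N29080 (iv1 F137477)) (tt N26295 (iv0 D89658)) (tt N29079 F293629) (tt N45131 (iv3 F292585)) (tt N84444 D187165) (tt N84445 D187166) (tt N45127 F292540) (tt N29078 F293630))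
theorem Q49850 : ∀ i, i < 49850 → P i := stepQ 49849 Q49849 (allL N49849 (tt N26295 (iv1 D89659)) (tt N29080 F137481) (tt N29078 F293631) (tt N84446 D187167) (tt N53355 (iv4 F293633)) (tt N84447 D187168) (tt N26528 F292541) (tt N29079 F293632))
theorem Q49851 : ∀ i, i < 49851 → P i := stepQ 49850 Q49850 (allL N49850 (tt N29079 (iv1 F137482)) (tt N29078 F137480) (tt N26295 (iv2 D89660)) (tt N29085 F137478) (tt N29028 (iv4 F293617)) (tt N51546 F292542) (tt N83640 F292543) (tt N29080 F137479))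
theorem Q49852 : ∀ i, i < 49852 → P i := stepQ 49851 Q49851 (allL N49851 (tt N29085 (iv1 F137494)) (tt N26296 (iv0 D89668)) (tt N29084 F350503) (tt N84448 D187169) (tt N55530 F350504) (tt N84449 D187170) (tt N50953 F350505) (tt N29083 F350506))
theorem Q49853 : ∀ i, i < 49853 → P i := stepQ 49852 Q49852 (allL N49852 (tt N26296 (iv1 D89669)) (tt N29085 F137499) (tt N29083 F350507) (tt N83681 (iv3 F350509)) (tt N55586 F350510) (tt N84450 D187171) (tt N84451 D187172) (tt N29084 F350508))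
theorem Q49854 : ∀ i, i < 49854 → P i := stepQ 49853 Q49853 (allL N49853 (tt N29084 (iv1 F137500)) (tt N29083 F137498) (tt N26296 (iv2 D89670)) (tt N29080 F137495) (tt N48521 F137496) (tt N51555 F292528) (tt N45159 (iv6 F293599)) (tt N29085 F137497))
theorem Q49855 : ∀ i, i < 49855 → P i := stepQ 49854 Q49854 (allL N49854 (tt N84445 F369308) (tt N84447 (iv0 F369316)) (tt N84452 D187173) (tt N26297 (iv3 D89685)) (tt N84453 D187174) (tt N26771 F137617) (tt N84454 D187175) (tt N27242 (iv7 F292782)))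
theorem Q49856 : ∀ i, i < 49856 → P i := stepQ 49855 Q49855 (allL N49855 (tt N84455 D187176) (tt N84456 D187177) (tt N27249 (iv2 F292789)) (tt N84454 (iv3 F369353)) (tt N44709 F137620) (tt N49236 F292648) (tt N26297 (iv6 D89686)) (tt N84457 D187178))
theorem Q49857 : ∀ i, i < 49857 → P i := stepQ 49856 Q49856 (allL N49856 (tt N84449 (iv1 F369325)) (tt N84450 (iv0 F369330)) (tt N84458 D187179) (tt N26298 (iv3 D89687)) (tt N84459 D187180) (tt N26773 F137621) (tt N84460 D187181) (tt N27247 (iv7 F292788)))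
theorem Q49858 : ∀ i, i < 49858 → P i := stepQ 49857 Q49857 (allL N49857 (tt N84461 D187182) (tt N84462 D187183) (tt N27244 (iv2 F292786)) (tt N84460 (iv3 F369396)) (tt N78658 (iv4 F250137)) (tt N26598 F292647) (tt N26298 (iv6 D89688)) (tt N84463 D187184))
theorem Q49859 : ∀ i, i < 49859 → P i := stepQ 49858 Q49858 (allL N49858 (tt N81656 (iv1 F276296)) (tt N26299 (iv0 D89689)) (tt N81654 F364457) (tt N84464 D187185) (tt N52141 (iv4 F343054)) (tt N84465 D187186) (tt N84466 D187187) (tt N81655 (iv7 F364460)))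
theorem Q49860 : ∀ i, i < 49860 → P i := stepQ 49859 Q49859 (allL N49859 (tt N26299 (iv1 D89690)) (tt N81656 F276295) (tt N81655 F364459) (tt N58936 F347539) (tt N50530 F343052) (tt N84467 D187188) (tt N58935 (iv6 F361703)) (tt N81654 F364458))
theorem Q49861 : ∀ i, i < 49861 → P i := stepQ 49860 Q49860 (allL N49860 (tt N81655 (iv1 F276288)) (tt N81654 F276294) (tt N81656 (iv2 F276291)) (tt N83680 F355649) (tt N80664 (iv4 F270262)) (tt N55416 (iv5 F355648)) (tt N29098 F137624) (tt N26299 (iv7 D89691)))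
theorem Q49862 : ∀ i, i < 49862 → P i := stepQ 49861 Q49861 (allL N49861 (tt N48888 F137627) (tt N51680 F292364) (tt N26305 F137625) (tt N75043 (iv3 F356597)) (tt N75452 F356615) (tt N26300 (iv5 D89692)) (tt N84468 D187189) (tt N26309 F137626))
theorem Q49863 : ∀ i, i < 49863 → P i := stepQ 49862 Q49862 (allL N49862 (tt N51680 F292363) (tt N48888 (iv0 F137634)) (tt N26309 F137632) (tt N75664 (iv3 F345997)) (tt N46238 F333967) (tt N26301 (iv5 D89694)) (tt N43699 F309396) (tt N26305 F137633))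
theorem Q49864 : ∀ i, i < 49864 → P i := stepQ 49863 Q49863 (allL N49863 (tt N26302 (iv1 D89701)) (tt N27956 (iv0 F291139)) (tt N27005 F137659) (tt N27561 F291059) (tt N27183 F291060) (tt N27070 F291061) (tt N27004 (iv6 F137657)) (tt N26781 F291062))
theorem Q49865 : ∀ i, i < 49865 → P i := stepQ 49864 Q49864 (allL N49864 (tt N83956 (iv1 F367601)) (tt N83955 F367597) (tt N83875 (iv2 F367321)) (tt N26303 (iv3 D89703)) (tt N27426 F137664) (tt N76950 F357339) (tt N48595 F137665) (tt N27415 F137666))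
theorem Q49866 : ∀ i, i < 49866 → P i := stepQ 49865 Q49865 (allL N49865 (tt N84347 F369010) (tt N84469 D187190) (tt N76100 F345992) (tt N26305 F137674) (tt N33746 F345993) (tt N26304 (iv5 D89707)) (tt N33744 F345994) (tt N75664 F345995))
theorem Q49867 : ∀ i, i < 49867 → P i := stepQ 49866 Q49866 (allL N49866 (tt N82795 (iv1 F346020)) (tt N83478 F346049) (tt N76101 (iv2 F346037)) (tt N26306 F137675) (tt N28912 F137676) (tt N75867 F335595) (tt N26304 (iv6 D89708)) (tt N48609 (iv7 F137677)))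
theorem Q49868 : ∀ i, i < 49868 → P i := stepQ 49867 Q49867 (allL N49867 (tt N26309 (iv1 F137679)) (tt N26305 (iv0 D89709)) (tt N48888 (iv2 F137680)) (tt N84470 D187191) (tt N84471 D187192) (tt N27662 F291576) (tt N84472 D187193) (tt N51680 F291577))
theorem Q49869 : ∀ i, i < 49869 → P i := stepQ 49868 Q49868 (allL N49868 (tt N26305 (iv1 D89710)) (tt N26309 F137681) (tt N51680 F291568) (tt N54801 (iv3 F157852)) (tt N84473 D187194) (tt N27661 F291569) (tt N72809 F359697) (tt N48888 F137682))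
theorem Q49870 : ∀ i, i < 49870 → P i := stepQ 49869 Q49869 (allL N49869 (tt N84474 D187195) (tt N84475 D187196) (tt N84468 (iv2 F369415)) (tt N33744 F345998) (tt N67841 (iv4 F346000)) (tt N84476 D187197) (tt N26305 (iv6 D89712)) (tt N84477 D187198))
theorem Q49871 : ∀ i, i < 49871 → P i := stepQ 49870 Q49870 (allL N49870 (tt N27346 F137686) (tt N48834 F137687) (tt N48620 F137684) (tt N75867 F346055) (tt N48831 F137688) (tt N26306 (iv5 D89713)) (tt N84476 (iv6 F369449)) (tt N48610 F137685))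
theorem Q49872 : ∀ i, i < 49872 → P i := stepQ 49871 Q49871 (allL N49871 (tt N51795 (iv1 F367178)) (tt N84478 D187199) (tt N84479 D187200) (tt N26307 (iv3 D89718)) (tt N51355 F367176) (tt N84480 D187201) (tt N50623 (iv6 F140350)) (tt N49925 (iv7 F367175)))
theorem Q49873 : ∀ i, i < 49873 → P i := stepQ 49872 Q49872 (allL N49872 (tt N27316 F293442) (tt N27319 F293443) (tt N46223 F328299) (tt N84480 (iv3 F369466)) (tt N46237 (iv4 F328689)) (tt N26307 (iv5 D89719)) (tt N79565 F328300) (tt N49926 F293446))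
theorem Q49874 : ∀ i, i < 49874 → P i := stepQ 49873 Q49873 (allL N49873 (tt N62740 F346297) (tt N54731 (iv0 F286184)) (tt N75044 F356590) (tt N26309 F137718) (tt N74457 (iv4 F346301)) (tt N26308 (iv5 D89723)) (tt N84481 D187202) (tt N75043 (iv7 F356599)))
theorem Q49875 : ∀ i, i < 49875 → P i := stepQ 49874 Q49874 (allL N49874 (tt N83177 (iv1 F286182)) (tt N28182 (iv0 F139759)) (tt N83909 (iv2 F367456)) (tt N26310 F137719) (tt N51880 (iv4 F147375)) (tt N84482 D187203) (tt N26308 (iv6 D89724)) (tt N29209 (iv7 F293852)))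
theorem Q49876 : ∀ i, i < 49876 → P i := stepQ 49875 Q49875 (allL N49875 (tt N55589 F345959) (tt N82013 F345960) (tt N46238 F345961) (tt N75176 F345962) (tt N26309 (iv4 D89725)) (tt N46237 F345963) (tt N66940 (iv6 F345970)) (tt N75452 F345964))
theorem Q49877 : ∀ i, i < 49877 → P i := stepQ 49876 Q49876 (allL N49876 (tt N43702 F345953) (tt N35342 F345954) (tt N43699 F345955) (tt N84481 (iv3 F369469)) (tt N66940 (iv4 F345968)) (tt N84483 D187204) (tt N26309 (iv6 D89726)) (tt N43700 F345956))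
theorem Q49878 : ∀ i, i < 49878 → P i := stepQ 49877 Q49877 (allL N49877 (tt N29339 F137723) (tt N29338 F137722) (tt N29196 (iv2 F293858)) (tt N84482 (iv3 F369473)) (tt N51218 (iv4 F144135)) (tt N26310 (iv5 D89727)) (tt N84483 (iv6 F369478)) (tt N29210 (iv7 F293854)))
theorem Q49879 : ∀ i, i < 49879 → P i := stepQ 49878 Q49878 (allL N49878 (tt N26831 (iv1 F137748)) (tt N26311 (iv0 D89756)) (tt N26589 (iv2 F137749)) (tt N84484 D187205) (tt N84178 (iv4 F368428)) (tt N26450 F137747) (tt N84177 F368425) (tt N29058 (iv7 F291095)))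
theorem Q49880 : ∀ i, i < 49880 → P i := stepQ 49879 Q49879 (allL N49879 (tt N26311 (iv1 D89757)) (tt N26831 F137750) (tt N29058 (iv2 F291094)) (tt N84485 D187206) (tt N84191 (iv4 F368470)) (tt N26590 F137752) (tt N84486 D187207) (tt N26589 F137751))
theorem Q49881 : ∀ i, i < 49881 → P i := stepQ 49880 Q49880 (allL N49880 (tt N84390 (iv1 F369120)) (tt N84378 (iv0 F369076)) (tt N50044 (iv2 F138607)) (tt N84487 D187208) (tt N26311 (iv4 D89758)) (tt N54594 (iv5 F347711)) (tt N84488 D187209) (tt N49882 (iv7 F137764)))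
theorem Q49882 : ∀ i, i < 49882 → P i := stepQ 49881 Q49881 (allL N49881 (tt N84489 D187210) (tt N78613 (iv0 F339465)) (tt N50045 (iv2 F138608)) (tt N47477 F326543) (tt N84488 (iv4 F369518)) (tt N50950 (iv5 F143132)) (tt N26311 (iv6 D89759)) (tt N84490 D187211))
theorem Q49883 : ∀ i, i < 49883 → P i := stepQ 49882 Q49882 (allL N49882 (tt N54626 (iv1 F347710)) (tt N50462 (iv0 F139799)) (tt N50789 (iv2 F142472)) (tt N84474 (iv3 F369442)) (tt N26312 (iv4 D89768)) (tt N84491 D187212) (tt N84492 D187213) (tt N49880 F137764))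
theorem Q49884 : ∀ i, i < 49884 → P i := stepQ 49883 Q49883 (allL N49883 (tt N62937 F369532) (tt N76032 (iv0 F235980)) (tt N50790 (iv2 F142474)) (tt N32758 F137765) (tt N84492 (iv4 F369530)) (tt N55106 (iv5 F367115)) (tt N26312 (iv6 D89769)) (tt N84493 D187214))
theorem Q49885 : ∀ i, i < 49885 → P i := stepQ 49884 Q49884 (allL N49884 (tt N79022 (iv1 F251882)) (tt N79021 F251881) (tt N79025 (iv2 F251892)) (tt N26314 F137856) (tt N61080 (iv4 F177925)) (tt N26313 (iv5 D89819)) (tt N84494 D187215) (tt N27396 F137857))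
theorem Q49886 : ∀ i, i < 49886 → P i := stepQ 49885 Q49885 (allL N49885 (tt N29411 F137860) (tt N29422 F137861) (tt N49931 (iv2 F137985)) (tt N84495 D187216) (tt N26314 (iv4 D89820)) (tt N27364 F137858) (tt N84496 D187217) (tt N27412 F137859))
theorem Q49887 : ∀ i, i < 49887 → P i := stepQ 49886 Q49886 (allL N49886 (tt N84497 D187218) (tt N84498 D187219) (tt N49932 (iv2 F137990)) (tt N84494 (iv3 F369541)) (tt N84496 (iv4 F369545)) (tt N52445 (iv5 F149640)) (tt N26314 (iv6 D89821)) (tt N84499 D187220))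
theorem Q49888 : ∀ i, i < 49888 → P i := stepQ 49887 Q49887 (allL N49887 (tt N27441 (iv1 F137862)) (tt N26315 (iv0 D89822)) (tt N49933 F289567) (tt N83859 (iv3 F289499)) (tt N84500 D187221) (tt N84501 D187222) (tt N49933 F289568) (tt N27367 F289569))
theorem Q49889 : ∀ i, i < 49889 → P i := stepQ 49888 Q49888 (allL N49888 (tt N84502 D187223) (tt N84503 D187224) (tt N52446 (iv2 F149641)) (tt N26316 F137864) (tt N84504 D187225) (tt N26315 (iv5 D89824)) (tt N84505 D187226) (tt N49934 (iv7 F137995)))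
theorem Q49890 : ∀ i, i < 49890 → P i := stepQ 49889 Q49889 (allL N49889 (tt N52334 (iv1 F360564)) (tt N81536 F350176) (tt N49938 (iv2 F138015)) (tt N26317 F137865) (tt N49889 F137866) (tt N55172 (iv5 F159120)) (tt N26315 (iv6 D89825)) (tt N81554 (iv7 F343026)))
theorem Q49891 : ∀ i, i < 49891 → P i := stepQ 49890 Q49890 (allL N49890 (tt N49954 (iv1 F138072)) (tt N49953 F138069) (tt N26325 F137867) (tt N84506 D187227) (tt N26316 (iv4 D89826)) (tt N49970 (iv5 F138109)) (tt N84507 D187228) (tt N49936 (iv7 F138000)))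
theorem Q49892 : ∀ i, i < 49892 → P i := stepQ 49891 Q49891 (allL N49891 (tt N84508 D187229) (tt N79771 (iv0 F340617)) (tt N26326 F137868) (tt N84505 (iv3 F369558)) (tt N84507 (iv4 F369562)) (tt N55173 (iv5 F159123)) (tt N26316 (iv6 D89827)) (tt N79660 (iv7 F358133)))
theorem Q49893 : ∀ i, i < 49893 → P i := stepQ 49892 Q49892 (allL N49892 (tt N26317 (iv1 D89828)) (tt N26330 F137869) (tt N26328 (iv2 F137873)) (tt N84375 (iv3 F369064)) (tt N27416 F291284) (tt N29444 F137872) (tt N26720 F291285) (tt N26327 F137870))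
theorem Q49894 : ∀ i, i < 49894 → P i := stepQ 49893 Q49893 (allL N49893 (tt N81536 (iv1 F350171)) (tt N52334 F360565) (tt N81554 F343020) (tt N26318 (iv3 D89830)) (tt N49893 F137879) (tt N55158 (iv5 F159070)) (tt N50639 (iv6 F343025)) (tt N49938 (iv7 F138018)))
theorem Q49895 : ∀ i, i < 49895 → P i := stepQ 49894 Q49894 (allL N49894 (tt N27451 (iv1 F137891)) (tt N26319 (iv0 D89833)) (tt N27457 F145366) (tt N27475 F137890) (tt N75672 F356581) (tt N84509 D187230) (tt N52633 (iv6 F349226)) (tt N27456 F145361))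
theorem Q49896 : ∀ i, i < 49896 → P i := stepQ 49895 Q49895 (allL N49895 (tt N26319 (iv1 D89834)) (tt N27451 (iv0 F137893)) (tt N27456 (iv2 F145365)) (tt N84040 F367892) (tt N49391 (iv4 F137892)) (tt N84510 D187231) (tt N84511 D187232) (tt N27457 (iv7 F145367)))
theorem Q49897 : ∀ i, i < 49897 → P i := stepQ 49896 Q49896 (allL N49896 (tt N27457 (iv1 F137897)) (tt N27456 F137896) (tt N26319 (iv2 D89835)) (tt N49941 (iv3 F138030)) (tt N48771 F137894) (tt N84512 D187233) (tt N52498 (iv6 F149819)) (tt N27451 F137895))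
theorem Q49898 : ∀ i, i < 49898 → P i := stepQ 49897 Q49897 (allL N49897 (tt N84513 D187234) (tt N84514 D187235) (tt N84512 (iv2 F369582)) (tt N26321 F137898) (tt N84515 D187236) (tt N26319 (iv5 D89836)) (tt N84516 D187237) (tt N27458 F137899))
theorem Q49899 : ∀ i, i < 49899 → P i := stepQ 49898 Q49898 (allL N49898 (tt N51840 (iv1 F147309)) (tt N51837 (iv0 F147304)) (tt N49943 (iv2 F138038)) (tt N84517 D187238) (tt N26321 (iv4 D89837)) (tt N29137 F137900) (tt N84518 D187239) (tt N27464 F137901))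
theorem Q49900 : ∀ i, i < 49900 → P i := stepQ 49899 Q49899 (allL N49899 (tt N84519 D187240) (tt N84520 D187241) (tt N49944 (iv2 F138041)) (tt N84516 (iv3 F369598)) (tt N84518 (iv4 F369601)) (tt N52532 (iv5 F149882)) (tt N26321 (iv6 D89838)) (tt N84521 D187242))
theorem Q49901 : ∀ i, i < 49901 → P i := stepQ 49900 Q49900 (allL N49900 (tt N27442 (iv1 F137903)) (tt N26322 (iv0 D89839)) (tt N29167 (iv2 F137904)) (tt N84522 D187243) (tt N84523 D187244) (tt N29110 F137902) (tt N84524 D187245) (tt N29371 F290773))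
theorem Q49902 : ∀ i, i < 49902 → P i := stepQ 49901 Q49901 (allL N49901 (tt N26322 (iv1 D89840)) (tt N27442 F137905) (tt N29371 (iv2 F290651)) (tt N84525 D187246) (tt N84526 D187247) (tt N29054 F290599) (tt N84527 D187248) (tt N29167 F137906))
theorem Q49903 : ∀ i, i < 49903 → P i := stepQ 49902 Q49902 (allL N49902 (tt N84528 D187249) (tt N84529 D187250) (tt N52447 (iv2 F149644)) (tt N73608 (iv3 F360805)) (tt N26322 (iv4 D89841)) (tt N54179 (iv5 F360803)) (tt N84530 D187251) (tt N49945 (iv7 F138046)))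
theorem Q49904 : ∀ i, i < 49904 → P i := stepQ 49903 Q49903 (allL N49903 (tt N84531 D187252) (tt N84532 D187253) (tt N52448 (iv2 F149646)) (tt N26326 F137908) (tt N84530 (iv4 F369635)) (tt N49971 (iv5 F138114)) (tt N26322 (iv6 D89842)) (tt N84533 D187254))
theorem Q49905 : ∀ i, i < 49905 → P i := stepQ 49904 Q49904 (allL N49904 (tt N84509 F369573) (tt N84510 (iv0 F369576)) (tt N84534 D187255) (tt N26323 (iv3 D89843)) (tt N76251 (iv4 F362036)) (tt N29416 F137909) (tt N84535 D187256) (tt N49947 (iv7 F138054)))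
theorem Q49906 : ∀ i, i < 49906 → P i := stepQ 49905 Q49905 (allL N49905 (tt N51834 (iv1 F147299)) (tt N51829 (iv0 F147284)) (tt N49951 (iv2 F138062)) (tt N84536 D187257) (tt N26323 (iv4 D89844)) (tt N29451 F137910) (tt N84537 D187258) (tt N49948 (iv7 F138056)))
theorem Q49907 : ∀ i, i < 49907 → P i := stepQ 49906 Q49906 (allL N49906 (tt N84538 D187259) (tt N84539 D187260) (tt N49952 (iv2 F138065)) (tt N84535 (iv3 F369644)) (tt N84537 (iv4 F369649)) (tt N55134 (iv5 F158977)) (tt N26323 (iv6 D89845)) (tt N84540 D187261))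
theorem Q49908 : ∀ i, i < 49908 → P i := stepQ 49907 Q49907 (allL N49907 (tt N52538 F353186) (tt N52540 F367229) (tt N84541 D187262) (tt N26324 (iv3 D89846)) (tt N84542 D187263) (tt N29417 F137911) (tt N84543 D187264) (tt N49950 (iv7 F138061)))
theorem Q49909 : ∀ i, i < 49909 → P i := stepQ 49908 Q49908 (allL N49908 (tt N51829 (iv1 F147285)) (tt N51834 (iv0 F147298)) (tt N49948 (iv2 F138055)) (tt N45476 F348739) (tt N26324 (iv4 D89847)) (tt N29448 F137912) (tt N45472 F348740) (tt N49951 (iv7 F138064)))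
theorem Q49910 : ∀ i, i < 49910 → P i := stepQ 49909 Q49909 (allL N49909 (tt N84544 D187265) (tt N84507 (iv0 F369563)) (tt N49949 (iv2 F138058)) (tt N84543 (iv3 F369654)) (tt N45472 F348733) (tt N49212 F293336) (tt N26324 (iv6 D89848)) (tt N80265 F348734))
theorem Q49911 : ∀ i, i < 49911 → P i := stepQ 49910 Q49910 (allL N49910 (tt N49936 (iv1 F138002)) (tt N26325 (iv0 D89849)) (tt N49954 F138076) (tt N84545 D187266) (tt N29426 F137914) (tt N29412 F340364) (tt N84546 D187267) (tt N49953 F138071))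
theorem Q49912 : ∀ i, i < 49912 → P i := stepQ 49911 Q49911 (allL N49911 (tt N26325 (iv1 D89850)) (tt N49936 (iv0 F138001)) (tt N49953 F138070) (tt N84547 D187268) (tt N29428 F137915) (tt N29413 F340357) (tt N84508 (iv6 F369565)) (tt N49954 (iv7 F138073)))
theorem Q49913 : ∀ i, i < 49913 → P i := stepQ 49912 Q49912 (allL N49912 (tt N84548 D187269) (tt N84549 D187270) (tt N84550 D187271) (tt N26325 (iv3 D89851)) (tt N73608 F360806) (tt N84551 D187272) (tt N84552 D187273) (tt N49955 (iv7 F138077)))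
theorem Q49914 : ∀ i, i < 49914 → P i := stepQ 49913 Q49913 (allL N49913 (tt N27364 F137918) (tt N29386 F137919) (tt N49970 (iv2 F138108)) (tt N84551 (iv3 F369667)) (tt N29136 F137917) (tt N26325 (iv5 D89852)) (tt N84553 D187274) (tt N49956 (iv7 F138079)))
theorem Q49915 : ∀ i, i < 49915 → P i := stepQ 49914 Q49914 (allL N49914 (tt N49949 F358137) (tt N80265 F358138) (tt N84507 (iv2 F369561)) (tt N84552 (iv3 F369673)) (tt N26326 F137920) (tt N84554 D187275) (tt N26325 (iv6 D89853)) (tt N84544 F369659))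
theorem Q49916 : ∀ i, i < 49916 → P i := stepQ 49915 Q49915 (allL N49915 (tt N79660 (iv1 F358130)) (tt N26326 (iv0 D89854)) (tt N84508 F369566) (tt N84555 D187276) (tt N55497 F358139) (tt N66703 F358127) (tt N49953 (iv6 F358128)) (tt N79771 (iv7 F358129)))
theorem Q49917 : ∀ i, i < 49917 → P i := stepQ 49916 Q49916 (allL N49916 (tt N26326 (iv1 D89855)) (tt N79660 F358134) (tt N79771 (iv2 F358135)) (tt N84556 D187277) (tt N84557 D187278) (tt N66702 (iv5 F358136)) (tt N84558 D187279) (tt N84508 (iv7 F369568)))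
theorem Q49918 : ∀ i, i < 49918 → P i := stepQ 49917 Q49917 (allL N49917 (tt N79771 (iv1 F340635)) (tt N84508 F369567) (tt N79660 F358131) (tt N84533 (iv3 F369637)) (tt N84544 (iv4 F369657)) (tt N64133 (iv5 F358132)) (tt N49961 (iv6 F138085)) (tt N26326 (iv7 D89857)))
theorem Q49919 : ∀ i, i < 49919 → P i := stepQ 49918 Q49918 (allL N49918 (tt N65622 F346839) (tt N84511 F369581) (tt N84559 D187280) (tt N26327 (iv3 D89858)) (tt N28103 F137922) (tt N55452 (iv5 F160334)) (tt N27378 F137923) (tt N84375 (iv7 F369066)))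
theorem Q49920 : ∀ i, i < 49920 → P i := stepQ 49919 Q49919 (allL N49919 (tt N52539 F353183) (tt N84560 D187281) (tt N74195 F350460) (tt N26328 (iv3 D89859)) (tt N49835 F350464) (tt N55455 (iv5 F160340)) (tt N50662 (iv6 F350461)) (tt N27526 F137924))
theorem Q49921 : ∀ i, i < 49921 → P i := stepQ 49920 Q49920 (allL N49920 (tt N52408 F288025) (tt N84561 D187282) (tt N84562 D187283) (tt N26331 (iv3 D89863)) (tt N51542 (iv4 F145467)) (tt N84563 D187284) (tt N49972 (iv6 F138126)) (tt N49966 (iv7 F138100)))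
theorem Q49922 : ∀ i, i < 49922 → P i := stepQ 49921 Q49921 (allL N49921 (tt N27618 F137940) (tt N27620 F137941) (tt N49170 F137937) (tt N84563 (iv3 F369700)) (tt N29413 F340356) (tt N26331 (iv5 D89864)) (tt N80929 F337347) (tt N49171 F137939))
theorem Q49923 : ∀ i, i < 49923 → P i := stepQ 49922 Q49922 (allL N49922 (tt N52509 F160326) (tt N81556 (iv0 F331233)) (tt N84564 D187285) (tt N26332 (iv3 D89865)) (tt N54695 F157428) (tt N29447 F137942) (tt N49962 (iv6 F138088)) (tt N49968 (iv7 F138105)))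
theorem Q49924 : ∀ i, i < 49924 → P i := stepQ 49923 Q49923 (allL N49923 (tt N29386 F137943) (tt N27364 F137944) (tt N49956 (iv2 F138078)) (tt N84565 D187286) (tt N26333 (iv4 D89866)) (tt N49936 (iv5 F137999)) (tt N51988 F358002) (tt N49970 (iv7 F138110)))
theorem Q49925 : ∀ i, i < 49925 → P i := stepQ 49924 Q49924 (allL N49924 (tt N51726 F358003) (tt N84566 D187287) (tt N55159 (iv2 F159072)) (tt N55171 (iv3 F159117)) (tt N51988 (iv4 F358000)) (tt N50664 (iv5 F292256)) (tt N26333 (iv6 D89867)) (tt N84567 D187288))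
theorem Q49926 : ∀ i, i < 49926 → P i := stepQ 49925 Q49925 (allL N49925 (tt N84568 D187289) (tt N79019 (iv0 F283795)) (tt N84569 D187290) (tt N26334 (iv3 D89870)) (tt N27141 F137955) (tt N84570 D187291) (tt N27139 F137956) (tt N49871 F367175))
theorem Q49927 : ∀ i, i < 49927 → P i := stepQ 49926 Q49926 (allL N49926 (tt N27655 F137958) (tt N27652 F137959) (tt N27568 F137957) (tt N84570 (iv3 F369729)) (tt N55458 (iv4 F160347)) (tt N26334 (iv5 D89871)) (tt N80062 (iv6 F364273)) (tt N49872 (iv7 F293446)))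
theorem Q49928 : ∀ i, i < 49928 → P i := stepQ 49927 Q49927 (allL N49927 (tt N27201 F137963) (tt N27200 (iv0 F137964)) (tt N48605 F137960) (tt N80140 (iv3 F331228)) (tt N26335 (iv4 D89872)) (tt N52452 (iv5 F291805)) (tt N29193 (iv6 F291806)) (tt N27560 F137962))
theorem Q49929 : ∀ i, i < 49929 → P i := stepQ 49928 Q49928 (allL N49928 (tt N27787 (iv1 F137976)) (tt N26339 (iv0 D89882)) (tt N27772 (iv2 F137975)) (tt N51878 (iv3 F147371)) (tt N80676 (iv4 F289549)) (tt N84571 D187292) (tt N48958 F340538) (tt N27789 F137977))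
theorem Q49930 : ∀ i, i < 49930 → P i := stepQ 49929 Q49929 (allL N49929 (tt N27772 (iv1 F137981)) (tt N27789 F137980) (tt N26339 (iv2 D89883)) (tt N45153 F137978) (tt N53072 (iv4 F152408)) (tt N84572 D187293) (tt N51831 F147288) (tt N27787 F137979))
theorem Q49931 : ∀ i, i < 49931 → P i := stepQ 49930 Q49930 (allL N49930 (tt N84573 D187294) (tt N51883 (iv0 F147377)) (tt N84572 (iv2 F369736)) (tt N26340 F137983) (tt N84574 D187295) (tt N26339 (iv5 D89884)) (tt N84575 D187296) (tt N27790 F137984))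
theorem Q49932 : ∀ i, i < 49932 → P i := stepQ 49931 Q49931 (allL N49931 (tt N29414 F340376) (tt N29454 F137989) (tt N49885 F137985) (tt N84576 D187297) (tt N26340 (iv4 D89885)) (tt N27623 F137986) (tt N84577 D187298) (tt N27802 F137987))
theorem Q49933 : ∀ i, i < 49933 → P i := stepQ 49932 Q49932 (allL N49932 (tt N84578 D187299) (tt N84579 D187300) (tt N49886 F137990) (tt N84575 (iv3 F369746)) (tt N84577 (iv4 F369750)) (tt N51891 (iv5 F147384)) (tt N26340 (iv6 D89886)) (tt N84580 D187301))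
theorem Q49934 : ∀ i, i < 49934 → P i := stepQ 49933 Q49933 (allL N49933 (tt N26341 (iv1 D89888)) (tt N27779 F137993) (tt N49887 (iv2 F289567)) (tt N84581 D187302) (tt N84582 D187303) (tt N84583 D187304) (tt N49887 (iv6 F289568)) (tt N27684 F289539))
theorem Q49935 : ∀ i, i < 49935 → P i := stepQ 49934 Q49934 (allL N49934 (tt N84584 D187305) (tt N84585 D187306) (tt N51892 (iv2 F147385)) (tt N26342 F137994) (tt N84586 D187307) (tt N26341 (iv5 D89889)) (tt N84587 D187308) (tt N49888 F137995))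
theorem Q49936 : ∀ i, i < 49936 → P i := stepQ 49935 Q49935 (allL N49935 (tt N84588 D187309) (tt N51747 F350173) (tt N48900 F292220) (tt N26343 F137996) (tt N49935 F137997) (tt N55002 (iv5 F158460)) (tt N26341 (iv6 D89890)) (tt N48952 F292273))
theorem Q49937 : ∀ i, i < 49937 → P i := stepQ 49936 Q49936 (allL N49936 (tt N49911 F138001) (tt N49910 F138002) (tt N26350 F137998) (tt N84589 D187310) (tt N26342 (iv4 D89891)) (tt N49923 F137999) (tt N51923 (iv6 F358004)) (tt N49890 F138000))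
theorem Q49938 : ∀ i, i < 49938 → P i := stepQ 49937 Q49937 (allL N49937 (tt N84590 D187311) (tt N84591 D187312) (tt N26351 F138003) (tt N84587 (iv3 F369781)) (tt N51923 F358005) (tt N55004 (iv5 F158465)) (tt N26342 (iv6 D89892)) (tt N84592 D187313))
theorem Q49939 : ∀ i, i < 49939 → P i := stepQ 49938 Q49938 (allL N49938 (tt N47619 F343018) (tt N84593 D187314) (tt N49889 F138015) (tt N26344 (iv3 D89895)) (tt N49938 F138016) (tt N54959 (iv5 F158405)) (tt N27779 F138017) (tt N49893 F138018))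
theorem Q49940 : ∀ i, i < 49940 → P i := stepQ 49939 Q49939 (allL N49939 (tt N27830 (iv1 F138025)) (tt N26345 (iv0 D89897)) (tt N27832 F283541) (tt N82830 (iv3 F284521)) (tt N45169 F138024) (tt N84594 D187315) (tt N84595 D187316) (tt N27831 F283542))
theorem Q49941 : ∀ i, i < 49941 → P i := stepQ 49940 Q49940 (allL N49940 (tt N26345 (iv1 D89898)) (tt N27830 (iv0 F138028)) (tt N27831 F283536) (tt N27815 (iv3 F138029)) (tt N45168 (iv4 F138026)) (tt N84596 D187317) (tt N52062 (iv6 F350450)) (tt N27832 F283537))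
theorem Q49942 : ∀ i, i < 49942 → P i := stepQ 49941 Q49941 (allL N49941 (tt N27832 (iv1 F138033)) (tt N27831 F138032) (tt N26345 (iv2 D89899)) (tt N49896 F138030) (tt N50730 (iv4 F142169)) (tt N84597 D187318) (tt N51940 (iv6 F147480)) (tt N27830 F138031))
theorem Q49943 : ∀ i, i < 49943 → P i := stepQ 49942 Q49942 (allL N49942 (tt N84598 D187319) (tt N84599 D187320) (tt N84597 (iv2 F369822)) (tt N26346 F138036) (tt N84600 D187321) (tt N26345 (iv5 D89900)) (tt N84601 D187322) (tt N27833 F138037))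
theorem Q49944 : ∀ i, i < 49944 → P i := stepQ 49943 Q49943 (allL N49943 (tt N51841 (iv1 F328308)) (tt N51933 F147463) (tt N49898 F138038) (tt N84602 D187323) (tt N26346 (iv4 D89901)) (tt N29244 F138039) (tt N84603 D187324) (tt N27839 F138040))
theorem Q49945 : ∀ i, i < 49945 → P i := stepQ 49944 Q49944 (allL N49944 (tt N84604 D187325) (tt N84605 D187326) (tt N49899 F138041) (tt N84601 (iv3 F369836)) (tt N84603 (iv4 F369840)) (tt N51970 (iv5 F147515)) (tt N26346 (iv6 D89902)) (tt N84606 D187327))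
theorem Q49946 : ∀ i, i < 49946 → P i := stepQ 49945 Q49945 (allL N49945 (tt N54224 (iv1 F360816)) (tt N54221 (iv0 F292810)) (tt N51893 (iv2 F147390)) (tt N84607 D187328) (tt N26347 (iv4 D89904)) (tt N84608 D187329) (tt N84609 D187330) (tt N49902 F138046))
theorem Q49947 : ∀ i, i < 49947 → P i := stepQ 49946 Q49946 (allL N49946 (tt N84610 D187331) (tt N84611 D187332) (tt N51894 (iv2 F147391)) (tt N26351 F138047) (tt N84609 (iv4 F369857)) (tt N50629 F352785) (tt N26347 (iv6 D89905)) (tt N84612 D187333))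
theorem Q49948 : ∀ i, i < 49948 → P i := stepQ 49947 Q49947 (allL N49947 (tt N51913 F349343) (tt N51917 (iv0 F356594)) (tt N84613 D187334) (tt N26348 (iv3 D89907)) (tt N72327 (iv4 F346829)) (tt N29420 F138053) (tt N84614 D187335) (tt N49904 F138054))
theorem Q49949 : ∀ i, i < 49949 → P i := stepQ 49948 Q49948 (allL N49948 (tt N52473 (iv1 F149737)) (tt N52479 (iv0 F149757)) (tt N49908 F138055) (tt N84615 D187336) (tt N26348 (iv4 D89908)) (tt N29406 F138057) (tt N79322 F348738) (tt N49905 F138056))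
theorem Q49950 : ∀ i, i < 49950 → P i := stepQ 49949 Q49949 (allL N49949 (tt N84616 D187337) (tt N49914 (iv0 F358137)) (tt N49909 F138058) (tt N84614 (iv3 F369867)) (tt N79322 (iv4 F348736)) (tt N27884 F138059) (tt N26348 (iv6 D89909)) (tt N84617 D187338))
theorem Q49951 : ∀ i, i < 49951 → P i := stepQ 49950 Q49950 (allL N49950 (tt N84594 (iv1 F369813)) (tt N84596 (iv0 F369820)) (tt N84618 D187339) (tt N26349 (iv3 D89910)) (tt N84619 D187340) (tt N29285 F138060) (tt N74134 (iv6 F366968)) (tt N49907 F138061))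
theorem Q49952 : ∀ i, i < 49952 → P i := stepQ 49951 Q49951 (allL N49951 (tt N52479 (iv1 F149758)) (tt N52473 (iv0 F149736)) (tt N49905 F138062) (tt N79329 (iv3 F348744)) (tt N26349 (iv4 D89911)) (tt N29403 F138063) (tt N84620 D187341) (tt N49908 F138064))
theorem Q49953 : ∀ i, i < 49953 → P i := stepQ 49952 Q49952 (allL N49952 (tt N84621 D187342) (tt N84622 D187343) (tt N49906 F138065) (tt N74134 (iv3 F366967)) (tt N84620 (iv4 F369891)) (tt N29287 F138066) (tt N26349 (iv6 D89912)) (tt N84623 D187344))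
theorem Q49954 : ∀ i, i < 49954 → P i := stepQ 49953 Q49953 (allL N49953 (tt N49890 (iv1 F138069)) (tt N26350 (iv0 D89913)) (tt N49911 (iv2 F138070)) (tt N84624 D187345) (tt N29419 F138068) (tt N29409 F138067) (tt N49915 F358128) (tt N49910 (iv7 F138071)))
theorem Q49955 : ∀ i, i < 49955 → P i := stepQ 49954 Q49954 (allL N49954 (tt N26350 (iv1 D89914)) (tt N49890 F138072) (tt N49910 (iv2 F138076)) (tt N84625 D187346) (tt N29312 F138074) (tt N29408 F138075) (tt N84626 D187347) (tt N49911 F138073))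
theorem Q49956 : ∀ i, i < 49956 → P i := stepQ 49955 Q49955 (allL N49955 (tt N84627 D187348) (tt N84628 D187349) (tt N84629 D187350) (tt N26350 (iv3 D89915)) (tt N84607 (iv4 F369847)) (tt N84630 D187351) (tt N51956 F363592) (tt N49912 F138077))
theorem Q49957 : ∀ i, i < 49957 → P i := stepQ 49956 Q49956 (allL N49956 (tt N29432 F138081) (tt N27623 F138082) (tt N49923 F138078) (tt N84630 (iv3 F369921)) (tt N29243 F138080) (tt N26350 (iv5 D89916)) (tt N52565 F340380) (tt N49913 F138079))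
theorem Q49958 : ∀ i, i < 49958 → P i := stepQ 49957 Q49957 (allL N49957 (tt N75456 F340381) (tt N84631 D187352) (tt N51923 (iv2 F340383)) (tt N51956 (iv3 F340384)) (tt N26351 F138083) (tt N27834 F340382) (tt N26350 (iv6 D89917)) (tt N51925 (iv7 F340385)))
theorem Q49959 : ∀ i, i < 49959 → P i := stepQ 49958 Q49958 (allL N49958 (tt N84592 (iv1 F369803)) (tt N26351 (iv0 D89918)) (tt N84590 (iv2 F369935)) (tt N84632 D187353) (tt N84633 D187354) (tt N84634 D187355) (tt N84635 D187356) (tt N84591 F369934))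
theorem Q49960 : ∀ i, i < 49960 → P i := stepQ 49959 Q49959 (allL N49959 (tt N26351 (iv1 D89919)) (tt N84592 F369802) (tt N84591 F369932) (tt N84636 D187357) (tt N84637 D187358) (tt N84638 D187359) (tt N84631 (iv6 F369931)) (tt N84590 (iv7 F369933)))
theorem Q49961 : ∀ i, i < 49961 → P i := stepQ 49960 Q49960 (allL N49960 (tt N67048 F340390) (tt N67056 (iv0 F340392)) (tt N55004 (iv2 F158464)) (tt N50629 (iv3 F352784)) (tt N67013 (iv4 F340386)) (tt N26351 (iv5 D89920)) (tt N26354 F138084) (tt N81127 F340389))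
theorem Q49962 : ∀ i, i < 49962 → P i := stepQ 49961 Q49961 (allL N49961 (tt N84591 (iv1 F369794)) (tt N84590 F369793) (tt N84592 (iv2 F369799)) (tt N84612 (iv3 F369860)) (tt N51925 F358007) (tt N81127 (iv5 F358006)) (tt N49917 F138085) (tt N26351 (iv7 D89921)))
theorem Q49963 : ∀ i, i < 49963 → P i := stepQ 49962 Q49962 (allL N49962 (tt N84639 D187360) (tt N51918 (iv0 F369641)) (tt N84640 D187361) (tt N26352 (iv3 D89922)) (tt N49821 F138086) (tt N29168 F138087) (tt N49922 F138088) (tt N27872 F138089))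
theorem Q49964 : ∀ i, i < 49964 → P i := stepQ 49963 Q49963 (allL N49963 (tt N84595 F369816) (tt N84641 D187362) (tt N84642 D187363) (tt N26353 (iv3 D89923)) (tt N27264 F138090) (tt N29171 F138091) (tt N26749 (iv6 F292637)) (tt N51225 F292212))
theorem Q49965 : ∀ i, i < 49965 → P i := stepQ 49964 Q49964 (allL N49964 (tt N54933 (iv1 F158329)) (tt N54931 (iv0 F158314)) (tt N55003 (iv2 F158461)) (tt N80803 (iv3 F343451)) (tt N26354 (iv4 D89924)) (tt N48945 F292274) (tt N67013 F340388) (tt N51226 F292275))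
theorem Q49966 : ∀ i, i < 49966 → P i := stepQ 49965 Q49965 (allL N49965 (tt N26356 (iv1 F138096)) (tt N26355 (iv0 D89925)) (tt N27909 (iv2 F138095)) (tt N59775 (iv3 F358522)) (tt N26776 F138094) (tt N27621 F138093) (tt N29199 F293169) (tt N27771 F138097))
theorem Q49967 : ∀ i, i < 49967 → P i := stepQ 49966 Q49966 (allL N49966 (tt N84643 D187364) (tt N84644 D187365) (tt N84645 D187366) (tt N26355 (iv3 D89926)) (tt N27248 F138098) (tt N83522 (iv5 F287724)) (tt N26368 (iv6 F294186)) (tt N49920 F138100))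
theorem Q49968 : ∀ i, i < 49968 → P i := stepQ 49967 Q49967 (allL N49967 (tt N51857 (iv1 F147771)) (tt N52148 (iv0 F147770)) (tt N84185 (iv2 F368457)) (tt N26356 (iv3 D89927)) (tt N82730 (iv4 F283702)) (tt N83520 (iv5 F287718)) (tt N48962 F293238) (tt N27906 F138101))
theorem Q49969 : ∀ i, i < 49969 → P i := stepQ 49968 Q49968 (allL N49968 (tt N84646 D187367) (tt N84647 D187368) (tt N84648 D187369) (tt N26357 (iv3 D89928)) (tt N49473 F138102) (tt N29402 F138103) (tt N26748 (iv6 F293100)) (tt N49922 F138105))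
theorem Q49970 : ∀ i, i < 49970 → P i := stepQ 49969 Q49969 (allL N49969 (tt N51950 (iv1 F283794)) (tt N84649 D187370) (tt N84650 D187371) (tt N26358 (iv3 D89929)) (tt N82744 (iv4 F283790)) (tt N29405 F138106) (tt N51225 (iv6 F365265)) (tt N27879 F138107))
theorem Q49971 : ∀ i, i < 49971 → P i := stepQ 49970 Q49970 (allL N49970 (tt N27623 F138111) (tt N29432 F138112) (tt N49913 F138108) (tt N79850 F340637) (tt N26359 (iv4 D89930)) (tt N49890 F138109) (tt N79849 (iv6 F340638)) (tt N49923 F138110))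
theorem Q49972 : ∀ i, i < 49972 → P i := stepQ 49971 Q49971 (allL N49971 (tt N84651 D187372) (tt N84652 D187373) (tt N54960 (iv2 F158406)) (tt N45805 F340622) (tt N79849 F340623) (tt N49903 F138114) (tt N26359 (iv6 D89931)) (tt N84653 D187374))
theorem Q49973 : ∀ i, i < 49973 → P i := stepQ 49972 Q49972 (allL N49972 (tt N84654 D187375) (tt N51798 (iv0 F345200)) (tt N74198 F345189) (tt N26361 (iv3 D89934)) (tt N55332 F294335) (tt N71348 (iv5 F345191)) (tt N49920 F138126) (tt N27896 F138127))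
theorem Q49974 : ∀ i, i < 49974 → P i := stepQ 49973 Q49973 (allL N49973 (tt N29181 F138129) (tt N27296 F138130) (tt N48964 F294118) (tt N71348 F359400) (tt N29174 F138131) (tt N26361 (iv5 D89935)) (tt N84655 D187376) (tt N27902 F138128))
theorem Q49975 : ∀ i, i < 49975 → P i := stepQ 49974 Q49974 (allL N49974 (tt N49200 (iv1 F138230)) (tt N26364 (iv0 D89988)) (tt N49199 (iv2 F138409)) (tt N83517 (iv3 F356261)) (tt N53406 (iv4 F295184)) (tt N82605 (iv5 F356262)) (tt N52233 F356260) (tt N49198 F138410))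
theorem Q49976 : ∀ i, i < 49976 → P i := stepQ 49975 Q49975 (allL N49975 (tt N26364 (iv1 D89989)) (tt N49200 F138235) (tt N49198 F138408) (tt N29190 (iv3 F294876)) (tt N52166 (iv4 F294444)) (tt N52120 F294075) (tt N54451 F294076) (tt N49199 (iv7 F138407)))
theorem Q49977 : ∀ i, i < 49977 → P i := stepQ 49976 Q49976 (allL N49976 (tt N49199 (iv1 F138236)) (tt N49198 F138234) (tt N26364 (iv2 D89990)) (tt N48521 F138232) (tt N51687 (iv4 F147026)) (tt N84656 D187377) (tt N52257 (iv6 F294893)) (tt N49200 F138233))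
theorem Q49978 : ∀ i, i < 49978 → P i := stepQ 49977 Q49977 (allL N49977 (tt N52454 (iv1 F356267)) (tt N52700 F356268) (tt N84656 (iv2 F370071)) (tt N26365 F138237) (tt N84657 D187378) (tt N26364 (iv5 D89991)) (tt N84658 D187379) (tt N49201 F138238))
theorem Q49979 : ∀ i, i < 49979 → P i := stepQ 49978 Q49978 (allL N49978 (tt N84659 D187380) (tt N84660 D187381) (tt N48524 F138239) (tt N84658 (iv3 F370077)) (tt N52671 (iv4 F294900)) (tt N55142 (iv5 F294901)) (tt N26365 (iv6 D89992)) (tt N84661 D187382))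
theorem Q49980 : ∀ i, i < 49980 → P i := stepQ 49979 Q49979 (allL N49979 (tt N48678 (iv1 F138240)) (tt N26366 (iv0 D89993)) (tt N48677 F343076) (tt N84662 D187383) (tt N84663 D187384) (tt N52335 F343077) (tt N55437 F343078) (tt N48676 F343079))
theorem Q49981 : ∀ i, i < 49981 → P i := stepQ 49980 Q49980 (allL N49980 (tt N26366 (iv1 D89994)) (tt N48678 F138245) (tt N48676 F343071) (tt N84664 D187385) (tt N84665 D187386) (tt N52336 F343072) (tt N29101 F343073) (tt N48677 F343074))
theorem Q49982 : ∀ i, i < 49982 → P i := stepQ 49981 Q49981 (allL N49981 (tt N47662 F335321) (tt N51746 F291967) (tt N52047 F291968) (tt N26367 F138247) (tt N84666 D187387) (tt N26366 (iv5 D89996)) (tt N84667 D187388) (tt N48679 F138248))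
theorem Q49983 : ∀ i, i < 49983 → P i := stepQ 49982 Q49982 (allL N49982 (tt N84668 D187389) (tt N84669 D187390) (tt N26376 F138249) (tt N84667 (iv3 F370121)) (tt N45873 F138250) (tt N52288 F291969) (tt N26367 (iv6 D89997)) (tt N84670 D187391))
theorem Q49984 : ∀ i, i < 49984 → P i := stepQ 49983 Q49983 (allL N49983 (tt N26368 (iv1 D90002)) (tt N27894 (iv0 F295127)) (tt N27893 F294582) (tt N84671 D187392) (tt N27164 F294583) (tt N82597 F365108) (tt N51347 F294584) (tt N27757 F294585))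
theorem Q49985 : ∀ i, i < 49985 → P i := stepQ 49984 Q49984 (allL N49984 (tt N27757 F294943) (tt N27893 F294944) (tt N26368 (iv2 D90003)) (tt N27904 (iv3 F295000)) (tt N27246 F294945) (tt N84672 D187393) (tt N84645 (iv6 F370003)) (tt N27894 (iv7 F295129)))
theorem Q49986 : ∀ i, i < 49986 → P i := stepQ 49985 Q49985 (allL N49985 (tt N83780 (iv1 F350533)) (tt N84673 D187394) (tt N84672 (iv2 F370143)) (tt N26369 F138270) (tt N84674 D187395) (tt N26368 (iv5 D90004)) (tt N84674 F370162) (tt N27895 F294691))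
theorem Q49987 : ∀ i, i < 49987 → P i := stepQ 49986 Q49986 (allL N49986 (tt N81578 F354478) (tt N78657 (iv0 F354476)) (tt N27908 F294692) (tt N84674 (iv3 F370158)) (tt N79685 (iv4 F354386)) (tt N78507 (iv5 F358092)) (tt N26369 (iv6 D90006)) (tt N78505 F354471))
theorem Q49988 : ∀ i, i < 49988 → P i := stepQ 49987 Q49987 (allL N49987 (tt N48521 (iv1 F138303)) (tt N26370 (iv0 D90014)) (tt N48520 F288954) (tt N49328 F138302) (tt N50416 (iv4 F293509)) (tt N83780 (iv5 F289094)) (tt N84675 D187396) (tt N48519 F288955))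
theorem Q49989 : ∀ i, i < 49989 → P i := stepQ 49988 Q49988 (allL N49988 (tt N26370 (iv1 D90015)) (tt N48521 F138310) (tt N48519 F288950) (tt N84676 D187397) (tt N49322 (iv4 F138304)) (tt N84673 (iv5 F370154)) (tt N27306 F292555) (tt N48520 F288951))
theorem Q49990 : ∀ i, i < 49990 → P i := stepQ 49989 Q49989 (allL N49989 (tt N48520 (iv1 F138311)) (tt N48519 F138309) (tt N26370 (iv2 D90016)) (tt N49200 F138306) (tt N29085 F138307) (tt N84677 D187398) (tt N55495 F367051) (tt N48521 F138308))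
theorem Q49991 : ∀ i, i < 49991 → P i := stepQ 49990 Q49990 (allL N49990 (tt N52681 (iv1 F365033)) (tt N52400 F365112) (tt N84677 (iv2 F370176)) (tt N26371 F138312) (tt N84678 D187399) (tt N26370 (iv5 D90017)) (tt N84679 D187400) (tt N48522 F138313))
theorem Q49992 : ∀ i, i < 49992 → P i := stepQ 49991 Q49991 (allL N49991 (tt N84680 D187401) (tt N84681 D187402) (tt N49202 F138316) (tt N84679 (iv3 F370186)) (tt N52669 (iv4 F294906)) (tt N55497 (iv5 F358962)) (tt N26371 (iv6 D90019)) (tt N84682 D187403))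
theorem Q49993 : ∀ i, i < 49993 → P i := stepQ 49992 Q49992 (allL N49992 (tt N49205 (iv1 F138328)) (tt N26372 (iv0 D90031)) (tt N49204 F357376) (tt N55586 F357377) (tt N84683 D187404) (tt N84684 D187405) (tt N84685 D187406) (tt N49203 F357378))
theorem Q49994 : ∀ i, i < 49994 → P i := stepQ 49993 Q49993 (allL N49993 (tt N26372 (iv1 D90032)) (tt N49205 F138332) (tt N49203 F357379) (tt N84686 D187407) (tt N50155 (iv4 F139102)) (tt N84687 D187408) (tt N29124 F291952) (tt N49204 F357380))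
theorem Q49995 : ∀ i, i < 49995 → P i := stepQ 49994 Q49994 (allL N49994 (tt N49204 (iv1 F138333)) (tt N49203 F138331) (tt N26372 (iv2 D90033)) (tt N49210 F138329) (tt N49183 (iv4 F292624)) (tt N52655 F291953) (tt N55499 F291954) (tt N49205 F138330))
theorem Q49996 : ∀ i, i < 49996 → P i := stepQ 49995 Q49995 (allL N49995 (tt N84684 F370211) (tt N84687 (iv0 F370231)) (tt N84688 D187409) (tt N26373 (iv3 D90052)) (tt N84689 D187410) (tt N26748 F138378) (tt N83811 F341815) (tt N27871 (iv7 F293059)))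
theorem Q49997 : ∀ i, i < 49997 → P i := stepQ 49996 Q49996 (allL N49996 (tt N84690 D187411) (tt N84691 D187412) (tt N27881 (iv2 F293069)) (tt N83811 (iv3 F341813)) (tt N79362 (iv4 F254524)) (tt N29404 F291965) (tt N26373 (iv6 D90053)) (tt N84692 D187413))
theorem Q49998 : ∀ i, i < 49998 → P i := stepQ 49997 Q49997 (allL N49997 (tt N83713 (iv1 F331404)) (tt N83714 (iv0 F331396)) (tt N83738 (iv2 F288983)) (tt N26374 (iv3 D90054)) (tt N60203 (iv4 F292577)) (tt N26749 F138381) (tt N60202 (iv6 F366999)) (tt N27878 (iv7 F293066)))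
theorem Q49999 : ∀ i, i < 49999 → P i := stepQ 49998 Q49998 (allL N49998 (tt N84693 D187414) (tt N84694 D187415) (tt N27874 (iv2 F293065)) (tt N60202 F367000) (tt N79680 (iv4 F257726)) (tt N29173 F291961) (tt N26374 (iv6 D90055)) (tt N84695 D187416))
theorem Q50000 : ∀ i, i < 50000 → P i := stepQ 49999 Q49999 (allL N49999 (tt N84696 D187417) (tt N84697 D187418) (tt N68605 F341773) (tt N26375 (iv3 D90056)) (tt N55588 (iv4 F348090)) (tt N45862 F138384) (tt N36913 F341775) (tt N49217 F138385))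
theorem Q50001 : ∀ i, i < 50001 → P i := stepQ 50000 Q50000 (allL N50000 (tt N37764 F340291) (tt N37769 F340292) (tt N45873 F138386) (tt N36913 F340293) (tt N26376 F138387) (tt N36912 F340294) (tt N26375 (iv6 D90057)) (tt N68615 F340295))
theorem Q50002 : ∀ i, i < 50002 → P i := stepQ 50001 Q50001 (allL N50001 (tt N84670 (iv1 F370139)) (tt N26376 (iv0 D90058)) (tt N84668 F370125) (tt N84698 D187419) (tt N38046 F363616) (tt N84699 D187420) (tt N84700 D187421) (tt N84669 (iv7 F370132)))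
theorem Q50003 : ∀ i, i < 50003 → P i := stepQ 50002 Q50002 (allL N50002 (tt N26376 (iv1 D90059)) (tt N84670 F370138) (tt N84669 F370133) (tt N84701 D187422) (tt N38063 F361706) (tt N84702 D187423) (tt N84703 D187424) (tt N84668 F370126))
theorem Q50004 : ∀ i, i < 50004 → P i := stepQ 50003 Q50003 (allL N50003 (tt N84669 (iv1 F370131)) (tt N84668 F370127) (tt N84670 (iv2 F370135)) (tt N55583 (iv3 F363597)) (tt N68615 (iv4 F340298)) (tt N55549 F340303) (tt N49221 F138388) (tt N26376 (iv7 D90060)))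
theorem Q50005 : ∀ i, i < 50005 → P i := stepQ 50004 Q50004 (allL N50004 (tt N48643 (iv1 F138486)) (tt N26380 (iv0 D90090)) (tt N48642 F294425) (tt N84704 D187425) (tt N49088 F294259) (tt N38788 F328083) (tt N54645 F356421) (tt N48641 F294426))
theorem Q50006 : ∀ i, i < 50006 → P i := stepQ 50005 Q50005 (allL N50005 (tt N26380 (iv1 D90091)) (tt N48643 F138491) (tt N48641 F328098) (tt N28601 F328099) (tt N49089 F328100) (tt N38787 F328084) (tt N28598 F328101) (tt N48642 F328102))
theorem Q50007 : ∀ i, i < 50007 → P i := stepQ 50006 Q50006 (allL N50006 (tt N48642 (iv1 F138492)) (tt N48641 F138490) (tt N26380 (iv2 D90092)) (tt N48637 F138487) (tt N26413 F138488) (tt N58230 F336760) (tt N28744 F294260) (tt N48643 F138489))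
theorem Q50008 : ∀ i, i < 50008 → P i := stepQ 50007 Q50007 (allL N50007 (tt N71842 (iv1 F349666)) (tt N73836 (iv0 F345760)) (tt N48640 F138495) (tt N68347 (iv3 F349667)) (tt N46549 F138496) (tt N28747 F294262) (tt N26381 (iv6 D90094)) (tt N69734 F345921))
theorem Q50009 : ∀ i, i < 50009 → P i := stepQ 50008 Q50008 (allL N50008 (tt N55607 F292213) (tt N84705 D187426) (tt N50766 (iv2 F142361)) (tt N26385 F138530) (tt N84706 D187427) (tt N26383 (iv5 D90103)) (tt N44499 F138531) (tt N49335 F292214))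
theorem Q50010 : ∀ i, i < 50010 → P i := stepQ 50009 Q50009 (allL N50009 (tt N37280 F138536) (tt N69477 (iv0 F214470)) (tt N28137 F138532) (tt N44499 F138533) (tt N78517 F292218) (tt N26384 (iv5 D90104)) (tt N26385 F138534) (tt N32174 F138535))
theorem Q50011 : ∀ i, i < 50011 → P i := stepQ 50010 Q50010 (allL N50010 (tt N78931 F251417) (tt N50417 (iv0 F205526)) (tt N50726 (iv2 F142155)) (tt N32170 F138553) (tt N52663 (iv4 F341779)) (tt N26386 (iv5 D90111)) (tt N29982 F138554) (tt N51401 F178364))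
theorem Q50012 : ∀ i, i < 50012 → P i := stepQ 50011 Q50011 (allL N50011 (tt N51469 F178358) (tt N51473 F178359) (tt N50724 (iv2 F142151)) (tt N26388 F138555) (tt N50724 (iv4 F142153)) (tt N60169 (iv5 F175847)) (tt N26387 (iv6 D90113)) (tt N84439 (iv7 F369260)))
theorem Q50013 : ∀ i, i < 50013 → P i := stepQ 50012 Q50012 (allL N50012 (tt N66774 (iv1 F205423)) (tt N54831 (iv0 F290547)) (tt N61022 F178253) (tt N50732 (iv3 F142177)) (tt N61065 (iv4 F290508)) (tt N26389 (iv5 D90118)) (tt N66780 (iv6 F205540)) (tt N32692 F178254))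
theorem Q50014 : ∀ i, i < 50014 → P i := stepQ 50013 Q50013 (allL N50013 (tt N84440 F369267) (tt N82744 (iv0 F283793)) (tt N60833 (iv2 F178272)) (tt N50733 (iv3 F142178)) (tt N79019 (iv4 F251851)) (tt N36278 F138557) (tt N26389 (iv6 D90119)) (tt N60829 (iv7 F178276)))
theorem Q50015 : ∀ i, i < 50015 → P i := stepQ 50014 Q50014 (allL N50014 (tt N51467 F290487) (tt N84707 D187428) (tt N50734 (iv2 F142181)) (tt N26390 (iv3 D90121)) (tt N50734 (iv4 F142183)) (tt N66769 F205407) (tt N84708 D187429) (tt N61021 F178292))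
theorem Q50016 : ∀ i, i < 50016 → P i := stepQ 50015 Q50015 (allL N50015 (tt N51096 F205514) (tt N41176 F350544) (tt N51407 (iv2 F204780)) (tt N84708 (iv3 F370297)) (tt N52687 (iv4 F350540)) (tt N66773 (iv5 F205420)) (tt N26390 (iv6 D90122)) (tt N51408 (iv7 F204779)))
theorem Q50017 : ∀ i, i < 50017 → P i := stepQ 50016 Q50016 (allL N50016 (tt N26392 (iv1 D90123)) (tt N50743 F142207) (tt N26941 (iv2 F138560)) (tt N60995 (iv3 F177543)) (tt N26554 (iv4 F138561)) (tt N61125 F178048) (tt N45179 (iv6 F138562)) (tt N26938 F138559))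
theorem Q50018 : ∀ i, i < 50018 → P i := stepQ 50017 Q50017 (allL N50017 (tt N32979 F138565) (tt N78800 (iv0 F250906)) (tt N50742 (iv2 F142199)) (tt N43205 F138563) (tt N61299 F178541) (tt N26392 (iv5 D90124)) (tt N26474 F138564) (tt N43282 (iv7 F138566)))
theorem Q50019 : ∀ i, i < 50019 → P i := stepQ 50018 Q50018 (allL N50018 (tt N26941 (iv1 F138569)) (tt N26938 F138570) (tt N50743 (iv2 F142203)) (tt N43284 F138567) (tt N50299 (iv4 F139475)) (tt N43282 F138568) (tt N50299 F139479) (tt N26392 (iv7 D90125)))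
theorem Q50020 : ∀ i, i < 50020 → P i := stepQ 50019 Q50019 (allL N50019 (tt N50777 (iv1 F142401)) (tt N26393 (iv0 D90126)) (tt N50776 F349337) (tt N84707 (iv3 F370296)) (tt N84709 D187430) (tt N76266 F349338) (tt N50747 (iv6 F349340)) (tt N28129 F349339))
theorem Q50021 : ∀ i, i < 50021 → P i := stepQ 50020 Q50020 (allL N50020 (tt N50776 (iv1 F142402)) (tt N28129 F333370) (tt N26393 (iv2 D90128)) (tt N26418 F138571) (tt N28147 F138572) (tt N84710 D187431) (tt N84396 (iv6 F369142)) (tt N50777 (iv7 F142400)))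
theorem Q50022 : ∀ i, i < 50022 → P i := stepQ 50021 Q50021 (allL N50021 (tt N84711 D187432) (tt N75621 (iv0 F369492)) (tt N84710 (iv2 F370302)) (tt N26394 F138573) (tt N84712 D187433) (tt N26393 (iv5 D90129)) (tt N84713 D187434) (tt N50778 (iv7 F142405)))
theorem Q50023 : ∀ i, i < 50023 → P i := stepQ 50022 Q50022 (allL N50022 (tt N84178 (iv1 F368431)) (tt N84191 F368472) (tt N50774 (iv2 F142393)) (tt N84714 D187435) (tt N26394 (iv4 D90131)) (tt N53009 (iv5 F347715)) (tt N84715 D187436) (tt N50780 (iv7 F142409)))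
theorem Q50024 : ∀ i, i < 50024 → P i := stepQ 50023 Q50023 (allL N50023 (tt N84716 D187437) (tt N84717 D187438) (tt N50775 (iv2 F142396)) (tt N84713 (iv3 F370304)) (tt N84715 (iv4 F370317)) (tt N50235 (iv5 F139299)) (tt N26394 (iv6 D90132)) (tt N84718 D187439))
theorem Q50025 : ∀ i, i < 50025 → P i := stepQ 50024 Q50024 (allL N50024 (tt N26395 (iv1 D90133)) (tt N26418 (iv0 F138579)) (tt N26420 F138578) (tt N50730 (iv3 F142168)) (tt N49769 (iv4 F138577)) (tt N74792 (iv5 F317458)) (tt N50751 F142251) (tt N26417 F138576))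
theorem Q50026 : ∀ i, i < 50026 → P i := stepQ 50025 Q50025 (allL N50025 (tt N26417 (iv1 F138582)) (tt N26420 F138581) (tt N26395 (iv2 D90134)) (tt N50777 (iv3 F142398)) (tt N84100 (iv4 F368104)) (tt N74500 (iv5 F339569)) (tt N28557 F362393) (tt N26418 F138580))
theorem Q50027 : ∀ i, i < 50027 → P i := stepQ 50026 Q50026 (allL N50026 (tt N54859 (iv1 F344372)) (tt N84719 D187440) (tt N74500 (iv2 F339568)) (tt N26396 F138583) (tt N74454 F333656) (tt N26395 (iv5 D90135)) (tt N34129 (iv6 F138584)) (tt N50772 (iv7 F142388)))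
theorem Q50028 : ∀ i, i < 50028 → P i := stepQ 50027 Q50027 (allL N50027 (tt N28561 F295157) (tt N28559 F295158) (tt N28557 F294203) (tt N26397 F138585) (tt N51113 F295159) (tt N50450 (iv5 F143227)) (tt N26395 (iv6 D90136)) (tt N28558 F294204))
theorem Q50029 : ∀ i, i < 50029 → P i := stepQ 50028 Q50028 (allL N50028 (tt N84191 (iv1 F368473)) (tt N84178 (iv0 F368429)) (tt N50780 (iv2 F142408)) (tt N84720 D187441) (tt N26396 (iv4 D90137)) (tt N54597 (iv5 F347714)) (tt N71783 (iv6 F347716)) (tt N50774 (iv7 F142394)))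
theorem Q50030 : ∀ i, i < 50030 → P i := stepQ 50029 Q50029 (allL N50029 (tt N32683 (iv1 F178063)) (tt N32670 (iv0 F138588)) (tt N32680 F138586) (tt N34129 F138587) (tt N71783 (iv4 F338498)) (tt N84721 D187442) (tt N26396 (iv6 D90138)) (tt N32681 (iv7 F138589)))
theorem Q50031 : ∀ i, i < 50031 → P i := stepQ 50030 Q50030 (allL N50030 (tt N26858 F138592) (tt N26856 F138593) (tt N26983 F138590) (tt N50450 F143225) (tt N50992 (iv4 F143224)) (tt N26397 (iv5 D90139)) (tt N84721 (iv6 F370333)) (tt N26984 F138591))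
theorem Q50032 : ∀ i, i < 50032 → P i := stepQ 50031 Q50031 (allL N50031 (tt N76266 F355775) (tt N63258 (iv0 F355738)) (tt N74791 (iv2 F317463)) (tt N26398 (iv3 D90140)) (tt N78964 (iv4 F251581)) (tt N50506 F355733) (tt N74789 F354835) (tt N50782 (iv7 F142431)))
theorem Q50033 : ∀ i, i < 50033 → P i := stepQ 50032 Q50032 (allL N50032 (tt N51497 (iv1 F145324)) (tt N27116 F139587) (tt N50781 (iv2 F142425)) (tt N35129 F346098) (tt N26398 (iv4 D90141)) (tt N54613 (iv5 F347705)) (tt N84722 D187443) (tt N50783 (iv7 F142434)))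
theorem Q50034 : ∀ i, i < 50034 → P i := stepQ 50033 Q50033 (allL N50033 (tt N74773 F322602) (tt N74772 F322603) (tt N41365 F322604) (tt N74789 F322605) (tt N84722 (iv4 F370342)) (tt N49370 F290703) (tt N26398 (iv6 D90143)) (tt N74774 F322606))
theorem Q50035 : ∀ i, i < 50035 → P i := stepQ 50034 Q50034 (allL N50034 (tt N26419 F142983) (tt N74792 (iv0 F317455)) (tt N74793 (iv2 F316442)) (tt N26399 (iv3 D90144)) (tt N41369 F315228) (tt N50904 F142984) (tt N74781 F315229) (tt N41367 (iv7 F316439)))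
theorem Q50036 : ∀ i, i < 50036 → P i := stepQ 50035 Q50035 (allL N50035 (tt N27116 F138598) (tt N51497 F145323) (tt N50783 (iv2 F142433)) (tt N84723 D187444) (tt N26399 (iv4 D90145)) (tt N28386 F290691) (tt N84724 D187445) (tt N50781 (iv7 F142426)))
theorem Q50037 : ∀ i, i < 50037 → P i := stepQ 50036 Q50036 (allL N50036 (tt N84725 D187446) (tt N68187 (iv0 F355356)) (tt N50784 (iv2 F142437)) (tt N74781 F355354) (tt N84724 (iv4 F370355)) (tt N50908 (iv5 F143000)) (tt N26399 (iv6 D90146)) (tt N74776 (iv7 F355301)))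
theorem Q50038 : ∀ i, i < 50038 → P i := stepQ 50037 Q50037 (allL N50037 (tt N50786 (iv1 F142454)) (tt N26400 (iv0 D90147)) (tt N29059 F290880) (tt N73365 (iv3 F346091)) (tt N27218 F138599) (tt N28934 F290881) (tt N73363 F346095) (tt N28954 F290882))
theorem Q50039 : ∀ i, i < 50039 → P i := stepQ 50038 Q50038 (allL N50038 (tt N26400 (iv1 D90148)) (tt N50786 F142453) (tt N28954 F290877) (tt N84726 D187447) (tt N27219 F138600) (tt N27925 F290878) (tt N84727 D187448) (tt N29059 F290879))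
theorem Q50040 : ∀ i, i < 50040 → P i := stepQ 50039 Q50039 (allL N50039 (tt N52175 F290885) (tt N84491 (iv0 F369526)) (tt N29048 (iv2 F290980)) (tt N64175 (iv3 F193445)) (tt N27928 (iv4 F291325)) (tt N26400 (iv5 D90149)) (tt N84728 D187449) (tt N29052 F290886))
theorem Q50041 : ∀ i, i < 50041 → P i := stepQ 50040 Q50040 (allL N50040 (tt N28954 (iv1 F290674)) (tt N29059 (iv0 F290675)) (tt N50786 (iv2 F142450)) (tt N64176 (iv3 F193446)) (tt N26401 F138601) (tt N29052 (iv5 F290676)) (tt N61052 (iv6 F177750)) (tt N26400 (iv7 D90150)))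
theorem Q50042 : ∀ i, i < 50042 → P i := stepQ 50041 Q50041 (allL N50041 (tt N26429 (iv1 F138602)) (tt N26402 (iv0 D90151)) (tt N50759 F333353) (tt N61411 F333354) (tt N84729 D187450) (tt N61406 F333355) (tt N50759 F333356) (tt N27205 F333357))
theorem Q50043 : ∀ i, i < 50043 → P i := stepQ 50042 Q50042 (allL N50042 (tt N84730 D187451) (tt N84731 D187452) (tt N50760 (iv2 F142283)) (tt N26403 F138604) (tt N63065 (iv4 F317793)) (tt N26402 (iv5 D90153)) (tt N77242 (iv6 F290415)) (tt N50788 (iv7 F142468)))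
theorem Q50044 : ∀ i, i < 50044 → P i := stepQ 50043 Q50043 (allL N50043 (tt N51249 (iv1 F364360)) (tt N84732 D187453) (tt N50761 (iv2 F142286)) (tt N26404 F138605) (tt N50043 F138606) (tt N50283 (iv5 F139404)) (tt N26402 (iv6 D90154)) (tt N50765 (iv7 F142299)))
theorem Q50045 : ∀ i, i < 50045 → P i := stepQ 50044 Q50044 (allL N50044 (tt N50462 (iv1 F139800)) (tt N54626 (iv0 F347708)) (tt N49880 F138607) (tt N84733 D187454) (tt N26403 (iv4 D90155)) (tt N52175 F347709) (tt N84734 D187455) (tt N50789 (iv7 F142473)))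
theorem Q50046 : ∀ i, i < 50046 → P i := stepQ 50045 Q50045 (allL N50045 (tt N84735 D187456) (tt N84736 D187457) (tt N49881 F138608) (tt N77242 F290416) (tt N84734 (iv4 F370410)) (tt N50284 (iv5 F139405)) (tt N26403 (iv6 D90156)) (tt N84737 D187458))
theorem Q50047 : ∀ i, i < 50047 → P i := stepQ 50046 Q50046 (allL N50046 (tt N49394 F291153) (tt N83015 F291154) (tt N82729 F291155) (tt N26405 (iv3 D90157)) (tt N50046 F138609) (tt N84738 D187459) (tt N50431 (iv6 F139701)) (tt N49534 (iv7 F291340)))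
theorem Q50048 : ∀ i, i < 50048 → P i := stepQ 50047 Q50047 (allL N50047 (tt N27923 F291156) (tt N26686 F138611) (tt N28938 (iv2 F291354)) (tt N84738 (iv3 F370428)) (tt N84491 (iv4 F369524)) (tt N26405 (iv5 D90158)) (tt N84739 D187460) (tt N28937 (iv7 F291341)))
theorem Q50049 : ∀ i, i < 50049 → P i := stepQ 50048 Q50048 (allL N50048 (tt N27928 (iv1 F291324)) (tt N26407 (iv0 D90173)) (tt N29047 (iv2 F291287)) (tt N84740 D187461) (tt N54597 F291161) (tt N49427 F291162) (tt N84741 D187462) (tt N29046 (iv7 F291260)))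
theorem Q50050 : ∀ i, i < 50050 → P i := stepQ 50049 Q50049 (allL N50049 (tt N84491 (iv1 F369527)) (tt N52175 F290883) (tt N29052 F290884) (tt N84742 D187463) (tt N26407 (iv4 D90175)) (tt N50786 (iv5 F142452)) (tt N84743 D187464) (tt N29048 (iv7 F290982)))
theorem Q50051 : ∀ i, i < 50051 → P i := stepQ 50050 Q50050 (allL N50050 (tt N84744 D187465) (tt N84745 D187466) (tt N29053 F292179) (tt N81885 F292180) (tt N84743 (iv4 F370443)) (tt N26415 F138619) (tt N26407 (iv6 D90176)) (tt N84746 D187467))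
theorem Q50052 : ∀ i, i < 50052 → P i := stepQ 50051 Q50051 (allL N50051 (tt N26469 (iv1 F138651)) (tt N26408 (iv0 D90187)) (tt N26468 F294915) (tt N83581 (iv3 F287947)) (tt N84747 D187468) (tt N51169 (iv5 F295018)) (tt N83497 F294292) (tt N26467 F294916))
theorem Q50053 : ∀ i, i < 50053 → P i := stepQ 50052 Q50052 (allL N50052 (tt N26408 (iv1 D90188)) (tt N26469 F138656) (tt N26467 F294908) (tt N84748 D187469) (tt N84749 D187470) (tt N51170 (iv5 F295020)) (tt N27919 F294294) (tt N26468 F294909))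
theorem Q50054 : ∀ i, i < 50054 → P i := stepQ 50053 Q50053 (allL N50053 (tt N50793 (iv1 F142562)) (tt N26409 (iv0 D90201)) (tt N50792 (iv2 F367135)) (tt N50159 F139104) (tt N84750 D187471) (tt N53150 (iv5 F367127)) (tt N84751 D187472) (tt N50791 F367134))
theorem Q50055 : ∀ i, i < 50055 → P i := stepQ 50054 Q50054 (allL N50054 (tt N26409 (iv1 D90202)) (tt N50793 F142564) (tt N50791 F367131) (tt N84752 D187473) (tt N84448 (iv4 F369321)) (tt N53151 F367070) (tt N28382 F367071) (tt N50792 (iv7 F367133)))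
theorem Q50056 : ∀ i, i < 50056 → P i := stepQ 50055 Q50055 (allL N50055 (tt N50792 (iv1 F142563)) (tt N50791 F142558) (tt N26409 (iv2 D90203)) (tt N49183 (iv3 F292623)) (tt N29073 F138766) (tt N83936 (iv5 F367544)) (tt N54726 F291612) (tt N50793 (iv7 F142561)))
theorem Q50057 : ∀ i, i < 50057 → P i := stepQ 50056 Q50056 (allL N50056 (tt N26410 (iv1 D90211)) (tt N49183 F293663) (tt N26758 F142537) (tt N83511 F293664) (tt N83572 (iv4 F287916)) (tt N53139 F293665) (tt N83066 F293666) (tt N49178 F293667))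
theorem Q50058 : ∀ i, i < 50058 → P i := stepQ 50057 Q50057 (allL N50057 (tt N49178 F293670) (tt N26758 F138779) (tt N26410 (iv2 D90212)) (tt N50793 (iv3 F142559)) (tt N49205 F138778) (tt N83940 (iv5 F367559)) (tt N28523 F293671) (tt N49183 F293672))
theorem Q50059 : ∀ i, i < 50059 → P i := stepQ 50058 Q50058 (allL N50058 (tt N83511 F294266) (tt N26755 (iv0 F138790)) (tt N82749 (iv2 F283830)) (tt N26411 (iv3 D90219)) (tt N27334 F138789) (tt N48709 F294267) (tt N51681 (iv6 F293411)) (tt N48863 (iv7 F294605)))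
theorem Q50060 : ∀ i, i < 50060 → P i := stepQ 50059 Q50059 (allL N50059 (tt N29008 F294268) (tt N53453 (iv0 F294518)) (tt N51230 F254765) (tt N84753 D187474) (tt N26411 (iv4 D90220)) (tt N38793 F327066) (tt N53533 F294270) (tt N51228 F254764))
theorem Q50061 : ∀ i, i < 50061 → P i := stepQ 50060 Q50060 (allL N50060 (tt N50156 F140218) (tt N50159 (iv0 F367473)) (tt N84754 D187475) (tt N26412 (iv3 D90224)) (tt N84754 (iv4 F370497)) (tt N83912 (iv5 F367471)) (tt N53299 (iv6 F367074)) (tt N51229 (iv7 F254751)))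
theorem Q50062 : ∀ i, i < 50062 → P i := stepQ 50061 Q50061 (allL N50061 (tt N49451 (iv1 F294626)) (tt N49448 (iv0 F294623)) (tt N26414 F138793) (tt N50797 (iv3 F142589)) (tt N57912 (iv4 F336762)) (tt N26413 (iv5 D90228)) (tt N84755 D187476) (tt N51231 (iv7 F144528)))
theorem Q50063 : ∀ i, i < 50063 → P i := stepQ 50062 Q50062 (allL N50062 (tt N51231 (iv1 F144530)) (tt N26414 (iv0 D90229)) (tt N49451 F294277) (tt N82848 F294278) (tt N58285 (iv4 F326775)) (tt N27023 F294984) (tt N84756 D187477) (tt N49448 F294279))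
theorem Q50064 : ∀ i, i < 50064 → P i := stepQ 50063 Q50063 (allL N50063 (tt N26414 (iv1 D90230)) (tt N51231 F144529) (tt N49448 F294280) (tt N84757 D187478) (tt N58286 F336756) (tt N27024 F294985) (tt N72172 (iv6 F343169)) (tt N49451 F294281))
theorem Q50065 : ∀ i, i < 50065 → P i := stepQ 50064 Q50064 (allL N50064 (tt N38827 F351280) (tt N63321 (iv0 F351279)) (tt N84755 (iv2 F370498)) (tt N26415 F138794) (tt N57857 F351281) (tt N81885 (iv5 F367247)) (tt N26414 (iv6 D90232)) (tt N84758 D187479))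
theorem Q50066 : ∀ i, i < 50066 → P i := stepQ 50065 Q50065 (allL N50065 (tt N50802 (iv1 F142602)) (tt N26415 (iv0 D90237)) (tt N50800 F366186) (tt N84759 D187480) (tt N51233 (iv4 F354763)) (tt N84760 D187481) (tt N53128 F354762) (tt N50801 (iv7 F366187)))
theorem Q50067 : ∀ i, i < 50067 → P i := stepQ 50066 Q50066 (allL N50066 (tt N26415 (iv1 D90238)) (tt N50802 F142601) (tt N50801 (iv2 F366189)) (tt N84761 D187482) (tt N51234 (iv4 F351148)) (tt N84762 D187483) (tt N84763 D187484) (tt N50800 F366188))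
theorem Q50068 : ∀ i, i < 50068 → P i := stepQ 50067 Q50067 (allL N50067 (tt N50801 (iv1 F142597)) (tt N50800 F142600) (tt N50802 (iv2 F142598)) (tt N84758 (iv3 F370520)) (tt N50562 (iv4 F140167)) (tt N84746 (iv5 F370448)) (tt N51235 (iv6 F144537)) (tt N26415 (iv7 D90239)))
theorem Q50069 : ∀ i, i < 50069 → P i := stepQ 50068 Q50068 (allL N50068 (tt N54855 F362336) (tt N49298 F362337) (tt N49361 F293696) (tt N83946 (iv3 F367577)) (tt N84764 D187485) (tt N26416 (iv5 D90241)) (tt N37535 F138805) (tt N49360 F293697))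
theorem Q50070 : ∀ i, i < 50070 → P i := stepQ 50069 Q50069 (allL N50069 (tt N84719 (iv1 F370327)) (tt N54859 (iv0 F344370)) (tt N50772 (iv2 F142386)) (tt N84710 (iv3 F370303)) (tt N74502 (iv4 F338694)) (tt N26418 (iv5 D90243)) (tt N74807 F338692) (tt N74500 F339566))
theorem Q50071 : ∀ i, i < 50071 → P i := stepQ 50070 Q50070 (allL N50070 (tt N51427 (iv1 F145644)) (tt N51432 F145643) (tt N50773 (iv2 F142389)) (tt N84396 (iv3 F369140)) (tt N84119 (iv4 F368178)) (tt N62872 F183968) (tt N26418 (iv6 D90244)) (tt N51431 (iv7 F145647)))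
theorem Q50072 : ∀ i, i < 50072 → P i := stepQ 50071 Q50071 (allL N50071 (tt N74793 (iv1 F316441)) (tt N41367 (iv0 F316437)) (tt N74792 (iv2 F317456)) (tt N26428 F138809) (tt N43851 F315230) (tt N26420 F138810) (tt N43850 (iv6 F316648)) (tt N26419 (iv7 D90247)))
theorem Q50073 : ∀ i, i < 50073 → P i := stepQ 50072 Q50072 (allL N50072 (tt N36576 F138812) (tt N45030 F138814) (tt N50746 (iv2 F142219)) (tt N46891 F298863) (tt N26421 (iv4 D90248)) (tt N36568 F138813) (tt N26427 F138811) (tt N61041 (iv7 F177727)))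
theorem Q50074 : ∀ i, i < 50074 → P i := stepQ 50073 Q50073 (allL N50073 (tt N50454 F139794) (tt N78930 (iv0 F251414)) (tt N50767 (iv2 F142368)) (tt N26423 F138815) (tt N84765 D187486) (tt N26422 (iv5 D90249)) (tt N84766 D187487) (tt N43267 F138816))
theorem Q50075 : ∀ i, i < 50075 → P i := stepQ 50074 Q50074 (allL N50074 (tt N27271 F138819) (tt N84767 D187488) (tt N50768 (iv2 F142369)) (tt N26424 F138817) (tt N48574 F138818) (tt N50196 (iv5 F139207)) (tt N26422 (iv6 D90250)) (tt N51439 (iv7 F144898)))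
theorem Q50076 : ∀ i, i < 50076 → P i := stepQ 50075 Q50075 (allL N50075 (tt N51013 (iv1 F143267)) (tt N82746 (iv0 F283811)) (tt N47475 F321770) (tt N84768 D187489) (tt N26423 (iv4 D90251)) (tt N50234 (iv5 F139296)) (tt N47001 F321771) (tt N50753 (iv7 F142260)))
theorem Q50077 : ∀ i, i < 50077 → P i := stepQ 50076 Q50076 (allL N50076 (tt N80714 F324792) (tt N84769 D187490) (tt N47474 F324793) (tt N84766 (iv3 F370538)) (tt N47001 F324794) (tt N50198 (iv5 F139211)) (tt N26423 (iv6 D90252)) (tt N47471 F324795))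
theorem Q50078 : ∀ i, i < 50078 → P i := stepQ 50077 Q50077 (allL N50077 (tt N81442 (iv1 F342084)) (tt N41994 F330316) (tt N50756 (iv2 F142266)) (tt N61011 (iv3 F177585)) (tt N80897 F342083) (tt N51414 (iv5 F144857)) (tt N26425 (iv6 D90255)) (tt N69222 (iv7 F342082)))
theorem Q50079 : ∀ i, i < 50079 → P i := stepQ 50078 Q50078 (allL N50078 (tt N41978 F310539) (tt N82560 (iv0 F346567)) (tt N65120 F331168) (tt N26427 (iv3 D90259)) (tt N41822 F310540) (tt N83614 (iv5 F288039)) (tt N46891 F298866) (tt N43859 F310541))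
theorem Q50080 : ∀ i, i < 50080 → P i := stepQ 50079 Q50079 (allL N50079 (tt N47026 F328226) (tt N47570 (iv0 F328230)) (tt N47569 F328613) (tt N43859 F337900) (tt N26428 F138824) (tt N26888 F138825) (tt N43857 F337901) (tt N26427 (iv7 D90260)))
theorem Q50081 : ∀ i, i < 50081 → P i := stepQ 50080 Q50080 (allL N50080 (tt N61062 (iv1 F177754)) (tt N61061 F177753) (tt N50758 (iv2 F142277)) (tt N43850 F319016) (tt N43857 F319017) (tt N50787 (iv5 F142462)) (tt N26428 (iv6 D90261)) (tt N61040 (iv7 F177724)))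
theorem Q50082 : ∀ i, i < 50082 → P i := stepQ 50081 Q50081 (allL N50081 (tt N84731 (iv1 F370394)) (tt N84730 F370391) (tt N50788 (iv2 F142466)) (tt N26430 F138828) (tt N62240 (iv4 F317798)) (tt N26429 (iv5 D90262)) (tt N62239 (iv6 F318761)) (tt N50760 (iv7 F142285)))
theorem Q50083 : ∀ i, i < 50083 → P i := stepQ 50082 Q50082 (allL N50082 (tt N84770 D187491) (tt N51245 F364370) (tt N28463 F292118) (tt N26431 F138829) (tt N50082 F138830) (tt N50327 (iv5 F139542)) (tt N26429 (iv6 D90263)) (tt N28549 F292197))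
theorem Q50084 : ∀ i, i < 50084 → P i := stepQ 50083 Q50083 (allL N50083 (tt N54864 (iv1 F291385)) (tt N82742 F283778) (tt N48626 F138831) (tt N84771 D187492) (tt N26430 (iv4 D90264)) (tt N50236 F139302) (tt N84772 D187493) (tt N50762 (iv7 F142290)))
theorem Q50085 : ∀ i, i < 50085 → P i := stepQ 50084 Q50084 (allL N50084 (tt N32761 (iv1 F178477)) (tt N32747 (iv0 F138833)) (tt N32758 F138832) (tt N62239 (iv3 F318760)) (tt N84772 (iv4 F370568)) (tt N50329 (iv5 F139545)) (tt N26430 (iv6 D90265)) (tt N32759 (iv7 F138834)))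
theorem Q50086 : ∀ i, i < 50086 → P i := stepQ 50085 Q50085 (allL N50085 (tt N32518 F138843) (tt N32486 F138844) (tt N32514 F138839) (tt N26434 F138840) (tt N29721 F138842) (tt N26432 (iv5 D90267)) (tt N29719 F138845) (tt N32512 F138841))
theorem Q50087 : ∀ i, i < 50087 → P i := stepQ 50086 Q50086 (allL N50086 (tt N84773 D187494) (tt N83656 F290177) (tt N48965 F138846) (tt N26435 F138847) (tt N28685 F138848) (tt N75694 (iv5 F233465)) (tt N26432 (iv6 D90268)) (tt N83646 F290178))
theorem Q50088 : ∀ i, i < 50088 → P i := stepQ 50087 Q50087 (allL N50087 (tt N83611 F290206) (tt N50174 F290207) (tt N50803 (iv2 F142603)) (tt N28469 F138849) (tt N26435 F138850) (tt N56247 (iv5 F163263)) (tt N26433 (iv6 D90269)) (tt N83647 F290208))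
theorem Q50089 : ∀ i, i < 50089 → P i := stepQ 50088 Q50088 (allL N50088 (tt N32127 F138855) (tt N32127 F138856) (tt N29873 F138851) (tt N29724 F138852) (tt N26434 (iv4 D90270)) (tt N26839 F138854) (tt N29722 F138857) (tt N29873 F138853))
theorem Q50090 : ∀ i, i < 50090 → P i := stepQ 50089 Q50089 (allL N50089 (tt N32505 F138862) (tt N32494 (iv0 F138863)) (tt N29871 F138858) (tt N29719 F138859) (tt N29722 F138860) (tt N75693 (iv5 F233458)) (tt N26434 (iv6 D90271)) (tt N29868 F138861))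
theorem Q50091 : ∀ i, i < 50091 → P i := stepQ 50090 Q50090 (allL N50090 (tt N50948 (iv1 F335791)) (tt N50960 F335790) (tt N50804 (iv2 F142606)) (tt N75694 (iv3 F233464)) (tt N84774 D187495) (tt N26435 (iv5 D90274)) (tt N75693 F233462) (tt N83648 F290221))
theorem Q50092 : ∀ i, i < 50092 → P i := stepQ 50091 Q50091 (allL N50091 (tt N50293 (iv1 F139447)) (tt N26437 (iv0 D90276)) (tt N50290 F139449) (tt N37291 (iv3 F139448)) (tt N56627 (iv4 F164482)) (tt N61458 (iv5 F178879)) (tt N37289 F139450) (tt N50291 F139451))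
theorem Q50093 : ∀ i, i < 50093 → P i := stepQ 50092 Q50092 (allL N50092 (tt N26437 (iv1 D90277)) (tt N50293 F139446) (tt N50291 (iv2 F139452)) (tt N60717 (iv3 F176767)) (tt N56632 (iv4 F164493)) (tt N76222 (iv5 F237950)) (tt N57257 (iv6 F165913)) (tt N50290 (iv7 F139453)))
theorem Q50094 : ∀ i, i < 50094 → P i := stepQ 50093 Q50093 (allL N50093 (tt N84775 D187496) (tt N84776 D187497) (tt N50292 (iv2 F139438)) (tt N26444 F138864) (tt N84777 D187498) (tt N26437 (iv5 D90278)) (tt N26440 F138865) (tt N84778 D187499))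
theorem Q50095 : ∀ i, i < 50095 → P i := stepQ 50094 Q50094 (allL N50094 (tt N50291 (iv1 F139434)) (tt N50290 F139445) (tt N50293 (iv2 F139441)) (tt N26445 F138866) (tt N50293 (iv4 F139443)) (tt N84778 (iv5 F370595)) (tt N50293 (iv6 F139444)) (tt N26437 (iv7 D90279)))
theorem Q50096 : ∀ i, i < 50096 → P i := stepQ 50095 Q50095 (allL N50095 (tt N84779 D187500) (tt N45156 (iv0 F177334)) (tt N48983 F155681) (tt N26438 (iv3 D90281)) (tt N48970 F138868) (tt N84780 D187501) (tt N83705 F362650) (tt N48987 F155677))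
theorem Q50097 : ∀ i, i < 50097 → P i := stepQ 50096 Q50096 (allL N50096 (tt N84781 D187502) (tt N45170 (iv0 F205434)) (tt N50806 (iv2 F155675)) (tt N28473 (iv3 F138869)) (tt N26438 (iv4 D90282)) (tt N84782 D187503) (tt N83706 F355750) (tt N50808 F155676))
theorem Q50098 : ∀ i, i < 50098 → P i := stepQ 50097 Q50097 (allL N50097 (tt N50987 (iv1 F364351)) (tt N53828 (iv0 F364359)) (tt N50807 F155686) (tt N84780 (iv3 F370607)) (tt N82877 F364060) (tt N26438 (iv5 D90283)) (tt N82876 (iv6 F364059)) (tt N50809 F155678))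
theorem Q50099 : ∀ i, i < 50099 → P i := stepQ 50098 Q50098 (allL N50098 (tt N50928 (iv1 F157719)) (tt N75989 F235267) (tt N75988 (iv2 F235262)) (tt N26439 (iv3 D90286)) (tt N28690 F138871) (tt N84783 D187504) (tt N84784 D187505) (tt N50805 (iv7 F155684)))
theorem Q50100 : ∀ i, i < 50100 → P i := stepQ 50099 Q50099 (allL N50099 (tt N45170 (iv1 F205435)) (tt N84781 F370612) (tt N50808 F155668) (tt N50402 (iv3 F139663)) (tt N26439 (iv4 D90287)) (tt N84785 D187506) (tt N84786 D187507) (tt N50806 (iv7 F155670)))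
theorem Q50101 : ∀ i, i < 50101 → P i := stepQ 50100 Q50100 (allL N50100 (tt N53828 (iv1 F364363)) (tt N50987 (iv0 F364349)) (tt N50809 F155682) (tt N84783 (iv3 F370616)) (tt N83554 (iv4 F356717)) (tt N26439 (iv5 D90288)) (tt N84787 D187508) (tt N50807 (iv7 F155685)))
theorem Q50102 : ∀ i, i < 50102 → P i := stepQ 50101 Q50101 (allL N50101 (tt N27929 F364341) (tt N49228 F364342) (tt N50810 F155683) (tt N84784 (iv3 F370620)) (tt N84786 (iv4 F370625)) (tt N75609 F364343) (tt N26439 (iv6 D90289)) (tt N83618 F335767))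
theorem Q50103 : ∀ i, i < 50103 → P i := stepQ 50102 Q50102 (allL N50102 (tt N50814 (iv1 F142621)) (tt N26440 (iv0 D90290)) (tt N50811 (iv2 F344311)) (tt N84788 D187509) (tt N83558 F356716) (tt N84770 (iv5 F370556)) (tt N84789 D187510) (tt N50812 F344310))
theorem Q50104 : ∀ i, i < 50104 → P i := stepQ 50103 Q50103 (allL N50103 (tt N26440 (iv1 D90291)) (tt N50814 F142620) (tt N50812 F344308) (tt N84790 D187511) (tt N83557 (iv4 F362834)) (tt N51245 (iv5 F144566)) (tt N84791 D187512) (tt N50811 (iv7 F344309)))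
theorem Q50105 : ∀ i, i < 50105 → P i := stepQ 50104 Q50104 (allL N50104 (tt N84792 D187513) (tt N84793 D187514) (tt N50813 (iv2 F142615)) (tt N84794 D187515) (tt N26440 (iv4 D90292)) (tt N49095 F362830) (tt N84777 (iv6 F370589)) (tt N49094 F362831))
theorem Q50106 : ∀ i, i < 50106 → P i := stepQ 50105 Q50105 (allL N50105 (tt N50812 (iv1 F142614)) (tt N50811 F142619) (tt N50814 (iv2 F142616)) (tt N26454 F138872) (tt N49094 F362820) (tt N26441 F138873) (tt N49096 F362821) (tt N26440 (iv7 D90293)))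
theorem Q50107 : ∀ i, i < 50107 → P i := stepQ 50106 Q50106 (allL N50106 (tt N26793 F138878) (tt N28477 (iv0 F138879)) (tt N26561 F138874) (tt N32419 F138875) (tt N26443 (iv4 D90294)) (tt N84795 D187516) (tt N29526 F138876) (tt N26558 F138877))
theorem Q50108 : ∀ i, i < 50108 → P i := stepQ 50107 Q50107 (allL N50107 (tt N61276 (iv1 F178484)) (tt N61277 (iv0 F178489)) (tt N26562 F138880) (tt N44954 F138881) (tt N84796 D187517) (tt N26443 (iv5 D90295)) (tt N84797 D187518) (tt N26559 F138882))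
theorem Q50109 : ∀ i, i < 50109 → P i := stepQ 50108 Q50108 (allL N50108 (tt N26444 (iv1 D90296)) (tt N26566 F138883) (tt N26564 (iv2 F138886)) (tt N63284 (iv3 F186718)) (tt N84798 D187519) (tt N27124 F138885) (tt N84799 D187520) (tt N26563 F138884))
theorem Q50110 : ∀ i, i < 50110 → P i := stepQ 50109 Q50109 (allL N50109 (tt N84800 D187521) (tt N78801 (iv0 F250911)) (tt N26565 F138888) (tt N77119 (iv3 F241629)) (tt N26444 (iv4 D90297)) (tt N76979 (iv5 F241278)) (tt N26453 F138889) (tt N84801 D187522))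
theorem Q50111 : ∀ i, i < 50111 → P i := stepQ 50110 Q50110 (allL N50110 (tt N26564 (iv1 F138892)) (tt N26563 F138893) (tt N26566 F138890) (tt N84778 (iv3 F370593)) (tt N84801 (iv4 F370669)) (tt N26445 F138891) (tt N84802 D187523) (tt N26444 (iv7 D90298)))
theorem Q50112 : ∀ i, i < 50112 → P i := stepQ 50111 Q50111 (allL N50111 (tt N61306 (iv1 F178557)) (tt N84803 D187524) (tt N75990 (iv2 F235269)) (tt N26447 F138905) (tt N56929 F335540) (tt N26446 (iv5 D90302)) (tt N84804 D187525) (tt N26583 F138906))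
theorem Q50113 : ∀ i, i < 50113 → P i := stepQ 50112 Q50112 (allL N50112 (tt N50419 (iv1 F139684)) (tt N50422 (iv0 F139688)) (tt N26577 F138911) (tt N58212 F351291) (tt N26447 (iv4 D90304)) (tt N53775 F357541) (tt N84805 D187526) (tt N26587 F138912))
theorem Q50114 : ∀ i, i < 50114 → P i := stepQ 50113 Q50113 (allL N50113 (tt N84806 D187527) (tt N84807 D187528) (tt N26578 F138913) (tt N84804 (iv3 F370682)) (tt N84805 (iv4 F370685)) (tt N27152 F138914) (tt N26447 (iv6 D90305)) (tt N84808 D187529))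
theorem Q50115 : ∀ i, i < 50115 → P i := stepQ 50114 Q50114 (allL N50114 (tt N26448 (iv1 D90307)) (tt N26568 F138920) (tt N26567 F154620) (tt N84779 (iv3 F370600)) (tt N53298 (iv4 F177400)) (tt N84809 D187530) (tt N50819 F177384) (tt N26524 F177385))
theorem Q50116 : ∀ i, i < 50116 → P i := stepQ 50115 Q50115 (allL N50115 (tt N26524 F177382) (tt N26567 F138919) (tt N26448 (iv2 D90308)) (tt N26581 F138916) (tt N28489 F138917) (tt N84810 D187531) (tt N54799 (iv6 F157842)) (tt N26568 F138918))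
theorem Q50117 : ∀ i, i < 50117 → P i := stepQ 50116 Q50116 (allL N50116 (tt N84811 D187532) (tt N84812 D187533) (tt N84810 (iv2 F370698)) (tt N26449 F138922) (tt N84813 D187534) (tt N26448 (iv5 D90309)) (tt N84814 D187535) (tt N26570 F138923))
theorem Q50118 : ∀ i, i < 50118 → P i := stepQ 50117 Q50117 (allL N50117 (tt N45127 F161629) (tt N77625 (iv0 F333319)) (tt N54799 (iv2 F157841)) (tt N26450 F138924) (tt N28506 F138925) (tt N84484 (iv5 F369488)) (tt N26448 (iv6 D90310)) (tt N29057 (iv7 F291093)))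
theorem Q50119 : ∀ i, i < 50119 → P i := stepQ 50118 Q50118 (allL N50118 (tt N50422 (iv1 F139689)) (tt N50419 (iv0 F139683)) (tt N26587 F138926) (tt N84815 D187536) (tt N26449 (iv4 D90311)) (tt N53774 F344198) (tt N84816 D187537) (tt N26577 F138927))
theorem Q50120 : ∀ i, i < 50120 → P i := stepQ 50119 Q50119 (allL N50119 (tt N84817 D187538) (tt N61293 (iv0 F178533)) (tt N26588 F138928) (tt N84814 (iv3 F370715)) (tt N84816 (iv4 F370721)) (tt N84177 (iv5 F368424)) (tt N26449 (iv6 D90312)) (tt N84818 D187539))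
theorem Q50121 : ∀ i, i < 50121 → P i := stepQ 50120 Q50120 (allL N50120 (tt N74523 F345197) (tt N32779 F345198) (tt N74522 F228241) (tt N26451 (iv3 D90313)) (tt N65476 F345193) (tt N55332 F345187) (tt N84819 D187540) (tt N26595 F138929))
theorem Q50122 : ∀ i, i < 50122 → P i := stepQ 50121 Q50121 (allL N50121 (tt N50406 (iv1 F139668)) (tt N50170 (iv0 F139157)) (tt N26592 F138930) (tt N30160 F332991) (tt N26451 (iv4 D90314)) (tt N28260 F292308) (tt N30155 F332992) (tt N26596 F138931))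
theorem Q50123 : ∀ i, i < 50123 → P i := stepQ 50122 Q50122 (allL N50122 (tt N84820 D187541) (tt N84821 D187542) (tt N26594 F138932) (tt N84819 (iv3 F370730)) (tt N30155 F336041) (tt N49239 F138933) (tt N26451 (iv6 D90315)) (tt N84822 D187543))
theorem Q50124 : ∀ i, i < 50124 → P i := stepQ 50123 Q50123 (allL N50123 (tt N50927 F157683) (tt N84809 (iv0 F370696)) (tt N84823 D187544) (tt N26452 (iv3 D90316)) (tt N84824 D187545) (tt N27243 F138934) (tt N84825 D187546) (tt N26591 F138935))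
theorem Q50125 : ∀ i, i < 50125 → P i := stepQ 50124 Q50124 (allL N50124 (tt N50170 (iv1 F139158)) (tt N50406 (iv0 F139667)) (tt N26596 F138936) (tt N84826 D187547) (tt N26452 (iv4 D90317)) (tt N28682 F292309) (tt N84827 D187548) (tt N26592 F138937))
theorem Q50126 : ∀ i, i < 50126 → P i := stepQ 50125 Q50125 (allL N50125 (tt N84828 D187549) (tt N84829 D187550) (tt N26598 F138938) (tt N84825 (iv3 F370759)) (tt N84827 (iv4 F370770)) (tt N27244 F138939) (tt N26452 (iv6 D90318)) (tt N84830 D187551))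
theorem Q50127 : ∀ i, i < 50127 → P i := stepQ 50126 Q50126 (allL N50126 (tt N26603 (iv1 F138948)) (tt N26453 (iv0 D90319)) (tt N26599 (iv2 F139151)) (tt N84831 D187552) (tt N28563 F291890) (tt N28230 F291891) (tt N84832 D187553) (tt N26600 F139152))
theorem Q50128 : ∀ i, i < 50128 → P i := stepQ 50127 Q50127 (allL N50127 (tt N26453 (iv1 D90320)) (tt N26603 F138940) (tt N26600 F139150) (tt N84833 D187554) (tt N27267 (iv4 F138941)) (tt N28543 F291892) (tt N84834 D187555) (tt N26599 (iv7 F139149)))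
theorem Q50129 : ∀ i, i < 50129 → P i := stepQ 50128 Q50128 (allL N50128 (tt N44617 F351314) (tt N70152 F351315) (tt N70239 (iv2 F342488)) (tt N26453 (iv3 D90321)) (tt N84794 (iv4 F370636)) (tt N55327 (iv5 F342493)) (tt N77119 F241630) (tt N70240 F351313))
theorem Q50130 : ∀ i, i < 50130 → P i := stepQ 50129 Q50129 (allL N50129 (tt N26600 (iv1 F138949)) (tt N26599 F138950) (tt N26603 F138945) (tt N70240 F351311) (tt N26454 F138946) (tt N26654 F138947) (tt N84835 D187556) (tt N26453 (iv7 D90323)))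
theorem Q50131 : ∀ i, i < 50131 → P i := stepQ 50130 Q50130 (allL N50130 (tt N84836 D187557) (tt N84837 D187558) (tt N26604 F138951) (tt N49096 F362825) (tt N84835 (iv4 F370798)) (tt N50835 (iv5 F142682)) (tt N26454 (iv6 D90324)) (tt N84802 (iv7 F370674)))
theorem Q50132 : ∀ i, i < 50132 → P i := stepQ 50131 Q50131 (allL N50131 (tt N27267 F138954) (tt N28563 (iv0 F291183)) (tt N26613 F138952) (tt N51076 (iv3 F143448)) (tt N50365 (iv4 F139599)) (tt N26455 (iv5 D90325)) (tt N84838 D187559) (tt N26474 F138953))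
theorem Q50133 : ∀ i, i < 50133 → P i := stepQ 50132 Q50132 (allL N50132 (tt N26635 (iv1 F138956)) (tt N26456 (iv0 D90326)) (tt N26634 (iv2 F138955)) (tt N51055 (iv3 F143351)) (tt N51199 (iv4 F143947)) (tt N84839 D187560) (tt N50837 F142702) (tt N26507 F138957))
theorem Q50134 : ∀ i, i < 50134 → P i := stepQ 50133 Q50133 (allL N50133 (tt N26634 (iv1 F138963)) (tt N26507 F138962) (tt N26456 (iv2 D90327)) (tt N26615 F138959) (tt N28435 F138960) (tt N84840 D187561) (tt N51442 (iv6 F144906)) (tt N26635 F138961))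
theorem Q50135 : ∀ i, i < 50135 → P i := stepQ 50134 Q50134 (allL N50134 (tt N53841 (iv1 F362389)) (tt N51068 (iv0 F283823)) (tt N84840 (iv2 F370813)) (tt N26457 F138964) (tt N78302 (iv4 F364668)) (tt N26456 (iv5 D90328)) (tt N78301 F333557) (tt N26636 F138965))
theorem Q50136 : ∀ i, i < 50136 → P i := stepQ 50135 Q50135 (allL N50135 (tt N53811 (iv1 F293425)) (tt N53808 F362671) (tt N26620 F138974) (tt N84841 D187562) (tt N26457 (iv4 D90331)) (tt N55325 (iv5 F362669)) (tt N84842 D187563) (tt N26638 F138975))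
theorem Q50137 : ∀ i, i < 50137 → P i := stepQ 50136 Q50136 (allL N50136 (tt N84843 D187564) (tt N84844 D187565) (tt N26621 F138976) (tt N78301 F345022) (tt N84842 (iv4 F370822)) (tt N51444 (iv5 F144913)) (tt N26457 (iv6 D90332)) (tt N84845 D187566))
theorem Q50138 : ∀ i, i < 50138 → P i := stepQ 50137 Q50137 (allL N50137 (tt N84846 D187567) (tt N84847 D187568) (tt N78856 (iv2 F251131)) (tt N26459 F139015) (tt N84848 D187569) (tt N26458 (iv5 D90343)) (tt N56320 (iv6 F176041)) (tt N26616 F139016))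
theorem Q50139 : ∀ i, i < 50139 → P i := stepQ 50138 Q50138 (allL N50138 (tt N53808 (iv1 F362672)) (tt N53811 (iv0 F293424)) (tt N26638 F139019) (tt N84849 D187570) (tt N26459 (iv4 D90345)) (tt N55326 (iv5 F362670)) (tt N84850 D187571) (tt N26620 F139020))
theorem Q50140 : ∀ i, i < 50140 → P i := stepQ 50139 Q50139 (allL N50139 (tt N84851 D187572) (tt N61046 (iv0 F178045)) (tt N26639 F139021) (tt N56320 F176042) (tt N84850 (iv4 F370841)) (tt N84391 (iv5 F369123)) (tt N26459 (iv6 D90346)) (tt N78857 (iv7 F251145)))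
theorem Q50141 : ∀ i, i < 50141 → P i := stepQ 50140 Q50140 (allL N50140 (tt N26726 F293970) (tt N26460 (iv0 D90361)) (tt N28275 F293971) (tt N61393 (iv3 F335402)) (tt N83085 F293972) (tt N61392 F335403) (tt N28268 F293973) (tt N27914 F293974))
theorem Q50142 : ∀ i, i < 50142 → P i := stepQ 50141 Q50141 (allL N50141 (tt N84852 D187573) (tt N84853 D187574) (tt N48897 F293977) (tt N26461 F139057) (tt N84854 D187575) (tt N26460 (iv5 D90364)) (tt N84855 D187576) (tt N28545 F293978))
theorem Q50143 : ∀ i, i < 50143 → P i := stepQ 50142 Q50142 (allL N50142 (tt N55326 F293979) (tt N55325 F293980) (tt N26654 F139063) (tt N84856 D187577) (tt N26461 (iv4 D90368)) (tt N26603 F139064) (tt N84857 D187578) (tt N26602 (iv7 F139065)))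
theorem Q50144 : ∀ i, i < 50144 → P i := stepQ 50143 Q50143 (allL N50143 (tt N84858 D187579) (tt N84859 D187580) (tt N26655 F139066) (tt N84855 (iv3 F370859)) (tt N84857 (iv4 F370869)) (tt N26471 F139067) (tt N26461 (iv6 D90369)) (tt N84860 D187581))
theorem Q50145 : ∀ i, i < 50145 → P i := stepQ 50144 Q50144 (allL N50144 (tt N26689 (iv1 F139073)) (tt N26462 (iv0 D90371)) (tt N26688 F338431) (tt N84861 D187582) (tt N28895 F293736) (tt N51157 (iv5 F338447)) (tt N83460 F338451) (tt N26687 F338432))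
theorem Q50146 : ∀ i, i < 50146 → P i := stepQ 50145 Q50145 (allL N50145 (tt N26462 (iv1 D90372)) (tt N26689 F139078) (tt N26687 F338433) (tt N48985 F338434) (tt N28896 F338435) (tt N51158 F338436) (tt N28643 F338437) (tt N26688 F338438))
theorem Q50147 : ∀ i, i < 50147 → P i := stepQ 50146 Q50146 (allL N50146 (tt N26688 (iv1 F139079)) (tt N26687 F139077) (tt N26462 (iv2 D90373)) (tt N26681 F139074) (tt N39749 F328550) (tt N84862 D187583) (tt N28639 F293738) (tt N26689 F139076))
theorem Q50148 : ∀ i, i < 50148 → P i := stepQ 50147 Q50147 (allL N50147 (tt N84863 D187584) (tt N84864 D187585) (tt N84862 (iv2 F370889)) (tt N26463 F139080) (tt N84865 D187586) (tt N26462 (iv5 D90374)) (tt N84866 D187587) (tt N26690 F139081))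
theorem Q50149 : ∀ i, i < 50149 → P i := stepQ 50148 Q50148 (allL N50148 (tt N84867 D187588) (tt N84868 D187589) (tt N26685 F139084) (tt N84866 (iv3 F370908)) (tt N27075 F139085) (tt N28944 F293739) (tt N26463 (iv6 D90376)) (tt N84869 D187590))
theorem Q50150 : ∀ i, i < 50150 → P i := stepQ 50149 Q50149 (allL N50149 (tt N26681 (iv1 F139088)) (tt N26464 (iv0 D90378)) (tt N26680 F357542) (tt N49089 F357536) (tt N84870 D187591) (tt N51143 F357537) (tt N28252 F357538) (tt N26679 F357543))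
theorem Q50151 : ∀ i, i < 50151 → P i := stepQ 50150 Q50150 (allL N50150 (tt N26464 (iv1 D90379)) (tt N26681 F139092) (tt N26679 F357549) (tt N84871 D187592) (tt N84662 (iv4 F370090)) (tt N51144 (iv5 F347752)) (tt N28871 F347751) (tt N26680 F357550))
theorem Q50152 : ∀ i, i < 50152 → P i := stepQ 50151 Q50151 (allL N50151 (tt N26680 (iv1 F139093)) (tt N26679 F139091) (tt N26464 (iv2 D90380)) (tt N26689 F139089) (tt N82594 (iv4 F283179)) (tt N84872 D187593) (tt N84873 D187594) (tt N26681 F139090))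
theorem Q50153 : ∀ i, i < 50153 → P i := stepQ 50152 Q50152 (allL N50152 (tt N49557 F343086) (tt N49560 F356249) (tt N84872 (iv2 F370944)) (tt N26465 F139094) (tt N84874 D187595) (tt N26464 (iv5 D90381)) (tt N84875 D187596) (tt N26683 F139095))
theorem Q50154 : ∀ i, i < 50154 → P i := stepQ 50153 Q50153 (allL N50153 (tt N84876 D187597) (tt N28605 F343084) (tt N84873 (iv2 F370949)) (tt N26466 F139096) (tt N55098 F291781) (tt N49750 F291782) (tt N26464 (iv6 D90382)) (tt N28936 F291783))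
theorem Q50155 : ∀ i, i < 50155 → P i := stepQ 50154 Q50154 (allL N50154 (tt N54290 F293825) (tt N84877 D187598) (tt N26692 F139097) (tt N84875 (iv3 F370959)) (tt N26838 F139098) (tt N49752 F293826) (tt N26465 (iv6 D90383)) (tt N84878 D187599))
theorem Q50156 : ∀ i, i < 50156 → P i := stepQ 50155 Q50155 (allL N50155 (tt N84871 (iv1 F370941)) (tt N84879 D187600) (tt N83580 (iv2 F357382)) (tt N26467 (iv3 D90386)) (tt N49993 F139102) (tt N84880 D187601) (tt N48812 F293092) (tt N83581 (iv7 F357381)))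
theorem Q50157 : ∀ i, i < 50157 → P i := stepQ 50156 Q50156 (allL N50156 (tt N84881 D187602) (tt N50060 (iv0 F140218)) (tt N84749 (iv2 F370464)) (tt N83118 F294910) (tt N26467 (iv4 D90387)) (tt N84882 D187603) (tt N48813 F294911) (tt N84747 (iv7 F370457)))
theorem Q50158 : ∀ i, i < 50158 → P i := stepQ 50157 Q50157 (allL N50157 (tt N51171 F294912) (tt N26866 F294913) (tt N51170 F294821) (tt N84880 (iv3 F370986)) (tt N84883 D187604) (tt N26467 (iv5 D90388)) (tt N84884 D187605) (tt N51169 F294822))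
theorem Q50159 : ∀ i, i < 50159 → P i := stepQ 50158 Q50158 (allL N50158 (tt N84885 D187606) (tt N84861 (iv0 F370886)) (tt N84886 D187607) (tt N26468 (iv3 D90391)) (tt N50325 (iv4 F293719)) (tt N84887 D187608) (tt N78984 (iv6 F366974)) (tt N84748 (iv7 F370460)))
theorem Q50160 : ∀ i, i < 50160 → P i := stepQ 50159 Q50159 (allL N50159 (tt N50060 F367473) (tt N84881 F370990) (tt N84747 (iv2 F370456)) (tt N50053 (iv3 F139104)) (tt N26468 (iv4 D90392)) (tt N84888 D187609) (tt N84889 D187610) (tt N84749 (iv7 F370466)))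
theorem Q50161 : ∀ i, i < 50161 → P i := stepQ 50160 Q50160 (allL N50160 (tt N26866 F366975) (tt N51171 F366976) (tt N51169 (iv2 F366977)) (tt N84887 (iv3 F371006)) (tt N84890 D187611) (tt N26468 (iv5 D90393)) (tt N84891 D187612) (tt N51170 F366978))
theorem Q50162 : ∀ i, i < 50162 → P i := stepQ 50161 Q50161 (allL N50161 (tt N50207 F295163) (tt N48950 F295164) (tt N83497 F295165) (tt N78984 F295166) (tt N84889 (iv4 F371010)) (tt N82615 F295167) (tt N26468 (iv6 D90394)) (tt N48811 F295168))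
theorem Q50163 : ∀ i, i < 50163 → P i := stepQ 50162 Q50162 (allL N50162 (tt N50594 (iv1 F140256)) (tt N50593 F140251) (tt N26470 F139105) (tt N26701 F139106) (tt N84892 D187613) (tt N26469 (iv5 D90395)) (tt N84893 D187614) (tt N50595 (iv7 F140254)))
theorem Q50164 : ∀ i, i < 50164 → P i := stepQ 50163 Q50163 (allL N50163 (tt N26470 (iv1 D90397)) (tt N50595 F140257) (tt N50593 (iv2 F294806)) (tt N84894 D187615) (tt N84895 D187616) (tt N28193 F295171) (tt N84896 D187617) (tt N50594 (iv7 F294819)))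
theorem Q50165 : ∀ i, i < 50165 → P i := stepQ 50164 Q50164 (allL N50164 (tt N84897 D187618) (tt N84898 D187619) (tt N84892 (iv2 F371014)) (tt N50582 (iv3 F140236)) (tt N26470 (iv4 D90398)) (tt N84899 D187620) (tt N84900 D187621) (tt N50580 F140231))
theorem Q50166 : ∀ i, i < 50166 → P i := stepQ 50165 Q50165 (allL N50165 (tt N84901 D187622) (tt N84902 D187623) (tt N84893 (iv2 F371017)) (tt N26471 F139107) (tt N84900 (iv4 F371028)) (tt N84855 (iv5 F370860)) (tt N26470 (iv6 D90399)) (tt N84903 D187624))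
theorem Q50167 : ∀ i, i < 50167 → P i := stepQ 50166 Q50166 (allL N50166 (tt N26712 (iv1 F139110)) (tt N26471 (iv0 D90400)) (tt N26710 (iv2 F371037)) (tt N84904 D187626) (tt N53159 (iv4 F373122)) (tt N84905 D187628) (tt N84906 D187629) (tt N26711 F371036))
theorem Q50168 : ∀ i, i < 50168 → P i := stepQ 50167 Q50167 (allL N50167 (tt N26471 (iv1 D90401)) (tt N26712 F139108) (tt N26711 F371038) (tt N84907 D187630) (tt N53160 (iv4 F373125)) (tt N84908 D187632) (tt N84909 D187633) (tt N26710 F371039))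
theorem Q50169 : ∀ i, i < 50169 → P i := stepQ 50168 Q50168 (allL N50168 (tt N26711 (iv1 F139111)) (tt N26710 F139112) (tt N26712 F139109) (tt N84903 (iv3 F371029)) (tt N50609 (iv4 F140265)) (tt N84860 (iv5 F370880)) (tt N50600 (iv6 F140261)) (tt N26471 (iv7 D90402)))
theorem Q50170 : ∀ i, i < 50170 → P i := stepQ 50169 Q50169 (allL N50169 (tt N26613 (iv1 F139147)) (tt N26474 (iv0 D90410)) (tt N28563 F291449) (tt N79046 F251994) (tt N26599 F139146) (tt N26648 F139145) (tt N84910 D187634) (tt N27267 (iv7 F139148)))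
theorem Q50171 : ∀ i, i < 50171 → P i := stepQ 50170 Q50170 (allL N50170 (tt N50121 F139157) (tt N50124 F139158) (tt N50366 F139604) (tt N28679 F345118) (tt N26474 (iv4 D90412)) (tt N28531 F291453) (tt N61299 (iv6 F178542)) (tt N50365 F139601))
theorem Q50172 : ∀ i, i < 50172 → P i := stepQ 50171 Q50171 (allL N50171 (tt N26479 (iv1 F139164)) (tt N26475 (iv0 D90413)) (tt N26476 F160259) (tt N84911 D187635) (tt N27605 (iv4 F139166)) (tt N84912 D187636) (tt N55770 (iv6 F161610)) (tt N26477 F160260))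
theorem Q50173 : ∀ i, i < 50173 → P i := stepQ 50172 Q50172 (allL N50172 (tt N26477 (iv1 F139165)) (tt N26476 F139167) (tt N26479 F139162) (tt N50887 F142907) (tt N55165 (iv4 F159104)) (tt N68312 (iv5 F326591)) (tt N49224 F139163) (tt N26475 (iv7 D90415)))
theorem Q50174 : ∀ i, i < 50174 → P i := stepQ 50173 Q50173 (allL N50173 (tt N84913 D187637) (tt N84427 (iv0 F369245)) (tt N84912 (iv2 F371070)) (tt N50877 (iv3 F142872)) (tt N84914 D187638) (tt N26476 (iv5 D90417)) (tt N61019 (iv6 F177665)) (tt N83734 F331436))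
theorem Q50175 : ∀ i, i < 50175 → P i := stepQ 50174 Q50174 (allL N50174 (tt N50087 (iv1 F290207)) (tt N83615 (iv0 F288044)) (tt N50879 (iv2 F142877)) (tt N26477 (iv3 D90419)) (tt N50879 (iv4 F142880)) (tt N84915 D187639) (tt N83728 (iv6 F367235)) (tt N84911 (iv7 F371067)))
theorem Q50176 : ∀ i, i < 50176 → P i := stepQ 50175 Q50175 (allL N50175 (tt N84427 (iv1 F369244)) (tt N84913 F371074) (tt N83734 F331435) (tt N84915 (iv3 F371082)) (tt N84916 D187640) (tt N26477 (iv5 D90420)) (tt N79057 (iv6 F252020)) (tt N84912 (iv7 F371072)))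
theorem Q50177 : ∀ i, i < 50177 → P i := stepQ 50176 Q50176 (allL N50176 (tt N68312 (iv1 F326589)) (tt N26478 (iv0 D90422)) (tt N78903 F251303) (tt N32483 F176998) (tt N84917 D187641) (tt N84918 D187642) (tt N84919 D187643) (tt N66634 (iv7 F204786)))
theorem Q50178 : ∀ i, i < 50178 → P i := stepQ 50177 Q50177 (allL N50177 (tt N26478 (iv1 D90423)) (tt N68312 (iv0 F326588)) (tt N66634 (iv2 F251305)) (tt N84920 D187644) (tt N84921 D187645) (tt N84922 D187646) (tt N84923 D187647) (tt N78903 F251304))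
theorem Q50179 : ∀ i, i < 50179 → P i := stepQ 50178 Q50178 (allL N50178 (tt N84924 D187648) (tt N84925 D187649) (tt N75722 (iv2 F233553)) (tt N84926 D187650) (tt N26478 (iv4 D90424)) (tt N84927 D187651) (tt N45087 F139170) (tt N84928 D187652))
theorem Q50180 : ∀ i, i < 50180 → P i := stepQ 50179 Q50179 (allL N50179 (tt N66634 F204787) (tt N78903 F251306) (tt N68312 (iv2 F326590)) (tt N26494 F139171) (tt N84928 (iv4 F371109)) (tt N26479 F139172) (tt N68311 (iv6 F324649)) (tt N26478 (iv7 D90425)))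
theorem Q50181 : ∀ i, i < 50181 → P i := stepQ 50180 Q50180 (allL N50180 (tt N30064 F139176) (tt N56443 (iv0 F163765)) (tt N49484 F139173) (tt N32130 F139174) (tt N84929 D187653) (tt N26481 (iv5 D90426)) (tt N26782 F139175) (tt N56444 (iv7 F163766)))
theorem Q50182 : ∀ i, i < 50182 → P i := stepQ 50181 Q50181 (allL N50181 (tt N79051 (iv1 F252001)) (tt N42389 F139179) (tt N41878 F139177) (tt N41730 F139178) (tt N60925 (iv4 F177215)) (tt N26482 (iv5 D90427)) (tt N84930 D187654) (tt N50901 (iv7 F142968)))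
theorem Q50183 : ∀ i, i < 50183 → P i := stepQ 50182 Q50182 (allL N50182 (tt N42389 (iv1 F139182)) (tt N79051 (iv0 F252000)) (tt N50901 (iv2 F142967)) (tt N32420 F139180) (tt N60926 F177263) (tt N26483 (iv5 D90428)) (tt N84931 D187655) (tt N41878 F139181))
theorem Q50184 : ∀ i, i < 50184 → P i := stepQ 50183 Q50183 (allL N50183 (tt N33670 (iv1 F139186)) (tt N26484 (iv0 D90429)) (tt N41884 (iv2 F139185)) (tt N64213 (iv3 F193611)) (tt N39776 F139184) (tt N45178 F139183) (tt N84932 D187656) (tt N50902 (iv7 F142972)))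
theorem Q50185 : ∀ i, i < 50185 → P i := stepQ 50184 Q50184 (allL N50184 (tt N50910 (iv1 F143006)) (tt N26486 (iv0 D90430)) (tt N50909 (iv2 F156151)) (tt N83615 (iv3 F288043)) (tt N83018 (iv4 F285521)) (tt N84933 D187657) (tt N50883 (iv6 F290241)) (tt N50864 (iv7 F290214)))
theorem Q50186 : ∀ i, i < 50186 → P i := stepQ 50185 Q50185 (allL N50185 (tt N50909 (iv1 F143007)) (tt N50864 (iv0 F290212)) (tt N26486 (iv2 D90432)) (tt N26510 F139190) (tt N47841 F289802) (tt N84934 D187658) (tt N84935 D187659) (tt N50910 (iv7 F143005)))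
theorem Q50187 : ∀ i, i < 50187 → P i := stepQ 50186 Q50186 (allL N50186 (tt N84936 D187660) (tt N84937 D187661) (tt N84934 (iv2 F371128)) (tt N26487 F139191) (tt N84938 D187662) (tt N26486 (iv5 D90433)) (tt N84939 D187663) (tt N50911 (iv7 F143012)))
theorem Q50188 : ∀ i, i < 50188 → P i := stepQ 50187 Q50187 (allL N50187 (tt N84940 D187664) (tt N84941 D187665) (tt N84935 (iv2 F371130)) (tt N26488 F139192) (tt N50514 (iv4 F290614)) (tt N50782 (iv5 F142430)) (tt N26486 (iv6 D90434)) (tt N50506 F290579))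
theorem Q50189 : ∀ i, i < 50189 → P i := stepQ 50188 Q50188 (allL N50188 (tt N55397 (iv1 F159975)) (tt N55400 (iv0 F159984)) (tt N50907 (iv2 F142997)) (tt N69758 F336947) (tt N26487 (iv4 D90436)) (tt N28048 F290706) (tt N69756 (iv6 F336946)) (tt N50912 (iv7 F143016)))
theorem Q50190 : ∀ i, i < 50190 → P i := stepQ 50189 Q50189 (allL N50189 (tt N38573 F336943) (tt N70461 F336944) (tt N50908 (iv2 F142999)) (tt N84939 (iv3 F371136)) (tt N69756 F336945) (tt N50784 (iv5 F142438)) (tt N26487 (iv6 D90437)) (tt N70460 (iv7 F332262)))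
theorem Q50191 : ∀ i, i < 50191 → P i := stepQ 50190 Q50190 (allL N50190 (tt N54748 F159976) (tt N84942 D187666) (tt N83645 (iv2 F288235)) (tt N26490 F139194) (tt N84943 D187667) (tt N26489 (iv5 D90438)) (tt N66612 (iv6 F204709)) (tt N50903 (iv7 F142978)))
theorem Q50192 : ∀ i, i < 50192 → P i := stepQ 50191 Q50191 (allL N50191 (tt N55400 (iv1 F159985)) (tt N55397 (iv0 F159974)) (tt N50912 (iv2 F143015)) (tt N84944 D187668) (tt N26490 (iv4 D90440)) (tt N83907 (iv5 F367451)) (tt N84945 D187669) (tt N50907 (iv7 F142998)))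
theorem Q50193 : ∀ i, i < 50193 → P i := stepQ 50192 Q50192 (allL N50192 (tt N84946 D187670) (tt N70467 (iv0 F364212)) (tt N50913 (iv2 F143017)) (tt N66612 F204710) (tt N84945 (iv4 F371151)) (tt N49368 F291469) (tt N26490 (iv6 D90441)) (tt N84947 D187671))
theorem Q50194 : ∀ i, i < 50194 → P i := stepQ 50193 Q50193 (allL N50193 (tt N84933 (iv1 F371163)) (tt N53662 (iv0 F367260)) (tt N84948 D187673) (tt N26491 (iv3 D90443)) (tt N84949 D187674) (tt N53836 F367259) (tt N84950 D187675) (tt N50915 (iv7 F143021)))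
theorem Q50195 : ∀ i, i < 50195 → P i := stepQ 50194 Q50194 (allL N50194 (tt N50267 (iv1 F139367)) (tt N26933 (iv0 F139204)) (tt N50264 F139362) (tt N84951 D187676) (tt N26491 (iv4 D90444)) (tt N53623 (iv5 F365791)) (tt N84952 D187677) (tt N50265 F139361))
theorem Q50196 : ∀ i, i < 50196 → P i := stepQ 50195 Q50195 (allL N50195 (tt N64674 (iv1 F365363)) (tt N84953 D187678) (tt N50914 (iv2 F143018)) (tt N84950 (iv3 F371165)) (tt N84952 (iv4 F371169)) (tt N53837 F367264) (tt N26491 (iv6 D90446)) (tt N84954 D187679))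
theorem Q50197 : ∀ i, i < 50197 → P i := stepQ 50196 Q50196 (allL N50196 (tt N26511 F139208) (tt N41896 F139209) (tt N41895 (iv2 F142371)) (tt N26492 (iv3 D90447)) (tt N84955 D187680) (tt N50074 F139207) (tt N84956 D187681) (tt N41894 (iv7 F142373)))
theorem Q50198 : ∀ i, i < 50198 → P i := stepQ 50197 Q50197 (allL N50197 (tt N26933 F139210) (tt N50267 F139366) (tt N50265 F139360) (tt N84957 D187682) (tt N26492 (iv4 D90448)) (tt N84289 (iv5 F368814)) (tt N84958 D187683) (tt N50264 (iv7 F139364)))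
theorem Q50199 : ∀ i, i < 50199 → P i := stepQ 50198 Q50198 (allL N50198 (tt N84959 D187684) (tt N84960 D187685) (tt N50916 (iv2 F143022)) (tt N84956 (iv3 F371177)) (tt N84958 (iv4 F371181)) (tt N50076 F139211) (tt N26492 (iv6 D90449)) (tt N81405 (iv7 F366115)))
theorem Q50200 : ∀ i, i < 50200 → P i := stepQ 50199 Q50199 (allL N50199 (tt N50921 (iv1 F143039)) (tt N26493 (iv0 D90450)) (tt N50917 F143025) (tt N84961 D187686) (tt N26534 (iv4 F139236)) (tt N53660 (iv5 F292380)) (tt N64673 F365801) (tt N50918 (iv7 F143029)))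
theorem Q50201 : ∀ i, i < 50201 → P i := stepQ 50200 Q50200 (allL N50200 (tt N26493 (iv1 D90451)) (tt N50921 F143038) (tt N50918 F143031) (tt N71795 F352098) (tt N26535 F139212) (tt N84962 D187687) (tt N84963 D187688) (tt N50917 F143026))
theorem Q50202 : ∀ i, i < 50202 → P i := stepQ 50201 Q50201 (allL N50201 (tt N84964 D187689) (tt N84965 D187690) (tt N84966 D187691) (tt N26493 (iv3 D90452)) (tt N84926 (iv4 F371106)) (tt N84317 (iv5 F368879)) (tt N71778 (iv6 F220570)) (tt N84967 D187692))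
theorem Q50203 : ∀ i, i < 50203 → P i := stepQ 50202 Q50202 (allL N50202 (tt N50918 (iv1 F143028)) (tt N50917 F143027) (tt N50921 (iv2 F143035)) (tt N84967 (iv3 F371195)) (tt N26494 F139213) (tt N50519 (iv5 F140125)) (tt N84968 D187693) (tt N26493 (iv7 D90454)))
theorem Q50204 : ∀ i, i < 50204 → P i := stepQ 50203 Q50203 (allL N50203 (tt N68307 F323239) (tt N37163 F323240) (tt N38118 F323241) (tt N68311 (iv3 F324647)) (tt N84968 (iv4 F371200)) (tt N38121 F323242) (tt N26494 (iv6 D90455)) (tt N68308 (iv7 F324652)))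
theorem Q50205 : ∀ i, i < 50205 → P i := stepQ 50204 Q50204 (allL N50204 (tt N83649 (iv1 F288283)) (tt N70023 (iv0 F349142)) (tt N49227 F139215) (tt N26496 F139216) (tt N84969 D187694) (tt N26495 (iv5 D90456)) (tt N33028 F335807) (tt N50922 (iv7 F143045)))
theorem Q50206 : ∀ i, i < 50206 → P i := stepQ 50205 Q50205 (allL N50205 (tt N50810 (iv1 F349303)) (tt N83618 F288060) (tt N49228 F139217) (tt N26497 F139218) (tt N50205 F139219) (tt N51298 (iv5 F144683)) (tt N26495 (iv6 D90457)) (tt N27929 (iv7 F291052)))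
theorem Q50207 : ∀ i, i < 50207 → P i := stepQ 50206 Q50206 (allL N50206 (tt N84970 D187695) (tt N84971 D187696) (tt N29377 F139221) (tt N33028 F335808) (tt N84323 (iv4 F368895)) (tt N51299 (iv5 F144684)) (tt N26496 (iv6 D90459)) (tt N84972 D187697))
theorem Q50208 : ∀ i, i < 50208 → P i := stepQ 50207 Q50207 (allL N50207 (tt N52723 F291500) (tt N50161 (iv0 F295163)) (tt N49154 F291502) (tt N26498 (iv3 D90463)) (tt N50207 F139227) (tt N84973 D187698) (tt N28126 F291503) (tt N50520 (iv7 F140133)))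
theorem Q50209 : ∀ i, i < 50209 → P i := stepQ 50208 Q50208 (allL N50208 (tt N49285 (iv1 F292106)) (tt N49287 (iv0 F292105)) (tt N29381 F139228) (tt N84973 (iv3 F371227)) (tt N84962 (iv4 F371185)) (tt N26498 (iv5 D90464)) (tt N84974 D187699) (tt N49743 (iv7 F292188)))
theorem Q50210 : ∀ i, i < 50210 → P i := stepQ 50209 Q50209 (allL N50209 (tt N53492 F367246) (tt N84975 D187700) (tt N84976 D187701) (tt N26499 (iv3 D90468)) (tt N50455 (iv4 F290584)) (tt N84977 D187702) (tt N53012 (iv6 F367253)) (tt N50441 (iv7 F290680)))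
theorem Q50211 : ∀ i, i < 50211 → P i := stepQ 50210 Q50210 (allL N50210 (tt N49291 (iv1 F291676)) (tt N49292 (iv0 F291677)) (tt N49832 (iv2 F291665)) (tt N84977 (iv3 F371243)) (tt N84289 (iv4 F368815)) (tt N26499 (iv5 D90469)) (tt N53018 F291066) (tt N49831 (iv7 F291435)))
theorem Q50212 : ∀ i, i < 50212 → P i := stepQ 50211 Q50211 (allL N50211 (tt N47844 F292661) (tt N26500 (iv0 D90473)) (tt N53533 F292662) (tt N49160 F292663) (tt N28979 F292664) (tt N84978 D187703) (tt N51230 (iv6 F294618)) (tt N53517 F292666))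
theorem Q50213 : ∀ i, i < 50213 → P i := stepQ 50212 Q50212 (allL N50212 (tt N53533 F291473) (tt N53517 F291474) (tt N26500 (iv2 D90475)) (tt N50509 (iv3 F140104)) (tt N82773 (iv4 F283987)) (tt N64317 F291475) (tt N27073 F139241) (tt N47844 F291476))
theorem Q50214 : ∀ i, i < 50214 → P i := stepQ 50213 Q50213 (allL N50213 (tt N64319 F292668) (tt N28054 F292669) (tt N64317 F292670) (tt N26501 F139242) (tt N84979 D187704) (tt N26500 (iv5 D90476)) (tt N82285 F292671) (tt N54808 F292672))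
theorem Q50215 : ∀ i, i < 50215 → P i := stepQ 50214 Q50214 (allL N50214 (tt N84980 D187705) (tt N84981 D187706) (tt N50517 (iv2 F140108)) (tt N82285 F292678) (tt N84316 (iv4 F368878)) (tt N27075 F139245) (tt N26501 (iv6 D90481)) (tt N84982 D187707))
theorem Q50216 : ∀ i, i < 50216 → P i := stepQ 50215 Q50215 (allL N50215 (tt N28435 F157735) (tt N26628 F157736) (tt N28379 F139247) (tt N52717 (iv3 F150972)) (tt N50928 (iv4 F143074)) (tt N84983 D187708) (tt N26502 (iv6 D90483)) (tt N28434 F157737))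
theorem Q50217 : ∀ i, i < 50217 → P i := stepQ 50216 Q50216 (allL N50216 (tt N28224 F177353) (tt N28528 F177354) (tt N28377 F139248) (tt N48847 F139249) (tt N45156 F139250) (tt N84984 D187709) (tt N26503 (iv6 D90484)) (tt N28527 F177355))
theorem Q50218 : ∀ i, i < 50218 → P i := stepQ 50217 Q50217 (allL N50217 (tt N28964 (iv1 F139256)) (tt N28963 (iv0 F139255)) (tt N26505 F139251) (tt N28390 F139252) (tt N26508 F139253) (tt N84985 D187710) (tt N26504 (iv6 D90485)) (tt N28965 (iv7 F139254)))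
theorem Q50219 : ∀ i, i < 50219 → P i := stepQ 50218 Q50218 (allL N50218 (tt N28965 (iv1 F139257)) (tt N26505 (iv0 D90486)) (tt N28964 F153475) (tt N53314 (iv3 F153325)) (tt N84773 (iv4 F370572)) (tt N84986 D187711) (tt N54724 (iv6 F251236)) (tt N28963 (iv7 F153474)))
theorem Q50220 : ∀ i, i < 50220 → P i := stepQ 50219 Q50219 (allL N50219 (tt N26505 (iv1 D90487)) (tt N28965 F139258) (tt N28963 (iv2 F153476)) (tt N48849 (iv3 F154400)) (tt N83656 (iv4 F288306)) (tt N84987 D187712) (tt N84988 D187713) (tt N28964 F153477))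
theorem Q50221 : ∀ i, i < 50221 → P i := stepQ 50220 Q50220 (allL N50220 (tt N84989 D187714) (tt N81480 (iv0 F365660)) (tt N84985 (iv2 F371263)) (tt N26506 F139259) (tt N84990 D187715) (tt N26505 (iv5 D90488)) (tt N83916 (iv6 F367483)) (tt N28966 F139260))
theorem Q50222 : ∀ i, i < 50222 → P i := stepQ 50221 Q50221 (allL N50221 (tt N84991 D187716) (tt N28560 F351317) (tt N50870 (iv2 F142831)) (tt N53663 (iv3 F154328)) (tt N84992 D187717) (tt N26507 (iv5 D90489)) (tt N34135 F139261) (tt N84839 (iv7 F370810)))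
theorem Q50223 : ∀ i, i < 50223 → P i := stepQ 50222 Q50222 (allL N50222 (tt N84942 (iv1 F371142)) (tt N54748 F159977) (tt N50903 (iv2 F142976)) (tt N84934 (iv3 F371129)) (tt N84993 D187718) (tt N26510 (iv5 D90490)) (tt N84994 D187719) (tt N83645 (iv7 F288236)))
theorem Q50224 : ∀ i, i < 50224 → P i := stepQ 50223 Q50223 (allL N50223 (tt N51078 (iv1 F143452)) (tt N29075 F291618) (tt N50904 (iv2 F142979)) (tt N84935 (iv3 F371131)) (tt N54173 (iv4 F156173)) (tt N74793 (iv5 F316443)) (tt N26510 (iv6 D90491)) (tt N51083 (iv7 F143462)))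
theorem Q50225 : ∀ i, i < 50225 → P i := stepQ 50224 Q50224 (allL N50224 (tt N41896 (iv1 F139262)) (tt N26511 (iv0 D90492)) (tt N41894 F142374) (tt N84948 (iv3 F371158)) (tt N84995 D187720) (tt N51590 (iv5 F145629)) (tt N84996 D187721) (tt N41895 F142372))
theorem Q50226 : ∀ i, i < 50226 → P i := stepQ 50225 Q50225 (allL N50225 (tt N84997 D187722) (tt N84998 D187723) (tt N41893 F139263) (tt N84999 D187724) (tt N26511 (iv4 D90493)) (tt N85000 D187725) (tt N41869 F139264) (tt N67525 (iv7 F325468)))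
theorem Q50227 : ∀ i, i < 50227 → P i := stepQ 50226 Q50226 (allL N50226 (tt N29527 F139268) (tt N32452 (iv0 F139269)) (tt N32453 F139265) (tt N33669 F139266) (tt N40656 F327484) (tt N26512 (iv5 D90494)) (tt N69347 F327485) (tt N32454 F139267))
theorem Q50228 : ∀ i, i < 50228 → P i := stepQ 50227 Q50227 (allL N50227 (tt N32452 F139274) (tt N29527 (iv0 F139275)) (tt N32454 F139271) (tt N33631 F139272) (tt N85001 D187726) (tt N26513 (iv5 D90495)) (tt N85002 D187727) (tt N32453 F139273))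
theorem Q50229 : ∀ i, i < 50229 → P i := stepQ 50228 Q50228 (allL N50228 (tt N39602 F139278) (tt N66469 F204210) (tt N32482 F139276) (tt N37024 F354209) (tt N26514 (iv4 D90496)) (tt N39530 (iv5 F139279)) (tt N26520 F139277) (tt N66470 (iv7 F204215)))
theorem Q50230 : ∀ i, i < 50230 → P i := stepQ 50229 Q50229 (allL N50229 (tt N32481 (iv1 F139287)) (tt N32480 F139288) (tt N29530 F139284) (tt N32461 F139285) (tt N66470 (iv4 F204217)) (tt N26515 F139286) (tt N38122 F324314) (tt N26514 (iv7 D90497)))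
theorem Q50231 : ∀ i, i < 50231 → P i := stepQ 50230 Q50230 (allL N50230 (tt N38120 F326338) (tt N33684 F183971) (tt N50899 F142964) (tt N26518 (iv3 D90500)) (tt N38114 F326339) (tt N51596 (iv5 F145639)) (tt N68176 F326340) (tt N50893 (iv7 F142933)))
theorem Q50232 : ∀ i, i < 50232 → P i := stepQ 50231 Q50231 (allL N50231 (tt N38142 F319155) (tt N26926 F139294) (tt N50285 F139408) (tt N37847 F319947) (tt N26518 (iv4 D90501)) (tt N49807 F139292) (tt N67593 F319948) (tt N50286 (iv7 F139411)))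
theorem Q50233 : ∀ i, i < 50233 → P i := stepQ 50232 Q50232 (allL N50232 (tt N68193 (iv1 F352107)) (tt N85003 D187728) (tt N50892 (iv2 F142931)) (tt N68176 (iv3 F334644)) (tt N67593 F334643) (tt N51070 (iv5 F143393)) (tt N26518 (iv6 D90502)) (tt N85004 D187729))
theorem Q50234 : ∀ i, i < 50234 → P i := stepQ 50233 Q50233 (allL N50233 (tt N53661 (iv1 F349112)) (tt N54739 (iv0 F157526)) (tt N85005 D187730) (tt N26519 (iv3 D90503)) (tt N85006 D187731) (tt N49808 F139295) (tt N85007 D187732) (tt N50891 (iv7 F142930)))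
theorem Q50235 : ∀ i, i < 50235 → P i := stepQ 50234 Q50234 (allL N50234 (tt N26926 F139297) (tt N38142 F319154) (tt N50286 F139413) (tt N68241 (iv3 F336054)) (tt N26519 (iv4 D90504)) (tt N50075 F139296) (tt N44792 F319945) (tt N50285 F139409))
theorem Q50236 : ∀ i, i < 50236 → P i := stepQ 50235 Q50235 (allL N50235 (tt N85008 D187733) (tt N56204 (iv0 F340907)) (tt N50894 (iv2 F142935)) (tt N85007 (iv3 F371351)) (tt N44792 F340914) (tt N50023 F139299) (tt N26519 (iv6 D90505)) (tt N85009 D187734))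
theorem Q50237 : ∀ i, i < 50237 → P i := stepQ 50236 Q50236 (allL N50236 (tt N49225 (iv1 F139301)) (tt N26520 (iv0 D90506)) (tt N50895 F142940) (tt N68231 F348576) (tt N26547 F139300) (tt N50083 (iv5 F139302)) (tt N82504 F365712) (tt N50896 (iv7 F142943)))
theorem Q50238 : ∀ i, i < 50238 → P i := stepQ 50237 Q50237 (allL N50237 (tt N26520 (iv1 D90507)) (tt N49225 F139303) (tt N50896 F142945) (tt N77340 F369517) (tt N26548 F139304) (tt N48622 (iv5 F139305)) (tt N80692 (iv6 F362735)) (tt N50895 F142941))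
theorem Q50239 : ∀ i, i < 50239 → P i := stepQ 50238 Q50238 (allL N50238 (tt N69050 F324316) (tt N68232 (iv0 F348913)) (tt N69051 F324318) (tt N26520 (iv3 D90508)) (tt N84999 (iv4 F371321)) (tt N60001 F348912) (tt N37024 (iv6 F348915)) (tt N36954 F324320))
theorem Q50240 : ∀ i, i < 50240 → P i := stepQ 50239 Q50239 (allL N50239 (tt N53234 F157799) (tt N54086 (iv0 F157804)) (tt N50930 (iv2 F143081)) (tt N53279 (iv3 F153282)) (tt N26522 F139311) (tt N56107 (iv5 F335917)) (tt N26521 (iv6 D90510)) (tt N50982 (iv7 F157815)))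
theorem Q50241 : ∀ i, i < 50241 → P i := stepQ 50240 Q50240 (allL N50240 (tt N51014 (iv1 F157314)) (tt N50827 (iv0 F157313)) (tt N50931 (iv2 F143085)) (tt N32779 F139312) (tt N45263 F329721) (tt N26522 (iv5 D90513)) (tt N32778 F139313) (tt N50983 F157814))
theorem Q50242 : ∀ i, i < 50242 → P i := stepQ 50241 Q50241 (allL N50241 (tt N48983 F177351) (tt N48987 F177352) (tt N45156 F139315) (tt N26524 F139316) (tt N28377 F139317) (tt N85010 D187735) (tt N26523 (iv6 D90515)) (tt N84779 (iv7 F370603)))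
theorem Q50243 : ∀ i, i < 50243 → P i := stepQ 50242 Q50242 (allL N50242 (tt N26591 F283726) (tt N84823 F370750) (tt N50927 (iv2 F143063)) (tt N85010 (iv3 F371366)) (tt N85011 D187736) (tt N26524 (iv5 D90518)) (tt N45123 F139318) (tt N84809 (iv7 F370695)))
theorem Q50244 : ∀ i, i < 50244 → P i := stepQ 50243 Q50243 (allL N50243 (tt N26530 (iv1 F139323)) (tt N26525 (iv0 D90520)) (tt N26527 F153431) (tt N84773 F370577) (tt N53313 (iv4 F153323)) (tt N85012 D187737) (tt N77625 F333324) (tt N26528 F153432))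
theorem Q50245 : ∀ i, i < 50245 → P i := stepQ 50244 Q50244 (allL N50244 (tt N26525 (iv1 D90521)) (tt N26530 F139319) (tt N26528 F153433) (tt N26541 F151059) (tt N53354 F153434) (tt N85013 D187738) (tt N29078 F293770) (tt N26527 F153435))
theorem Q50246 : ∀ i, i < 50246 → P i := stepQ 50245 Q50245 (allL N50245 (tt N26528 (iv1 F139324)) (tt N26527 F139325) (tt N26530 F139320) (tt N50954 (iv3 F143145)) (tt N28343 F139321) (tt N62812 (iv5 F183752)) (tt N49232 F139322) (tt N26525 (iv7 D90522)))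
theorem Q50247 : ∀ i, i < 50247 → P i := stepQ 50246 Q50246 (allL N50246 (tt N83885 F367370) (tt N84405 (iv0 F369187)) (tt N28483 F139326) (tt N29331 F139327) (tt N85014 D187739) (tt N26526 (iv5 D90523)) (tt N81865 (iv6 F277323)) (tt N29021 F139328))
theorem Q50248 : ∀ i, i < 50248 → P i := stepQ 50247 Q50247 (allL N50247 (tt N53353 (iv1 F153407)) (tt N53293 (iv0 F290148)) (tt N53313 (iv2 F153424)) (tt N53346 (iv3 F153383)) (tt N26527 (iv4 D90526)) (tt N73916 (iv5 F362222)) (tt N77564 (iv6 F333327)) (tt N53354 (iv7 F153406)))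
theorem Q50249 : ∀ i, i < 50249 → P i := stepQ 50248 Q50248 (allL N50248 (tt N85015 D187740) (tt N55409 (iv0 F363810)) (tt N85012 (iv2 F371373)) (tt N83659 (iv3 F288320)) (tt N60911 (iv4 F349122)) (tt N26527 (iv5 D90527)) (tt N70701 (iv6 F363811)) (tt N85013 (iv7 F371378)))
theorem Q50250 : ∀ i, i < 50250 → P i := stepQ 50249 Q50249 (allL N50249 (tt N54799 (iv1 F157851)) (tt N29057 F291704) (tt N77625 F333323) (tt N45035 (iv3 F145328)) (tt N77564 F333326) (tt N45034 F145327) (tt N26527 (iv6 D90528)) (tt N45127 (iv7 F153468)))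
theorem Q50251 : ∀ i, i < 50251 → P i := stepQ 50250 Q50250 (allL N50250 (tt N48965 F363855) (tt N83646 (iv0 F288274)) (tt N83656 (iv2 F288305)) (tt N26528 (iv3 D90530)) (tt N28963 F139332) (tt N85016 D187741) (tt N84446 (iv6 F369310)) (tt N84773 (iv7 F370576)))
theorem Q50252 : ∀ i, i < 50252 → P i := stepQ 50251 Q50251 (allL N50251 (tt N55409 F359589) (tt N85015 F371384) (tt N85013 (iv2 F371376)) (tt N85016 (iv3 F371385)) (tt N60912 (iv4 F391679)) (tt N26528 (iv5 D90531)) (tt N85017 D187743) (tt N85012 (iv7 F371374)))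
theorem Q50253 : ∀ i, i < 50253 → P i := stepQ 50252 Q50252 (allL N50252 (tt N62812 (iv1 F183756)) (tt N26529 (iv0 D90533)) (tt N62810 F283594) (tt N75719 (iv3 F283595)) (tt N85018 D187744) (tt N85019 D187745) (tt N85020 D187746) (tt N62811 F283592))
theorem Q50254 : ∀ i, i < 50254 → P i := stepQ 50253 Q50253 (allL N50253 (tt N26529 (iv1 D90534)) (tt N62812 F183755) (tt N62811 (iv2 F283591)) (tt N85021 D187747) (tt N85022 D187748) (tt N78997 (iv5 F251695)) (tt N85023 D187749) (tt N62810 (iv7 F283593)))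
theorem Q50255 : ∀ i, i < 50255 → P i := stepQ 50254 Q50254 (allL N50254 (tt N85024 D187750) (tt N85025 D187751) (tt N62809 (iv2 F183746)) (tt N85026 D187752) (tt N26529 (iv4 D90535)) (tt N85027 D187753) (tt N62794 (iv6 F183697)) (tt N85028 D187754))
theorem Q50256 : ∀ i, i < 50256 → P i := stepQ 50255 Q50255 (allL N50255 (tt N62811 (iv1 F183748)) (tt N62810 F183754) (tt N62812 (iv2 F183750)) (tt N26537 F139333) (tt N85028 (iv4 F371408)) (tt N26530 F139334) (tt N70669 (iv6 F319935)) (tt N26529 (iv7 D90536)))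
theorem Q50257 : ∀ i, i < 50257 → P i := stepQ 50256 Q50256 (allL N50256 (tt N29868 F139339) (tt N29871 (iv0 F139340)) (tt N32505 F139335) (tt N26531 (iv3 D90537)) (tt N32505 F139336) (tt N85029 D187755) (tt N29570 F139337) (tt N32494 F139338))
theorem Q50258 : ∀ i, i < 50258 → P i := stepQ 50257 Q50257 (allL N50257 (tt N29542 F139343) (tt N32547 (iv0 F139345)) (tt N32493 F139341) (tt N85029 (iv3 F371412)) (tt N39461 F139344) (tt N26531 (iv5 D90538)) (tt N78887 (iv6 F251206)) (tt N32495 F139342))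
theorem Q50259 : ∀ i, i < 50259 → P i := stepQ 50258 Q50258 (allL N50258 (tt N32547 F139348) (tt N29542 (iv0 F139350)) (tt N32495 F139346) (tt N50944 (iv3 F143107)) (tt N39139 F139349) (tt N26532 (iv5 D90539)) (tt N85030 D187756) (tt N32493 F139347))
theorem Q50260 : ∀ i, i < 50260 → P i := stepQ 50259 Q50259 (allL N50259 (tt N29532 (iv1 F139354)) (tt N26533 (iv0 D90540)) (tt N32497 (iv2 F139353)) (tt N85031 D187757) (tt N70967 (iv4 F218974)) (tt N29864 F139351) (tt N85032 D187758) (tt N32498 F139355))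
theorem Q50261 : ∀ i, i < 50261 → P i := stepQ 50260 Q50260 (allL N50260 (tt N71998 (iv1 F221199)) (tt N71963 (iv0 F221092)) (tt N32499 F139356) (tt N85033 D187759) (tt N26533 (iv4 D90541)) (tt N71606 (iv5 F220271)) (tt N26536 F139357) (tt N72000 (iv7 F221207)))
theorem Q50262 : ∀ i, i < 50262 → P i := stepQ 50261 Q50261 (allL N50261 (tt N83648 (iv1 F364338)) (tt N50804 F364340) (tt N50948 (iv2 F143126)) (tt N26534 (iv3 D90542)) (tt N85034 D187760) (tt N53829 F364355) (tt N85035 D187761) (tt N50960 (iv7 F143158)))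
theorem Q50263 : ∀ i, i < 50263 → P i := stepQ 50262 Q50262 (allL N50262 (tt N77215 (iv1 F374923)) (tt N85036 D187763) (tt N50959 (iv2 F143153)) (tt N85035 (iv3 F371431)) (tt N64673 (iv4 F365802)) (tt N53830 (iv5 F367157)) (tt N26534 (iv6 D90543)) (tt N85037 D187764))
theorem Q50264 : ∀ i, i < 50264 → P i := stepQ 50263 Q50263 (allL N50263 (tt N85038 D187765) (tt N32938 F353836) (tt N50961 (iv2 F143159)) (tt N50950 (iv3 F143131)) (tt N84963 (iv4 F371189)) (tt N47477 F326545) (tt N26535 (iv6 D90544)) (tt N85039 D187766))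
theorem Q50265 : ∀ i, i < 50265 → P i := stepQ 50264 Q50264 (allL N50264 (tt N50964 (iv1 F143166)) (tt N26536 (iv0 D90545)) (tt N50194 (iv2 F139362)) (tt N85040 D187767) (tt N26902 F139363) (tt N84418 (iv5 F369218)) (tt N77214 F369221) (tt N50197 F139364))
theorem Q50266 : ∀ i, i < 50266 → P i := stepQ 50265 Q50265 (allL N50265 (tt N26536 (iv1 D90546)) (tt N50964 F143165) (tt N50197 (iv2 F139360)) (tt N85041 D187768) (tt N26903 F139359) (tt N84420 (iv5 F369226)) (tt N85042 D187769) (tt N50194 (iv7 F139361)))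
theorem Q50267 : ∀ i, i < 50267 → P i := stepQ 50266 Q50266 (allL N50266 (tt N85043 D187770) (tt N85044 D187771) (tt N85045 D187772) (tt N26536 (iv3 D90547)) (tt N85026 (iv4 F371404)) (tt N84311 (iv5 F368871)) (tt N85033 (iv6 F371430)) (tt N85046 D187773))
theorem Q50268 : ∀ i, i < 50268 → P i := stepQ 50267 Q50267 (allL N50267 (tt N50197 (iv1 F139366)) (tt N50194 F139367) (tt N50964 (iv2 F143163)) (tt N85046 (iv3 F371451)) (tt N26537 F139365) (tt N50563 (iv5 F140171)) (tt N85047 D187774) (tt N26536 (iv7 D90549)))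
theorem Q50269 : ∀ i, i < 50269 → P i := stepQ 50268 Q50268 (allL N50268 (tt N85048 D187775) (tt N70501 F317739) (tt N50965 (iv2 F143167)) (tt N70669 (iv3 F319934)) (tt N85047 (iv4 F371452)) (tt N37426 F317740) (tt N26537 (iv6 D90550)) (tt N69397 (iv7 F319942)))
theorem Q50270 : ∀ i, i < 50270 → P i := stepQ 50269 Q50269 (allL N50269 (tt N50824 F251773) (tt N51024 F251917) (tt N45160 F139370) (tt N50927 (iv3 F143064)) (tt N85049 D187776) (tt N26538 (iv5 D90553)) (tt N32958 F139371) (tt N50999 (iv7 F177366)))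
theorem Q50271 : ∀ i, i < 50271 → P i := stepQ 50270 Q50270 (allL N50270 (tt N83646 F288273) (tt N48965 F290314) (tt N84773 F370574) (tt N26540 (iv3 D90556)) (tt N28964 F139380) (tt N61711 F338623) (tt N45138 F139379) (tt N83656 (iv7 F288307)))
theorem Q50272 : ∀ i, i < 50272 → P i := stepQ 50271 Q50271 (allL N50271 (tt N83667 F288361) (tt N49237 F288362) (tt N83659 (iv2 F288319)) (tt N61711 (iv3 F363916)) (tt N85050 D187777) (tt N26540 (iv5 D90557)) (tt N45142 F139381) (tt N83657 (iv7 F288311)))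
theorem Q50273 : ∀ i, i < 50273 → P i := stepQ 50272 Q50272 (allL N50272 (tt N49237 F288363) (tt N83667 F288364) (tt N83657 (iv2 F288310)) (tt N85013 (iv3 F371377)) (tt N85051 D187778) (tt N26541 (iv5 D90561)) (tt N78919 (iv6 F251355)) (tt N83659 (iv7 F288322)))
theorem Q50274 : ∀ i, i < 50274 → P i := stepQ 50273 Q50273 (allL N50273 (tt N29090 F293465) (tt N75991 F251250) (tt N83658 (iv2 F288313)) (tt N29078 F293466) (tt N49209 F293467) (tt N51350 F251948) (tt N26541 (iv6 D90562)) (tt N45131 F139385))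
theorem Q50275 : ∀ i, i < 50275 → P i := stepQ 50274 Q50274 (allL N50274 (tt N75721 (iv1 F233532)) (tt N26542 (iv0 D90563)) (tt N75719 F283562) (tt N85052 D187779) (tt N84924 (iv4 F371102)) (tt N51540 F353200) (tt N85053 D187780) (tt N75720 F283560))
theorem Q50276 : ∀ i, i < 50276 → P i := stepQ 50275 Q50275 (allL N50275 (tt N26542 (iv1 D90564)) (tt N75721 F233531) (tt N75720 (iv2 F283559)) (tt N62811 F251971) (tt N84925 (iv4 F371105)) (tt N51541 (iv5 F350454)) (tt N85054 D187781) (tt N75719 (iv7 F283561)))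
theorem Q50277 : ∀ i, i < 50277 → P i := stepQ 50276 Q50276 (allL N50276 (tt N85055 D187782) (tt N85056 D187783) (tt N75718 (iv2 F233523)) (tt N85057 D187784) (tt N26542 (iv4 D90565)) (tt N85058 D187785) (tt N45051 F139386) (tt N83660 (iv7 F288325)))
theorem Q50278 : ∀ i, i < 50278 → P i := stepQ 50277 Q50277 (allL N50277 (tt N78881 (iv1 F251183)) (tt N42373 F139389) (tt N50943 (iv2 F143103)) (tt N32493 F139387) (tt N36159 F139388) (tt N26543 (iv5 D90566)) (tt N85059 D187786) (tt N50944 (iv7 F143108)))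
theorem Q50279 : ∀ i, i < 50279 → P i := stepQ 50278 Q50278 (allL N50278 (tt N29871 F139394) (tt N29868 (iv0 F139395)) (tt N32494 F139390) (tt N26544 (iv3 D90567)) (tt N32494 F139391) (tt N85060 D187787) (tt N32763 F139392) (tt N32505 F139393))
theorem Q50280 : ∀ i, i < 50280 → P i := stepQ 50279 Q50279 (allL N50279 (tt N42373 F139396) (tt N78881 (iv0 F251182)) (tt N50944 (iv2 F143106)) (tt N85060 (iv3 F371494)) (tt N71338 (iv4 F219854)) (tt N26544 (iv5 D90568)) (tt N83664 (iv6 F288344)) (tt N50943 (iv7 F143104)))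
theorem Q50281 : ∀ i, i < 50281 → P i := stepQ 50280 Q50280 (allL N50280 (tt N50947 (iv1 F143125)) (tt N26545 (iv0 D90569)) (tt N50945 F143114) (tt N32497 F139398) (tt N39602 (iv4 F139399)) (tt N45024 F139397) (tt N85061 D187788) (tt N45023 (iv7 F139400)))
theorem Q50282 : ∀ i, i < 50282 → P i := stepQ 50281 Q50281 (allL N50281 (tt N26545 (iv1 D90570)) (tt N50947 F143124) (tt N45023 (iv2 F139402)) (tt N85062 D187789) (tt N66469 (iv4 F204209)) (tt N29890 F139401) (tt N69544 (iv6 F365895)) (tt N50945 (iv7 F143115)))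
theorem Q50283 : ∀ i, i < 50283 → P i := stepQ 50282 Q50282 (allL N50282 (tt N69551 F365904) (tt N85063 D187790) (tt N50949 (iv2 F143129)) (tt N50959 (iv3 F143154)) (tt N82504 (iv4 F365714)) (tt N50991 (iv5 F143223)) (tt N26547 (iv6 D90572)) (tt N85064 D187791))
theorem Q50284 : ∀ i, i < 50284 → P i := stepQ 50283 Q50283 (allL N50283 (tt N50804 (iv1 F364339)) (tt N83648 (iv0 F335784)) (tt N50960 (iv2 F143156)) (tt N26548 (iv3 D90573)) (tt N85065 D187792) (tt N50043 F139404) (tt N85066 D187793) (tt N50948 (iv7 F143128)))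
theorem Q50285 : ∀ i, i < 50285 → P i := stepQ 50284 Q50284 (allL N50284 (tt N85067 D187794) (tt N85068 D187795) (tt N50950 (iv2 F143130)) (tt N85066 (iv3 F371515)) (tt N80692 F362737) (tt N50045 F139405) (tt N26548 (iv6 D90574)) (tt N85069 D187796))
theorem Q50286 : ∀ i, i < 50286 → P i := stepQ 50285 Q50285 (allL N50285 (tt N37428 F317745) (tt N26549 (iv0 D90575)) (tt N50231 (iv2 F139408)) (tt N69552 F334645) (tt N26886 F139406) (tt N50753 (iv5 F142259)) (tt N69552 F334637) (tt N50234 (iv7 F139409)))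
theorem Q50287 : ∀ i, i < 50287 → P i := stepQ 50286 Q50286 (allL N50286 (tt N26549 (iv1 D90576)) (tt N37428 F317582) (tt N50234 (iv2 F139413)) (tt N36923 F317743) (tt N26887 F139412) (tt N47475 (iv5 F319946)) (tt N46418 F317744) (tt N50231 F139411))
theorem Q50288 : ∀ i, i < 50288 → P i := stepQ 50287 Q50287 (allL N50287 (tt N85070 D187797) (tt N85071 D187798) (tt N85072 D187799) (tt N26549 (iv3 D90577)) (tt N85057 (iv4 F371479)) (tt N81330 F362053) (tt N66302 F203956) (tt N69389 (iv7 F319157)))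
theorem Q50289 : ∀ i, i < 50289 → P i := stepQ 50288 Q50288 (allL N50288 (tt N29891 (iv1 F139420)) (tt N26550 (iv0 D90579)) (tt N32742 (iv2 F139419)) (tt N42419 F139418) (tt N43478 F139417) (tt N29568 F139416) (tt N84249 (iv6 F368687)) (tt N32737 F139421))
theorem Q50290 : ∀ i, i < 50290 → P i := stepQ 50289 Q50289 (allL N50289 (tt N32629 F139426) (tt N32626 F139427) (tt N35060 F139422) (tt N79118 (iv3 F252687)) (tt N26550 (iv4 D90580)) (tt N34905 F139425) (tt N27220 F139423) (tt N35057 F139424))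
theorem Q50291 : ∀ i, i < 50291 → P i := stepQ 50290 Q50290 (allL N50290 (tt N50094 (iv1 F139445)) (tt N26552 (iv0 D90581)) (tt N50091 (iv2 F139449)) (tt N41439 (iv3 F139429)) (tt N30077 (iv4 F139433)) (tt N85073 D187800) (tt N30075 F139430) (tt N50092 F139453))
theorem Q50292 : ∀ i, i < 50292 → P i := stepQ 50291 Q50291 (allL N50291 (tt N26552 (iv1 D90582)) (tt N50094 F139434) (tt N50092 F139452) (tt N42356 (iv3 F139436)) (tt N45171 (iv4 F139435)) (tt N85074 D187801) (tt N42355 F139437) (tt N50091 (iv7 F139451)))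
theorem Q50293 : ∀ i, i < 50293 → P i := stepQ 50292 Q50292 (allL N50292 (tt N56294 (iv1 F163368)) (tt N61455 (iv0 F178878)) (tt N50093 F139438) (tt N26555 F139439) (tt N85075 D187802) (tt N26552 (iv5 D90583)) (tt N26844 F139440) (tt N85076 D187803))
theorem Q50294 : ∀ i, i < 50294 → P i := stepQ 50293 Q50293 (allL N50293 (tt N50092 (iv1 F139446)) (tt N50091 F139447) (tt N50094 F139441) (tt N26556 F139442) (tt N50094 F139443) (tt N85076 (iv5 F371549)) (tt N50094 F139444) (tt N26552 (iv7 D90584)))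
theorem Q50295 : ∀ i, i < 50295 → P i := stepQ 50294 Q50294 (allL N50294 (tt N32745 F139457) (tt N61295 (iv0 F178540)) (tt N26942 F139454) (tt N42909 F139455) (tt N85077 D187804) (tt N26554 (iv5 D90585)) (tt N85078 D187805) (tt N26939 F139456))
theorem Q50296 : ∀ i, i < 50296 → P i := stepQ 50295 Q50295 (allL N50295 (tt N26555 (iv1 D90586)) (tt N26946 F139458) (tt N26944 (iv2 F139461)) (tt N42979 (iv3 F139462)) (tt N85079 D187806) (tt N27233 F139460) (tt N85080 D187807) (tt N26943 F139459))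
theorem Q50297 : ∀ i, i < 50297 → P i := stepQ 50296 Q50296 (allL N50296 (tt N61134 (iv1 F178081)) (tt N61169 F178151) (tt N26945 F139463) (tt N85081 D187808) (tt N26555 (iv4 D90587)) (tt N77467 (iv5 F242843)) (tt N26852 F139464) (tt N61166 (iv7 F178145)))
theorem Q50298 : ∀ i, i < 50298 → P i := stepQ 50297 Q50297 (allL N50297 (tt N26944 (iv1 F139467)) (tt N26943 F139468) (tt N26946 F139465) (tt N85076 (iv3 F371547)) (tt N61166 (iv4 F178143)) (tt N26556 F139466) (tt N85082 D187809) (tt N26555 (iv7 D90588)))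
theorem Q50299 : ∀ i, i < 50299 → P i := stepQ 50298 Q50298 (allL N50298 (tt N34009 F139473) (tt N34008 F139474) (tt N44953 F139470) (tt N26559 F139471) (tt N85083 D187810) (tt N26557 (iv5 D90589)) (tt N85084 D187811) (tt N44954 F139472))
theorem Q50300 : ∀ i, i < 50300 → P i := stepQ 50299 Q50299 (allL N50299 (tt N26561 (iv1 F139477)) (tt N26558 (iv0 D90590)) (tt N28477 (iv2 F139476)) (tt N61661 (iv3 F179189)) (tt N50018 F139475) (tt N61133 (iv5 F178075)) (tt N50018 (iv6 F139479)) (tt N26793 F139478))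
theorem Q50301 : ∀ i, i < 50301 → P i := stepQ 50300 Q50300 (allL N50300 (tt N32685 F139482) (tt N32684 F139481) (tt N56447 (iv2 F163772)) (tt N43276 F139480) (tt N85085 D187812) (tt N26558 (iv5 D90591)) (tt N85086 D187813) (tt N84795 (iv7 F370647)))
theorem Q50302 : ∀ i, i < 50302 → P i := stepQ 50301 Q50301 (allL N50301 (tt N85087 D187814) (tt N85088 D187815) (tt N76229 (iv2 F237964)) (tt N85089 D187816) (tt N26559 (iv4 D90592)) (tt N85090 D187817) (tt N85091 D187818) (tt N84796 (iv7 F370651)))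
theorem Q50303 : ∀ i, i < 50303 → P i := stepQ 50302 Q50302 (allL N50302 (tt N85092 D187819) (tt N85093 D187820) (tt N76230 (iv2 F237967)) (tt N85084 (iv3 F371586)) (tt N85091 (iv4 F371602)) (tt N85094 D187821) (tt N26559 (iv6 D90593)) (tt N85095 D187822))
theorem Q50304 : ∀ i, i < 50304 → P i := stepQ 50303 Q50303 (allL N50303 (tt N27120 F139486) (tt N27239 (iv0 F139487)) (tt N27237 F139483) (tt N38315 F139484) (tt N85096 D187823) (tt N26560 (iv5 D90594)) (tt N85094 (iv6 F371609)) (tt N27236 F139485))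
theorem Q50305 : ∀ i, i < 50305 → P i := stepQ 50304 Q50304 (allL N50304 (tt N32684 F139490) (tt N32685 F139489) (tt N84795 (iv2 F370645)) (tt N29529 F139488) (tt N85097 D187824) (tt N26561 (iv5 D90595)) (tt N85098 D187825) (tt N56447 (iv7 F163774)))
theorem Q50306 : ∀ i, i < 50306 → P i := stepQ 50305 Q50305 (allL N50305 (tt N85088 (iv1 F371597)) (tt N85087 F371595) (tt N84796 (iv2 F370650)) (tt N85099 D187826) (tt N26562 (iv4 D90596)) (tt N74583 (iv5 F371647)) (tt N85100 D187828) (tt N76229 (iv7 F237965)))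
theorem Q50307 : ∀ i, i < 50307 → P i := stepQ 50306 Q50306 (allL N50306 (tt N85101 D187829) (tt N53830 (iv0 F367158)) (tt N84797 (iv2 F370653)) (tt N55739 (iv3 F161542)) (tt N85100 (iv4 F371630)) (tt N55737 (iv5 F161539)) (tt N26562 (iv6 D90597)) (tt N85102 D187830))
theorem Q50308 : ∀ i, i < 50308 → P i := stepQ 50307 Q50307 (allL N50307 (tt N76692 (iv1 F239729)) (tt N85103 D187831) (tt N32766 F139491) (tt N85104 D187832) (tt N26563 (iv4 D90598)) (tt N85105 D187833) (tt N85106 D187834) (tt N84798 (iv7 F370657)))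
theorem Q50309 : ∀ i, i < 50309 → P i := stepQ 50308 Q50308 (allL N50308 (tt N85107 D187835) (tt N85108 D187836) (tt N32760 F139492) (tt N63280 (iv3 F186703)) (tt N85106 (iv4 F371652)) (tt N32747 F139493) (tt N26563 (iv6 D90599)) (tt N85109 D187837))
theorem Q50310 : ∀ i, i < 50310 → P i := stepQ 50309 Q50309 (allL N50309 (tt N85103 (iv1 F371632)) (tt N76692 (iv0 F239728)) (tt N84798 (iv2 F370656)) (tt N85110 D187838) (tt N26564 (iv4 D90600)) (tt N85111 D187839) (tt N85112 D187840) (tt N32766 F139494))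
theorem Q50311 : ∀ i, i < 50311 → P i := stepQ 50310 Q50310 (allL N50310 (tt N85113 D187841) (tt N85114 D187842) (tt N84799 (iv2 F370660)) (tt N32785 F139495) (tt N85112 (iv4 F371671)) (tt N69490 (iv5 F214518)) (tt N26564 (iv6 D90601)) (tt N85115 D187843))
theorem Q50312 : ∀ i, i < 50312 → P i := stepQ 50311 Q50311 (allL N50311 (tt N84801 (iv1 F370671)) (tt N26565 (iv0 D90602)) (tt N84800 F370664) (tt N85116 D187844) (tt N32979 F139496) (tt N85117 D187845) (tt N85118 D187846) (tt N78801 (iv7 F250910)))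
theorem Q50313 : ∀ i, i < 50313 → P i := stepQ 50312 Q50312 (allL N50312 (tt N26565 (iv1 D90603)) (tt N84801 F370670) (tt N78801 (iv2 F250909)) (tt N29352 F345165) (tt N78800 F250908) (tt N85119 D187847) (tt N85120 D187848) (tt N84800 (iv7 F370665)))
theorem Q50314 : ∀ i, i < 50314 → P i := stepQ 50313 Q50313 (allL N50313 (tt N78801 (iv1 F250912)) (tt N84800 F370667) (tt N84801 (iv2 F370668)) (tt N76209 (iv3 F237829)) (tt N26566 F139497) (tt N76208 F237827) (tt N85121 D187849) (tt N26565 (iv7 D90604)))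
theorem Q50315 : ∀ i, i < 50315 → P i := stepQ 50314 Q50314 (allL N50314 (tt N84837 (iv1 F370804)) (tt N84836 F370801) (tt N84802 (iv2 F370672)) (tt N50981 (iv3 F143192)) (tt N85121 (iv4 F371692)) (tt N50981 (iv5 F143193)) (tt N26566 (iv6 D90605)) (tt N26604 F139498))
theorem Q50316 : ∀ i, i < 50316 → P i := stepQ 50315 Q50315 (allL N50315 (tt N53296 (iv1 F177406)) (tt N53295 (iv0 F177401)) (tt N53298 (iv2 F177399)) (tt N55229 (iv3 F159200)) (tt N26567 (iv4 D90608)) (tt N85122 D187850) (tt N50982 (iv6 F177427)) (tt N50926 (iv7 F177372)))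
theorem Q50317 : ∀ i, i < 50317 → P i := stepQ 50316 Q50316 (allL N50316 (tt N84823 (iv1 F370749)) (tt N26591 F335352) (tt N84809 (iv2 F370693)) (tt N50999 (iv3 F143244)) (tt N85123 D187851) (tt N26567 (iv5 D90609)) (tt N85124 D187852) (tt N50927 (iv7 F177439)))
theorem Q50318 : ∀ i, i < 50318 → P i := stepQ 50317 Q50317 (allL N50317 (tt N84812 (iv1 F370705)) (tt N84811 F370704) (tt N26570 F139503) (tt N75990 (iv3 F235270)) (tt N85125 D187853) (tt N26568 (iv5 D90616)) (tt N85126 D187854) (tt N84810 (iv7 F370700)))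
theorem Q50319 : ∀ i, i < 50319 → P i := stepQ 50318 Q50318 (allL N50318 (tt N50939 (iv1 F288419)) (tt N83681 F288411) (tt N26571 F139504) (tt N75991 (iv3 F235276)) (tt N26669 F292351) (tt N76413 F238549) (tt N26568 (iv6 D90617)) (tt N50795 (iv7 F293384)))
theorem Q50320 : ∀ i, i < 50320 → P i := stepQ 50319 Q50319 (allL N50319 (tt N84432 F369255) (tt N85127 D187855) (tt N28504 F139506) (tt N29349 F139507) (tt N85128 D187856) (tt N26569 (iv5 D90618)) (tt N85129 D187857) (tt N28505 F139508))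
theorem Q50321 : ∀ i, i < 50321 → P i := stepQ 50320 Q50320 (allL N50320 (tt N84810 (iv1 F370701)) (tt N26570 (iv0 D90620)) (tt N84812 F370708) (tt N51004 (iv3 F251701)) (tt N85130 D187858) (tt N51528 (iv5 F288160)) (tt N85131 D187859) (tt N84811 (iv7 F370709)))
theorem Q50322 : ∀ i, i < 50322 → P i := stepQ 50321 Q50321 (allL N50321 (tt N26570 (iv1 D90621)) (tt N84810 F370703) (tt N84811 (iv2 F370711)) (tt N83247 (iv3 F363652)) (tt N85132 D187860) (tt N51529 (iv5 F370712)) (tt N85133 D187861) (tt N84812 F370710))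
theorem Q50323 : ∀ i, i < 50323 → P i := stepQ 50322 Q50322 (allL N50322 (tt N85134 D187862) (tt N85135 D187863) (tt N85125 (iv2 F371696)) (tt N85136 D187864) (tt N26570 (iv4 D90622)) (tt N85137 D187865) (tt N85138 D187866) (tt N84813 (iv7 F370713)))
theorem Q50324 : ∀ i, i < 50324 → P i := stepQ 50323 Q50323 (allL N50323 (tt N85139 D187867) (tt N85140 D187868) (tt N85126 (iv2 F371699)) (tt N26578 F139516) (tt N85138 (iv4 F371717)) (tt N85141 D187869) (tt N26570 (iv6 D90623)) (tt N85142 D187870))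
theorem Q50325 : ∀ i, i < 50325 → P i := stepQ 50324 Q50324 (allL N50324 (tt N50795 F293716) (tt N26571 (iv0 D90624)) (tt N50939 (iv2 F251606)) (tt N29084 F293717) (tt N85143 D187871) (tt N51327 (iv5 F251609)) (tt N49230 F251607) (tt N83681 F288417))
theorem Q50326 : ∀ i, i < 50326 → P i := stepQ 50325 Q50325 (allL N50325 (tt N26571 (iv1 D90625)) (tt N50795 F293718) (tt N83681 F288416) (tt N84750 (iv3 F370470)) (tt N50158 F293719) (tt N51328 F349245) (tt N45114 (iv6 F177435)) (tt N50939 (iv7 F251605)))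
theorem Q50327 : ∀ i, i < 50327 → P i := stepQ 50326 Q50326 (allL N50326 (tt N51480 F177434) (tt N76414 F238555) (tt N76413 (iv2 F238550)) (tt N26579 F139517) (tt N85144 D187872) (tt N26571 (iv5 D90626)) (tt N85141 (iv6 F371721)) (tt N27147 F139518))
theorem Q50328 : ∀ i, i < 50328 → P i := stepQ 50327 Q50327 (allL N50327 (tt N50809 F364371) (tt N50807 F364373) (tt N50987 (iv2 F143215)) (tt N26575 (iv3 D90630)) (tt N85145 D187873) (tt N50082 F139542) (tt N85146 D187874) (tt N53828 (iv7 F364364)))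
theorem Q50329 : ∀ i, i < 50329 → P i := stepQ 50328 Q50328 (allL N50328 (tt N26638 F139543) (tt N26620 F139544) (tt N53811 (iv2 F293426)) (tt N82446 (iv3 F362675)) (tt N26575 (iv4 D90631)) (tt N52165 F362674) (tt N82445 (iv6 F362676)) (tt N53808 (iv7 F362673)))
theorem Q50330 : ∀ i, i < 50330 → P i := stepQ 50329 Q50329 (allL N50329 (tt N85147 D187875) (tt N85148 D187876) (tt N53827 (iv2 F293427)) (tt N85146 (iv3 F371739)) (tt N82445 F362677) (tt N50084 F139545) (tt N26575 (iv6 D90632)) (tt N61288 (iv7 F178526)))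
theorem Q50331 : ∀ i, i < 50331 → P i := stepQ 50330 Q50330 (allL N50330 (tt N26620 F139546) (tt N26638 F139547) (tt N53808 F293725) (tt N85149 D187877) (tt N26576 (iv4 D90633)) (tt N53225 F293726) (tt N85150 D187878) (tt N53811 F293727))
theorem Q50332 : ∀ i, i < 50332 → P i := stepQ 50331 Q50331 (allL N50331 (tt N84797 F370655) (tt N85102 F371631) (tt N53830 F293728) (tt N50991 (iv3 F143222)) (tt N85150 (iv4 F371751)) (tt N50959 (iv5 F143155)) (tt N26576 (iv6 D90634)) (tt N85101 (iv7 F374919)))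
theorem Q50333 : ∀ i, i < 50333 → P i := stepQ 50332 Q50332 (allL N50332 (tt N26587 (iv1 F139549)) (tt N26577 (iv0 D90635)) (tt N50419 (iv2 F139681)) (tt N53217 F345135) (tt N28553 F291191) (tt N28538 F291192) (tt N85151 D187880) (tt N50422 (iv7 F139687)))
theorem Q50334 : ∀ i, i < 50334 → P i := stepQ 50333 Q50333 (allL N50333 (tt N26577 (iv1 D90636)) (tt N26587 F139550) (tt N50422 (iv2 F139686)) (tt N36410 F329842) (tt N28555 F291188) (tt N28534 F291189) (tt N85152 D187881) (tt N50419 (iv7 F139682)))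
theorem Q50335 : ∀ i, i < 50335 → P i := stepQ 50334 Q50334 (allL N50334 (tt N85153 D187882) (tt N85154 D187883) (tt N85155 D187884) (tt N26577 (iv3 D90637)) (tt N85136 (iv4 F371715)) (tt N85156 D187885) (tt N85157 D187886) (tt N84815 (iv7 F370719)))
theorem Q50336 : ∀ i, i < 50336 → P i := stepQ 50335 Q50335 (allL N50335 (tt N53217 F293911) (tt N53219 F293912) (tt N53775 F293913) (tt N85156 (iv3 F371759)) (tt N26653 (iv4 F139552)) (tt N26577 (iv5 D90638)) (tt N85158 D187887) (tt N53774 F293914))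
theorem Q50337 : ∀ i, i < 50337 → P i := stepQ 50336 Q50336 (allL N50336 (tt N85159 D187888) (tt N85160 D187889) (tt N84805 (iv2 F370684)) (tt N85157 (iv3 F371760)) (tt N26578 F139553) (tt N85161 D187890) (tt N26577 (iv6 D90639)) (tt N85162 D187891))
theorem Q50338 : ∀ i, i < 50338 → P i := stepQ 50337 Q50337 (allL N50337 (tt N84808 (iv1 F370692)) (tt N26578 (iv0 D90640)) (tt N84806 (iv2 F376941)) (tt N85163 D187893) (tt N85164 D187894) (tt N85165 D187895) (tt N85092 F371605) (tt N84807 (iv7 F376939)))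
theorem Q50339 : ∀ i, i < 50339 → P i := stepQ 50338 Q50338 (allL N50338 (tt N26578 (iv1 D90641)) (tt N84808 F370691) (tt N84807 (iv2 F376935)) (tt N50997 F376968) (tt N85166 D187898) (tt N85167 D187899) (tt N85168 D187900) (tt N84806 (iv7 F376942)))
theorem Q50340 : ∀ i, i < 50340 → P i := stepQ 50339 Q50339 (allL N50339 (tt N85169 D187901) (tt N85170 D187902) (tt N27152 F139554) (tt N85141 (iv3 F371720)) (tt N85171 D187903) (tt N26578 (iv5 D90642)) (tt N26579 F139555) (tt N85172 D187904))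
theorem Q50341 : ∀ i, i < 50341 → P i := stepQ 50340 Q50340 (allL N50340 (tt N84807 (iv1 F370686)) (tt N84806 F370690) (tt N84808 (iv2 F370687)) (tt N85142 (iv3 F371725)) (tt N85162 (iv4 F371764)) (tt N85172 (iv5 F371791)) (tt N84818 (iv6 F370727)) (tt N26578 (iv7 D90643)))
theorem Q50342 : ∀ i, i < 50342 → P i := stepQ 50341 Q50341 (allL N50341 (tt N50723 (iv1 F142143)) (tt N51399 (iv0 F144831)) (tt N27151 F139556) (tt N85173 D187905) (tt N26579 (iv4 D90644)) (tt N51257 (iv5 F144596)) (tt N85171 (iv6 F371788)) (tt N27148 F139557))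
theorem Q50343 : ∀ i, i < 50343 → P i := stepQ 50342 Q50342 (allL N50342 (tt N26595 F157730) (tt N74522 F228244) (tt N74523 (iv2 F228245)) (tt N50983 (iv3 F143196)) (tt N56934 (iv4 F345182)) (tt N26580 (iv5 D90651)) (tt N78391 (iv6 F248617)) (tt N32779 F157731))
theorem Q50344 : ∀ i, i < 50344 → P i := stepQ 50343 Q50343 (allL N50343 (tt N27301 F176020) (tt N29182 F139565) (tt N26582 F139561) (tt N29201 (iv3 F139564)) (tt N26581 (iv4 D90653)) (tt N56940 (iv5 F350543)) (tt N85174 D187906) (tt N29183 F139562))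
theorem Q50345 : ∀ i, i < 50345 → P i := stepQ 50344 Q50344 (allL N50344 (tt N84803 (iv1 F370677)) (tt N61306 (iv0 F178556)) (tt N26583 F139566) (tt N84810 (iv3 F370699)) (tt N35810 F335535) (tt N26581 (iv5 D90654)) (tt N61232 (iv6 F178405)) (tt N75990 (iv7 F235271)))
theorem Q50346 : ∀ i, i < 50346 → P i := stepQ 50345 Q50345 (allL N50345 (tt N84451 F369339) (tt N50957 F235288) (tt N26584 F139567) (tt N54799 F157843) (tt N85174 (iv4 F371800)) (tt N85175 D187907) (tt N26581 (iv6 D90655)) (tt N85176 D187908))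
theorem Q50347 : ∀ i, i < 50347 → P i := stepQ 50346 Q50346 (allL N50346 (tt N56938 F331302) (tt N56937 F331303) (tt N56940 F331304) (tt N29116 F139573) (tt N32195 F331305) (tt N26582 (iv5 D90658)) (tt N60227 F331306) (tt N29184 F139574))
theorem Q50348 : ∀ i, i < 50348 → P i := stepQ 50347 Q50347 (allL N50347 (tt N84675 F370168) (tt N85177 D187909) (tt N85174 (iv2 F371798)) (tt N29117 F139575) (tt N26584 F139576) (tt N85178 D187910) (tt N26582 (iv6 D90659)) (tt N29368 F291702))
theorem Q50349 : ∀ i, i < 50349 → P i := stepQ 50348 Q50348 (allL N50348 (tt N75990 (iv1 F235273)) (tt N26583 (iv0 D90660)) (tt N84803 F370681) (tt N85179 D187911) (tt N57199 F335542) (tt N74192 (iv5 F350467)) (tt N60920 F248589) (tt N61306 F235274))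
theorem Q50350 : ∀ i, i < 50350 → P i := stepQ 50349 Q50349 (allL N50349 (tt N26583 (iv1 D90661)) (tt N75990 (iv0 F235272)) (tt N61306 (iv2 F178554)) (tt N50985 (iv3 F349239)) (tt N57200 F335544) (tt N51503 F157813) (tt N44607 (iv6 F157811)) (tt N84803 (iv7 F370678)))
theorem Q50351 : ∀ i, i < 50351 → P i := stepQ 50350 Q50350 (allL N50350 (tt N61234 (iv1 F205656)) (tt N36411 (iv0 F157812)) (tt N61232 F178406) (tt N26588 F139577) (tt N30302 F335534) (tt N84190 (iv5 F368462)) (tt N26583 (iv6 D90663)) (tt N61233 (iv7 F178407)))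
theorem Q50352 : ∀ i, i < 50352 → P i := stepQ 50351 Q50351 (allL N50351 (tt N85176 (iv1 F371816)) (tt N26584 (iv0 D90664)) (tt N84451 (iv2 F369333)) (tt N85180 D187912) (tt N55242 (iv4 F251680)) (tt N51296 F193571) (tt N29083 F350500) (tt N50957 F251675))
theorem Q50353 : ∀ i, i < 50353 → P i := stepQ 50352 Q50352 (allL N50352 (tt N26584 (iv1 D90665)) (tt N85176 F371815) (tt N50957 F367162) (tt N45118 F367163) (tt N55243 F367164) (tt N45116 F367165) (tt N50933 F367166) (tt N84451 (iv7 F369336)))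
theorem Q50354 : ∀ i, i < 50354 → P i := stepQ 50353 Q50353 (allL N50353 (tt N79041 (iv1 F283553)) (tt N79039 (iv0 F251968)) (tt N85175 (iv2 F371804)) (tt N26589 F139578) (tt N84207 (iv4 F368512)) (tt N26584 (iv5 D90666)) (tt N84190 (iv6 F368463)) (tt N84485 (iv7 F369496)))
theorem Q50355 : ∀ i, i < 50355 → P i := stepQ 50354 Q50354 (allL N50354 (tt N50957 F235287) (tt N84451 (iv0 F369337)) (tt N85176 (iv2 F371810)) (tt N26590 F139579) (tt N29368 (iv4 F291491)) (tt N84485 (iv5 F369495)) (tt N29090 F293765) (tt N26584 (iv7 D90667)))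
theorem Q50356 : ∀ i, i < 50356 → P i := stepQ 50355 Q50355 (allL N50355 (tt N58213 (iv1 F405412)) (tt N57909 (iv0 F360600)) (tt N58211 F351298) (tt N26587 (iv3 D90670)) (tt N56920 F335538) (tt N85181 D187914) (tt N85182 D187915) (tt N58212 F351295))
theorem Q50357 : ∀ i, i < 50357 → P i := stepQ 50356 Q50356 (allL N50356 (tt N53219 F293919) (tt N53217 F293920) (tt N53774 F293921) (tt N85181 (iv3 F371832)) (tt N26652 F139593) (tt N26587 (iv5 D90671)) (tt N85183 D187916) (tt N53775 F293922))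
theorem Q50358 : ∀ i, i < 50358 → P i := stepQ 50357 Q50357 (allL N50357 (tt N85184 D187917) (tt N85185 D187918) (tt N84816 (iv2 F370720)) (tt N85182 (iv3 F371833)) (tt N26588 F139594) (tt N85186 D187919) (tt N26587 (iv6 D90672)) (tt N85187 D187920))
theorem Q50359 : ∀ i, i < 50359 → P i := stepQ 50358 Q50358 (allL N50358 (tt N84818 (iv1 F370729)) (tt N26588 (iv0 D90673)) (tt N84817 F370722) (tt N51009 F368681) (tt N85188 D187921) (tt N84248 F368679) (tt N85189 D187922) (tt N61293 (iv7 F368682)))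
theorem Q50360 : ∀ i, i < 50360 → P i := stepQ 50359 Q50359 (allL N50359 (tt N26588 (iv1 D90674)) (tt N84818 F370728) (tt N61293 (iv2 F178531)) (tt N85190 D187923) (tt N85191 D187924) (tt N84249 F368688) (tt N61276 (iv6 F178485)) (tt N84817 (iv7 F370723)))
theorem Q50361 : ∀ i, i < 50361 → P i := stepQ 50360 Q50360 (allL N50360 (tt N61293 (iv1 F178534)) (tt N84817 F370724) (tt N84818 (iv2 F370725)) (tt N61233 F178408) (tt N85187 (iv4 F371838)) (tt N83863 (iv5 F347695)) (tt N84808 (iv6 F370689)) (tt N26588 (iv7 D90676)))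
theorem Q50362 : ∀ i, i < 50362 → P i := stepQ 50361 Q50361 (allL N50361 (tt N84809 F370697) (tt N50927 F157684) (tt N26591 (iv2 D90680)) (tt N74522 (iv3 F228242)) (tt N85192 D187925) (tt N85193 D187926) (tt N85194 D187927) (tt N84823 (iv7 F370748)))
theorem Q50363 : ∀ i, i < 50363 → P i := stepQ 50362 Q50362 (allL N50362 (tt N85195 D187928) (tt N85196 D187929) (tt N85192 (iv2 F371843)) (tt N85197 D187930) (tt N26591 (iv4 D90681)) (tt N85198 D187931) (tt N85199 D187932) (tt N84824 (iv7 F370754)))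
theorem Q50364 : ∀ i, i < 50364 → P i := stepQ 50363 Q50363 (allL N50363 (tt N85200 D187933) (tt N51286 F371854) (tt N85193 (iv2 F371847)) (tt N26593 F139596) (tt N50464 (iv4 F292005)) (tt N26591 (iv5 D90682)) (tt N82745 (iv6 F283799)) (tt N27243 F139597))
theorem Q50365 : ∀ i, i < 50365 → P i := stepQ 50364 Q50364 (allL N50364 (tt N85201 D187934) (tt N85202 D187935) (tt N85194 (iv2 F371855)) (tt N26594 F139598) (tt N85199 (iv4 F371869)) (tt N83663 (iv5 F288339)) (tt N26591 (iv6 D90683)) (tt N85203 D187936))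
theorem Q50366 : ∀ i, i < 50366 → P i := stepQ 50365 Q50365 (allL N50365 (tt N26596 (iv1 F139600)) (tt N26592 (iv0 D90684)) (tt N50406 (iv2 F139665)) (tt N28538 F345119) (tt N50131 F139599) (tt N53217 F291187) (tt N80580 F354717) (tt N50170 (iv7 F139601)))
theorem Q50367 : ∀ i, i < 50367 → P i := stepQ 50366 Q50366 (allL N50366 (tt N26592 (iv1 D90685)) (tt N26596 F139602) (tt N50170 (iv2 F139604)) (tt N32712 F327703) (tt N26872 F139603) (tt N53219 F291185) (tt N85103 F371637) (tt N50406 (iv7 F139666)))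
theorem Q50368 : ∀ i, i < 50368 → P i := stepQ 50367 Q50367 (allL N50367 (tt N85204 D187937) (tt N85205 D187938) (tt N70140 F364311) (tt N26592 (iv3 D90686)) (tt N85197 (iv4 F371864)) (tt N28681 F293005) (tt N70136 (iv6 F364310)) (tt N84826 (iv7 F370766)))
theorem Q50369 : ∀ i, i < 50369 → P i := stepQ 50368 Q50368 (allL N50368 (tt N85206 D187939) (tt N85207 D187940) (tt N30155 F336077) (tt N70136 F336078) (tt N26594 F139606) (tt N30154 F336079) (tt N26592 (iv6 D90688)) (tt N85208 D187941))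
theorem Q50370 : ∀ i, i < 50370 → P i := stepQ 50369 Q50369 (allL N50369 (tt N84822 (iv1 F370745)) (tt N26594 (iv0 D90689)) (tt N84820 (iv2 F412184)) (tt N85209 D187943) (tt N85210 D187944) (tt N85211 D187945) (tt N85114 (iv6 F413463)) (tt N84821 (iv7 F412188)))
theorem Q50371 : ∀ i, i < 50371 → P i := stepQ 50370 Q50370 (allL N50370 (tt N26594 (iv1 D90690)) (tt N84822 F370744) (tt N84821 (iv2 F412187)) (tt N51021 F375173) (tt N85212 D187949) (tt N85213 D187950) (tt N85214 D187951) (tt N84820 (iv7 F412186)))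
theorem Q50372 : ∀ i, i < 50372 → P i := stepQ 50371 Q50371 (allL N50371 (tt N84821 (iv1 F370737)) (tt N84820 F370743) (tt N84822 (iv2 F370738)) (tt N85203 (iv3 F371876)) (tt N85208 (iv4 F371894)) (tt N83666 (iv5 F288353)) (tt N84830 (iv6 F370776)) (tt N26594 (iv7 D90691)))
theorem Q50373 : ∀ i, i < 50373 → P i := stepQ 50372 Q50372 (allL N50372 (tt N32779 F362340) (tt N74523 F362341) (tt N26595 (iv2 D90694)) (tt N84823 (iv3 F370746)) (tt N85215 D187952) (tt N85216 D187953) (tt N85217 D187954) (tt N74522 (iv7 F228243)))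
theorem Q50374 : ∀ i, i < 50374 → P i := stepQ 50373 Q50373 (allL N50373 (tt N56923 (iv1 F339923)) (tt N56925 (iv0 F350546)) (tt N85215 (iv2 F371915)) (tt N82515 (iv3 F351191)) (tt N26595 (iv4 D90695)) (tt N65477 (iv5 F339955)) (tt N85218 D187955) (tt N65476 (iv7 F345195)))
theorem Q50375 : ∀ i, i < 50375 → P i := stepQ 50374 Q50374 (allL N50374 (tt N45149 F345181) (tt N85219 D187956) (tt N85216 (iv2 F371924)) (tt N26597 F139607) (tt N27896 (iv4 F139608)) (tt N26595 (iv5 D90696)) (tt N26773 (iv6 F293639)) (tt N55332 F293289))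
theorem Q50376 : ∀ i, i < 50376 → P i := stepQ 50375 Q50375 (allL N50375 (tt N85220 D187957) (tt N78384 (iv0 F345185)) (tt N85217 (iv2 F371931)) (tt N26598 F139610) (tt N85218 (iv4 F371938)) (tt N84460 (iv5 F369397)) (tt N26595 (iv6 D90697)) (tt N85221 D187958))
theorem Q50377 : ∀ i, i < 50377 → P i := stepQ 50376 Q50376 (allL N50376 (tt N70146 F351183) (tt N70145 F351184) (tt N70147 F351185) (tt N26596 (iv3 D90698)) (tt N82515 F351186) (tt N57781 F351187) (tt N85222 D187959) (tt N30160 F351188))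
theorem Q50378 : ∀ i, i < 50378 → P i := stepQ 50377 Q50377 (allL N50377 (tt N28680 F294244) (tt N28679 F294245) (tt N28682 F294246) (tt N57781 (iv3 F351189)) (tt N26651 F139611) (tt N26596 (iv5 D90699)) (tt N85223 D187960) (tt N28260 F294247))
theorem Q50379 : ∀ i, i < 50379 → P i := stepQ 50378 Q50378 (allL N50378 (tt N85224 D187961) (tt N85225 D187962) (tt N84827 (iv2 F370768)) (tt N85222 (iv3 F371951)) (tt N26598 F139612) (tt N85226 D187963) (tt N26596 (iv6 D90700)) (tt N85227 D187964))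
theorem Q50380 : ∀ i, i < 50380 → P i := stepQ 50379 Q50379 (allL N50379 (tt N84830 (iv1 F370779)) (tt N26598 (iv0 D90701)) (tt N84828 (iv2 F371966)) (tt N51031 F376566) (tt N85228 D187967) (tt N85229 D187968) (tt N85230 D187969) (tt N84829 F371970))
theorem Q50381 : ∀ i, i < 50381 → P i := stepQ 50380 Q50380 (allL N50380 (tt N26598 (iv1 D90702)) (tt N84830 F370778) (tt N84829 F371969) (tt N70280 (iv3 F371971)) (tt N57807 F371968) (tt N85231 D187970) (tt N85107 F371974) (tt N84828 (iv7 F371967)))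
theorem Q50382 : ∀ i, i < 50382 → P i := stepQ 50381 Q50381 (allL N50381 (tt N84829 (iv1 F370772)) (tt N84828 F370777) (tt N84830 (iv2 F370773)) (tt N85221 (iv3 F371946)) (tt N85227 (iv4 F371959)) (tt N84463 (iv5 F369409)) (tt N84822 (iv6 F370742)) (tt N26598 (iv7 D90704)))
theorem Q50383 : ∀ i, i < 50383 → P i := stepQ 50382 Q50382 (allL N50382 (tt N85232 D187971) (tt N61323 (iv0 F365814)) (tt N85233 D187972) (tt N26599 (iv3 D90705)) (tt N85234 D187973) (tt N28542 F293363) (tt N85235 D187974) (tt N84833 (iv7 F370791)))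
theorem Q50384 : ∀ i, i < 50384 → P i := stepQ 50383 Q50383 (allL N50383 (tt N85210 (iv1 F371990)) (tt N85212 F371912) (tt N84832 (iv2 F370785)) (tt N85235 (iv3 F371984)) (tt N84910 (iv4 F371064)) (tt N85236 D187976) (tt N26599 (iv6 D90707)) (tt N85237 D187977))
theorem Q50385 : ∀ i, i < 50385 → P i := stepQ 50384 Q50384 (allL N50384 (tt N85238 D187978) (tt N53810 (iv0 F362363)) (tt N85239 D187979) (tt N26600 (iv3 D90708)) (tt N85240 D187980) (tt N50387 F345137) (tt N85241 D187981) (tt N84831 (iv7 F370781)))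
theorem Q50386 : ∀ i, i < 50386 → P i := stepQ 50385 Q50385 (allL N50385 (tt N28541 F293365) (tt N28540 F293366) (tt N28543 F293367) (tt N50387 (iv3 F345136)) (tt N26647 F139616) (tt N26600 (iv5 D90709)) (tt N72452 (iv6 F350370)) (tt N28230 F293368))
theorem Q50387 : ∀ i, i < 50387 → P i := stepQ 50386 Q50386 (allL N50386 (tt N85228 (iv1 F371973)) (tt N57807 (iv0 F371972)) (tt N84834 (iv2 F370793)) (tt N85241 (iv3 F372015)) (tt N28562 F293369) (tt N57811 F350373) (tt N26600 (iv6 D90710)) (tt N85242 D187982))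
theorem Q50388 : ∀ i, i < 50388 → P i := stepQ 50387 Q50387 (allL N50387 (tt N77130 (iv1 F241647)) (tt N26601 (iv0 D90711)) (tt N77129 F345139) (tt N50385 F345136) (tt N85243 D187983) (tt N50384 (iv5 F345137)) (tt N71898 F350372) (tt N53226 (iv7 F345138)))
theorem Q50389 : ∀ i, i < 50389 → P i := stepQ 50388 Q50388 (allL N50388 (tt N26601 (iv1 D90712)) (tt N77130 F241646) (tt N53226 F345111) (tt N53815 (iv3 F362365)) (tt N85244 D187984) (tt N73001 F345109) (tt N72214 (iv6 F345110)) (tt N77129 (iv7 F345117)))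
theorem Q50390 : ∀ i, i < 50390 → P i := stepQ 50389 Q50389 (allL N50389 (tt N84841 F370820) (tt N85245 D187985) (tt N77097 (iv2 F241574)) (tt N26602 F139617) (tt N85246 D187986) (tt N26601 (iv5 D90713)) (tt N76973 (iv6 F241048)) (tt N84856 (iv7 F370863)))
theorem Q50391 : ∀ i, i < 50391 → P i := stepQ 50390 Q50390 (allL N50390 (tt N53226 (iv1 F345116)) (tt N77129 F241645) (tt N77130 (iv2 F241644)) (tt N26603 F139618) (tt N51045 (iv4 F143291)) (tt N84856 (iv5 F370862)) (tt N85247 D187987) (tt N26601 (iv7 D90714)))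
theorem Q50392 : ∀ i, i < 50392 → P i := stepQ 50391 Q50391 (allL N50391 (tt N26654 (iv1 F139621)) (tt N26602 (iv0 D90715)) (tt N55325 F293359) (tt N85248 D187988) (tt N26643 F139620) (tt N26620 F139619) (tt N85249 D187989) (tt N55326 F293360))
theorem Q50393 : ∀ i, i < 50393 → P i := stepQ 50392 Q50392 (allL N50392 (tt N26602 (iv1 D90716)) (tt N26654 F139622) (tt N55326 F293925) (tt N85250 D187990) (tt N26627 F139624) (tt N26638 F139623) (tt N85251 D187991) (tt N55325 F293926))
theorem Q50394 : ∀ i, i < 50394 → P i := stepQ 50393 Q50393 (allL N50393 (tt N85252 D187992) (tt N85253 D187993) (tt N55328 F295004) (tt N76973 (iv3 F241047)) (tt N28547 F295005) (tt N76972 F241045) (tt N26602 (iv6 D90717)) (tt N85254 D187994))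
theorem Q50395 : ∀ i, i < 50395 → P i := stepQ 50394 Q50394 (allL N50394 (tt N85255 D187995) (tt N85256 D187996) (tt N84835 (iv2 F370796)) (tt N85247 (iv3 F372038)) (tt N26604 F139625) (tt N85257 D187997) (tt N26603 (iv6 D90718)) (tt N85121 (iv7 F371693)))
theorem Q50396 : ∀ i, i < 50396 → P i := stepQ 50395 Q50395 (allL N50395 (tt N84802 (iv1 F370676)) (tt N26604 (iv0 D90719)) (tt N84836 (iv2 F376973)) (tt N85258 D187999) (tt N85259 D188000) (tt N85260 D188001) (tt N85261 D188002) (tt N84837 (iv7 F376977)))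
theorem Q50397 : ∀ i, i < 50397 → P i := stepQ 50396 Q50396 (allL N50396 (tt N26604 (iv1 D90720)) (tt N84802 F370675) (tt N84837 (iv2 F376976)) (tt N78388 (iv3 F376984)) (tt N78451 (iv4 F376971)) (tt N85262 D188006) (tt N85263 D188007) (tt N84836 (iv7 F376974)))
theorem Q50398 : ∀ i, i < 50398 → P i := stepQ 50397 Q50397 (allL N50397 (tt N29162 (iv1 F139632)) (tt N26607 (iv0 D90722)) (tt N29161 (iv2 F154624)) (tt N85264 D188008) (tt N45161 F177341) (tt N85265 D188009) (tt N41172 F295950) (tt N29130 F177343))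
theorem Q50399 : ∀ i, i < 50399 → P i := stepQ 50398 Q50398 (allL N50398 (tt N29161 (iv1 F139639)) (tt N29130 F177338) (tt N26607 (iv2 D90724)) (tt N29155 F139633) (tt N26615 F139634) (tt N85266 D188010) (tt N55587 (iv6 F160713)) (tt N29162 F139635))
theorem Q50400 : ∀ i, i < 50400 → P i := stepQ 50399 Q50399 (allL N50399 (tt N85267 D188011) (tt N85268 D188012) (tt N85266 (iv2 F372077)) (tt N26608 F139643) (tt N85269 D188013) (tt N26607 (iv5 D90725)) (tt N85270 D188014) (tt N29163 F139644))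
theorem Q50401 : ∀ i, i < 50401 → P i := stepQ 50400 Q50400 (allL N50400 (tt N34369 F328597) (tt N44093 F328598) (tt N29159 F139649) (tt N85271 D188015) (tt N26608 (iv4 D90727)) (tt N51215 (iv5 F336625)) (tt N48094 F350207) (tt N29165 F139650))
theorem Q50402 : ∀ i, i < 50402 → P i := stepQ 50401 Q50401 (allL N50401 (tt N85272 D188016) (tt N82211 (iv0 F350210)) (tt N29160 F139651) (tt N85270 (iv3 F372103)) (tt N48094 F350209) (tt N27535 F139652) (tt N26608 (iv6 D90728)) (tt N85273 D188017))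
theorem Q50403 : ∀ i, i < 50403 → P i := stepQ 50402 Q50402 (allL N50402 (tt N50866 F142817) (tt N26612 (iv0 D90732)) (tt N50868 (iv2 F155667)) (tt N50099 F139663) (tt N54086 (iv4 F155910)) (tt N76351 (iv5 F335915)) (tt N84940 F371140) (tt N50867 F155669))
theorem Q50404 : ∀ i, i < 50404 → P i := stepQ 50403 Q50403 (allL N50403 (tt N26612 (iv1 D90733)) (tt N50866 F142819) (tt N50867 F155666) (tt N51054 (iv3 F153165)) (tt N53234 (iv4 F153164)) (tt N76350 (iv5 F335916)) (tt N54747 (iv6 F360980)) (tt N50868 (iv7 F155665)))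
theorem Q50405 : ∀ i, i < 50405 → P i := stepQ 50404 Q50404 (allL N50404 (tt N50868 (iv1 F142822)) (tt N50867 F142821) (tt N26612 (iv2 D90734)) (tt N50837 (iv3 F142703)) (tt N40128 F328912) (tt N85274 D188018) (tt N51055 (iv6 F143353)) (tt N50866 F142818))
theorem Q50406 : ∀ i, i < 50406 → P i := stepQ 50405 Q50405 (allL N50405 (tt N76177 F329563) (tt N56101 F329564) (tt N85274 (iv2 F372130)) (tt N26613 F139664) (tt N41438 F329565) (tt N26612 (iv5 D90735)) (tt N85275 D188019) (tt N50869 (iv7 F142825)))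
theorem Q50407 : ∀ i, i < 50407 → P i := stepQ 50406 Q50406 (allL N50406 (tt N50124 F139667) (tt N50121 F139668) (tt N50365 F139665) (tt N36406 F327161) (tt N26613 (iv4 D90736)) (tt N28525 F291456) (tt N85276 D188020) (tt N50366 F139666))
theorem Q50408 : ∀ i, i < 50408 → P i := stepQ 50407 Q50407 (allL N50407 (tt N85277 D188021) (tt N85278 D188022) (tt N84838 (iv2 F370805)) (tt N85275 (iv3 F372135)) (tt N85276 (iv4 F372139)) (tt N51058 (iv5 F143364)) (tt N26613 (iv6 D90737)) (tt N85279 D188023))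
theorem Q50409 : ∀ i, i < 50409 → P i := stepQ 50408 Q50408 (allL N50408 (tt N26956 F139670) (tt N29301 F143253) (tt N29300 F205444) (tt N85280 D188024) (tt N26614 (iv4 D90739)) (tt N85281 D188025) (tt N41185 F331317) (tt N27599 F205446))
theorem Q50410 : ∀ i, i < 50410 → P i := stepQ 50409 Q50409 (allL N50409 (tt N79047 (iv1 F251984)) (tt N79046 F251991) (tt N79049 (iv2 F251989)) (tt N51059 (iv3 F143366)) (tt N85282 D188026) (tt N26614 (iv5 D90740)) (tt N85283 D188027) (tt N50874 F205458))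
theorem Q50411 : ∀ i, i < 50411 → P i := stepQ 50410 Q50410 (allL N50410 (tt N84847 (iv1 F370830)) (tt N84846 F370829) (tt N26616 F139676) (tt N84840 (iv3 F370814)) (tt N85284 D188028) (tt N26615 (iv5 D90747)) (tt N85285 D188029) (tt N78856 F251134))
theorem Q50412 : ∀ i, i < 50412 → P i := stepQ 50411 Q50411 (allL N50411 (tt N50882 (iv1 F251871)) (tt N51422 F144869) (tt N26617 F139677) (tt N51442 (iv3 F144905)) (tt N55587 (iv4 F160711)) (tt N85286 D188030) (tt N26615 (iv6 D90748)) (tt N51423 (iv7 F144870)))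
theorem Q50413 : ∀ i, i < 50413 → P i := stepQ 50412 Q50412 (allL N50412 (tt N78856 (iv1 F251136)) (tt N26616 (iv0 D90749)) (tt N84847 F370832) (tt N51061 F251140) (tt N85287 D188031) (tt N51575 (iv5 F251137)) (tt N61173 (iv6 F251139)) (tt N84846 (iv7 F370835)))
theorem Q50414 : ∀ i, i < 50414 → P i := stepQ 50413 Q50413 (allL N50413 (tt N26616 (iv1 D90750)) (tt N78856 F251135) (tt N84846 F370834) (tt N85288 D188032) (tt N85289 D188033) (tt N51576 F369985) (tt N78869 (iv6 F374519)) (tt N84847 F370833))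
theorem Q50415 : ∀ i, i < 50415 → P i := stepQ 50414 Q50414 (allL N50414 (tt N85290 D188035) (tt N85291 D188036) (tt N85284 (iv2 F372173)) (tt N85292 D188037) (tt N26616 (iv4 D90751)) (tt N85293 D188038) (tt N85294 D188039) (tt N84848 (iv7 F370837)))
theorem Q50416 : ∀ i, i < 50416 → P i := stepQ 50415 Q50415 (allL N50415 (tt N85295 D188040) (tt N85296 D188041) (tt N85285 (iv2 F372174)) (tt N26621 F139678) (tt N85294 (iv4 F372188)) (tt N85297 D188042) (tt N26616 (iv6 D90752)) (tt N78858 (iv7 F251154)))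
theorem Q50417 : ∀ i, i < 50417 → P i := stepQ 50416 Q50416 (allL N50416 (tt N26617 (iv1 D90754)) (tt N51423 F144873) (tt N51422 F251876) (tt N83735 F293508) (tt N49987 F293509) (tt N51404 F251425) (tt N79978 (iv6 F259223)) (tt N50882 F205481))
theorem Q50418 : ∀ i, i < 50418 → P i := stepQ 50417 Q50417 (allL N50417 (tt N50010 F205526) (tt N85298 D188043) (tt N85286 (iv2 F372175)) (tt N26623 F139679) (tt N85299 D188044) (tt N26617 (iv5 D90755)) (tt N85297 (iv6 F372196)) (tt N51424 (iv7 F144875)))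
theorem Q50419 : ∀ i, i < 50419 → P i := stepQ 50418 Q50418 (allL N50418 (tt N76351 F360971) (tt N76350 F360972) (tt N74896 F360973) (tt N26618 (iv3 D90756)) (tt N32721 F360974) (tt N49806 F139680) (tt N41790 F360975) (tt N42910 F360976))
theorem Q50420 : ∀ i, i < 50420 → P i := stepQ 50419 Q50419 (allL N50419 (tt N50118 F139683) (tt N50112 F139684) (tt N50332 F139681) (tt N32722 F329912) (tt N26618 (iv4 D90757)) (tt N28680 F291390) (tt N85300 D188045) (tt N50333 F139682))
theorem Q50421 : ∀ i, i < 50421 → P i := stepQ 50420 Q50420 (allL N50420 (tt N85301 D188046) (tt N85302 D188047) (tt N53833 (iv2 F291193)) (tt N41790 F318924) (tt N85300 (iv4 F372214)) (tt N42209 F318925) (tt N26618 (iv6 D90758)) (tt N85303 D188048))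
theorem Q50422 : ∀ i, i < 50422 → P i := stepQ 50421 Q50421 (allL N50421 (tt N50839 F366993) (tt N51077 (iv0 F159978)) (tt N51079 F143457) (tt N26619 (iv3 D90759)) (tt N28529 F340056) (tt N51582 (iv5 F145583)) (tt N85304 D188049) (tt N51080 (iv7 F143456)))
theorem Q50423 : ∀ i, i < 50423 → P i := stepQ 50422 Q50422 (allL N50422 (tt N50112 F139688) (tt N50118 F139689) (tt N50333 F139686) (tt N28531 F340057) (tt N26619 (iv4 D90760)) (tt N28679 F291457) (tt N85305 D188050) (tt N50332 F139687))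
theorem Q50424 : ∀ i, i < 50424 → P i := stepQ 50423 Q50423 (allL N50423 (tt N78867 F251164) (tt N85306 D188051) (tt N53837 (iv2 F367265)) (tt N85304 (iv3 F372220)) (tt N85305 (iv4 F372225)) (tt N50914 (iv5 F143019)) (tt N26619 (iv6 D90761)) (tt N85307 D188052))
theorem Q50425 : ∀ i, i < 50425 → P i := stepQ 50424 Q50424 (allL N50424 (tt N85308 D188053) (tt N61195 (iv0 F365267)) (tt N85309 D188054) (tt N26620 (iv3 D90762)) (tt N85292 (iv4 F372187)) (tt N85248 (iv5 F372040)) (tt N85310 D188055) (tt N84849 (iv7 F370838)))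
theorem Q50426 : ∀ i, i < 50426 → P i := stepQ 50425 Q50425 (allL N50425 (tt N85164 F371775) (tt N85166 (iv0 F413457)) (tt N84842 (iv2 F370821)) (tt N85310 (iv3 F372229)) (tt N26621 F139690) (tt N85311 D188057) (tt N26620 (iv6 D90763)) (tt N85312 D188058))
theorem Q50427 : ∀ i, i < 50427 → P i := stepQ 50426 Q50426 (allL N50426 (tt N84845 (iv1 F370828)) (tt N26621 (iv0 D90764)) (tt N84843 (iv2 F376846)) (tt N85313 D188060) (tt N85314 D188061) (tt N85315 D188062) (tt N83821 F367257) (tt N84844 (iv7 F376844)))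
theorem Q50428 : ∀ i, i < 50428 → P i := stepQ 50427 Q50427 (allL N50427 (tt N26621 (iv1 D90765)) (tt N84845 F370827) (tt N84844 (iv2 F376843)) (tt N85316 D188064) (tt N85317 D188065) (tt N85318 D188066) (tt N85319 D188067) (tt N84843 (iv7 F376847)))
theorem Q50429 : ∀ i, i < 50429 → P i := stepQ 50428 Q50428 (allL N50428 (tt N85320 D188068) (tt N85321 D188069) (tt N51444 (iv2 F144911)) (tt N85297 (iv3 F372195)) (tt N85322 D188070) (tt N26621 (iv5 D90766)) (tt N26623 F139691) (tt N85323 D188071))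
theorem Q50430 : ∀ i, i < 50430 → P i := stepQ 50429 Q50429 (allL N50429 (tt N84844 (iv1 F370823)) (tt N84843 F370826) (tt N84845 (iv2 F370824)) (tt N78858 (iv3 F251153)) (tt N85312 (iv4 F372230)) (tt N85323 (iv5 F372236)) (tt N78857 F251147) (tt N26621 (iv7 D90767)))
theorem Q50431 : ∀ i, i < 50431 → P i := stepQ 50430 Q50430 (allL N50430 (tt N27092 F139698) (tt N27157 F139699) (tt N27154 F139696) (tt N85324 D188072) (tt N26623 (iv4 D90770)) (tt N51271 (iv5 F144630)) (tt N85322 (iv6 F372234)) (tt N27153 F139697))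
theorem Q50432 : ∀ i, i < 50432 → P i := stepQ 50431 Q50431 (allL N50431 (tt N55147 (iv1 F364435)) (tt N55146 (iv0 F335411)) (tt N55148 F291833) (tt N26624 (iv3 D90771)) (tt N50431 F139700) (tt N53276 F291834) (tt N50046 F139701) (tt N28122 F291835))
theorem Q50433 : ∀ i, i < 50433 → P i := stepQ 50432 Q50432 (allL N50432 (tt N85325 D188073) (tt N83901 F372244) (tt N85326 D188074) (tt N26625 (iv3 D90775)) (tt N49828 F139707) (tt N53221 F291847) (tt N83883 (iv6 F367357)) (tt N28096 F291848))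
theorem Q50434 : ∀ i, i < 50434 → P i := stepQ 50433 Q50433 (allL N50433 (tt N84383 F369103) (tt N26626 (iv0 D90780)) (tt N72602 F345082) (tt N55301 (iv3 F343862)) (tt N72455 F343861) (tt N40130 F343864) (tt N80626 F343865) (tt N28062 F343866))
theorem Q50435 : ∀ i, i < 50435 → P i := stepQ 50434 Q50434 (allL N50434 (tt N26626 (iv1 D90781)) (tt N84383 (iv0 F369102)) (tt N28062 F343884) (tt N85327 D188075) (tt N49449 F343885) (tt N40129 F343886) (tt N28056 F343887) (tt N72602 (iv7 F345081)))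
theorem Q50436 : ∀ i, i < 50436 → P i := stepQ 50435 Q50435 (allL N50435 (tt N72602 F345087) (tt N28062 F345088) (tt N26626 (iv2 D90782)) (tt N83958 (iv3 F367611)) (tt N59251 F345089) (tt N85328 D188076) (tt N28053 F356459) (tt N84383 (iv7 F369101)))
theorem Q50437 : ∀ i, i < 50437 → P i := stepQ 50436 Q50436 (allL N50436 (tt N53529 (iv1 F345091)) (tt N53522 F358823) (tt N85328 (iv2 F372253)) (tt N26627 F139718) (tt N85329 D188077) (tt N26626 (iv5 D90783)) (tt N72561 F362784) (tt N84385 (iv7 F369108)))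
theorem Q50438 : ∀ i, i < 50438 → P i := stepQ 50437 Q50437 (allL N50437 (tt N85330 D188078) (tt N85331 D188079) (tt N84437 (iv2 F369257)) (tt N72561 (iv3 F362785)) (tt N85251 (iv4 F372044)) (tt N83702 F293927) (tt N26627 (iv6 D90786)) (tt N85332 D188080))
theorem Q50439 : ∀ i, i < 50439 → P i := stepQ 50438 Q50438 (allL N50438 (tt N26628 (iv1 D90790)) (tt N28435 F139731) (tt N28434 F143205) (tt N48934 F154219) (tt N75989 (iv4 F235265)) (tt N85333 D188081) (tt N28527 F177431) (tt N28379 F157762))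
theorem Q50440 : ∀ i, i < 50440 → P i := stepQ 50439 Q50439 (allL N50439 (tt N28379 F157760) (tt N28434 F139730) (tt N26628 (iv2 D90791)) (tt N28442 F139727) (tt N26635 F139728) (tt N85334 D188082) (tt N83561 (iv6 F287788)) (tt N28435 F139729))
theorem Q50441 : ∀ i, i < 50441 → P i := stepQ 50440 Q50440 (allL N50440 (tt N85335 D188083) (tt N85336 D188084) (tt N85334 (iv2 F372271)) (tt N26629 F139733) (tt N85337 D188085) (tt N26628 (iv5 D90792)) (tt N85338 D188086) (tt N28436 F139734))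
theorem Q50442 : ∀ i, i < 50442 → P i := stepQ 50441 Q50441 (allL N50441 (tt N84751 F370477) (tt N85339 D188087) (tt N83561 (iv2 F287787)) (tt N26630 F139735) (tt N26637 F139736) (tt N84417 (iv5 F369215)) (tt N26628 (iv6 D90793)) (tt N50209 F290680))
theorem Q50443 : ∀ i, i < 50443 → P i := stepQ 50442 Q50442 (allL N50442 (tt N53645 (iv1 F154228)) (tt N49714 F139739) (tt N28446 F139737) (tt N76890 (iv3 F365329)) (tt N26629 (iv4 D90794)) (tt N50992 (iv5 F291250)) (tt N85340 D188088) (tt N28439 F139738))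
theorem Q50444 : ∀ i, i < 50444 → P i := stepQ 50443 Q50443 (allL N50443 (tt N85341 D188089) (tt N85342 D188090) (tt N28447 F139740) (tt N85338 (iv3 F372289)) (tt N85340 (iv4 F372299)) (tt N84419 (iv5 F369224)) (tt N26629 (iv6 D90795)) (tt N85343 D188091))
theorem Q50445 : ∀ i, i < 50445 → P i := stepQ 50444 Q50444 (allL N50444 (tt N83947 F367581) (tt N85344 D188092) (tt N85345 D188093) (tt N26632 (iv3 D90800)) (tt N26642 F139767) (tt N85346 D188094) (tt N83874 (iv6 F367319)) (tt N50779 (iv7 F290653)))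
theorem Q50446 : ∀ i, i < 50446 → P i := stepQ 50445 Q50445 (allL N50445 (tt N26856 (iv1 F291249)) (tt N26858 (iv0 F291248)) (tt N26984 (iv2 F291251)) (tt N85346 (iv3 F372314)) (tt N50993 (iv4 F291273)) (tt N26632 (iv5 D90801)) (tt N85347 D188095) (tt N26983 F290828))
theorem Q50447 : ∀ i, i < 50447 → P i := stepQ 50446 Q50446 (allL N50446 (tt N28560 F360005) (tt N84991 F371302) (tt N84839 (iv2 F370809)) (tt N50836 (iv3 F142694)) (tt N85348 D188096) (tt N26634 (iv5 D90806)) (tt N85349 D188097) (tt N50870 (iv7 F142833)))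
theorem Q50448 : ∀ i, i < 50448 → P i := stepQ 50447 Q50447 (allL N50447 (tt N51068 F349148) (tt N53841 F362392) (tt N26636 F139790) (tt N78856 (iv3 F251132)) (tt N85350 D188098) (tt N26635 (iv5 D90807)) (tt N76625 (iv6 F239578)) (tt N84840 (iv7 F370815)))
theorem Q50449 : ∀ i, i < 50449 → P i := stepQ 50448 Q50448 (allL N50448 (tt N51091 (iv1 F143477)) (tt N50898 F143475) (tt N26637 F139791) (tt N61015 (iv3 F177597)) (tt N83561 (iv4 F287789)) (tt N76661 (iv5 F239680)) (tt N26635 (iv6 D90808)) (tt N83322 (iv7 F287423)))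
theorem Q50450 : ∀ i, i < 50450 → P i := stepQ 50449 Q50449 (allL N50449 (tt N84840 F370817) (tt N26636 (iv0 D90809)) (tt N51068 (iv2 F143388)) (tt N85351 D188099) (tt N85352 D188100) (tt N53842 F362399) (tt N85353 D188101) (tt N53841 (iv7 F362401)))
theorem Q50451 : ∀ i, i < 50451 → P i := stepQ 50450 Q50450 (allL N50450 (tt N26636 (iv1 D90810)) (tt N84840 (iv0 F370816)) (tt N53841 F362391) (tt N50030 (iv3 F143225)) (tt N85354 D188102) (tt N50027 F143227) (tt N63462 (iv6 F187579)) (tt N51068 (iv7 F143387)))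
theorem Q50452 : ∀ i, i < 50452 → P i := stepQ 50451 Q50451 (allL N50451 (tt N85355 D188103) (tt N85356 D188104) (tt N85350 (iv2 F372322)) (tt N85357 D188105) (tt N26636 (iv4 D90811)) (tt N85358 D188106) (tt N85359 D188107) (tt N78302 F364669))
theorem Q50453 : ∀ i, i < 50453 → P i := stepQ 50452 Q50452 (allL N50452 (tt N76627 (iv1 F372344)) (tt N61001 (iv0 F177559)) (tt N76625 F239579) (tt N26639 F139792) (tt N85359 (iv4 F372336)) (tt N85360 D188109) (tt N26636 (iv6 D90812)) (tt N76626 (iv7 F239581)))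
theorem Q50454 : ∀ i, i < 50454 → P i := stepQ 50453 Q50453 (allL N50453 (tt N83322 (iv1 F287422)) (tt N26637 (iv0 D90813)) (tt N51091 F143476) (tt N77627 F349314) (tt N83321 (iv4 F287415)) (tt N50769 F143228) (tt N29071 F293459) (tt N50898 (iv7 F143229)))
theorem Q50455 : ∀ i, i < 50455 → P i := stepQ 50454 Q50454 (allL N50454 (tt N76569 (iv1 F239339)) (tt N50073 (iv0 F139794)) (tt N76661 F239681) (tt N26640 F139793) (tt N85361 D188110) (tt N26637 (iv5 D90814)) (tt N85360 (iv6 F372340)) (tt N76640 (iv7 F239629)))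
theorem Q50456 : ∀ i, i < 50456 → P i := stepQ 50455 Q50455 (allL N50455 (tt N50898 (iv1 F143474)) (tt N51091 (iv0 F143473)) (tt N83322 F287424) (tt N26641 F139795) (tt N50209 F290584) (tt N76640 F239627) (tt N29473 F291560) (tt N26637 (iv7 D90815)))
theorem Q50457 : ∀ i, i < 50457 → P i := stepQ 50456 Q50456 (allL N50456 (tt N77097 (iv1 F370865)) (tt N84856 (iv0 F370864)) (tt N85245 F372035) (tt N26638 (iv3 D90816)) (tt N85357 (iv4 F372334)) (tt N85250 (iv5 F372043)) (tt N73494 (iv6 F387642)) (tt N84841 (iv7 F370818)))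
theorem Q50458 : ∀ i, i < 50458 → P i := stepQ 50457 Q50457 (allL N50457 (tt N85188 (iv1 F393118)) (tt N85191 (iv0 F393119)) (tt N84850 (iv2 F370840)) (tt N73494 (iv3 F387641)) (tt N26639 F139796) (tt N85362 D188114) (tt N26638 (iv6 D90817)) (tt N85363 D188115))
theorem Q50459 : ∀ i, i < 50459 → P i := stepQ 50458 Q50458 (allL N50458 (tt N78857 (iv1 F251149)) (tt N26639 (iv0 D90818)) (tt N84851 F370842) (tt N76686 (iv3 F251151)) (tt N85364 D188116) (tt N61047 (iv5 F251152)) (tt N85365 D188117) (tt N61046 F251150))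
theorem Q50460 : ∀ i, i < 50460 → P i := stepQ 50459 Q50459 (allL N50459 (tt N26639 (iv1 D90819)) (tt N78857 F251148) (tt N61046 (iv2 F177743)) (tt N63267 (iv3 F186654)) (tt N85366 D188118) (tt N55764 (iv5 F161593)) (tt N55772 (iv6 F161705)) (tt N84851 (iv7 F370844)))
theorem Q50461 : ∀ i, i < 50461 → P i := stepQ 50460 Q50460 (allL N50460 (tt N85367 D188119) (tt N85368 D188120) (tt N84391 (iv2 F369121)) (tt N85360 (iv3 F372339)) (tt N85369 D188121) (tt N26639 (iv5 D90820)) (tt N26640 F139797) (tt N85370 D188122))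
theorem Q50462 : ∀ i, i < 50462 → P i := stepQ 50461 Q50461 (allL N50461 (tt N61046 (iv1 F178046)) (tt N84851 F370843) (tt N78857 F251146) (tt N76626 F239582) (tt N85363 (iv4 F372348)) (tt N85370 (iv5 F372382)) (tt N84845 (iv6 F370825)) (tt N26639 (iv7 D90821)))
theorem Q50463 : ∀ i, i < 50463 → P i := stepQ 50462 Q50462 (allL N50462 (tt N49882 F139799) (tt N50044 F139800) (tt N84390 (iv2 F369116)) (tt N85371 D188123) (tt N26640 (iv4 D90823)) (tt N28951 F290684) (tt N85369 (iv6 F372376)) (tt N84378 (iv7 F369074)))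
theorem Q50464 : ∀ i, i < 50464 → P i := stepQ 50463 Q50463 (allL N50463 (tt N26821 (iv1 F139803)) (tt N26824 F139804) (tt N29056 F290586) (tt N76640 (iv3 F239628)) (tt N84378 (iv4 F369075)) (tt N26641 F139802) (tt N61140 F178100) (tt N26640 (iv7 D90824)))
theorem Q50465 : ∀ i, i < 50465 → P i := stepQ 50464 Q50464 (allL N50464 (tt N26642 (iv1 D90826)) (tt N83958 F367616) (tt N53725 F292003) (tt N48617 F292004) (tt N50363 F292005) (tt N53695 F292006) (tt N83490 F292007) (tt N48790 F292008))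
theorem Q50466 : ∀ i, i < 50466 → P i := stepQ 50465 Q50465 (allL N50465 (tt N48790 F292009) (tt N53725 F292010) (tt N26642 (iv2 D90827)) (tt N84383 (iv3 F369099)) (tt N85345 (iv4 F372311)) (tt N85127 F371703) (tt N83884 (iv6 F367360)) (tt N83958 (iv7 F367613)))
theorem Q50467 : ∀ i, i < 50467 → P i := stepQ 50466 Q50466 (allL N50466 (tt N28504 F292011) (tt N28505 F292012) (tt N85127 (iv2 F371704)) (tt N26643 F139805) (tt N85372 D188124) (tt N26642 (iv5 D90828)) (tt N85373 D188125) (tt N84432 (iv7 F369253)))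
theorem Q50468 : ∀ i, i < 50468 → P i := stepQ 50467 Q50467 (allL N50467 (tt N85374 D188126) (tt N85375 D188127) (tt N84388 (iv2 F369111)) (tt N85373 (iv3 F372391)) (tt N85249 (iv4 F372042)) (tt N83886 (iv5 F367376)) (tt N26643 (iv6 D90830)) (tt N85376 D188128))
theorem Q50469 : ∀ i, i < 50469 → P i := stepQ 50468 Q50468 (allL N50468 (tt N85377 D188129) (tt N50737 (iv0 F360296)) (tt N85378 D188130) (tt N26648 (iv3 D90851)) (tt N51225 F292051) (tt N79046 F251995) (tt N82744 (iv6 F283791)) (tt N27264 F139844))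
theorem Q50470 : ∀ i, i < 50470 → P i := stepQ 50469 Q50469 (allL N50469 (tt N28249 F294860) (tt N26649 (iv0 D90871)) (tt N28253 F294861) (tt N28361 F294862) (tt N85379 D188131) (tt N85380 D188132) (tt N28870 F357143) (tt N28252 F294863))
theorem Q50471 : ∀ i, i < 50471 → P i := stepQ 50470 Q50470 (allL N50470 (tt N26649 (iv1 D90872)) (tt N28249 F294864) (tt N28252 F294865) (tt N85381 D188133) (tt N55113 F294866) (tt N85382 D188134) (tt N26680 F357552) (tt N28253 F294867))
theorem Q50472 : ∀ i, i < 50472 → P i := stepQ 50471 Q50471 (allL N50471 (tt N28253 F294868) (tt N28252 F294869) (tt N26649 (iv2 D90873)) (tt N28646 F294870) (tt N51707 F294871) (tt N85383 D188135) (tt N28583 F294872) (tt N28249 F294873))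
theorem Q50473 : ∀ i, i < 50473 → P i := stepQ 50472 Q50472 (allL N50472 (tt N85384 D188136) (tt N85385 D188137) (tt N85383 (iv2 F372429)) (tt N26651 F139876) (tt N85386 D188138) (tt N26649 (iv5 D90875)) (tt N72424 F357626) (tt N28254 F294243))
theorem Q50474 : ∀ i, i < 50474 → P i := stepQ 50473 Q50473 (allL N50473 (tt N85387 D188139) (tt N72871 F372450) (tt N28683 F294248) (tt N72424 (iv3 F357499)) (tt N85223 (iv4 F371957)) (tt N28632 F294249) (tt N26651 (iv6 D90879)) (tt N85388 D188140))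
theorem Q50475 : ∀ i, i < 50475 → P i := stepQ 50474 Q50474 (allL N50474 (tt N85380 F372415) (tt N85382 (iv0 F372427)) (tt N85389 D188141) (tt N26652 (iv3 D90912)) (tt N85390 D188142) (tt N52163 F293917) (tt N85391 D188143) (tt N55322 F293918))
theorem Q50476 : ∀ i, i < 50476 → P i := stepQ 50475 Q50475 (allL N50475 (tt N85392 D188144) (tt N85393 D188145) (tt N55324 F293923) (tt N85391 (iv3 F372472)) (tt N85183 (iv4 F371835)) (tt N83695 F293924) (tt N26652 (iv6 D90913)) (tt N85394 D188146))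
theorem Q50477 : ∀ i, i < 50477 → P i := stepQ 50476 Q50476 (allL N50476 (tt N28659 F344237) (tt N28661 F344238) (tt N39276 F344183) (tt N26653 (iv3 D90914)) (tt N67668 F344184) (tt N52164 F293909) (tt N37805 F344185) (tt N55323 F293910))
theorem Q50478 : ∀ i, i < 50478 → P i := stepQ 50477 Q50477 (allL N50477 (tt N85395 D188147) (tt N85396 D188148) (tt N28908 F293915) (tt N37805 F329286) (tt N85158 (iv4 F371762)) (tt N28332 F293916) (tt N26653 (iv6 D90915)) (tt N39281 F329287))
theorem Q50479 : ∀ i, i < 50479 → P i := stepQ 50478 Q50478 (allL N50478 (tt N73517 (iv1 F362683)) (tt N85397 D188149) (tt N30975 F331072) (tt N26654 (iv3 D90916)) (tt N33301 F331073) (tt N70240 (iv5 F351197)) (tt N30804 F331074) (tt N55327 F295009))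
theorem Q50480 : ∀ i, i < 50480 → P i := stepQ 50479 Q50479 (allL N50479 (tt N85398 D188150) (tt N85399 D188151) (tt N84857 (iv2 F370867)) (tt N30804 F331084) (tt N26655 F139922) (tt N30803 F331085) (tt N26654 (iv6 D90917)) (tt N30962 F331086))
theorem Q50481 : ∀ i, i < 50481 → P i := stepQ 50480 Q50480 (allL N50480 (tt N84860 (iv1 F370884)) (tt N26655 (iv0 D90918)) (tt N84858 (iv2 F380053)) (tt N85400 D188153) (tt N85401 D188154) (tt N85402 D188155) (tt N85403 D188156) (tt N84859 (iv7 F380056)))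
theorem Q50482 : ∀ i, i < 50482 → P i := stepQ 50481 Q50481 (allL N50481 (tt N26655 (iv1 D90919)) (tt N84860 F370883) (tt N84859 (iv2 F380055)) (tt N85404 D188158) (tt N85405 D188159) (tt N85406 D188160) (tt N85407 D188161) (tt N84858 (iv7 F380054)))
theorem Q50483 : ∀ i, i < 50483 → P i := stepQ 50482 Q50482 (allL N50482 (tt N84859 (iv1 F370876)) (tt N84858 F370882) (tt N84860 (iv2 F370878)) (tt N40692 F331068) (tt N30962 F331069) (tt N26712 F139923) (tt N55331 F295011) (tt N26655 (iv7 D90920)))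
theorem Q50484 : ∀ i, i < 50484 → P i := stepQ 50483 Q50483 (allL N50483 (tt N28131 (iv1 F293117)) (tt N26657 (iv0 D90990)) (tt N28135 F344284) (tt N51473 (iv3 F293983)) (tt N84106 (iv4 F368128)) (tt N83721 (iv5 F367105)) (tt N84394 (iv6 F369139)) (tt N28134 F344285))
theorem Q50485 : ∀ i, i < 50485 → P i := stepQ 50484 Q50484 (allL N50484 (tt N26657 (iv1 D90991)) (tt N28131 (iv0 F293116)) (tt N28134 F344280) (tt N51397 F292998) (tt N51154 (iv4 F143809)) (tt N83722 (iv5 F367099)) (tt N84393 F369133) (tt N28135 F344281))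
theorem Q50486 : ∀ i, i < 50486 → P i := stepQ 50485 Q50485 (allL N50485 (tt N28135 (iv1 F293121)) (tt N28134 (iv0 F293120)) (tt N26657 (iv2 D90992)) (tt N49356 F140021) (tt N26662 F140022) (tt N76458 F292999) (tt N49358 F294658) (tt N28131 (iv7 F293118)))
theorem Q50487 : ∀ i, i < 50487 → P i := stepQ 50486 Q50486 (allL N50486 (tt N76457 F292419) (tt N76456 F292420) (tt N76458 F292421) (tt N26658 F140027) (tt N85408 D188162) (tt N26657 (iv5 D90993)) (tt N76476 F292422) (tt N28136 F292423))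
theorem Q50488 : ∀ i, i < 50488 → P i := stepQ 50487 Q50487 (allL N50487 (tt N85409 D188163) (tt N85410 D188164) (tt N49336 F140031) (tt N76476 F292425) (tt N78515 (iv4 F249013)) (tt N51400 F292426) (tt N26658 (iv6 D90995)) (tt N76471 F292427))
theorem Q50489 : ∀ i, i < 50489 → P i := stepQ 50488 Q50488 (allL N50488 (tt N27038 (iv1 F140044)) (tt N26659 (iv0 D91000)) (tt N27037 F344257) (tt N53053 F294776) (tt N49576 F294777) (tt N84863 (iv5 F370894)) (tt N54528 (iv6 F357600)) (tt N27036 F344259))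
theorem Q50490 : ∀ i, i < 50490 → P i := stepQ 50489 Q50489 (allL N50489 (tt N26659 (iv1 D91001)) (tt N27038 F140049) (tt N27036 F344254) (tt N49606 F294778) (tt N49575 F294779) (tt N84864 (iv5 F370900)) (tt N49706 (iv6 F349309)) (tt N27037 F344255))
theorem Q50491 : ∀ i, i < 50491 → P i := stepQ 50490 Q50490 (allL N50490 (tt N27037 (iv1 F140050)) (tt N27036 F140048) (tt N26659 (iv2 D91002)) (tt N27030 F140045) (tt N48663 F140046) (tt N50587 (iv5 F140246)) (tt N49578 F294780) (tt N27038 F140047))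
theorem Q50492 : ∀ i, i < 50492 → P i := stepQ 50491 Q50491 (allL N50491 (tt N48683 F294845) (tt N48723 F294846) (tt N27558 (iv2 F295296)) (tt N26660 (iv3 D91009)) (tt N27562 (iv4 F294979)) (tt N85411 D188165) (tt N80135 (iv6 F331219)) (tt N28161 (iv7 F294923)))
theorem Q50493 : ∀ i, i < 50493 → P i := stepQ 50492 Q50492 (allL N50492 (tt N27104 F294847) (tt N27130 F294848) (tt N27088 (iv2 F294925)) (tt N27138 F294849) (tt N26660 (iv4 D91010)) (tt N85412 D188166) (tt N84403 (iv6 F369176)) (tt N27131 (iv7 F294924)))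
theorem Q50494 : ∀ i, i < 50494 → P i := stepQ 50493 Q50493 (allL N50493 (tt N50508 F294358) (tt N26837 F294359) (tt N28164 (iv2 F294364)) (tt N85411 (iv3 F372515)) (tt N85413 D188167) (tt N26660 (iv5 D91011)) (tt N85414 D188168) (tt N28162 (iv7 F294360)))
theorem Q50495 : ∀ i, i < 50495 → P i := stepQ 50494 Q50494 (allL N50494 (tt N26837 F294361) (tt N50508 F294362) (tt N28162 F294363) (tt N48557 (iv3 F295014)) (tt N85415 D188169) (tt N26661 (iv5 D91016)) (tt N85416 D188170) (tt N28164 (iv7 F294365)))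
theorem Q50496 : ∀ i, i < 50496 → P i := stepQ 50495 Q50495 (allL N50495 (tt N28167 (iv1 F294927)) (tt N28166 (iv0 F294926)) (tt N26663 F140066) (tt N51127 (iv3 F143636)) (tt N85417 D188171) (tt N26662 (iv5 D91018)) (tt N70172 (iv6 F364851)) (tt N28151 (iv7 F294922)))
theorem Q50497 : ∀ i, i < 50497 → P i := stepQ 50496 Q50496 (allL N50496 (tt N28151 (iv1 F294921)) (tt N26663 (iv0 D91020)) (tt N28167 F294853) (tt N85418 D188172) (tt N85419 D188173) (tt N26669 F294854) (tt N85420 D188174) (tt N28166 F294855))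
theorem Q50498 : ∀ i, i < 50498 → P i := stepQ 50497 Q50497 (allL N50497 (tt N26663 (iv1 D91021)) (tt N28151 (iv0 F294920)) (tt N28166 F294856) (tt N48558 F294857) (tt N85421 D188175) (tt N26670 F294858) (tt N72810 (iv6 F359692)) (tt N28167 F294859))
theorem Q50499 : ∀ i, i < 50499 → P i := stepQ 50498 Q50498 (allL N50498 (tt N40539 F338882) (tt N85422 D188176) (tt N85417 (iv2 F372546)) (tt N49563 (iv3 F295267)) (tt N26663 (iv4 D91022)) (tt N85423 D188177) (tt N85424 D188178) (tt N28168 (iv7 F294928)))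
theorem Q50500 : ∀ i, i < 50500 → P i := stepQ 50499 Q50499 (allL N50499 (tt N70371 (iv1 F332675)) (tt N70370 F364852) (tt N70172 F332672) (tt N26664 F140068) (tt N85424 (iv4 F372593)) (tt N70171 (iv5 F332671)) (tt N26663 (iv6 D91023)) (tt N70368 F332673))
theorem Q50501 : ∀ i, i < 50501 → P i := stepQ 50500 Q50500 (allL N50500 (tt N51133 (iv1 F143656)) (tt N26664 (iv0 D91028)) (tt N51131 (iv2 F295424)) (tt N85425 D188179) (tt N28177 F295469) (tt N85426 D188180) (tt N85427 D188181) (tt N51132 (iv7 F295429)))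
theorem Q50502 : ∀ i, i < 50502 → P i := stepQ 50501 Q50501 (allL N50501 (tt N26664 (iv1 D91029)) (tt N51133 F143655) (tt N51132 (iv2 F295427)) (tt N85428 D188182) (tt N28178 F295470) (tt N85429 D188183) (tt N85430 D188184) (tt N51131 (iv7 F295426)))
theorem Q50503 : ∀ i, i < 50503 → P i := stepQ 50502 Q50502 (allL N50502 (tt N51132 (iv1 F143649)) (tt N51131 F143654) (tt N51133 (iv2 F143652)) (tt N70368 (iv3 F332674)) (tt N49570 (iv4 F295270)) (tt N67319 F332676) (tt N28179 (iv6 F295368)) (tt N26664 (iv7 D91031)))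
theorem Q50504 : ∀ i, i < 50504 → P i := stepQ 50503 Q50503 (allL N50503 (tt N49312 (iv1 F140079)) (tt N26665 (iv0 D91045)) (tt N49311 F355741) (tt N83706 (iv3 F288646)) (tt N84885 (iv4 F370996)) (tt N76457 F355742) (tt N28473 F355743) (tt N49310 F355744))
theorem Q50505 : ∀ i, i < 50505 → P i := stepQ 50504 Q50504 (allL N50504 (tt N26665 (iv1 D91046)) (tt N49312 F140084) (tt N49310 F349275) (tt N85431 D188185) (tt N84861 (iv4 F370887)) (tt N76456 F349276) (tt N54757 F349280) (tt N49311 F349277))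
theorem Q50506 : ∀ i, i < 50506 → P i := stepQ 50505 Q50505 (allL N50505 (tt N49311 (iv1 F140085)) (tt N49310 F140083) (tt N26665 (iv2 D91047)) (tt N49316 F140080) (tt N26671 F140081) (tt N83808 (iv5 F289196)) (tt N85432 D188186) (tt N49312 F140082))
theorem Q50507 : ∀ i, i < 50507 → P i := stepQ 50506 Q50506 (allL N50506 (tt N85433 D188187) (tt N85434 D188188) (tt N85432 (iv2 F372610)) (tt N26666 F140086) (tt N26673 F140087) (tt N50031 (iv5 F355733)) (tt N26665 (iv6 D91048)) (tt N50187 (iv7 F290579)))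
theorem Q50508 : ∀ i, i < 50508 → P i := stepQ 50507 Q50507 (allL N50507 (tt N84752 F370481) (tt N85435 D188189) (tt N48882 F292349) (tt N26669 (iv3 D91051)) (tt N50529 F140144) (tt N85418 (iv5 F372554)) (tt N28503 F292350) (tt N50794 (iv7 F142577)))
theorem Q50509 : ∀ i, i < 50509 → P i := stepQ 50508 Q50508 (allL N50508 (tt N50494 (iv1 F294362)) (tt N50493 (iv0 F294358)) (tt N26672 F140102) (tt N51231 (iv3 F144527)) (tt N53728 F351153) (tt N26671 (iv5 D91058)) (tt N53727 (iv6 F351154)) (tt N50797 (iv7 F142590)))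
theorem Q50510 : ∀ i, i < 50510 → P i := stepQ 50509 Q50509 (allL N50509 (tt N49151 F290949) (tt N83505 F290950) (tt N26673 F140103) (tt N50212 F140104) (tt N85432 (iv4 F372612)) (tt N53076 F290951) (tt N26671 (iv6 D91059)) (tt N81879 F290952))
theorem Q50511 : ∀ i, i < 50511 → P i := stepQ 50510 Q50510 (allL N50510 (tt N85436 D188190) (tt N85437 D188191) (tt N53728 (iv2 F351152)) (tt N50533 (iv3 F140148)) (tt N26672 (iv4 D91062)) (tt N83967 (iv5 F367654)) (tt N53696 F351151) (tt N50798 (iv7 F142595)))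
theorem Q50512 : ∀ i, i < 50512 → P i := stepQ 50511 Q50511 (allL N50511 (tt N85438 D188192) (tt N85439 D188193) (tt N53727 (iv2 F351149)) (tt N26674 F140105) (tt N53696 (iv4 F351150)) (tt N85440 D188194) (tt N26672 (iv6 D91063)) (tt N53724 F351147))
theorem Q50513 : ∀ i, i < 50513 → P i := stepQ 50512 Q50512 (allL N50512 (tt N81879 F290942) (tt N26673 (iv0 D91064)) (tt N49151 F290943) (tt N83502 F290944) (tt N83640 F290945) (tt N84429 (iv5 F369246)) (tt N29028 F290946) (tt N83505 F290947))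
theorem Q50514 : ∀ i, i < 50514 → P i := stepQ 50513 Q50513 (allL N50513 (tt N53078 (iv1 F355765)) (tt N49489 F355739) (tt N53076 (iv2 F367219)) (tt N26676 F140106) (tt N85441 D188195) (tt N26673 (iv5 D91066)) (tt N85440 (iv6 F372644)) (tt N52896 (iv7 F367220)))
theorem Q50515 : ∀ i, i < 50515 → P i := stepQ 50514 Q50514 (allL N50514 (tt N83505 F290611) (tt N49151 F290612) (tt N81879 F290613) (tt N26677 F140107) (tt N50187 F290614) (tt N52896 F290615) (tt N27927 (iv6 F290693)) (tt N26673 (iv7 D91067)))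
theorem Q50516 : ∀ i, i < 50516 → P i := stepQ 50515 Q50515 (allL N50515 (tt N51235 (iv1 F144540)) (tt N26674 (iv0 D91068)) (tt N51233 (iv2 F367222)) (tt N85442 D188196) (tt N50800 (iv4 F367223)) (tt N85443 D188197) (tt N49466 F367221) (tt N51234 F367224))
theorem Q50517 : ∀ i, i < 50517 → P i := stepQ 50516 Q50516 (allL N50516 (tt N26674 (iv1 D91069)) (tt N51235 F144539) (tt N51234 (iv2 F367225)) (tt N85444 D188198) (tt N50801 F367227) (tt N85445 D188199) (tt N85446 D188200) (tt N51233 (iv7 F367226)))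
theorem Q50518 : ∀ i, i < 50518 → P i := stepQ 50517 Q50517 (allL N50517 (tt N85447 D188201) (tt N85448 D188202) (tt N50214 F140108) (tt N85440 (iv3 F372643)) (tt N85449 D188203) (tt N26674 (iv5 D91070)) (tt N26676 F140109) (tt N85450 D188204))
theorem Q50519 : ∀ i, i < 50519 → P i := stepQ 50518 Q50518 (allL N50518 (tt N51234 (iv1 F144535)) (tt N51233 F144538) (tt N51235 (iv2 F144536)) (tt N53724 (iv3 F351146)) (tt N50540 (iv4 F140153)) (tt N85450 (iv5 F372655)) (tt N50802 (iv6 F142599)) (tt N26674 (iv7 D91071)))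
theorem Q50520 : ∀ i, i < 50520 → P i := stepQ 50519 Q50519 (allL N50519 (tt N49740 (iv1 F293260)) (tt N49288 (iv0 F293255)) (tt N49756 (iv2 F292674)) (tt N85451 D188205) (tt N26676 (iv4 D91079)) (tt N50202 F140125) (tt N85449 (iv6 F372652)) (tt N49757 F292347))
theorem Q50521 : ∀ i, i < 50521 → P i := stepQ 50520 Q50520 (allL N50520 (tt N83497 F292183) (tt N48811 F292184) (tt N48950 F292185) (tt N26678 (iv3 D91081)) (tt N50520 F140132) (tt N84286 (iv5 F368804)) (tt N28214 F292186) (tt N50207 F140133))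
theorem Q50522 : ∀ i, i < 50522 → P i := stepQ 50521 Q50521 (allL N50521 (tt N26699 F288890) (tt N49083 F295071) (tt N49088 F295072) (tt N26679 (iv3 D91084)) (tt N48642 F140137) (tt N84061 (iv5 F367963)) (tt N85452 D188206) (tt N49089 F295073))
theorem Q50523 : ∀ i, i < 50523 → P i := stepQ 50522 Q50522 (allL N50522 (tt N85453 D188207) (tt N84686 (iv0 F370227)) (tt N84662 F370091) (tt N85454 D188208) (tt N26679 (iv4 D91085)) (tt N85455 D188209) (tt N85456 D188210) (tt N84870 (iv7 F370932)))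
theorem Q50524 : ∀ i, i < 50524 → P i := stepQ 50523 Q50523 (allL N50523 (tt N28863 F357545) (tt N28873 F357546) (tt N28871 F357547) (tt N85452 (iv3 F372662)) (tt N85456 (iv4 F372682)) (tt N83861 (iv5 F362409)) (tt N26679 (iv6 D91087)) (tt N28870 F357548))
theorem Q50525 : ∀ i, i < 50525 → P i := stepQ 50524 Q50524 (allL N50524 (tt N83580 (iv1 F370942)) (tt N83581 F370943) (tt N84879 (iv2 F370981)) (tt N26680 (iv3 D91089)) (tt N85457 D188211) (tt N84064 (iv5 F367975)) (tt N85381 (iv6 F372419)) (tt N84871 (iv7 F370939)))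
theorem Q50526 : ∀ i, i < 50526 → P i := stepQ 50525 Q50525 (allL N50525 (tt N84686 (iv1 F370226)) (tt N85453 F372672) (tt N84870 (iv2 F370929)) (tt N48676 (iv3 F140139)) (tt N26680 (iv4 D91090)) (tt N85458 D188212) (tt N55113 F357553) (tt N84662 (iv7 F370089)))
theorem Q50527 : ∀ i, i < 50527 → P i := stepQ 50526 Q50526 (allL N50526 (tt N82593 F283176) (tt N27569 F293827) (tt N26682 F140140) (tt N82592 (iv3 F283165)) (tt N26681 (iv4 D91093)) (tt N85459 D188213) (tt N29429 F293828) (tt N82594 (iv7 F283180)))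
theorem Q50528 : ∀ i, i < 50528 → P i := stepQ 50527 Q50527 (allL N50527 (tt N49560 F335332) (tt N49557 F343088) (tt N26683 F140142) (tt N84862 (iv3 F370890)) (tt N85460 D188214) (tt N26681 (iv5 D91094)) (tt N85461 D188215) (tt N84872 (iv7 F370946)))
theorem Q50529 : ∀ i, i < 50529 → P i := stepQ 50528 Q50528 (allL N50528 (tt N28248 F292390) (tt N28571 F292391) (tt N26684 F140143) (tt N28639 F292392) (tt N29429 F292393) (tt N85462 D188216) (tt N26681 (iv6 D91095)) (tt N28569 F292394))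
theorem Q50530 : ∀ i, i < 50530 → P i := stepQ 50529 Q50529 (allL N50529 (tt N26682 (iv1 D91096)) (tt N82594 F283182) (tt N27569 F293402) (tt N55058 F293403) (tt N50507 (iv4 F140144)) (tt N68390 F352885) (tt N51705 F293404) (tt N82593 (iv7 F283175)))
theorem Q50531 : ∀ i, i < 50531 → P i := stepQ 50530 Q50530 (allL N50530 (tt N27563 F293830) (tt N85463 D188217) (tt N85459 (iv2 F372691)) (tt N48529 F140145) (tt N49859 (iv4 F343052)) (tt N26682 (iv5 D91097)) (tt N85464 D188218) (tt N52691 F293831))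
theorem Q50532 : ∀ i, i < 50532 → P i := stepQ 50531 Q50531 (allL N50531 (tt N84872 (iv1 F370947)) (tt N26683 (iv0 D91099)) (tt N49560 (iv2 F356243)) (tt N52763 (iv3 F356244)) (tt N85465 D188219) (tt N27028 F356189) (tt N85466 D188220) (tt N49557 (iv7 F356245)))
theorem Q50533 : ∀ i, i < 50533 → P i := stepQ 50532 Q50532 (allL N50532 (tt N26683 (iv1 D91100)) (tt N84872 (iv0 F370948)) (tt N49557 F356247) (tt N85467 D188221) (tt N85468 D188222) (tt N27029 F356248) (tt N85469 D188223) (tt N49560 F356246))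
theorem Q50534 : ∀ i, i < 50534 → P i := stepQ 50533 Q50533 (allL N50533 (tt N85470 D188224) (tt N85471 D188225) (tt N85460 (iv2 F372696)) (tt N50510 F140148) (tt N26683 (iv4 D91101)) (tt N85472 D188226) (tt N85473 D188227) (tt N84874 (iv7 F370957)))
theorem Q50535 : ∀ i, i < 50535 → P i := stepQ 50534 Q50534 (allL N50534 (tt N53268 F357562) (tt N85474 D188228) (tt N85461 (iv2 F372700)) (tt N26685 F140149) (tt N85473 (iv4 F372738)) (tt N85475 D188229) (tt N26683 (iv6 D91102)) (tt N85476 D188230))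
theorem Q50536 : ∀ i, i < 50536 → P i := stepQ 50535 Q50535 (allL N50535 (tt N26684 (iv1 D91104)) (tt N28569 F292385) (tt N28571 F292386) (tt N85477 D188231) (tt N55521 F292387) (tt N84195 (iv5 F368476)) (tt N28325 F292388) (tt N28248 F292389))
theorem Q50537 : ∀ i, i < 50537 → P i := stepQ 50536 Q50536 (allL N50536 (tt N85478 D188232) (tt N85479 D188233) (tt N85462 (iv2 F372704)) (tt N26686 F140150) (tt N85480 D188234) (tt N26684 (iv5 D91105)) (tt N85475 (iv6 F372749)) (tt N28935 F292395))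
theorem Q50538 : ∀ i, i < 50538 → P i := stepQ 50537 Q50537 (allL N50537 (tt N84869 (iv1 F370928)) (tt N26685 (iv0 D91107)) (tt N84867 F370911) (tt N85481 D188235) (tt N50559 (iv4 F368013)) (tt N85482 D188236) (tt N84072 F368012) (tt N84868 (iv7 F370919)))
theorem Q50539 : ∀ i, i < 50539 → P i := stepQ 50538 Q50538 (allL N50538 (tt N26685 (iv1 D91108)) (tt N84869 F370927) (tt N84868 F370920) (tt N84792 (iv3 F370916)) (tt N50560 (iv4 F370917)) (tt N85483 D188237) (tt N85484 D188238) (tt N84867 F370915))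
theorem Q50540 : ∀ i, i < 50540 → P i := stepQ 50539 Q50539 (allL N50539 (tt N85485 D188239) (tt N85486 D188240) (tt N28944 F292396) (tt N85475 (iv3 F372748)) (tt N85487 D188241) (tt N26685 (iv5 D91109)) (tt N26686 F140152) (tt N85488 D188242))
theorem Q50541 : ∀ i, i < 50541 → P i := stepQ 50540 Q50540 (allL N50540 (tt N84868 (iv1 F370918)) (tt N84867 F370922) (tt N84869 (iv2 F370923)) (tt N85476 (iv3 F372752)) (tt N50518 F140153) (tt N85488 (iv5 F372799)) (tt N84878 (iv6 F370975)) (tt N26685 (iv7 D91110)))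
theorem Q50542 : ∀ i, i < 50542 → P i := stepQ 50541 Q50541 (allL N50541 (tt N54813 F292341) (tt N54810 F292342) (tt N28943 F292343) (tt N85489 D188243) (tt N26686 (iv4 D91111)) (tt N51301 (iv5 F144688)) (tt N85487 (iv6 F372797)) (tt N28939 F292344))
theorem Q50543 : ∀ i, i < 50543 → P i := stepQ 50542 Q50542 (allL N50542 (tt N84748 F370463) (tt N84886 F371005) (tt N84885 F370997) (tt N26687 (iv3 D91114)) (tt N49311 F140157) (tt N85490 D188244) (tt N28658 F338423) (tt N84861 (iv7 F370885)))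
theorem Q50544 : ∀ i, i < 50544 → P i := stepQ 50543 Q50543 (allL N50543 (tt N28892 F295364) (tt N28897 F295365) (tt N28896 F338424) (tt N85491 D188245) (tt N26687 (iv4 D91115)) (tt N71657 (iv5 F350289)) (tt N28235 F338425) (tt N28895 F338426))
theorem Q50545 : ∀ i, i < 50545 → P i := stepQ 50544 Q50544 (allL N50544 (tt N51156 F338427) (tt N26706 F338428) (tt N51158 F338429) (tt N85490 (iv3 F372807)) (tt N85492 D188246) (tt N26687 (iv5 D91116)) (tt N85493 D188247) (tt N51157 (iv7 F338448)))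
theorem Q50546 : ∀ i, i < 50546 → P i := stepQ 50545 Q50545 (allL N50545 (tt N54854 F362646) (tt N26695 F362647) (tt N85494 D188248) (tt N26688 (iv3 D91119)) (tt N85495 D188249) (tt N84109 (iv5 F368137)) (tt N85496 D188250) (tt N48985 F338439))
theorem Q50547 : ∀ i, i < 50547 → P i := stepQ 50546 Q50546 (allL N50546 (tt N28897 F344358) (tt N28892 F344359) (tt N28895 F338440) (tt N48635 (iv3 F140159)) (tt N26688 (iv4 D91120)) (tt N84081 (iv5 F368036)) (tt N85497 D188251) (tt N28896 F338441))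
theorem Q50548 : ∀ i, i < 50548 → P i := stepQ 50547 Q50547 (allL N50547 (tt N26706 F338444) (tt N51156 F338445) (tt N51157 F338446) (tt N84109 F368138) (tt N85498 D188252) (tt N26688 (iv5 D91121)) (tt N85499 D188253) (tt N51158 F338442))
theorem Q50549 : ∀ i, i < 50549 → P i := stepQ 50548 Q50548 (allL N50548 (tt N28321 F344347) (tt N83461 F344348) (tt N83460 (iv2 F344349)) (tt N85496 (iv3 F372837)) (tt N85497 (iv4 F372846)) (tt N83850 (iv5 F346006)) (tt N26688 (iv6 D91122)) (tt N28662 F338443))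
theorem Q50550 : ∀ i, i < 50550 → P i := stepQ 50549 Q50549 (allL N50549 (tt N84864 (iv1 F370898)) (tt N84863 F370895) (tt N26690 F140160) (tt N84872 (iv3 F370945)) (tt N85500 D188254) (tt N26689 (iv5 D91123)) (tt N85501 D188255) (tt N84862 (iv7 F370891)))
theorem Q50551 : ∀ i, i < 50551 → P i := stepQ 50550 Q50550 (allL N50550 (tt N85497 F372849) (tt N85502 D188256) (tt N26691 F140161) (tt N84873 (iv3 F370950)) (tt N51682 (iv4 F147017)) (tt N85503 D188257) (tt N26689 (iv6 D91124)) (tt N85504 D188258))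
theorem Q50552 : ∀ i, i < 50552 → P i := stepQ 50551 Q50551 (allL N50551 (tt N84862 (iv1 F370893)) (tt N26690 (iv0 D91125)) (tt N84864 F370901) (tt N85505 D188259) (tt N85506 D188260) (tt N27036 F357623) (tt N85507 D188261) (tt N84863 F370897))
theorem Q50553 : ∀ i, i < 50553 → P i := stepQ 50552 Q50552 (allL N50552 (tt N26690 (iv1 D91126)) (tt N84862 (iv0 F370892)) (tt N84863 F370896) (tt N85508 D188262) (tt N85509 D188263) (tt N27037 F356800) (tt N71188 F356801) (tt N84864 (iv7 F370899)))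
theorem Q50554 : ∀ i, i < 50554 → P i := stepQ 50553 Q50553 (allL N50553 (tt N85510 D188264) (tt N79813 (iv0 F333858)) (tt N85500 (iv2 F372856)) (tt N30950 F327614) (tt N26690 (iv4 D91127)) (tt N30946 F327615) (tt N85511 D188265) (tt N84865 (iv7 F370904)))
theorem Q50555 : ∀ i, i < 50555 → P i := stepQ 50554 Q50554 (allL N50554 (tt N53731 F338893) (tt N85512 D188266) (tt N85501 (iv2 F372861)) (tt N26692 F140163) (tt N85511 (iv4 F372895)) (tt N85513 D188267) (tt N26690 (iv6 D91128)) (tt N85514 D188268))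
theorem Q50556 : ∀ i, i < 50556 → P i := stepQ 50555 Q50555 (allL N50555 (tt N85504 (iv1 F372882)) (tt N26691 (iv0 D91129)) (tt N85497 (iv2 F372844)) (tt N85515 D188269) (tt N83460 (iv4 F356791)) (tt N84293 (iv5 F368835)) (tt N28895 F356799) (tt N85502 (iv7 F372864)))
theorem Q50557 : ∀ i, i < 50557 → P i := stepQ 50556 Q50556 (allL N50556 (tt N26691 (iv1 D91130)) (tt N85504 F372881) (tt N85502 (iv2 F372867)) (tt N49066 F339711) (tt N28662 F344228) (tt N84294 F368836) (tt N28236 F344229) (tt N85497 (iv7 F372847)))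
theorem Q50558 : ∀ i, i < 50558 → P i := stepQ 50557 Q50557 (allL N50557 (tt N85516 D188270) (tt N49573 F344210) (tt N85503 (iv2 F372868)) (tt N26693 F140164) (tt N85517 D188271) (tt N26691 (iv5 D91131)) (tt N85513 (iv6 F372905)) (tt N49753 F292657))
theorem Q50559 : ∀ i, i < 50559 → P i := stepQ 50558 Q50558 (allL N50558 (tt N85502 (iv1 F372863)) (tt N85497 (iv0 F372848)) (tt N85504 (iv2 F372876)) (tt N26694 F140165) (tt N29359 (iv4 F292498)) (tt N49753 F292283) (tt N27922 F292284) (tt N26691 (iv7 D91132)))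
theorem Q50560 : ∀ i, i < 50560 → P i := stepQ 50559 Q50559 (allL N50559 (tt N84878 (iv1 F370977)) (tt N26692 (iv0 D91133)) (tt N54290 (iv2 F367121)) (tt N83289 (iv3 F367122)) (tt N50537 F368013) (tt N85518 D188272) (tt N49566 F367120) (tt N84877 (iv7 F370968)))
theorem Q50561 : ∀ i, i < 50561 → P i := stepQ 50560 Q50560 (allL N50560 (tt N26692 (iv1 D91134)) (tt N84878 F370976) (tt N84877 F370969) (tt N85519 D188273) (tt N50538 F370917) (tt N85520 D188274) (tt N85521 D188275) (tt N54290 F367123))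
theorem Q50562 : ∀ i, i < 50562 → P i := stepQ 50561 Q50561 (allL N50561 (tt N85522 D188276) (tt N85523 D188277) (tt N49752 F292660) (tt N85513 (iv3 F372904)) (tt N85524 D188278) (tt N26692 (iv5 D91135)) (tt N26693 F140166) (tt N85525 D188279))
theorem Q50563 : ∀ i, i < 50563 → P i := stepQ 50562 Q50562 (allL N50562 (tt N84877 (iv1 F370967)) (tt N54290 (iv0 F370914)) (tt N84878 (iv2 F370972)) (tt N85514 (iv3 F372906)) (tt N50067 F140167) (tt N85525 (iv5 F372937)) (tt N84869 (iv6 F370926)) (tt N26692 (iv7 D91136)))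
theorem Q50564 : ∀ i, i < 50564 → P i := stepQ 50563 Q50563 (allL N50563 (tt N83907 (iv1 F367453)) (tt N28048 F292658) (tt N49751 F292659) (tt N85526 D188280) (tt N26693 (iv4 D91138)) (tt N50267 F140171) (tt N85524 (iv6 F372935)) (tt N49754 (iv7 F293347)))
theorem Q50565 : ∀ i, i < 50565 → P i := stepQ 50564 Q50564 (allL N50564 (tt N26695 (iv1 D91146)) (tt N54854 F158170) (tt N48985 F362648) (tt N84885 (iv3 F370998)) (tt N83705 (iv4 F288644)) (tt N84110 (iv5 F368141)) (tt N48970 F362649) (tt N85494 (iv7 F372827)))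
theorem Q50566 : ∀ i, i < 50566 → P i := stepQ 50565 Q50565 (allL N50565 (tt N85494 (iv1 F372828)) (tt N48985 F292616) (tt N26695 (iv2 D91147)) (tt N49083 F292617) (tt N49295 F140194) (tt N85527 D188281) (tt N48820 F292618) (tt N54854 (iv7 F158169)))
theorem Q50567 : ∀ i, i < 50567 → P i := stepQ 50566 Q50566 (allL N50566 (tt N85508 (iv1 F372951)) (tt N85528 D188283) (tt N85527 (iv2 F372943)) (tt N26697 F140195) (tt N85529 D188284) (tt N26695 (iv5 D91148)) (tt N85530 D188285) (tt N51452 F292619))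
theorem Q50568 : ∀ i, i < 50568 → P i := stepQ 50567 Q50567 (allL N50567 (tt N48985 F292412) (tt N85494 F372829) (tt N54854 (iv2 F158168)) (tt N26698 F140197) (tt N49296 F140198) (tt N51452 F292413) (tt N49069 F292414) (tt N26695 (iv7 D91150)))
theorem Q50569 : ∀ i, i < 50569 → P i := stepQ 50568 Q50568 (allL N50568 (tt N48729 F294567) (tt N48727 F294568) (tt N49096 F294569) (tt N50835 F362827) (tt N26697 (iv4 D91153)) (tt N49096 F294570) (tt N50814 F362824) (tt N51453 F294571))
theorem Q50570 : ∀ i, i < 50570 → P i := stepQ 50569 Q50569 (allL N50569 (tt N84793 (iv1 F370635)) (tt N84792 F370633) (tt N49094 F294572) (tt N85530 (iv3 F372953)) (tt N50814 (iv4 F362828)) (tt N48823 F294573) (tt N26697 (iv6 D91154)) (tt N50813 F362829))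
theorem Q50571 : ∀ i, i < 50571 → P i := stepQ 50570 Q50570 (allL N50570 (tt N49083 F294418) (tt N26699 (iv0 D91161)) (tt N49089 F294419) (tt N84879 F370980) (tt N48641 F140213) (tt N85531 D188286) (tt N28360 F294420) (tt N49088 F294421))
theorem Q50572 : ∀ i, i < 50572 → P i := stepQ 50571 Q50571 (allL N50571 (tt N49089 F295074) (tt N49088 F295075) (tt N26699 (iv2 D91163)) (tt N54854 F158171) (tt N54736 F295076) (tt N85532 D188287) (tt N54646 F295077) (tt N49083 F295078))
theorem Q50573 : ∀ i, i < 50573 → P i := stepQ 50572 Q50572 (allL N50572 (tt N52761 F295079) (tt N52763 F295080) (tt N85532 (iv2 F372960)) (tt N26700 F140219) (tt N85533 D188288) (tt N26699 (iv5 D91165)) (tt N85534 D188289) (tt N49090 F295081))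
theorem Q50574 : ∀ i, i < 50574 → P i := stepQ 50573 Q50573 (allL N50573 (tt N48727 F295280) (tt N48729 F295281) (tt N51453 F295282) (tt N84802 (iv3 F370673)) (tt N26700 (iv4 D91168)) (tt N51453 F295283) (tt N84778 (iv6 F370596)) (tt N49096 F295284))
theorem Q50575 : ∀ i, i < 50575 → P i := stepQ 50574 Q50574 (allL N50574 (tt N83289 F295285) (tt N85535 D188290) (tt N51454 F295286) (tt N85534 (iv3 F372970)) (tt N84778 (iv4 F370594)) (tt N54649 F295287) (tt N26700 (iv6 D91169)) (tt N84777 F370591))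
theorem Q50576 : ∀ i, i < 50576 → P i := stepQ 50575 Q50575 (allL N50575 (tt N48560 F295235) (tt N48740 F295236) (tt N26703 F140223) (tt N41792 F356651) (tt N26701 (iv4 D91174)) (tt N27042 F140224) (tt N40747 F356652) (tt N48737 F295237))
theorem Q50577 : ∀ i, i < 50577 → P i := stepQ 50576 Q50576 (allL N50576 (tt N85536 D188291) (tt N85537 D188292) (tt N26704 F140225) (tt N84893 (iv3 F371018)) (tt N40747 F356695) (tt N48899 F295238) (tt N26701 (iv6 D91175)) (tt N85538 D188293))
theorem Q50578 : ∀ i, i < 50578 → P i := stepQ 50577 Q50577 (allL N50577 (tt N85531 (iv1 F372959)) (tt N84061 F367967) (tt N38786 F336665) (tt N26702 (iv3 D91181)) (tt N57746 F336666) (tt N27193 F295198) (tt N31665 F336667) (tt N27949 F295199))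
theorem Q50579 : ∀ i, i < 50579 → P i := stepQ 50578 Q50578 (allL N50578 (tt N82641 F295200) (tt N82638 F295201) (tt N51162 (iv2 F143842)) (tt N85539 D188294) (tt N26702 (iv4 D91182)) (tt N49609 (iv5 F295203)) (tt N85540 D188295) (tt N27954 F295202))
theorem Q50580 : ∀ i, i < 50580 → P i := stepQ 50579 Q50579 (allL N50579 (tt N70270 (iv1 F332735)) (tt N70274 (iv0 F349651)) (tt N51163 (iv2 F143844)) (tt N31665 F328748) (tt N85540 (iv4 F373003)) (tt N31664 F328749) (tt N26702 (iv6 D91183)) (tt N38768 F328750))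
theorem Q50581 : ∀ i, i < 50581 → P i := stepQ 50580 Q50580 (allL N50580 (tt N85541 D188296) (tt N85542 D188297) (tt N85543 D188298) (tt N26703 (iv3 D91186)) (tt N26708 F140230) (tt N82930 F295290) (tt N85544 D188299) (tt N50164 (iv7 F140231)))
theorem Q50582 : ∀ i, i < 50582 → P i := stepQ 50581 Q50581 (allL N50581 (tt N61179 F356662) (tt N85545 D188300) (tt N40747 F356666) (tt N85544 (iv3 F373015)) (tt N26704 F140235) (tt N40736 F356667) (tt N26703 (iv6 D91188)) (tt N85546 D188301))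
theorem Q50583 : ∀ i, i < 50583 → P i := stepQ 50582 Q50582 (allL N50582 (tt N48740 (iv1 F295015)) (tt N48560 (iv0 F295016)) (tt N48737 F294670) (tt N50164 F140236) (tt N26705 F140237) (tt N51448 F294671) (tt N85547 D188302) (tt N26703 (iv7 D91189)))
theorem Q50584 : ∀ i, i < 50584 → P i := stepQ 50583 Q50583 (allL N50583 (tt N85538 (iv1 F373000)) (tt N26704 (iv0 D91190)) (tt N85536 (iv2 F372979)) (tt N85548 D188303) (tt N85549 D188304) (tt N85550 D188305) (tt N85551 D188306) (tt N85537 (iv7 F372982)))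
theorem Q50585 : ∀ i, i < 50585 → P i := stepQ 50584 Q50584 (allL N50584 (tt N26704 (iv1 D91191)) (tt N85538 F372999) (tt N85537 F372986) (tt N82448 (iv3 F365135)) (tt N85146 F371742) (tt N85552 D188307) (tt N85145 (iv6 F371743)) (tt N85536 F372978))
theorem Q50586 : ∀ i, i < 50586 → P i := stepQ 50585 Q50585 (allL N50585 (tt N85537 (iv1 F372981)) (tt N85536 (iv0 F372980)) (tt N85538 (iv2 F372996)) (tt N26712 F140238) (tt N85546 (iv4 F373024)) (tt N40692 F356696) (tt N85553 D188308) (tt N26704 (iv7 D91192)))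
theorem Q50587 : ∀ i, i < 50587 → P i := stepQ 50586 Q50586 (allL N50586 (tt N85554 D188309) (tt N85555 D188310) (tt N82935 F294672) (tt N26713 F140239) (tt N85547 (iv4 F373030)) (tt N55590 F356633) (tt N26705 (iv6 D91193)) (tt N85553 (iv7 F373050)))
theorem Q50588 : ∀ i, i < 50588 → P i := stepQ 50587 Q50587 (allL N50587 (tt N51158 (iv1 F143819)) (tt N51157 F143818) (tt N26706 (iv2 D91208)) (tt N51139 (iv3 F143780)) (tt N85556 D188311) (tt N50490 F140246) (tt N38891 F339514) (tt N51156 (iv7 F143814)))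
theorem Q50589 : ∀ i, i < 50589 → P i := stepQ 50588 Q50588 (allL N50588 (tt N82863 F363799) (tt N78435 F333850) (tt N85556 (iv2 F373052)) (tt N49455 (iv3 F295142)) (tt N26706 (iv4 D91209)) (tt N59325 (iv5 F327456)) (tt N85557 D188312) (tt N51159 (iv7 F143821)))
theorem Q50590 : ∀ i, i < 50590 → P i := stepQ 50589 Q50589 (allL N50589 (tt N85558 D188313) (tt N71433 (iv0 F347401)) (tt N38891 F347393) (tt N26707 F140248) (tt N85557 (iv4 F373058)) (tt N38876 F347394) (tt N26706 (iv6 D91210)) (tt N38874 F347395))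
theorem Q50591 : ∀ i, i < 50591 → P i := stepQ 50590 Q50590 (allL N50590 (tt N51153 (iv1 F143804)) (tt N26707 (iv0 D91211)) (tt N51150 (iv2 F352481)) (tt N70270 (iv3 F352483)) (tt N49568 F352480) (tt N70268 (iv5 F345384)) (tt N85559 D188314) (tt N51151 (iv7 F352482)))
theorem Q50592 : ∀ i, i < 50592 → P i := stepQ 50591 Q50591 (allL N50591 (tt N26707 (iv1 D91212)) (tt N51153 F143803) (tt N51151 (iv2 F352553)) (tt N85560 D188315) (tt N49569 F352554) (tt N71631 (iv5 F352555)) (tt N71632 F352558) (tt N51150 (iv7 F352556)))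
theorem Q50593 : ∀ i, i < 50593 → P i := stepQ 50592 Q50592 (allL N50592 (tt N51151 (iv1 F143796)) (tt N51150 F143802) (tt N51153 (iv2 F143799)) (tt N38874 F332694) (tt N48172 F295402) (tt N38873 F332695) (tt N28788 (iv6 F295432)) (tt N26707 (iv7 D91214)))
theorem Q50594 : ∀ i, i < 50594 → P i := stepQ 50593 Q50593 (allL N50593 (tt N50162 (iv1 F140251)) (tt N26708 (iv0 D91215)) (tt N50163 F294806) (tt N85561 D188316) (tt N85562 D188317) (tt N26864 F294991) (tt N85563 D188318) (tt N49378 F294807))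
theorem Q50595 : ∀ i, i < 50595 → P i := stepQ 50594 Q50594 (allL N50594 (tt N26708 (iv1 D91216)) (tt N50162 F140256) (tt N49378 F294817) (tt N85564 D188319) (tt N85565 D188320) (tt N26865 F294992) (tt N53329 F294818) (tt N50163 F294819))
theorem Q50596 : ∀ i, i < 50596 → P i := stepQ 50595 Q50595 (allL N50595 (tt N50163 (iv1 F140257)) (tt N49378 (iv0 F295169)) (tt N26708 (iv2 D91217)) (tt N48748 F294989) (tt N85543 (iv4 F373007)) (tt N48747 F294990) (tt N85566 D188321) (tt N50162 F140254))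
theorem Q50597 : ∀ i, i < 50597 → P i := stepQ 50596 Q50596 (allL N50596 (tt N75047 (iv1 F418372)) (tt N85567 D188323) (tt N85566 (iv2 F373081)) (tt N26709 F140258) (tt N85544 (iv4 F373016)) (tt N63305 (iv5 F361655)) (tt N26708 (iv6 D91218)) (tt N85568 D188324))
theorem Q50598 : ∀ i, i < 50598 → P i := stepQ 50597 Q50597 (allL N50597 (tt N50609 (iv1 F140268)) (tt N26709 (iv0 D91219)) (tt N50610 F378681) (tt N85569 D188326) (tt N83943 (iv4 F378246)) (tt N85570 D188328) (tt N85571 D188329) (tt N50611 F378682))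
theorem Q50599 : ∀ i, i < 50599 → P i := stepQ 50598 Q50598 (allL N50598 (tt N26709 (iv1 D91220)) (tt N50609 F140267) (tt N50611 (iv2 F378679)) (tt N85572 D188331) (tt N83944 (iv4 F378008)) (tt N84277 (iv5 F368787)) (tt N85573 D188333) (tt N50610 (iv7 F378680)))
theorem Q50600 : ∀ i, i < 50600 → P i := stepQ 50599 Q50599 (allL N50599 (tt N49648 F294958) (tt N85574 D188334) (tt N49685 F294959) (tt N63305 (iv3 F361654)) (tt N85575 D188335) (tt N26709 (iv5 D91221)) (tt N28998 F294960) (tt N85576 D188336))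
theorem Q50601 : ∀ i, i < 50601 → P i := stepQ 50600 Q50600 (allL N50600 (tt N50611 (iv1 F140270)) (tt N50610 F140269) (tt N50609 (iv2 F140264)) (tt N85568 (iv3 F373084)) (tt N26712 F140260) (tt N85576 (iv5 F373098)) (tt N50168 F140261) (tt N26709 (iv7 D91222)))
theorem Q50602 : ∀ i, i < 50602 → P i := stepQ 50601 Q50601 (allL N50601 (tt N85577 D188337) (tt N84066 (iv0 F373113)) (tt N85578 D188339) (tt N26710 (iv3 D91224)) (tt N85579 D188340) (tt N85580 D188341) (tt N85581 D188342) (tt N84907 (iv7 F371054)))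
theorem Q50603 : ∀ i, i < 50603 → P i := stepQ 50602 Q50602 (allL N50602 (tt N53161 F372993) (tt N49476 F372994) (tt N53159 (iv2 F373121)) (tt N85582 D188343) (tt N26710 (iv4 D91225)) (tt N85583 D188344) (tt N85584 D188345) (tt N53160 (iv7 F373127)))
theorem Q50604 : ∀ i, i < 50604 → P i := stepQ 50603 Q50603 (allL N50603 (tt N85585 D188346) (tt N85586 D188347) (tt N84905 (iv2 F371042)) (tt N85580 (iv3 F373107)) (tt N85587 D188348) (tt N26710 (iv5 D91226)) (tt N85588 D188349) (tt N84908 (iv7 F371058)))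
theorem Q50605 : ∀ i, i < 50605 → P i := stepQ 50604 Q50604 (allL N50604 (tt N71632 F371053) (tt N85589 D188350) (tt N84906 (iv2 F371047)) (tt N85581 (iv3 F373111)) (tt N85584 (iv4 F373133)) (tt N54469 F366997) (tt N26710 (iv6 D91227)) (tt N85590 D188351))
theorem Q50606 : ∀ i, i < 50606 → P i := stepQ 50605 Q50605 (allL N50605 (tt N85493 (iv1 F372825)) (tt N85591 D188352) (tt N85592 D188353) (tt N26711 (iv3 D91229)) (tt N70132 (iv4 F331087)) (tt N85593 D188354) (tt N85594 D188355) (tt N84904 (iv7 F371033)))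
theorem Q50607 : ∀ i, i < 50607 → P i := stepQ 50606 Q50606 (allL N50606 (tt N49476 F372988) (tt N53161 F372989) (tt N53160 (iv2 F373124)) (tt N69994 (iv3 F373120)) (tt N26711 (iv4 D91230)) (tt N69993 F373119) (tt N85595 D188356) (tt N53159 (iv7 F373123)))
theorem Q50608 : ∀ i, i < 50608 → P i := stepQ 50607 Q50607 (allL N50607 (tt N85586 (iv1 F373143)) (tt N85585 F373136) (tt N84908 (iv2 F371057)) (tt N85593 (iv3 F373162)) (tt N85596 D188357) (tt N26711 (iv5 D91231)) (tt N85597 D188358) (tt N84905 (iv7 F371044)))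
theorem Q50609 : ∀ i, i < 50609 → P i := stepQ 50608 Q50608 (allL N50608 (tt N85598 D188359) (tt N84074 (iv0 F373150)) (tt N84909 (iv2 F371061)) (tt N85594 (iv3 F373169)) (tt N85595 (iv4 F373170)) (tt N85599 D188360) (tt N26711 (iv6 D91232)) (tt N85600 D188361))
theorem Q50610 : ∀ i, i < 50610 → P i := stepQ 50609 Q50609 (allL N50609 (tt N50598 (iv1 F140267)) (tt N50597 F140268) (tt N50600 F140264) (tt N85553 (iv3 F373049)) (tt N50168 F140265) (tt N84148 F368338) (tt N26712 (iv6 D91233)) (tt N26713 F140266))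
theorem Q50611 : ∀ i, i < 50611 → P i := stepQ 50610 Q50610 (allL N50610 (tt N50600 (iv1 F140269)) (tt N26713 (iv0 D91234)) (tt N50597 (iv2 F378681)) (tt N85601 D188363) (tt N53165 (iv4 F367575)) (tt N85602 D188364) (tt N85603 D188365) (tt N50598 F378680))
theorem Q50612 : ∀ i, i < 50612 → P i := stepQ 50611 Q50611 (allL N50611 (tt N26713 (iv1 D91235)) (tt N50600 F140270) (tt N50598 F378679) (tt N85604 D188367) (tt N53166 F373102) (tt N85605 D188368) (tt N85606 D188369) (tt N50597 (iv7 F378682)))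
theorem Q50613 : ∀ i, i < 50613 → P i := stepQ 50612 Q50612 (allL N50612 (tt N54015 (iv1 F362361)) (tt N83228 (iv0 F340059)) (tt N51081 F340053) (tt N26714 (iv3 D91270)) (tt N51077 (iv4 F340052)) (tt N29320 F293198) (tt N85607 D188370) (tt N50644 (iv7 F140484)))
theorem Q50614 : ∀ i, i < 50614 → P i := stepQ 50613 Q50613 (allL N50613 (tt N48886 F140340) (tt N48884 F140498) (tt N50648 (iv2 F140496)) (tt N31475 F302684) (tt N26714 (iv4 D91271)) (tt N29291 F294724) (tt N40868 F302685) (tt N50645 (iv7 F140486)))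
theorem Q50615 : ∀ i, i < 50615 → P i := stepQ 50614 Q50614 (allL N50614 (tt N77078 (iv1 F373369)) (tt N77096 (iv0 F345156)) (tt N50649 (iv2 F140499)) (tt N85607 (iv3 F373192)) (tt N40868 F345152) (tt N77082 (iv5 F345154)) (tt N26714 (iv6 D91272)) (tt N85608 D188372))
theorem Q50616 : ∀ i, i < 50616 → P i := stepQ 50615 Q50615 (allL N50615 (tt N53468 F345045) (tt N53469 (iv0 F356409)) (tt N85609 D188373) (tt N26715 (iv3 D91273)) (tt N33233 F345046) (tt N29321 F292868) (tt N85610 D188374) (tt N50647 (iv7 F140495)))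
theorem Q50617 : ∀ i, i < 50617 → P i := stepQ 50616 Q50616 (allL N50616 (tt N48884 F140341) (tt N48886 F140342) (tt N50645 (iv2 F140485)) (tt N76206 (iv3 F345142)) (tt N26715 (iv4 D91274)) (tt N29289 F292871) (tt N85611 D188375) (tt N50648 (iv7 F140497)))
theorem Q50618 : ∀ i, i < 50618 → P i := stepQ 50617 Q50617 (allL N50617 (tt N83259 F286535) (tt N85612 D188376) (tt N50646 (iv2 F140492)) (tt N85610 (iv3 F373201)) (tt N85611 (iv4 F373206)) (tt N54110 (iv5 F155985)) (tt N26715 (iv6 D91275)) (tt N85613 D188377))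
theorem Q50619 : ∀ i, i < 50619 → P i := stepQ 50618 Q50618 (allL N50618 (tt N50637 (iv1 F140456)) (tt N26716 (iv0 D91276)) (tt N50651 F146084) (tt N85614 D188378) (tt N29315 F294498) (tt N29293 F294499) (tt N77094 F364623) (tt N50650 F146085))
theorem Q50620 : ∀ i, i < 50620 → P i := stepQ 50619 Q50619 (allL N50619 (tt N26716 (iv1 D91277)) (tt N50637 F140455) (tt N50650 (iv2 F146086)) (tt N85615 D188379) (tt N29318 F294496) (tt N29292 F294497) (tt N85616 D188380) (tt N50651 (iv7 F146087)))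
theorem Q50621 : ∀ i, i < 50621 → P i := stepQ 50620 Q50620 (allL N50620 (tt N55141 (iv1 F294323)) (tt N55143 (iv0 F294315)) (tt N50663 (iv2 F140572)) (tt N62350 F365133) (tt N50640 (iv4 F140467)) (tt N26716 (iv5 D91279)) (tt N62346 (iv6 F365134)) (tt N50653 (iv7 F140507)))
theorem Q50622 : ∀ i, i < 50622 → P i := stepQ 50621 Q50621 (allL N50621 (tt N73481 (iv1 F331064)) (tt N26717 (iv0 D91281)) (tt N73492 F331055) (tt N85617 D188381) (tt N40438 F331056) (tt N85618 D188382) (tt N85619 D188383) (tt N73491 F331057))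
theorem Q50623 : ∀ i, i < 50623 → P i := stepQ 50622 Q50622 (allL N50622 (tt N26717 (iv1 D91282)) (tt N73481 (iv0 F331063)) (tt N73491 F331058) (tt N66414 (iv3 F343835)) (tt N40449 F331059) (tt N85620 D188384) (tt N66412 (iv6 F345623)) (tt N73492 F331060))
theorem Q50624 : ∀ i, i < 50624 → P i := stepQ 50623 Q50623 (allL N50623 (tt N85621 D188385) (tt N52411 (iv0 F367119)) (tt N85622 D188386) (tt N26718 (iv3 D91286)) (tt N53652 (iv4 F154234)) (tt N85623 D188387) (tt N49871 F140350) (tt N27547 F293309))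
theorem Q50625 : ∀ i, i < 50625 → P i := stepQ 50624 Q50624 (allL N50624 (tt N29299 (iv1 F294332)) (tt N27595 (iv0 F294333)) (tt N48914 F293310) (tt N85623 (iv3 F373247)) (tt N29292 F293311) (tt N26718 (iv5 D91287)) (tt N85624 D188388) (tt N27553 F293312))
theorem Q50626 : ∀ i, i < 50626 → P i := stepQ 50625 Q50625 (allL N50625 (tt N83219 (iv1 F367117)) (tt N52699 F293316) (tt N83218 (iv2 F357436)) (tt N26719 (iv3 D91289)) (tt N48725 F293317) (tt N85625 D188389) (tt N27385 (iv6 F294034)) (tt N50661 (iv7 F140539)))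
theorem Q50627 : ∀ i, i < 50627 → P i := stepQ 50626 Q50626 (allL N50626 (tt N27595 (iv1 F294334)) (tt N29299 (iv0 F294331)) (tt N27553 F293318) (tt N85625 (iv3 F373258)) (tt N29293 F293319) (tt N26719 (iv5 D91290)) (tt N85626 D188390) (tt N48914 F293320))
theorem Q50628 : ∀ i, i < 50628 → P i := stepQ 50627 Q50627 (allL N50627 (tt N74172 F352751) (tt N52513 (iv0 F365310)) (tt N63381 (iv2 F352754)) (tt N26720 (iv3 D91291)) (tt N53794 F291422) (tt N29288 F291423) (tt N84375 (iv6 F369065)) (tt N27518 (iv7 F292224)))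
theorem Q50629 : ∀ i, i < 50629 → P i := stepQ 50628 Q50628 (allL N50628 (tt N55143 (iv1 F294316)) (tt N55141 (iv0 F294322)) (tt N50653 (iv2 F140506)) (tt N67086 (iv3 F352780)) (tt N26722 (iv4 D91302)) (tt N50637 (iv5 F140454)) (tt N81249 F352778) (tt N50663 (iv7 F140574)))
theorem Q50630 : ∀ i, i < 50630 → P i := stepQ 50629 Q50629 (allL N50629 (tt N85627 D188391) (tt N85628 D188392) (tt N55231 (iv2 F292228)) (tt N49960 F352784) (tt N81249 (iv4 F352783)) (tt N49946 (iv5 F352785)) (tt N26722 (iv6 D91303)) (tt N85629 D188393))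
theorem Q50631 : ∀ i, i < 50631 → P i := stepQ 50630 Q50630 (allL N50630 (tt N28389 (iv1 F140416)) (tt N26724 (iv0 D91341)) (tt N28226 (iv2 F140415)) (tt N28528 F140417) (tt N42952 F323337) (tt N43188 F323338) (tt N54730 (iv6 F157489)) (tt N28523 F140418))
theorem Q50632 : ∀ i, i < 50632 → P i := stepQ 50631 Q50631 (allL N50631 (tt N28226 (iv1 F140426)) (tt N28523 F140425) (tt N26724 (iv2 D91342)) (tt N48860 F140422) (tt N55056 (iv4 F158524)) (tt N34136 F335360) (tt N28441 F140423) (tt N28389 F140424))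
theorem Q50633 : ∀ i, i < 50633 → P i := stepQ 50632 Q50632 (allL N50632 (tt N82964 F285129) (tt N28533 (iv0 F140434)) (tt N34136 F329995) (tt N26725 F140427) (tt N34094 F329996) (tt N26724 (iv5 D91343)) (tt N85630 D188394) (tt N29344 F140428))
theorem Q50634 : ∀ i, i < 50634 → P i := stepQ 50633 Q50633 (allL N50633 (tt N29323 F294325) (tt N29295 F294326) (tt N48895 F140429) (tt N84800 F370666) (tt N26725 (iv4 D91344)) (tt N29305 F294327) (tt N58269 F352251) (tt N29352 F140430))
theorem Q50635 : ∀ i, i < 50635 → P i := stepQ 50634 Q50634 (allL N50634 (tt N72585 F373278) (tt N85631 D188395) (tt N48896 F140435) (tt N85630 (iv3 F373274)) (tt N58269 (iv4 F352254)) (tt N48948 F140436) (tt N26725 (iv6 D91345)) (tt N85632 D188396))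
theorem Q50636 : ∀ i, i < 50636 → P i := stepQ 50635 Q50635 (allL N50635 (tt N84853 (iv1 F370852)) (tt N84852 F370849) (tt N28545 F140446) (tt N26727 F140447) (tt N85633 D188397) (tt N26726 (iv5 D91350)) (tt N85634 D188398) (tt N48897 F140448))
theorem Q50637 : ∀ i, i < 50637 → P i := stepQ 50636 Q50636 (allL N50636 (tt N54721 (iv1 F157455)) (tt N28299 (iv0 F161651)) (tt N28546 F140449) (tt N26728 F140450) (tt N50636 F140451) (tt N83838 (iv5 F289355)) (tt N26726 (iv6 D91351)) (tt N51677 F292329))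
theorem Q50638 : ∀ i, i < 50638 → P i := stepQ 50637 Q50637 (allL N50637 (tt N50619 (iv1 F140455)) (tt N50618 F140456) (tt N26734 F140452) (tt N85635 D188399) (tt N26727 (iv4 D91352)) (tt N50628 F140454) (tt N85636 D188400) (tt N48898 F140453))
theorem Q50639 : ∀ i, i < 50639 → P i := stepQ 50638 Q50638 (allL N50638 (tt N64725 (iv1 F366879)) (tt N64700 (iv0 F366877)) (tt N26735 F140457) (tt N85634 (iv3 F373294)) (tt N85636 (iv4 F373299)) (tt N84123 (iv5 F368200)) (tt N26727 (iv6 D91353)) (tt N64723 (iv7 F359727)))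
theorem Q50640 : ∀ i, i < 50640 → P i := stepQ 50639 Q50639 (allL N50639 (tt N51747 F350172) (tt N84588 F369785) (tt N48952 F294328) (tt N26729 (iv3 D91355)) (tt N50639 F140464) (tt N85637 D188401) (tt N49893 F343025) (tt N48900 F140465))
theorem Q50641 : ∀ i, i < 50641 → P i := stepQ 50640 Q50640 (allL N50640 (tt N26977 F292229) (tt N29227 F292230) (tt N26741 F140466) (tt N85637 (iv3 F373304)) (tt N50620 F140467) (tt N26729 (iv5 D91356)) (tt N85638 D188402) (tt N29279 F292231))
theorem Q50642 : ∀ i, i < 50642 → P i := stepQ 50641 Q50641 (allL N50641 (tt N80615 (iv1 F268835)) (tt N80614 F268840) (tt N69720 F337440) (tt N26731 F140476) (tt N31767 F337441) (tt N26730 (iv5 D91358)) (tt N31408 F337442) (tt N28362 F140477))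
theorem Q50643 : ∀ i, i < 50643 → P i := stepQ 50642 Q50642 (allL N50642 (tt N49004 F140480) (tt N49003 F140481) (tt N49006 F140478) (tt N76194 (iv3 F345167)) (tt N26731 (iv4 D91359)) (tt N29280 F294314) (tt N85639 D188403) (tt N28369 F140479))
theorem Q50644 : ∀ i, i < 50644 → P i := stepQ 50643 Q50643 (allL N50643 (tt N58331 F373317) (tt N85640 D188404) (tt N49007 F140482) (tt N31408 F329620) (tt N85639 (iv4 F373315)) (tt N31407 F329621) (tt N26731 (iv6 D91360)) (tt N66347 F329622))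
theorem Q50645 : ∀ i, i < 50645 → P i := stepQ 50644 Q50644 (allL N50644 (tt N48984 F340062) (tt N48988 F340063) (tt N85641 D188405) (tt N26732 (iv3 D91361)) (tt N85642 D188406) (tt N55145 (iv5 F340060)) (tt N85643 D188407) (tt N50612 F140484))
theorem Q50646 : ∀ i, i < 50646 → P i := stepQ 50645 Q50645 (allL N50645 (tt N55357 (iv1 F159721)) (tt N55078 (iv0 F158603)) (tt N50616 F140485) (tt N59110 F345141) (tt N26732 (iv4 D91362)) (tt N55135 (iv5 F345143)) (tt N85644 D188408) (tt N50613 F140486))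
theorem Q50647 : ∀ i, i < 50647 → P i := stepQ 50646 Q50646 (allL N50646 (tt N64739 F351894) (tt N85645 D188409) (tt N50617 F140492) (tt N85643 (iv3 F373343)) (tt N85644 (iv4 F373346)) (tt N28750 F140493) (tt N26732 (iv6 D91364)) (tt N85646 D188410))
theorem Q50648 : ∀ i, i < 50648 → P i := stepQ 50647 Q50647 (allL N50647 (tt N64798 (iv1 F355602)) (tt N80611 F352767) (tt N85647 D188411) (tt N26733 (iv3 D91365)) (tt N62208 (iv4 F345164)) (tt N48581 F140494) (tt N72514 F364132) (tt N50615 F140495))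
theorem Q50649 : ∀ i, i < 50649 → P i := stepQ 50648 Q50648 (allL N50648 (tt N55078 (iv1 F158604)) (tt N55357 (iv0 F159720)) (tt N50613 F140496) (tt N43583 F345144) (tt N26733 (iv4 D91366)) (tt N43582 F345145) (tt N73754 (iv6 F345148)) (tt N50616 F140497))
theorem Q50650 : ∀ i, i < 50650 → P i := stepQ 50649 Q50649 (allL N50649 (tt N85648 D188412) (tt N85649 D188413) (tt N50614 F140499) (tt N72514 (iv3 F364133)) (tt N73754 F345151) (tt N48583 F140500) (tt N26733 (iv6 D91367)) (tt N85650 D188414))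
theorem Q50651 : ∀ i, i < 50651 → P i := stepQ 50650 Q50650 (allL N50650 (tt N48898 (iv1 F140501)) (tt N26734 (iv0 D91368)) (tt N50619 F146086) (tt N85651 D188415) (tt N48883 F140502) (tt N55137 F345147) (tt N71307 F362783) (tt N50618 (iv7 F146085)))
theorem Q50652 : ∀ i, i < 50652 → P i := stepQ 50651 Q50651 (allL N50651 (tt N26734 (iv1 D91369)) (tt N48898 F140503) (tt N50618 (iv2 F146084)) (tt N85652 D188416) (tt N48618 F140504) (tt N52130 F345146) (tt N85653 D188417) (tt N50619 F146087))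
theorem Q50653 : ∀ i, i < 50653 → P i := stepQ 50652 Q50652 (allL N50652 (tt N85654 D188418) (tt N56920 (iv0 F345140)) (tt N85655 D188419) (tt N26734 (iv3 D91370)) (tt N55327 (iv4 F159469)) (tt N85656 D188420) (tt N40704 F331075) (tt N33301 F331076))
theorem Q50654 : ∀ i, i < 50654 → P i := stepQ 50653 Q50653 (allL N50653 (tt N29309 (iv1 F293298)) (tt N29305 (iv0 F293299)) (tt N50628 F140506) (tt N85656 (iv3 F373419)) (tt N29279 F292227) (tt N26734 (iv5 D91371)) (tt N85657 D188421) (tt N50620 F140507))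
theorem Q50655 : ∀ i, i < 50655 → P i := stepQ 50654 Q50654 (allL N50654 (tt N85658 D188422) (tt N85659 D188423) (tt N85636 (iv2 F373298)) (tt N40704 F331077) (tt N26735 F140511) (tt N85660 D188424) (tt N26734 (iv6 D91372)) (tt N40693 F331078))
theorem Q50656 : ∀ i, i < 50656 → P i := stepQ 50655 Q50655 (allL N50655 (tt N64723 (iv1 F359723)) (tt N26735 (iv0 D91373)) (tt N64725 (iv2 F359720)) (tt N85661 D188425) (tt N85662 D188426) (tt N64701 F359719) (tt N85663 D188427) (tt N64700 (iv7 F359721)))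
theorem Q50657 : ∀ i, i < 50657 → P i := stepQ 50656 Q50656 (allL N50656 (tt N85664 D188428) (tt N77297 (iv0 F359722)) (tt N84123 (iv2 F368199)) (tt N54723 (iv3 F157469)) (tt N75423 F361711) (tt N26735 (iv5 D91375)) (tt N26738 F140512) (tt N85665 D188429))
theorem Q50658 : ∀ i, i < 50658 → P i := stepQ 50657 Q50657 (allL N50657 (tt N64700 (iv1 F366878)) (tt N64725 F366880) (tt N64723 F359724) (tt N55331 (iv3 F159480)) (tt N40693 F331070) (tt N85665 (iv5 F373434)) (tt N40692 F331071) (tt N26735 (iv7 D91376)))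
theorem Q50659 : ∀ i, i < 50659 → P i := stepQ 50658 Q50658 (allL N50658 (tt N85496 F372841) (tt N48989 F349295) (tt N85666 D188430) (tt N26736 (iv3 D91377)) (tt N49318 F290624) (tt N49628 F140515) (tt N29469 F290625) (tt N28737 F140516))
theorem Q50660 : ∀ i, i < 50660 → P i := stepQ 50659 Q50659 (allL N50659 (tt N80613 (iv1 F352771)) (tt N85452 (iv0 F372667)) (tt N64761 (iv2 F356440)) (tt N26737 (iv3 D91379)) (tt N29045 F140522) (tt N49631 F140523) (tt N28701 F140524) (tt N48644 F292173))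
theorem Q50661 : ∀ i, i < 50661 → P i := stepQ 50660 Q50660 (allL N50660 (tt N46238 F343030) (tt N75452 F343031) (tt N82013 F356626) (tt N85667 D188431) (tt N26738 (iv4 D91380)) (tt N46251 F323552) (tt N75423 (iv6 F361710)) (tt N55589 F292466))
theorem Q50662 : ∀ i, i < 50662 → P i := stepQ 50661 Q50661 (allL N50661 (tt N85668 D188432) (tt N48955 F295352) (tt N53925 F357427) (tt N26739 (iv3 D91385)) (tt N55071 (iv4 F158577)) (tt N53882 F357428) (tt N46224 F357429) (tt N50625 F140539))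
theorem Q50663 : ∀ i, i < 50663 → P i := stepQ 50662 Q50662 (allL N50662 (tt N41175 F299848) (tt N41174 F299849) (tt N41177 F299850) (tt N26740 (iv3 D91390)) (tt N51096 (iv4 F291245)) (tt N41096 F299851) (tt N49919 F350461) (tt N41095 F299852))
theorem Q50664 : ∀ i, i < 50664 → P i := stepQ 50663 Q50663 (allL N50663 (tt N29305 (iv1 F293300)) (tt N29309 (iv0 F293297)) (tt N50620 F140572) (tt N85669 D188433) (tt N26741 (iv4 D91398)) (tt N48898 F140573) (tt N85670 D188434) (tt N50628 F140574))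
theorem Q50665 : ∀ i, i < 50665 → P i := stepQ 50664 Q50664 (allL N50664 (tt N85671 D188435) (tt N59120 (iv0 F373459)) (tt N85638 (iv2 F373308)) (tt N51227 (iv3 F291979)) (tt N85670 (iv4 F373457)) (tt N49924 F292256) (tt N26741 (iv6 D91399)) (tt N85672 D188436))
theorem Q50666 : ∀ i, i < 50666 → P i := stepQ 50665 Q50665 (allL N50665 (tt N54730 (iv1 F157491)) (tt N28994 (iv0 F140607)) (tt N54729 F157493) (tt N26742 (iv3 D91408)) (tt N51662 (iv4 F146977)) (tt N82839 (iv5 F284556)) (tt N28391 F140606) (tt N27663 (iv7 F292501)))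
theorem Q50667 : ∀ i, i < 50667 → P i := stepQ 50666 Q50666 (allL N50666 (tt N85673 D188437) (tt N85674 D188438) (tt N85675 D188439) (tt N26743 (iv3 D91673)) (tt N45788 F140912) (tt N50678 (iv5 F141242)) (tt N48632 F296040) (tt N45818 F140913))
theorem Q50668 : ∀ i, i < 50668 → P i := stepQ 50667 Q50667 (allL N50667 (tt N45832 (iv1 F140953)) (tt N26744 (iv0 D91688)) (tt N45831 (iv2 F254425)) (tt N36868 F341816) (tt N46342 (iv4 F140954)) (tt N79736 (iv5 F257872)) (tt N82019 F362482) (tt N45830 F254431))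
theorem Q50669 : ∀ i, i < 50669 → P i := stepQ 50668 Q50668 (allL N50668 (tt N26744 (iv1 D91689)) (tt N45832 F140959) (tt N45830 F254430) (tt N85676 D188440) (tt N45980 (iv4 F140955)) (tt N79737 (iv5 F257876)) (tt N85677 D188441) (tt N45831 (iv7 F254429)))
theorem Q50670 : ∀ i, i < 50670 → P i := stepQ 50669 Q50669 (allL N50669 (tt N45831 (iv1 F140960)) (tt N45830 F140958) (tt N26744 (iv2 D91690)) (tt N85675 (iv3 F373484)) (tt N34650 F140956) (tt N69284 F347521) (tt N69287 (iv6 F341948)) (tt N45832 F140957))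
theorem Q50671 : ∀ i, i < 50671 → P i := stepQ 50670 Q50670 (allL N50670 (tt N68828 (iv1 F341797)) (tt N80221 (iv0 F262192)) (tt N69284 (iv2 F347522)) (tt N26745 F140961) (tt N85678 D188442) (tt N26744 (iv5 D91691)) (tt N69257 F347526) (tt N45833 F140962))
theorem Q50672 : ∀ i, i < 50672 → P i := stepQ 50671 Q50671 (allL N50671 (tt N85679 D188443) (tt N85680 D188444) (tt N50679 (iv2 F141244)) (tt N69257 (iv3 F347527)) (tt N50673 (iv4 F141184)) (tt N69254 F359026) (tt N26745 (iv6 D91693)) (tt N69252 (iv7 F359027)))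
theorem Q50673 : ∀ i, i < 50673 → P i := stepQ 50672 Q50672 (allL N50672 (tt N51750 F293078) (tt N51749 F293079) (tt N51752 F293080) (tt N26747 F141179) (tt N85681 D188445) (tt N26746 (iv5 D91842)) (tt N85682 D188446) (tt N27689 (iv7 F293337)))
theorem Q50674 : ∀ i, i < 50674 → P i := stepQ 50673 Q50673 (allL N50673 (tt N85683 D188447) (tt N85684 D188448) (tt N26751 F141183) (tt N85682 (iv3 F373506)) (tt N50671 F141184) (tt N51777 F293081) (tt N26747 (iv6 D91844)) (tt N85685 D188449))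
theorem Q50675 : ∀ i, i < 50675 → P i := stepQ 50674 Q50674 (allL N50674 (tt N26748 (iv1 D91849)) (tt N27870 (iv0 F294579)) (tt N27869 F294107) (tt N82886 F294108) (tt N50855 (iv4 F142797)) (tt N83582 (iv5 F335376)) (tt N51763 F294109) (tt N27808 F294110))
theorem Q50676 : ∀ i, i < 50676 → P i := stepQ 50675 Q50675 (allL N50675 (tt N27808 (iv1 F294892)) (tt N27869 (iv0 F294891)) (tt N26748 (iv2 D91850)) (tt N27877 F294111) (tt N49471 (iv4 F294589)) (tt N84688 (iv5 F370234)) (tt N84648 (iv6 F370022)) (tt N27870 (iv7 F294581)))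
theorem Q50677 : ∀ i, i < 50677 → P i := stepQ 50676 Q50676 (allL N50676 (tt N27877 F293684) (tt N26749 (iv0 D91853)) (tt N27876 F293685) (tt N82987 F293686) (tt N45166 F293687) (tt N51374 F331367) (tt N51394 F293688) (tt N27828 F293689))
theorem Q50678 : ∀ i, i < 50678 → P i := stepQ 50677 Q50677 (allL N50677 (tt N27876 F293675) (tt N27828 F293676) (tt N26749 (iv2 D91855)) (tt N27870 (iv3 F294580)) (tt N27262 F293677) (tt N83738 (iv5 F288984)) (tt N84642 (iv6 F369976)) (tt N27877 F293678))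
theorem Q50679 : ∀ i, i < 50679 → P i := stepQ 50678 Q50678 (allL N50678 (tt N60618 F359019) (tt N85686 D188450) (tt N85687 D188451) (tt N26750 (iv3 D91871)) (tt N52098 F294889) (tt N50666 F141242) (tt N56719 (iv6 F359022)) (tt N27890 F294890))
theorem Q50680 : ∀ i, i < 50680 → P i := stepQ 50679 Q50679 (allL N50679 (tt N85688 D188452) (tt N85689 D188453) (tt N50671 F141244) (tt N56719 F359024) (tt N26751 F141245) (tt N56717 (iv5 F359025)) (tt N26750 (iv6 D91872)) (tt N85690 D188454))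
theorem Q50681 : ∀ i, i < 50681 → P i := stepQ 50680 Q50680 (allL N50680 (tt N85685 (iv1 F373514)) (tt N26751 (iv0 D91873)) (tt N85683 (iv2 F373560)) (tt N85691 D188456) (tt N85692 D188457) (tt N85693 D188458) (tt N85694 D188459) (tt N85684 F373558))
theorem Q50682 : ∀ i, i < 50682 → P i := stepQ 50681 Q50681 (allL N50681 (tt N26751 (iv1 D91874)) (tt N85685 F373513) (tt N85684 (iv2 F373559)) (tt N85695 D188460) (tt N85696 D188461) (tt N85697 D188462) (tt N85698 D188463) (tt N85683 (iv7 F373561)))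
theorem Q50683 : ∀ i, i < 50683 → P i := stepQ 50682 Q50682 (allL N50682 (tt N85684 (iv1 F373507)) (tt N85683 F373512) (tt N85685 (iv2 F373509)) (tt N52039 F293106) (tt N85690 (iv4 F373543)) (tt N52039 F293107) (tt N27868 (iv6 F294093)) (tt N26751 (iv7 D91876)))
theorem Q50684 : ∀ i, i < 50684 → P i := stepQ 50683 Q50683 (allL N50683 (tt N85435 (iv1 F372631)) (tt N84752 (iv0 F370482)) (tt N50794 (iv2 F142576)) (tt N26753 (iv3 D91992)) (tt N49278 F141494) (tt N48732 F294366) (tt N51679 F367063) (tt N48882 F294367))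
theorem Q50685 : ∀ i, i < 50685 → P i := stepQ 50684 Q50684 (allL N50684 (tt N26755 (iv1 D91997)) (tt N83511 F295148) (tt N48863 F295149) (tt N84754 (iv3 F370492)) (tt N27333 (iv4 F141496)) (tt N48710 F295150) (tt N48857 F295151) (tt N82749 (iv7 F283831)))
theorem Q50686 : ∀ i, i < 50686 → P i := stepQ 50685 Q50685 (allL N50685 (tt N82749 (iv1 F283833)) (tt N48863 (iv0 F294602)) (tt N26755 (iv2 D91998)) (tt N49178 F294101) (tt N28892 F294102) (tt N82855 F294103) (tt N28891 F294104) (tt N83511 F294105))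
theorem Q50687 : ∀ i, i < 50687 → P i := stepQ 50686 Q50686 (allL N50686 (tt N82848 (iv1 F333859)) (tt N82847 F333860) (tt N82855 F295224) (tt N26756 F141497) (tt N85699 D188464) (tt N26755 (iv5 D91999)) (tt N85700 D188465) (tt N82856 (iv7 F362816)))
theorem Q50688 : ∀ i, i < 50688 → P i := stepQ 50687 Q50687 (allL N50687 (tt N51448 F295229) (tt N27042 F141506) (tt N49190 F295230) (tt N66807 F356721) (tt N26756 (iv4 D92004)) (tt N49190 F295231) (tt N85701 D188466) (tt N51455 F295232))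
theorem Q50689 : ∀ i, i < 50689 → P i := stepQ 50688 Q50688 (allL N50688 (tt N85702 D188467) (tt N85703 D188468) (tt N49189 F295233) (tt N85700 (iv3 F373573)) (tt N85701 (iv4 F373578)) (tt N48843 F295234) (tt N26756 (iv6 D92005)) (tt N85704 D188469))
theorem Q50690 : ∀ i, i < 50690 → P i := stepQ 50689 Q50689 (allL N50689 (tt N85457 F372689) (tt N85705 D188470) (tt N83572 (iv2 F287915)) (tt N26757 (iv3 D92032)) (tt N26758 F141527) (tt N85706 D188471) (tt N55504 F294096) (tt N49169 (iv7 F294574)))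
theorem Q50691 : ∀ i, i < 50691 → P i := stepQ 50690 Q50690 (allL N50690 (tt N27386 (iv1 F295306)) (tt N27387 (iv0 F295304)) (tt N27549 (iv2 F295301)) (tt N85706 (iv3 F373601)) (tt N52051 F295130) (tt N26757 (iv5 D92033)) (tt N85707 D188472) (tt N27548 (iv7 F295178)))
theorem Q50692 : ∀ i, i < 50692 → P i := stepQ 50691 Q50691 (allL N50691 (tt N53137 F294097) (tt N49472 (iv0 F294376)) (tt N53139 F294098) (tt N26759 F141533) (tt N85708 D188473) (tt N26758 (iv5 D92040)) (tt N85709 D188474) (tt N49184 F294099))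
theorem Q50693 : ∀ i, i < 50693 → P i := stepQ 50692 Q50692 (allL N50692 (tt N27042 F141535) (tt N51448 F295273) (tt N51455 F295274) (tt N66806 F356659) (tt N26759 (iv4 D92042)) (tt N51455 F295275) (tt N66802 (iv6 F356656)) (tt N49190 F295276))
theorem Q50694 : ∀ i, i < 50694 → P i := stepQ 50693 Q50693 (allL N50693 (tt N82874 F295277) (tt N85710 D188475) (tt N66803 (iv2 F356703)) (tt N85709 (iv3 F373610)) (tt N66802 F356660) (tt N82837 F295279) (tt N26759 (iv6 D92043)) (tt N79045 (iv7 F356702)))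
theorem Q50695 : ∀ i, i < 50695 → P i := stepQ 50694 Q50694 (allL N50694 (tt N45969 (iv1 F141766)) (tt N26760 (iv0 D92174)) (tt N45968 (iv2 F257972)) (tt N68015 (iv3 F363507)) (tt N78472 (iv4 F248858)) (tt N47659 F250808) (tt N85711 D188476) (tt N45967 (iv7 F257974)))
theorem Q50696 : ∀ i, i < 50696 → P i := stepQ 50695 Q50695 (allL N50695 (tt N26760 (iv1 D92175)) (tt N45969 F141770) (tt N45967 F257975) (tt N85712 D188477) (tt N64132 (iv4 F193227)) (tt N47660 F250817) (tt N85713 D188478) (tt N45968 (iv7 F257970)))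
theorem Q50697 : ∀ i, i < 50697 → P i := stepQ 50696 Q50696 (allL N50696 (tt N45968 (iv1 F141771)) (tt N45967 F141769) (tt N26760 (iv2 D92176)) (tt N78497 (iv3 F248971)) (tt N26765 F141767) (tt N81620 (iv5 F276252)) (tt N85714 D188479) (tt N45969 F141768))
theorem Q50698 : ∀ i, i < 50698 → P i := stepQ 50697 Q50697 (allL N50697 (tt N78667 (iv1 F254240)) (tt N78669 (iv0 F250821)) (tt N81620 F276253) (tt N26761 F141772) (tt N85715 D188480) (tt N26760 (iv5 D92177)) (tt N85716 D188481) (tt N45970 F141773))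
theorem Q50699 : ∀ i, i < 50699 → P i := stepQ 50698 Q50698 (allL N50698 (tt N85717 D188482) (tt N85718 D188483) (tt N85714 (iv2 F373628)) (tt N26762 F141774) (tt N26766 F141775) (tt N85719 D188484) (tt N26760 (iv6 D92178)) (tt N46167 F296203))
theorem Q50700 : ∀ i, i < 50700 → P i := stepQ 50699 Q50699 (allL N50699 (tt N85720 D188485) (tt N85721 D188486) (tt N50719 (iv2 F142020)) (tt N85716 (iv3 F373636)) (tt N50712 (iv4 F141961)) (tt N85722 D188487) (tt N26761 (iv6 D92179)) (tt N85723 D188488))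
theorem Q50701 : ∀ i, i < 50701 → P i := stepQ 50700 Q50700 (allL N50700 (tt N45467 F296204) (tt N45417 F296205) (tt N78447 (iv2 F296212)) (tt N85719 (iv3 F373650)) (tt N78488 F296206) (tt N26762 (iv5 D92182)) (tt N85722 (iv6 F373658)) (tt N78488 F296207))
theorem Q50702 : ∀ i, i < 50702 → P i := stepQ 50701 Q50701 (allL N50701 (tt N45920 (iv1 F258183)) (tt N46343 F258226) (tt N46342 (iv2 F254424)) (tt N26763 (iv3 D92190)) (tt N45831 F141802) (tt N45397 F250804) (tt N85724 D188489) (tt N45980 (iv7 F254428)))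
theorem Q50703 : ∀ i, i < 50703 → P i := stepQ 50702 Q50702 (allL N50702 (tt N82430 (iv1 F280850)) (tt N78530 (iv0 F258622)) (tt N45984 F254447) (tt N85725 D188490) (tt N26763 (iv4 D92191)) (tt N85726 D188491) (tt N85727 D188492) (tt N45981 F254439))
theorem Q50704 : ∀ i, i < 50704 → P i := stepQ 50703 Q50703 (allL N50703 (tt N46257 F336468) (tt N34743 F336469) (tt N45985 (iv2 F254459)) (tt N85724 (iv3 F373661)) (tt N85727 (iv4 F373679)) (tt N76662 F336470) (tt N26763 (iv6 D92193)) (tt N46256 F340156))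
theorem Q50705 : ∀ i, i < 50705 → P i := stepQ 50704 Q50704 (allL N50704 (tt N85728 D188493) (tt N34752 F280682) (tt N85729 D188494) (tt N26764 (iv3 D92195)) (tt N82392 (iv4 F280680)) (tt N45400 F250816) (tt N60085 (iv6 F360147)) (tt N45983 (iv7 F254445)))
theorem Q50706 : ∀ i, i < 50706 → P i := stepQ 50705 Q50705 (allL N50705 (tt N78530 (iv1 F258623)) (tt N82430 (iv0 F280849)) (tt N45981 F254440) (tt N78521 (iv3 F249043)) (tt N26764 (iv4 D92196)) (tt N85730 D188495) (tt N58499 F351022) (tt N45984 (iv7 F254446)))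
theorem Q50707 : ∀ i, i < 50707 → P i := stepQ 50706 Q50706 (allL N50706 (tt N45928 F338779) (tt N85731 D188496) (tt N45982 F254441) (tt N60085 F360146) (tt N58499 (iv4 F360145)) (tt N85732 D188497) (tt N26764 (iv6 D92198)) (tt N85733 D188498))
theorem Q50708 : ∀ i, i < 50708 → P i := stepQ 50707 Q50707 (allL N50707 (tt N38626 F338708) (tt N46165 F298623) (tt N26766 F141804) (tt N45956 F141805) (tt N85714 (iv4 F373629)) (tt N68261 F338713) (tt N26765 (iv6 D92199)) (tt N46166 F298624))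
theorem Q50709 : ∀ i, i < 50709 → P i := stepQ 50708 Q50708 (allL N50708 (tt N46166 F298620) (tt N26766 (iv0 D92200)) (tt N38626 F340138) (tt N85734 D188499) (tt N85735 D188500) (tt N38616 F340139) (tt N80527 F340140) (tt N46165 F340141))
theorem Q50710 : ∀ i, i < 50710 → P i := stepQ 50709 Q50709 (allL N50709 (tt N26766 (iv1 D92201)) (tt N46166 F298621) (tt N46165 F340142) (tt N83673 (iv3 F340145)) (tt N85736 D188501) (tt N38627 F340143) (tt N85737 D188502) (tt N38626 F340144))
theorem Q50711 : ∀ i, i < 50711 → P i := stepQ 50710 Q50710 (allL N50710 (tt N26768 (iv1 D92311)) (tt N31193 F323957) (tt N31183 F323958) (tt N52250 F255023) (tt N31126 (iv4 F325234)) (tt N31973 F323959) (tt N85738 D188503) (tt N31213 (iv7 F323969)))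
theorem Q50712 : ∀ i, i < 50712 → P i := stepQ 50711 Q50711 (allL N50711 (tt N51251 F293600) (tt N51250 F293601) (tt N51253 F293602) (tt N26770 F141956) (tt N85707 (iv4 F373604)) (tt N26769 (iv5 D92316)) (tt N52051 (iv6 F363531)) (tt N27208 (iv7 F293655)))
theorem Q50713 : ∀ i, i < 50713 → P i := stepQ 50712 Q50712 (allL N50712 (tt N85739 D188504) (tt N85740 D188505) (tt N26775 F141960) (tt N52051 F363538) (tt N50699 F141961) (tt N51268 F293603) (tt N26770 (iv6 D92318)) (tt N85741 D188506))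
theorem Q50714 : ∀ i, i < 50714 → P i := stepQ 50713 Q50713 (allL N50713 (tt N26771 (iv1 D92323)) (tt N27241 (iv0 F294678)) (tt N27240 F294238) (tt N52981 F294239) (tt N82794 (iv4 F284116)) (tt N54869 (iv5 F331375)) (tt N51258 F294240) (tt N27212 F294241))
theorem Q50715 : ∀ i, i < 50715 → P i := stepQ 50714 Q50714 (allL N50714 (tt N27212 (iv1 F294682)) (tt N27240 (iv0 F294681)) (tt N26771 (iv2 D92324)) (tt N27246 F294242) (tt N49491 (iv4 F294940)) (tt N84452 (iv5 F369341)) (tt N85742 D188507) (tt N27241 (iv7 F294680)))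
theorem Q50716 : ∀ i, i < 50716 → P i := stepQ 50715 Q50715 (allL N50715 (tt N85743 D188508) (tt N85744 D188509) (tt N85742 (iv2 F373760)) (tt N26772 F141979) (tt N49501 (iv4 F293164)) (tt N49234 F292140) (tt N26771 (iv6 D92325)) (tt N82745 F292141))
theorem Q50717 : ∀ i, i < 50717 → P i := stepQ 50716 Q50716 (allL N50716 (tt N27246 F294531) (tt N26773 (iv0 D92328)) (tt N27245 F294532) (tt N53146 F294533) (tt N51394 F294534) (tt N54880 (iv5 F293779)) (tt N45166 F294535) (tt N27223 F294536))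
theorem Q50718 : ∀ i, i < 50718 → P i := stepQ 50717 Q50717 (allL N50717 (tt N27245 F294538) (tt N27223 F294539) (tt N26773 (iv2 D92330)) (tt N27241 (iv3 F294679)) (tt N27894 (iv4 F295128)) (tt N84458 (iv5 F369388)) (tt N85216 (iv6 F371930)) (tt N27246 F294540))
theorem Q50719 : ∀ i, i < 50719 → P i := stepQ 50718 Q50718 (allL N50718 (tt N85745 D188510) (tt N85746 D188511) (tt N85747 D188512) (tt N26774 (iv3 D92345)) (tt N51389 F292613) (tt N44689 F142018) (tt N85748 D188513) (tt N27259 (iv7 F293460)))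
theorem Q50720 : ∀ i, i < 50720 → P i := stepQ 50719 Q50719 (allL N50719 (tt N85749 D188514) (tt N85750 D188515) (tt N50699 F142020) (tt N85748 (iv3 F373780)) (tt N26775 F142021) (tt N85751 D188516) (tt N26774 (iv6 D92346)) (tt N85752 D188517))
theorem Q50721 : ∀ i, i < 50721 → P i := stepQ 50720 Q50720 (allL N50720 (tt N85741 (iv1 F373759)) (tt N26775 (iv0 D92347)) (tt N85739 (iv2 F373805)) (tt N68440 (iv3 F377164)) (tt N85753 D188520) (tt N85754 D188521) (tt N85755 D188522) (tt N85740 (iv7 F373810)))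
theorem Q50722 : ∀ i, i < 50722 → P i := stepQ 50721 Q50721 (allL N50721 (tt N26775 (iv1 D92348)) (tt N85741 F373758) (tt N85740 (iv2 F373809)) (tt N85756 D188524) (tt N85757 D188525) (tt N85758 D188526) (tt N85759 D188527) (tt N85739 (iv7 F373806)))
theorem Q50723 : ∀ i, i < 50723 → P i := stepQ 50722 Q50722 (allL N50722 (tt N85740 (iv1 F373752)) (tt N85739 F373757) (tt N85741 (iv2 F373753)) (tt N51322 F294562) (tt N85752 (iv4 F373795)) (tt N51322 F294563) (tt N27239 F294564) (tt N26775 (iv7 D92350)))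
theorem Q50724 : ∀ i, i < 50724 → P i := stepQ 50723 Q50723 (allL N50723 (tt N51264 (iv1 F144615)) (tt N50341 F142143) (tt N49485 F142142) (tt N85760 D188528) (tt N26782 (iv4 D92418)) (tt N51399 (iv5 F144830)) (tt N84929 (iv6 F371112)) (tt N51366 (iv7 F144777)))
theorem Q50725 : ∀ i, i < 50725 → P i := stepQ 50724 Q50724 (allL N50724 (tt N51243 F178353) (tt N51247 F178354) (tt N50011 F142151) (tt N26785 F142152) (tt N50011 F142153) (tt N85761 D188529) (tt N26784 (iv6 D92422)) (tt N85762 D188530))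
theorem Q50726 : ∀ i, i < 50726 → P i := stepQ 50725 Q50725 (allL N50725 (tt N26785 (iv1 D92424)) (tt N27164 F178328) (tt N27097 F178329) (tt N27178 F178330) (tt N27524 F178331) (tt N85763 D188531) (tt N85764 D188532) (tt N27165 F178332))
theorem Q50727 : ∀ i, i < 50727 → P i := stepQ 50726 Q50726 (allL N50726 (tt N51424 F161694) (tt N85286 (iv0 F372178)) (tt N50010 F142155) (tt N85761 (iv3 F373814)) (tt N68616 (iv4 F211227)) (tt N26785 (iv5 D92425)) (tt N29960 F142156) (tt N85298 (iv7 F372201)))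
theorem Q50728 : ∀ i, i < 50728 → P i := stepQ 50727 Q50727 (allL N50727 (tt N27097 F205502) (tt N27165 F205503) (tt N27164 F178333) (tt N85762 (iv3 F373819)) (tt N27893 F205504) (tt N85298 (iv5 F372202)) (tt N49843 (iv6 F292076)) (tt N26785 (iv7 D92426)))
theorem Q50729 : ∀ i, i < 50729 → P i := stepQ 50728 Q50728 (allL N50728 (tt N26790 F142163) (tt N26786 (iv0 D92427)) (tt N26787 F178268) (tt N85765 D188533) (tt N27761 F142162) (tt N85766 D188534) (tt N84922 (iv6 F371100)) (tt N26788 F178269))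
theorem Q50730 : ∀ i, i < 50730 → P i := stepQ 50729 Q50729 (allL N50729 (tt N26786 (iv1 D92428)) (tt N26790 F142164) (tt N26788 F178243) (tt N32611 (iv3 F142165)) (tt N27762 F142166) (tt N61174 F178165) (tt N51575 F251138) (tt N26787 F178244))
theorem Q50731 : ∀ i, i < 50731 → P i := stepQ 50730 Q50730 (allL N50730 (tt N26788 (iv1 F142172)) (tt N26787 (iv0 F142173)) (tt N26790 F142167) (tt N50024 F142168) (tt N49941 F142169) (tt N46055 F142170) (tt N32612 F142171) (tt N26786 (iv7 D92429)))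
theorem Q50732 : ∀ i, i < 50732 → P i := stepQ 50731 Q50731 (allL N50731 (tt N27764 F142176) (tt N27759 (iv0 F147483)) (tt N27761 F178270) (tt N85767 D188535) (tt N26787 (iv4 D92431)) (tt N85768 D188536) (tt N84644 (iv6 F369994)) (tt N27762 F178271))
theorem Q50733 : ∀ i, i < 50733 → P i := stepQ 50732 Q50732 (allL N50732 (tt N85769 D188537) (tt N83639 (iv0 F288137)) (tt N85766 (iv2 F373844)) (tt N50012 F142177) (tt N85770 D188538) (tt N26787 (iv5 D92432)) (tt N85771 D188539) (tt N61174 (iv7 F178257)))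
theorem Q50734 : ∀ i, i < 50734 → P i := stepQ 50733 Q50733 (allL N50733 (tt N85764 F373837) (tt N49835 (iv0 F353184)) (tt N84922 (iv2 F371096)) (tt N50013 F142178) (tt N84644 F369993) (tt N66634 (iv5 F204785)) (tt N26787 (iv6 D92433)) (tt N84918 (iv7 F371088)))
theorem Q50735 : ∀ i, i < 50735 → P i := stepQ 50734 Q50734 (allL N50734 (tt N51237 F364730) (tt N84729 (iv0 F370386)) (tt N50014 F142181) (tt N26788 (iv3 D92435)) (tt N50014 F142183) (tt N85772 D188540) (tt N85773 D188541) (tt N85765 (iv7 F373840)))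
theorem Q50736 : ∀ i, i < 50736 → P i := stepQ 50735 Q50735 (allL N50735 (tt N27759 (iv1 F142185)) (tt N27764 (iv0 F142184)) (tt N27762 F178247) (tt N45151 F142182) (tt N26788 (iv4 D92436)) (tt N85774 D188542) (tt N52114 F360291) (tt N27761 F178248))
theorem Q50737 : ∀ i, i < 50737 → P i := stepQ 50736 Q50736 (allL N50736 (tt N83639 F367228) (tt N85769 F373859) (tt N61174 F178284) (tt N85772 (iv3 F373871)) (tt N85775 D188543) (tt N26788 (iv5 D92437)) (tt N61172 (iv6 F178285)) (tt N85766 (iv7 F373846)))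
theorem Q50738 : ∀ i, i < 50738 → P i := stepQ 50737 Q50737 (allL N50737 (tt N50468 F360296) (tt N51572 (iv0 F367230)) (tt N51575 (iv2 F251142)) (tt N85773 (iv3 F373878)) (tt N52114 (iv4 F360293)) (tt N84847 (iv5 F370831)) (tt N26788 (iv6 D92438)) (tt N51576 (iv7 F251144)))
theorem Q50739 : ∀ i, i < 50739 → P i := stepQ 50738 Q50738 (allL N50738 (tt N46055 (iv1 F142194)) (tt N26789 (iv0 D92439)) (tt N46069 F161698) (tt N29557 F142186) (tt N51790 (iv4 F147237)) (tt N83641 (iv5 F288167)) (tt N85776 D188544) (tt N32607 (iv7 F161697)))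
theorem Q50740 : ∀ i, i < 50740 → P i := stepQ 50739 Q50739 (allL N50739 (tt N26789 (iv1 D92440)) (tt N46055 F142187) (tt N32607 (iv2 F161699)) (tt N85777 D188545) (tt N51791 (iv4 F147238)) (tt N83613 (iv5 F288036)) (tt N85778 D188546) (tt N46069 F161700))
theorem Q50741 : ∀ i, i < 50741 → P i := stepQ 50740 Q50740 (allL N50740 (tt N85779 D188547) (tt N78986 (iv0 F251659)) (tt N27473 F142188) (tt N52494 (iv3 F149811)) (tt N26789 (iv4 D92441)) (tt N85780 D188548) (tt N27469 F142189) (tt N85781 D188549))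
theorem Q50742 : ∀ i, i < 50742 → P i := stepQ 50741 Q50741 (allL N50741 (tt N32607 (iv1 F142197)) (tt N46069 F142198) (tt N46055 F142190) (tt N26804 F142191) (tt N85781 (iv4 F373906)) (tt N26790 F142192) (tt N32647 F142193) (tt N26789 (iv7 D92442)))
theorem Q50743 : ∀ i, i < 50743 → P i := stepQ 50742 Q50742 (allL N50742 (tt N61124 (iv1 F178043)) (tt N44972 F142202) (tt N50017 F142199) (tt N45263 F142200) (tt N85103 (iv4 F371634)) (tt N26791 (iv5 D92443)) (tt N26872 F142201) (tt N61662 (iv7 F179196)))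
theorem Q50744 : ∀ i, i < 50744 → P i := stepQ 50743 Q50743 (allL N50743 (tt N50016 (iv1 F142207)) (tt N38200 F142208) (tt N50018 F142203) (tt N45264 F142204) (tt N28477 F142205) (tt N61662 (iv5 F179194)) (tt N28477 F142206) (tt N26791 (iv7 D92444)))
theorem Q50745 : ∀ i, i < 50745 → P i := stepQ 50744 Q50744 (allL N50744 (tt N41442 (iv1 F142212)) (tt N36668 (iv0 F142211)) (tt N32603 F142209) (tt N26793 F142210) (tt N74436 (iv4 F227898)) (tt N61164 (iv5 F178135)) (tt N26792 (iv6 D92445)) (tt N61661 (iv7 F179193)))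
theorem Q50746 : ∀ i, i < 50746 → P i := stepQ 50745 Q50745 (allL N50745 (tt N32625 (iv1 F142217)) (tt N26795 (iv0 D92446)) (tt N32591 (iv2 F142216)) (tt N29751 F142215) (tt N45032 F142214) (tt N29560 F142213) (tt N85782 D188550) (tt N32637 F142218))
theorem Q50747 : ∀ i, i < 50747 → P i := stepQ 50746 Q50746 (allL N50746 (tt N32743 F142223) (tt N32738 F142224) (tt N50072 F142219) (tt N52493 (iv3 F149805)) (tt N26795 (iv4 D92447)) (tt N35056 F142222) (tt N26803 F142220) (tt N32638 F142221))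
theorem Q50748 : ∀ i, i < 50748 → P i := stepQ 50747 Q50747 (allL N50747 (tt N49805 (iv1 F142225)) (tt N26796 (iv0 D92448)) (tt N49804 F349333) (tt N84729 (iv3 F370387)) (tt N85783 D188551) (tt N34352 F337216) (tt N50019 F349340) (tt N44008 F337217))
theorem Q50749 : ∀ i, i < 50749 → P i := stepQ 50748 Q50748 (allL N50748 (tt N49804 (iv1 F142232)) (tt N44008 F317602) (tt N26796 (iv2 D92450)) (tt N26816 F142228) (tt N46755 F335665) (tt N42288 F317603) (tt N85784 D188552) (tt N49805 F142230))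
theorem Q50750 : ∀ i, i < 50750 → P i := stepQ 50749 Q50749 (allL N50749 (tt N33799 F318928) (tt N42286 F318929) (tt N42288 F318930) (tt N26797 F142233) (tt N43921 F318931) (tt N26796 (iv5 D92451)) (tt N72282 F339594) (tt N42210 F318932))
theorem Q50751 : ∀ i, i < 50751 → P i := stepQ 50750 Q50750 (allL N50750 (tt N85785 D188553) (tt N85786 D188554) (tt N85784 (iv2 F373924)) (tt N26798 F142235) (tt N49424 F142236) (tt N50915 (iv5 F143020)) (tt N26796 (iv6 D92452)) (tt N53836 (iv7 F367258)))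
theorem Q50752 : ∀ i, i < 50752 → P i := stepQ 50751 Q50751 (allL N50751 (tt N26799 (iv1 D92456)) (tt N26816 F142252) (tt N26818 (iv2 F142248)) (tt N32612 (iv3 F142249)) (tt N83897 (iv4 F367438)) (tt N32602 (iv5 F142250)) (tt N50024 (iv6 F142251)) (tt N26815 F142247))
theorem Q50753 : ∀ i, i < 50753 → P i := stepQ 50752 Q50752 (allL N50752 (tt N26815 (iv1 F142256)) (tt N26818 F142255) (tt N26799 (iv2 D92457)) (tt N49805 F142253) (tt N82621 (iv4 F283258)) (tt N76569 (iv5 F239332)) (tt N53832 F340069) (tt N26816 F142254))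
theorem Q50754 : ∀ i, i < 50754 → P i := stepQ 50753 Q50753 (allL N50753 (tt N54885 (iv1 F293278)) (tt N67917 (iv0 F321772)) (tt N49807 F142258) (tt N85787 D188555) (tt N26800 (iv4 D92459)) (tt N50285 F142259) (tt N74752 (iv6 F321000)) (tt N50075 F142260))
theorem Q50755 : ∀ i, i < 50755 → P i := stepQ 50754 Q50754 (allL N50754 (tt N34352 F333294) (tt N42448 F333295) (tt N44006 F333296) (tt N26801 (iv3 D92460)) (tt N67054 F333297) (tt N53428 (iv5 F153655)) (tt N85788 D188556) (tt N44007 (iv7 F333300)))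
theorem Q50756 : ∀ i, i < 50756 → P i := stepQ 50755 Q50755 (allL N50755 (tt N47508 (iv1 F317576)) (tt N27229 F142265) (tt N47509 (iv2 F317579)) (tt N37152 F315839) (tt N26801 (iv4 D92461)) (tt N37141 (iv5 F317580)) (tt N47518 F315365) (tt N37140 (iv7 F318049)))
theorem Q50757 : ∀ i, i < 50757 → P i := stepQ 50756 Q50756 (allL N50756 (tt N74428 F342091) (tt N75233 (iv0 F342090)) (tt N50077 F142266) (tt N85788 (iv3 F373939)) (tt N47518 F342080) (tt N85789 D188557) (tt N26801 (iv6 D92462)) (tt N47514 F342081))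
theorem Q50758 : ∀ i, i < 50758 → P i := stepQ 50757 Q50757 (allL N50757 (tt N58512 F348893) (tt N37947 F348930) (tt N52502 (iv2 F149846)) (tt N26803 (iv3 D92466)) (tt N52494 (iv4 F149812)) (tt N36954 F324315) (tt N52493 F149809) (tt N60001 (iv7 F348910)))
theorem Q50759 : ∀ i, i < 50759 → P i := stepQ 50758 Q50758 (allL N50758 (tt N85790 D188558) (tt N46020 F352376) (tt N50080 F142277) (tt N32647 F142278) (tt N77463 F352364) (tt N32636 F142279) (tt N26804 (iv6 D92467)) (tt N32635 F142280))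
theorem Q50760 : ∀ i, i < 50760 → P i := stepQ 50759 Q50759 (allL N50759 (tt N26830 (iv1 F142281)) (tt N26805 (iv0 D92468)) (tt N50041 (iv2 F333353)) (tt N85791 D188559) (tt N84707 F370295) (tt N85792 D188560) (tt N50041 (iv6 F333356)) (tt N27078 F290321))
theorem Q50761 : ∀ i, i < 50761 → P i := stepQ 50760 Q50760 (allL N50760 (tt N75609 F317795) (tt N85793 D188561) (tt N50042 F142283) (tt N26806 F142284) (tt N42297 F317796) (tt N26805 (iv5 D92470)) (tt N85794 D188562) (tt N50081 F142285))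
theorem Q50762 : ∀ i, i < 50762 → P i := stepQ 50761 Q50761 (allL N50761 (tt N51475 (iv1 F364365)) (tt N85795 D188563) (tt N50043 F142286) (tt N26807 F142287) (tt N50761 F142288) (tt N50960 (iv5 F143157)) (tt N26805 (iv6 D92471)) (tt N53829 (iv7 F364357)))
theorem Q50763 : ∀ i, i < 50763 → P i := stepQ 50762 Q50762 (allL N50762 (tt N51092 (iv1 F143480)) (tt N82747 F283816) (tt N48622 F142289) (tt N75617 F352108) (tt N26806 (iv4 D92472)) (tt N50896 F142946) (tt N85796 D188564) (tt N50083 F142290))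
theorem Q50764 : ∀ i, i < 50764 → P i := stepQ 50763 Q50763 (allL N50763 (tt N47002 F326555) (tt N47480 F326556) (tt N47477 F326541) (tt N85794 (iv3 F373971)) (tt N85796 (iv4 F373984)) (tt N50961 (iv5 F143160)) (tt N26806 (iv6 D92473)) (tt N47476 F326542))
theorem Q50765 : ∀ i, i < 50765 → P i := stepQ 50764 Q50764 (allL N50764 (tt N26807 (iv1 D92474)) (tt N27144 F142292) (tt N27146 (iv2 F142297)) (tt N84404 (iv3 F369178)) (tt N26809 F291678) (tt N29378 F142296) (tt N26964 (iv6 F142295)) (tt N27090 F142293))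
theorem Q50766 : ∀ i, i < 50766 → P i := stepQ 50765 Q50765 (allL N50765 (tt N85795 (iv1 F373976)) (tt N51475 (iv0 F335793)) (tt N53829 (iv2 F364356)) (tt N26808 (iv3 D92475)) (tt N50765 F142298) (tt N50948 (iv5 F143127)) (tt N53201 F364368) (tt N50043 F142299))
theorem Q50767 : ∀ i, i < 50767 → P i := stepQ 50766 Q50766 (allL N50766 (tt N83726 (iv1 F345007)) (tt N51443 (iv0 F144908)) (tt N50008 F142361) (tt N43102 F142362) (tt N85797 D188565) (tt N26814 (iv5 D92487)) (tt N34089 F142363) (tt N83747 F345005))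
theorem Q50768 : ∀ i, i < 50768 → P i := stepQ 50767 Q50767 (allL N50767 (tt N76661 (iv1 F239679)) (tt N76640 (iv0 F239683)) (tt N50073 F142368) (tt N42288 F363381) (tt N85798 D188566) (tt N26816 (iv5 D92489)) (tt N76667 (iv6 F239690)) (tt N76569 F239334))
theorem Q50769 : ∀ i, i < 50769 → P i := stepQ 50768 Q50768 (allL N50768 (tt N51585 (iv1 F145623)) (tt N51094 F144900) (tt N50074 F142369) (tt N85784 (iv3 F373925)) (tt N82662 (iv4 F283607)) (tt N41895 F142370) (tt N26816 (iv6 D92490)) (tt N51590 (iv7 F145631)))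
theorem Q50770 : ∀ i, i < 50770 → P i := stepQ 50769 Q50769 (allL N50769 (tt N32602 (iv1 F142383)) (tt N26817 (iv0 D92491)) (tt N32600 (iv2 F142455)) (tt N44006 F349316) (tt N85799 D188567) (tt N50453 (iv5 F143228)) (tt N85800 D188568) (tt N32601 F142459))
theorem Q50771 : ∀ i, i < 50771 → P i := stepQ 50770 Q50770 (allL N50770 (tt N78979 F251641) (tt N85801 D188569) (tt N32599 F142377) (tt N85802 D188570) (tt N26817 (iv4 D92492)) (tt N85803 D188571) (tt N32590 F142378) (tt N85804 D188572))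
theorem Q50772 : ∀ i, i < 50772 → P i := stepQ 50771 Q50771 (allL N50771 (tt N32601 (iv1 F142384)) (tt N32600 F142385) (tt N32602 F142379) (tt N26829 F142380) (tt N85804 (iv4 F374021)) (tt N26818 F142381) (tt N46014 F142382) (tt N26817 (iv7 D92493)))
theorem Q50773 : ∀ i, i < 50773 → P i := stepQ 50772 Q50772 (allL N50772 (tt N51084 F143465) (tt N85805 D188573) (tt N50069 F142386) (tt N26821 F142387) (tt N85806 D188574) (tt N26820 (iv5 D92494)) (tt N85807 D188575) (tt N50026 F142388))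
theorem Q50774 : ∀ i, i < 50774 → P i := stepQ 50773 Q50773 (allL N50773 (tt N27180 F142392) (tt N70017 F339553) (tt N50070 F142389) (tt N26822 F142390) (tt N49619 F142391) (tt N50893 (iv5 F142932)) (tt N26820 (iv6 D92495)) (tt N51596 (iv7 F145641)))
theorem Q50775 : ∀ i, i < 50775 → P i := stepQ 50774 Q50774 (allL N50774 (tt N49676 (iv1 F347699)) (tt N54618 (iv0 F352989)) (tt N50022 F142393) (tt N85808 D188576) (tt N26821 (iv4 D92496)) (tt N54810 (iv5 F347706)) (tt N85809 D188577) (tt N50028 F142394))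
theorem Q50776 : ∀ i, i < 50776 → P i := stepQ 50775 Q50775 (allL N50775 (tt N85810 D188578) (tt N85811 D188579) (tt N50023 F142396) (tt N85807 (iv3 F374040)) (tt N85809 (iv4 F374049)) (tt N50894 (iv5 F142936)) (tt N26821 (iv6 D92497)) (tt N61153 (iv7 F178121)))
theorem Q50777 : ∀ i, i < 50777 → P i := stepQ 50776 Q50776 (allL N50776 (tt N26823 (iv1 D92499)) (tt N50020 F142402) (tt N50019 (iv2 F349337)) (tt N49804 (iv3 F289377)) (tt N85812 D188580) (tt N85813 D188581) (tt N49804 F349335) (tt N49479 (iv7 F349334)))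
theorem Q50778 : ∀ i, i < 50778 → P i := stepQ 50777 Q50777 (allL N50777 (tt N49479 (iv1 F337230)) (tt N50019 F142401) (tt N26823 (iv2 D92500)) (tt N50025 F142398) (tt N49488 F142399) (tt N85814 D188582) (tt N53839 (iv6 F362394)) (tt N50020 F142400))
theorem Q50779 : ∀ i, i < 50779 → P i := stepQ 50778 Q50778 (allL N50778 (tt N85815 D188583) (tt N85816 D188584) (tt N85814 (iv2 F374074)) (tt N26824 F142404) (tt N85817 D188585) (tt N26823 (iv5 D92501)) (tt N61149 (iv6 F178118)) (tt N50021 F142405))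
theorem Q50780 : ∀ i, i < 50780 → P i := stepQ 50779 Q50779 (allL N50779 (tt N85818 D188586) (tt N85819 D188587) (tt N53839 F362402) (tt N26825 F142406) (tt N49838 F142407) (tt N51065 (iv5 F143381)) (tt N26823 (iv6 D92502)) (tt N50444 F290653))
theorem Q50781 : ∀ i, i < 50781 → P i := stepQ 50780 Q50780 (allL N50780 (tt N54618 F347713) (tt N49676 (iv0 F347698)) (tt N50028 F142408) (tt N85820 D188588) (tt N26824 (iv4 D92503)) (tt N54813 (iv5 F347707)) (tt N61150 (iv6 F178119)) (tt N50022 F142409))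
theorem Q50782 : ∀ i, i < 50782 → P i := stepQ 50781 Q50781 (allL N50781 (tt N51301 (iv1 F144690)) (tt N27220 F142427) (tt N50032 F142425) (tt N62758 F346097) (tt N26826 (iv4 D92507)) (tt N53502 F290627) (tt N62757 (iv6 F346100)) (tt N50035 F142426))
theorem Q50783 : ∀ i, i < 50783 → P i := stepQ 50782 Q50782 (allL N50782 (tt N42966 F354957) (tt N85813 (iv0 F374071)) (tt N85821 D188589) (tt N26827 (iv3 D92509)) (tt N45109 F142432) (tt N50187 F142430) (tt N85822 D188590) (tt N50031 F142431))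
theorem Q50784 : ∀ i, i < 50784 → P i := stepQ 50783 Q50783 (allL N50783 (tt N27220 F142435) (tt N51301 F144689) (tt N50035 F142433) (tt N35146 F346099) (tt N26827 (iv4 D92510)) (tt N53175 (iv5 F358617)) (tt N84252 (iv6 F368692)) (tt N50032 F142434))
theorem Q50785 : ∀ i, i < 50785 → P i := stepQ 50784 Q50784 (allL N50784 (tt N69524 F355686) (tt N61559 F355355) (tt N50036 F142437) (tt N85822 (iv3 F374119)) (tt N84252 F368694) (tt N50189 F142438) (tt N26827 (iv6 D92511)) (tt N85823 D188591))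
theorem Q50786 : ∀ i, i < 50786 → P i := stepQ 50785 Q50785 (allL N50785 (tt N85824 D188592) (tt N85825 D188593) (tt N85826 D188594) (tt N26828 (iv3 D92514)) (tt N85802 (iv4 F374016)) (tt N54814 F367266) (tt N76948 (iv6 F240914)) (tt N85827 D188595))
theorem Q50787 : ∀ i, i < 50787 → P i := stepQ 50786 Q50786 (allL N50786 (tt N50038 (iv1 F142453)) (tt N50037 F142454) (tt N50040 F142450) (tt N85827 (iv3 F374137)) (tt N26829 F142451) (tt N50049 F142452) (tt N85828 D188596) (tt N26828 (iv7 D92516)))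
theorem Q50788 : ∀ i, i < 50788 → P i := stepQ 50787 Q50787 (allL N50787 (tt N32634 (iv1 F142464)) (tt N32633 F142465) (tt N32636 F142460) (tt N46014 F142461) (tt N85828 (iv4 F374141)) (tt N50080 F142462) (tt N26829 (iv6 D92517)) (tt N32624 F142463))
theorem Q50789 : ∀ i, i < 50789 → P i := stepQ 50788 Q50788 (allL N50788 (tt N85793 (iv1 F373966)) (tt N75609 (iv0 F346195)) (tt N50081 F142466) (tt N26831 F142467) (tt N40466 F321793) (tt N26830 (iv5 D92518)) (tt N40465 F321794) (tt N50042 F142468))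
theorem Q50790 : ∀ i, i < 50790 → P i := stepQ 50789 Q50789 (allL N50789 (tt N84378 (iv1 F369077)) (tt N84390 (iv0 F369119)) (tt N49882 F142472) (tt N73900 (iv3 F361674)) (tt N26831 (iv4 D92520)) (tt N54596 (iv5 F347712)) (tt N61145 (iv6 F361671)) (tt N50044 F142473))
theorem Q50791 : ∀ i, i < 50791 → P i := stepQ 50790 Q50790 (allL N50790 (tt N85829 D188597) (tt N55798 (iv0 F161810)) (tt N49883 F142474) (tt N40465 F316824) (tt N61145 (iv4 F361673)) (tt N50989 (iv5 F143219)) (tt N26831 (iv6 D92521)) (tt N85830 D188598))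
theorem Q50792 : ∀ i, i < 50792 → P i := stepQ 50791 Q50791 (allL N50791 (tt N50055 (iv1 F142558)) (tt N26833 (iv0 D92551)) (tt N50054 (iv2 F367131)) (tt N84749 (iv3 F370467)) (tt N85831 D188599) (tt N83763 (iv5 F367129)) (tt N53487 F367130) (tt N50053 (iv7 F367134)))
theorem Q50793 : ∀ i, i < 50793 → P i := stepQ 50792 Q50792 (allL N50792 (tt N26833 (iv1 D92552)) (tt N50055 F142563) (tt N50053 F367135) (tt N83119 F370485) (tt N54875 (iv4 F158220)) (tt N83764 (iv5 F367139)) (tt N84975 F371235) (tt N50054 F367133))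
theorem Q50794 : ∀ i, i < 50794 → P i := stepQ 50793 Q50793 (allL N50793 (tt N50054 (iv1 F142564)) (tt N50053 F142562) (tt N26833 (iv2 D92553)) (tt N50057 F142559) (tt N49297 F142560) (tt N53162 F367087) (tt N53215 F367088) (tt N50055 F142561))
theorem Q50795 : ∀ i, i < 50795 → P i := stepQ 50794 Q50794 (allL N50794 (tt N83119 (iv1 F367240)) (tt N83118 (iv0 F367035)) (tt N50683 F142576) (tt N26834 (iv3 D92558)) (tt N82593 F283173) (tt N53103 (iv5 F367098)) (tt N85832 D188600) (tt N50507 F142577))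
theorem Q50796 : ∀ i, i < 50796 → P i := stepQ 50795 Q50795 (allL N50795 (tt N50325 (iv1 F293718)) (tt N50324 (iv0 F293716)) (tt N49275 F293381) (tt N54887 (iv3 F158246)) (tt N26834 (iv4 D92559)) (tt N51363 F293382) (tt N54834 F293383) (tt N50318 F293384))
theorem Q50797 : ∀ i, i < 50797 → P i := stepQ 50796 Q50796 (allL N50796 (tt N29041 F293388) (tt N28350 F293389) (tt N29040 F293390) (tt N85832 (iv3 F374163)) (tt N54834 F293391) (tt N49810 F293392) (tt N26834 (iv6 D92561)) (tt N29039 F293393))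
theorem Q50798 : ∀ i, i < 50798 → P i := stepQ 50797 Q50797 (allL N50797 (tt N28164 F293379) (tt N28162 F293380) (tt N26837 F142588) (tt N50061 F142589) (tt N85833 D188601) (tt N26836 (iv5 D92564)) (tt N85834 D188602) (tt N50508 F142590))
theorem Q50799 : ∀ i, i < 50799 → P i := stepQ 50798 Q50798 (allL N50798 (tt N85835 D188603) (tt N85836 D188604) (tt N85833 (iv2 F374167)) (tt N84874 (iv3 F370956)) (tt N26837 (iv4 D92567)) (tt N85837 D188605) (tt N85838 D188606) (tt N50510 F142595))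
theorem Q50800 : ∀ i, i < 50800 → P i := stepQ 50799 Q50799 (allL N50799 (tt N85839 D188607) (tt N85840 D188608) (tt N85834 (iv2 F374172)) (tt N26838 F142596) (tt N85838 (iv4 F374179)) (tt N54823 (iv5 F367244)) (tt N26837 (iv6 D92568)) (tt N85841 D188609))
theorem Q50801 : ∀ i, i < 50801 → P i := stepQ 50800 Q50800 (allL N50800 (tt N50067 (iv1 F142600)) (tt N26838 (iv0 D92569)) (tt N50065 (iv2 F366186)) (tt N85842 D188610) (tt N50515 F367223) (tt N85843 D188611) (tt N70380 F366185) (tt N50066 (iv7 F366188)))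
theorem Q50802 : ∀ i, i < 50802 → P i := stepQ 50801 Q50801 (allL N50801 (tt N26838 (iv1 D92570)) (tt N50067 F142597) (tt N50066 F366189) (tt N85844 D188612) (tt N50516 (iv4 F367227)) (tt N85845 D188613) (tt N85846 D188614) (tt N50065 F366187))
theorem Q50803 : ∀ i, i < 50803 → P i := stepQ 50802 Q50802 (allL N50802 (tt N50066 (iv1 F142601)) (tt N50065 F142602) (tt N50067 F142598) (tt N85841 (iv3 F374182)) (tt N84878 (iv4 F370973)) (tt N54828 (iv5 F367245)) (tt N50518 F142599) (tt N26838 (iv7 D92571)))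
theorem Q50804 : ∀ i, i < 50804 → P i := stepQ 50803 Q50803 (allL N50803 (tt N84911 F371069) (tt N50879 F290231) (tt N50087 F142603) (tt N50864 (iv3 F142809)) (tt N26841 F142604) (tt N85847 D188615) (tt N26839 (iv6 D92572)) (tt N83615 F290232))
theorem Q50805 : ∀ i, i < 50805 → P i := stepQ 50804 Q50804 (allL N50804 (tt N50261 (iv1 F364340)) (tt N50283 F364339) (tt N50090 F142606) (tt N60864 (iv3 F177075)) (tt N85848 D188616) (tt N26841 (iv5 D92575)) (tt N56245 (iv6 F163260)) (tt N68304 (iv7 F335789)))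
theorem Q50806 : ∀ i, i < 50806 → P i := stepQ 50805 Q50805 (allL N50805 (tt N53590 F154062) (tt N42655 (iv0 F157734)) (tt N54083 (iv2 F155907)) (tt N26842 (iv3 D92578)) (tt N51198 F143943) (tt N85849 D188617) (tt N52745 (iv6 F361055)) (tt N50098 F155684))
theorem Q50807 : ∀ i, i < 50807 → P i := stepQ 50806 Q50806 (allL N50806 (tt N79044 (iv1 F251982)) (tt N50875 (iv0 F205439)) (tt N50096 F155675) (tt N50867 (iv3 F142820)) (tt N26842 (iv4 D92579)) (tt N85850 D188618) (tt N52746 (iv6 F355751)) (tt N50099 F155670))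
theorem Q50808 : ∀ i, i < 50808 → P i := stepQ 50807 Q50807 (allL N50807 (tt N50327 (iv1 F364373)) (tt N85851 D188619) (tt N50097 (iv2 F155686)) (tt N85849 (iv3 F374200)) (tt N85852 D188620) (tt N26842 (iv5 D92580)) (tt N83292 (iv6 F362826)) (tt N50100 F155685))
theorem Q50809 : ∀ i, i < 50809 → P i := stepQ 50808 Q50808 (allL N50808 (tt N50875 (iv1 F205440)) (tt N79044 F251981) (tt N50099 (iv2 F155668)) (tt N51053 (iv3 F143348)) (tt N26843 (iv4 D92583)) (tt N85853 D188621) (tt N85854 D188622) (tt N50096 (iv7 F155676)))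
theorem Q50810 : ∀ i, i < 50810 → P i := stepQ 50809 Q50809 (allL N50809 (tt N85851 (iv1 F374210)) (tt N50327 (iv0 F364371)) (tt N50100 (iv2 F155682)) (tt N83246 (iv3 F286447)) (tt N85855 D188623) (tt N26843 (iv5 D92584)) (tt N85856 D188624) (tt N50097 (iv7 F155678)))
theorem Q50811 : ∀ i, i < 50811 → P i := stepQ 50810 Q50810 (allL N50810 (tt N49229 F349302) (tt N50205 F349303) (tt N50101 (iv2 F155683)) (tt N79006 (iv3 F349296)) (tt N85854 (iv4 F374225)) (tt N84730 (iv5 F370389)) (tt N26843 (iv6 D92585)) (tt N52744 F335775))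
theorem Q50812 : ∀ i, i < 50812 → P i := stepQ 50811 Q50811 (allL N50811 (tt N50105 (iv1 F142619)) (tt N26844 (iv0 D92586)) (tt N50102 F344311) (tt N85857 D188625) (tt N85703 (iv4 F373587)) (tt N53653 (iv5 F364346)) (tt N85858 D188626) (tt N50103 F344309))
theorem Q50813 : ∀ i, i < 50813 → P i := stepQ 50812 Q50812 (allL N50812 (tt N26844 (iv1 D92587)) (tt N50105 F142614) (tt N50103 (iv2 F344308)) (tt N85859 D188627) (tt N85702 (iv4 F373581)) (tt N51471 (iv5 F145090)) (tt N85860 D188628) (tt N50102 (iv7 F344310)))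
theorem Q50814 : ∀ i, i < 50814 → P i := stepQ 50813 Q50813 (allL N50813 (tt N83382 (iv1 F362835)) (tt N83381 F362832) (tt N50104 F142615) (tt N85861 D188629) (tt N26844 (iv4 D92588)) (tt N49092 F362833) (tt N85075 (iv6 F371542)) (tt N50569 (iv7 F362829)))
theorem Q50815 : ∀ i, i < 50815 → P i := stepQ 50814 Q50814 (allL N50814 (tt N50103 (iv1 F142620)) (tt N50102 F142621) (tt N50105 F142616) (tt N26853 F142617) (tt N50569 F362828) (tt N26845 F142618) (tt N50568 (iv6 F362824)) (tt N26844 (iv7 D92589)))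
theorem Q50816 : ∀ i, i < 50816 → P i := stepQ 50815 Q50815 (allL N50815 (tt N85862 D188630) (tt N85863 D188631) (tt N79028 (iv2 F251904)) (tt N26847 F142630) (tt N85864 D188632) (tt N26846 (iv5 D92593)) (tt N85865 D188633) (tt N26957 F142631))
theorem Q50817 : ∀ i, i < 50817 → P i := stepQ 50816 Q50816 (allL N50816 (tt N26847 (iv1 D92595)) (tt N26849 F142635) (tt N26951 (iv2 F142638)) (tt N85851 F374212) (tt N55100 F292122) (tt N28216 F292123) (tt N85866 D188634) (tt N26950 F142636))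
theorem Q50818 : ∀ i, i < 50818 → P i := stepQ 50817 Q50817 (allL N50817 (tt N51066 (iv1 F143385)) (tt N51069 (iv0 F143391)) (tt N26952 F142639) (tt N85867 D188635) (tt N26847 (iv4 D92596)) (tt N28631 F291272) (tt N85868 D188636) (tt N26959 F142640))
theorem Q50819 : ∀ i, i < 50819 → P i := stepQ 50818 Q50818 (allL N50818 (tt N85869 D188637) (tt N83294 (iv0 F376964)) (tt N26953 F142641) (tt N85865 (iv3 F374262)) (tt N85868 (iv4 F374272)) (tt N27256 F142642) (tt N26847 (iv6 D92597)) (tt N85870 D188639))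
theorem Q50820 : ∀ i, i < 50820 → P i := stepQ 50819 Q50819 (allL N50819 (tt N26848 (iv1 D92600)) (tt N26948 F142652) (tt N26947 F154063) (tt N53590 (iv3 F154061)) (tt N79105 F335919) (tt N85871 D188640) (tt N50114 (iv6 F177384)) (tt N26912 F157715))
theorem Q50821 : ∀ i, i < 50821 → P i := stepQ 50820 Q50820 (allL N50820 (tt N26912 F157713) (tt N26947 F142651) (tt N26848 (iv2 D92601)) (tt N26955 F142649) (tt N51093 (iv4 F292313)) (tt N76282 F349244) (tt N78983 (iv6 F251656)) (tt N26948 F142650))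
theorem Q50822 : ∀ i, i < 50822 → P i := stepQ 50821 Q50821 (allL N50821 (tt N63270 F329483) (tt N74861 F329484) (tt N76282 F329485) (tt N26849 F142654) (tt N42909 F329486) (tt N26848 (iv5 D92602)) (tt N76345 (iv6 F238393)) (tt N26949 F142655))
theorem Q50823 : ∀ i, i < 50823 → P i := stepQ 50822 Q50822 (allL N50822 (tt N51069 (iv1 F143392)) (tt N51066 (iv0 F143384)) (tt N26959 F142656) (tt N85077 (iv3 F371554)) (tt N26849 (iv4 D92603)) (tt N28243 F291271) (tt N85872 D188641) (tt N26952 F142657))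
theorem Q50824 : ∀ i, i < 50824 → P i := stepQ 50823 Q50823 (allL N50823 (tt N85873 D188642) (tt N78885 (iv0 F251200)) (tt N26960 F142658) (tt N76345 (iv3 F238395)) (tt N85872 (iv4 F374287)) (tt N82033 (iv5 F336013)) (tt N26849 (iv6 D92604)) (tt N85874 D188643))
theorem Q50825 : ∀ i, i < 50825 → P i := stepQ 50824 Q50824 (allL N50824 (tt N79031 (iv1 F251923)) (tt N50269 (iv0 F251773)) (tt N79029 F251914) (tt N26850 (iv3 D92605)) (tt N85875 D188644) (tt N53652 (iv5 F367180)) (tt N60973 F251772) (tt N26966 F142659))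
theorem Q50826 : ∀ i, i < 50826 → P i := stepQ 50825 Q50825 (allL N50825 (tt N51057 (iv1 F143363)) (tt N50873 (iv0 F142849)) (tt N26963 F142660) (tt N85876 D188645) (tt N26850 (iv4 D92606)) (tt N53645 F354458) (tt N85877 D188646) (tt N26967 F142661))
theorem Q50827 : ∀ i, i < 50827 → P i := stepQ 50826 Q50826 (allL N50826 (tt N85878 D188647) (tt N85879 D188648) (tt N26965 F142662) (tt N60973 (iv3 F251771)) (tt N85877 (iv4 F374302)) (tt N55401 (iv5 F159987)) (tt N26850 (iv6 D92607)) (tt N85880 D188649))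
theorem Q50828 : ∀ i, i < 50828 → P i := stepQ 50827 Q50827 (allL N50827 (tt N50240 F157313) (tt N85871 (iv0 F374284)) (tt N44052 F329558) (tt N26851 (iv3 D92608)) (tt N42979 F329559) (tt N27133 F142663) (tt N85881 D188650) (tt N26962 F142664))
theorem Q50829 : ∀ i, i < 50829 → P i := stepQ 50828 Q50828 (allL N50828 (tt N50873 (iv1 F142850)) (tt N51057 (iv0 F143362)) (tt N26967 F142665) (tt N85079 (iv3 F371562)) (tt N26851 (iv4 D92609)) (tt N49714 F354457) (tt N85882 D188651) (tt N26963 F142666))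
theorem Q50830 : ∀ i, i < 50830 → P i := stepQ 50829 Q50829 (allL N50829 (tt N85883 D188652) (tt N85884 D188653) (tt N26969 F142667) (tt N85881 (iv3 F374310)) (tt N85882 (iv4 F374314)) (tt N27136 F142668) (tt N26851 (iv6 D92610)) (tt N85885 D188654))
theorem Q50831 : ∀ i, i < 50831 → P i := stepQ 50830 Q50830 (allL N50830 (tt N26974 (iv1 F142670)) (tt N26852 (iv0 D92611)) (tt N26970 (iv2 F142841)) (tt N59394 F354414) (tt N28478 F142669) (tt N53599 (iv5 F354445)) (tt N59393 (iv6 F354410)) (tt N26971 F142842))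
theorem Q50832 : ∀ i, i < 50832 → P i := stepQ 50831 Q50831 (allL N50831 (tt N26852 (iv1 D92612)) (tt N26974 F142671) (tt N26971 F142840) (tt N77469 (iv3 F349173)) (tt N27173 (iv4 F142672)) (tt N49822 F349182) (tt N85886 D188655) (tt N26970 (iv7 F142839)))
theorem Q50833 : ∀ i, i < 50833 → P i := stepQ 50832 Q50832 (allL N50832 (tt N85887 D188656) (tt N85888 D188657) (tt N85889 D188658) (tt N26852 (iv3 D92613)) (tt N85861 (iv4 F374245)) (tt N85890 D188659) (tt N85081 (iv6 F371571)) (tt N85891 D188660))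
theorem Q50834 : ∀ i, i < 50834 → P i := stepQ 50833 Q50833 (allL N50833 (tt N28456 F292957) (tt N28213 F292958) (tt N26973 F142673) (tt N85890 (iv3 F374327)) (tt N27021 F142674) (tt N26852 (iv5 D92614)) (tt N85892 D188661) (tt N27019 (iv7 F142675)))
theorem Q50835 : ∀ i, i < 50835 → P i := stepQ 50834 Q50834 (allL N50834 (tt N26971 (iv1 F142679)) (tt N26970 F142680) (tt N26974 F142676) (tt N85891 (iv3 F374331)) (tt N26853 F142677) (tt N27019 F142678) (tt N85893 D188662) (tt N26852 (iv7 D92615)))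
theorem Q50836 : ∀ i, i < 50836 → P i := stepQ 50835 Q50835 (allL N50835 (tt N85894 D188663) (tt N85895 D188664) (tt N26975 F142681) (tt N50568 (iv3 F362827)) (tt N85893 (iv4 F374343)) (tt N50130 F142682) (tt N26853 (iv6 D92616)) (tt N85082 (iv7 F371575)))
theorem Q50837 : ∀ i, i < 50837 → P i := stepQ 50836 Q50836 (allL N50836 (tt N27173 F142696) (tt N28478 F142697) (tt N26979 F142693) (tt N50446 F142694) (tt N51017 (iv4 F143271)) (tt N26854 (iv5 D92619)) (tt N85896 D188665) (tt N26874 F142695))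
theorem Q50838 : ∀ i, i < 50838 → P i := stepQ 50837 Q50837 (allL N50837 (tt N26989 (iv1 F142700)) (tt N26855 (iv0 D92620)) (tt N26988 (iv2 F142699)) (tt N50404 F142703) (tt N48972 F142698) (tt N76708 (iv5 F239757)) (tt N50132 (iv6 F142702)) (tt N26890 F142701))
theorem Q50839 : ∀ i, i < 50839 → P i := stepQ 50838 Q50838 (allL N50838 (tt N26988 (iv1 F142709)) (tt N26890 F142708) (tt N26855 (iv2 D92621)) (tt N26981 F142706) (tt N53215 (iv4 F153035)) (tt N85642 (iv5 F373338)) (tt N49297 F292418) (tt N26989 F142707))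
theorem Q50840 : ∀ i, i < 50840 → P i := stepQ 50839 Q50839 (allL N50839 (tt N85897 D188666) (tt N50421 (iv0 F366993)) (tt N85642 (iv2 F373335)) (tt N26856 F142710) (tt N85641 (iv4 F373333)) (tt N26855 (iv5 D92622)) (tt N85898 D188667) (tt N26990 F142711))
theorem Q50841 : ∀ i, i < 50841 → P i := stepQ 50840 Q50840 (allL N50840 (tt N55105 F291997) (tt N55100 F291998) (tt N26985 F142718) (tt N56740 F362358) (tt N26856 (iv4 D92625)) (tt N28456 F291999) (tt N85899 D188668) (tt N26992 F142719))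
theorem Q50842 : ∀ i, i < 50842 → P i := stepQ 50841 Q50841 (allL N50841 (tt N85900 D188669) (tt N85901 D188670) (tt N26986 F142720) (tt N85898 (iv3 F374356)) (tt N85899 (iv4 F374360)) (tt N49299 F292000) (tt N26856 (iv6 D92626)) (tt N85902 D188671))
theorem Q50843 : ∀ i, i < 50843 → P i := stepQ 50842 Q50842 (allL N50842 (tt N26857 (iv1 D92631)) (tt N26981 F142738) (tt N26980 F205451) (tt N84781 (iv3 F370610)) (tt N29182 (iv4 F142733)) (tt N61217 (iv5 F178325)) (tt N45176 F176016) (tt N26877 F176017))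
theorem Q50844 : ∀ i, i < 50844 → P i := stepQ 50843 Q50843 (allL N50843 (tt N26877 F205449) (tt N26980 F142737) (tt N26857 (iv2 D92632)) (tt N26989 F142734) (tt N29283 F142735) (tt N59109 (iv5 F339953)) (tt N83642 (iv6 F288212)) (tt N26981 F142736))
theorem Q50845 : ∀ i, i < 50845 → P i := stepQ 50844 Q50844 (allL N50844 (tt N85903 D188672) (tt N66773 (iv0 F205421)) (tt N59109 F339906) (tt N26858 F142740) (tt N30367 F339907) (tt N26857 (iv5 D92633)) (tt N57094 (iv6 F339911)) (tt N26982 F142741))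
theorem Q50846 : ∀ i, i < 50846 → P i := stepQ 50845 Q50845 (allL N50845 (tt N55100 F291994) (tt N55105 F291995) (tt N26992 F142742) (tt N77464 (iv3 F339904)) (tt N26858 (iv4 D92634)) (tt N28213 F291996) (tt N85904 D188673) (tt N26985 F142743))
theorem Q50847 : ∀ i, i < 50847 → P i := stepQ 50846 Q50846 (allL N50846 (tt N85905 D188674) (tt N85906 D188675) (tt N26993 F142744) (tt N57094 (iv3 F339910)) (tt N85904 (iv4 F374393)) (tt N83644 (iv5 F288221)) (tt N26858 (iv6 D92635)) (tt N85907 D188676))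
theorem Q50848 : ∀ i, i < 50848 → P i := stepQ 50847 Q50847 (allL N50847 (tt N49449 F335660) (tt N72455 F343860) (tt N72599 (iv2 F343253)) (tt N26859 (iv3 D92641)) (tt N29321 F142760) (tt N53523 F335661) (tt N49779 (iv6 F335650)) (tt N27001 F142761))
theorem Q50849 : ∀ i, i < 50849 → P i := stepQ 50848 Q50848 (allL N50848 (tt N49558 F292891) (tt N85908 D188677) (tt N85909 D188678) (tt N26860 (iv3 D92646)) (tt N52699 (iv4 F293559)) (tt N53644 F292892) (tt N49680 F292893) (tt N27010 F142773))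
theorem Q50850 : ∀ i, i < 50850 → P i := stepQ 50849 Q50849 (allL N50849 (tt N55070 F292921) (tt N26861 (iv0 D92648)) (tt N49398 F292922) (tt N85910 D188679) (tt N85911 D188680) (tt N53640 F292923) (tt N49384 F292924) (tt N82929 F292925))
theorem Q50851 : ∀ i, i < 50851 → P i := stepQ 50850 Q50850 (allL N50850 (tt N26861 (iv1 D92649)) (tt N55070 F292926) (tt N82929 F292927) (tt N85912 D188681) (tt N85913 D188682) (tt N53641 F292928) (tt N83015 F292929) (tt N49398 F292930))
theorem Q50852 : ∀ i, i < 50852 → P i := stepQ 50851 Q50851 (allL N50851 (tt N28267 F292932) (tt N79104 (iv0 F349202)) (tt N49023 F292933) (tt N26862 F142779) (tt N54760 (iv4 F356751)) (tt N26861 (iv5 D92651)) (tt N54759 F356752) (tt N28626 F292934))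
theorem Q50853 : ∀ i, i < 50853 → P i := stepQ 50852 Q50852 (allL N50852 (tt N82929 F292705) (tt N49398 F292706) (tt N55070 F292707) (tt N26863 F142780) (tt N50852 F142781) (tt N28626 F292708) (tt N49794 F292709) (tt N26861 (iv7 D92652)))
theorem Q50854 : ∀ i, i < 50854 → P i := stepQ 50853 Q50853 (allL N50853 (tt N28213 F292939) (tt N28456 F292940) (tt N27019 F142786) (tt N85914 D188683) (tt N26862 (iv4 D92654)) (tt N26974 F142787) (tt N85915 D188684) (tt N26973 (iv7 F142788)))
theorem Q50855 : ∀ i, i < 50855 → P i := stepQ 50854 Q50854 (allL N50854 (tt N85916 D188685) (tt N85917 D188686) (tt N27020 F142789) (tt N54759 (iv3 F356754)) (tt N85915 (iv4 F374444)) (tt N26867 F142790) (tt N26862 (iv6 D92655)) (tt N85918 D188687))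
theorem Q50856 : ∀ i, i < 50856 → P i := stepQ 50855 Q50855 (allL N50855 (tt N49559 F294796) (tt N52760 F294797) (tt N52625 F294798) (tt N26864 (iv3 D92658)) (tt N50674 F142797) (tt N85561 (iv5 F373068)) (tt N53032 F294799) (tt N49376 F294800))
theorem Q50857 : ∀ i, i < 50857 → P i := stepQ 50856 Q50856 (allL N50856 (tt N48706 F294801) (tt N51126 (iv0 F143850)) (tt N53170 F294802) (tt N48723 F294803) (tt N26864 (iv4 D92659)) (tt N85919 D188688) (tt N53033 F294804) (tt N49377 F294805))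
theorem Q50858 : ∀ i, i < 50858 → P i := stepQ 50857 Q50857 (allL N50857 (tt N53050 F294811) (tt N53053 F294812) (tt N51479 F294813) (tt N26865 (iv3 D92663)) (tt N27104 F294814) (tt N85564 (iv5 F373076)) (tt N27103 F294815) (tt N53169 F294816))
theorem Q50859 : ∀ i, i < 50859 → P i := stepQ 50858 Q50858 (allL N50858 (tt N51126 (iv1 F295258)) (tt N48706 F294597) (tt N49377 F294598) (tt N28018 F294599) (tt N26865 (iv4 D92664)) (tt N85920 D188689) (tt N28016 F294600) (tt N53170 F294601))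
theorem Q50860 : ∀ i, i < 50860 → P i := stepQ 50859 Q50859 (allL N50859 (tt N85921 D188690) (tt N85922 D188691) (tt N82927 F356763) (tt N27195 F295369) (tt N26866 (iv4 D92670)) (tt N74955 (iv5 F356643)) (tt N85923 D188692) (tt N51164 (iv7 F143862)))
theorem Q50861 : ∀ i, i < 50861 → P i := stepQ 50860 Q50860 (allL N50860 (tt N85924 D188693) (tt N85925 D188694) (tt N82928 F356756) (tt N26867 F142802) (tt N85923 (iv4 F374481)) (tt N54759 (iv5 F356755)) (tt N26866 (iv6 D92671)) (tt N85926 D188695))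
theorem Q50862 : ∀ i, i < 50862 → P i := stepQ 50861 Q50861 (allL N50861 (tt N27048 (iv1 F142805)) (tt N26867 (iv0 D92672)) (tt N27046 (iv2 F380059)) (tt N85927 D188697) (tt N83933 (iv4 F380061)) (tt N85928 D188699) (tt N85406 F372509) (tt N27047 (iv7 F380064)))
theorem Q50863 : ∀ i, i < 50863 → P i := stepQ 50862 Q50862 (allL N50862 (tt N26867 (iv1 D92673)) (tt N27048 F142803) (tt N27047 F380065) (tt N85929 D188701) (tt N83934 (iv4 F380069)) (tt N85930 D188703) (tt N85931 D188704) (tt N27046 F380066))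
theorem Q50864 : ∀ i, i < 50864 → P i := stepQ 50863 Q50863 (allL N50863 (tt N27047 (iv1 F142806)) (tt N27046 F142807) (tt N27048 F142804) (tt N85926 (iv3 F374484)) (tt N51184 (iv4 F143879)) (tt N85918 (iv5 F374459)) (tt N51175 (iv6 F143875)) (tt N26867 (iv7 D92674)))
theorem Q50865 : ∀ i, i < 50865 → P i := stepQ 50864 Q50864 (allL N50864 (tt N50185 F290212) (tt N26900 F290213) (tt N28470 F142808) (tt N50803 F142809) (tt N48967 F142810) (tt N56050 (iv5 F162427)) (tt N26868 (iv6 D92675)) (tt N50184 F290214))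
theorem Q50866 : ∀ i, i < 50866 → P i := stepQ 50865 Q50865 (allL N50865 (tt N26881 F290150) (tt N29012 F290151) (tt N28469 F142811) (tt N28470 F142812) (tt N28633 F142813) (tt N66657 (iv5 F204900)) (tt N26869 (iv6 D92676)) (tt N29011 F290152))
theorem Q50867 : ∀ i, i < 50867 → P i := stepQ 50866 Q50866 (allL N50866 (tt N50403 (iv1 F142819)) (tt N50402 (iv0 F142817)) (tt N26871 F142814) (tt N26890 F142815) (tt N28199 F142816) (tt N76702 (iv5 F239746)) (tt N26870 (iv6 D92677)) (tt N50404 (iv7 F142818)))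
theorem Q50868 : ∀ i, i < 50868 → P i := stepQ 50867 Q50867 (allL N50867 (tt N50404 (iv1 F142821)) (tt N26871 (iv0 D92678)) (tt N50403 (iv2 F155666)) (tt N50806 F142820) (tt N76191 F335929) (tt N76182 F340078) (tt N85932 D188705) (tt N50402 (iv7 F155669)))
theorem Q50869 : ∀ i, i < 50869 → P i := stepQ 50868 Q50868 (allL N50868 (tt N26871 (iv1 D92679)) (tt N50404 F142822) (tt N50402 F155667) (tt N28474 F154347) (tt N76188 F335923) (tt N76183 F335926) (tt N85434 F372628) (tt N50403 F155665))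
theorem Q50870 : ∀ i, i < 50870 → P i := stepQ 50869 Q50869 (allL N50869 (tt N78809 F329253) (tt N85933 D188706) (tt N76702 (iv2 F239744)) (tt N26872 F142823) (tt N32778 F329254) (tt N26871 (iv5 D92680)) (tt N45263 F142824) (tt N50405 F142825))
theorem Q50871 : ∀ i, i < 50871 → P i := stepQ 50870 Q50870 (allL N50870 (tt N53847 F367250) (tt N53844 (iv0 F362400)) (tt N50221 F142831) (tt N26874 F142832) (tt N85934 D188707) (tt N26873 (iv5 D92682)) (tt N61164 (iv6 F178136)) (tt N50446 F142833))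
theorem Q50872 : ∀ i, i < 50872 → P i := stepQ 50871 Q50871 (allL N50871 (tt N26979 (iv1 F142836)) (tt N26874 (iv0 D92683)) (tt N28478 (iv2 F142837)) (tt N61215 F205512) (tt N26970 F142835) (tt N27003 F142834) (tt N85935 D188708) (tt N27173 (iv7 F142838)))
theorem Q50873 : ∀ i, i < 50873 → P i := stepQ 50872 Q50872 (allL N50872 (tt N26874 (iv1 D92684)) (tt N26979 F142843) (tt N27173 (iv2 F142846)) (tt N76707 (iv3 F239751)) (tt N26971 (iv4 F142847)) (tt N27009 F142845) (tt N85936 D188709) (tt N28478 F142844))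
theorem Q50874 : ∀ i, i < 50874 → P i := stepQ 50873 Q50873 (allL N50873 (tt N50825 F142849) (tt N50828 F142850) (tt N28479 F142848) (tt N85937 D188710) (tt N26874 (iv4 D92685)) (tt N28450 F292615) (tt N61165 (iv6 F178142)) (tt N51017 (iv7 F143273)))
theorem Q50875 : ∀ i, i < 50875 → P i := stepQ 50874 Q50874 (allL N50874 (tt N85938 D188711) (tt N51577 (iv0 F178363)) (tt N45175 F142852) (tt N36405 F142853) (tt N85939 D188712) (tt N26875 (iv5 D92688)) (tt N32613 F142854) (tt N50409 (iv7 F205458)))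
theorem Q50876 : ∀ i, i < 50876 → P i := stepQ 50875 Q50875 (allL N50875 (tt N50806 F205439) (tt N50808 F205440) (tt N45170 F142861) (tt N26877 F142862) (tt N45170 F142863) (tt N61213 (iv5 F178322)) (tt N26876 (iv6 D92690)) (tt N84781 (iv7 F370613)))
theorem Q50877 : ∀ i, i < 50877 → P i := stepQ 50876 Q50876 (allL N50876 (tt N27308 F142871) (tt N27303 F146954) (tt N27305 F160269) (tt N82374 (iv3 F347477)) (tt N26879 (iv4 D92695)) (tt N82373 F347473) (tt N85177 F371821) (tt N27306 F160270))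
theorem Q50878 : ∀ i, i < 50878 → P i := stepQ 50877 Q50877 (allL N50877 (tt N85940 D188713) (tt N85941 D188714) (tt N83612 (iv2 F288019)) (tt N50173 F142872) (tt N85942 D188715) (tt N26879 (iv5 D92696)) (tt N85943 D188716) (tt N60789 F176892))
theorem Q50879 : ∀ i, i < 50879 → P i := stepQ 50878 Q50878 (allL N50878 (tt N83642 (iv1 F288214)) (tt N49243 (iv0 F161695)) (tt N83613 (iv2 F288033)) (tt N32608 F142873) (tt N85177 F371820) (tt N32607 F142874) (tt N26879 (iv6 D92697)) (tt N83641 (iv7 F288170)))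
theorem Q50880 : ∀ i, i < 50880 → P i := stepQ 50879 Q50879 (allL N50879 (tt N50803 (iv1 F290231)) (tt N83647 (iv0 F288277)) (tt N50174 F142877) (tt N26880 (iv3 D92699)) (tt N50174 F142880) (tt N85944 D188717) (tt N85945 D188718) (tt N83611 (iv7 F288017)))
theorem Q50881 : ∀ i, i < 50881 → P i := stepQ 50880 Q50880 (allL N50880 (tt N27303 (iv1 F142881)) (tt N27308 (iv0 F142878)) (tt N27306 F160265) (tt N29382 (iv3 F142879)) (tt N26880 (iv4 D92700)) (tt N85946 D188719) (tt N48519 F294383) (tt N27305 F160266))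
theorem Q50882 : ∀ i, i < 50882 → P i := stepQ 50881 Q50881 (allL N50881 (tt N85941 (iv1 F374529)) (tt N85940 F374526) (tt N60789 F176891) (tt N85944 (iv3 F374540)) (tt N67421 (iv4 F341623)) (tt N26880 (iv5 D92701)) (tt N36271 (iv6 F142882)) (tt N83612 (iv7 F288020)))
theorem Q50883 : ∀ i, i < 50883 → P i := stepQ 50882 Q50882 (allL N50882 (tt N27175 F251870) (tt N50411 F251871) (tt N49322 F292478) (tt N85945 (iv3 F374544)) (tt N48519 (iv4 F293463)) (tt N85947 D188720) (tt N26880 (iv6 D92702)) (tt N50416 (iv7 F205481)))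
theorem Q50884 : ∀ i, i < 50884 → P i := stepQ 50883 Q50883 (allL N50883 (tt N29012 (iv1 F142883)) (tt N26881 (iv0 D92703)) (tt N29011 (iv2 F156148)) (tt N83647 (iv3 F288278)) (tt N85948 D188721) (tt N70731 (iv5 F349108)) (tt N50184 F290241) (tt N28469 F290209))
theorem Q50885 : ∀ i, i < 50885 → P i := stepQ 50884 Q50884 (allL N50884 (tt N29011 (iv1 F142890)) (tt N28469 F290204) (tt N26881 (iv2 D92705)) (tt N26892 F142886) (tt N28344 F142887) (tt N61688 (iv5 F349113)) (tt N54758 (iv6 F157539)) (tt N29012 F142888))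
theorem Q50886 : ∀ i, i < 50886 → P i := stepQ 50885 Q50885 (allL N50885 (tt N85949 D188722) (tt N85950 D188723) (tt N61688 F349114) (tt N26882 F142891) (tt N70621 (iv4 F359570)) (tt N26881 (iv5 D92706)) (tt N61686 F349017) (tt N29013 F142892))
theorem Q50887 : ∀ i, i < 50887 → P i := stepQ 50886 Q50886 (allL N50886 (tt N26882 (iv1 D92707)) (tt N26884 F142893) (tt N29015 (iv2 F142897)) (tt N85941 F374532) (tt N49267 F142896) (tt N48623 F142895) (tt N85951 D188724) (tt N29016 F142894))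
theorem Q50888 : ∀ i, i < 50888 → P i := stepQ 50887 Q50887 (allL N50887 (tt N26883 (iv1 D92710)) (tt N26892 F142909) (tt N26894 (iv2 F142906)) (tt N50172 (iv3 F142907)) (tt N53489 (iv4 F153855)) (tt N37403 (iv5 F325801)) (tt N49251 (iv6 F142908)) (tt N26891 F142905))
theorem Q50889 : ∀ i, i < 50889 → P i := stepQ 50888 Q50888 (allL N50888 (tt N26891 (iv1 F142914)) (tt N26894 F142913) (tt N26883 (iv2 D92711)) (tt N29012 F142910) (tt N48820 F142911) (tt N61691 F359535) (tt N49295 F292621) (tt N26892 F142912))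
theorem Q50890 : ∀ i, i < 50890 → P i := stepQ 50889 Q50889 (allL N50889 (tt N60785 (iv1 F176888)) (tt N60777 (iv0 F176867)) (tt N29018 F142925) (tt N38860 F321703) (tt N38030 F321704) (tt N85952 D188725) (tt N26884 (iv6 D92715)) (tt N38026 (iv7 F323389)))
theorem Q50891 : ∀ i, i < 50891 → P i := stepQ 50890 Q50890 (allL N50890 (tt N27098 F142928) (tt N27095 F142929) (tt N27168 F142926) (tt N51587 F145624) (tt N51336 (iv4 F144744)) (tt N26885 (iv5 D92716)) (tt N85952 (iv6 F374588)) (tt N27169 F142927))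
theorem Q50892 : ∀ i, i < 50892 → P i := stepQ 50891 Q50891 (allL N50891 (tt N70731 (iv1 F367372)) (tt N66657 F367371) (tt N85953 D188726) (tt N26886 (iv3 D92717)) (tt N85024 (iv4 F371397)) (tt N83874 (iv5 F367318)) (tt N85024 (iv6 F371400)) (tt N50233 F142930))
theorem Q50893 : ∀ i, i < 50893 → P i := stepQ 50892 Q50892 (allL N50892 (tt N69533 (iv1 F362466)) (tt N85954 D188727) (tt N50232 F142931) (tt N85024 F371398) (tt N69552 (iv4 F334642)) (tt N85347 (iv5 F372319)) (tt N26886 (iv6 D92718)) (tt N85955 D188728))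
theorem Q50894 : ∀ i, i < 50894 → P i := stepQ 50893 Q50893 (allL N50893 (tt N26893 F142934) (tt N37403 F326622) (tt N62872 (iv2 F183969)) (tt N26887 (iv3 D92719)) (tt N37343 F326623) (tt N50773 F142932) (tt N70116 F326624) (tt N50230 F142933))
theorem Q50895 : ∀ i, i < 50895 → P i := stepQ 50894 Q50894 (allL N50894 (tt N56327 F357306) (tt N85956 D188729) (tt N50235 F142935) (tt N70116 (iv3 F340915)) (tt N46418 F340912) (tt N50775 F142936) (tt N26887 (iv6 D92720)) (tt N78605 (iv7 F340911)))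
theorem Q50896 : ∀ i, i < 50896 → P i := stepQ 50895 Q50895 (allL N50895 (tt N49253 (iv1 F142939)) (tt N26888 (iv0 D92721)) (tt N50236 (iv2 F142940)) (tt N85957 D188730) (tt N26924 F142938) (tt N48626 F142937) (tt N85958 D188731) (tt N50237 (iv7 F142941)))
theorem Q50897 : ∀ i, i < 50897 → P i := stepQ 50896 Q50896 (allL N50896 (tt N26888 (iv1 D92722)) (tt N49253 F142942) (tt N50237 (iv2 F142945)) (tt N74241 (iv3 F352086)) (tt N26925 F142944) (tt N50762 (iv5 F142946)) (tt N80952 (iv6 F339469)) (tt N50236 F142943))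
theorem Q50898 : ∀ i, i < 50898 → P i := stepQ 50897 Q50897 (allL N50897 (tt N65134 F348858) (tt N65114 (iv0 F365116)) (tt N85959 D188732) (tt N26888 (iv3 D92723)) (tt N60590 (iv4 F176620)) (tt N43859 F331165) (tt N60589 F176618) (tt N83614 (iv7 F288040)))
theorem Q50899 : ∀ i, i < 50899 → P i := stepQ 50898 Q50898 (allL N50898 (tt N50448 (iv1 F143475)) (tt N50455 F143474) (tt N49061 F142961) (tt N54758 (iv3 F157537)) (tt N49060 F142962) (tt N32601 F142963) (tt N26892 (iv6 D92728)) (tt N50453 F143229))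
theorem Q50900 : ∀ i, i < 50900 → P i := stepQ 50899 Q50899 (allL N50899 (tt N37403 F326625) (tt N26893 (iv0 D92729)) (tt N50230 (iv2 F142964)) (tt N85953 (iv3 F374590)) (tt N37397 F326626) (tt N51431 (iv5 F145646)) (tt N69521 F326627) (tt N62872 (iv7 F183970)))
theorem Q50901 : ∀ i, i < 50901 → P i := stepQ 50900 Q50900 (allL N50900 (tt N68651 F327154) (tt N68609 F327155) (tt N62871 (iv2 F183965)) (tt N69819 F327156) (tt N26893 (iv4 D92730)) (tt N66262 F327157) (tt N36763 (iv6 F327374)) (tt N56482 F327158))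
theorem Q50902 : ∀ i, i < 50902 → P i := stepQ 50901 Q50901 (allL N50901 (tt N61035 (iv1 F177712)) (tt N45180 F142969) (tt N50182 F142967) (tt N56037 (iv3 F162396)) (tt N39792 F142970) (tt N26895 (iv5 D92732)) (tt N85960 D188733) (tt N50181 F142968))
theorem Q50903 : ∀ i, i < 50903 → P i := stepQ 50902 Q50902 (allL N50902 (tt N26896 (iv1 D92733)) (tt N45049 F142971) (tt N32622 (iv2 F142974)) (tt N34706 (iv3 F142975)) (tt N71963 (iv4 F221091)) (tt N29552 F142973) (tt N61137 (iv6 F178091)) (tt N50183 F142972))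
theorem Q50904 : ∀ i, i < 50904 → P i := stepQ 50903 Q50903 (allL N50903 (tt N51591 F145634) (tt N85961 D188734) (tt N50222 F142976) (tt N26898 F142977) (tt N85962 D188735) (tt N26897 (iv5 D92734)) (tt N85963 D188736) (tt N50190 F142978))
theorem Q50905 : ∀ i, i < 50905 → P i := stepQ 50904 Q50904 (allL N50904 (tt N26991 F142988) (tt N54856 (iv0 F291620)) (tt N50223 F142979) (tt N26899 F142980) (tt N28737 F142981) (tt N50034 (iv5 F142984)) (tt N26897 (iv6 D92735)) (tt N49318 F290608))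
theorem Q50906 : ∀ i, i < 50906 → P i := stepQ 50905 Q50905 (allL N50905 (tt N26901 (iv1 F142990)) (tt N26898 (iv0 D92736)) (tt N27184 (iv2 F142991)) (tt N85964 D188737) (tt N55402 (iv4 F159988)) (tt N27099 F142989) (tt N85965 D188738) (tt N49836 F290983))
theorem Q50907 : ∀ i, i < 50907 → P i := stepQ 50906 Q50906 (allL N50906 (tt N26898 (iv1 D92737)) (tt N26901 F142993) (tt N49836 F290984) (tt N61690 F349134) (tt N55403 (iv4 F159993)) (tt N27185 F142995) (tt N85966 D188739) (tt N27184 F142994))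
theorem Q50908 : ∀ i, i < 50908 → P i := stepQ 50907 Q50907 (allL N50907 (tt N51362 (iv1 F144772)) (tt N55410 (iv0 F160058)) (tt N50188 F142997) (tt N85967 D188740) (tt N26898 (iv4 D92738)) (tt N49442 (iv5 F365792)) (tt N85968 D188741) (tt N50191 F142998))
theorem Q50909 : ∀ i, i < 50909 → P i := stepQ 50908 Q50908 (allL N50908 (tt N70013 F332260) (tt N38852 F332261) (tt N50189 F142999) (tt N85963 (iv3 F374638)) (tt N85968 (iv4 F374658)) (tt N50036 F143000) (tt N26898 (iv6 D92739)) (tt N70012 (iv7 F336949)))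
theorem Q50910 : ∀ i, i < 50910 → P i := stepQ 50909 Q50909 (allL N50909 (tt N26900 (iv1 D92741)) (tt N50185 F143007) (tt N50184 F156151) (tt N29011 (iv3 F153408)) (tt N85969 D188742) (tt N85970 D188743) (tt N29011 F290242) (tt N28470 F290215))
theorem Q50911 : ∀ i, i < 50911 → P i := stepQ 50910 Q50910 (allL N50910 (tt N28470 F290211) (tt N50184 F143006) (tt N26900 (iv2 D92742)) (tt N49250 F143003) (tt N28484 (iv4 F143010)) (tt N85971 D188744) (tt N49312 F290953) (tt N50185 F143005))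
theorem Q50912 : ∀ i, i < 50912 → P i := stepQ 50911 Q50911 (allL N50911 (tt N85972 D188745) (tt N85973 D188746) (tt N85971 (iv2 F374672)) (tt N26901 F143011) (tt N85974 D188747) (tt N26900 (iv5 D92743)) (tt N85975 D188748) (tt N50186 F143012))
theorem Q50913 : ∀ i, i < 50913 → P i := stepQ 50912 Q50912 (allL N50912 (tt N55410 (iv1 F160059)) (tt N51362 (iv0 F144771)) (tt N50191 F143015) (tt N85976 D188749) (tt N26901 (iv4 D92745)) (tt N52899 F290990) (tt N85977 D188750) (tt N50188 F143016))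
theorem Q50914 : ∀ i, i < 50914 → P i := stepQ 50913 Q50913 (allL N50913 (tt N85978 D188751) (tt N75736 (iv0 F233577)) (tt N50192 F143017) (tt N85975 (iv3 F374692)) (tt N85977 (iv4 F374705)) (tt N49314 (iv5 F291523)) (tt N26901 (iv6 D92746)) (tt N85979 D188752))
theorem Q50915 : ∀ i, i < 50915 → P i := stepQ 50914 Q50914 (allL N50914 (tt N85980 D188753) (tt N85981 D188754) (tt N50195 F143018) (tt N75098 (iv3 F230272)) (tt N77214 (iv4 F369222)) (tt N50423 F143019) (tt N26902 (iv6 D92747)) (tt N85982 D188755))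
theorem Q50916 : ∀ i, i < 50916 → P i := stepQ 50915 Q50915 (allL N50915 (tt N56050 F364171) (tt N85970 (iv0 F374670)) (tt N75099 (iv2 F230273)) (tt N26903 (iv3 D92748)) (tt N85983 D188756) (tt N50750 F143020) (tt N85984 D188757) (tt N50193 F143021))
theorem Q50917 : ∀ i, i < 50917 → P i := stepQ 50916 Q50916 (allL N50916 (tt N85985 D188758) (tt N85986 D188759) (tt N50198 F143022) (tt N85984 (iv3 F374745)) (tt N85042 (iv4 F371447)) (tt N47474 F324796) (tt N26903 (iv6 D92749)) (tt N85987 D188760))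
theorem Q50918 : ∀ i, i < 50918 → P i := stepQ 50917 Q50917 (allL N50917 (tt N50202 (iv1 F143027)) (tt N26904 (iv0 D92750)) (tt N50199 (iv2 F143025)) (tt N71451 F348578) (tt N26931 F143024) (tt N84287 (iv5 F368808)) (tt N85988 D188761) (tt N50200 (iv7 F143026)))
theorem Q50919 : ∀ i, i < 50919 → P i := stepQ 50918 Q50918 (allL N50918 (tt N26904 (iv1 D92751)) (tt N50202 F143028) (tt N50200 (iv2 F143031)) (tt N85989 D188762) (tt N26932 F143030) (tt N55417 (iv5 F160121)) (tt N85990 D188763) (tt N50199 F143029))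
theorem Q50920 : ∀ i, i < 50920 → P i := stepQ 50919 Q50919 (allL N50919 (tt N70254 F328196) (tt N70253 F328197) (tt N70261 F328198) (tt N26904 (iv3 D92752)) (tt N69819 F328199) (tt N69873 F328200) (tt N38476 F328201) (tt N69818 F328202))
theorem Q50921 : ∀ i, i < 50921 → P i := stepQ 50920 Q50920 (allL N50920 (tt N49288 (iv1 F293256)) (tt N49740 (iv0 F293259)) (tt N49757 F292181) (tt N69873 (iv3 F365673)) (tt N29050 F292182) (tt N26904 (iv5 D92753)) (tt N71473 (iv6 F220101)) (tt N49756 (iv7 F292677)))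
theorem Q50922 : ∀ i, i < 50922 → P i := stepQ 50921 Q50921 (allL N50921 (tt N50200 (iv1 F143038)) (tt N50199 F143039) (tt N50202 F143035) (tt N69818 (iv3 F352102)) (tt N26905 F143036) (tt N49756 (iv5 F292676)) (tt N69360 F352103) (tt N26904 (iv7 D92754)))
theorem Q50923 : ∀ i, i < 50923 → P i := stepQ 50922 Q50922 (allL N50922 (tt N83617 (iv1 F288047)) (tt N83616 F288046) (tt N49255 F143043) (tt N26907 F143044) (tt N85991 D188764) (tt N26906 (iv5 D92756)) (tt N85992 D188765) (tt N50204 F143045))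
theorem Q50924 : ∀ i, i < 50924 → P i := stepQ 50923 Q50923 (allL N50923 (tt N55403 (iv1 F159991)) (tt N55402 F159989) (tt N29379 F143049) (tt N84094 (iv3 F384004)) (tt N26907 (iv4 D92758)) (tt N49740 (iv5 F293262)) (tt N85993 D188767) (tt N49759 F292730))
theorem Q50925 : ∀ i, i < 50925 → P i := stepQ 50924 Q50924 (allL N50924 (tt N60930 (iv1 F177285)) (tt N60924 (iv0 F177213)) (tt N29380 F143051) (tt N85992 (iv3 F374776)) (tt N85993 (iv4 F374781)) (tt N47668 (iv5 F293652)) (tt N26907 (iv6 D92759)) (tt N60929 (iv7 F177278)))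
theorem Q50926 : ∀ i, i < 50926 → P i := stepQ 50925 Q50925 (allL N50925 (tt N28651 F143058) (tt N43506 F143059) (tt N28270 F143055) (tt N48412 F143056) (tt N53698 (iv4 F154450)) (tt N26908 (iv5 D92761)) (tt N69565 (iv6 F342640)) (tt N43505 F143057))
theorem Q50927 : ∀ i, i < 50927 → P i := stepQ 50926 Q50926 (allL N50926 (tt N28658 F177370) (tt N48986 F177371) (tt N28271 F143060) (tt N54937 (iv3 F158366)) (tt N26909 F143061) (tt N85994 D188768) (tt N26908 (iv6 D92762)) (tt N50315 F177372))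
theorem Q50928 : ∀ i, i < 50928 → P i := stepQ 50927 Q50927 (allL N50927 (tt N50361 (iv1 F157684)) (tt N50123 (iv0 F157683)) (tt N50242 F143063) (tt N50269 F143064) (tt N85995 D188769) (tt N26909 (iv5 D92765)) (tt N34011 F143065) (tt N50316 F177439))
theorem Q50929 : ∀ i, i < 50929 → P i := stepQ 50928 Q50928 (allL N50928 (tt N54083 F157718) (tt N50098 F157719) (tt N42655 F143072) (tt N26912 F143073) (tt N50215 F143074) (tt N61389 (iv5 F178745)) (tt N26910 (iv6 D92767)) (tt N53590 F157720))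
theorem Q50930 : ∀ i, i < 50930 → P i := stepQ 50929 Q50929 (allL N50929 (tt N43506 F143079) (tt N28651 F143080) (tt N43505 F143075) (tt N27916 F143076) (tt N42632 F143078) (tt N26911 (iv5 D92768)) (tt N85996 D188770) (tt N28270 F143077))
theorem Q50931 : ∀ i, i < 50931 → P i := stepQ 50930 Q50930 (allL N50930 (tt N76191 F349192) (tt N76188 F349193) (tt N50239 F143081) (tt N27917 F143082) (tt N26912 F143083) (tt N44055 F349194) (tt N26911 (iv6 D92769)) (tt N79105 F349195))
theorem Q50932 : ∀ i, i < 50932 → P i := stepQ 50931 Q50931 (allL N50931 (tt N26962 F286267) (tt N44052 F329553) (tt N50240 F143085) (tt N61389 (iv3 F178744)) (tt N43286 F329554) (tt N26912 (iv5 D92772)) (tt N44051 F143086) (tt N85871 (iv7 F374283)))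
theorem Q50933 : ∀ i, i < 50933 → P i := stepQ 50932 Q50932 (allL N50932 (tt N83622 (iv1 F288088)) (tt N60856 F177038) (tt N26919 F143092) (tt N42377 F143093) (tt N85997 D188771) (tt N26914 (iv5 D92774)) (tt N41342 F143094) (tt N83621 (iv7 F288084)))
theorem Q50934 : ∀ i, i < 50934 → P i := stepQ 50933 Q50933 (allL N50933 (tt N26930 F143098) (tt N26927 (iv0 F143097)) (tt N26928 F160558) (tt N26917 (iv3 D92776)) (tt N29439 F143096) (tt N85998 D188772) (tt N50352 (iv6 F367166)) (tt N26929 F160559))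
theorem Q50935 : ∀ i, i < 50935 → P i := stepQ 50934 Q50934 (allL N50934 (tt N85969 F374665) (tt N48967 F290216) (tt N48808 (iv2 F160567)) (tt N54943 (iv3 F158382)) (tt N26917 (iv4 D92777)) (tt N81897 (iv5 F332658)) (tt N78991 (iv6 F251685)) (tt N83619 (iv7 F288070)))
theorem Q50936 : ∀ i, i < 50936 → P i := stepQ 50935 Q50935 (allL N50935 (tt N83623 (iv1 F288108)) (tt N49263 F288080) (tt N61737 (iv2 F332652)) (tt N85998 (iv3 F374831)) (tt N70369 (iv4 F332661)) (tt N26917 (iv5 D92778)) (tt N61735 (iv6 F336799)) (tt N83620 (iv7 F288075)))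
theorem Q50937 : ∀ i, i < 50937 → P i := stepQ 50936 Q50936 (allL N50936 (tt N53978 (iv1 F290191)) (tt N68306 (iv0 F335794)) (tt N53493 (iv2 F160561)) (tt N26918 (iv3 D92780)) (tt N53487 F153849) (tt N61739 (iv5 F363751)) (tt N85831 (iv6 F374158)) (tt N53490 (iv7 F160546)))
theorem Q50938 : ∀ i, i < 50938 → P i := stepQ 50937 Q50937 (allL N50937 (tt N48967 F290217) (tt N85969 (iv0 F374664)) (tt N83619 (iv2 F288068)) (tt N27919 (iv3 F143102)) (tt N26918 (iv4 D92781)) (tt N85999 D188773) (tt N84748 (iv6 F370459)) (tt N48808 F160566))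
theorem Q50939 : ∀ i, i < 50939 → P i := stepQ 50938 Q50938 (allL N50938 (tt N49263 (iv1 F287623)) (tt N83623 F288109) (tt N83620 (iv2 F288073)) (tt N61739 F332655) (tt N64598 F332656) (tt N26918 (iv5 D92782)) (tt N83962 (iv6 F367631)) (tt N61737 (iv7 F332654)))
theorem Q50940 : ∀ i, i < 50940 → P i := stepQ 50939 Q50939 (allL N50939 (tt N49275 (iv1 F288420)) (tt N50318 F288419) (tt N50324 F251606) (tt N85831 (iv3 F374157)) (tt N84748 (iv4 F370461)) (tt N86000 D188774) (tt N26918 (iv6 D92783)) (tt N50325 F251605))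
theorem Q50941 : ∀ i, i < 50941 → P i := stepQ 50940 Q50940 (allL N50940 (tt N83621 (iv1 F288086)) (tt N26919 (iv0 D92784)) (tt N83622 F288090) (tt N55714 F204766) (tt N86001 D188775) (tt N85743 (iv5 F373768)) (tt N86002 D188776) (tt N60856 (iv7 F204767)))
theorem Q50942 : ∀ i, i < 50942 → P i := stepQ 50941 Q50941 (allL N50941 (tt N26919 (iv1 D92785)) (tt N83621 F288085) (tt N60856 (iv2 F288087)) (tt N60869 (iv3 F363886)) (tt N64600 F363726) (tt N85744 (iv5 F373770)) (tt N86003 D188777) (tt N83622 (iv7 F288089)))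
theorem Q50943 : ∀ i, i < 50943 → P i := stepQ 50942 Q50942 (allL N50942 (tt N84949 F371164) (tt N86004 D188778) (tt N85997 (iv2 F374820)) (tt N77166 F349317) (tt N26919 (iv4 D92786)) (tt N77165 F349318) (tt N55717 (iv6 F161508)) (tt N77454 (iv7 F349301)))
theorem Q50944 : ∀ i, i < 50944 → P i := stepQ 50943 Q50943 (allL N50943 (tt N45056 F143105) (tt N55722 F161517) (tt N50277 F143103) (tt N60859 (iv3 F177050)) (tt N60783 (iv4 F176877)) (tt N26920 (iv5 D92787)) (tt N78612 F339462) (tt N50279 F143104))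
theorem Q50945 : ∀ i, i < 50945 → P i := stepQ 50944 Q50944 (allL N50944 (tt N55722 F161518) (tt N45056 (iv0 F143110)) (tt N50279 F143106) (tt N50258 F143107) (tt N39376 F143109) (tt N26921 (iv5 D92788)) (tt N83632 (iv6 F288114)) (tt N50277 F143108))
theorem Q50946 : ∀ i, i < 50946 → P i := stepQ 50945 Q50945 (allL N50945 (tt N42378 (iv1 F143116)) (tt N26922 (iv0 D92789)) (tt N50280 (iv2 F143114)) (tt N60860 F177053) (tt N60827 (iv4 F176994)) (tt N42372 F143112) (tt N86005 D188779) (tt N50281 F143115))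
theorem Q50947 : ∀ i, i < 50947 → P i := stepQ 50946 Q50946 (allL N50946 (tt N38253 F324034) (tt N38250 (iv0 F324785)) (tt N38251 F325517) (tt N86006 D188780) (tt N26922 (iv4 D92790)) (tt N39454 F143120) (tt N26926 F143119) (tt N38145 F319949))
theorem Q50948 : ∀ i, i < 50948 → P i := stepQ 50947 Q50947 (allL N50947 (tt N50281 (iv1 F143124)) (tt N50280 F143125) (tt N42378 F143121) (tt N33665 F143122) (tt N38145 F319943) (tt N26923 F143123) (tt N38144 F319944) (tt N26922 (iv7 D92791)))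
theorem Q50949 : ∀ i, i < 50949 → P i := stepQ 50948 Q50948 (allL N50948 (tt N68304 (iv1 F335792)) (tt N50090 F335791) (tt N50261 F143126) (tt N26924 (iv3 D92792)) (tt N86007 D188781) (tt N50765 F143127) (tt N86008 D188782) (tt N50283 F143128))
theorem Q50950 : ∀ i, i < 50950 → P i := stepQ 50949 Q50949 (allL N50949 (tt N68240 F365773) (tt N86009 D188783) (tt N50282 F143129) (tt N86008 (iv3 F374858)) (tt N85958 (iv4 F374616)) (tt N85866 (iv5 F374266)) (tt N26924 (iv6 D92793)) (tt N86010 D188784))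
theorem Q50951 : ∀ i, i < 50951 → P i := stepQ 50950 Q50950 (allL N50950 (tt N86011 D188785) (tt N86012 D188786) (tt N50284 F143130) (tt N50263 F143131) (tt N80952 F339468) (tt N49881 F143132) (tt N26925 (iv6 D92794)) (tt N86013 D188787))
theorem Q50952 : ∀ i, i < 50952 → P i := stepQ 50951 Q50951 (allL N50951 (tt N86014 D188788) (tt N76784 (iv0 F347081)) (tt N86015 D188789) (tt N26926 (iv3 D92795)) (tt N77166 (iv4 F349323)) (tt N46019 (iv5 F143134)) (tt N86006 (iv6 F374853)) (tt N46018 F143133))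
theorem Q50953 : ∀ i, i < 50953 → P i := stepQ 50952 Q50952 (allL N50952 (tt N37140 F319801) (tt N47509 F319802) (tt N47508 (iv2 F317577)) (tt N46019 F143136) (tt N27230 F143137) (tt N26926 (iv5 D92796)) (tt N61474 (iv6 F178901)) (tt N27229 F143138))
theorem Q50954 : ∀ i, i < 50954 → P i := stepQ 50953 Q50953 (allL N50953 (tt N26927 (iv1 D92797)) (tt N26930 F143142) (tt N26929 F160550) (tt N53493 (iv3 F153863)) (tt N29438 (iv4 F143143)) (tt N60932 (iv5 F177287)) (tt N49851 (iv6 F350505)) (tt N26928 F160551))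
theorem Q50955 : ∀ i, i < 50955 → P i := stepQ 50954 Q50954 (allL N50954 (tt N26929 (iv1 F143147)) (tt N26928 F143150) (tt N26930 F143144) (tt N50245 F143145) (tt N51632 (iv4 F146952)) (tt N55716 (iv5 F161500)) (tt N49261 F143146) (tt N26927 (iv7 D92798)))
theorem Q50956 : ∀ i, i < 50956 → P i := stepQ 50955 Q50955 (allL N50955 (tt N68306 F335799) (tt N53978 (iv0 F290190)) (tt N53490 F160560) (tt N26928 (iv3 D92800)) (tt N53486 (iv4 F153846)) (tt N33001 F335800) (tt N86016 D188790) (tt N53493 (iv7 F160549)))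
theorem Q50957 : ∀ i, i < 50957 → P i := stepQ 50956 Q50956 (allL N50956 (tt N86017 D188791) (tt N55399 (iv0 F364725)) (tt N85998 (iv2 F374830)) (tt N33001 F333514) (tt N67179 F333515) (tt N26928 (iv5 D92801)) (tt N32999 F333516) (tt N60932 F177289))
theorem Q50958 : ∀ i, i < 50958 → P i := stepQ 50957 Q50957 (allL N50957 (tt N50345 (iv1 F235288)) (tt N50354 (iv0 F235287)) (tt N50352 (iv2 F367162)) (tt N86016 (iv3 F374897)) (tt N54954 (iv4 F158401)) (tt N64202 F193580) (tt N26928 (iv6 D92802)) (tt N50351 (iv7 F251675)))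
theorem Q50959 : ∀ i, i < 50959 → P i := stepQ 50958 Q50958 (allL N50958 (tt N55399 F367179) (tt N86017 F374904) (tt N60932 F177288) (tt N83620 (iv3 F288074)) (tt N83985 (iv4 F367716)) (tt N26929 (iv5 D92804)) (tt N55743 (iv6 F161552)) (tt N85998 (iv7 F374833)))
theorem Q50960 : ∀ i, i < 50960 → P i := stepQ 50959 Q50959 (allL N50959 (tt N86018 D188792) (tt N86019 D188793) (tt N50262 F143153) (tt N50282 F143154) (tt N85988 (iv4 F374765)) (tt N50331 F143155) (tt N26931 (iv6 D92806)) (tt N86020 D188794))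
theorem Q50961 : ∀ i, i < 50961 → P i := stepQ 50960 Q50960 (allL N50960 (tt N50090 (iv1 F335790)) (tt N68304 (iv0 F335786)) (tt N50283 F143156) (tt N26932 (iv3 D92807)) (tt N86021 D188795) (tt N50761 F143157) (tt N86022 D188796) (tt N50261 F143158))
theorem Q50962 : ∀ i, i < 50962 → P i := stepQ 50961 Q50961 (allL N50961 (tt N55822 F334805) (tt N61578 (iv0 F364517)) (tt N50263 F143159) (tt N86022 (iv3 F374934)) (tt N85990 (iv4 F374770)) (tt N50763 F143160) (tt N26932 (iv6 D92808)) (tt N61582 F353841))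
theorem Q50963 : ∀ i, i < 50963 → P i := stepQ 50962 Q50962 (allL N50962 (tt N86023 D188797) (tt N86024 D188798) (tt N86025 D188799) (tt N26933 (iv3 D92809)) (tt N60524 (iv4 F176545)) (tt N86026 D188800) (tt N39713 F143161) (tt N86027 D188801))
theorem Q50964 : ∀ i, i < 50964 → P i := stepQ 50963 Q50963 (allL N50963 (tt N28048 F292654) (tt N83907 F367452) (tt N49754 (iv2 F293345)) (tt N86026 (iv3 F374944)) (tt N28941 F292655) (tt N26933 (iv5 D92810)) (tt N86028 D188802) (tt N49751 F292656))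
theorem Q50965 : ∀ i, i < 50965 → P i := stepQ 50964 Q50964 (allL N50964 (tt N50265 (iv1 F143165)) (tt N50264 F143166) (tt N50267 F143163) (tt N86027 (iv3 F374946)) (tt N26934 F143164) (tt N49751 F365803) (tt N86029 D188803) (tt N26933 (iv7 D92811)))
theorem Q50966 : ∀ i, i < 50966 → P i := stepQ 50965 Q50965 (allL N50965 (tt N86030 D188804) (tt N70810 F319150) (tt N50268 F143167) (tt N55713 (iv3 F161491)) (tt N86029 (iv4 F374951)) (tt N38141 F319151) (tt N26934 (iv6 D92812)) (tt N55710 (iv7 F161488)))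
theorem Q50967 : ∀ i, i < 50967 → P i := stepQ 50966 Q50966 (allL N50966 (tt N42731 F143172) (tt N34063 F143173) (tt N45026 F143169) (tt N42623 F143170) (tt N55774 (iv4 F161711)) (tt N26935 (iv5 D92813)) (tt N86031 D188805) (tt N45021 F143171))
theorem Q50968 : ∀ i, i < 50968 → P i := stepQ 50967 Q50967 (allL N50967 (tt N60824 (iv1 F176978)) (tt N55772 (iv0 F161706)) (tt N56345 (iv2 F163518)) (tt N61090 (iv3 F177976)) (tt N85615 (iv4 F373212)) (tt N26938 (iv5 D92814)) (tt N86032 D188806) (tt N61125 (iv7 F178047)))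
theorem Q50969 : ∀ i, i < 50969 → P i := stepQ 50968 Q50968 (allL N50968 (tt N26942 (iv1 F143176)) (tt N26939 (iv0 D92815)) (tt N61295 (iv2 F178536)) (tt N86033 D188807) (tt N86034 D188808) (tt N32496 F143175) (tt N86035 D188809) (tt N32745 (iv7 F143177)))
theorem Q50970 : ∀ i, i < 50970 → P i := stepQ 50969 Q50969 (allL N50969 (tt N26939 (iv1 D92816)) (tt N26942 F143178) (tt N32745 F143180) (tt N32762 F143181) (tt N86036 D188810) (tt N29569 (iv5 F143179)) (tt N78885 (iv6 F251199)) (tt N61295 (iv7 F178538)))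
theorem Q50971 : ∀ i, i < 50971 → P i := stepQ 50970 Q50970 (allL N50970 (tt N61159 (iv1 F178128)) (tt N61158 (iv0 F178125)) (tt N78778 (iv2 F250861)) (tt N26952 F365302) (tt N26939 (iv4 D92817)) (tt N86037 D188811) (tt N86038 D188812) (tt N85077 (iv7 F371555)))
theorem Q50972 : ∀ i, i < 50972 → P i := stepQ 50971 Q50971 (allL N50971 (tt N86039 D188813) (tt N86040 D188814) (tt N78779 (iv2 F250863)) (tt N76348 (iv3 F238404)) (tt N86038 (iv4 F374981)) (tt N86041 D188815) (tt N26939 (iv6 D92818)) (tt N86042 D188816))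
theorem Q50973 : ∀ i, i < 50973 → P i := stepQ 50972 Q50972 (allL N50972 (tt N27084 F143185) (tt N27129 (iv0 F143186)) (tt N27127 F143182) (tt N30414 F143183) (tt N86043 D188817) (tt N26940 (iv5 D92819)) (tt N86041 (iv6 F374984)) (tt N27126 F143184))
theorem Q50974 : ∀ i, i < 50974 → P i := stepQ 50973 Q50973 (allL N50973 (tt N61158 (iv1 F178126)) (tt N61159 (iv0 F178127)) (tt N85077 (iv2 F371553)) (tt N86044 D188818) (tt N26942 (iv4 D92820)) (tt N86045 D188819) (tt N86046 D188820) (tt N78778 (iv7 F250862)))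
theorem Q50975 : ∀ i, i < 50975 → P i := stepQ 50974 Q50974 (allL N50974 (tt N86047 D188821) (tt N85866 (iv0 F374267)) (tt N85078 (iv2 F371557)) (tt N32969 F143187) (tt N86046 (iv4 F374999)) (tt N78912 (iv5 F251338)) (tt N26942 (iv6 D92821)) (tt N86048 D188822))
theorem Q50976 : ∀ i, i < 50976 → P i := stepQ 50975 Q50975 (allL N50975 (tt N86049 D188823) (tt N53672 (iv0 F154350)) (tt N61627 (iv2 F179158)) (tt N26963 F349184) (tt N26943 (iv4 D92822)) (tt N86050 D188824) (tt N86051 D188825) (tt N85079 (iv7 F371563)))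
theorem Q50977 : ∀ i, i < 50977 → P i := stepQ 50976 Q50976 (allL N50976 (tt N86052 D188826) (tt N86053 D188827) (tt N61628 (iv2 F179162)) (tt N55799 (iv3 F161813)) (tt N86051 (iv4 F375015)) (tt N55798 (iv5 F161809)) (tt N26943 (iv6 D92823)) (tt N86054 D188828))
theorem Q50978 : ∀ i, i < 50978 → P i := stepQ 50977 Q50977 (allL N50977 (tt N53672 (iv1 F154351)) (tt N86049 F375010) (tt N85079 (iv2 F371561)) (tt N86055 D188829) (tt N26944 (iv4 D92824)) (tt N86056 D188830) (tt N86057 D188831) (tt N61627 (iv7 F179159)))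
theorem Q50979 : ∀ i, i < 50979 → P i := stepQ 50978 Q50978 (allL N50978 (tt N86058 D188832) (tt N86059 D188833) (tt N85080 (iv2 F371567)) (tt N44958 F143188) (tt N86057 (iv4 F375029)) (tt N56596 (iv5 F164389)) (tt N26944 (iv6 D92825)) (tt N86060 D188834))
theorem Q50980 : ∀ i, i < 50980 → P i := stepQ 50979 Q50979 (allL N50979 (tt N26945 (iv1 D92826)) (tt N61166 F178146) (tt N61169 (iv2 F178149)) (tt N59655 (iv3 F409309)) (tt N61135 (iv4 F178085)) (tt N77486 F242890) (tt N59652 (iv6 F409310)) (tt N61134 F178082))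
theorem Q50981 : ∀ i, i < 50981 → P i := stepQ 50980 Q50980 (allL N50980 (tt N61169 (iv1 F178152)) (tt N61134 (iv0 F178080)) (tt N61166 F178144) (tt N43546 F143189) (tt N26946 F143190) (tt N43545 F143191) (tt N86061 D188837) (tt N26945 (iv7 D92827)))
theorem Q50982 : ∀ i, i < 50982 → P i := stepQ 50981 Q50981 (allL N50981 (tt N85895 (iv1 F374346)) (tt N85894 F374345) (tt N85082 (iv2 F371572)) (tt N50314 F143192) (tt N86061 (iv4 F375036)) (tt N50314 F143193) (tt N26946 (iv6 D92828)) (tt N26975 F143194))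
theorem Q50983 : ∀ i, i < 50983 → P i := stepQ 50982 Q50982 (allL N50982 (tt N76188 F331245) (tt N76191 F331246) (tt N79105 F331247) (tt N54994 (iv3 F158451)) (tt N26947 (iv4 D92830)) (tt N44054 F331248) (tt N50315 F177427) (tt N50239 F157815))
theorem Q50984 : ∀ i, i < 50984 → P i := stepQ 50983 Q50983 (allL N50983 (tt N44052 F329843) (tt N26962 F329844) (tt N85871 (iv2 F374281)) (tt N50342 F143196) (tt N78808 F329845) (tt N26947 (iv5 D92831)) (tt N86062 D188838) (tt N50240 (iv7 F157814)))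
theorem Q50985 : ∀ i, i < 50985 → P i := stepQ 50984 Q50984 (allL N50984 (tt N74861 F329797) (tt N63270 F329798) (tt N26949 F143207) (tt N79028 (iv3 F251905)) (tt N32965 F329799) (tt N26948 (iv5 D92838)) (tt N86063 D188839) (tt N76282 F329800))
theorem Q50986 : ∀ i, i < 50986 → P i := stepQ 50985 Q50985 (allL N50985 (tt N76282 (iv1 F349243)) (tt N26949 (iv0 D92840)) (tt N74861 (iv2 F349242)) (tt N50349 F349239) (tt N56099 (iv4 F335928)) (tt N51331 (iv5 F349238)) (tt N62784 F349240) (tt N63270 F349241))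
theorem Q50987 : ∀ i, i < 50987 → P i := stepQ 50986 Q50986 (allL N50986 (tt N86064 D188840) (tt N86065 D188841) (tt N86063 (iv2 F375041)) (tt N26953 F143209) (tt N76348 F365303) (tt N54871 (iv5 F367189)) (tt N26949 (iv6 D92843)) (tt N86066 D188842))
theorem Q50988 : ∀ i, i < 50988 → P i := stepQ 50987 Q50987 (allL N50987 (tt N50100 F364349) (tt N50097 F364351) (tt N50327 F143215) (tt N26950 (iv3 D92848)) (tt N86067 D188843) (tt N28463 F292119) (tt N73158 F364352) (tt N85851 (iv7 F374211)))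
theorem Q50989 : ∀ i, i < 50989 → P i := stepQ 50988 Q50988 (allL N50988 (tt N26992 F143217) (tt N26985 F143218) (tt N55105 F292036) (tt N86068 D188844) (tt N26950 (iv4 D92849)) (tt N28464 F292037) (tt N86069 D188845) (tt N55100 F292038))
theorem Q50990 : ∀ i, i < 50990 → P i := stepQ 50989 Q50989 (allL N50989 (tt N86070 D188846) (tt N86071 D188847) (tt N55106 F292121) (tt N73158 (iv3 F364374)) (tt N86069 (iv4 F375050)) (tt N50790 F143219) (tt N26950 (iv6 D92850)) (tt N86072 D188848))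
theorem Q50991 : ∀ i, i < 50991 → P i := stepQ 50990 Q50990 (allL N50990 (tt N26985 F143220) (tt N26992 F143221) (tt N55100 F292033) (tt N86073 D188849) (tt N26951 (iv4 D92851)) (tt N28460 F292034) (tt N86074 D188850) (tt N55105 F292035))
theorem Q50992 : ∀ i, i < 50992 → P i := stepQ 50991 Q50991 (allL N50991 (tt N85078 F371560) (tt N86048 F375005) (tt N85866 (iv2 F374265)) (tt N50331 F143222) (tt N86074 (iv4 F375056)) (tt N50282 F143223) (tt N26951 (iv6 D92852)) (tt N86047 F375002))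
theorem Q50993 : ∀ i, i < 50993 → P i := stepQ 50992 Q50992 (allL N50992 (tt N26959 (iv1 F143226)) (tt N26952 (iv0 D92853)) (tt N51066 (iv2 F143382)) (tt N59514 F370337) (tt N50030 F143224) (tt N50442 F291250) (tt N59513 (iv6 F370336)) (tt N51069 (iv7 F143390)))
theorem Q50994 : ∀ i, i < 50994 → P i := stepQ 50993 Q50993 (allL N50993 (tt N26952 (iv1 D92854)) (tt N26959 F143230) (tt N51069 (iv2 F143389)) (tt N86075 D188851) (tt N50445 F291273) (tt N53193 F291274) (tt N86076 D188852) (tt N51066 (iv7 F143383)))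
theorem Q50995 : ∀ i, i < 50995 → P i := stepQ 50994 Q50994 (allL N50994 (tt N28629 F293129) (tt N28628 (iv0 F293154)) (tt N28631 F293130) (tt N86037 (iv3 F374976)) (tt N27018 F143232) (tt N26952 (iv5 D92856)) (tt N86077 D188853) (tt N28243 F293131))
theorem Q50996 : ∀ i, i < 50996 → P i := stepQ 50995 Q50995 (allL N50995 (tt N86078 D188854) (tt N86079 D188855) (tt N85868 (iv2 F374271)) (tt N86038 (iv3 F374980)) (tt N26953 F143233) (tt N86080 D188856) (tt N26952 (iv6 D92857)) (tt N86081 D188857))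
theorem Q50997 : ∀ i, i < 50997 → P i := stepQ 50996 Q50996 (allL N50996 (tt N85870 (iv1 F374280)) (tt N26953 (iv0 D92858)) (tt N85869 (iv2 F376956)) (tt N83296 (iv3 F376992)) (tt N86082 D188860) (tt N86083 D188861) (tt N86039 (iv6 F375071)) (tt N83294 (iv7 F376966)))
theorem Q50998 : ∀ i, i < 50998 → P i := stepQ 50997 Q50997 (allL N50997 (tt N26953 (iv1 D92859)) (tt N85870 F374279) (tt N83294 F376967) (tt N50338 (iv3 F376968)) (tt N86084 D188864) (tt N86085 D188865) (tt N86086 D188866) (tt N85869 (iv7 F376957)))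
theorem Q50999 : ∀ i, i < 50999 → P i := stepQ 50998 Q50998 (allL N50998 (tt N83294 (iv1 F376965)) (tt N85869 F374278) (tt N85870 (iv2 F374274)) (tt N86066 (iv3 F375043)) (tt N86081 (iv4 F375067)) (tt N54874 (iv5 F367190)) (tt N85874 (iv6 F374294)) (tt N26953 (iv7 D92861)))
theorem Q51000 : ∀ i, i < 51000 → P i := stepQ 50999 Q50999 (allL N50999 (tt N26966 F177365) (tt N79029 F251918) (tt N79031 (iv2 F251920)) (tt N50316 F143244) (tt N86087 D188867) (tt N26954 (iv5 D92868)) (tt N86088 D188868) (tt N50269 F177366))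
theorem Q51001 : ∀ i, i < 51001 → P i := stepQ 51000 Q51000 (allL N51000 (tt N27599 F176028) (tt N29300 (iv0 F143249)) (tt N26956 F143246) (tt N28587 F143248) (tt N26955 (iv4 D92870)) (tt N86089 D188869) (tt N55506 (iv6 F160409)) (tt N29301 F143247))
theorem Q51002 : ∀ i, i < 51002 → P i := stepQ 51001 Q51001 (allL N51001 (tt N85863 (iv1 F374255)) (tt N85862 F374250) (tt N26957 F143254) (tt N76282 (iv3 F360957)) (tt N78785 (iv4 F360964)) (tt N26955 (iv5 D92871)) (tt N32955 (iv6 F177444)) (tt N79028 (iv7 F251906)))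
theorem Q51003 : ∀ i, i < 51003 → P i := stepQ 51002 Q51002 (allL N51002 (tt N86090 D188870) (tt N86091 D188871) (tt N86089 (iv2 F375081)) (tt N29232 F143256) (tt N77510 (iv4 F365603)) (tt N26956 (iv5 D92873)) (tt N86092 D188872) (tt N29302 F143257))
theorem Q51004 : ∀ i, i < 51004 → P i := stepQ 51003 Q51003 (allL N51003 (tt N79028 (iv1 F251908)) (tt N26957 (iv0 D92874)) (tt N85863 F374257) (tt N86093 D188873) (tt N86094 D188874) (tt N86095 D188875) (tt N78788 F371471) (tt N85862 F374254))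
theorem Q51005 : ∀ i, i < 51005 → P i := stepQ 51004 Q51004 (allL N51004 (tt N26957 (iv1 D92875)) (tt N79028 (iv0 F251907)) (tt N85862 F374253) (tt N50320 F251701) (tt N86096 D188876) (tt N51295 (iv5 F161636)) (tt N86097 D188877) (tt N85863 (iv7 F374256)))
theorem Q51006 : ∀ i, i < 51006 → P i := stepQ 51005 Q51005 (allL N51005 (tt N85289 F373238) (tt N85287 (iv0 F372183)) (tt N78785 (iv2 F360963)) (tt N86098 D188878) (tt N26957 (iv4 D92876)) (tt N86099 D188879) (tt N61530 (iv6 F178994)) (tt N85864 (iv7 F374261)))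
theorem Q51007 : ∀ i, i < 51007 → P i := stepQ 51006 Q51006 (allL N51006 (tt N32769 (iv1 F177425)) (tt N45145 (iv0 F177328)) (tt N78380 (iv2 F248571)) (tt N26961 F143259) (tt N61113 (iv4 F178018)) (tt N26958 (iv5 D92880)) (tt N61531 (iv6 F178997)) (tt N34405 F161619))
theorem Q51008 : ∀ i, i < 51008 → P i := stepQ 51007 Q51007 (allL N51007 (tt N86100 D188880) (tt N86101 D188881) (tt N86044 (iv2 F374988)) (tt N26959 (iv3 D92881)) (tt N86098 (iv4 F375120)) (tt N28630 F293127) (tt N86102 D188882) (tt N85867 (iv7 F374269)))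
theorem Q51009 : ∀ i, i < 51009 → P i := stepQ 51008 Q51008 (allL N51008 (tt N86103 D188883) (tt N86104 D188884) (tt N85872 (iv2 F374286)) (tt N86102 (iv3 F375130)) (tt N26960 F143261) (tt N86105 D188885) (tt N26959 (iv6 D92883)) (tt N86106 D188886))
theorem Q51010 : ∀ i, i < 51010 → P i := stepQ 51009 Q51009 (allL N51009 (tt N85874 (iv1 F374296)) (tt N26960 (iv0 D92884)) (tt N85873 F374289) (tt N50358 (iv3 F368681)) (tt N86107 D188887) (tt N61513 F364518) (tt N86108 D188888) (tt N78885 (iv7 F364519)))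
theorem Q51011 : ∀ i, i < 51011 → P i := stepQ 51010 Q51010 (allL N51010 (tt N26960 (iv1 D92885)) (tt N85874 F374295) (tt N78885 (iv2 F251197)) (tt N66952 (iv3 F206225)) (tt N86109 D188889) (tt N32744 F143263) (tt N32745 (iv6 F143262)) (tt N85873 (iv7 F374290)))
theorem Q51012 : ∀ i, i < 51012 → P i := stepQ 51011 Q51011 (allL N51011 (tt N86110 D188890) (tt N86111 D188891) (tt N82033 (iv2 F336012)) (tt N61531 (iv3 F178996)) (tt N82030 (iv4 F353308)) (tt N26960 (iv5 D92886)) (tt N26961 F143264) (tt N79892 (iv7 F258807)))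
theorem Q51013 : ∀ i, i < 51013 → P i := stepQ 51012 Q51012 (allL N51012 (tt N78885 (iv1 F251201)) (tt N85873 F374291) (tt N85874 (iv2 F374292)) (tt N32956 F177447) (tt N86106 (iv4 F375133)) (tt N79892 (iv5 F258808)) (tt N85870 (iv6 F374277)) (tt N26960 (iv7 D92887)))
theorem Q51014 : ∀ i, i < 51014 → P i := stepQ 51013 Q51013 (allL N51013 (tt N49807 F143266) (tt N50075 F143267) (tt N67917 (iv2 F321773)) (tt N86112 D188892) (tt N26961 (iv4 D92888)) (tt N49235 F143265) (tt N82030 (iv6 F345527)) (tt N54885 (iv7 F293282)))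
theorem Q51015 : ∀ i, i < 51015 → P i := stepQ 51014 Q51014 (allL N51014 (tt N85871 (iv1 F374285)) (tt N50240 F157314) (tt N26962 (iv2 D92891)) (tt N79029 (iv3 F251915)) (tt N34358 F329555) (tt N84399 (iv5 F369153)) (tt N86113 D188893) (tt N44052 F329556))
theorem Q51016 : ∀ i, i < 51016 → P i := stepQ 51015 Q51015 (allL N51015 (tt N86114 D188894) (tt N51489 (iv0 F289385)) (tt N84399 (iv2 F369152)) (tt N26964 F143268) (tt N44057 F328903) (tt N26962 (iv5 D92893)) (tt N84404 (iv6 F369179)) (tt N27133 F143269))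
theorem Q51017 : ∀ i, i < 51017 → P i := stepQ 51016 Q51016 (allL N51016 (tt N75541 (iv1 F335956)) (tt N75538 (iv0 F335955)) (tt N86113 (iv2 F375145)) (tt N26965 F143270) (tt N55799 (iv4 F335954)) (tt N74894 F335952) (tt N26962 (iv6 D92894)) (tt N86115 D188895))
theorem Q51018 : ∀ i, i < 51018 → P i := stepQ 51017 Q51017 (allL N51017 (tt N26967 (iv1 F143272)) (tt N26963 (iv0 D92895)) (tt N51057 (iv2 F143360)) (tt N86116 D188896) (tt N50836 F143271) (tt N28629 (iv5 F292911)) (tt N86117 D188897) (tt N50873 F143273))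
theorem Q51019 : ∀ i, i < 51019 → P i := stepQ 51018 Q51018 (allL N51018 (tt N28439 F293430) (tt N28446 F293431) (tt N53645 F293432) (tt N86050 (iv3 F375012)) (tt N27013 F143274) (tt N26963 (iv5 D92897)) (tt N86118 D188898) (tt N49714 F293433))
theorem Q51020 : ∀ i, i < 51020 → P i := stepQ 51019 Q51019 (allL N51019 (tt N86119 D188899) (tt N86120 D188900) (tt N85877 (iv2 F374301)) (tt N86051 (iv3 F375014)) (tt N26965 F143275) (tt N86121 D188901) (tt N26963 (iv6 D92898)) (tt N86122 D188902))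
theorem Q51021 : ∀ i, i < 51021 → P i := stepQ 51020 Q51020 (allL N51020 (tt N85880 (iv1 F374308)) (tt N26965 (iv0 D92899)) (tt N85878 (iv2 F392319)) (tt N86123 D188904) (tt N59572 (iv4 F395004)) (tt N86124 D188905) (tt N86059 F375032) (tt N85879 (iv7 F392323)))
theorem Q51022 : ∀ i, i < 51022 → P i := stepQ 51021 Q51021 (allL N51021 (tt N26965 (iv1 D92900)) (tt N85880 F374307) (tt N85879 (iv2 F392322)) (tt N50370 (iv3 F375173)) (tt N59568 (iv4 F375174)) (tt N86125 D188909) (tt N86126 D188910) (tt N85878 (iv7 F392321)))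
theorem Q51023 : ∀ i, i < 51023 → P i := stepQ 51022 Q51022 (allL N51022 (tt N60848 F177030) (tt N86127 D188911) (tt N55401 (iv2 F159986)) (tt N74894 (iv3 F335953)) (tt N86128 D188912) (tt N26965 (iv5 D92901)) (tt N29378 F143276) (tt N86129 D188913))
theorem Q51024 : ∀ i, i < 51024 → P i := stepQ 51023 Q51023 (allL N51023 (tt N85879 (iv1 F374303)) (tt N85878 F374306) (tt N85880 (iv2 F374304)) (tt N86115 (iv3 F375157)) (tt N86122 (iv4 F375168)) (tt N86129 (iv5 F375187)) (tt N85885 (iv6 F374318)) (tt N26965 (iv7 D92902)))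
theorem Q51025 : ∀ i, i < 51025 → P i := stepQ 51024 Q51024 (allL N51024 (tt N50269 (iv1 F251917)) (tt N79031 F251922) (tt N26966 (iv2 D92905)) (tt N44052 F365409) (tt N61622 F365410) (tt N79036 (iv5 F251955)) (tt N86130 D188914) (tt N79029 (iv7 F251916)))
theorem Q51026 : ∀ i, i < 51026 → P i := stepQ 51025 Q51025 (allL N51025 (tt N79048 (iv1 F251988)) (tt N85282 (iv0 F372167)) (tt N61622 (iv2 F365411)) (tt N86099 (iv3 F375123)) (tt N26966 (iv4 D92906)) (tt N86098 F375121) (tt N86131 D188915) (tt N85875 (iv7 F374298)))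
theorem Q51027 : ∀ i, i < 51027 → P i := stepQ 51026 Q51026 (allL N51026 (tt N79042 F371817) (tt N86132 D188916) (tt N79036 (iv2 F251952)) (tt N26968 F143277) (tt N27547 (iv4 F143278)) (tt N26966 (iv5 D92907)) (tt N27086 (iv6 F143279)) (tt N53652 F292027))
theorem Q51028 : ∀ i, i < 51028 → P i := stepQ 51027 Q51027 (allL N51027 (tt N86133 D188917) (tt N86134 D188918) (tt N86130 (iv2 F375189)) (tt N26969 F143280) (tt N86131 (iv4 F375191)) (tt N86135 D188919) (tt N26966 (iv6 D92908)) (tt N86136 D188920))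
theorem Q51029 : ∀ i, i < 51029 → P i := stepQ 51028 Q51028 (allL N51028 (tt N77534 F363683) (tt N86137 D188921) (tt N86055 (iv2 F375020)) (tt N26967 (iv3 D92909)) (tt N86099 (iv4 F375124)) (tt N77511 (iv5 F365331)) (tt N86138 D188922) (tt N85876 (iv7 F374300)))
theorem Q51030 : ∀ i, i < 51030 → P i := stepQ 51029 Q51029 (allL N51029 (tt N28446 F294164) (tt N28439 F294165) (tt N49714 F294166) (tt N77511 F365330) (tt N27011 F143281) (tt N26967 (iv5 D92910)) (tt N86139 D188923) (tt N53645 F294167))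
theorem Q51031 : ∀ i, i < 51031 → P i := stepQ 51030 Q51030 (allL N51030 (tt N86140 D188924) (tt N86141 D188925) (tt N85882 (iv2 F374313)) (tt N86138 (iv3 F375209)) (tt N26969 F143282) (tt N85314 (iv5 F376854)) (tt N26967 (iv6 D92911)) (tt N86142 D188927))
theorem Q51032 : ∀ i, i < 51032 → P i := stepQ 51031 Q51031 (allL N51031 (tt N85885 (iv1 F374321)) (tt N26969 (iv0 D92912)) (tt N85883 (iv2 F413496)) (tt N50379 (iv3 F376566)) (tt N86143 D188930) (tt N86144 D188931) (tt N86145 D188932) (tt N85884 (iv7 F413493)))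
theorem Q51033 : ∀ i, i < 51033 → P i := stepQ 51032 Q51032 (allL N51032 (tt N26969 (iv1 D92913)) (tt N85885 F374320) (tt N85884 (iv2 F413491)) (tt N86146 D188934) (tt N86147 D188935) (tt N86148 D188936) (tt N86052 (iv6 F376560)) (tt N85883 (iv7 F413497)))
theorem Q51034 : ∀ i, i < 51034 → P i := stepQ 51033 Q51033 (allL N51033 (tt N86149 D188938) (tt N86150 D188939) (tt N27136 F143283) (tt N86135 (iv3 F375204)) (tt N86151 D188940) (tt N26969 (iv5 D92914)) (tt N27087 F143284) (tt N86152 D188941))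
theorem Q51035 : ∀ i, i < 51035 → P i := stepQ 51034 Q51034 (allL N51034 (tt N85884 (iv1 F374315)) (tt N85883 F374319) (tt N85885 (iv2 F374316)) (tt N86136 (iv3 F375207)) (tt N86142 (iv4 F375212)) (tt N86152 (iv5 F375224)) (tt N85880 (iv6 F374305)) (tt N26969 (iv7 D92915)))
theorem Q51036 : ∀ i, i < 51036 → P i := stepQ 51035 Q51035 (allL N51035 (tt N43546 F339947) (tt N43596 F339948) (tt N42918 F339949) (tt N26970 (iv3 D92916)) (tt N42934 F339950) (tt N36496 F339951) (tt N59641 F354406) (tt N77469 F339952))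
theorem Q51037 : ∀ i, i < 51037 → P i := stepQ 51036 Q51036 (allL N51036 (tt N29212 F292694) (tt N53199 F292695) (tt N53599 F292696) (tt N36496 F329720) (tt N27007 F143285) (tt N26970 (iv5 D92917)) (tt N86153 D188942) (tt N49822 F292697))
theorem Q51038 : ∀ i, i < 51038 → P i := stepQ 51037 Q51037 (allL N51037 (tt N59572 (iv1 F395003)) (tt N59568 (iv0 F387849)) (tt N59393 F354408) (tt N59641 (iv3 F354407)) (tt N85935 (iv4 F374505)) (tt N73088 (iv5 F354409)) (tt N26970 (iv6 D92918)) (tt N59638 (iv7 F354411)))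
theorem Q51039 : ∀ i, i < 51039 → P i := stepQ 51038 Q51038 (allL N51038 (tt N59643 F349175) (tt N59642 F349176) (tt N39969 F349177) (tt N26971 (iv3 D92919)) (tt N46748 F349178) (tt N30753 F349179) (tt N46749 F349180) (tt N59394 F349181))
theorem Q51040 : ∀ i, i < 51040 → P i := stepQ 51039 Q51039 (allL N51039 (tt N53199 F292914) (tt N29212 F292915) (tt N49822 F292916) (tt N30753 F335709) (tt N27002 F143286) (tt N26971 (iv5 D92920)) (tt N30751 F335710) (tt N53599 F292917))
theorem Q51041 : ∀ i, i < 51041 → P i := stepQ 51040 Q51040 (allL N51040 (tt N86143 (iv1 F394203)) (tt N86147 (iv0 F413456)) (tt N85886 (iv2 F374322)) (tt N46749 F354417) (tt N85936 (iv4 F374509)) (tt N85164 F371774) (tt N26971 (iv6 D92921)) (tt N59640 F354416))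
theorem Q51042 : ∀ i, i < 51042 → P i := stepQ 51041 Q51041 (allL N51041 (tt N86154 D188945) (tt N26972 (iv0 D92922)) (tt N61167 (iv2 F365817)) (tt N59634 (iv3 F400322)) (tt N61221 F365818) (tt N86155 D188947) (tt N59632 (iv6 F400321)) (tt N86156 D188949))
theorem Q51043 : ∀ i, i < 51043 → P i := stepQ 51042 Q51042 (allL N51042 (tt N26972 (iv1 D92923)) (tt N86154 F375235) (tt N86156 (iv2 F375237)) (tt N61169 F365815) (tt N61223 (iv4 F365813)) (tt N86157 D188950) (tt N86158 D188951) (tt N61167 F365816))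
theorem Q51044 : ∀ i, i < 51044 → P i := stepQ 51043 Q51043 (allL N51043 (tt N61167 F362364) (tt N86156 F375238) (tt N26972 (iv2 D92924)) (tt N85889 (iv3 F374325)) (tt N43597 F143287) (tt N86159 D188952) (tt N43596 F143288) (tt N86154 (iv7 F375234)))
theorem Q51045 : ∀ i, i < 51045 → P i := stepQ 51044 Q51044 (allL N51044 (tt N86160 D188953) (tt N86161 D188954) (tt N86159 (iv2 F375244)) (tt N26973 F143289) (tt N86162 D188955) (tt N26972 (iv5 D92925)) (tt N77472 (iv6 F242857)) (tt N85914 (iv7 F374442)))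
theorem Q51046 : ∀ i, i < 51046 → P i := stepQ 51045 Q51045 (allL N51045 (tt N86156 (iv1 F375239)) (tt N61167 (iv0 F365728)) (tt N86154 F375233) (tt N26974 F143290) (tt N50390 F143291) (tt N85914 (iv5 F374441)) (tt N86163 D188956) (tt N26972 (iv7 D92926)))
theorem Q51047 : ∀ i, i < 51047 → P i := stepQ 51046 Q51046 (allL N51046 (tt N27019 (iv1 F143294)) (tt N26973 (iv0 D92927)) (tt N28456 F292042) (tt N36498 F329199) (tt N26997 F143293) (tt N26985 F143292) (tt N56737 (iv6 F331774)) (tt N28213 F292043))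
theorem Q51048 : ∀ i, i < 51048 → P i := stepQ 51047 Q51047 (allL N51047 (tt N86164 D188957) (tt N86165 D188958) (tt N85892 (iv2 F374338)) (tt N77472 (iv3 F242856)) (tt N28627 F294172) (tt N77468 (iv5 F242849)) (tt N26973 (iv6 D92929)) (tt N86166 D188959))
theorem Q51049 : ∀ i, i < 51049 → P i := stepQ 51048 Q51048 (allL N51048 (tt N86167 D188960) (tt N86168 D188961) (tt N85893 (iv2 F374341)) (tt N86163 (iv3 F375255)) (tt N26975 F143298) (tt N86169 D188962) (tt N26974 (iv6 D92930)) (tt N86061 (iv7 F375037)))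
theorem Q51050 : ∀ i, i < 51050 → P i := stepQ 51049 Q51049 (allL N51049 (tt N85082 (iv1 F371579)) (tt N26975 (iv0 D92931)) (tt N85894 (iv2 F375263)) (tt N86170 D188964) (tt N86171 D188965) (tt N86172 D188966) (tt N86173 D188967) (tt N85895 F375266))
theorem Q51051 : ∀ i, i < 51051 → P i := stepQ 51050 Q51050 (allL N51050 (tt N26975 (iv1 D92932)) (tt N85082 F371576) (tt N85895 F375265) (tt N61609 (iv3 F371578)) (tt N86174 D188968) (tt N86175 D188969) (tt N61606 F371577) (tt N85894 (iv7 F375264)))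
theorem Q51052 : ∀ i, i < 51052 → P i := stepQ 51051 Q51051 (allL N51051 (tt N29282 (iv1 F143310)) (tt N29246 (iv0 F157753)) (tt N26976 (iv2 D92935)) (tt N29278 F143305) (tt N26981 F143306) (tt N30376 F295845) (tt N49302 F292583) (tt N29283 F143307))
theorem Q51053 : ∀ i, i < 51053 → P i := stepQ 51052 Q51052 (allL N51052 (tt N55278 (iv1 F159294)) (tt N55281 (iv0 F159301)) (tt N29280 F143320) (tt N30197 F295630) (tt N26977 (iv4 D92939)) (tt N49006 F292255) (tt N30195 F295631) (tt N29286 F143321))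
theorem Q51054 : ∀ i, i < 51054 → P i := stepQ 51053 Q51053 (allL N51053 (tt N28471 (iv1 F143349)) (tt N26978 (iv0 D92948)) (tt N28474 F155648) (tt N50808 F143348) (tt N48986 F143347) (tt N86176 D188970) (tt N54756 (iv6 F349289)) (tt N28473 F155649))
theorem Q51055 : ∀ i, i < 51055 → P i := stepQ 51054 Q51054 (allL N51054 (tt N26978 (iv1 D92949)) (tt N28471 F143356) (tt N28473 F155663) (tt N50403 F153165) (tt N28658 (iv4 F143350)) (tt N86177 D188971) (tt N49311 F349267) (tt N28474 F155664))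
theorem Q51056 : ∀ i, i < 51056 → P i := stepQ 51055 Q51055 (allL N51055 (tt N28474 (iv1 F143357)) (tt N28473 F143355) (tt N26978 (iv2 D92950)) (tt N50132 F143351) (tt N28491 F143352) (tt N86178 D188972) (tt N50404 F143353) (tt N28471 F143354))
theorem Q51057 : ∀ i, i < 51057 → P i := stepQ 51056 Q51056 (allL N51056 (tt N86179 D188973) (tt N86180 D188974) (tt N86178 (iv2 F375283)) (tt N26979 F143358) (tt N85195 (iv4 F371856)) (tt N26978 (iv5 D92951)) (tt N85922 (iv6 F374808)) (tt N28475 F143359))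
theorem Q51058 : ∀ i, i < 51058 → P i := stepQ 51057 Q51057 (allL N51057 (tt N50828 F143362) (tt N50825 F143363) (tt N51017 F143360) (tt N86181 D188975) (tt N26979 (iv4 D92952)) (tt N28453 F292328) (tt N86182 D188976) (tt N28479 F143361))
theorem Q51059 : ∀ i, i < 51059 → P i := stepQ 51058 Q51058 (allL N51058 (tt N86183 D188977) (tt N86184 D188978) (tt N85896 (iv2 F374347)) (tt N85922 (iv3 F374807)) (tt N86182 (iv4 F375309)) (tt N50407 F143364) (tt N26979 (iv6 D92953)) (tt N61163 (iv7 F178133)))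
theorem Q51060 : ∀ i, i < 51060 → P i := stepQ 51059 Q51059 (allL N51059 (tt N61216 (iv1 F205460)) (tt N61215 F205457) (tt N61217 F205455) (tt N50409 F143366) (tt N56925 (iv4 F339956)) (tt N26980 (iv5 D92955)) (tt N61211 F205459) (tt N36405 (iv7 F205456)))
theorem Q51061 : ∀ i, i < 51061 → P i := stepQ 51060 Q51060 (allL N51060 (tt N66773 F205422) (tt N85903 F374388) (tt N26982 F143375) (tt N85642 (iv3 F373336)) (tt N59110 (iv4 F339936)) (tt N26981 (iv5 D92961)) (tt N86185 D188979) (tt N59109 F339943))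
theorem Q51062 : ∀ i, i < 51062 → P i := stepQ 51061 Q51061 (allL N51061 (tt N59109 F360287) (tt N26982 (iv0 D92963)) (tt N66773 F205463) (tt N50412 (iv3 F251140)) (tt N56928 F335543) (tt N51407 F205464) (tt N32691 F205465) (tt N85903 (iv7 F374389)))
theorem Q51063 : ∀ i, i < 51063 → P i := stepQ 51062 Q51062 (allL N51062 (tt N26982 (iv1 D92964)) (tt N59109 F363681) (tt N85903 F374387) (tt N86186 D188980) (tt N56927 (iv4 F339935)) (tt N51408 (iv5 F205484)) (tt N86187 D188981) (tt N66773 F205483))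
theorem Q51064 : ∀ i, i < 51064 → P i := stepQ 51063 Q51063 (allL N51063 (tt N59108 F339937) (tt N59107 F339938) (tt N59110 F339939) (tt N43404 F339940) (tt N26982 (iv4 D92965)) (tt N30368 F339941) (tt N86188 D188982) (tt N30367 F339942))
theorem Q51065 : ∀ i, i < 51065 → P i := stepQ 51064 Q51064 (allL N51064 (tt N86189 D188983) (tt N82882 (iv0 F364999)) (tt N86185 (iv2 F375311)) (tt N26986 F143377) (tt N86188 (iv4 F375323)) (tt N49333 F292041) (tt N26982 (iv6 D92966)) (tt N86190 D188984))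
theorem Q51066 : ∀ i, i < 51066 → P i := stepQ 51065 Q51065 (allL N51065 (tt N86176 F375277) (tt N86177 (iv0 F375281)) (tt N86191 D188985) (tt N26983 (iv3 D92971)) (tt N85134 (iv4 F371714)) (tt N50779 F143381) (tt N86192 D188986) (tt N85346 (iv7 F372315)))
theorem Q51067 : ∀ i, i < 51067 → P i := stepQ 51066 Q51066 (allL N51066 (tt N50822 F143384) (tt N50817 F143385) (tt N50992 F143382) (tt N86193 D188987) (tt N26983 (iv4 D92972)) (tt N28446 F290827) (tt N86194 D188988) (tt N50993 F143383))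
theorem Q51068 : ∀ i, i < 51068 → P i := stepQ 51067 Q51067 (allL N51067 (tt N86195 D188989) (tt N86196 D188990) (tt N84721 (iv2 F370331)) (tt N86192 (iv3 F375335)) (tt N86194 (iv4 F375341)) (tt N32680 F143386) (tt N26983 (iv6 D92973)) (tt N86197 D188991))
theorem Q51069 : ∀ i, i < 51069 → P i := stepQ 51068 Q51068 (allL N51068 (tt N50134 F283823) (tt N50447 (iv0 F349148)) (tt N50449 F143388) (tt N26984 (iv3 D92974)) (tt N86198 D188992) (tt N28558 F294201) (tt N86199 D188993) (tt N50450 F143387))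
theorem Q51070 : ∀ i, i < 51070 → P i := stepQ 51069 Q51069 (allL N51069 (tt N50817 F143391) (tt N50822 F143392) (tt N50993 F143389) (tt N86200 D188994) (tt N26984 (iv4 D92975)) (tt N28439 F292001) (tt N86201 D188995) (tt N50992 F143390))
theorem Q51071 : ∀ i, i < 51071 → P i := stepQ 51070 Q51070 (allL N51070 (tt N85098 F371624) (tt N86202 D188996) (tt N85347 (iv2 F372318)) (tt N86199 (iv3 F375351)) (tt N86201 (iv4 F375358)) (tt N50232 F143393) (tt N26984 (iv6 D92976)) (tt N86203 D188997))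
theorem Q51072 : ∀ i, i < 51072 → P i := stepQ 51071 Q51071 (allL N51071 (tt N43874 F339898) (tt N43881 F339899) (tt N42926 F339900) (tt N26985 (iv3 D92977)) (tt N43404 F339901) (tt N36498 F339902) (tt N86204 D188998) (tt N77464 F339903))
theorem Q51073 : ∀ i, i < 51073 → P i := stepQ 51072 Q51072 (allL N51072 (tt N86082 (iv1 F376993)) (tt N86084 (iv0 F385132)) (tt N85899 (iv2 F374358)) (tt N86204 (iv3 F375362)) (tt N26986 F143394) (tt N86205 D189001) (tt N26985 (iv6 D92978)) (tt N86206 D189002))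
theorem Q51074 : ∀ i, i < 51074 → P i := stepQ 51073 Q51073 (allL N51073 (tt N85902 (iv1 F374382)) (tt N26986 (iv0 D92979)) (tt N85900 (iv2 F374379)) (tt N86207 D189003) (tt N86208 D189004) (tt N86209 D189005) (tt N86210 D189006) (tt N85901 (iv7 F374381)))
theorem Q51075 : ∀ i, i < 51075 → P i := stepQ 51074 Q51074 (allL N51074 (tt N26986 (iv1 D92980)) (tt N85902 F374369) (tt N85901 F374380) (tt N64845 F374377) (tt N64849 (iv4 F374383)) (tt N69484 (iv5 F374370)) (tt N86211 D189007) (tt N85900 F374378))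
theorem Q51076 : ∀ i, i < 51076 → P i := stepQ 51075 Q51075 (allL N51075 (tt N85901 (iv1 F374364)) (tt N85900 F374368) (tt N85902 (iv2 F374365)) (tt N86190 (iv3 F375327)) (tt N86206 (iv4 F375369)) (tt N49339 F292045) (tt N85907 (iv6 F374408)) (tt N26986 (iv7 D92982)))
theorem Q51077 : ∀ i, i < 51077 → P i := stepQ 51076 Q51076 (allL N51076 (tt N76707 (iv1 F239749)) (tt N76706 F239758) (tt N76708 (iv2 F239756)) (tt N50131 F143448) (tt N28537 F345120) (tt N26988 (iv5 D93010)) (tt N76701 (iv6 F239741)) (tt N48973 F143449))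
theorem Q51078 : ∀ i, i < 51078 → P i := stepQ 51077 Q51077 (allL N51077 (tt N50421 F159978) (tt N85897 F374353) (tt N26990 F143450) (tt N59109 (iv3 F340051)) (tt N50612 F340052) (tt N26989 (iv5 D93011)) (tt N86212 D189008) (tt N85642 (iv7 F373337)))
theorem Q51079 : ∀ i, i < 51079 → P i := stepQ 51078 Q51078 (allL N51078 (tt N49318 F290621) (tt N50223 F143452) (tt N26991 F143451) (tt N83642 (iv3 F288210)) (tt N53783 (iv4 F154627)) (tt N84719 (iv5 F370328)) (tt N26989 (iv6 D93012)) (tt N54856 (iv7 F291623)))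
theorem Q51080 : ∀ i, i < 51080 → P i := stepQ 51079 Q51079 (allL N51079 (tt N85642 F373341) (tt N26990 (iv0 D93013)) (tt N50421 (iv2 F143457)) (tt N43029 F365304) (tt N53782 F340055) (tt N84411 (iv5 F369198)) (tt N86213 D189009) (tt N85897 (iv7 F374354)))
theorem Q51081 : ∀ i, i < 51081 → P i := stepQ 51080 Q51080 (allL N51080 (tt N26990 (iv1 D93014)) (tt N85642 (iv0 F373339)) (tt N85897 F374352) (tt N28553 F291190) (tt N53216 F340054) (tt N28552 (iv5 F291329)) (tt N43266 (iv6 F143454)) (tt N50421 F143456))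
theorem Q51082 : ∀ i, i < 51082 → P i := stepQ 51081 Q51081 (allL N51081 (tt N48988 F340064) (tt N48984 F340065) (tt N50612 (iv2 F340053)) (tt N85647 (iv3 F373358)) (tt N26990 (iv4 D93015)) (tt N55312 (iv5 F340061)) (tt N86214 D189010) (tt N85641 (iv7 F373331)))
theorem Q51083 : ∀ i, i < 51083 → P i := stepQ 51082 Q51082 (allL N51082 (tt N86215 D189011) (tt N43278 (iv0 F143459)) (tt N86212 (iv2 F375387)) (tt N26993 F143458) (tt N86214 (iv4 F375399)) (tt N74465 (iv5 F355317)) (tt N26990 (iv6 D93016)) (tt N86216 D189012))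
theorem Q51084 : ∀ i, i < 51084 → P i := stepQ 51083 Q51083 (allL N51083 (tt N54856 (iv1 F291621)) (tt N26991 (iv0 D93017)) (tt N49318 F290622) (tt N85432 (iv3 F372611)) (tt N85666 (iv4 F373437)) (tt N41639 F317465) (tt N49316 F290623) (tt N50223 F143462))
theorem Q51085 : ∀ i, i < 51085 → P i := stepQ 51084 Q51084 (allL N51084 (tt N74500 (iv1 F339572)) (tt N50772 (iv0 F143465)) (tt N84719 F370329) (tt N26995 F143464) (tt N81309 F339573) (tt N26991 (iv5 D93018)) (tt N74465 F355314) (tt N54859 (iv7 F291383)))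
theorem Q51086 : ∀ i, i < 51086 → P i := stepQ 51085 Q51085 (allL N51085 (tt N62207 (iv1 F362359)) (tt N62206 (iv0 F358822)) (tt N62208 F339905) (tt N26992 (iv3 D93019)) (tt N85647 (iv4 F373359)) (tt N28455 F292039) (tt N86217 D189013) (tt N56740 (iv7 F362357)))
theorem Q51087 : ∀ i, i < 51087 → P i := stepQ 51086 Q51086 (allL N51086 (tt N86107 (iv1 F412224)) (tt N86109 (iv0 F413222)) (tt N85904 (iv2 F374392)) (tt N86217 (iv3 F375413)) (tt N26993 F143466) (tt N86218 D189016) (tt N26992 (iv6 D93020)) (tt N86219 D189017))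
theorem Q51088 : ∀ i, i < 51088 → P i := stepQ 51087 Q51087 (allL N51087 (tt N85907 (iv1 F374410)) (tt N26993 (iv0 D93021)) (tt N85905 (iv2 F374398)) (tt N86220 D189018) (tt N86221 D189019) (tt N86222 D189020) (tt N86223 D189021) (tt N85906 (iv7 F374400)))
theorem Q51089 : ∀ i, i < 51089 → P i := stepQ 51088 Q51088 (allL N51088 (tt N26993 (iv1 D93022)) (tt N85907 F374409) (tt N85906 (iv2 F374404)) (tt N86224 D189022) (tt N86225 D189023) (tt N85782 (iv5 F373913)) (tt N32684 (iv6 F143467)) (tt N85905 F374397))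
theorem Q51090 : ∀ i, i < 51090 → P i := stepQ 51089 Q51089 (allL N51089 (tt N86226 D189024) (tt N47933 F375434) (tt N83644 (iv2 F288220)) (tt N74465 (iv3 F355315)) (tt N86227 D189025) (tt N26993 (iv5 D93023)) (tt N26995 F143468) (tt N86228 D189026))
theorem Q51091 : ∀ i, i < 51091 → P i := stepQ 51090 Q51090 (allL N51090 (tt N85906 (iv1 F374399)) (tt N85905 F374405) (tt N85907 (iv2 F374406)) (tt N86216 (iv3 F375408)) (tt N86219 (iv4 F375417)) (tt N86228 (iv5 F375466)) (tt N85902 (iv6 F374367)) (tt N26993 (iv7 D93024)))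
theorem Q51092 : ∀ i, i < 51092 → P i := stepQ 51091 Q51091 (allL N51091 (tt N50455 F143473) (tt N50448 F143477) (tt N50453 (iv2 F143476)) (tt N26994 (iv3 D93025)) (tt N49069 F143469) (tt N32600 F143470) (tt N49296 F292415) (tt N49061 F143472))
theorem Q51093 : ∀ i, i < 51093 → P i := stepQ 51092 Q51092 (allL N51092 (tt N48626 F143479) (tt N50762 F143480) (tt N82742 F283779) (tt N65111 F339575) (tt N26995 (iv4 D93026)) (tt N49240 F143478) (tt N86227 (iv6 F375460)) (tt N54864 (iv7 F291387)))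
theorem Q51094 : ∀ i, i < 51094 → P i := stepQ 51093 Q51093 (allL N51093 (tt N28199 F292310) (tt N26996 (iv0 D93027)) (tt N28203 F292311) (tt N48935 F292312) (tt N50820 F292313) (tt N42981 F328509) (tt N83505 F292314) (tt N28202 F292315))
theorem Q51095 : ∀ i, i < 51095 → P i := stepQ 51094 Q51094 (allL N51094 (tt N50768 (iv1 F144900)) (tt N51439 (iv0 F144899)) (tt N84767 F370545) (tt N26998 (iv3 D93032)) (tt N49795 F143482) (tt N54748 (iv5 F157531)) (tt N28561 F290842) (tt N27271 F143483))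
theorem Q51096 : ∀ i, i < 51096 → P i := stepQ 51095 Q51095 (allL N51095 (tt N86229 D189027) (tt N52863 (iv0 F345184)) (tt N86230 D189028) (tt N27000 (iv3 D93039)) (tt N28561 F143503) (tt N28449 F292681) (tt N49795 F292682) (tt N28481 F143504))
theorem Q51097 : ∀ i, i < 51097 → P i := stepQ 51096 Q51096 (allL N51096 (tt N74193 (iv1 F350551)) (tt N50015 (iv0 F205514)) (tt N74194 F345178) (tt N27003 (iv3 D93054)) (tt N50662 F291245) (tt N61215 F205513) (tt N49835 F291246) (tt N27167 F143535))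
theorem Q51098 : ∀ i, i < 51098 → P i := stepQ 51097 Q51097 (allL N51097 (tt N49814 F329245) (tt N49813 F329246) (tt N27006 (iv2 D93058)) (tt N72599 (iv3 F357138)) (tt N53835 (iv4 F154796)) (tt N33912 F329247) (tt N86231 D189029) (tt N42917 F329248))
theorem Q51099 : ∀ i, i < 51099 → P i := stepQ 51098 Q51098 (allL N51098 (tt N86232 D189030) (tt N49501 (iv0 F365473)) (tt N86231 (iv2 F375485)) (tt N27008 F143541) (tt N53836 (iv4 F154799)) (tt N53499 (iv5 F365645)) (tt N27006 (iv6 D93060)) (tt N49424 (iv7 F291440)))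
theorem Q51100 : ∀ i, i < 51100 → P i := stepQ 51099 Q51099 (allL N51099 (tt N53577 F367218) (tt N86233 D189031) (tt N53600 F365414) (tt N77688 (iv3 F365413)) (tt N86153 (iv4 F375230)) (tt N53500 F367263) (tt N27007 (iv6 D93061)) (tt N86234 D189032))
theorem Q51101 : ∀ i, i < 51101 → P i := stepQ 51100 Q51100 (allL N51100 (tt N53832 F340070) (tt N51582 (iv0 F145586)) (tt N53831 F345031) (tt N27009 (iv3 D93063)) (tt N28096 F143546) (tt N76707 F239750) (tt N27094 F143547) (tt N49828 F291247))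
theorem Q51102 : ∀ i, i < 51102 → P i := stepQ 51101 Q51101 (allL N51101 (tt N85909 (iv1 F374422)) (tt N27010 (iv0 D93064)) (tt N85908 (iv2 F374415)) (tt N72458 (iv3 F345039)) (tt N86235 D189033) (tt N28606 F345035) (tt N47552 F345036) (tt N49558 F345037))
theorem Q51103 : ∀ i, i < 51103 → P i := stepQ 51102 Q51102 (allL N51102 (tt N27010 (iv1 D93065)) (tt N85909 F374423) (tt N49558 F357531) (tt N86236 D189034) (tt N86237 D189035) (tt N28607 F357532) (tt N27029 F357533) (tt N85908 (iv7 F374411)))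
theorem Q51104 : ∀ i, i < 51104 → P i := stepQ 51103 Q51103 (allL N51103 (tt N85908 F374416) (tt N49558 F294158) (tt N27010 (iv2 D93066)) (tt N49698 F294159) (tt N83219 (iv4 F286316)) (tt N53908 F294160) (tt N49412 F294161) (tt N85909 (iv7 F374421)))
theorem Q51105 : ∀ i, i < 51105 → P i := stepQ 51104 Q51104 (allL N51104 (tt N53879 F335721) (tt N53877 F335722) (tt N53908 F294162) (tt N27011 F143548) (tt N86238 D189036) (tt N27010 (iv5 D93067)) (tt N31555 F347691) (tt N53644 F294163))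
theorem Q51106 : ∀ i, i < 51106 → P i := stepQ 51105 Q51105 (allL N51105 (tt N86239 D189037) (tt N86240 D189038) (tt N49712 F294168) (tt N31555 F347693) (tt N86139 (iv4 F375211)) (tt N49415 F294169) (tt N27011 (iv6 D93071)) (tt N86241 D189039))
theorem Q51107 : ∀ i, i < 51107 → P i := stepQ 51106 Q51106 (allL N51106 (tt N49698 (iv1 F357619)) (tt N27012 (iv0 D93074)) (tt N49706 F357579) (tt N72822 F357580) (tt N49582 F357581) (tt N72821 F357582) (tt N27036 F357583) (tt N49705 F357584))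
theorem Q51108 : ∀ i, i < 51108 → P i := stepQ 51107 Q51107 (allL N51107 (tt N27012 (iv1 D93075)) (tt N49698 (iv0 F357590)) (tt N49705 (iv2 F357586)) (tt N86242 D189040) (tt N86243 D189041) (tt N71685 (iv5 F357587)) (tt N54529 (iv6 F357594)) (tt N49706 F357585))
theorem Q51109 : ∀ i, i < 51109 → P i := stepQ 51108 Q51108 (allL N51108 (tt N49706 (iv1 F357621)) (tt N49705 F357622) (tt N27012 (iv2 D93076)) (tt N85909 (iv3 F374417)) (tt N86244 D189042) (tt N86245 D189043) (tt N86246 D189044) (tt N49698 (iv7 F357620)))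
theorem Q51110 : ∀ i, i < 51110 → P i := stepQ 51109 Q51109 (allL N51109 (tt N52913 F343905) (tt N86247 D189045) (tt N86244 (iv2 F375549)) (tt N27557 F143566) (tt N27012 (iv4 D93077)) (tt N39357 F343906) (tt N51463 F343907) (tt N29314 F143567))
theorem Q51111 : ∀ i, i < 51111 → P i := stepQ 51110 Q51110 (allL N51110 (tt N53235 F357589) (tt N53236 (iv0 F343914)) (tt N86245 (iv2 F375559)) (tt N27013 F143568) (tt N86248 D189046) (tt N27012 (iv5 D93078)) (tt N86249 D189047) (tt N49707 F293429))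
theorem Q51112 : ∀ i, i < 51112 → P i := stepQ 51111 Q51111 (allL N51111 (tt N71859 (iv1 F356794)) (tt N49584 (iv0 F339531)) (tt N86246 (iv2 F375565)) (tt N27014 F143569) (tt N51463 F291494) (tt N52734 F291495) (tt N27012 (iv6 D93079)) (tt N49408 F291496))
theorem Q51113 : ∀ i, i < 51113 → P i := stepQ 51112 Q51112 (allL N51112 (tt N53948 F293434) (tt N86250 D189048) (tt N53646 F293435) (tt N86249 (iv3 F375584)) (tt N86118 (iv4 F375165)) (tt N52736 F293436) (tt N27013 (iv6 D93080)) (tt N86251 D189049))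
theorem Q51114 : ∀ i, i < 51114 → P i := stepQ 51113 Q51113 (allL N51113 (tt N86242 F375541) (tt N86252 D189050) (tt N53840 F362387) (tt N27015 (iv3 D93084)) (tt N50027 (iv4 F295159)) (tt N51203 F294633) (tt N49612 F294634) (tt N53843 (iv7 F293948)))
theorem Q51115 : ∀ i, i < 51115 → P i := stepQ 51114 Q51114 (allL N51114 (tt N52762 F336645) (tt N72458 F336649) (tt N72605 (iv2 F336650)) (tt N27016 (iv3 D93089)) (tt N49799 F294640) (tt N51205 F294641) (tt N49765 F294642) (tt N49626 F294643))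
theorem Q51116 : ∀ i, i < 51116 → P i := stepQ 51115 Q51115 (allL N51115 (tt N29342 F294650) (tt N48947 F294651) (tt N48945 F294652) (tt N76156 (iv3 F357015)) (tt N27017 (iv4 D93098)) (tt N55003 (iv5 F336635)) (tt N66985 F343443) (tt N48944 F294653))
theorem Q51117 : ∀ i, i < 51117 → P i := stepQ 51116 Q51116 (allL N51116 (tt N86253 D189051) (tt N66944 (iv0 F356741)) (tt N49024 F294654) (tt N27020 F143583) (tt N66985 (iv4 F356655)) (tt N27043 F143584) (tt N27017 (iv6 D93099)) (tt N86254 D189052))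
theorem Q51118 : ∀ i, i < 51118 → P i := stepQ 51117 Q51117 (allL N51117 (tt N72821 F357575) (tt N71685 F357576) (tt N86255 D189053) (tt N27018 (iv3 D93103)) (tt N74535 (iv4 F357572)) (tt N28238 F294231) (tt N72755 F357571) (tt N28237 F294232))
theorem Q51119 : ∀ i, i < 51119 → P i := stepQ 51118 Q51118 (allL N51118 (tt N72865 (iv1 F357568)) (tt N72861 F357567) (tt N28632 F294233) (tt N72755 (iv3 F357569)) (tt N86077 (iv4 F375060)) (tt N28683 F294234) (tt N27018 (iv6 D93104)) (tt N86256 D189054))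
theorem Q51120 : ∀ i, i < 51120 → P i := stepQ 51119 Q51119 (allL N51119 (tt N86257 D189055) (tt N86258 D189056) (tt N86259 D189057) (tt N27019 (iv3 D93105)) (tt N76156 F357084) (tt N85891 (iv5 F374333)) (tt N86260 D189058) (tt N85890 F374329))
theorem Q51121 : ∀ i, i < 51121 → P i := stepQ 51120 Q51120 (allL N51120 (tt N86261 D189059) (tt N86262 D189060) (tt N85915 (iv2 F374443)) (tt N86260 (iv3 F375617)) (tt N27020 F143587) (tt N86263 D189061) (tt N27019 (iv6 D93106)) (tt N86264 D189062))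
theorem Q51122 : ∀ i, i < 51122 → P i := stepQ 51121 Q51121 (allL N51121 (tt N85918 (iv1 F374463)) (tt N27020 (iv0 D93107)) (tt N85916 (iv2 F378697)) (tt N86265 D189064) (tt N86266 D189065) (tt N86267 D189066) (tt N86268 D189067) (tt N85917 (iv7 F378695)))
theorem Q51123 : ∀ i, i < 51123 → P i := stepQ 51122 Q51122 (allL N51122 (tt N27020 (iv1 D93108)) (tt N85918 F374462) (tt N85917 (iv2 F378694)) (tt N86269 D189069) (tt N86270 D189070) (tt N85571 (iv5 F373088)) (tt N86271 D189071) (tt N85916 (iv7 F378698)))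
theorem Q51124 : ∀ i, i < 51124 → P i := stepQ 51123 Q51123 (allL N51123 (tt N85917 (iv1 F374454)) (tt N85916 F374461) (tt N85918 (iv2 F374457)) (tt N86254 (iv3 F375595)) (tt N86264 (iv4 F375626)) (tt N27048 F143588) (tt N71652 F346650) (tt N27020 (iv7 D93109)))
theorem Q51125 : ∀ i, i < 51125 → P i := stepQ 51124 Q51124 (allL N51124 (tt N71636 (iv1 F361950)) (tt N71654 (iv0 F361948)) (tt N28627 F292959) (tt N49022 F292960) (tt N85892 (iv4 F374340)) (tt N28880 F292961) (tt N27021 (iv6 D93110)) (tt N71652 (iv7 F346647)))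
theorem Q51126 : ∀ i, i < 51126 → P i := stepQ 51125 Q51125 (allL N51125 (tt N49797 (iv1 F357224)) (tt N49433 (iv0 F335697)) (tt N49452 F295312) (tt N39690 F329304) (tt N28065 F295314) (tt N28974 F295315) (tt N27023 (iv6 D93130)) (tt N49796 (iv7 F343262)))
theorem Q51127 : ∀ i, i < 51127 → P i := stepQ 51126 Q51126 (allL N51126 (tt N50856 F143850) (tt N50858 F295258) (tt N82846 F295259) (tt N27024 (iv3 D93132)) (tt N82846 F295260) (tt N84757 (iv5 F370517)) (tt N72598 F365276) (tt N49450 F295261))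
theorem Q51128 : ∀ i, i < 51128 → P i := stepQ 51127 Q51127 (allL N51127 (tt N49454 F295293) (tt N49453 F295294) (tt N27026 F143635) (tt N50495 F143636) (tt N57827 F325748) (tt N27025 (iv5 D93136)) (tt N38676 F325749) (tt N46754 F295295))
theorem Q51129 : ∀ i, i < 51129 → P i := stepQ 51128 Q51128 (allL N51128 (tt N46754 F295152) (tt N27026 (iv0 D93138)) (tt N49454 F294612) (tt N82850 F294613) (tt N59935 (iv4 F326855)) (tt N27071 F295154) (tt N86272 D189072) (tt N49453 F294614))
theorem Q51130 : ∀ i, i < 51130 → P i := stepQ 51129 Q51129 (allL N51129 (tt N27026 (iv1 D93139)) (tt N46754 (iv0 F295141)) (tt N49453 F294620) (tt N86273 D189073) (tt N78140 (iv4 F360787)) (tt N27072 F295156) (tt N86274 D189074) (tt N49454 F294621))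
theorem Q51131 : ∀ i, i < 51131 → P i := stepQ 51130 Q51130 (allL N51130 (tt N59451 (iv1 F343101)) (tt N59450 F343100) (tt N57827 F325750) (tt N51159 (iv3 F143820)) (tt N27026 (iv4 D93140)) (tt N59328 (iv5 F343102)) (tt N30713 F325751) (tt N49455 (iv7 F295144)))
theorem Q51132 : ∀ i, i < 51132 → P i := stepQ 51131 Q51131 (allL N51131 (tt N50502 (iv1 F143654)) (tt N27027 (iv0 D93146)) (tt N50500 F295424) (tt N86275 D189075) (tt N49468 F295425) (tt N67227 (iv5 F332681)) (tt N86276 D189076) (tt N50501 F295426))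
theorem Q51133 : ∀ i, i < 51133 → P i := stepQ 51132 Q51132 (allL N51132 (tt N27027 (iv1 D93147)) (tt N50502 F143649) (tt N50501 F295427) (tt N86277 D189077) (tt N49469 F295428) (tt N67228 (iv5 F333051)) (tt N86278 D189078) (tt N50500 F295429))
theorem Q51134 : ∀ i, i < 51134 → P i := stepQ 51133 Q51133 (allL N51133 (tt N50501 (iv1 F143655)) (tt N50500 F143656) (tt N50502 F143652) (tt N36785 (iv3 F324643)) (tt N28788 (iv4 F295431)) (tt N36784 (iv5 F324645)) (tt N48172 F295324) (tt N27027 (iv7 D93149)))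
theorem Q51135 : ∀ i, i < 51135 → P i := stepQ 51134 Q51134 (allL N51134 (tt N51935 F364439) (tt N82886 F364440) (tt N47623 F364436) (tt N86279 D189079) (tt N27028 (iv4 D93198)) (tt N46785 F364437) (tt N46779 F364438) (tt N49556 F364441))
theorem Q51136 : ∀ i, i < 51136 → P i := stepQ 51135 Q51135 (allL N51135 (tt N54505 F356188) (tt N49742 F356190) (tt N47622 F335327) (tt N52764 F356192) (tt N46779 F335328) (tt N28866 F335329) (tt N27028 (iv6 D93200)) (tt N47552 F335330))
theorem Q51137 : ∀ i, i < 51137 → P i := stepQ 51136 Q51136 (allL N51136 (tt N52625 F295337) (tt N49376 F295338) (tt N52760 F295339) (tt N27029 (iv3 D93202)) (tt N52394 F295340) (tt N85467 (iv5 F372721)) (tt N86236 (iv6 F375507)) (tt N49559 F295341))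
theorem Q51138 : ∀ i, i < 51138 → P i := stepQ 51137 Q51137 (allL N51137 (tt N82886 F294339) (tt N51935 F294340) (tt N49556 F294341) (tt N27687 F294342) (tt N27029 (iv4 D93203)) (tt N47671 F335319) (tt N86237 (iv6 F375511)) (tt N47623 F335320))
theorem Q51139 : ∀ i, i < 51139 → P i := stepQ 51138 Q51138 (allL N51138 (tt N27562 F295192) (tt N27385 F295193) (tt N27031 F143777) (tt N52677 F295194) (tt N27030 (iv4 D93206)) (tt N86280 D189080) (tt N48526 F295444) (tt N27418 F295195))
theorem Q51140 : ∀ i, i < 51140 → P i := stepQ 51139 Q51139 (allL N51139 (tt N49562 (iv1 F295266)) (tt N49561 (iv0 F295265)) (tt N27032 F143779) (tt N50587 F143780) (tt N86281 D189081) (tt N27030 (iv5 D93207)) (tt N70509 (iv6 F347396)) (tt N49547 (iv7 F295264)))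
theorem Q51141 : ∀ i, i < 51141 → P i := stepQ 51140 Q51140 (allL N51140 (tt N46803 F294217) (tt N46802 F294218) (tt N27033 F143784) (tt N49578 F294219) (tt N48526 F295446) (tt N70510 (iv5 F339513)) (tt N27030 (iv6 D93208)) (tt N46801 F294221))
theorem Q51142 : ∀ i, i < 51142 → P i := stepQ 51141 Q51141 (allL N51141 (tt N27031 (iv1 D93209)) (tt N27418 F295187) (tt N27385 F295188) (tt N27545 F295189) (tt N28161 F295190) (tt N85463 (iv5 F372711)) (tt N83218 F357435) (tt N27562 F295191))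
theorem Q51143 : ∀ i, i < 51143 → P i := stepQ 51142 Q51142 (allL N51142 (tt N52149 F294514) (tt N86282 D189082) (tt N86280 (iv2 F375664)) (tt N48523 F143786) (tt N56428 (iv4 F360836)) (tt N27031 (iv5 D93210)) (tt N56427 F360835) (tt N49550 (iv7 F294895)))
theorem Q51144 : ∀ i, i < 51144 → P i := stepQ 51143 Q51143 (allL N51143 (tt N49547 (iv1 F295263)) (tt N27032 (iv0 D93212)) (tt N49562 (iv2 F357557)) (tt N52766 (iv3 F357535)) (tt N86283 D189083) (tt N50149 (iv5 F357537)) (tt N86284 D189084) (tt N49561 (iv7 F357559)))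
theorem Q51145 : ∀ i, i < 51145 → P i := stepQ 51144 Q51144 (allL N51144 (tt N27032 (iv1 D93213)) (tt N49547 (iv0 F295262)) (tt N49561 F357556) (tt N75142 (iv3 F347754)) (tt N86285 D189085) (tt N50150 F347752) (tt N75141 F347753) (tt N49562 (iv7 F357555)))
theorem Q51146 : ∀ i, i < 51146 → P i := stepQ 51145 Q51145 (allL N51145 (tt N86286 D189086) (tt N86287 D189087) (tt N86281 (iv2 F375670)) (tt N28168 F295308) (tt N27032 (iv4 D93214)) (tt N86288 D189088) (tt N86289 D189089) (tt N49563 (iv7 F295268)))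
theorem Q51147 : ∀ i, i < 51147 → P i := stepQ 51146 Q51146 (allL N51146 (tt N70341 F358067) (tt N86290 D189090) (tt N70509 F347392) (tt N27034 F143793) (tt N86289 (iv4 F375707)) (tt N57797 (iv5 F347391)) (tt N27032 (iv6 D93215)) (tt N86291 D189091))
theorem Q51148 : ∀ i, i < 51148 → P i := stepQ 51147 Q51147 (allL N51147 (tt N46801 F294208) (tt N27033 (iv0 D93216)) (tt N46803 F294209) (tt N48670 F295445) (tt N86279 (iv4 F375659)) (tt N69801 F365618) (tt N49677 F356201) (tt N46802 F294211))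
theorem Q51149 : ∀ i, i < 51149 → P i := stepQ 51148 Q51148 (allL N51148 (tt N27033 (iv1 D93217)) (tt N46801 F294212) (tt N46802 F294213) (tt N82943 F294214) (tt N51744 F294215) (tt N86292 D189092) (tt N86293 D189093) (tt N46803 F294216))
theorem Q51150 : ∀ i, i < 51150 → P i := stepQ 51149 Q51149 (allL N51149 (tt N53910 F294222) (tt N86294 D189094) (tt N70510 (iv2 F347389)) (tt N27035 F143794) (tt N86295 D189095) (tt N27033 (iv5 D93218)) (tt N57797 F347388) (tt N46804 F294223))
theorem Q51151 : ∀ i, i < 51151 → P i := stepQ 51150 Q51150 (allL N51150 (tt N50592 (iv1 F143802)) (tt N27034 (iv0 D93220)) (tt N50590 F352481) (tt N86296 D189096) (tt N28786 F295481) (tt N67265 F333049) (tt N86297 D189097) (tt N50591 F352556))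
theorem Q51152 : ∀ i, i < 51152 → P i := stepQ 51151 Q51151 (allL N51151 (tt N27034 (iv1 D93221)) (tt N50592 F143796) (tt N50591 F352553) (tt N70336 F349691) (tt N28787 F295482) (tt N67269 F333058) (tt N86298 D189098) (tt N50590 F352482))
theorem Q51153 : ∀ i, i < 51153 → P i := stepQ 51152 Q51152 (allL N51152 (tt N70486 (iv1 F332683)) (tt N70330 F332708) (tt N49603 F294226) (tt N57797 (iv3 F347390)) (tt N67439 F347402) (tt N27034 (iv5 D93222)) (tt N27035 F143798) (tt N54271 F294227))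
theorem Q51154 : ∀ i, i < 51154 → P i := stepQ 51153 Q51153 (allL N51153 (tt N50591 (iv1 F143803)) (tt N50590 F143804) (tt N50592 F143799) (tt N86291 (iv3 F375714)) (tt N28179 F295483) (tt N54271 (iv5 F352557)) (tt N49570 (iv6 F295271)) (tt N27034 (iv7 D93223)))
theorem Q51155 : ∀ i, i < 51155 → P i := stepQ 51154 Q51154 (allL N51154 (tt N53169 F293984) (tt N51479 F293985) (tt N53050 F344287) (tt N27036 (iv3 D93229)) (tt N50484 F143809) (tt N85505 (iv5 F372883)) (tt N72822 F349204) (tt N53053 (iv7 F344286)))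
theorem Q51156 : ∀ i, i < 51156 → P i := stepQ 51155 Q51155 (allL N51155 (tt N49605 F295434) (tt N27040 F295435) (tt N49607 (iv2 F344290)) (tt N27037 (iv3 D93234)) (tt N86299 D189099) (tt N85508 (iv5 F372886)) (tt N71862 (iv6 F339535)) (tt N49606 F344256))
theorem Q51157 : ∀ i, i < 51157 → P i := stepQ 51156 Q51156 (allL N51156 (tt N50547 (iv1 F338445)) (tt N50544 (iv0 F338427)) (tt N27039 F143812) (tt N49547 F295437) (tt N86300 D189100) (tt N27038 (iv5 D93238)) (tt N54273 F295438) (tt N50587 F143814))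
theorem Q51158 : ∀ i, i < 51158 → P i := stepQ 51157 Q51157 (allL N51157 (tt N50587 (iv1 F143818)) (tt N27039 (iv0 D93240)) (tt N50547 (iv2 F338446)) (tt N86301 D189101) (tt N82865 (iv4 F338450)) (tt N50144 F338447) (tt N75570 F338452) (tt N50544 F338448))
theorem Q51159 : ∀ i, i < 51159 → P i := stepQ 51158 Q51158 (allL N51158 (tt N27039 (iv1 D93241)) (tt N50587 F143819) (tt N50544 (iv2 F338429)) (tt N83243 F295439) (tt N82866 F295440) (tt N50145 (iv5 F338436)) (tt N86302 D189102) (tt N50547 (iv7 F338442)))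
theorem Q51160 : ∀ i, i < 51160 → P i := stepQ 51159 Q51159 (allL N51159 (tt N86303 D189103) (tt N64287 (iv0 F363991)) (tt N86300 (iv2 F375749)) (tt N51130 F143820) (tt N27039 (iv4 D93242)) (tt N79811 (iv5 F301261)) (tt N54282 F295442) (tt N50588 F143821))
theorem Q51161 : ∀ i, i < 51161 → P i := stepQ 51160 Q51160 (allL N51160 (tt N27040 (iv1 D93257)) (tt N49605 F294590) (tt N49606 F344288) (tt N53050 F294591) (tt N51242 F294592) (tt N85528 (iv5 F372948)) (tt N86252 (iv6 F375589)) (tt N49607 (iv7 F344289)))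
theorem Q51162 : ∀ i, i < 51162 → P i := stepQ 51161 Q51161 (allL N51161 (tt N83243 F294595) (tt N86304 D189104) (tt N70355 (iv2 F364230)) (tt N27041 F143837) (tt N86305 D189105) (tt N27040 (iv5 D93258)) (tt N70351 F364232) (tt N49608 (iv7 F295040)))
theorem Q51163 : ∀ i, i < 51163 → P i := stepQ 51162 Q51162 (allL N51162 (tt N48735 F295041) (tt N48733 F295042) (tt N50578 F143842) (tt N86306 D189106) (tt N27041 (iv4 D93261)) (tt N27954 (iv5 F295179)) (tt N86307 D189107) (tt N49609 (iv7 F295204)))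
theorem Q51164 : ∀ i, i < 51164 → P i := stepQ 51163 Q51163 (allL N51163 (tt N70337 (iv1 F349717)) (tt N70336 (iv0 F349692)) (tt N50579 F143844) (tt N70351 (iv3 F364233)) (tt N86307 (iv4 F375774)) (tt N48668 F294739) (tt N27041 (iv6 D93262)) (tt N70335 (iv7 F349710)))
theorem Q51165 : ∀ i, i < 51165 → P i := stepQ 51164 Q51164 (allL N51164 (tt N86308 D189108) (tt N86309 D189109) (tt N86310 D189110) (tt N27042 (iv3 D93281)) (tt N27044 F143861) (tt N41792 F356645) (tt N41795 F356646) (tt N50859 F143862))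
theorem Q51166 : ∀ i, i < 51166 → P i := stepQ 51165 Q51165 (allL N51165 (tt N86311 D189111) (tt N86312 D189112) (tt N82931 F295354) (tt N41795 F356647) (tt N27043 F143863) (tt N40748 F356648) (tt N27042 (iv6 D93282)) (tt N75970 (iv7 F356653)))
theorem Q51167 : ∀ i, i < 51167 → P i := stepQ 51166 Q51166 (allL N51166 (tt N82934 F295355) (tt N27043 (iv0 D93283)) (tt N82932 (iv2 F352540)) (tt N86313 D189113) (tt N86314 D189114) (tt N86315 D189115) (tt N86316 D189116) (tt N82933 F352541))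
theorem Q51168 : ∀ i, i < 51168 → P i := stepQ 51167 Q51167 (allL N51167 (tt N27043 (iv1 D93284)) (tt N82934 F295356) (tt N82933 F352539) (tt N70162 F352537) (tt N86317 D189117) (tt N86318 D189118) (tt N70160 (iv6 F352536)) (tt N82932 (iv7 F352538)))
theorem Q51169 : ∀ i, i < 51169 → P i := stepQ 51168 Q51168 (allL N51168 (tt N82933 F295357) (tt N82932 F295358) (tt N82934 F295359) (tt N27048 F143864) (tt N75970 F356758) (tt N86254 (iv5 F375597)) (tt N51460 F295360) (tt N27043 (iv7 D93285)))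
theorem Q51170 : ∀ i, i < 51170 → P i := stepQ 51169 Q51169 (allL N51169 (tt N48742 F295017) (tt N27044 (iv0 D93286)) (tt N50160 F366977) (tt N86319 D189119) (tt N85124 F374800) (tt N50051 F295018) (tt N85123 F374813) (tt N50157 (iv7 F294822)))
theorem Q51171 : ∀ i, i < 51171 → P i := stepQ 51170 Q51170 (allL N51170 (tt N27044 (iv1 D93287)) (tt N48742 F295019) (tt N50157 (iv2 F294821)) (tt N86320 D189120) (tt N63317 F374795) (tt N50052 F295020) (tt N63316 (iv6 F374792)) (tt N50160 (iv7 F366978)))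
theorem Q51172 : ∀ i, i < 51172 → P i := stepQ 51171 Q51171 (allL N51171 (tt N50160 (iv1 F366976)) (tt N50157 (iv0 F294912)) (tt N27044 (iv2 D93288)) (tt N27191 F295021) (tt N86310 (iv4 F375786)) (tt N27190 F295022) (tt N86321 D189121) (tt N48742 F295023))
theorem Q51173 : ∀ i, i < 51173 → P i := stepQ 51172 Q51172 (allL N51172 (tt N86322 D189122) (tt N86323 D189123) (tt N86321 (iv2 F375820)) (tt N27045 F143872) (tt N41795 F356649) (tt N54464 F295024) (tt N27044 (iv6 D93289)) (tt N86324 D189124))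
theorem Q51174 : ∀ i, i < 51174 → P i := stepQ 51173 Q51173 (allL N51173 (tt N51184 (iv1 F143882)) (tt N27045 (iv0 D93290)) (tt N51185 F295025) (tt N86325 D189125) (tt N53143 (iv4 F359435)) (tt N86326 D189126) (tt N86327 D189127) (tt N51186 F295026))
theorem Q51175 : ∀ i, i < 51175 → P i := stepQ 51174 Q51174 (allL N51174 (tt N27045 (iv1 D93291)) (tt N51184 F143881) (tt N51186 F295027) (tt N86328 D189128) (tt N53144 F359441) (tt N28837 F295028) (tt N84069 F367986) (tt N51185 F295029))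
theorem Q51176 : ∀ i, i < 51176 → P i := stepQ 51175 Q51175 (allL N51175 (tt N51186 (iv1 F143884)) (tt N51185 F143883) (tt N51184 (iv2 F143878)) (tt N86324 (iv3 F375827)) (tt N27048 F143874) (tt N54470 F295030) (tt N50863 F143875) (tt N27045 (iv7 D93293)))
theorem Q51177 : ∀ i, i < 51177 → P i := stepQ 51176 Q51176 (allL N51176 (tt N86329 D189134) (tt N85469 (iv0 F372728)) (tt N86330 D189135) (tt N27046 (iv3 D93295)) (tt N86331 D189136) (tt N69695 F372456) (tt N86332 D189137) (tt N85929 (iv7 F380068)))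
theorem Q51178 : ∀ i, i < 51178 → P i := stepQ 51177 Q51177 (allL N51177 (tt N83935 F368001) (tt N28188 F368002) (tt N83933 F368003) (tt N86333 D189139) (tt N27046 (iv4 D93296)) (tt N86334 D189140) (tt N86335 D189141) (tt N83934 F368004))
theorem Q51179 : ∀ i, i < 51179 → P i := stepQ 51178 Q51178 (allL N51178 (tt N53944 F366980) (tt N86336 D189142) (tt N85928 (iv2 F380062)) (tt N69695 (iv3 F372455)) (tt N86337 D189143) (tt N27046 (iv5 D93297)) (tt N69692 F372454) (tt N85930 (iv7 F380071)))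
theorem Q51180 : ∀ i, i < 51180 → P i := stepQ 51179 Q51179 (allL N51179 (tt N85521 (iv1 F378248)) (tt N54287 (iv0 F366981)) (tt N85406 (iv2 F380058)) (tt N86332 (iv3 F375855)) (tt N86335 (iv4 F375858)) (tt N84859 F370877) (tt N27046 (iv6 D93298)) (tt N85402 (iv7 F380057)))
theorem Q51181 : ∀ i, i < 51181 → P i := stepQ 51180 Q51180 (allL N51180 (tt N85507 (iv1 F375876)) (tt N86338 D189149) (tt N86339 D189150) (tt N27047 (iv3 D93300)) (tt N86340 D189151) (tt N86341 D189152) (tt N86342 D189153) (tt N85927 (iv7 F380060)))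
theorem Q51182 : ∀ i, i < 51182 → P i := stepQ 51181 Q51181 (allL N51181 (tt N28188 F367993) (tt N83935 F367994) (tt N83934 F367995) (tt N65364 F367996) (tt N27047 (iv4 D93301)) (tt N86343 D189154) (tt N65362 F367997) (tt N83933 F367998))
theorem Q51183 : ∀ i, i < 51183 → P i := stepQ 51182 Q51182 (allL N51182 (tt N86336 (iv1 F375860)) (tt N53944 (iv0 F367187)) (tt N85930 (iv2 F380070)) (tt N86341 (iv3 F375868)) (tt N86344 D189155) (tt N27047 (iv5 D93302)) (tt N53649 (iv6 F367188)) (tt N85928 (iv7 F380063)))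
theorem Q51184 : ∀ i, i < 51184 → P i := stepQ 51183 Q51183 (allL N51183 (tt N84070 F367991) (tt N84072 (iv0 F368011)) (tt N85931 (iv2 F380074)) (tt N86342 (iv3 F375869)) (tt N65362 F367992) (tt N86345 D189156) (tt N27047 (iv6 D93303)) (tt N82275 (iv7 F367999)))
theorem Q51185 : ∀ i, i < 51185 → P i := stepQ 51184 Q51184 (allL N51184 (tt N51174 (iv1 F143881)) (tt N51173 F143882) (tt N51175 F143878) (tt N51460 F295177) (tt N50863 F143879) (tt N86346 D189157) (tt N27048 (iv6 D93304)) (tt N27049 F143880))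
theorem Q51186 : ∀ i, i < 51186 → P i := stepQ 51185 Q51185 (allL N51185 (tt N51175 (iv1 F143883)) (tt N27049 (iv0 D93305)) (tt N51173 (iv2 F295025)) (tt N86347 D189158) (tt N83767 (iv4 F359438)) (tt N54399 F295174) (tt N86348 D189159) (tt N51174 (iv7 F295029)))
theorem Q51187 : ∀ i, i < 51187 → P i := stepQ 51186 Q51186 (allL N51186 (tt N27049 (iv1 D93306)) (tt N51175 F143884) (tt N51174 (iv2 F295027)) (tt N71397 (iv3 F365827)) (tt N70415 (iv4 F359434)) (tt N53386 F295175) (tt N54285 F295176) (tt N51173 (iv7 F295026)))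
theorem Q51188 : ∀ i, i < 51188 → P i := stepQ 51187 Q51187 (allL N51187 (tt N86349 D189160) (tt N70844 (iv0 F352853)) (tt N28878 (iv2 F294976)) (tt N51459 F294832) (tt N86350 D189161) (tt N27049 (iv5 D93307)) (tt N27050 F143886) (tt N86346 (iv7 F375879)))
theorem Q51189 : ∀ i, i < 51189 → P i := stepQ 51188 Q51188 (allL N51188 (tt N28355 F294827) (tt N28348 F294828) (tt N28877 F294829) (tt N86351 D189162) (tt N27050 (iv4 D93314)) (tt N49682 F294830) (tt N86350 (iv6 F375893)) (tt N28879 F294831))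
theorem Q51190 : ∀ i, i < 51190 → P i := stepQ 51189 Q51189 (allL N51189 (tt N28649 (iv1 F143902)) (tt N28403 F143900) (tt N27051 (iv2 D93320)) (tt N28441 F143896) (tt N28646 F143897) (tt N72549 F338288) (tt N48860 F143898) (tt N28642 F143899))
theorem Q51191 : ∀ i, i < 51191 → P i := stepQ 51190 Q51190 (allL N51190 (tt N72454 (iv1 F328892)) (tt N72600 (iv0 F364423)) (tt N72549 F338296) (tt N27052 F143904) (tt N86352 D189163) (tt N27051 (iv5 D93321)) (tt N62269 F362367) (tt N28650 F143905))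
theorem Q51192 : ∀ i, i < 51192 → P i := stepQ 51191 Q51191 (allL N51191 (tt N48945 F143909) (tt N48944 F143910) (tt N48947 F143906) (tt N86353 D189164) (tt N27052 (iv4 D93322)) (tt N29175 F294120) (tt N86354 D189165) (tt N29342 F143907))
theorem Q51193 : ∀ i, i < 51193 → P i := stepQ 51192 Q51192 (allL N51192 (tt N72567 (iv1 F362379)) (tt N62274 (iv0 F362377)) (tt N48948 F143911) (tt N62269 (iv3 F345099)) (tt N86354 (iv4 F375913)) (tt N48896 F143912) (tt N27052 (iv6 D93323)) (tt N72550 (iv7 F331754)))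
theorem Q51194 : ∀ i, i < 51194 → P i := stepQ 51193 Q51193 (allL N51193 (tt N28214 (iv1 F143919)) (tt N27053 (iv0 D93326)) (tt N28268 (iv2 F157765)) (tt N79105 (iv3 F349196)) (tt N53525 F153962) (tt N79104 F349198) (tt N28275 F157751) (tt N27917 F157752))
theorem Q51195 : ∀ i, i < 51195 → P i := stepQ 51194 Q51194 (allL N51194 (tt N63274 (iv1 F352991)) (tt N86355 D189166) (tt N28457 F143921) (tt N27054 F143922) (tt N86356 D189167) (tt N27053 (iv5 D93328)) (tt N86357 D189168) (tt N48949 F143923))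
theorem Q51196 : ∀ i, i < 51196 → P i := stepQ 51195 Q51195 (allL N51195 (tt N51218 (iv1 F144134)) (tt N51217 F144133) (tt N27059 F143927) (tt N86358 D189169) (tt N27054 (iv4 D93330)) (tt N29178 F293998) (tt N86359 D189170) (tt N29177 F293999))
theorem Q51197 : ∀ i, i < 51197 → P i := stepQ 51196 Q51196 (allL N51196 (tt N73295 F365360) (tt N86360 D189171) (tt N27060 F143929) (tt N86357 (iv3 F375923)) (tt N86359 (iv4 F375935)) (tt N48631 F294442) (tt N27054 (iv6 D93331)) (tt N86361 D189172))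
theorem Q51198 : ∀ i, i < 51198 → P i := stepQ 51197 Q51197 (allL N51197 (tt N28686 (iv1 F143942)) (tt N27055 (iv0 D93335)) (tt N28690 (iv2 F155689)) (tt N28236 (iv3 F153157)) (tt N75988 F235260) (tt N86362 D189173) (tt N49066 F344230) (tt N28689 F155690))
theorem Q51199 : ∀ i, i < 51199 → P i := stepQ 51198 Q51198 (allL N51198 (tt N27055 (iv1 D93336)) (tt N28686 (iv0 F143945)) (tt N28689 F155688) (tt N76191 F349190) (tt N50805 (iv4 F143943)) (tt N76190 (iv5 F349188)) (tt N48636 F361053) (tt N28690 (iv7 F155687)))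
theorem Q51200 : ∀ i, i < 51200 → P i := stepQ 51199 Q51199 (allL N51199 (tt N28690 (iv1 F143951)) (tt N28689 F143950) (tt N27055 (iv2 D93337)) (tt N49013 F143946) (tt N50132 F143947) (tt N72462 F339894) (tt N48972 F143948) (tt N28686 F143949))
theorem Q51201 : ∀ i, i < 51201 → P i := stepQ 51200 Q51200 (allL N51200 (tt N86363 D189174) (tt N72824 (iv0 F339912)) (tt N72462 F339893) (tt N27056 F143952) (tt N86364 D189175) (tt N27055 (iv5 D93338)) (tt N72461 F354435) (tt N28691 F143953))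
theorem Q51202 : ∀ i, i < 51202 → P i := stepQ 51201 Q51201 (allL N51201 (tt N34362 F329029) (tt N44064 F329030) (tt N44063 F329038) (tt N66309 (iv3 F364580)) (tt N27056 (iv4 D93340)) (tt N29172 F294744) (tt N66220 F334194) (tt N28696 F143961))
theorem Q51203 : ∀ i, i < 51203 → P i := stepQ 51202 Q51202 (allL N51202 (tt N66345 F329614) (tt N66344 F329615) (tt N31407 F329616) (tt N72461 F329617) (tt N66220 F329618) (tt N49007 F143965) (tt N27056 (iv6 D93341)) (tt N66346 F329619))
theorem Q51204 : ∀ i, i < 51204 → P i := stepQ 51203 Q51203 (allL N51203 (tt N86362 F375949) (tt N76190 (iv0 F349191)) (tt N59249 (iv2 F359968)) (tt N27057 (iv3 D93342)) (tt N77999 F359967) (tt N51113 (iv5 F294633)) (tt N59247 (iv6 F359969)) (tt N51214 (iv7 F144120)))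
theorem Q51205 : ∀ i, i < 51205 → P i := stepQ 51204 Q51204 (allL N51204 (tt N59238 F335392) (tt N59237 F335393) (tt N31580 F335394) (tt N59247 F335395) (tt N57379 F335396) (tt N64685 (iv5 F336365)) (tt N27057 (iv6 D93344)) (tt N59239 F335397))
theorem Q51206 : ∀ i, i < 51206 → P i := stepQ 51205 Q51205 (allL N51205 (tt N44394 F335378) (tt N44392 F335379) (tt N59252 F335380) (tt N27058 (iv3 D93345)) (tt N57377 F335381) (tt N51114 (iv5 F294641)) (tt N59244 F335382) (tt N31582 (iv7 F335383)))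
theorem Q51207 : ∀ i, i < 51207 → P i := stepQ 51206 Q51206 (allL N51206 (tt N77395 (iv1 F353744)) (tt N86365 D189176) (tt N49106 F143966) (tt N59244 F352343) (tt N77442 F336314) (tt N48826 F143967) (tt N27058 (iv6 D93347)) (tt N59241 (iv7 F352344)))
theorem Q51208 : ∀ i, i < 51208 → P i := stepQ 51207 Q51207 (allL N51207 (tt N29177 F294125) (tt N27059 (iv0 D93348)) (tt N51218 F144136) (tt N81125 F347869) (tt N29196 F294126) (tt N29204 F294127) (tt N86366 D189177) (tt N51217 (iv7 F144139)))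
theorem Q51209 : ∀ i, i < 51209 → P i := stepQ 51208 Q51208 (allL N51208 (tt N27059 (iv1 D93349)) (tt N29177 F294122) (tt N51217 F144138) (tt N44101 F336637) (tt N29210 F294123) (tt N29188 F294124) (tt N77445 (iv6 F353764)) (tt N51218 F144137))
theorem Q51210 : ∀ i, i < 51210 → P i := stepQ 51209 Q51209 (allL N51209 (tt N29175 (iv1 F293111)) (tt N29174 (iv0 F293110)) (tt N29178 (iv2 F293012)) (tt N44116 F329972) (tt N29113 F291976) (tt N27059 (iv5 D93351)) (tt N86367 D189178) (tt N29112 (iv7 F293011)))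
theorem Q51211 : ∀ i, i < 51211 → P i := stepQ 51210 Q51210 (allL N51210 (tt N86368 D189179) (tt N86369 D189180) (tt N86359 (iv2 F375933)) (tt N44117 F329973) (tt N27060 F143975) (tt N86370 D189181) (tt N27059 (iv6 D93352)) (tt N81071 F358755))
theorem Q51212 : ∀ i, i < 51212 → P i := stepQ 51211 Q51211 (allL N51211 (tt N86361 (iv1 F375945)) (tt N27060 (iv0 D93353)) (tt N73295 (iv2 F360200)) (tt N62058 (iv3 F354215)) (tt N60372 F354214) (tt N86371 D189182) (tt N86372 D189183) (tt N86360 (iv7 F375937)))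
theorem Q51213 : ∀ i, i < 51213 → P i := stepQ 51212 Q51212 (allL N51212 (tt N27060 (iv1 D93354)) (tt N86361 F375944) (tt N86360 F375939) (tt N31423 F360196) (tt N66233 F360197) (tt N86373 D189184) (tt N31421 F360198) (tt N73295 F360199))
theorem Q51214 : ∀ i, i < 51214 → P i := stepQ 51213 Q51213 (allL N51213 (tt N86360 (iv1 F375936)) (tt N73295 (iv0 F365359)) (tt N86361 (iv2 F375941)) (tt N55104 (iv3 F158763)) (tt N81071 (iv4 F358753)) (tt N48651 F295240) (tt N51223 (iv6 F144146)) (tt N27060 (iv7 D93356)))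
theorem Q51215 : ∀ i, i < 51215 → P i := stepQ 51214 Q51214 (allL N51214 (tt N54084 F348535) (tt N54087 F349149) (tt N86374 D189185) (tt N27061 (iv3 D93434)) (tt N86375 D189186) (tt N53843 (iv5 F293946)) (tt N83394 (iv6 F287517)) (tt N51203 F144120))
theorem Q51216 : ∀ i, i < 51216 → P i := stepQ 51215 Q51215 (allL N51215 (tt N34376 F329730) (tt N44079 (iv0 F329790)) (tt N44077 F329896) (tt N86376 D189187) (tt N27061 (iv4 D93435)) (tt N50400 F336625) (tt N75431 (iv6 F336312)) (tt N44078 F329897))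
theorem Q51217 : ∀ i, i < 51217 → P i := stepQ 51216 Q51216 (allL N51216 (tt N44079 (iv1 F329791)) (tt N34376 F329729) (tt N44078 F329900) (tt N30477 F335389) (tt N27062 (iv4 D93437)) (tt N54923 F336623) (tt N30475 F335390) (tt N44077 F329901))
theorem Q51218 : ∀ i, i < 51218 → P i := stepQ 51217 Q51217 (allL N51217 (tt N51195 (iv1 F144133)) (tt N27063 (iv0 D93439)) (tt N51208 (iv2 F144138)) (tt N86377 D189188) (tt N54936 (iv4 F294032)) (tt N54931 (iv5 F336626)) (tt N75463 F353765) (tt N51207 F144139))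
theorem Q51219 : ∀ i, i < 51219 → P i := stepQ 51218 Q51218 (allL N51218 (tt N27063 (iv1 D93440)) (tt N51195 F144134) (tt N51207 (iv2 F144136)) (tt N63792 (iv3 F338747)) (tt N49877 F144135) (tt N54933 (iv5 F336631)) (tt N82191 (iv6 F338754)) (tt N51208 (iv7 F144137)))
theorem Q51220 : ∀ i, i < 51220 → P i := stepQ 51219 Q51219 (allL N51219 (tt N47197 F358736) (tt N47181 F358737) (tt N47194 (iv2 F358740)) (tt N47971 F358738) (tt N27064 F144144) (tt N86378 D189189) (tt N27063 (iv6 D93443)) (tt N47195 F358739))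
theorem Q51221 : ∀ i, i < 51221 → P i := stepQ 51220 Q51220 (allL N51220 (tt N83215 (iv1 F286299)) (tt N27064 (iv0 D93444)) (tt N83213 (iv2 F358792)) (tt N86379 D189190) (tt N86380 D189191) (tt N86381 D189192) (tt N86382 D189193) (tt N83214 (iv7 F358793)))
theorem Q51222 : ∀ i, i < 51222 → P i := stepQ 51221 Q51221 (allL N51221 (tt N27064 (iv1 D93445)) (tt N83215 F286298) (tt N83214 F358762) (tt N47772 F358763) (tt N80847 F358764) (tt N86383 D189194) (tt N43713 F358765) (tt N83213 F358766))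
theorem Q51223 : ∀ i, i < 51223 → P i := stepQ 51222 Q51222 (allL N51222 (tt N86384 D189195) (tt N86385 D189196) (tt N82670 (iv2 F283615)) (tt N53658 (iv3 F154252)) (tt N86386 D189197) (tt N27064 (iv5 D93446)) (tt N27065 F144145) (tt N86387 D189198))
theorem Q51224 : ∀ i, i < 51224 → P i := stepQ 51223 Q51223 (allL N51223 (tt N83214 (iv1 F286294)) (tt N83213 F286297) (tt N83215 (iv2 F286296)) (tt N53659 (iv3 F154254)) (tt N47195 F358752) (tt N86387 (iv5 F376035)) (tt N51213 F144146) (tt N27064 (iv7 D93447)))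
theorem Q51225 : ∀ i, i < 51225 → P i := stepQ 51224 Q51224 (allL N51224 (tt N77069 (iv1 F338032)) (tt N82625 (iv0 F283285)) (tt N82669 (iv2 F283611)) (tt N86388 D189199) (tt N27065 (iv4 D93448)) (tt N49071 F144147) (tt N86386 (iv6 F376034)) (tt N55606 (iv7 F294289)))
theorem Q51226 : ∀ i, i < 51226 → P i := stepQ 51225 Q51225 (allL N51225 (tt N86389 D189200) (tt N52541 (iv0 F367217)) (tt N86390 D189201) (tt N27067 (iv3 D93521)) (tt N50468 (iv4 F292051)) (tt N54925 (iv5 F365264)) (tt N49969 F365265) (tt N49963 (iv7 F292212)))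
theorem Q51227 : ∀ i, i < 51227 → P i := stepQ 51226 Q51226 (allL N51226 (tt N29188 F291977) (tt N29204 F291978) (tt N63798 (iv2 F347879)) (tt N86391 D189202) (tt N27068 (iv4 D93527)) (tt N54095 (iv5 F155934)) (tt N86392 D189203) (tt N49964 (iv7 F292275)))
theorem Q51228 : ∀ i, i < 51228 → P i := stepQ 51227 Q51227 (allL N51227 (tt N39225 F366473) (tt N86393 D189204) (tt N83217 (iv2 F286311)) (tt N50664 F291979) (tt N86392 (iv4 F376063)) (tt N55171 F291980) (tt N27068 (iv6 D93528)) (tt N86394 D189205))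
theorem Q51229 : ∀ i, i < 51229 → P i := stepQ 51228 Q51228 (allL N51228 (tt N28354 F294606) (tt N54736 F294607) (tt N28406 F294608) (tt N86395 D189206) (tt N27071 (iv4 D93757)) (tt N28067 F294609) (tt N28398 F294610) (tt N50059 (iv7 F254764)))
theorem Q51230 : ∀ i, i < 51230 → P i := stepQ 51229 Q51229 (allL N51229 (tt N84747 F370458) (tt N84749 F370468) (tt N84881 F370989) (tt N27072 (iv3 D93761)) (tt N84881 (iv4 F370987)) (tt N86273 (iv5 F375637)) (tt N54682 F367073) (tt N50060 F254751))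
theorem Q51231 : ∀ i, i < 51231 → P i := stepQ 51230 Q51230 (allL N51230 (tt N54736 F294616) (tt N28354 F294617) (tt N50059 (iv2 F254765)) (tt N48627 (iv3 F144525)) (tt N27072 (iv4 D93762)) (tt N28066 (iv5 F295155)) (tt N50211 F294618) (tt N28406 F294619))
theorem Q51232 : ∀ i, i < 51232 → P i := stepQ 51231 Q51231 (allL N51231 (tt N50063 (iv1 F144529)) (tt N50062 F144530) (tt N27074 F144526) (tt N50508 F144527) (tt N86396 D189207) (tt N27073 (iv5 D93765)) (tt N82248 F351155) (tt N50061 F144528))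
theorem Q51233 : ∀ i, i < 51233 → P i := stepQ 51232 Q51232 (allL N51232 (tt N86397 D189208) (tt N86398 D189209) (tt N86396 (iv2 F376087)) (tt N84865 (iv3 F370903)) (tt N27074 (iv4 D93768)) (tt N30951 F327465) (tt N82284 F367072) (tt N30950 F327466))
theorem Q51234 : ∀ i, i < 51234 → P i := stepQ 51233 Q51233 (allL N51233 (tt N50518 (iv1 F144538)) (tt N27075 (iv0 D93770)) (tt N50515 F367222) (tt N86399 D189210) (tt N50065 F354763) (tt N86400 D189211) (tt N28175 F294629) (tt N50516 F367226))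
theorem Q51235 : ∀ i, i < 51235 → P i := stepQ 51234 Q51234 (allL N51234 (tt N27075 (iv1 D93771)) (tt N50518 F144535) (tt N50516 F367225) (tt N86401 D189212) (tt N50066 F351148) (tt N86402 D189213) (tt N86403 D189214) (tt N50515 (iv7 F367224)))
theorem Q51236 : ∀ i, i < 51236 → P i := stepQ 51235 Q51235 (allL N51235 (tt N50516 (iv1 F144539)) (tt N50515 F144540) (tt N50518 F144536) (tt N82247 F351143) (tt N84869 (iv4 F370924)) (tt N84982 (iv5 F371253)) (tt N50067 F144537) (tt N27075 (iv7 D93772)))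
theorem Q51237 : ∀ i, i < 51237 → P i := stepQ 51236 Q51236 (allL N51236 (tt N78994 F333360) (tt N79040 F333361) (tt N79026 (iv2 F251898)) (tt N27078 F144541) (tt N48562 F144542) (tt N43171 F144543) (tt N27076 (iv6 D93773)) (tt N85791 (iv7 F373955)))
theorem Q51238 : ∀ i, i < 51238 → P i := stepQ 51237 Q51237 (allL N51237 (tt N61021 F364729) (tt N50734 (iv0 F364730)) (tt N51467 (iv2 F145078)) (tt N28129 F144544) (tt N27078 F144545) (tt N56299 (iv5 F163380)) (tt N27077 (iv6 D93774)) (tt N84707 (iv7 F370294)))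
theorem Q51239 : ∀ i, i < 51239 → P i := stepQ 51238 Q51238 (allL N51238 (tt N51492 (iv1 F333374)) (tt N51504 (iv0 F335778)) (tt N32842 F144546) (tt N43171 F144547) (tt N44556 (iv4 F144549)) (tt N27078 (iv5 D93777)) (tt N32841 F144548) (tt N85792 (iv7 F373962)))
theorem Q51240 : ∀ i, i < 51240 → P i := stepQ 51239 Q51239 (allL N51239 (tt N32796 (iv1 F144554)) (tt N27079 (iv0 D93779)) (tt N32798 (iv2 F144552)) (tt N32881 F144551) (tt N29901 F144550) (tt N86404 D189215) (tt N32879 (iv6 F144555)) (tt N29897 F144553))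
theorem Q51241 : ∀ i, i < 51241 → P i := stepQ 51240 Q51240 (allL N51240 (tt N58906 (iv1 F171426)) (tt N68140 (iv0 F209190)) (tt N51303 (iv2 F144694)) (tt N27084 F144556) (tt N86405 D189216) (tt N27079 (iv5 D93780)) (tt N27082 F144557) (tt N86406 D189217))
theorem Q51242 : ∀ i, i < 51242 → P i := stepQ 51241 Q51241 (allL N51241 (tt N29897 (iv1 F144562)) (tt N32798 F144563) (tt N32796 F144558) (tt N27085 F144559) (tt N32796 F144560) (tt N86406 (iv5 F376131)) (tt N32796 F144561) (tt N27079 (iv7 D93781)))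
theorem Q51243 : ∀ i, i < 51243 → P i := stepQ 51242 Q51242 (allL N51242 (tt N83759 F367041) (tt N51499 (iv0 F157236)) (tt N84103 (iv2 F368119)) (tt N27080 (iv3 D93783)) (tt N51160 (iv4 F294592)) (tt N86407 D189218) (tt N86408 D189219) (tt N51472 F344291))
theorem Q51244 : ∀ i, i < 51244 → P i := stepQ 51243 Q51243 (allL N51243 (tt N84439 F369262) (tt N50724 (iv0 F178353)) (tt N51469 (iv2 F344279)) (tt N28134 (iv3 F144565)) (tt N27080 (iv4 D93784)) (tt N86409 D189220) (tt N86410 D189221) (tt N51473 (iv7 F344282)))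
theorem Q51245 : ∀ i, i < 51245 → P i := stepQ 51244 Q51244 (allL N51244 (tt N47667 F344301) (tt N52749 F344302) (tt N51470 F344293) (tt N86407 (iv3 F376135)) (tt N86411 D189222) (tt N27080 (iv5 D93785)) (tt N86412 D189223) (tt N51474 F344292))
theorem Q51246 : ∀ i, i < 51246 → P i := stepQ 51245 Q51245 (allL N51245 (tt N50082 (iv1 F364370)) (tt N53201 (iv0 F364369)) (tt N51471 (iv2 F344307)) (tt N86408 (iv3 F376136)) (tt N86410 (iv4 F376142)) (tt N50103 F144566) (tt N27080 (iv6 D93786)) (tt N53653 F364347))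
theorem Q51247 : ∀ i, i < 51247 → P i := stepQ 51246 Q51246 (allL N51246 (tt N51481 (iv1 F157563)) (tt N79034 F251931) (tt N79033 F344304) (tt N27081 (iv3 D93788)) (tt N48564 F144568) (tt N86413 D189224) (tt N86414 D189225) (tt N51468 (iv7 F344303)))
theorem Q51248 : ∀ i, i < 51248 → P i := stepQ 51247 Q51247 (allL N51247 (tt N50724 (iv1 F178354)) (tt N84439 (iv0 F369261)) (tt N51473 F344283) (tt N51396 (iv3 F144817)) (tt N27081 (iv4 D93789)) (tt N86415 D189226) (tt N86416 D189227) (tt N51469 (iv7 F344274)))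
theorem Q51249 : ∀ i, i < 51249 → P i := stepQ 51248 Q51248 (allL N51248 (tt N52749 F335770) (tt N47667 F335771) (tt N51474 F344294) (tt N86413 (iv3 F376146)) (tt N86417 D189228) (tt N27081 (iv5 D93790)) (tt N86418 D189229) (tt N51470 (iv7 F344300)))
theorem Q51250 : ∀ i, i < 51250 → P i := stepQ 51249 Q51249 (allL N51249 (tt N53829 F364358) (tt N50043 F364360) (tt N51475 F344295) (tt N86414 (iv3 F376150)) (tt N86416 (iv4 F376155)) (tt N83616 F335769) (tt N27081 (iv6 D93791)) (tt N85795 (iv7 F373977)))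
theorem Q51251 : ∀ i, i < 51251 → P i := stepQ 51250 Q51250 (allL N51250 (tt N50711 (iv1 F293601)) (tt N27082 (iv0 D93792)) (tt N51476 F155695) (tt N86419 D189230) (tt N83599 F367202) (tt N27931 F295139) (tt N86420 D189231) (tt N51477 F155693))
theorem Q51252 : ∀ i, i < 51252 → P i := stepQ 51251 Q51251 (allL N51251 (tt N27082 (iv1 D93793)) (tt N50711 (iv0 F293600)) (tt N51477 (iv2 F155692)) (tt N86421 D189232) (tt N83598 (iv4 F367200)) (tt N27930 F295516) (tt N86422 D189233) (tt N51476 (iv7 F155694)))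
theorem Q51253 : ∀ i, i < 51253 → P i := stepQ 51252 Q51252 (allL N51252 (tt N69452 (iv1 F373607)) (tt N86423 D189234) (tt N51478 (iv2 F145095)) (tt N86424 D189235) (tt N27082 (iv4 D93794)) (tt N86425 D189236) (tt N86405 (iv6 F376126)) (tt N52122 F363537))
theorem Q51254 : ∀ i, i < 51254 → P i := stepQ 51253 Q51253 (allL N51253 (tt N51477 (iv1 F145093)) (tt N51476 F145099) (tt N50711 (iv2 F293602)) (tt N27093 F144570) (tt N52122 (iv4 F363535)) (tt N27083 F144571) (tt N52121 F363533) (tt N27082 (iv7 D93795)))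
theorem Q51255 : ∀ i, i < 51255 → P i := stepQ 51254 Q51254 (allL N51254 (tt N86426 D189237) (tt N56445 (iv0 F163769)) (tt N27128 F144572) (tt N86427 D189238) (tt N27084 (iv4 D93796)) (tt N86428 D189239) (tt N27092 F144573) (tt N86429 D189240))
theorem Q51256 : ∀ i, i < 51256 → P i := stepQ 51255 Q51255 (allL N51255 (tt N27127 (iv1 F144576)) (tt N27126 F144577) (tt N27129 F144574) (tt N86406 (iv3 F376130)) (tt N86429 (iv4 F376187)) (tt N27085 F144575) (tt N86430 D189241) (tt N27084 (iv7 D93797)))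
theorem Q51257 : ∀ i, i < 51257 → P i := stepQ 51256 Q51256 (allL N51256 (tt N86431 D189242) (tt N52112 (iv0 F331381)) (tt N79035 (iv2 F251932)) (tt N27087 F144588) (tt N83713 (iv4 F331406)) (tt N27086 (iv5 D93801)) (tt N86135 (iv6 F375205)) (tt N27140 F144589))
theorem Q51258 : ∀ i, i < 51258 → P i := stepQ 51257 Q51257 (allL N51257 (tt N51411 (iv1 F144849)) (tt N51413 (iv0 F144855)) (tt N27135 F144594) (tt N86432 D189243) (tt N27087 (iv4 D93803)) (tt N50341 F144596) (tt N86151 (iv6 F375221)) (tt N27142 F144595))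
theorem Q51259 : ∀ i, i < 51259 → P i := stepQ 51258 Q51258 (allL N51258 (tt N27088 (iv1 D93805)) (tt N27131 F144602) (tt N27130 F152544) (tt N83759 (iv3 F367043)) (tt N53169 (iv4 F152588)) (tt N76414 (iv5 F238554)) (tt N50713 (iv6 F294240)) (tt N27104 F157253))
theorem Q51260 : ∀ i, i < 51260 → P i := stepQ 51259 Q51259 (allL N51259 (tt N76400 (iv1 F288413)) (tt N86000 (iv0 F374839)) (tt N85412 (iv2 F372529)) (tt N27089 F144604) (tt N86433 D189244) (tt N27088 (iv5 D93807)) (tt N76423 (iv6 F238571)) (tt N27132 F144605))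
theorem Q51261 : ∀ i, i < 51261 → P i := stepQ 51260 Q51260 (allL N51260 (tt N85019 (iv1 F371388)) (tt N78997 (iv0 F288415)) (tt N84403 (iv2 F369175)) (tt N27090 F144606) (tt N28165 F144607) (tt N55396 (iv5 F159972)) (tt N27088 (iv6 D93808)) (tt N84404 (iv7 F369180)))
theorem Q51262 : ∀ i, i < 51262 → P i := stepQ 51261 Q51261 (allL N51261 (tt N51413 (iv1 F144856)) (tt N51411 (iv0 F144848)) (tt N27142 F144608) (tt N86434 D189245) (tt N27089 (iv4 D93809)) (tt N51264 (iv5 F144613)) (tt N86435 D189246) (tt N27135 F144609))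
theorem Q51263 : ∀ i, i < 51263 → P i := stepQ 51262 Q51262 (allL N51262 (tt N86436 D189247) (tt N86437 D189248) (tt N27143 F144610) (tt N76423 F238572) (tt N86435 (iv4 F376206)) (tt N55398 (iv5 F159980)) (tt N27089 (iv6 D93810)) (tt N86438 D189249))
theorem Q51264 : ∀ i, i < 51264 → P i := stepQ 51263 Q51263 (allL N51263 (tt N37468 F235284) (tt N32125 F235285) (tt N37467 F157808) (tt N27091 (iv3 D93811)) (tt N52534 F331362) (tt N29090 F293764) (tt N86439 D189250) (tt N27150 F144611))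
theorem Q51265 : ∀ i, i < 51265 → P i := stepQ 51264 Q51264 (allL N51264 (tt N51399 (iv1 F144832)) (tt N50723 F144615) (tt N27148 F144612) (tt N86440 D189251) (tt N27091 (iv4 D93812)) (tt N51261 F144613) (tt N86441 D189252) (tt N27151 F144614))
theorem Q51266 : ∀ i, i < 51266 → P i := stepQ 51265 Q51265 (allL N51265 (tt N86442 D189253) (tt N86443 D189254) (tt N27149 F144616) (tt N86439 (iv3 F376225)) (tt N86441 (iv4 F376233)) (tt N84486 (iv5 F369505)) (tt N27091 (iv6 D93813)) (tt N86444 D189255))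
theorem Q51267 : ∀ i, i < 51267 → P i := stepQ 51266 Q51266 (allL N51266 (tt N27157 (iv1 F144619)) (tt N27092 (iv0 D93814)) (tt N27153 (iv2 F144618)) (tt N86445 D189256) (tt N29474 F293541) (tt N51275 (iv5 F144651)) (tt N86446 D189257) (tt N27154 F144620))
theorem Q51268 : ∀ i, i < 51268 → P i := stepQ 51267 Q51267 (allL N51267 (tt N86447 D189258) (tt N86448 D189259) (tt N86449 D189260) (tt N27092 (iv3 D93815)) (tt N86424 (iv4 F376173)) (tt N51389 (iv5 F144787)) (tt N86427 (iv6 F376184)) (tt N51388 F144785))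
theorem Q51269 : ∀ i, i < 51269 → P i := stepQ 51268 Q51268 (allL N51268 (tt N69604 (iv1 F376677)) (tt N86450 D189262) (tt N27158 F144621) (tt N52121 (iv3 F363534)) (tt N51390 (iv4 F144788)) (tt N50712 (iv5 F293603)) (tt N27093 (iv6 D93816)) (tt N86430 (iv7 F376193)))
theorem Q51270 : ∀ i, i < 51270 → P i := stepQ 51269 Q51269 (allL N51269 (tt N83802 F291015) (tt N49317 F291016) (tt N83785 F345029) (tt N27095 F144622) (tt N86451 D189263) (tt N27094 (iv5 D93817)) (tt N86452 D189264) (tt N27179 F144623))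
theorem Q51271 : ∀ i, i < 51271 → P i := stepQ 51270 Q51270 (allL N51270 (tt N27095 (iv1 D93818)) (tt N27098 F144624) (tt N27169 (iv2 F144627)) (tt N86453 D189265) (tt N51337 (iv4 F144747)) (tt N27174 F144626) (tt N85789 (iv6 F373945)) (tt N27168 F144625))
theorem Q51272 : ∀ i, i < 51272 → P i := stepQ 51271 Q51271 (allL N51271 (tt N49277 F144631) (tt N54888 F367155) (tt N27170 F144628) (tt N86454 D189266) (tt N27095 (iv4 D93819)) (tt N50430 F144630) (tt N86455 D189267) (tt N27181 F144629))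
theorem Q51273 : ∀ i, i < 51273 → P i := stepQ 51272 Q51272 (allL N51272 (tt N86456 D189268) (tt N86457 D189269) (tt N27171 F144632) (tt N86452 (iv3 F376253)) (tt N86455 (iv4 F376268)) (tt N85936 (iv5 F374510)) (tt N27095 (iv6 D93820)) (tt N86458 D189270))
theorem Q51274 : ∀ i, i < 51274 → P i := stepQ 51273 Q51273 (allL N51273 (tt N86459 D189271) (tt N85947 (iv0 F374559)) (tt N85763 (iv2 F373825)) (tt N27098 F144646) (tt N86460 D189272) (tt N27097 (iv5 D93825)) (tt N56673 (iv6 F205518)) (tt N27166 F144647))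
theorem Q51275 : ∀ i, i < 51275 → P i := stepQ 51274 Q51274 (allL N51274 (tt N84918 F371091) (tt N84922 (iv0 F371101)) (tt N85764 (iv2 F373831)) (tt N27099 F144648) (tt N27526 F144649) (tt N85964 (iv5 F374645)) (tt N27097 (iv6 D93826)) (tt N49835 F291391))
theorem Q51276 : ∀ i, i < 51276 → P i := stepQ 51275 Q51275 (allL N51275 (tt N54888 (iv1 F367154)) (tt N49277 F144653) (tt N27181 F144650) (tt N86461 D189273) (tt N27098 (iv4 D93827)) (tt N51266 F144651) (tt N86462 D189274) (tt N27170 F144652))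
theorem Q51277 : ∀ i, i < 51277 → P i := stepQ 51276 Q51276 (allL N51276 (tt N86463 D189275) (tt N86464 D189276) (tt N27182 F144654) (tt N56673 F205519) (tt N86462 (iv4 F376292)) (tt N85965 (iv5 F374651)) (tt N27098 (iv6 D93828)) (tt N86465 D189277))
theorem Q51278 : ∀ i, i < 51278 → P i := stepQ 51277 Q51277 (allL N51277 (tt N35350 F144659) (tt N43684 F144660) (tt N43682 F144655) (tt N48437 F144656) (tt N43745 F144657) (tt N27100 (iv5 D93829)) (tt N86466 D189278) (tt N43683 F144658))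
theorem Q51279 : ∀ i, i < 51279 → P i := stepQ 51278 Q51278 (allL N51278 (tt N49580 F157630) (tt N82647 (iv0 F283464)) (tt N49380 F144661) (tt N52485 (iv3 F149770)) (tt N27101 F144662) (tt N86467 D189279) (tt N27100 (iv6 D93830)) (tt N51520 (iv7 F157635)))
theorem Q51280 : ∀ i, i < 51280 → P i := stepQ 51279 Q51279 (allL N51279 (tt N84103 F368122) (tt N51472 F157231) (tt N51499 (iv2 F145332)) (tt N27104 F144663) (tt N28018 F144664) (tt N76406 (iv5 F238529)) (tt N27102 (iv6 D93834)) (tt N83759 (iv7 F367045)))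
theorem Q51281 : ∀ i, i < 51281 → P i := stepQ 51280 Q51280 (allL N51280 (tt N85812 F374066) (tt N53049 (iv0 F333365)) (tt N78995 F283585) (tt N52507 (iv3 F149853)) (tt N27105 (iv4 D93840)) (tt N86468 D189280) (tt N86469 D189281) (tt N78998 F283563))
theorem Q51282 : ∀ i, i < 51282 → P i := stepQ 51281 Q51281 (allL N51281 (tt N86470 D189282) (tt N78959 F283584) (tt N78996 F283583) (tt N79039 (iv3 F251967)) (tt N84197 (iv4 F368491)) (tt N27105 (iv5 D93841)) (tt N84196 F368489) (tt N78999 (iv7 F283552)))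
theorem Q51283 : ∀ i, i < 51283 → P i := stepQ 51282 Q51282 (allL N51282 (tt N84403 (iv1 F369183)) (tt N84404 (iv0 F369182)) (tt N78997 (iv2 F283590)) (tt N51541 (iv3 F350453)) (tt N86469 (iv4 F376318)) (tt N62811 F183749) (tt N27105 (iv6 D93842)) (tt N85019 (iv7 F371387)))
theorem Q51284 : ∀ i, i < 51284 → P i := stepQ 51283 Q51283 (allL N51283 (tt N79026 (iv1 F364170)) (tt N85791 (iv0 F373956)) (tt N79040 (iv2 F251974)) (tt N27106 (iv3 D93844)) (tt N83895 F367432) (tt N86471 D189283) (tt N86472 D189284) (tt N78994 (iv7 F283529)))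
theorem Q51285 : ∀ i, i < 51285 → P i := stepQ 51284 Q51284 (allL N51284 (tt N53049 (iv1 F333366)) (tt N85812 (iv0 F374065)) (tt N78998 F283564) (tt N49281 F144669) (tt N27106 (iv4 D93845)) (tt N86473 D189285) (tt N86474 D189286) (tt N78995 (iv7 F283581)))
theorem Q51286 : ∀ i, i < 51286 → P i := stepQ 51285 Q51285 (allL N51285 (tt N78959 F251745) (tt N86470 F376322) (tt N78999 F283565) (tt N86471 (iv3 F376325)) (tt N86475 D189287) (tt N27106 (iv5 D93846)) (tt N34004 (iv6 F144670)) (tt N78996 (iv7 F283582)))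
theorem Q51287 : ∀ i, i < 51287 → P i := stepQ 51286 Q51286 (allL N51286 (tt N50363 (iv1 F371854)) (tt N51523 (iv0 F369307)) (tt N51528 (iv2 F288158)) (tt N86472 (iv3 F376327)) (tt N86474 (iv4 F376331)) (tt N84812 (iv5 F370706)) (tt N27106 (iv6 D93847)) (tt N51529 (iv7 F288162)))
theorem Q51288 : ∀ i, i < 51288 → P i := stepQ 51287 Q51287 (allL N51287 (tt N85792 (iv1 F373964)) (tt N32842 F290279) (tt N51492 (iv2 F145314)) (tt N27108 (iv3 D93848)) (tt N44018 F343009) (tt N49229 F144671) (tt N62457 (iv6 F333377)) (tt N51504 (iv7 F145392)))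
theorem Q51289 : ∀ i, i < 51289 → P i := stepQ 51288 Q51288 (allL N51288 (tt N32939 F353834) (tt N81444 F353837) (tt N49247 F144672) (tt N62457 (iv3 F353835)) (tt N75184 (iv4 F343350)) (tt N54889 F363541) (tt N27108 (iv6 D93849)) (tt N73780 (iv7 F334777)))
theorem Q51290 : ∀ i, i < 51290 → P i := stepQ 51289 Q51289 (allL N51289 (tt N81331 F363209) (tt N81292 (iv0 F334553)) (tt N79906 (iv2 F258902)) (tt N27109 (iv3 D93850)) (tt N78963 (iv4 F251580)) (tt N69389 (iv5 F319156)) (tt N78884 (iv6 F251193)) (tt N81330 (iv7 F362052)))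
theorem Q51291 : ∀ i, i < 51291 → P i := stepQ 51290 Q51290 (allL N51290 (tt N32892 (iv1 F144675)) (tt N32891 F144676) (tt N32894 F144673) (tt N64172 (iv3 F193439)) (tt N81440 (iv4 F353784)) (tt N51498 (iv5 F145331)) (tt N27110 (iv6 D93851)) (tt N32886 F144674))
theorem Q51292 : ∀ i, i < 51292 → P i := stepQ 51291 Q51291 (allL N51291 (tt N85791 F373957) (tt N79026 (iv0 F364169)) (tt N78994 (iv2 F251692)) (tt N27111 (iv3 D93853)) (tt N83894 (iv4 F367423)) (tt N86476 D189288) (tt N86477 D189289) (tt N79040 (iv7 F283530)))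
theorem Q51293 : ∀ i, i < 51293 → P i := stepQ 51292 Q51292 (allL N51292 (tt N85175 F371807) (tt N84485 F369502) (tt N79039 F283551) (tt N86476 (iv3 F376336)) (tt N86478 D189290) (tt N27111 (iv5 D93854)) (tt N86479 D189291) (tt N79041 F283543))
theorem Q51294 : ∀ i, i < 51294 → P i := stepQ 51293 Q51293 (allL N51293 (tt N51535 (iv1 F288032)) (tt N51542 F288031) (tt N51541 (iv2 F350452)) (tt N86477 (iv3 F376338)) (tt N52539 (iv4 F149908)) (tt N75720 F233526) (tt N27111 (iv6 D93855)) (tt N51540 F353199))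
theorem Q51295 : ∀ i, i < 51295 → P i := stepQ 51294 Q51294 (allL N51294 (tt N84485 F369501) (tt N85175 (iv0 F371806)) (tt N79041 F283544) (tt N78999 (iv3 F251697)) (tt N86480 D189292) (tt N27112 (iv5 D93857)) (tt N80024 (iv6 F259546)) (tt N79039 (iv7 F283550)))
theorem Q51296 : ∀ i, i < 51296 → P i := stepQ 51295 Q51295 (allL N51295 (tt N53652 F365309) (tt N79036 (iv0 F251956)) (tt N79042 F283545) (tt N51528 (iv3 F288159)) (tt N52541 (iv4 F149911)) (tt N51004 F161636) (tt N27112 (iv6 D93858)) (tt N86132 (iv7 F375192)))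
theorem Q51297 : ∀ i, i < 51297 → P i := stepQ 51296 Q51296 (allL N51296 (tt N64195 (iv1 F193570)) (tt N27113 (iv0 D93859)) (tt N64201 (iv2 F251676)) (tt N78978 (iv3 F251644)) (tt N85779 (iv4 F373897)) (tt N50351 (iv5 F193571)) (tt N86481 D189293) (tt N64202 (iv7 F251674)))
theorem Q51298 : ∀ i, i < 51298 → P i := stepQ 51297 Q51297 (allL N51297 (tt N64202 (iv1 F193579)) (tt N64201 F193578) (tt N64195 (iv2 F193564)) (tt N27117 F144679) (tt N79038 (iv4 F251962)) (tt N27114 F144680) (tt N32903 F144681) (tt N27113 (iv7 D93861)))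
theorem Q51299 : ∀ i, i < 51299 → P i := stepQ 51298 Q51298 (allL N51298 (tt N32842 F290244) (tt N85792 (iv0 F373965)) (tt N51504 (iv2 F145390)) (tt N27115 (iv3 D93863)) (tt N44019 F317611) (tt N50205 F144683) (tt N61746 (iv6 F335809)) (tt N51492 (iv7 F145315)))
theorem Q51300 : ∀ i, i < 51300 → P i := stepQ 51299 Q51299 (allL N51299 (tt N81530 (iv1 F365717)) (tt N81529 F365716) (tt N51494 (iv2 F145317)) (tt N61746 F335811) (tt N54632 (iv4 F367268)) (tt N50206 F144684) (tt N27115 (iv6 D93864)) (tt N81531 (iv7 F365715)))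
theorem Q51301 : ∀ i, i < 51301 → P i := stepQ 51300 Q51300 (allL N51300 (tt N77345 F361980) (tt N77149 F361981) (tt N49654 (iv2 F308363)) (tt N27116 (iv3 D93865)) (tt N52455 (iv4 F149703)) (tt N54430 F307501) (tt N49403 F307502) (tt N77344 (iv7 F368360)))
theorem Q51302 : ∀ i, i < 51302 → P i := stepQ 51301 Q51301 (allL N51301 (tt N50783 (iv1 F144689)) (tt N50781 F144690) (tt N51497 (iv2 F145321)) (tt N77344 F368361) (tt N27117 F144687) (tt N50541 F144688) (tt N64791 (iv6 F352390)) (tt N27116 (iv7 D93867)))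
theorem Q51303 : ∀ i, i < 51303 → P i := stepQ 51302 Q51302 (allL N51302 (tt N86482 D189294) (tt N80483 (iv0 F364024)) (tt N51498 (iv2 F145330)) (tt N32903 F144691) (tt N64791 F352389) (tt N32894 F144692) (tt N27117 (iv6 D93868)) (tt N32893 F144693))
theorem Q51304 : ∀ i, i < 51304 → P i := stepQ 51303 Q51303 (allL N51303 (tt N56622 (iv1 F164468)) (tt N56629 (iv0 F164490)) (tt N51240 F144694) (tt N27120 F144695) (tt N86483 D189295) (tt N27118 (iv5 D93869)) (tt N27208 F144696) (tt N61340 (iv7 F178632)))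
theorem Q51305 : ∀ i, i < 51305 → P i := stepQ 51304 Q51304 (allL N51304 (tt N56594 (iv1 F164380)) (tt N56283 (iv0 F163325)) (tt N27234 F144697) (tt N34066 F144698) (tt N86484 D189296) (tt N27119 (iv5 D93870)) (tt N29096 F355639) (tt N27232 F144699))
theorem Q51306 : ∀ i, i < 51306 → P i := stepQ 51305 Q51305 (allL N51305 (tt N27237 (iv1 F144704)) (tt N27236 F144705) (tt N27239 F144702) (tt N61340 (iv3 F178631)) (tt N79860 F294560) (tt N27121 F144703) (tt N85741 (iv6 F373756)) (tt N27120 (iv7 D93872)))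
theorem Q51307 : ∀ i, i < 51307 → P i := stepQ 51306 Q51306 (allL N51306 (tt N32177 F144708) (tt N32176 (iv0 F144709)) (tt N32180 F144706) (tt N60170 (iv3 F175853)) (tt N86485 D189297) (tt N27122 (iv5 D93873)) (tt N86486 D189298) (tt N32175 F144707))
theorem Q51308 : ∀ i, i < 51308 → P i := stepQ 51307 Q51307 (allL N51307 (tt N27125 (iv1 F144711)) (tt N27123 (iv0 D93874)) (tt N69482 (iv2 F214486)) (tt N86487 D189299) (tt N86488 D189300) (tt N37285 F144710) (tt N86489 D189301) (tt N69483 (iv7 F214492)))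
theorem Q51309 : ∀ i, i < 51309 → P i := stepQ 51308 Q51308 (allL N51308 (tt N27123 (iv1 D93875)) (tt N27125 F144712) (tt N69483 (iv2 F214491)) (tt N51506 (iv3 F145400)) (tt N86490 D189302) (tt N37284 F144713) (tt N86437 F376211) (tt N69482 (iv7 F214488)))
theorem Q51310 : ∀ i, i < 51310 → P i := stepQ 51309 Q51309 (allL N51309 (tt N86491 D189303) (tt N86492 D189304) (tt N69489 (iv2 F214512)) (tt N86493 D189305) (tt N27123 (iv4 D93876)) (tt N86494 D189306) (tt N86495 D189307) (tt N76308 (iv7 F238156)))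
theorem Q51311 : ∀ i, i < 51311 → P i := stepQ 51310 Q51310 (allL N51310 (tt N86496 D189308) (tt N86497 D189309) (tt N69490 (iv2 F214516)) (tt N57271 (iv3 F165934)) (tt N86495 (iv4 F376387)) (tt N84799 (iv5 F370661)) (tt N27123 (iv6 D93877)) (tt N86498 D189310))
theorem Q51312 : ∀ i, i < 51312 → P i := stepQ 51311 Q51311 (allL N51311 (tt N86492 (iv1 F376380)) (tt N86491 F376378) (tt N76308 (iv2 F238155)) (tt N86499 D189311) (tt N27125 (iv4 D93878)) (tt N86500 D189312) (tt N86501 D189313) (tt N69489 (iv7 F214514)))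
theorem Q51313 : ∀ i, i < 51313 → P i := stepQ 51312 Q51312 (allL N51312 (tt N54894 F355663) (tt N54889 (iv0 F363542)) (tt N54892 (iv2 F293755)) (tt N29576 F144714) (tt N86501 (iv4 F376394)) (tt N29573 F144715) (tt N27125 (iv6 D93879)) (tt N54893 F364522))
theorem Q51314 : ∀ i, i < 51314 → P i := stepQ 51313 Q51313 (allL N51313 (tt N86502 D189314) (tt N83953 (iv0 F367594)) (tt N68135 (iv2 F209182)) (tt N86503 D189315) (tt N27126 (iv4 D93880)) (tt N86504 D189316) (tt N86505 D189317) (tt N86043 (iv7 F374986)))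
theorem Q51315 : ∀ i, i < 51315 → P i := stepQ 51314 Q51314 (allL N51314 (tt N86506 D189318) (tt N86507 D189319) (tt N68136 (iv2 F209184)) (tt N76408 (iv3 F238535)) (tt N86505 (iv4 F376399)) (tt N83654 F288293) (tt N27126 (iv6 D93881)) (tt N83675 (iv7 F288404)))
theorem Q51316 : ∀ i, i < 51316 → P i := stepQ 51315 Q51315 (allL N51315 (tt N83953 (iv1 F367595)) (tt N86502 F376396) (tt N86043 (iv2 F374985)) (tt N86508 D189320) (tt N27127 (iv4 D93882)) (tt N86509 D189321) (tt N86510 D189322) (tt N68135 (iv7 F209183)))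
theorem Q51317 : ∀ i, i < 51317 → P i := stepQ 51316 Q51316 (allL N51316 (tt N86144 F376218) (tt N86148 (iv0 F376562)) (tt N86041 (iv2 F374982)) (tt N37462 F144716) (tt N86510 (iv4 F376401)) (tt N78779 (iv5 F250865)) (tt N27127 (iv6 D93883)) (tt N86511 D189324))
theorem Q51318 : ∀ i, i < 51318 → P i := stepQ 51317 Q51317 (allL N51317 (tt N86429 (iv1 F376189)) (tt N27128 (iv0 D93884)) (tt N86426 F376179) (tt N86512 D189325) (tt N30064 F144717) (tt N86513 D189326) (tt N86514 D189327) (tt N56445 (iv7 F163768)))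
theorem Q51319 : ∀ i, i < 51319 → P i := stepQ 51318 Q51318 (allL N51318 (tt N27128 (iv1 D93885)) (tt N86429 F376188) (tt N56445 (iv2 F164428)) (tt N86515 D189328) (tt N56443 F164427) (tt N86516 D189329) (tt N86517 D189330) (tt N86426 (iv7 F376180)))
theorem Q51320 : ∀ i, i < 51320 → P i := stepQ 51319 Q51319 (allL N51319 (tt N86518 D189331) (tt N86519 D189332) (tt N86520 D189333) (tt N27128 (iv3 D93886)) (tt N51517 (iv4 F145404)) (tt N86490 F376409) (tt N27155 F144718) (tt N86521 D189334))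
theorem Q51321 : ∀ i, i < 51321 → P i := stepQ 51320 Q51320 (allL N51320 (tt N86522 D189335) (tt N86523 D189336) (tt N86428 (iv2 F376185)) (tt N86490 (iv3 F376410)) (tt N86524 D189337) (tt N27128 (iv5 D93887)) (tt N86525 D189338) (tt N86526 D189339))
theorem Q51322 : ∀ i, i < 51322 → P i := stepQ 51321 Q51321 (allL N51321 (tt N56445 (iv1 F163770)) (tt N86426 F376181) (tt N86429 (iv2 F376186)) (tt N86521 (iv3 F376419)) (tt N27129 F144719) (tt N86526 (iv5 F376431)) (tt N86527 D189340) (tt N27128 (iv7 D93888)))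
theorem Q51323 : ∀ i, i < 51323 → P i := stepQ 51322 Q51322 (allL N51322 (tt N86450 (iv1 F376247)) (tt N69604 (iv0 F376676)) (tt N86430 (iv2 F376190)) (tt N50722 (iv3 F294562)) (tt N86527 (iv4 F376432)) (tt N50722 (iv5 F294563)) (tt N27129 (iv6 D93889)) (tt N27158 F144720))
theorem Q51324 : ∀ i, i < 51324 → P i := stepQ 51323 Q51323 (allL N51323 (tt N53053 F152161) (tt N53050 (iv0 F152158)) (tt N53169 F152589) (tt N52625 (iv3 F150051)) (tt N27130 (iv4 D93892)) (tt N86528 D189341) (tt N51520 F157633) (tt N51479 F157291))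
theorem Q51325 : ∀ i, i < 51325 → P i := stepQ 51324 Q51324 (allL N51324 (tt N76413 (iv1 F238547)) (tt N27147 F238552) (tt N76414 (iv2 F238553)) (tt N51533 (iv3 F145454)) (tt N86529 D189342) (tt N27130 (iv5 D93893)) (tt N76418 (iv6 F238561)) (tt N51480 F157297))
theorem Q51326 : ∀ i, i < 51326 → P i := stepQ 51325 Q51325 (allL N51325 (tt N86000 F374840) (tt N76400 F288412) (tt N27132 F144726) (tt N79035 (iv3 F251933)) (tt N86530 D189343) (tt N27131 (iv5 D93900)) (tt N86531 D189344) (tt N85412 (iv7 F372531)))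
theorem Q51327 : ∀ i, i < 51327 → P i := stepQ 51326 Q51326 (allL N51326 (tt N51489 F288414) (tt N86114 F375155) (tt N27133 F144727) (tt N79036 (iv3 F251953)) (tt N28163 F144728) (tt N44052 F328907) (tt N27131 (iv6 D93901)) (tt N84399 (iv7 F369154)))
theorem Q51328 : ∀ i, i < 51328 → P i := stepQ 51327 Q51327 (allL N51327 (tt N85412 (iv1 F372532)) (tt N27132 (iv0 D93903)) (tt N86000 (iv2 F374837)) (tt N51537 F353202) (tt N86532 D189345) (tt N50324 F251609) (tt N83974 (iv6 F367678)) (tt N76400 (iv7 F288418)))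
theorem Q51329 : ∀ i, i < 51329 → P i := stepQ 51328 Q51328 (allL N51328 (tt N27132 (iv1 D93904)) (tt N85412 (iv0 F372533)) (tt N76400 F349246) (tt N86533 D189346) (tt N86534 D189347) (tt N50325 (iv5 F349245)) (tt N76318 F349247) (tt N86000 (iv7 F374838)))
theorem Q51330 : ∀ i, i < 51330 → P i := stepQ 51329 Q51329 (allL N51329 (tt N83723 F349248) (tt N86535 D189348) (tt N86530 (iv2 F376442)) (tt N86536 D189349) (tt N27132 (iv4 D93905)) (tt N86537 D189350) (tt N86538 D189351) (tt N86433 (iv7 F376202)))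
theorem Q51331 : ∀ i, i < 51331 → P i := stepQ 51330 Q51330 (allL N51330 (tt N86539 D189352) (tt N86540 D189353) (tt N86531 (iv2 F376444)) (tt N27136 F144732) (tt N86538 (iv4 F376453)) (tt N85881 (iv5 F374312)) (tt N27132 (iv6 D93906)) (tt N86541 D189354))
theorem Q51332 : ∀ i, i < 51332 → P i := stepQ 51331 Q51331 (allL N51331 (tt N84399 (iv1 F369156)) (tt N27133 (iv0 D93907)) (tt N51489 F360968) (tt N51503 (iv3 F349229)) (tt N42984 F349214) (tt N50985 F349238) (tt N51484 F349231) (tt N86114 (iv7 F375156)))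
theorem Q51333 : ∀ i, i < 51333 → P i := stepQ 51332 Q51332 (allL N51332 (tt N27133 (iv1 D93908)) (tt N84399 (iv0 F369155)) (tt N86114 F375154) (tt N86542 D189355) (tt N85912 (iv4 F374435)) (tt N42975 F360969) (tt N86543 D189356) (tt N51489 F360970))
theorem Q51334 : ∀ i, i < 51334 → P i := stepQ 51333 Q51333 (allL N51333 (tt N51474 (iv1 F335777)) (tt N51470 (iv0 F290243)) (tt N47667 F294557) (tt N27134 (iv3 D93909)) (tt N86544 D189357) (tt N49256 F144733) (tt N86545 D189358) (tt N52749 F294558))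
theorem Q51335 : ∀ i, i < 51335 → P i := stepQ 51334 Q51334 (allL N51334 (tt N27181 F144736) (tt N27170 F144737) (tt N49277 F144734) (tt N86546 D189359) (tt N27134 (iv4 D93910)) (tt N49277 F144735) (tt N86547 D189360) (tt N54888 (iv7 F367153)))
theorem Q51336 : ∀ i, i < 51336 → P i := stepQ 51335 Q51335 (allL N51335 (tt N86548 D189361) (tt N86549 D189362) (tt N49273 F144738) (tt N86545 (iv3 F376465)) (tt N86547 (iv4 F376469)) (tt N49258 F144739) (tt N27134 (iv6 D93911)) (tt N86550 D189363))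
theorem Q51337 : ∀ i, i < 51337 → P i := stepQ 51336 Q51336 (allL N51336 (tt N27142 (iv1 F144745)) (tt N27135 (iv0 D93914)) (tt N51411 (iv2 F144845)) (tt N86551 D189364) (tt N50890 F144744) (tt N51411 (iv5 F144847)) (tt N86552 D189365) (tt N51413 (iv7 F144854)))
theorem Q51338 : ∀ i, i < 51338 → P i := stepQ 51337 Q51337 (allL N51337 (tt N27135 (iv1 D93915)) (tt N27142 F144746) (tt N51413 (iv2 F144852)) (tt N86553 D189366) (tt N51270 F144747) (tt N51413 (iv5 F144853)) (tt N86554 D189367) (tt N51411 (iv7 F144846)))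
theorem Q51339 : ∀ i, i < 51339 → P i := stepQ 51338 Q51338 (allL N51338 (tt N86555 D189368) (tt N86556 D189369) (tt N86557 D189370) (tt N27135 (iv3 D93916)) (tt N86536 (iv4 F376452)) (tt N51376 (iv5 F144782)) (tt N86558 D189371) (tt N86434 (iv7 F376204)))
theorem Q51340 : ∀ i, i < 51340 → P i := stepQ 51339 Q51339 (allL N51339 (tt N86559 D189372) (tt N86503 (iv0 F376922)) (tt N86151 (iv2 F375220)) (tt N86558 (iv3 F376483)) (tt N27136 F144748) (tt N86560 D189374) (tt N27135 (iv6 D93917)) (tt N86561 D189375))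
theorem Q51341 : ∀ i, i < 51341 → P i := stepQ 51340 Q51340 (allL N51340 (tt N86152 (iv1 F375228)) (tt N27136 (iv0 D93918)) (tt N86149 (iv2 F376945)) (tt N86562 D189377) (tt N86563 D189378) (tt N86564 D189379) (tt N86496 F376389) (tt N86150 (iv7 F376951)))
theorem Q51342 : ∀ i, i < 51342 → P i := stepQ 51341 Q51341 (allL N51341 (tt N27136 (iv1 D93919)) (tt N86152 F375227) (tt N86150 (iv2 F376950)) (tt N51531 (iv3 F377001)) (tt N86565 D189382) (tt N86566 D189383) (tt N86567 D189384) (tt N86149 (iv7 F376946)))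
theorem Q51343 : ∀ i, i < 51343 → P i := stepQ 51342 Q51342 (allL N51342 (tt N86150 (iv1 F375218)) (tt N86149 F375226) (tt N86152 (iv2 F375222)) (tt N86541 (iv3 F376454)) (tt N86561 (iv4 F376484)) (tt N85885 (iv5 F374317)) (tt N86438 (iv6 F376215)) (tt N27136 (iv7 D93920)))
theorem Q51344 : ∀ i, i < 51344 → P i := stepQ 51343 Q51343 (allL N51343 (tt N27150 F157806) (tt N37467 F157680) (tt N37468 F157678) (tt N51521 (iv3 F145411)) (tt N52132 F331360) (tt N27137 (iv5 D93927)) (tt N58747 (iv6 F170575)) (tt N32125 (iv7 F157679)))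
theorem Q51345 : ∀ i, i < 51345 → P i := stepQ 51344 Q51344 (allL N51344 (tt N27392 F205491) (tt N27544 F144756) (tt N27139 F144752) (tt N27562 (iv3 F144755)) (tt N27138 (iv4 D93929)) (tt N86568 D189385) (tt N84569 (iv6 F369722)) (tt N27545 F144753))
theorem Q51346 : ∀ i, i < 51346 → P i := stepQ 51345 Q51345 (allL N51345 (tt N52112 (iv1 F331382)) (tt N86431 F376198) (tt N27140 F144757) (tt N85412 (iv3 F372530)) (tt N83714 F331411) (tt N27138 (iv5 D93930)) (tt N37297 (iv6 F157671)) (tt N79035 (iv7 F251934)))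
theorem Q51347 : ∀ i, i < 51347 → P i := stepQ 51346 Q51346 (allL N51346 (tt N79012 (iv1 F251830)) (tt N51502 (iv0 F251767)) (tt N27141 F144758) (tt N84403 F369177) (tt N84569 (iv4 F369721)) (tt N86017 (iv5 F374902)) (tt N27138 (iv6 D93931)) (tt N79011 (iv7 F251946)))
theorem Q51348 : ∀ i, i < 51348 → P i := stepQ 51347 Q51347 (allL N51347 (tt N27139 (iv1 D93933)) (tt N27545 F144761) (tt N27544 F205493) (tt N86569 D189386) (tt N27261 (iv4 F144762)) (tt N83739 F293683) (tt N49983 (iv6 F294584)) (tt N27392 F178346))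
theorem Q51349 : ∀ i, i < 51349 → P i := stepQ 51348 Q51348 (allL N51348 (tt N83737 F331390) (tt N83731 F331391) (tt N86568 (iv2 F376492)) (tt N27387 F144764) (tt N51350 (iv4 F331388)) (tt N27139 (iv5 D93934)) (tt N86570 D189387) (tt N27546 F144765))
theorem Q51350 : ∀ i, i < 51350 → P i := stepQ 51349 Q51349 (allL N51349 (tt N79035 F251936) (tt N27140 (iv0 D93935)) (tt N52112 (iv2 F331383)) (tt N74800 (iv3 F366176)) (tt N52109 (iv4 F331392)) (tt N54886 (iv5 F293761)) (tt N32731 F251939) (tt N86431 (iv7 F376199)))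
theorem Q51351 : ∀ i, i < 51351 → P i := stepQ 51350 Q51350 (allL N51350 (tt N27140 (iv1 D93936)) (tt N79035 (iv0 F251951)) (tt N86431 F376197) (tt N51524 F251949) (tt N51348 F331388) (tt N50273 (iv5 F251948)) (tt N86571 D189388) (tt N52112 (iv7 F331386)))
theorem Q51352 : ∀ i, i < 51352 → P i := stepQ 51351 Q51351 (allL N51351 (tt N83738 F331394) (tt N27878 F331395) (tt N83714 F331410) (tt N86572 D189389) (tt N27140 (iv4 D93937)) (tt N49208 F294676) (tt N86573 D189390) (tt N83713 F331408))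
theorem Q51353 : ∀ i, i < 51353 → P i := stepQ 51352 Q51352 (allL N51352 (tt N37299 (iv1 F175839)) (tt N32124 (iv0 F157670)) (tt N37297 F157672) (tt N27143 F144766) (tt N86573 (iv4 F376516)) (tt N70788 F364696) (tt N27140 (iv6 D93938)) (tt N37298 (iv7 F157673)))
theorem Q51354 : ∀ i, i < 51354 → P i := stepQ 51353 Q51353 (allL N51353 (tt N79011 F251940) (tt N27141 (iv0 D93939)) (tt N79012 F251941) (tt N86574 D189391) (tt N52648 (iv4 F288024)) (tt N32500 F251942) (tt N74192 (iv6 F350468)) (tt N51502 F251944))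
theorem Q51355 : ∀ i, i < 51355 → P i := stepQ 51354 Q51354 (allL N51354 (tt N60932 F283807) (tt N85998 (iv0 F374834)) (tt N86017 F374903) (tt N27145 F144767) (tt N86575 D189392) (tt N27141 (iv5 D93941)) (tt N70788 (iv6 F364699)) (tt N55399 (iv7 F159982)))
theorem Q51356 : ∀ i, i < 51356 → P i := stepQ 51355 Q51355 (allL N51355 (tt N51502 (iv1 F251768)) (tt N79012 F251829) (tt N79011 F251947) (tt N27146 F144768) (tt N49871 (iv4 F367176)) (tt N55399 (iv5 F159981)) (tt N53652 F367177) (tt N27141 (iv7 D93942)))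
theorem Q51357 : ∀ i, i < 51357 → P i := stepQ 51356 Q51356 (allL N51356 (tt N82606 F376513) (tt N86576 D189393) (tt N86577 D189394) (tt N27142 (iv3 D93943)) (tt N86572 (iv4 F376511)) (tt N51367 (iv5 F144778)) (tt N86578 D189395) (tt N86432 (iv7 F376201)))
theorem Q51358 : ∀ i, i < 51358 → P i := stepQ 51357 Q51357 (allL N51357 (tt N85173 F376306) (tt N86579 D189396) (tt N86435 (iv2 F376205)) (tt N86578 (iv3 F376531)) (tt N27143 F144769) (tt N86580 D189397) (tt N27142 (iv6 D93944)) (tt N86581 D189398))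
theorem Q51359 : ∀ i, i < 51359 → P i := stepQ 51358 Q51358 (allL N51358 (tt N86438 (iv1 F376223)) (tt N27143 (iv0 D93945)) (tt N86436 (iv2 F376220)) (tt N51543 (iv3 F376222)) (tt N86582 D189399) (tt N86583 D189400) (tt N86584 D189401) (tt N86437 F376221))
theorem Q51360 : ∀ i, i < 51360 → P i := stepQ 51359 Q51359 (allL N51359 (tt N27143 (iv1 D93946)) (tt N86438 F376217) (tt N86437 (iv2 F376212)) (tt N86585 D189402) (tt N86586 D189403) (tt N85032 (iv5 F371428)) (tt N69483 (iv6 F214495)) (tt N86436 (iv7 F376219)))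
theorem Q51361 : ∀ i, i < 51361 → P i := stepQ 51360 Q51360 (allL N51360 (tt N86587 D189404) (tt N80688 F364705) (tt N55398 (iv2 F159979)) (tt N70788 (iv3 F364698)) (tt N52307 (iv4 F364702)) (tt N27143 (iv5 D93947)) (tt N27145 F144770) (tt N83004 F364704))
theorem Q51362 : ∀ i, i < 51362 → P i := stepQ 51361 Q51361 (allL N51361 (tt N86437 (iv1 F376209)) (tt N86436 F376216) (tt N86438 (iv2 F376214)) (tt N37298 F157674) (tt N86581 (iv4 F376534)) (tt N83004 (iv5 F364707)) (tt N86152 (iv6 F375225)) (tt N27143 (iv7 D93948)))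
theorem Q51363 : ∀ i, i < 51363 → P i := stepQ 51362 Q51362 (allL N51362 (tt N50912 F144771) (tt N50907 F144772) (tt N55397 (iv2 F159973)) (tt N52308 (iv3 F364715)) (tt N27145 (iv4 D93949)) (tt N49744 F365787) (tt N52307 F364703) (tt N55400 (iv7 F159983)))
theorem Q51364 : ∀ i, i < 51364 → P i := stepQ 51363 Q51363 (allL N51363 (tt N76414 (iv1 F238556)) (tt N51480 F177436) (tt N27147 (iv2 D93952)) (tt N37467 (iv3 F157809)) (tt N78281 F349251) (tt N50795 (iv5 F293382)) (tt N78280 (iv6 F349249)) (tt N76413 (iv7 F238548)))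
theorem Q51365 : ∀ i, i < 51365 → P i := stepQ 51364 Q51364 (allL N51364 (tt N85408 (iv1 F372511)) (tt N76455 (iv0 F238931)) (tt N78281 F334836) (tt N51436 F334837) (tt N27147 (iv4 D93953)) (tt N86588 D189405) (tt N45240 F334838) (tt N85144 (iv7 F371735)))
theorem Q51366 : ∀ i, i < 51366 → P i := stepQ 51365 Q51365 (allL N51365 (tt N56422 F334839) (tt N63390 (iv0 F334843)) (tt N78280 F334840) (tt N27149 F144773) (tt N45240 F334841) (tt N42459 F157311) (tt N27147 (iv6 D93954)) (tt N45239 F334842))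
theorem Q51367 : ∀ i, i < 51367 → P i := stepQ 51366 Q51366 (allL N51366 (tt N27151 (iv1 F144776)) (tt N27148 (iv0 D93955)) (tt N51399 (iv2 F144828)) (tt N86589 D189406) (tt N49357 F291089) (tt N49485 F144774) (tt N86590 D189407) (tt N50723 F144777))
theorem Q51368 : ∀ i, i < 51368 → P i := stepQ 51367 Q51367 (allL N51367 (tt N86435 F376208) (tt N86581 F376535) (tt N86579 (iv2 F376893)) (tt N27148 (iv3 D93956)) (tt N51436 (iv4 F364515)) (tt N51356 F144778) (tt N86492 F376384) (tt N85173 (iv7 F371797)))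
theorem Q51369 : ∀ i, i < 51369 → P i := stepQ 51368 Q51368 (allL N51368 (tt N86591 D189409) (tt N86592 D189410) (tt N86441 (iv2 F376232)) (tt N86492 F376383) (tt N27149 F144779) (tt N86593 D189411) (tt N27148 (iv6 D93957)) (tt N86594 D189412))
theorem Q51370 : ∀ i, i < 51370 → P i := stepQ 51369 Q51369 (allL N51369 (tt N86444 F376241) (tt N27149 (iv0 D93958)) (tt N86442 (iv2 F377532)) (tt N86595 D189414) (tt N86596 D189415) (tt N86597 D189416) (tt N86148 F375215) (tt N86443 (iv7 F377536)))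
theorem Q51371 : ∀ i, i < 51371 → P i := stepQ 51370 Q51370 (allL N51370 (tt N27149 (iv1 D93959)) (tt N86444 F376240) (tt N86443 (iv2 F377535)) (tt N51552 (iv3 F377438)) (tt N86598 D189419) (tt N86599 D189420) (tt N86600 D189421) (tt N86442 (iv7 F377534)))
theorem Q51372 : ∀ i, i < 51372 → P i := stepQ 51371 Q51371 (allL N51371 (tt N86031 F374961) (tt N86601 D189422) (tt N84486 (iv2 F369503)) (tt N42459 (iv3 F157312)) (tt N59257 (iv4 F352982)) (tt N27149 (iv5 D93960)) (tt N29058 F291716) (tt N86602 D189423))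
theorem Q51373 : ∀ i, i < 51373 → P i := stepQ 51372 Q51372 (allL N51372 (tt N86443 (iv1 F376234)) (tt N86442 F376239) (tt N86444 (iv2 F376235)) (tt N45239 F364514) (tt N86594 (iv4 F376554)) (tt N86602 (iv5 F376579)) (tt N85172 (iv6 F371792)) (tt N27149 (iv7 D93961)))
theorem Q51374 : ∀ i, i < 51374 → P i := stepQ 51373 Q51373 (allL N51373 (tt N32125 F235279) (tt N37468 F235280) (tt N27150 (iv2 D93964)) (tt N76413 (iv3 F238551)) (tt N52643 F331363) (tt N75991 F235281) (tt N86603 D189424) (tt N37467 (iv7 F157807)))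
theorem Q51375 : ∀ i, i < 51375 → P i := stepQ 51374 Q51374 (allL N51374 (tt N52662 F295132) (tt N49211 F295133) (tt N52643 F331377) (tt N86604 D189425) (tt N27150 (iv4 D93965)) (tt N50676 (iv5 F331367)) (tt N86605 D189426) (tt N52534 F331379))
theorem Q51376 : ∀ i, i < 51376 → P i := stepQ 51375 Q51375 (allL N51375 (tt N86606 D189427) (tt N86607 D189428) (tt N86603 (iv2 F376581)) (tt N27152 F144781) (tt N86605 (iv4 F376586)) (tt N84804 (iv5 F370683)) (tt N27150 (iv6 D93966)) (tt N86608 D189429))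
theorem Q51377 : ∀ i, i < 51377 → P i := stepQ 51376 Q51376 (allL N51376 (tt N84657 F376584) (tt N86609 D189430) (tt N86610 D189431) (tt N27151 (iv3 D93967)) (tt N86604 (iv4 F376582)) (tt N51338 F144782) (tt N86611 D189432) (tt N86440 (iv7 F376231)))
theorem Q51378 : ∀ i, i < 51378 → P i := stepQ 51377 Q51377 (allL N51377 (tt N86558 F376585) (tt N86612 D189433) (tt N85171 (iv2 F371787)) (tt N86611 (iv3 F376597)) (tt N27152 F144783) (tt N86613 D189434) (tt N27151 (iv6 D93968)) (tt N86614 D189435))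
theorem Q51379 : ∀ i, i < 51379 → P i := stepQ 51378 Q51378 (allL N51378 (tt N85172 (iv1 F371795)) (tt N27152 (iv0 D93969)) (tt N85169 (iv2 F399775)) (tt N51560 (iv3 F379476)) (tt N86615 D189438) (tt N85113 (iv5 F371796)) (tt N86616 D189439) (tt N85170 (iv7 F399774)))
theorem Q51380 : ∀ i, i < 51380 → P i := stepQ 51379 Q51379 (allL N51379 (tt N27152 (iv1 D93970)) (tt N85172 F371794) (tt N85170 (iv2 F399772)) (tt N86617 D189441) (tt N86618 D189442) (tt N85114 (iv5 F413462)) (tt N86506 (iv6 F413464)) (tt N85169 (iv7 F399776)))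
theorem Q51381 : ∀ i, i < 51381 → P i := stepQ 51380 Q51380 (allL N51380 (tt N85170 (iv1 F371786)) (tt N85169 F371793) (tt N85172 (iv2 F371789)) (tt N86608 (iv3 F376590)) (tt N86614 (iv4 F376599)) (tt N84808 (iv5 F370688)) (tt N86444 (iv6 F376238)) (tt N27152 (iv7 D93971)))
theorem Q51382 : ∀ i, i < 51382 → P i := stepQ 51381 Q51381 (allL N51381 (tt N86619 D189444) (tt N86620 D189445) (tt N86621 D189446) (tt N27153 (iv3 D93972)) (tt N86622 D189447) (tt N51433 (iv5 F144894)) (tt N86623 D189448) (tt N85324 (iv7 F372238)))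
theorem Q51383 : ∀ i, i < 51383 → P i := stepQ 51382 Q51382 (allL N51382 (tt N86596 (iv1 F429285)) (tt N86598 (iv0 F400101)) (tt N86446 (iv2 F376243)) (tt N86623 (iv3 F376618)) (tt N51425 (iv4 F144878)) (tt N86624 D189451) (tt N27153 (iv6 D93973)) (tt N86625 D189452))
theorem Q51384 : ∀ i, i < 51384 → P i := stepQ 51383 Q51383 (allL N51383 (tt N86626 D189453) (tt N86627 D189454) (tt N86514 (iv2 F376405)) (tt N27154 (iv3 D93974)) (tt N86628 D189455) (tt N51415 (iv5 F144858)) (tt N86426 (iv6 F376183)) (tt N86445 (iv7 F376242)))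
theorem Q51385 : ∀ i, i < 51385 → P i := stepQ 51384 Q51384 (allL N51384 (tt N86615 (iv1 F379477)) (tt N86618 (iv0 F376614)) (tt N85322 (iv2 F372233)) (tt N86426 F376182) (tt N51444 (iv4 F144912)) (tt N86563 (iv5 F376924)) (tt N27154 (iv6 D93975)) (tt N86515 (iv7 F376407)))
theorem Q51386 : ∀ i, i < 51386 → P i := stepQ 51385 Q51385 (allL N51385 (tt N86629 D189458) (tt N27155 (iv0 D93976)) (tt N86630 D189459) (tt N86631 D189460) (tt N86632 D189461) (tt N86633 D189462) (tt N86634 D189463) (tt N86635 D189464))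
theorem Q51387 : ∀ i, i < 51387 → P i := stepQ 51386 Q51386 (allL N51386 (tt N27155 (iv1 D93977)) (tt N86629 F376629) (tt N86635 (iv2 F376631)) (tt N86636 D189465) (tt N86637 D189466) (tt N86638 D189467) (tt N86639 D189468) (tt N86630 F376630))
theorem Q51388 : ∀ i, i < 51388 → P i := stepQ 51387 Q51387 (allL N51387 (tt N86630 (iv1 F486025)) (tt N86635 (iv0 F486026)) (tt N27155 (iv2 D93978)) (tt N86449 (iv3 F376245)) (tt N51569 (iv4 F145484)) (tt N86640 D189471) (tt N86520 (iv6 F376418)) (tt N86629 (iv7 F376628)))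
theorem Q51389 : ∀ i, i < 51389 → P i := stepQ 51388 Q51388 (allL N51388 (tt N86641 D189472) (tt N86642 D189473) (tt N86640 (iv2 F376639)) (tt N27156 F144784) (tt N86643 D189474) (tt N27155 (iv5 D93979)) (tt N86644 D189475) (tt N51267 (iv7 F144785)))
theorem Q51390 : ∀ i, i < 51390 → P i := stepQ 51389 Q51389 (allL N51389 (tt N86635 (iv1 F486027)) (tt N86630 (iv0 F486024)) (tt N86629 F376625) (tt N27157 F144786) (tt N50718 (iv4 F292613)) (tt N51267 F144787) (tt N86633 (iv6 F430970)) (tt N27155 (iv7 D93980)))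
theorem Q51391 : ∀ i, i < 51391 → P i := stepQ 51390 Q51390 (allL N51390 (tt N86645 D189477) (tt N86646 D189478) (tt N51391 (iv2 F144789)) (tt N86644 (iv3 F376649)) (tt N51268 F144788) (tt N86525 (iv5 F376429)) (tt N27156 (iv6 D93981)) (tt N86647 D189479))
theorem Q51392 : ∀ i, i < 51392 → P i := stepQ 51391 Q51391 (allL N51391 (tt N86648 D189480) (tt N86649 D189481) (tt N51390 F144789) (tt N86633 (iv3 F430968)) (tt N27158 F144790) (tt N86631 (iv5 F430972)) (tt N27157 (iv6 D93982)) (tt N86527 (iv7 F376433)))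
theorem Q51393 : ∀ i, i < 51393 → P i := stepQ 51392 Q51392 (allL N51392 (tt N86430 (iv1 F376195)) (tt N27158 (iv0 D93983)) (tt N69604 (iv2 F376678)) (tt N76417 F376262) (tt N86553 (iv4 F376480)) (tt N86650 D189484) (tt N86651 D189485) (tt N86450 (iv7 F376669)))
theorem Q51394 : ∀ i, i < 51394 → P i := stepQ 51393 Q51393 (allL N51393 (tt N27158 (iv1 D93984)) (tt N86430 F376194) (tt N86450 (iv2 F376668)) (tt N58745 (iv3 F376675)) (tt N86652 D189488) (tt N86653 D189489) (tt N86654 D189490) (tt N69604 (iv7 F376679)))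
theorem Q51395 : ∀ i, i < 51395 → P i := stepQ 51394 Q51394 (allL N51394 (tt N27524 (iv1 F144791)) (tt N27160 (iv0 D93985)) (tt N27523 F152531) (tt N81559 (iv3 F364446)) (tt N50716 (iv4 F294534)) (tt N86655 D189491) (tt N50676 (iv6 F293688)) (tt N27466 F157270))
theorem Q51396 : ∀ i, i < 51396 → P i := stepQ 51395 Q51395 (allL N51395 (tt N52118 (iv1 F147686)) (tt N52121 (iv0 F147691)) (tt N27520 F144811) (tt N86656 D189492) (tt N27161 (iv4 D93991)) (tt N51772 (iv5 F147173)) (tt N74045 (iv6 F363532)) (tt N27527 F144812))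
theorem Q51397 : ∀ i, i < 51397 → P i := stepQ 51396 Q51396 (allL N51396 (tt N49480 (iv1 F144818)) (tt N27162 (iv0 D93994)) (tt N49482 (iv2 F344273)) (tt N51247 F144817) (tt N82647 (iv4 F283463)) (tt N86657 D189493) (tt N85785 (iv6 F373929)) (tt N49481 F344272))
theorem Q51398 : ∀ i, i < 51398 → P i := stepQ 51397 Q51397 (allL N51397 (tt N27162 (iv1 D93995)) (tt N49480 (iv0 F144820)) (tt N49481 (iv2 F344270)) (tt N50484 (iv3 F292998)) (tt N49580 (iv4 F144819)) (tt N86658 D189494) (tt N85819 (iv6 F374100)) (tt N49482 (iv7 F344263)))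
theorem Q51399 : ∀ i, i < 51399 → P i := stepQ 51398 Q51398 (allL N51398 (tt N86659 D189495) (tt N86660 D189496) (tt N83786 (iv2 F366991)) (tt N27163 F144826) (tt N86661 D189497) (tt N27162 (iv5 D93997)) (tt N86662 D189498) (tt N49483 F144827))
theorem Q51400 : ∀ i, i < 51400 → P i := stepQ 51399 Q51399 (allL N51399 (tt N50341 F144831) (tt N51264 F144832) (tt N51366 F144828) (tt N86663 D189499) (tt N27163 (iv4 D93998)) (tt N50723 F144830) (tt N86664 D189500) (tt N49485 F144829))
theorem Q51401 : ∀ i, i < 51401 → P i := stepQ 51400 Q51400 (allL N51400 (tt N86665 D189501) (tt N86666 D189502) (tt N83750 F367237) (tt N86662 (iv3 F376716)) (tt N86664 (iv4 F376722)) (tt N50487 (iv5 F292426)) (tt N27163 (iv6 D93999)) (tt N86667 D189503))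
theorem Q51402 : ∀ i, i < 51402 → P i := stepQ 51401 Q51401 (allL N51401 (tt N85286 F372179) (tt N51424 (iv0 F331421)) (tt N85298 (iv2 F372204)) (tt N51570 (iv3 F145552)) (tt N79355 F343690) (tt N27164 (iv5 D94002)) (tt N86668 D189504) (tt N50010 (iv7 F178364)))
theorem Q51403 : ∀ i, i < 51403 → P i := stepQ 51402 Q51402 (allL N51402 (tt N85947 (iv1 F374560)) (tt N86459 F376281) (tt N27166 F144840) (tt N83785 (iv3 F362414)) (tt N86669 D189505) (tt N27165 (iv5 D94009)) (tt N86670 D189506) (tt N85763 (iv7 F373827)))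
theorem Q51404 : ∀ i, i < 51404 → P i := stepQ 51403 Q51403 (allL N51403 (tt N85763 (iv1 F373829)) (tt N27166 (iv0 D94011)) (tt N85947 (iv2 F374556)) (tt N49324 F292556) (tt N52650 (iv4 F294061)) (tt N49322 F292558) (tt N60788 (iv6 F205480)) (tt N86459 (iv7 F376282)))
theorem Q51405 : ∀ i, i < 51405 → P i := stepQ 51404 Q51404 (allL N51404 (tt N27166 (iv1 D94012)) (tt N85763 (iv0 F373828)) (tt N86459 F376280) (tt N86671 D189507) (tt N86672 D189508) (tt N50416 (iv5 F251425)) (tt N56652 F251426) (tt N85947 (iv7 F374558)))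
theorem Q51406 : ∀ i, i < 51406 → P i := stepQ 51405 Q51405 (allL N51405 (tt N86673 D189509) (tt N86674 D189510) (tt N86669 (iv2 F376748)) (tt N86675 D189511) (tt N27166 (iv4 D94013)) (tt N86676 D189512) (tt N86677 D189513) (tt N86460 (iv7 F376287)))
theorem Q51407 : ∀ i, i < 51407 → P i := stepQ 51406 Q51406 (allL N51406 (tt N86678 D189514) (tt N86679 D189515) (tt N86670 (iv2 F376751)) (tt N27171 F144842) (tt N86677 (iv4 F376777)) (tt N86680 D189516) (tt N27166 (iv6 D94014)) (tt N86681 D189517))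
theorem Q51408 : ∀ i, i < 51408 → P i := stepQ 51407 Q51407 (allL N51407 (tt N74194 F345179) (tt N27167 (iv0 D94015)) (tt N50015 F204780) (tt N51575 F251141) (tt N51798 F204781) (tt N51061 (iv5 F205464)) (tt N32611 F204783) (tt N74193 (iv7 F350545)))
theorem Q51409 : ∀ i, i < 51409 → P i := stepQ 51408 Q51408 (allL N51408 (tt N27167 (iv1 D94016)) (tt N74194 F345180) (tt N74193 F350547) (tt N86682 D189518) (tt N84654 (iv4 F370058)) (tt N51062 F205484) (tt N66632 (iv6 F204778)) (tt N50015 F204779))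
theorem Q51410 : ∀ i, i < 51410 → P i := stepQ 51409 Q51409 (allL N51409 (tt N36405 F178372) (tt N61217 F178326) (tt N61216 F205510) (tt N27173 F144843) (tt N74217 F339944) (tt N27167 (iv5 D94017)) (tt N86680 (iv6 F376779)) (tt N61215 (iv7 F205511)))
theorem Q51411 : ∀ i, i < 51411 → P i := stepQ 51410 Q51410 (allL N51410 (tt N86657 F376695) (tt N86658 (iv0 F376701)) (tt N83792 F366994) (tt N27168 (iv3 D94018)) (tt N86683 D189519) (tt N29014 F144844) (tt N86684 D189520) (tt N86453 (iv7 F376257)))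
theorem Q51412 : ∀ i, i < 51412 → P i := stepQ 51411 Q51411 (allL N51411 (tt N51261 F144848) (tt N51257 F144849) (tt N51336 F144845) (tt N86685 D189521) (tt N27168 (iv4 D94019)) (tt N51336 F144847) (tt N86686 D189522) (tt N51337 F144846))
theorem Q51413 : ∀ i, i < 51413 → P i := stepQ 51412 Q51412 (allL N51412 (tt N86687 D189523) (tt N86688 D189524) (tt N85952 (iv2 F374586)) (tt N86684 (iv3 F376791)) (tt N86686 (iv4 F376798)) (tt N29018 F144850) (tt N27168 (iv6 D94020)) (tt N86689 D189525))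
theorem Q51414 : ∀ i, i < 51414 → P i := stepQ 51413 Q51413 (allL N51413 (tt N51257 F144855) (tt N51261 F144856) (tt N51337 F144852) (tt N86690 D189526) (tt N27169 (iv4 D94022)) (tt N51337 F144853) (tt N86691 D189527) (tt N51336 F144854))
theorem Q51415 : ∀ i, i < 51415 → P i := stepQ 51414 Q51414 (allL N51414 (tt N56650 F164526) (tt N86692 D189528) (tt N85789 (iv2 F373944)) (tt N73670 (iv3 F330319)) (tt N86691 (iv4 F376811)) (tt N50077 F144857) (tt N27169 (iv6 D94023)) (tt N86693 D189529))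
theorem Q51416 : ∀ i, i < 51416 → P i := stepQ 51415 Q51415 (allL N51415 (tt N86694 D189530) (tt N86695 D189531) (tt N86696 D189532) (tt N27170 (iv3 D94024)) (tt N86675 (iv4 F376769)) (tt N51383 F144858) (tt N86697 D189533) (tt N86461 (iv7 F376290)))
theorem Q51417 : ∀ i, i < 51417 → P i := stepQ 51416 Q51416 (allL N51416 (tt N86563 (iv1 F395358)) (tt N86565 (iv0 F410146)) (tt N86455 (iv2 F376267)) (tt N86697 (iv3 F376825)) (tt N27171 F144859) (tt N86698 D189536) (tt N27170 (iv6 D94025)) (tt N86699 D189537))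
theorem Q51418 : ∀ i, i < 51418 → P i := stepQ 51417 Q51417 (allL N51417 (tt N86458 (iv1 F376277)) (tt N27171 (iv0 D94026)) (tt N86456 (iv2 F376840)) (tt N57266 (iv3 F376837)) (tt N86613 (iv4 F376838)) (tt N86700 D189541) (tt N86701 D189542) (tt N86457 (iv7 F376836)))
theorem Q51419 : ∀ i, i < 51419 → P i := stepQ 51418 Q51418 (allL N51418 (tt N27171 (iv1 D94027)) (tt N86458 F376276) (tt N86457 (iv2 F376835)) (tt N83800 (iv3 F377002)) (tt N86702 D189545) (tt N86703 D189546) (tt N86704 D189547) (tt N86456 (iv7 F376841)))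
theorem Q51420 : ∀ i, i < 51420 → P i := stepQ 51419 Q51419 (allL N51419 (tt N86705 D189548) (tt N86706 D189549) (tt N85936 (iv2 F374507)) (tt N86680 (iv3 F376778)) (tt N85886 (iv4 F374323)) (tt N27171 (iv5 D94028)) (tt N27173 F144860) (tt N86707 D189550))
theorem Q51421 : ∀ i, i < 51421 → P i := stepQ 51420 Q51420 (allL N51420 (tt N86457 (iv1 F376270)) (tt N86456 F376275) (tt N86458 (iv2 F376273)) (tt N86681 (iv3 F376781)) (tt N86699 (iv4 F376827)) (tt N86707 (iv5 F376863)) (tt N86465 (iv6 F376300)) (tt N27171 (iv7 D94029)))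
theorem Q51422 : ∀ i, i < 51422 → P i := stepQ 51421 Q51421 (allL N51421 (tt N85932 F374493) (tt N85431 (iv0 F372608)) (tt N54853 F292487) (tt N27174 (iv3 D94032)) (tt N29030 F144867) (tt N86453 (iv5 F376256)) (tt N53428 (iv6 F153656)) (tt N29014 F144868))
theorem Q51423 : ∀ i, i < 51423 → P i := stepQ 51422 Q51422 (allL N51422 (tt N50411 (iv1 F144869)) (tt N27175 (iv0 D94033)) (tt N50416 (iv2 F251876)) (tt N49326 F292479) (tt N48520 (iv4 F293510)) (tt N86459 (iv5 F376278)) (tt N83641 F288209) (tt N49322 F292480))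
theorem Q51424 : ∀ i, i < 51424 → P i := stepQ 51423 Q51423 (allL N51423 (tt N50416 (iv1 F144873)) (tt N49322 F292482) (tt N27175 (iv2 D94035)) (tt N49315 F292483) (tt N83593 F292484) (tt N78931 F251418) (tt N54830 (iv6 F290542)) (tt N50411 F144870))
theorem Q51425 : ∀ i, i < 51425 → P i := stepQ 51424 Q51424 (allL N51424 (tt N51401 F331421) (tt N50726 (iv0 F161694)) (tt N78931 (iv2 F251416)) (tt N27176 F144874) (tt N86708 D189551) (tt N27175 (iv5 D94036)) (tt N60994 F177535) (tt N50417 F144875))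
theorem Q51426 : ∀ i, i < 51426 → P i := stepQ 51425 Q51425 (allL N51425 (tt N86709 D189552) (tt N86710 D189553) (tt N55608 F362429) (tt N60994 (iv3 F177536)) (tt N51382 F144878) (tt N54832 (iv5 F290595)) (tt N27176 (iv6 D94038)) (tt N78924 (iv7 F251384)))
theorem Q51427 : ∀ i, i < 51427 → P i := stepQ 51426 Q51426 (allL N51426 (tt N49317 F344368) (tt N83802 F344369) (tt N27179 F144888) (tt N85763 (iv3 F373826)) (tt N86711 D189554) (tt N27178 (iv5 D94041)) (tt N68207 (iv6 F345015)) (tt N83785 (iv7 F362415)))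
theorem Q51428 : ∀ i, i < 51428 → P i := stepQ 51427 Q51427 (allL N51427 (tt N51596 (iv1 F145648)) (tt N50070 F145644) (tt N27180 F144889) (tt N85764 (iv3 F373832)) (tt N83996 (iv4 F367762)) (tt N61689 F344371) (tt N27178 (iv6 D94042)) (tt N70017 (iv7 F339554)))
theorem Q51429 : ∀ i, i < 51429 → P i := stepQ 51428 Q51428 (allL N51428 (tt N83785 (iv1 F345028)) (tt N27179 (iv0 D94043)) (tt N49317 F291018) (tt N83808 F291019) (tt N74798 F326237) (tt N49316 F291020) (tt N41638 F326238) (tt N83802 F291021))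
theorem Q51430 : ∀ i, i < 51430 → P i := stepQ 51429 Q51429 (allL N51429 (tt N74447 F339783) (tt N83804 F366053) (tt N86711 (iv2 F376869)) (tt N86687 F376804) (tt N27179 (iv4 D94045)) (tt N70031 (iv5 F361696)) (tt N86712 D189555) (tt N86451 (iv7 F376249)))
theorem Q51431 : ∀ i, i < 51431 → P i := stepQ 51430 Q51430 (allL N51430 (tt N61682 F327566) (tt N68209 F327567) (tt N68207 F327568) (tt N27182 F144890) (tt N86712 (iv4 F376872)) (tt N39047 F327569) (tt N27179 (iv6 D94046)) (tt N68206 F327570))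
theorem Q51432 : ∀ i, i < 51432 → P i := stepQ 51431 Q51431 (allL N51431 (tt N70017 F339551) (tt N27180 (iv0 D94047)) (tt N51596 (iv2 F145645)) (tt N86713 D189556) (tt N83384 (iv4 F287508)) (tt N50899 F145646) (tt N53842 (iv6 F362396)) (tt N50070 F145647))
theorem Q51433 : ∀ i, i < 51433 → P i := stepQ 51432 Q51432 (allL N51432 (tt N50070 (iv1 F145643)) (tt N51596 (iv0 F145642)) (tt N70017 F339552) (tt N27185 F144893) (tt N83883 (iv4 F367356)) (tt N61690 (iv5 F349136)) (tt N49828 F291267) (tt N27180 (iv7 D94049)))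
theorem Q51434 : ∀ i, i < 51434 → P i := stepQ 51433 Q51433 (allL N51433 (tt N86714 D189557) (tt N86547 (iv0 F447612)) (tt N86715 D189559) (tt N27181 (iv3 D94050)) (tt N86687 (iv4 F376805)) (tt N51381 F144894) (tt N86716 D189560) (tt N86454 (iv7 F376266)))
theorem Q51435 : ∀ i, i < 51435 → P i := stepQ 51434 Q51434 (allL N51434 (tt N86582 F376536) (tt N86586 F376636) (tt N86462 (iv2 F376291)) (tt N86716 (iv3 F376884)) (tt N27182 F144895) (tt N86717 D189561) (tt N27181 (iv6 D94051)) (tt N86718 D189562))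
theorem Q51436 : ∀ i, i < 51436 → P i := stepQ 51435 Q51435 (allL N51435 (tt N86465 (iv1 F376309)) (tt N27182 (iv0 D94052)) (tt N86463 (iv2 F376307)) (tt N86719 D189563) (tt N86720 D189564) (tt N86721 D189565) (tt N86722 D189566) (tt N86464 F376308))
theorem Q51437 : ∀ i, i < 51437 → P i := stepQ 51436 Q51436 (allL N51436 (tt N27182 (iv1 D94053)) (tt N86465 F376302) (tt N86464 (iv2 F376296)) (tt N51364 (iv3 F334837)) (tt N51367 F364515) (tt N84932 (iv5 F371124)) (tt N56607 (iv6 F164417)) (tt N86463 (iv7 F376303)))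
theorem Q51438 : ∀ i, i < 51438 → P i := stepQ 51437 Q51437 (allL N51437 (tt N69363 F366182) (tt N86723 D189567) (tt N85965 (iv2 F374650)) (tt N39047 F326628) (tt N80686 (iv4 F361756)) (tt N27182 (iv5 D94054)) (tt N27184 F144896) (tt N70035 F326629))
theorem Q51439 : ∀ i, i < 51439 → P i := stepQ 51438 Q51438 (allL N51438 (tt N86464 (iv1 F376293)) (tt N86463 F376301) (tt N86465 (iv2 F376298)) (tt N68206 (iv3 F365736)) (tt N86718 (iv4 F376886)) (tt N70035 F365737) (tt N86458 (iv6 F376274)) (tt N27182 (iv7 D94055)))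
theorem Q51440 : ∀ i, i < 51440 → P i := stepQ 51439 Q51439 (allL N51439 (tt N51094 F144899) (tt N51585 F145632) (tt N51590 F145630) (tt N27183 (iv3 D94056)) (tt N51461 (iv4 F145058)) (tt N41894 F144897) (tt N51582 (iv6 F145584)) (tt N50074 F144898))
theorem Q51441 : ∀ i, i < 51441 → P i := stepQ 51440 Q51440 (allL N51440 (tt N29379 F144901) (tt N49759 (iv0 F291717)) (tt N55402 F159990) (tt N69742 (iv3 F359592)) (tt N27184 (iv4 D94057)) (tt N49833 F365797) (tt N80686 (iv6 F361757)) (tt N55403 (iv7 F159992)))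
theorem Q51442 : ∀ i, i < 51442 → P i := stepQ 51441 Q51441 (allL N51441 (tt N49315 F291004) (tt N27186 (iv0 D94058)) (tt N48638 F291005) (tt N49312 F291006) (tt N48637 F291007) (tt N83802 F291008) (tt N49250 F144904) (tt N49316 F291009))
theorem Q51443 : ∀ i, i < 51443 → P i := stepQ 51442 Q51442 (allL N51442 (tt N48638 F291010) (tt N49316 F291011) (tt N27186 (iv2 D94059)) (tt N50411 F144905) (tt N52309 (iv4 F291554)) (tt N84705 (iv5 F370282)) (tt N50133 F144906) (tt N49315 F291012))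
theorem Q51444 : ∀ i, i < 51444 → P i := stepQ 51443 Q51443 (allL N51443 (tt N50766 F144908) (tt N49335 F292608) (tt N84705 F370283) (tt N27187 F144907) (tt N69564 (iv4 F345020)) (tt N27186 (iv5 D94060)) (tt N68370 F345018) (tt N55607 F291013))
theorem Q51445 : ∀ i, i < 51445 → P i := stepQ 51444 Q51444 (allL N51444 (tt N86724 D189568) (tt N86725 D189569) (tt N50428 F144911) (tt N68370 (iv3 F345019)) (tt N51384 F144912) (tt N50136 F144913) (tt N27187 (iv6 D94061)) (tt N86726 D189570))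
theorem Q51446 : ∀ i, i < 51446 → P i := stepQ 51445 Q51445 (allL N51445 (tt N83940 (iv1 F367561)) (tt N28189 (iv0 F145004)) (tt N83929 (iv2 F367519)) (tt N27189 F145002) (tt N86727 D189571) (tt N27188 (iv5 D94097)) (tt N86728 D189572) (tt N48552 F145003))
theorem Q51447 : ∀ i, i < 51447 → P i := stepQ 51446 Q51446 (allL N51446 (tt N86729 D189573) (tt N86730 D189574) (tt N48741 F145005) (tt N86728 (iv3 F377008)) (tt N82923 (iv4 F284759)) (tt N48634 F294735) (tt N27189 (iv6 D94098)) (tt N86731 D189575))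
theorem Q51448 : ∀ i, i < 51448 → P i := stepQ 51447 Q51447 (allL N51447 (tt N84380 (iv1 F369082)) (tt N83686 F288489) (tt N28194 F145010) (tt N27192 F145011) (tt N51447 F145012) (tt N40963 F334876) (tt N27190 (iv6 D94100)) (tt N52449 F291816))
theorem Q51449 : ∀ i, i < 51449 → P i := stepQ 51448 Q51448 (allL N51448 (tt N50692 (iv1 F295273)) (tt N50687 (iv0 F295229)) (tt N27195 F145013) (tt N84899 (iv3 F371025)) (tt N27191 (iv4 D94101)) (tt N50582 (iv5 F294671)) (tt N86732 D189576) (tt N48744 F145015))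
theorem Q51450 : ∀ i, i < 51450 → P i := stepQ 51449 Q51449 (allL N51449 (tt N86733 D189577) (tt N86734 D189578) (tt N27196 F145018) (tt N86321 (iv3 F375821)) (tt N86732 (iv4 F377019)) (tt N54180 (iv5 F156183)) (tt N27191 (iv6 D94102)) (tt N86735 D189579))
theorem Q51451 : ∀ i, i < 51451 → P i := stepQ 51450 Q51450 (allL N51450 (tt N27946 (iv1 F145026)) (tt N27193 (iv0 D94104)) (tt N27948 F270467) (tt N83823 F289239) (tt N46699 F145025) (tt N83374 F362817) (tt N84330 (iv6 F368925)) (tt N27947 F270468))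
theorem Q51452 : ∀ i, i < 51452 → P i := stepQ 51451 Q51451 (allL N51451 (tt N27948 (iv1 F145032)) (tt N27947 F145031) (tt N27193 (iv2 D94105)) (tt N49359 F295039) (tt N28059 F145028) (tt N38786 F328112) (tt N38789 F328113) (tt N27946 F145030))
theorem Q51453 : ∀ i, i < 51453 → P i := stepQ 51452 Q51452 (allL N51452 (tt N84104 F368126) (tt N84107 (iv0 F368132)) (tt N86736 D189580) (tt N27194 (iv3 D94109)) (tt N86737 D189581) (tt N50567 (iv5 F292413)) (tt N86738 D189582) (tt N50566 (iv7 F292619)))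
theorem Q51454 : ∀ i, i < 51454 → P i := stepQ 51453 Q51453 (allL N51453 (tt N82636 (iv1 F283437)) (tt N52137 (iv0 F147748)) (tt N50573 (iv2 F295282)) (tt N85082 (iv3 F371573)) (tt N27194 (iv4 D94110)) (tt N50573 (iv5 F295283)) (tt N85076 (iv6 F371550)) (tt N50568 (iv7 F294571)))
theorem Q51455 : ∀ i, i < 51455 → P i := stepQ 51454 Q51454 (allL N51454 (tt N86739 D189583) (tt N56297 F370592) (tt N50574 (iv2 F295286)) (tt N86738 (iv3 F377039)) (tt N85076 (iv4 F371548)) (tt N48586 F145048) (tt N27194 (iv6 D94111)) (tt N85075 F371545))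
theorem Q51456 : ∀ i, i < 51456 → P i := stepQ 51455 Q51455 (allL N51455 (tt N48744 (iv1 F145052)) (tt N27195 (iv0 D94112)) (tt N50692 (iv2 F295274)) (tt N36404 F356657) (tt N48726 F145050) (tt N50692 (iv5 F295275)) (tt N36403 F356658) (tt N50687 (iv7 F295232)))
theorem Q51457 : ∀ i, i < 51457 → P i := stepQ 51456 Q51456 (allL N51456 (tt N86740 D189584) (tt N86741 D189585) (tt N86732 (iv2 F377018)) (tt N85923 (iv3 F374480)) (tt N27196 F145055) (tt N86742 D189586) (tt N27195 (iv6 D94114)) (tt N86743 D189587))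
theorem Q51458 : ∀ i, i < 51458 → P i := stepQ 51457 Q51457 (allL N51457 (tt N86735 (iv1 F377031)) (tt N27196 (iv0 D94115)) (tt N86733 (iv2 F377029)) (tt N86744 D189588) (tt N86745 D189589) (tt N86746 D189590) (tt N86747 D189591) (tt N86734 F377030))
theorem Q51459 : ∀ i, i < 51459 → P i := stepQ 51458 Q51458 (allL N51458 (tt N27196 (iv1 D94116)) (tt N86735 F377027) (tt N86734 (iv2 F377023)) (tt N63983 F366866) (tt N86748 D189592) (tt N78352 (iv5 F366865)) (tt N63946 F366867) (tt N86733 (iv7 F377028)))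
theorem Q51460 : ∀ i, i < 51460 → P i := stepQ 51459 Q51459 (allL N51459 (tt N86749 D189593) (tt N86750 D189594) (tt N54180 (iv2 F156182)) (tt N51187 (iv3 F294832)) (tt N86751 D189595) (tt N27196 (iv5 D94117)) (tt N27198 F145056) (tt N86752 D189596))
theorem Q51461 : ∀ i, i < 51461 → P i := stepQ 51460 Q51460 (allL N51460 (tt N86734 (iv1 F377020)) (tt N86733 F377026) (tt N86735 (iv2 F377024)) (tt N51184 (iv3 F295177)) (tt N86743 (iv4 F377050)) (tt N86752 (iv5 F377057)) (tt N51168 (iv6 F295360)) (tt N27196 (iv7 D94118)))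
theorem Q51462 : ∀ i, i < 51462 → P i := stepQ 51461 Q51461 (allL N51461 (tt N86753 D189597) (tt N84108 (iv0 F372947)) (tt N86754 D189598) (tt N27197 (iv3 D94119)) (tt N51439 F145058) (tt N28748 F145059) (tt N55145 F349307) (tt N48574 F145060))
theorem Q51463 : ∀ i, i < 51463 → P i := stepQ 51462 Q51462 (allL N51462 (tt N52453 (iv1 F293848)) (tt N52443 (iv0 F293811)) (tt N54179 (iv2 F156179)) (tt N86755 D189599) (tt N27198 (iv4 D94120)) (tt N52447 (iv5 F360807)) (tt N86751 (iv6 F377055)) (tt N54181 (iv7 F156184)))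
theorem Q51464 : ∀ i, i < 51464 → P i := stepQ 51463 Q51463 (allL N51463 (tt N70973 F335567) (tt N48708 F335568) (tt N71866 F335569) (tt N27200 (iv3 D94121)) (tt N51111 (iv4 F291494)) (tt N65449 F335570) (tt N51109 (iv6 F343907)) (tt N48600 F145061))
theorem Q51465 : ∀ i, i < 51465 → P i := stepQ 51464 Q51464 (allL N51464 (tt N29356 F145064) (tt N29331 F145065) (tt N48851 F145062) (tt N65449 (iv3 F352676)) (tt N28754 F145066) (tt N27200 (iv5 D94122)) (tt N65448 F352684) (tt N48606 F145063))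
theorem Q51466 : ∀ i, i < 51466 → P i := stepQ 51465 Q51465 (allL N51465 (tt N71955 (iv1 F365471)) (tt N54695 (iv0 F157431)) (tt N83932 (iv2 F367528)) (tt N27201 (iv3 D94123)) (tt N51828 (iv4 F147283)) (tt N86756 D189600) (tt N28039 F145067) (tt N55308 F292843))
theorem Q51467 : ∀ i, i < 51467 → P i := stepQ 51466 Q51466 (allL N51466 (tt N29331 F145070) (tt N29356 F145071) (tt N48606 F145068) (tt N86756 (iv3 F377071)) (tt N28755 (iv4 F145072)) (tt N27201 (iv5 D94124)) (tt N86757 D189601) (tt N48851 F145069))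
theorem Q51468 : ∀ i, i < 51468 → P i := stepQ 51467 Q51467 (allL N51467 (tt N85765 F373842) (tt N50014 (iv0 F290487)) (tt N51237 F145078) (tt N44008 F317599) (tt N27205 F145080) (tt N29908 F145081) (tt N27204 (iv6 D94126)) (tt N84729 (iv7 F370385)))
theorem Q51469 : ∀ i, i < 51469 → P i := stepQ 51468 Q51468 (allL N51468 (tt N52981 F151943) (tt N45164 (iv0 F157571)) (tt N82645 F344305) (tt N27206 (iv3 D94131)) (tt N48665 F294956) (tt N86758 D189602) (tt N86759 D189603) (tt N51246 F344303))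
theorem Q51470 : ∀ i, i < 51470 → P i := stepQ 51469 Q51469 (allL N51469 (tt N85762 (iv1 F373824)) (tt N50011 (iv0 F178358)) (tt N51243 F344279) (tt N49481 F145089) (tt N27206 (iv4 D94132)) (tt N86760 D189604) (tt N86761 D189605) (tt N51247 F344274))
theorem Q51471 : ∀ i, i < 51471 → P i := stepQ 51470 Q51470 (allL N51470 (tt N51333 F290243) (tt N27933 F295140) (tt N51244 (iv2 F344293)) (tt N86758 (iv3 F377078)) (tt N86762 D189606) (tt N27206 (iv5 D94133)) (tt N86763 D189607) (tt N51248 F344300))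
theorem Q51472 : ∀ i, i < 51472 → P i := stepQ 51471 Q51471 (allL N51471 (tt N28463 F364350) (tt N28549 F364353) (tt N51245 F344307) (tt N86759 (iv3 F377080)) (tt N86761 (iv4 F377093)) (tt N50812 F145090) (tt N27206 (iv6 D94134)) (tt N84770 (iv7 F370559)))
theorem Q51473 : ∀ i, i < 51473 → P i := stepQ 51472 Q51472 (allL N51472 (tt N51279 (iv1 F157231)) (tt N53146 (iv0 F152533)) (tt N86299 (iv2 F375744)) (tt N27207 (iv3 D94136)) (tt N49607 F145092) (tt N86764 D189608) (tt N86765 D189609) (tt N51242 (iv7 F344291)))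
theorem Q51474 : ∀ i, i < 51474 → P i := stepQ 51473 Q51473 (allL N51473 (tt N50011 (iv1 F178359)) (tt N85762 F373823) (tt N51247 (iv2 F344283)) (tt N50483 F293983) (tt N27207 (iv4 D94137)) (tt N86766 D189610) (tt N86767 D189611) (tt N51243 F344282))
theorem Q51475 : ∀ i, i < 51475 → P i := stepQ 51474 Q51474 (allL N51474 (tt N27933 F335776) (tt N51333 F335777) (tt N51248 (iv2 F344294)) (tt N86764 (iv3 F377100)) (tt N86768 D189612) (tt N27207 (iv5 D94138)) (tt N86769 D189613) (tt N51244 (iv7 F344292)))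
theorem Q51476 : ∀ i, i < 51476 → P i := stepQ 51475 Q51475 (allL N51475 (tt N50765 F335793) (tt N50761 F364365) (tt N51249 (iv2 F344295)) (tt N86765 (iv3 F377103)) (tt N86767 (iv4 F377112)) (tt N83649 (iv5 F290245)) (tt N27207 (iv6 D94139)) (tt N84732 (iv7 F370400)))
theorem Q51477 : ∀ i, i < 51477 → P i := stepQ 51476 Q51476 (allL N51476 (tt N51253 (iv1 F145099)) (tt N27208 (iv0 D94140)) (tt N51250 (iv2 F155695)) (tt N68372 F363798) (tt N86770 D189614) (tt N49293 F335768) (tt N86771 D189615) (tt N51251 F155694))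
theorem Q51478 : ∀ i, i < 51478 → P i := stepQ 51477 Q51477 (allL N51477 (tt N27208 (iv1 D94141)) (tt N51253 F145093) (tt N51251 F155692) (tt N86772 D189616) (tt N52022 (iv4 F364062)) (tt N49294 F294552) (tt N52021 F364061) (tt N51250 (iv7 F155693)))
theorem Q51479 : ∀ i, i < 51479 → P i := stepQ 51478 Q51478 (allL N51478 (tt N86773 D189617) (tt N86774 D189618) (tt N51252 F145095) (tt N79853 F294559) (tt N27208 (iv4 D94142)) (tt N86775 D189619) (tt N86483 (iv6 F376355)) (tt N85707 F373608))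
theorem Q51480 : ∀ i, i < 51480 → P i := stepQ 51479 Q51479 (allL N51479 (tt N51154 (iv1 F293985)) (tt N84106 (iv0 F368130)) (tt N50857 (iv2 F294813)) (tt N51895 (iv3 F147419)) (tt N27210 F145261) (tt N86776 D189620) (tt N27209 (iv6 D94218)) (tt N51323 (iv7 F157291)))
theorem Q51481 : ∀ i, i < 51481 → P i := stepQ 51480 Q51480 (allL N51480 (tt N51363 (iv1 F177436)) (tt N50326 (iv0 F177434)) (tt N43064 F145263) (tt N45163 F145264) (tt N86777 D189621) (tt N27210 (iv5 D94221)) (tt N38340 F145265) (tt N51324 (iv7 F157297)))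
theorem Q51482 : ∀ i, i < 51482 → P i := stepQ 51481 Q51481 (allL N51481 (tt N82645 F283459) (tt N51246 F157563) (tt N45164 F145272) (tt N27212 F145273) (tt N49435 F145274) (tt N61356 (iv5 F178682)) (tt N27211 (iv6 D94223)) (tt N52981 F157564))
theorem Q51483 : ∀ i, i < 51483 → P i := stepQ 51482 Q51482 (allL N51482 (tt N27251 F151791) (tt N54868 F331370) (tt N38317 F145276) (tt N61356 (iv3 F178681)) (tt N86778 D189622) (tt N27212 (iv5 D94226)) (tt N38312 F145277) (tt N54869 F331376))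
theorem Q51484 : ∀ i, i < 51484 → P i := stepQ 51483 Q51483 (allL N51483 (tt N27217 (iv1 F145289)) (tt N27213 (iv0 D94228)) (tt N27214 F145357) (tt N52859 (iv3 F151734)) (tt N77565 (iv4 F337220)) (tt N63056 (iv5 F340080)) (tt N85744 F373772) (tt N27215 F145358))
theorem Q51485 : ∀ i, i < 51485 → P i := stepQ 51484 Q51484 (allL N51484 (tt N27213 (iv1 D94229)) (tt N27217 F145283) (tt N27215 F145355) (tt N27226 F145284) (tt N76297 (iv4 F356578)) (tt N62785 (iv5 F316821)) (tt N51331 (iv6 F349231)) (tt N27214 F145356))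
theorem Q51486 : ∀ i, i < 51486 → P i := stepQ 51485 Q51485 (allL N51485 (tt N27215 (iv1 F145290)) (tt N27214 (iv0 F145291)) (tt N27217 F145285) (tt N45154 F145286) (tt N49423 F145287) (tt N45125 F145308) (tt N45122 F145288) (tt N27213 (iv7 D94230)))
theorem Q51487 : ∀ i, i < 51487 → P i := stepQ 51486 Q51486 (allL N51486 (tt N77566 (iv1 F349328)) (tt N77545 (iv0 F306699)) (tt N77565 (iv2 F337218)) (tt N51912 (iv3 F147446)) (tt N27214 (iv4 D94232)) (tt N66569 (iv5 F340084)) (tt N86779 D189623) (tt N76297 (iv7 F356580)))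
theorem Q51488 : ∀ i, i < 51488 → P i := stepQ 51487 Q51487 (allL N51487 (tt N85742 F373764) (tt N82745 (iv0 F283801)) (tt N85744 F373771) (tt N45146 F145294) (tt N86779 (iv4 F377152)) (tt N60856 (iv5 F177036)) (tt N27214 (iv6 D94234)) (tt N85743 F373769))
theorem Q51489 : ∀ i, i < 51489 → P i := stepQ 51488 Q51488 (allL N51488 (tt N61397 (iv1 F339773)) (tt N61411 F339772) (tt N45147 F145297) (tt N27215 (iv3 D94236)) (tt N49767 F145298) (tt N74883 F339774) (tt N86780 D189624) (tt N52859 (iv7 F151733)))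
theorem Q51490 : ∀ i, i < 51490 → P i := stepQ 51489 Q51489 (allL N51489 (tt N51015 F289385) (tt N51326 (iv0 F288414)) (tt N51331 (iv2 F360968)) (tt N86780 (iv3 F377154)) (tt N63275 (iv4 F335909)) (tt N74861 F335905) (tt N27215 (iv6 D94238)) (tt N51332 (iv7 F360970)))
theorem Q51491 : ∀ i, i < 51491 → P i := stepQ 51490 Q51490 (allL N51490 (tt N67054 F333292) (tt N67053 F333317) (tt N46602 F145309) (tt N63611 (iv3 F318170)) (tt N27216 (iv4 D94240)) (tt N43915 F333293) (tt N32905 F145310) (tt N67052 F333318))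
theorem Q51492 : ∀ i, i < 51492 → P i := stepQ 51491 Q51491 (allL N51491 (tt N45034 F145325) (tt N45126 F153470) (tt N45125 F145311) (tt N27221 F145312) (tt N67052 F335026) (tt N27217 F145313) (tt N55807 (iv6 F161831)) (tt N27216 (iv7 D94241)))
theorem Q51493 : ∀ i, i < 51493 → P i := stepQ 51492 Q51492 (allL N51492 (tt N61406 F333373) (tt N51238 F333374) (tt N51287 F145314) (tt N27218 (iv3 D94242)) (tt N63763 F333375) (tt N27929 F291662) (tt N40877 F333376) (tt N51298 F145315))
theorem Q51494 : ∀ i, i < 51494 → P i := stepQ 51493 Q51493 (allL N51493 (tt N86781 D189625) (tt N86782 D189626) (tt N29060 F291663) (tt N40877 F333378) (tt N73363 F333379) (tt N27934 F291664) (tt N27218 (iv6 D94243)) (tt N86783 D189627))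
theorem Q51495 : ∀ i, i < 51495 → P i := stepQ 51494 Q51494 (allL N51494 (tt N86784 D189628) (tt N84251 (iv0 F368698)) (tt N51299 F145317) (tt N47025 F327752) (tt N84727 (iv4 F370374)) (tt N29377 F145319) (tt N27219 (iv6 D94244)) (tt N47590 F327753))
theorem Q51496 : ∀ i, i < 51496 → P i := stepQ 51495 Q51495 (allL N51495 (tt N63643 F364732) (tt N63645 (iv0 F333316)) (tt N67040 (iv2 F318173)) (tt N27220 (iv3 D94245)) (tt N63611 (iv4 F318171)) (tt N62960 (iv5 F346069)) (tt N79118 F252692) (tt N77631 (iv7 F346085)))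
theorem Q51497 : ∀ i, i < 51497 → P i := stepQ 51496 Q51496 (allL N51496 (tt N54810 F292335) (tt N54813 F292336) (tt N28939 F292337) (tt N62960 F346070) (tt N27923 F292338) (tt N27220 (iv5 D94246)) (tt N86785 D189629) (tt N28943 F292339))
theorem Q51498 : ∀ i, i < 51498 → P i := stepQ 51497 Q51497 (allL N51497 (tt N50035 (iv1 F145323)) (tt N50032 F145324) (tt N51301 F145321) (tt N77631 (iv3 F346084)) (tt N27221 F145322) (tt N28943 F290936) (tt N86786 D189630) (tt N27220 (iv7 D94247)))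
theorem Q51499 : ∀ i, i < 51499 → P i := stepQ 51498 Q51498 (allL N51498 (tt N61482 (iv1 F178905)) (tt N61475 (iv0 F352419)) (tt N51302 F145330) (tt N55807 (iv3 F161830)) (tt N86786 (iv4 F377194)) (tt N51290 F145331) (tt N27221 (iv6 D94248)) (tt N55804 (iv7 F161826)))
theorem Q51500 : ∀ i, i < 51500 → P i := stepQ 51499 Q51499 (allL N51499 (tt N51242 F157236) (tt N86299 (iv0 F375747)) (tt N51279 F145332) (tt N27223 F145333) (tt N49342 F294789) (tt N63226 (iv5 F186438)) (tt N27222 (iv6 D94249)) (tt N53146 F157237))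
theorem Q51501 : ∀ i, i < 51501 → P i := stepQ 51500 Q51500 (allL N51500 (tt N61411 F339771) (tt N61397 F339777) (tt N52859 (iv2 F151732)) (tt N27225 (iv3 D94257)) (tt N49768 F145349) (tt N81311 (iv5 F339577)) (tt N86787 D189631) (tt N45147 (iv7 F145350)))
theorem Q51502 : ∀ i, i < 51502 → P i := stepQ 51501 Q51501 (allL N51501 (tt N78380 (iv1 F248567)) (tt N34405 F177779) (tt N45145 F145386) (tt N81311 F339576) (tt N61245 (iv4 F178430)) (tt N27225 (iv5 D94258)) (tt N61569 (iv6 F179045)) (tt N32769 F145387))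
theorem Q51503 : ∀ i, i < 51503 → P i := stepQ 51502 Q51502 (allL N51502 (tt N51346 F251767) (tt N51355 F251768) (tt N45146 F145388) (tt N86787 (iv3 F377199)) (tt N51950 (iv4 F147495)) (tt N55715 F161497) (tt N27225 (iv6 D94259)) (tt N51353 (iv7 F251944)))
theorem Q51504 : ∀ i, i < 51504 → P i := stepQ 51503 Q51503 (allL N51503 (tt N55332 F345196) (tt N85216 (iv0 F371928)) (tt N45149 F145389) (tt N51331 F349229) (tt N41174 F340049) (tt N50349 (iv5 F157813)) (tt N27226 (iv6 D94260)) (tt N85219 (iv7 F371941)))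
theorem Q51505 : ∀ i, i < 51505 → P i := stepQ 51504 Q51504 (allL N51504 (tt N51238 F335778) (tt N61406 F335781) (tt N51298 F145390) (tt N27228 (iv3 D94261)) (tt N63762 (iv4 F335779)) (tt N49228 F145391) (tt N47568 F327764) (tt N51287 F145392))
theorem Q51506 : ∀ i, i < 51506 → P i := stepQ 51505 Q51505 (allL N51505 (tt N55763 (iv1 F161589)) (tt N56607 (iv0 F164415)) (tt N29994 F145395) (tt N34093 F145396) (tt N86788 D189632) (tt N27231 (iv5 D94263)) (tt N86789 D189633) (tt N34080 F145397))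
theorem Q51507 : ∀ i, i < 51507 → P i := stepQ 51506 Q51506 (allL N51506 (tt N27232 (iv1 D94264)) (tt N27234 F145398) (tt N56594 F164383) (tt N51308 F145400) (tt N86790 D189634) (tt N29971 (iv5 F145399)) (tt N84456 F369367) (tt N56283 (iv7 F163324)))
theorem Q51508 : ∀ i, i < 51508 → P i := stepQ 51507 Q51507 (allL N51507 (tt N60264 (iv1 F176076)) (tt N60263 (iv0 F176073)) (tt N56595 (iv2 F164385)) (tt N86791 D189635) (tt N27232 (iv4 D94265)) (tt N86792 D189636) (tt N69495 F352955) (tt N86484 (iv7 F376360)))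
theorem Q51509 : ∀ i, i < 51509 → P i := stepQ 51508 Q51508 (allL N51508 (tt N86793 D189637) (tt N86794 D189638) (tt N56596 (iv2 F164387)) (tt N68431 (iv3 F210438)) (tt N69495 F352954) (tt N85080 (iv5 F371569)) (tt N27232 (iv6 D94266)) (tt N86795 D189639))
theorem Q51510 : ∀ i, i < 51510 → P i := stepQ 51509 Q51509 (allL N51509 (tt N60263 (iv1 F176074)) (tt N60264 (iv0 F176075)) (tt N86484 (iv2 F376358)) (tt N68820 (iv3 F211659)) (tt N27234 (iv4 D94267)) (tt N86796 D189640) (tt N86797 D189641) (tt N56595 (iv7 F164386)))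
theorem Q51511 : ∀ i, i < 51511 → P i := stepQ 51510 Q51510 (allL N51510 (tt N29098 F355652) (tt N27934 F355653) (tt N29096 F355640) (tt N29963 F145401) (tt N86797 (iv4 F377237)) (tt N80022 (iv5 F259536)) (tt N27234 (iv6 D94268)) (tt N29097 F355641))
theorem Q51512 : ∀ i, i < 51512 → P i := stepQ 51511 Q51511 (allL N51511 (tt N60257 (iv1 F176058)) (tt N53060 (iv0 F152169)) (tt N56427 (iv2 F163734)) (tt N86798 D189642) (tt N27236 (iv4 D94269)) (tt N86799 D189643) (tt N86280 F375669) (tt N85096 (iv7 F371615)))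
theorem Q51513 : ∀ i, i < 51513 → P i := stepQ 51512 Q51512 (allL N51512 (tt N86800 D189644) (tt N86801 D189645) (tt N56428 (iv2 F163736)) (tt N68433 (iv3 F210441)) (tt N86280 (iv4 F375666)) (tt N60924 (iv5 F177212)) (tt N27236 (iv6 D94270)) (tt N86802 D189646))
theorem Q51514 : ∀ i, i < 51514 → P i := stepQ 51513 Q51513 (allL N51513 (tt N53060 (iv1 F152170)) (tt N60257 (iv0 F176057)) (tt N85096 (iv2 F371614)) (tt N86803 D189647) (tt N27237 (iv4 D94271)) (tt N86804 D189648) (tt N86805 D189649) (tt N56427 (iv7 F163735)))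
theorem Q51515 : ∀ i, i < 51515 → P i := stepQ 51514 Q51514 (allL N51514 (tt N85229 F371962) (tt N85231 (iv0 F371976)) (tt N85094 (iv2 F371607)) (tt N30061 F145402) (tt N86805 (iv4 F377255)) (tt N76230 (iv5 F237969)) (tt N27237 (iv6 D94272)) (tt N86806 D189650))
theorem Q51516 : ∀ i, i < 51516 → P i := stepQ 51515 Q51515 (allL N51515 (tt N79860 (iv1 F340681)) (tt N27238 (iv0 D94273)) (tt N79858 F340686) (tt N86807 D189651) (tt N37280 F145403) (tt N86808 D189652) (tt N86809 D189653) (tt N69478 (iv7 F214474)))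
theorem Q51517 : ∀ i, i < 51517 → P i := stepQ 51516 Q51516 (allL N51516 (tt N27238 (iv1 D94274)) (tt N79860 (iv0 F340680)) (tt N69478 (iv2 F214473)) (tt N86810 D189654) (tt N69477 F214472) (tt N86811 D189655) (tt N86812 D189656) (tt N79858 (iv7 F340684)))
theorem Q51518 : ∀ i, i < 51518 → P i := stepQ 51517 Q51517 (allL N51517 (tt N86808 (iv1 F377265)) (tt N86811 (iv0 F377277)) (tt N86813 D189657) (tt N27238 (iv3 D94275)) (tt N51319 F145404) (tt N60267 (iv5 F376411)) (tt N27259 F145405) (tt N86814 D189658))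
theorem Q51519 : ∀ i, i < 51519 → P i := stepQ 51518 Q51518 (allL N51518 (tt N86815 D189659) (tt N86816 D189660) (tt N79859 (iv2 F367172)) (tt N60267 F376412) (tt N86526 (iv4 F376430)) (tt N27238 (iv5 D94276)) (tt N79841 F367173) (tt N86524 (iv7 F376428)))
theorem Q51520 : ∀ i, i < 51520 → P i := stepQ 51519 Q51519 (allL N51519 (tt N69478 (iv1 F214476)) (tt N79858 F340683) (tt N79860 F340682) (tt N86814 (iv3 F377282)) (tt N27239 F145406) (tt N86524 (iv5 F376426)) (tt N85752 (iv6 F373796)) (tt N27238 (iv7 D94277)))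
theorem Q51521 : ∀ i, i < 51521 → P i := stepQ 51520 Q51520 (allL N51520 (tt N83827 (iv1 F289259)) (tt N82798 (iv0 F294954)) (tt N82794 (iv2 F294970)) (tt N52040 (iv3 F147593)) (tt N27240 (iv4 D94280)) (tt N86817 D189661) (tt N51323 (iv6 F157633)) (tt N51278 F157635))
theorem Q51522 : ∀ i, i < 51522 → P i := stepQ 51521 Q51521 (allL N51521 (tt N54868 (iv1 F331369)) (tt N27251 F331368) (tt N54869 F331374) (tt N51343 F145411) (tt N52090 (iv4 F331359)) (tt N27240 (iv5 D94281)) (tt N68441 (iv6 F210447)) (tt N38317 F157681))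
theorem Q51523 : ∀ i, i < 51523 → P i := stepQ 51522 Q51522 (allL N51522 (tt N84447 (iv1 F369317)) (tt N84445 (iv0 F369304)) (tt N27242 F145422) (tt N84458 (iv3 F369387)) (tt N43066 F360285) (tt N27241 (iv5 D94288)) (tt N43065 F360286) (tt N84452 (iv7 F369342)))
theorem Q51524 : ∀ i, i < 51524 → P i := stepQ 51523 Q51523 (allL N51523 (tt N51286 F369307) (tt N85200 F371874) (tt N27243 F145423) (tt N85216 (iv3 F371925)) (tt N49499 F145424) (tt N84823 (iv5 F370747)) (tt N27241 (iv6 D94289)) (tt N85193 (iv7 F371849)))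
theorem Q51525 : ∀ i, i < 51525 → P i := stepQ 51524 Q51524 (allL N51524 (tt N84452 (iv1 F369343)) (tt N27242 (iv0 D94290)) (tt N84447 (iv2 F369314)) (tt N51350 (iv3 F251949)) (tt N76474 F376261) (tt N29078 F293769) (tt N86818 D189662) (tt N84445 (iv7 F369303)))
theorem Q51526 : ∀ i, i < 51526 → P i := stepQ 51525 Q51525 (allL N51525 (tt N27242 (iv1 D94291)) (tt N84452 F369344) (tt N84445 (iv2 F369300)) (tt N74485 (iv3 F339780)) (tt N76475 F375297) (tt N29079 F293771) (tt N74484 F339782) (tt N84447 (iv7 F369315)))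
theorem Q51527 : ∀ i, i < 51527 → P i := stepQ 51526 Q51526 (allL N51526 (tt N86683 (iv1 F376789)) (tt N86819 D189663) (tt N43066 F333571) (tt N59735 (iv3 F327740)) (tt N27242 (iv4 D94292)) (tt N68429 F333572) (tt N43006 F333573) (tt N84453 (iv7 F369348)))
theorem Q51528 : ∀ i, i < 51528 → P i := stepQ 51527 Q51527 (allL N51527 (tt N57445 F360280) (tt N57434 F360281) (tt N43065 F360282) (tt N27244 F145425) (tt N43006 F360283) (tt N84825 (iv5 F370761)) (tt N27242 (iv6 D94293)) (tt N43063 F360284))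
theorem Q51529 : ∀ i, i < 51529 → P i := stepQ 51528 Q51528 (allL N51528 (tt N85193 F371851) (tt N27243 (iv0 D94294)) (tt N51286 F288158) (tt N51295 F288159) (tt N86820 D189664) (tt N50320 F288160) (tt N45121 F288161) (tt N85200 (iv7 F371875)))
theorem Q51530 : ∀ i, i < 51530 → P i := stepQ 51529 Q51529 (allL N51529 (tt N27243 (iv1 D94295)) (tt N85193 F371852) (tt N85200 F371873) (tt N86821 D189665) (tt N86822 D189666) (tt N50321 F370712) (tt N86823 D189667) (tt N51286 F288162))
theorem Q51531 : ∀ i, i < 51531 → P i := stepQ 51530 Q51530 (allL N51530 (tt N84463 (iv1 F369412)) (tt N27244 (iv0 D94306)) (tt N84461 F369402) (tt N86824 D189668) (tt N81649 F368656) (tt N86825 D189669) (tt N86793 F377222) (tt N84462 F369400))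
theorem Q51532 : ∀ i, i < 51532 → P i := stepQ 51531 Q51531 (allL N51531 (tt N27244 (iv1 D94307)) (tt N84463 F369411) (tt N84462 (iv2 F369405)) (tt N51341 F377001) (tt N81650 (iv4 F369406)) (tt N86826 D189670) (tt N86827 D189671) (tt N84461 F369404))
theorem Q51533 : ∀ i, i < 51533 → P i := stepQ 51532 Q51532 (allL N51532 (tt N84462 (iv1 F369398)) (tt N84461 F369407) (tt N84463 (iv2 F369408)) (tt N43063 F360279) (tt N81585 F293806) (tt N84830 (iv5 F370775)) (tt N84457 (iv6 F369384)) (tt N27244 (iv7 D94308)))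
theorem Q51534 : ∀ i, i < 51534 → P i := stepQ 51533 Q51533 (allL N51533 (tt N27254 F177449) (tt N54878 (iv0 F293783)) (tt N54880 (iv2 F293778)) (tt N51324 F145454) (tt N68825 F343676) (tt N27245 (iv5 D94314)) (tt N86828 D189672) (tt N45163 (iv7 F157296)))
theorem Q51535 : ∀ i, i < 51535 → P i := stepQ 51534 Q51534 (allL N51534 (tt N84450 (iv1 F369331)) (tt N84449 F369326) (tt N27247 F145461) (tt N84452 (iv3 F369340)) (tt N68827 F341787) (tt N27246 (iv5 D94317)) (tt N58938 (iv6 F171497)) (tt N84458 (iv7 F369389)))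
theorem Q51536 : ∀ i, i < 51536 → P i := stepQ 51535 Q51535 (allL N51535 (tt N86829 D189673) (tt N51293 F288032) (tt N27248 F145462) (tt N85742 (iv3 F373761)) (tt N84645 (iv4 F370002)) (tt N83667 (iv5 F288358)) (tt N27246 (iv6 D94318)) (tt N86830 D189674))
theorem Q51537 : ∀ i, i < 51537 → P i := stepQ 51536 Q51536 (allL N51536 (tt N84458 (iv1 F369390)) (tt N27247 (iv0 D94320)) (tt N84450 (iv2 F369327)) (tt N86831 D189675) (tt N86832 D189676) (tt N29083 F350498) (tt N56584 F360345) (tt N84449 (iv7 F369324)))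
theorem Q51538 : ∀ i, i < 51538 → P i := stepQ 51537 Q51537 (allL N51537 (tt N27247 (iv1 D94321)) (tt N84458 F369391) (tt N84449 (iv2 F369322)) (tt N51327 (iv3 F353202)) (tt N86833 D189677) (tt N29084 F353201) (tt N86834 D189678) (tt N84450 (iv7 F369329)))
theorem Q51539 : ∀ i, i < 51539 → P i := stepQ 51538 Q51538 (allL N51538 (tt N86672 (iv1 F376758)) (tt N52650 (iv0 F358115)) (tt N68827 (iv2 F341788)) (tt N81579 F293807) (tt N27247 (iv4 D94322)) (tt N79352 F293808) (tt N56569 (iv6 F358284)) (tt N84459 (iv7 F369393)))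
theorem Q51540 : ∀ i, i < 51540 → P i := stepQ 51539 Q51539 (allL N51539 (tt N58937 (iv1 F171496)) (tt N30425 (iv0 F157310)) (tt N58938 F171499) (tt N27249 F145465) (tt N56569 (iv4 F358282)) (tt N83669 (iv5 F288367)) (tt N27247 (iv6 D94323)) (tt N58939 (iv7 F171502)))
theorem Q51541 : ∀ i, i < 51541 → P i := stepQ 51540 Q51540 (allL N51540 (tt N86830 (iv1 F377347)) (tt N27248 (iv0 D94324)) (tt N86829 F377338) (tt N86835 D189679) (tt N52061 F353198) (tt N50274 (iv5 F353200)) (tt N86095 (iv6 F375106)) (tt N51293 (iv7 F353199)))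
theorem Q51542 : ∀ i, i < 51542 → P i := stepQ 51541 Q51541 (allL N51541 (tt N27248 (iv1 D94325)) (tt N86830 F377346) (tt N51293 F350452) (tt N51282 F350453) (tt N52062 F350448) (tt N50275 F350454) (tt N45168 F350455) (tt N86829 (iv7 F377339)))
theorem Q51543 : ∀ i, i < 51543 → P i := stepQ 51542 Q51542 (allL N51542 (tt N51293 (iv1 F288031)) (tt N86829 F377341) (tt N86830 (iv2 F377342)) (tt N27250 F145466) (tt N49920 F145467) (tt N49237 F145468) (tt N55332 F360349) (tt N27248 (iv7 D94326)))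
theorem Q51544 : ∀ i, i < 51544 → P i := stepQ 51543 Q51543 (allL N51543 (tt N84457 (iv1 F369386)) (tt N27249 (iv0 D94330)) (tt N84455 (iv2 F369364)) (tt N51358 F376222) (tt N81644 (iv4 F369295)) (tt N86836 D189680) (tt N86837 D189681) (tt N84456 (iv7 F369366)))
theorem Q51545 : ∀ i, i < 51545 → P i := stepQ 51544 Q51544 (allL N51544 (tt N27249 (iv1 D94331)) (tt N84457 F369385) (tt N84456 (iv2 F369368)) (tt N86838 D189682) (tt N81645 (iv4 F369378)) (tt N86005 (iv5 F374850)) (tt N56594 (iv6 F164384)) (tt N84455 F369363))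
theorem Q51546 : ∀ i, i < 51546 → P i := stepQ 51545 Q51545 (allL N51545 (tt N84456 (iv1 F369365)) (tt N84455 F369369) (tt N84457 (iv2 F369380)) (tt N58939 F171504) (tt N81583 F293809) (tt N67956 (iv5 F336098)) (tt N84463 (iv6 F369410)) (tt N27249 (iv7 D94332)))
theorem Q51547 : ∀ i, i < 51547 → P i := stepQ 51546 Q51546 (allL N51546 (tt N54869 (iv1 F331373)) (tt N38317 (iv0 F157710)) (tt N27251 (iv2 D94335)) (tt N54878 (iv3 F293785)) (tt N86839 D189683) (tt N49850 (iv5 F292542)) (tt N76363 F238439) (tt N54868 (iv7 F331371)))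
theorem Q51548 : ∀ i, i < 51548 → P i := stepQ 51547 Q51547 (allL N51547 (tt N86661 (iv1 F376715)) (tt N86840 D189684) (tt N86839 (iv2 F377386)) (tt N86841 D189685) (tt N27251 (iv4 D94336)) (tt N86842 D189686) (tt N86843 D189687) (tt N54870 F367209))
theorem Q51549 : ∀ i, i < 51549 → P i := stepQ 51548 Q51548 (allL N51548 (tt N86844 D189688) (tt N86845 D189689) (tt N76363 (iv2 F238440)) (tt N27253 F145471) (tt N86843 (iv4 F377397)) (tt N45097 F151792) (tt N27251 (iv6 D94337)) (tt N76360 F238449))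
theorem Q51550 : ∀ i, i < 51550 → P i := stepQ 51549 Q51549 (allL N51549 (tt N59729 F326850) (tt N59731 F326851) (tt N86846 D189690) (tt N27252 (iv3 D94339)) (tt N86841 (iv4 F377393)) (tt N31936 F326852) (tt N86847 D189691) (tt N31935 F326853))
theorem Q51551 : ∀ i, i < 51551 → P i := stepQ 51550 Q51550 (allL N51550 (tt N86848 D189692) (tt N86849 D189693) (tt N44699 F293636) (tt N86847 (iv3 F377412)) (tt N27253 F145476) (tt N80792 F293637) (tt N27252 (iv6 D94341)) (tt N86850 D189694))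
theorem Q51552 : ∀ i, i < 51552 → P i := stepQ 51551 Q51551 (allL N51551 (tt N54884 (iv1 F293799)) (tt N27253 (iv0 D94342)) (tt N54882 (iv2 F377446)) (tt N86851 D189696) (tt N86852 D189697) (tt N86853 D189698) (tt N85231 F371978) (tt N54883 F377444))
theorem Q51553 : ∀ i, i < 51553 → P i := stepQ 51552 Q51552 (allL N51552 (tt N27253 (iv1 D94343)) (tt N54884 (iv0 F293798)) (tt N54883 (iv2 F377445)) (tt N51370 F377438) (tt N86854 D189699) (tt N86855 D189700) (tt N86856 D189701) (tt N54882 (iv7 F377448)))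
theorem Q51554 : ∀ i, i < 51554 → P i := stepQ 51553 Q51553 (allL N51553 (tt N32754 F145478) (tt N79890 F258795) (tt N34403 (iv2 F161641)) (tt N45097 (iv3 F151793)) (tt N80900 (iv4 F355330)) (tt N27253 (iv5 D94344)) (tt N48625 F145477) (tt N76358 F238448))
theorem Q51555 : ∀ i, i < 51555 → P i := stepQ 51554 Q51554 (allL N51554 (tt N54883 F367182) (tt N54882 F367148) (tt N54884 (iv2 F293800)) (tt N76360 (iv3 F238451)) (tt N86850 (iv4 F377429)) (tt N76358 F238452) (tt N54874 F352918) (tt N27253 (iv7 D94345)))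
theorem Q51556 : ∀ i, i < 51556 → P i := stepQ 51555 Q51555 (allL N51555 (tt N45163 (iv1 F214551)) (tt N54880 (iv0 F293777)) (tt N27254 (iv2 D94348)) (tt N54868 F331372) (tt N86857 D189702) (tt N49853 (iv5 F292528)) (tt N86858 D189703) (tt N54878 (iv7 F293787)))
theorem Q51557 : ∀ i, i < 51557 → P i := stepQ 51556 Q51556 (allL N51556 (tt N68616 F211228) (tt N79355 (iv0 F343689)) (tt N86857 (iv2 F377456)) (tt N86859 D189704) (tt N27254 (iv4 D94349)) (tt N79676 (iv5 F367210)) (tt N86860 D189705) (tt N54881 F367206))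
theorem Q51558 : ∀ i, i < 51558 → P i := stepQ 51557 Q51557 (allL N51557 (tt N86861 D189706) (tt N86862 D189707) (tt N86858 (iv2 F377460)) (tt N27256 F145479) (tt N86860 (iv4 F377467)) (tt N85865 (iv5 F374263)) (tt N27254 (iv6 D94350)) (tt N79894 (iv7 F258820)))
theorem Q51559 : ∀ i, i < 51559 → P i := stepQ 51558 Q51558 (allL N51558 (tt N81573 F343693) (tt N81577 F348781) (tt N86863 D189708) (tt N27255 (iv3 D94351)) (tt N86859 (iv4 F377462)) (tt N44696 F293604) (tt N84659 (iv6 F370078)) (tt N44695 F293605))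
theorem Q51560 : ∀ i, i < 51560 → P i := stepQ 51559 Q51559 (allL N51559 (tt N69594 F352938) (tt N37465 F352939) (tt N47635 F293607) (tt N84659 F370079) (tt N27256 F145481) (tt N60161 (iv5 F352935)) (tt N27255 (iv6 D94353)) (tt N69593 (iv7 F352913)))
theorem Q51561 : ∀ i, i < 51561 → P i := stepQ 51560 Q51560 (allL N51560 (tt N54874 (iv1 F352920)) (tt N27256 (iv0 D94354)) (tt N54872 (iv2 F385128)) (tt N51378 F379476) (tt N86864 D189711) (tt N86058 (iv5 F375030)) (tt N86865 D189712) (tt N54873 (iv7 F385127)))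
theorem Q51562 : ∀ i, i < 51562 → P i := stepQ 51561 Q51561 (allL N51561 (tt N27256 (iv1 D94355)) (tt N54874 F367207) (tt N54873 (iv2 F385124)) (tt N86866 D189714) (tt N86867 D189715) (tt N86059 (iv5 F375031)) (tt N86800 (iv6 F377243)) (tt N54872 (iv7 F385131)))
theorem Q51563 : ∀ i, i < 51563 → P i := stepQ 51562 Q51562 (allL N51562 (tt N54873 (iv1 F367208)) (tt N54872 F352919) (tt N54874 (iv2 F352917)) (tt N79894 (iv3 F258818)) (tt N69593 F352915) (tt N85870 (iv5 F374276)) (tt N54884 (iv6 F293803)) (tt N27256 (iv7 D94356)))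
theorem Q51564 : ∀ i, i < 51564 → P i := stepQ 51563 Q51563 (allL N51563 (tt N86868 D189716) (tt N86869 D189717) (tt N86870 D189718) (tt N27257 (iv3 D94357)) (tt N51787 F343691) (tt N44850 F292455) (tt N86871 D189719) (tt N47647 F292456))
theorem Q51565 : ∀ i, i < 51565 → P i := stepQ 51564 Q51564 (allL N51564 (tt N86852 (iv1 F377542)) (tt N86854 (iv0 F377449)) (tt N47641 F292458) (tt N86871 (iv3 F377520)) (tt N49340 F292459) (tt N86872 D189721) (tt N27257 (iv6 D94359)) (tt N86873 D189722))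
theorem Q51566 : ∀ i, i < 51566 → P i := stepQ 51565 Q51565 (allL N51565 (tt N86874 D189723) (tt N86875 D189724) (tt N86876 D189725) (tt N27258 (iv3 D94360)) (tt N86877 D189726) (tt N44849 F292432) (tt N78195 (iv6 F353359)) (tt N47639 F292433))
theorem Q51567 : ∀ i, i < 51567 → P i := stepQ 51566 Q51566 (allL N51566 (tt N86864 (iv1 F377559)) (tt N86867 (iv0 F377498)) (tt N47648 F292435) (tt N78195 F353351) (tt N49299 F292436) (tt N54518 (iv5 F353349)) (tt N27258 (iv6 D94362)) (tt N86878 D189728))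
theorem Q51568 : ∀ i, i < 51568 → P i := stepQ 51567 Q51567 (allL N51567 (tt N85747 (iv1 F373777)) (tt N27259 (iv0 D94363)) (tt N85746 (iv2 F390833)) (tt N86879 D189730) (tt N86880 D189731) (tt N46781 (iv5 F377571)) (tt N79864 (iv6 F377572)) (tt N85745 (iv7 F390832)))
theorem Q51569 : ∀ i, i < 51569 → P i := stepQ 51568 Q51568 (allL N51568 (tt N27259 (iv1 D94364)) (tt N85747 F373779) (tt N85745 (iv2 F390828)) (tt N71035 F377567) (tt N86881 D189735) (tt N46782 F377568) (tt N86882 D189736) (tt N85746 (iv7 F390835)))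
theorem Q51570 : ∀ i, i < 51570 → P i := stepQ 51569 Q51569 (allL N51569 (tt N85746 (iv1 F373778)) (tt N85745 F373773) (tt N27259 (iv2 D94365)) (tt N79851 (iv3 F367160)) (tt N51387 F145484) (tt N79839 F367159) (tt N86813 (iv6 F377281)) (tt N85747 (iv7 F373776)))
theorem Q51571 : ∀ i, i < 51571 → P i := stepQ 51570 Q51570 (allL N51570 (tt N49330 F292444) (tt N49334 F292445) (tt N49331 F292597) (tt N51401 F145552) (tt N49211 F293649) (tt N27261 (iv5 D94393)) (tt N57212 F178350) (tt N32170 F178351))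
theorem Q51572 : ∀ i, i < 51572 → P i := stepQ 51571 Q51571 (allL N51571 (tt N83729 (iv1 F331398)) (tt N60203 (iv0 F331393)) (tt N27263 F145561) (tt N49362 F291629) (tt N83731 F291630) (tt N27262 (iv5 D94399)) (tt N86883 D189737) (tt N83732 F331417))
theorem Q51573 : ∀ i, i < 51573 → P i := stepQ 51572 Q51572 (allL N51572 (tt N50737 F367230) (tt N85377 F372398) (tt N27264 F145562) (tt N28559 F292211) (tt N84642 (iv4 F369974)) (tt N79047 F251985) (tt N27262 (iv6 D94400)) (tt N85378 (iv7 F372403)))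
theorem Q51574 : ∀ i, i < 51574 → P i := stepQ 51573 Q51573 (allL N51573 (tt N86568 (iv1 F376498)) (tt N27546 F292630) (tt N83731 F291631) (tt N52684 (iv3 F293679)) (tt N27263 (iv4 D94403)) (tt N55061 F292631) (tt N86884 D189738) (tt N83737 F291633))
theorem Q51575 : ∀ i, i < 51575 → P i := stepQ 51574 Q51574 (allL N51574 (tt N86885 D189739) (tt N86886 D189740) (tt N86883 (iv2 F377580)) (tt N27265 F145563) (tt N86884 (iv4 F377582)) (tt N86887 D189741) (tt N27263 (iv6 D94404)) (tt N86888 D189742))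
theorem Q51576 : ∀ i, i < 51576 → P i := stepQ 51575 Q51575 (allL N51575 (tt N85378 (iv1 F372404)) (tt N27264 (iv0 D94405)) (tt N50737 F251142) (tt N51407 (iv3 F251141)) (tt N52411 F251143) (tt N50412 F251137) (tt N50729 (iv6 F251138)) (tt N85377 (iv7 F372399)))
theorem Q51577 : ∀ i, i < 51577 → P i := stepQ 51576 Q51576 (allL N51576 (tt N27264 (iv1 D94406)) (tt N85378 F372405) (tt N85377 F372397) (tt N86889 D189743) (tt N85621 (iv4 F373234)) (tt N50413 (iv5 F369985)) (tt N84425 (iv6 F369984)) (tt N50737 F251144))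
theorem Q51578 : ∀ i, i < 51578 → P i := stepQ 51577 Q51577 (allL N51577 (tt N50874 F178363) (tt N79049 F251992) (tt N79047 (iv2 F251986)) (tt N27267 F145564) (tt N86890 D189744) (tt N27264 (iv5 D94407)) (tt N86887 (iv6 F377588)) (tt N79046 (iv7 F251993)))
theorem Q51579 : ∀ i, i < 51579 → P i := stepQ 51578 Q51578 (allL N51578 (tt N49375 F291639) (tt N27265 (iv0 D94416)) (tt N49373 (iv2 F377608)) (tt N86891 D189746) (tt N84239 F377606) (tt N86892 D189748) (tt N86893 D189749) (tt N49374 F377607))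
theorem Q51580 : ∀ i, i < 51580 → P i := stepQ 51579 Q51579 (allL N51579 (tt N27265 (iv1 D94417)) (tt N49375 F291640) (tt N49374 F377609) (tt N86894 D189750) (tt N86895 D189751) (tt N86896 D189752) (tt N86897 D189753) (tt N49373 F377610))
theorem Q51581 : ∀ i, i < 51581 → P i := stepQ 51580 Q51580 (allL N51580 (tt N86898 D189754) (tt N86899 D189755) (tt N28562 F291641) (tt N86887 (iv3 F377587)) (tt N84834 (iv4 F370794)) (tt N27265 (iv5 D94418)) (tt N27267 F145582) (tt N86900 D189756))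
theorem Q51582 : ∀ i, i < 51582 → P i := stepQ 51581 Q51581 (allL N51581 (tt N49374 F291642) (tt N49373 F291643) (tt N49375 F291644) (tt N86888 (iv3 F377590)) (tt N81652 F291645) (tt N86900 (iv5 F377635)) (tt N84443 (iv6 F369289)) (tt N27265 (iv7 D94419)))
theorem Q51583 : ∀ i, i < 51583 → P i := stepQ 51582 Q51582 (allL N51582 (tt N51100 F145586) (tt N84412 F369204) (tt N84411 F369195) (tt N27266 (iv3 D94420)) (tt N55145 F292094) (tt N50421 F145583) (tt N51439 F145584) (tt N28552 F292095))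
theorem Q51584 : ∀ i, i < 51584 → P i := stepQ 51583 Q51583 (allL N51583 (tt N49298 F340448) (tt N54855 F340449) (tt N49360 F293699) (tt N49357 F291088) (tt N86901 D189757) (tt N27268 (iv5 D94442)) (tt N86902 D189758) (tt N49361 F293700))
theorem Q51585 : ∀ i, i < 51585 → P i := stepQ 51584 Q51584 (allL N51584 (tt N49364 (iv1 F292460)) (tt N49363 F291648) (tt N27270 F145621) (tt N83732 F331415) (tt N86903 D189759) (tt N27269 (iv5 D94443)) (tt N86904 D189760) (tt N49362 F291649))
theorem Q51586 : ∀ i, i < 51586 → P i := stepQ 51585 Q51585 (allL N51585 (tt N51439 (iv1 F145632)) (tt N50768 F145623) (tt N27271 F145622) (tt N84440 (iv3 F369264)) (tt N53149 (iv4 F152550)) (tt N84942 F371143) (tt N27269 (iv6 D94444)) (tt N84767 (iv7 F370543)))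
theorem Q51587 : ∀ i, i < 51587 → P i := stepQ 51586 Q51586 (allL N51586 (tt N49362 F291646) (tt N27270 (iv0 D94445)) (tt N49364 F293455) (tt N86905 D189761) (tt N74162 F359560) (tt N29071 F293472) (tt N60184 (iv6 F359559)) (tt N49363 F293456))
theorem Q51588 : ∀ i, i < 51588 → P i := stepQ 51587 Q51587 (allL N51587 (tt N27270 (iv1 D94446)) (tt N49362 F291647) (tt N49363 (iv2 F294387)) (tt N50890 (iv3 F145624)) (tt N86906 D189762) (tt N29072 F291610) (tt N70472 (iv6 F359563)) (tt N49364 F293473))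
theorem Q51589 : ∀ i, i < 51589 → P i := stepQ 51588 Q51588 (allL N51588 (tt N86907 D189763) (tt N86908 D189764) (tt N86903 (iv2 F377645)) (tt N81642 F291650) (tt N27270 (iv4 D94447)) (tt N86909 D189765) (tt N82947 F363174) (tt N49365 F291651))
theorem Q51590 : ∀ i, i < 51590 → P i := stepQ 51589 Q51589 (allL N51589 (tt N86910 D189766) (tt N60178 (iv0 F175871)) (tt N86904 (iv2 F377649)) (tt N27272 F145628) (tt N82947 (iv4 F363173)) (tt N70601 F359564) (tt N27270 (iv6 D94448)) (tt N86911 D189767))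
theorem Q51591 : ∀ i, i < 51591 → P i := stepQ 51590 Q51590 (allL N51590 (tt N84767 (iv1 F370542)) (tt N27271 (iv0 D94449)) (tt N51439 (iv2 F145630)) (tt N86912 D189768) (tt N86754 (iv4 F377064)) (tt N50224 F145629) (tt N84411 (iv6 F369194)) (tt N50768 F145631))
theorem Q51592 : ∀ i, i < 51592 → P i := stepQ 51591 Q51591 (allL N51591 (tt N83645 (iv1 F288237)) (tt N50903 (iv0 F145634)) (tt N84942 (iv2 F371144)) (tt N27274 F145633) (tt N86913 D189769) (tt N27271 (iv5 D94450)) (tt N70601 (iv6 F359566)) (tt N54748 (iv7 F157532)))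
theorem Q51593 : ∀ i, i < 51593 → P i := stepQ 51592 Q51592 (allL N51592 (tt N84443 (iv1 F369291)) (tt N27272 (iv0 D94453)) (tt N84441 F369269) (tt N37324 F365938) (tt N78538 (iv4 F354339)) (tt N37319 F365939) (tt N81452 F365937) (tt N84442 (iv7 F369272)))
theorem Q51594 : ∀ i, i < 51594 → P i := stepQ 51593 Q51593 (allL N51593 (tt N27272 (iv1 D94454)) (tt N84443 F369290) (tt N84442 (iv2 F369275)) (tt N86914 D189770) (tt N78539 (iv4 F369281)) (tt N60826 (iv5 F176983)) (tt N32176 (iv6 F145636)) (tt N84441 F369270))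
theorem Q51595 : ∀ i, i < 51595 → P i := stepQ 51594 Q51594 (allL N51594 (tt N37164 F354338) (tt N86915 D189771) (tt N54751 (iv2 F157534)) (tt N70601 (iv3 F359565)) (tt N70506 (iv4 F366462)) (tt N27272 (iv5 D94455)) (tt N27274 F145637) (tt N86916 D189772))
theorem Q51596 : ∀ i, i < 51596 → P i := stepQ 51595 Q51595 (allL N51595 (tt N84442 (iv1 F369271)) (tt N84441 F369285) (tt N84443 (iv2 F369286)) (tt N86911 (iv3 F377675)) (tt N81647 F291656) (tt N86916 (iv5 F377696)) (tt N49375 F291657) (tt N27272 (iv7 D94456)))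
theorem Q51597 : ∀ i, i < 51597 → P i := stepQ 51596 Q51596 (allL N51596 (tt N51432 F145642) (tt N51427 F145648) (tt N51431 F145645) (tt N27273 (iv3 D94457)) (tt N49099 F145638) (tt N50230 F145639) (tt N28558 F294202) (tt N50773 F145641))
theorem Q51598 : ∀ i, i < 51598 → P i := stepQ 51597 Q51597 (allL N51597 (tt N71851 F338479) (tt N82648 F344367) (tt N58229 F344364) (tt N27275 (iv3 D94801)) (tt N86917 D189773) (tt N29469 F292473) (tt N69729 F339541) (tt N48639 F292474))
theorem Q51599 : ∀ i, i < 51599 → P i := stepQ 51598 Q51598 (allL N51598 (tt N86918 D189774) (tt N86919 D189775) (tt N86920 D189776) (tt N27276 (iv3 D94809)) (tt N52169 (iv4 F147848)) (tt N46539 F294455) (tt N86921 D189777) (tt N48672 (iv7 F295049)))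
theorem Q51600 : ∀ i, i < 51600 → P i := stepQ 51599 Q51599 (allL N51599 (tt N86922 D189778) (tt N86923 D189779) (tt N48297 (iv2 F295051)) (tt N86921 (iv3 F377710)) (tt N27277 F146158) (tt N86924 D189780) (tt N27276 (iv6 D94811)) (tt N86925 D189781))
theorem Q51601 : ∀ i, i < 51601 → P i := stepQ 51600 Q51600 (allL N51600 (tt N83017 (iv1 F285262)) (tt N27277 (iv0 D94812)) (tt N83016 (iv2 F286530)) (tt N86926 D189782) (tt N86927 D189783) (tt N49113 F337939) (tt N86928 D189784) (tt N77299 (iv7 F358610)))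
theorem Q51602 : ∀ i, i < 51602 → P i := stepQ 51601 Q51601 (allL N51601 (tt N27277 (iv1 D94813)) (tt N83017 F285261) (tt N77299 (iv2 F358608)) (tt N64676 F366836) (tt N86929 D189785) (tt N77378 (iv5 F310362)) (tt N64675 (iv6 F306922)) (tt N83016 (iv7 F286528)))
theorem Q51603 : ∀ i, i < 51603 → P i := stepQ 51602 Q51602 (allL N51602 (tt N77371 (iv1 F358587)) (tt N77153 (iv0 F352430)) (tt N49072 F146159) (tt N52173 (iv3 F147851)) (tt N86930 D189786) (tt N27277 (iv5 D94814)) (tt N27278 F146160) (tt N77368 (iv7 F358591)))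
theorem Q51604 : ∀ i, i < 51604 → P i := stepQ 51603 Q51603 (allL N51603 (tt N77299 (iv1 F358607)) (tt N83016 F285260) (tt N83017 (iv2 F285259)) (tt N52174 (iv3 F147853)) (tt N86925 (iv4 F377727)) (tt N77368 F358590) (tt N48675 (iv6 F295050)) (tt N27277 (iv7 D94815)))
theorem Q51605 : ∀ i, i < 51605 → P i := stepQ 51604 Q51604 (allL N51604 (tt N48842 F146164) (tt N48840 F146165) (tt N49071 F146162) (tt N86931 D189787) (tt N27278 (iv4 D94816)) (tt N82669 (iv5 F283612)) (tt N86930 (iv6 F377748)) (tt N49073 F146163))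
theorem Q51606 : ∀ i, i < 51606 → P i := stepQ 51605 Q51605 (allL N51605 (tt N42928 (iv1 F310145)) (tt N43575 F308513) (tt N43600 (iv2 F310141)) (tt N34055 F308514) (tt N80354 (iv4 F299634)) (tt N27282 (iv5 D95241)) (tt N40188 (iv6 F317183)) (tt N43405 (iv7 F310144)))
theorem Q51607 : ∀ i, i < 51607 → P i := stepQ 51606 Q51606 (allL N51606 (tt N46538 F146870) (tt N27707 F146878) (tt N46184 F299566) (tt N86932 D189788) (tt N27283 (iv4 D95261)) (tt N86933 D189789) (tt N65788 F330411) (tt N46186 F299567))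
theorem Q51608 : ∀ i, i < 51608 → P i := stepQ 51607 Q51607 (allL N51607 (tt N59941 (iv1 F324476)) (tt N79672 F297305) (tt N45843 (iv2 F297444)) (tt N31231 F327884) (tt N65788 F327885) (tt N45820 F297306) (tt N27283 (iv6 D95263)) (tt N45845 F297307))
theorem Q51609 : ∀ i, i < 51609 → P i := stepQ 51608 Q51608 (allL N51608 (tt N27707 F146876) (tt N46538 (iv0 F146877)) (tt N46186 F299568) (tt N86934 D189790) (tt N27284 (iv4 D95264)) (tt N86935 D189791) (tt N79365 F299569) (tt N46184 F299570))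
theorem Q51610 : ∀ i, i < 51610 → P i := stepQ 51609 Q51609 (allL N51609 (tt N86936 D189792) (tt N86937 D189793) (tt N86938 D189794) (tt N27285 (iv3 D95266)) (tt N52783 (iv4 F151324)) (tt N86939 D189795) (tt N27293 F146886) (tt N82352 (iv7 F280494)))
theorem Q51611 : ∀ i, i < 51611 → P i := stepQ 51610 Q51610 (allL N51610 (tt N80411 (iv1 F341734)) (tt N65405 (iv0 F201540)) (tt N46189 F297528) (tt N86939 (iv3 F377782)) (tt N86940 D189796) (tt N27285 (iv5 D95267)) (tt N86941 D189797) (tt N82346 F280417))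
theorem Q51612 : ∀ i, i < 51612 → P i := stepQ 51611 Q51611 (allL N51611 (tt N86942 D189798) (tt N86943 D189799) (tt N86944 D189800) (tt N27286 (iv3 D95268)) (tt N45939 F146887) (tt N86945 D189801) (tt N82565 F366965) (tt N52249 (iv7 F148261)))
theorem Q51613 : ∀ i, i < 51613 → P i := stepQ 51612 Q51612 (allL N51612 (tt N44619 F146891) (tt N27710 F146892) (tt N46547 F146888) (tt N86945 (iv3 F377799)) (tt N27338 F146890) (tt N27286 (iv5 D95269)) (tt N86946 D189802) (tt N46548 F146889))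
theorem Q51614 : ∀ i, i < 51614 → P i := stepQ 51613 Q51613 (allL N51613 (tt N86947 D189803) (tt N86948 D189804) (tt N86949 D189805) (tt N27287 (iv3 D95270)) (tt N45790 F146893) (tt N74383 F364802) (tt N86950 D189806) (tt N52248 (iv7 F148260)))
theorem Q51615 : ∀ i, i < 51615 → P i := stepQ 51614 Q51614 (allL N51614 (tt N27710 F146897) (tt N44619 F146898) (tt N46548 F146894) (tt N74383 (iv3 F364803)) (tt N27337 F146895) (tt N27287 (iv5 D95271)) (tt N86951 D189807) (tt N46547 F146896))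
theorem Q51616 : ∀ i, i < 51616 → P i := stepQ 51615 Q51615 (allL N51615 (tt N41523 (iv1 F324012)) (tt N31306 F323907) (tt N41522 (iv2 F324448)) (tt N86950 (iv3 F377804)) (tt N27288 F146899) (tt N35858 F323908) (tt N27287 (iv6 D95272)) (tt N41521 (iv7 F324446)))
theorem Q51617 : ∀ i, i < 51617 → P i := stepQ 51616 Q51616 (allL N51616 (tt N31965 F323043) (tt N27288 (iv0 D95273)) (tt N31353 F323044) (tt N49842 F146904) (tt N55595 (iv4 F201650)) (tt N45720 F296828) (tt N45721 (iv6 F297853)) (tt N46242 F296829))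
theorem Q51618 : ∀ i, i < 51618 → P i := stepQ 51617 Q51617 (allL N51617 (tt N86952 D189808) (tt N86953 D189809) (tt N86954 D189810) (tt N27289 (iv3 D95276)) (tt N35231 F146907) (tt N82999 (iv5 F367077)) (tt N81740 (iv6 F276773)) (tt N46542 F146908))
theorem Q51619 : ∀ i, i < 51619 → P i := stepQ 51618 Q51618 (allL N51618 (tt N86955 D189811) (tt N86956 D189812) (tt N86957 D189813) (tt N27291 (iv3 D95280)) (tt N46316 F146925) (tt N83006 F364714) (tt N65758 F365910) (tt N46540 F146926))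
theorem Q51620 : ∀ i, i < 51620 → P i := stepQ 51619 Q51619 (allL N51619 (tt N78399 (iv1 F248679)) (tt N27293 (iv0 D95286)) (tt N78398 F363216) (tt N35691 F341939) (tt N86958 D189814) (tt N83010 (iv5 F359007)) (tt N86959 D189815) (tt N35686 F341940))
theorem Q51621 : ∀ i, i < 51621 → P i := stepQ 51620 Q51620 (allL N51620 (tt N27293 (iv1 D95287)) (tt N78399 F248681) (tt N35686 F363213) (tt N86960 D189816) (tt N86961 D189817) (tt N83011 F363214) (tt N35684 F363215) (tt N78398 (iv7 F363217)))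
theorem Q51622 : ∀ i, i < 51622 → P i := stepQ 51621 Q51621 (allL N51621 (tt N78398 (iv1 F248680)) (tt N35686 F328127) (tt N27293 (iv2 D95288)) (tt N52254 (iv3 F148285)) (tt N52786 (iv4 F151334)) (tt N86962 D189818) (tt N86938 (iv6 F377780)) (tt N78399 (iv7 F248678)))
theorem Q51623 : ∀ i, i < 51623 → P i := stepQ 51622 Q51622 (allL N51622 (tt N67281 F363218) (tt N86963 D189819) (tt N86962 (iv2 F377872)) (tt N27294 F146937) (tt N86964 D189820) (tt N27293 (iv5 D95289)) (tt N86965 D189821) (tt N52315 (iv7 F148589)))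
theorem Q51624 : ∀ i, i < 51624 → P i := stepQ 51623 Q51623 (allL N51623 (tt N71915 (iv1 F349686)) (tt N71914 (iv0 F349684)) (tt N52256 (iv2 F148288)) (tt N86965 (iv3 F377874)) (tt N48656 F146938) (tt N86941 (iv5 F377791)) (tt N27294 (iv6 D95290)) (tt N71902 F349687))
theorem Q51625 : ∀ i, i < 51625 → P i := stepQ 51624 Q51624 (allL N51624 (tt N51808 (iv1 F147260)) (tt N27295 (iv0 D95291)) (tt N51805 (iv2 F332540)) (tt N67134 (iv3 F339721)) (tt N29141 F332539) (tt N67132 F339720) (tt N66676 (iv6 F332541)) (tt N51806 (iv7 F332542)))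
theorem Q51626 : ∀ i, i < 51626 → P i := stepQ 51625 Q51625 (allL N51625 (tt N68109 F346783) (tt N28904 F339715) (tt N51807 (iv2 F147254)) (tt N53888 (iv3 F154891)) (tt N77685 (iv4 F346787)) (tt N27295 (iv5 D95293)) (tt N27296 F146939) (tt N68107 (iv7 F361893)))
theorem Q51627 : ∀ i, i < 51627 → P i := stepQ 51626 Q51626 (allL N51626 (tt N51806 (iv1 F147253)) (tt N51805 F147258) (tt N51808 (iv2 F147256)) (tt N53889 (iv3 F154893)) (tt N41964 F317104) (tt N68107 (iv5 F346794)) (tt N51812 (iv6 F147271)) (tt N27295 (iv7 D95294)))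
theorem Q51628 : ∀ i, i < 51628 → P i := stepQ 51627 Q51627 (allL N51627 (tt N27902 (iv1 F146942)) (tt N48964 (iv0 F293901)) (tt N29181 F146940) (tt N53894 (iv3 F154898)) (tt N55030 (iv4 F158498)) (tt N27297 F146941) (tt N86966 D189822) (tt N27296 (iv7 D95296)))
theorem Q51629 : ∀ i, i < 51629 → P i := stepQ 51628 Q51628 (allL N51628 (tt N54910 F176026) (tt N54912 F176027) (tt N52192 (iv2 F147978)) (tt N27301 F146944) (tt N52192 (iv4 F147980)) (tt N74051 F365050) (tt N27299 (iv6 D95301)) (tt N74205 (iv7 F365049)))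
theorem Q51630 : ∀ i, i < 51630 → P i := stepQ 51629 Q51629 (allL N51629 (tt N67134 F339728) (tt N54493 (iv0 F346745)) (tt N45001 F146945) (tt N75919 (iv3 F234600)) (tt N32649 F146946) (tt N60127 (iv5 F350601)) (tt N27300 (iv6 D95302)) (tt N68115 (iv7 F350600)))
theorem Q51631 : ∀ i, i < 51631 → P i := stepQ 51630 Q51630 (allL N51630 (tt N86967 D189823) (tt N66775 F259561) (tt N27304 F146948) (tt N52260 (iv3 F148306)) (tt N42732 F146949) (tt N58505 F318877) (tt N27302 (iv6 D95307)) (tt N86968 D189824))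
theorem Q51632 : ∀ i, i < 51632 → P i := stepQ 51631 Q51631 (allL N51631 (tt N86969 D189825) (tt N86970 D189826) (tt N27307 F146950) (tt N47605 F324886) (tt N65641 (iv4 F356007)) (tt N27303 (iv5 D95309)) (tt N58505 F356012) (tt N80160 (iv7 F356001)))
theorem Q51633 : ∀ i, i < 51633 → P i := stepQ 51632 Q51632 (allL N51632 (tt N27306 (iv1 F146955)) (tt N27305 (iv0 F146956)) (tt N27308 F146951) (tt N52232 F148084) (tt N50954 F146952) (tt N80160 F356000) (tt N29384 F146953) (tt N27303 (iv7 D95310)))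
theorem Q51634 : ∀ i, i < 51634 → P i := stepQ 51633 Q51633 (allL N51633 (tt N86968 (iv1 F377889)) (tt N27304 (iv0 D95311)) (tt N86967 F377879) (tt N52199 (iv3 F353129)) (tt N32690 F248557) (tt N86971 D189827) (tt N79945 F353130) (tt N66775 F248558))
theorem Q51635 : ∀ i, i < 51635 → P i := stepQ 51634 Q51634 (allL N51634 (tt N27304 (iv1 D95312)) (tt N86968 F377888) (tt N66775 F359247) (tt N73804 F318875) (tt N56182 (iv4 F321185)) (tt N86972 D189828) (tt N86973 D189829) (tt N86967 (iv7 F377881)))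
theorem Q51636 : ∀ i, i < 51636 → P i := stepQ 51635 Q51635 (allL N51635 (tt N86974 D189830) (tt N86975 D189831) (tt N58505 F318878) (tt N27313 F146957) (tt N32441 F318879) (tt N27304 (iv5 D95313)) (tt N27307 F146958) (tt N86976 D189832))
theorem Q51637 : ∀ i, i < 51637 → P i := stepQ 51636 Q51636 (allL N51636 (tt N66775 F259558) (tt N86967 F377883) (tt N86968 (iv2 F377884)) (tt N27314 F146959) (tt N79061 F318880) (tt N86976 (iv5 F377913)) (tt N52202 (iv6 F148008)) (tt N27304 (iv7 D95314)))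
theorem Q51638 : ∀ i, i < 51638 → P i := stepQ 51637 Q51637 (allL N51637 (tt N52783 F369727) (tt N84480 F369468) (tt N82373 (iv2 F347476)) (tt N52203 (iv3 F148010)) (tt N86977 D189833) (tt N27305 (iv5 D95316)) (tt N86978 D189834) (tt N85946 (iv7 F374551)))
theorem Q51639 : ∀ i, i < 51639 → P i := stepQ 51638 Q51638 (allL N51638 (tt N85174 F371803) (tt N29368 F292373) (tt N85177 (iv2 F371822)) (tt N52204 (iv3 F148011)) (tt N83613 (iv4 F288034)) (tt N86979 D189835) (tt N27305 (iv6 D95317)) (tt N84675 (iv7 F370166)))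
theorem Q51640 : ∀ i, i < 51640 → P i := stepQ 51639 Q51639 (allL N51639 (tt N54908 (iv1 F289644)) (tt N55433 (iv0 F160254)) (tt N52205 (iv2 F148014)) (tt N27306 (iv3 D95319)) (tt N52205 (iv4 F148015)) (tt N46829 F347485) (tt N84676 (iv6 F370172)) (tt N82374 (iv7 F348574)))
theorem Q51641 : ∀ i, i < 51641 → P i := stepQ 51640 Q51640 (allL N51640 (tt N84480 (iv1 F369467)) (tt N52783 (iv0 F347482)) (tt N85946 (iv2 F374549)) (tt N46829 F347478) (tt N46863 F347479) (tt N27306 (iv5 D95320)) (tt N86980 D189836) (tt N82373 F347480))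
theorem Q51642 : ∀ i, i < 51642 → P i := stepQ 51641 Q51641 (allL N51641 (tt N80160 (iv1 F356065)) (tt N27307 (iv0 D95322)) (tt N86969 F377892) (tt N52207 F369986) (tt N86981 D189837) (tt N84568 (iv5 F369715)) (tt N86982 D189838) (tt N86970 (iv7 F377895)))
theorem Q51643 : ∀ i, i < 51643 → P i := stepQ 51642 Q51642 (allL N51642 (tt N27307 (iv1 D95323)) (tt N80160 (iv0 F356002)) (tt N86970 F377897) (tt N86983 D189839) (tt N86984 D189840) (tt N79019 (iv5 F251852)) (tt N79626 F377940) (tt N86969 F377893))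
theorem Q51644 : ∀ i, i < 51644 → P i := stepQ 51643 Q51643 (allL N51643 (tt N65635 (iv1 F355998)) (tt N65643 F356015) (tt N65641 (iv2 F356005)) (tt N80154 (iv3 F356009)) (tt N27307 (iv4 D95324)) (tt N86985 D189841) (tt N32441 F356011) (tt N65640 (iv7 F355930)))
theorem Q51645 : ∀ i, i < 51645 → P i := stepQ 51644 Q51644 (allL N51644 (tt N86970 (iv1 F377894)) (tt N86969 F377891) (tt N80160 (iv2 F355929)) (tt N27323 F146962) (tt N65640 F355928) (tt N27308 F146963) (tt N86986 D189842) (tt N27307 (iv7 D95325)))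
theorem Q51646 : ∀ i, i < 51646 → P i := stepQ 51645 Q51645 (allL N51645 (tt N34847 F146966) (tt N45261 F146967) (tt N52261 (iv2 F148309)) (tt N42252 F309424) (tt N27309 (iv4 D95326)) (tt N28088 (iv5 F304511)) (tt N86987 D189843) (tt N49548 F146964))
theorem Q51647 : ∀ i, i < 51647 → P i := stepQ 51646 Q51646 (allL N51646 (tt N80468 F366649) (tt N86988 D189844) (tt N52262 (iv2 F148315)) (tt N27310 F146968) (tt N86987 (iv4 F377953)) (tt N86989 D189845) (tt N27309 (iv6 D95327)) (tt N86990 D189846))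
theorem Q51648 : ∀ i, i < 51648 → P i := stepQ 51647 Q51647 (allL N51647 (tt N52215 (iv1 F148029)) (tt N27310 (iv0 D95328)) (tt N52212 F352645) (tt N68112 F352651) (tt N27500 F352646) (tt N68106 (iv5 F352652)) (tt N68108 F352647) (tt N52213 (iv7 F352650)))
theorem Q51649 : ∀ i, i < 51649 → P i := stepQ 51648 Q51648 (allL N51648 (tt N27310 (iv1 D95329)) (tt N52215 F148028) (tt N52213 F352648) (tt N84240 (iv3 F368650)) (tt N27501 F310158) (tt N86991 D189847) (tt N36343 F308811) (tt N52212 F352642))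
theorem Q51650 : ∀ i, i < 51650 → P i := stepQ 51649 Q51649 (allL N51649 (tt N86992 D189848) (tt N86993 D189849) (tt N52214 (iv2 F148023)) (tt N86989 (iv3 F377972)) (tt N86994 D189850) (tt N27310 (iv5 D95330)) (tt N27389 F146969) (tt N86995 D189851))
theorem Q51651 : ∀ i, i < 51651 → P i := stepQ 51650 Q51650 (allL N51650 (tt N52213 (iv1 F148022)) (tt N52212 F148027) (tt N52215 (iv2 F148025)) (tt N86990 (iv3 F377975)) (tt N52006 (iv4 F312743)) (tt N86995 (iv5 F377988)) (tt N52219 (iv6 F148034)) (tt N27310 (iv7 D95331)))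
theorem Q51652 : ∀ i, i < 51652 → P i := stepQ 51651 Q51651 (allL N51651 (tt N58502 (iv1 F354581)) (tt N58496 F318881) (tt N86996 D189852) (tt N27311 (iv3 D95333)) (tt N41603 F318882) (tt N59842 F318883) (tt N86997 D189853) (tt N52267 F318884))
theorem Q51653 : ∀ i, i < 51653 → P i := stepQ 51652 Q51652 (allL N51652 (tt N36297 F318886) (tt N36311 F318887) (tt N52265 F318888) (tt N59842 F318889) (tt N65841 F318890) (tt N27311 (iv5 D95335)) (tt N46326 F336506) (tt N52268 F318891))
theorem Q51654 : ∀ i, i < 51654 → P i := stepQ 51653 Q51653 (allL N51653 (tt N36343 F318892) (tt N36346 F318893) (tt N52266 F318894) (tt N86997 (iv3 F377994)) (tt N41699 F318895) (tt N52470 F149725) (tt N27311 (iv6 D95336)) (tt N86998 D189854))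
theorem Q51655 : ∀ i, i < 51655 → P i := stepQ 51654 Q51654 (allL N51654 (tt N27353 F348020) (tt N86999 D189855) (tt N84206 (iv2 F368505)) (tt N27312 (iv3 D95338)) (tt N41865 F318896) (tt N87000 D189856) (tt N49783 (iv6 F348021)) (tt N52264 F318897))
theorem Q51656 : ∀ i, i < 51656 → P i := stepQ 51655 Q51655 (allL N51655 (tt N36311 F318898) (tt N36297 F318899) (tt N52268 F318900) (tt N87000 (iv3 F378009)) (tt N65840 F318901) (tt N27312 (iv5 D95340)) (tt N79564 F353257) (tt N52265 F318902))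
theorem Q51657 : ∀ i, i < 51657 → P i := stepQ 51656 Q51656 (allL N51656 (tt N87001 D189857) (tt N80470 (iv0 F346814)) (tt N52269 F318903) (tt N49783 F348023) (tt N41862 F318904) (tt N54476 (iv5 F348024)) (tt N27312 (iv6 D95341)) (tt N84203 (iv7 F368497)))
theorem Q51658 : ∀ i, i < 51658 → P i := stepQ 51657 Q51657 (allL N51657 (tt N27313 (iv1 D95343)) (tt N36324 (iv0 F320063)) (tt N52271 F318906) (tt N87002 D189858) (tt N41974 F318907) (tt N41960 (iv5 F320996)) (tt N87003 D189859) (tt N52270 F318908))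
theorem Q51659 : ∀ i, i < 51659 → P i := stepQ 51658 Q51658 (allL N51658 (tt N52271 (iv1 F148330)) (tt N52270 F148335) (tt N36324 (iv2 F320064)) (tt N86976 (iv3 F377911)) (tt N42041 F318910) (tt N27314 F146973) (tt N87004 D189860) (tt N27313 (iv7 D95345)))
theorem Q51660 : ∀ i, i < 51660 → P i := stepQ 51659 Q51659 (allL N51659 (tt N52277 (iv1 F148354)) (tt N27315 (iv0 D95346)) (tt N52276 (iv2 F156208)) (tt N55433 (iv3 F160253)) (tt N53345 (iv4 F157390)) (tt N87005 D189861) (tt N52228 F289685) (tt N52184 (iv7 F289592)))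
theorem Q51661 : ∀ i, i < 51661 → P i := stepQ 51660 Q51660 (allL N51660 (tt N52276 (iv1 F148355)) (tt N52184 (iv0 F289590)) (tt N27315 (iv2 D95348)) (tt N27354 F146974) (tt N53429 F153660) (tt N87006 D189862) (tt N87007 D189863) (tt N52277 (iv7 F148353)))
theorem Q51662 : ∀ i, i < 51662 → P i := stepQ 51661 Q51661 (allL N51661 (tt N87008 D189864) (tt N87009 D189865) (tt N87006 (iv2 F378031)) (tt N27316 F146975) (tt N87010 D189866) (tt N27315 (iv5 D95349)) (tt N87011 D189867) (tt N52278 (iv7 F148360)))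
theorem Q51663 : ∀ i, i < 51663 → P i := stepQ 51662 Q51662 (allL N51662 (tt N87012 D189868) (tt N87013 D189869) (tt N87007 (iv2 F378033)) (tt N27317 F146976) (tt N50665 F146977) (tt N51886 (iv5 F147378)) (tt N27315 (iv6 D95350)) (tt N52238 F291123))
theorem Q51664 : ∀ i, i < 51664 → P i := stepQ 51663 Q51663 (allL N51663 (tt N55453 (iv1 F160337)) (tt N55456 (iv0 F160343)) (tt N52274 (iv2 F148345)) (tt N47908 F344671) (tt N27316 (iv4 D95352)) (tt N48692 F344675) (tt N76110 F344672) (tt N52279 (iv7 F148364)))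
theorem Q51665 : ∀ i, i < 51665 → P i := stepQ 51664 Q51664 (allL N51664 (tt N45668 F344666) (tt N87014 D189870) (tt N52275 (iv2 F148348)) (tt N87011 (iv3 F378039)) (tt N76110 (iv4 F344667)) (tt N51888 (iv5 F147380)) (tt N27316 (iv6 D95353)) (tt N87015 D189871))
theorem Q51666 : ∀ i, i < 51666 → P i := stepQ 51665 Q51665 (allL N51665 (tt N83520 F287720) (tt N87016 D189872) (tt N55512 (iv2 F160464)) (tt N27319 F146988) (tt N81951 F365763) (tt N27318 (iv5 D95355)) (tt N87017 D189873) (tt N52272 (iv7 F148340)))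
theorem Q51667 : ∀ i, i < 51667 → P i := stepQ 51666 Q51666 (allL N51666 (tt N55456 (iv1 F160344)) (tt N55453 (iv0 F160336)) (tt N52279 (iv2 F148363)) (tt N87018 D189874) (tt N27319 (iv4 D95357)) (tt N66995 (iv5 F348700)) (tt N75217 (iv6 F348706)) (tt N52274 (iv7 F148346)))
theorem Q51668 : ∀ i, i < 51668 → P i := stepQ 51667 Q51667 (allL N51667 (tt N87019 D189875) (tt N87020 D189876) (tt N52280 (iv2 F148366)) (tt N87017 (iv3 F378055)) (tt N75217 F348707) (tt N82608 F348710) (tt N27319 (iv6 D95358)) (tt N87021 D189877))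
theorem Q51669 : ∀ i, i < 51669 → P i := stepQ 51668 Q51668 (allL N51668 (tt N87005 F378030) (tt N58497 (iv0 F361848)) (tt N87022 D189878) (tt N27320 (iv3 D95360)) (tt N87023 D189879) (tt N77713 (iv5 F361846)) (tt N58425 F344650) (tt N52284 (iv7 F148376)))
theorem Q51670 : ∀ i, i < 51670 → P i := stepQ 51669 Q51669 (allL N51669 (tt N54950 (iv1 F158391)) (tt N29255 F146994) (tt N52282 (iv2 F148370)) (tt N64243 F331721) (tt N27320 (iv4 D95361)) (tt N83127 (iv5 F348704)) (tt N58799 F344645) (tt N52285 (iv7 F148378)))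
theorem Q51671 : ∀ i, i < 51671 → P i := stepQ 51670 Q51670 (allL N51670 (tt N58442 F344648) (tt N87024 D189880) (tt N52283 (iv2 F148374)) (tt N58425 (iv3 F344649)) (tt N58799 (iv4 F344646)) (tt N77710 (iv5 F361845)) (tt N27320 (iv6 D95362)) (tt N79644 F344647))
theorem Q51672 : ∀ i, i < 51672 → P i := stepQ 51671 Q51671 (allL N51671 (tt N27355 F146996) (tt N55513 F160471) (tt N55514 F160474) (tt N27321 (iv3 D95363)) (tt N87025 D189881) (tt N49672 F146995) (tt N79641 (iv6 F344664)) (tt N52281 (iv7 F148368)))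
theorem Q51673 : ∀ i, i < 51673 → P i := stepQ 51672 Q51672 (allL N51672 (tt N29255 F146997) (tt N54950 F158390) (tt N52285 (iv2 F148377)) (tt N80178 F358930) (tt N27321 (iv4 D95364)) (tt N84124 (iv5 F368202)) (tt N64260 (iv6 F344665)) (tt N52282 (iv7 F148371)))
theorem Q51674 : ∀ i, i < 51674 → P i := stepQ 51673 Q51673 (allL N51673 (tt N87026 D189882) (tt N47150 F358101) (tt N52287 (iv2 F148399)) (tt N86986 (iv3 F377950)) (tt N80162 F358102) (tt N29387 F147000) (tt N27323 (iv6 D95370)) (tt N87004 (iv7 F378025)))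
theorem Q51675 : ∀ i, i < 51675 → P i := stepQ 51674 Q51674 (allL N51674 (tt N47618 (iv1 F343037)) (tt N47598 (iv0 F343038)) (tt N29389 F147001) (tt N27325 F147002) (tt N87027 D189883) (tt N27324 (iv5 D95371)) (tt N55484 (iv6 F352050)) (tt N47617 F335304))
theorem Q51676 : ∀ i, i < 51676 → P i := stepQ 51675 Q51675 (allL N51675 (tt N55118 (iv1 F343083)) (tt N55437 F160293) (tt N29390 F147003) (tt N27326 F147004) (tt N51675 F147005) (tt N51964 (iv5 F147504)) (tt N27324 (iv6 D95372)) (tt N29354 F290774))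
theorem Q51677 : ∀ i, i < 51677 → P i := stepQ 51676 Q51676 (allL N51676 (tt N87028 D189884) (tt N87029 D189885) (tt N29401 F147007) (tt N55484 F352051) (tt N36488 F352717) (tt N51965 (iv5 F147505)) (tt N27325 (iv6 D95374)) (tt N87030 D189886))
theorem Q51678 : ∀ i, i < 51678 → P i := stepQ 51677 Q51677 (allL N51677 (tt N53315 F291545) (tt N53352 F291546) (tt N28997 F291547) (tt N27327 (iv3 D95378)) (tt N51677 F147012) (tt N87031 D189887) (tt N48747 F291548) (tt N50636 (iv7 F292329)))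
theorem Q51679 : ∀ i, i < 51679 → P i := stepQ 51678 Q51678 (allL N51678 (tt N49611 (iv1 F292052)) (tt N49613 (iv0 F291987)) (tt N29463 F147013) (tt N87031 (iv3 F378112)) (tt N79656 (iv4 F356619)) (tt N27327 (iv5 D95379)) (tt N63941 F356624) (tt N49620 (iv7 F292053)))
theorem Q51680 : ∀ i, i < 51680 → P i := stepQ 51679 Q51679 (allL N51679 (tt N83072 F367064) (tt N87032 D189888) (tt N85832 (iv2 F374162)) (tt N27328 (iv3 D95381)) (tt N55091 (iv4 F291918)) (tt N87033 D189889) (tt N50683 (iv6 F367063)) (tt N52289 (iv7 F148427)))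
theorem Q51681 : ∀ i, i < 51681 → P i := stepQ 51680 Q51680 (allL N51680 (tt N49861 (iv1 F292364)) (tt N49862 (iv0 F292363)) (tt N49868 (iv2 F291568)) (tt N87033 (iv3 F378118)) (tt N84124 (iv4 F368203)) (tt N27328 (iv5 D95382)) (tt N77219 (iv6 F359698)) (tt N49867 (iv7 F291577)))
theorem Q51682 : ∀ i, i < 51682 → P i := stepQ 51681 Q51681 (allL N51681 (tt N55367 F293407) (tt N27329 (iv0 D95386)) (tt N55369 F293408) (tt N29004 F293409) (tt N49144 F293410) (tt N87034 D189890) (tt N50058 F293411) (tt N54681 F293412))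
theorem Q51683 : ∀ i, i < 51683 → P i := stepQ 51682 Q51682 (allL N51682 (tt N55369 (iv1 F362384)) (tt N54681 (iv0 F345093)) (tt N27329 (iv2 D95388)) (tt N52291 (iv3 F148431)) (tt N50550 F147017) (tt N62867 F343877) (tt N27335 F147018) (tt N55367 F362385))
theorem Q51684 : ∀ i, i < 51684 → P i := stepQ 51683 Q51683 (allL N51683 (tt N62866 (iv1 F321335)) (tt N48697 F293415) (tt N62867 (iv2 F321345)) (tt N27330 F147019) (tt N62772 F339708) (tt N27329 (iv5 D95389)) (tt N62878 (iv6 F339707)) (tt N55370 F293417))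
theorem Q51685 : ∀ i, i < 51685 → P i := stepQ 51684 Q51684 (allL N51684 (tt N80908 (iv1 F360620)) (tt N81514 F348455) (tt N52294 (iv2 F148446)) (tt N62878 F339704) (tt N80163 (iv4 F339706)) (tt N27340 F147024) (tt N27330 (iv6 D95394)) (tt N62876 (iv7 F339703)))
theorem Q51686 : ∀ i, i < 51686 → P i := stepQ 51685 Q51685 (allL N51685 (tt N52306 (iv1 F148557)) (tt N27331 (iv0 D95396)) (tt N52305 F350438) (tt N72008 F350434) (tt N81548 (iv4 F360352)) (tt N72001 (iv5 F350435)) (tt N53680 (iv6 F350436)) (tt N52304 (iv7 F350437)))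
theorem Q51687 : ∀ i, i < 51687 → P i := stepQ 51686 Q51686 (allL N51686 (tt N27331 (iv1 D95397)) (tt N52306 F148559) (tt N52304 (iv2 F350439)) (tt N53598 (iv3 F371294)) (tt N83587 (iv4 F287961)) (tt N87035 D189891) (tt N87032 F378131) (tt N52305 F350440))
theorem Q51688 : ∀ i, i < 51688 → P i := stepQ 51687 Q51687 (allL N51687 (tt N52305 (iv1 F148558)) (tt N52304 F148553) (tt N27331 (iv2 D95398)) (tt N52302 (iv3 F148531)) (tt N49976 F147026) (tt N83003 F367080) (tt N53182 F367038) (tt N52306 (iv7 F148556)))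
theorem Q51689 : ∀ i, i < 51689 → P i := stepQ 51688 Q51688 (allL N51688 (tt N72116 (iv1 F338413)) (tt N38810 F338302) (tt N72038 (iv2 F341227)) (tt N38791 (iv3 F324964)) (tt N37126 F323624) (tt N27333 (iv5 D95411)) (tt N71012 (iv6 F360528)) (tt N52922 (iv7 F295086)))
theorem Q51690 : ∀ i, i < 51690 → P i := stepQ 51689 Q51689 (allL N51689 (tt N87036 D189892) (tt N72008 (iv0 F370104)) (tt N84753 (iv2 F370487)) (tt N27334 (iv3 D95414)) (tt N84753 (iv4 F370488)) (tt N72046 F356317) (tt N83482 F356324) (tt N72045 (iv7 F356321)))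
theorem Q51691 : ∀ i, i < 51691 → P i := stepQ 51690 Q51690 (allL N51690 (tt N38810 F338303) (tt N72116 (iv0 F338412)) (tt N52922 (iv2 F295083)) (tt N72046 (iv3 F356315)) (tt N38895 (iv4 F339520)) (tt N27334 (iv5 D95415)) (tt N69961 (iv6 F363252)) (tt N72038 (iv7 F341229)))
theorem Q51692 : ∀ i, i < 51692 → P i := stepQ 51691 Q51691 (allL N51691 (tt N66395 (iv1 F362661)) (tt N66394 F344352) (tt N66396 F344351) (tt N67598 F351673) (tt N27336 (iv4 D95420)) (tt N87037 D189893) (tt N66426 (iv6 F351672)) (tt N66234 (iv7 F328566)))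
theorem Q51693 : ∀ i, i < 51693 → P i := stepQ 51692 Q51692 (allL N51692 (tt N72001 (iv1 F356273)) (tt N87035 (iv0 F378129)) (tt N83965 (iv2 F367643)) (tt N27337 (iv3 D95422)) (tt N74382 F364804) (tt N48525 F147039) (tt N87038 D189894) (tt N48794 (iv7 F295061)))
theorem Q51694 : ∀ i, i < 51694 → P i := stepQ 51693 Q51693 (allL N51693 (tt N87039 D189895) (tt N87040 D189896) (tt N48791 (iv2 F295059)) (tt N87038 (iv3 F378145)) (tt N86951 (iv4 F377811)) (tt N55361 F294759) (tt N27337 (iv6 D95423)) (tt N87041 D189897))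
theorem Q51695 : ∀ i, i < 51695 → P i := stepQ 51694 Q51694 (allL N51694 (tt N87042 D189898) (tt N77230 (iv0 F345938)) (tt N48796 (iv2 F295062)) (tt N83969 (iv3 F367658)) (tt N86946 (iv4 F377802)) (tt N77362 (iv5 F353695)) (tt N27338 (iv6 D95425)) (tt N87043 D189899))
theorem Q51696 : ∀ i, i < 51696 → P i := stepQ 51695 Q51695 (allL N51695 (tt N87044 D189900) (tt N87045 D189901) (tt N87046 D189902) (tt N27339 (iv3 D95426)) (tt N67598 F341943) (tt N46151 F147041) (tt N67597 F359784) (tt N52255 (iv7 F148287)))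
theorem Q51697 : ∀ i, i < 51697 → P i := stepQ 51696 Q51696 (allL N51696 (tt N67264 (iv1 F347356)) (tt N87047 D189903) (tt N52316 (iv2 F148590)) (tt N67597 (iv3 F359782)) (tt N27340 F147042) (tt N79574 (iv5 F359799)) (tt N27339 (iv6 D95427)) (tt N71916 F359789))
theorem Q51698 : ∀ i, i < 51698 → P i := stepQ 51697 Q51697 (allL N51697 (tt N27340 (iv1 D95429)) (tt N52319 F148595) (tt N52318 (iv2 F345950)) (tt N87048 D189904) (tt N69774 (iv4 F347326)) (tt N65203 (iv5 F345949)) (tt N87049 D189905) (tt N52317 F345947))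
theorem Q51699 : ∀ i, i < 51699 → P i := stepQ 51698 Q51698 (allL N51698 (tt N28503 F177379) (tt N29197 F177380) (tt N48847 F147043) (tt N52714 (iv3 F150960)) (tt N55149 (iv4 F159045)) (tt N87050 D189906) (tt N27341 (iv6 D95431)) (tt N48880 F177381))
theorem Q51700 : ∀ i, i < 51700 → P i := stepQ 51699 Q51699 (allL N51699 (tt N29337 F159078) (tt N48935 (iv0 F159079)) (tt N48846 F147044) (tt N28379 F147045) (tt N55161 (iv4 F159075)) (tt N87051 D189907) (tt N27342 (iv6 D95432)) (tt N48934 F157761))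
theorem Q51701 : ∀ i, i < 51701 → P i := stepQ 51700 Q51700 (allL N51700 (tt N49131 (iv1 F147051)) (tt N49130 (iv0 F147050)) (tt N27345 F147046) (tt N28198 F147047) (tt N27351 F147048) (tt N87052 D189908) (tt N27343 (iv6 D95433)) (tt N49132 (iv7 F147049)))
theorem Q51702 : ∀ i, i < 51702 → P i := stepQ 51701 Q51701 (allL N51701 (tt N49132 (iv1 F147053)) (tt N27345 (iv0 D95435)) (tt N49131 (iv2 F160535)) (tt N52721 (iv3 F150984)) (tt N87053 D189909) (tt N87054 D189910) (tt N83500 (iv6 F372524)) (tt N49130 F160534))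
theorem Q51703 : ∀ i, i < 51703 → P i := stepQ 51702 Q51702 (allL N51702 (tt N27345 (iv1 D95436)) (tt N49132 F147054) (tt N49130 F160532) (tt N28382 F153865) (tt N55528 (iv4 F160529)) (tt N87055 D189911) (tt N84752 (iv6 F370480)) (tt N49131 (iv7 F160533)))
theorem Q51704 : ∀ i, i < 51704 → P i := stepQ 51703 Q51703 (allL N51703 (tt N87056 D189912) (tt N54624 (iv0 F370380)) (tt N87052 (iv2 F378189)) (tt N27346 F147055) (tt N54614 (iv4 F361676)) (tt N27345 (iv5 D95437)) (tt N77182 (iv6 F359655)) (tt N49133 F147056))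
theorem Q51705 : ∀ i, i < 51705 → P i := stepQ 51704 Q51704 (allL N51704 (tt N48834 (iv1 F147068)) (tt N27346 (iv0 D95442)) (tt N48610 (iv2 F147067)) (tt N87057 D189913) (tt N48830 F147066) (tt N29211 F294189) (tt N49054 F353755) (tt N48620 F147069))
theorem Q51706 : ∀ i, i < 51706 → P i := stepQ 51705 Q51705 (allL N51705 (tt N29200 (iv1 F147092)) (tt N27349 (iv0 D95450)) (tt N29114 (iv2 F147088)) (tt N29183 F147089) (tt N28503 F147090) (tt N56939 (iv5 F352881)) (tt N50529 (iv6 F293404)) (tt N29201 F147091))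
theorem Q51707 : ∀ i, i < 51707 → P i := stepQ 51706 Q51706 (allL N51706 (tt N74197 (iv1 F352904)) (tt N48961 F352886) (tt N52190 (iv2 F147964)) (tt N83150 (iv3 F286120)) (tt N53432 F352887) (tt N27349 (iv5 D95451)) (tt N28902 F352888) (tt N87058 D189914))
theorem Q51708 : ∀ i, i < 51708 → P i := stepQ 51707 Q51707 (allL N51707 (tt N29201 (iv1 F147094)) (tt N29114 F147095) (tt N29200 F147093) (tt N53605 (iv3 F154094)) (tt N50471 (iv4 F294871)) (tt N87058 (iv5 F378225)) (tt N52259 (iv6 F148297)) (tt N27349 (iv7 D95452)))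
theorem Q51709 : ∀ i, i < 51709 → P i := stepQ 51708 Q51708 (allL N51708 (tt N52264 F347766) (tt N84206 (iv0 F368507)) (tt N27353 F147096) (tt N52194 (iv3 F147990)) (tt N77287 (iv4 F242305)) (tt N87059 D189915) (tt N27350 (iv6 D95453)) (tt N86999 (iv7 F378003)))
theorem Q51710 : ∀ i, i < 51710 → P i := stepQ 51709 Q51709 (allL N51709 (tt N52281 (iv1 F160472)) (tt N55514 F160475) (tt N27355 F147097) (tt N52195 (iv3 F147993)) (tt N87060 D189916) (tt N27351 (iv5 D95454)) (tt N87059 (iv6 F378230)) (tt N55513 (iv7 F160469)))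
theorem Q51711 : ∀ i, i < 51711 → P i := stepQ 51710 Q51710 (allL N51710 (tt N45261 F147100) (tt N34847 F147101) (tt N49548 F147098) (tt N76310 F238165) (tt N27352 (iv4 D95455)) (tt N45546 F147099) (tt N49818 F301800) (tt N52261 (iv7 F148311)))
theorem Q51712 : ∀ i, i < 51712 → P i := stepQ 51711 Q51711 (allL N51711 (tt N83864 F367282) (tt N84240 F368654) (tt N49549 F147102) (tt N63839 (iv3 F363166)) (tt N49818 F363175) (tt N87061 D189917) (tt N27352 (iv6 D95456)) (tt N84238 (iv7 F368643)))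
theorem Q51713 : ∀ i, i < 51713 → P i := stepQ 51712 Q51712 (allL N51712 (tt N86999 (iv1 F378002)) (tt N27353 (iv0 D95459)) (tt N52264 (iv2 F348022)) (tt N86996 (iv3 F377989)) (tt N87062 D189918) (tt N87063 D189919) (tt N87064 D189920) (tt N84206 (iv7 F368509)))
theorem Q51714 : ∀ i, i < 51714 → P i := stepQ 51713 Q51713 (allL N51713 (tt N87065 D189921) (tt N87002 (iv0 F378015)) (tt N87059 (iv2 F378229)) (tt N27358 F147108) (tt N87066 D189922) (tt N27353 (iv5 D95461)) (tt N27355 F147109) (tt N87067 D189923))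
theorem Q51715 : ∀ i, i < 51715 → P i := stepQ 51714 Q51714 (allL N51714 (tt N84206 F368508) (tt N52264 (iv0 F366430)) (tt N86999 (iv2 F378006)) (tt N27359 F147110) (tt N84150 (iv4 F368341)) (tt N87067 (iv5 F378267)) (tt N36323 (iv6 F320054)) (tt N27353 (iv7 D95462)))
theorem Q51716 : ∀ i, i < 51716 → P i := stepQ 51715 Q51715 (allL N51715 (tt N87016 (iv1 F378052)) (tt N83520 F287721) (tt N52272 (iv2 F148338)) (tt N87006 (iv3 F378032)) (tt N81950 (iv4 F380561)) (tt N27354 (iv5 D95463)) (tt N87068 D189925) (tt N55512 (iv7 F160465)))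
theorem Q51717 : ∀ i, i < 51717 → P i := stepQ 51716 Q51716 (allL N51716 (tt N53892 (iv1 F158655)) (tt N29427 F158654) (tt N52273 (iv2 F148341)) (tt N87007 (iv3 F378034)) (tt N53863 (iv4 F289670)) (tt N84573 (iv5 F369741)) (tt N27354 (iv6 D95464)) (tt N55292 (iv7 F159340)))
theorem Q51718 : ∀ i, i < 51718 → P i := stepQ 51717 Q51717 (allL N51717 (tt N55513 F160470) (tt N27355 (iv0 D95465)) (tt N52281 (iv2 F148369)) (tt N87022 (iv3 F378067)) (tt N87069 D189926) (tt N52707 (iv5 F150258)) (tt N87070 D189927) (tt N55514 (iv7 F160476)))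
theorem Q51719 : ∀ i, i < 51719 → P i := stepQ 51718 Q51718 (allL N51718 (tt N73089 (iv1 F378279)) (tt N87071 D189929) (tt N87060 (iv2 F378234)) (tt N87072 D189930) (tt N27355 (iv4 D95466)) (tt N72867 F378263) (tt N87066 (iv6 F378255)) (tt N55515 (iv7 F160478)))
theorem Q51720 : ∀ i, i < 51720 → P i := stepQ 51719 Q51719 (allL N51719 (tt N36323 F349482) (tt N52260 F349483) (tt N31166 F349484) (tt N27356 (iv3 D95468)) (tt N54712 F349485) (tt N31165 F349486) (tt N84208 (iv6 F368513)) (tt N52222 F349487))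
theorem Q51721 : ∀ i, i < 51721 → P i := stepQ 51720 Q51720 (allL N51720 (tt N42062 F337294) (tt N27704 F337295) (tt N42064 F337296) (tt N33760 F337297) (tt N27356 (iv4 D95469)) (tt N65235 F337298) (tt N87073 D189931) (tt N42063 F337299))
theorem Q51722 : ∀ i, i < 51722 → P i := stepQ 51721 Q51721 (allL N51721 (tt N59833 F337328) (tt N59832 F337329) (tt N31155 F337330) (tt N31165 F337331) (tt N59892 F337332) (tt N27356 (iv5 D95470)) (tt N46323 F337333) (tt N52223 F337334))
theorem Q51723 : ∀ i, i < 51723 → P i := stepQ 51722 Q51722 (allL N51722 (tt N80473 F378287) (tt N87074 D189932) (tt N52221 F364155) (tt N84208 F368516) (tt N87073 (iv4 F378282)) (tt N52422 F149580) (tt N27356 (iv6 D95471)) (tt N87075 D189933))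
theorem Q51724 : ∀ i, i < 51724 → P i := stepQ 51723 Q51723 (allL N51723 (tt N27704 F337313) (tt N42062 F337314) (tt N42063 F337315) (tt N41834 F337316) (tt N27357 (iv4 D95474)) (tt N65236 F337317) (tt N41832 F337318) (tt N42064 (iv7 F337319)))
theorem Q51725 : ∀ i, i < 51725 → P i := stepQ 51724 Q51724 (allL N51724 (tt N83854 (iv1 F346797)) (tt N68108 (iv0 F346795)) (tt N52224 (iv2 F337327)) (tt N46276 F339836) (tt N41832 F339837) (tt N54479 F339838) (tt N27357 (iv6 D95476)) (tt N84237 (iv7 F368637)))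
theorem Q51726 : ∀ i, i < 51726 → P i := stepQ 51725 Q51725 (allL N51725 (tt N52227 (iv1 F148066)) (tt N27358 (iv0 D95477)) (tt N31789 F340707) (tt N31813 F340708) (tt N58378 F340709) (tt N87076 D189934) (tt N44847 F340710) (tt N52225 (iv7 F340725)))
theorem Q51727 : ∀ i, i < 51727 → P i := stepQ 51726 Q51726 (allL N51726 (tt N87077 D189935) (tt N49924 (iv0 F358003)) (tt N52226 (iv2 F148060)) (tt N87078 D189936) (tt N27358 (iv4 D95479)) (tt N87079 D189937) (tt N27364 F147113) (tt N87080 D189938))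
theorem Q51728 : ∀ i, i < 51728 → P i := stepQ 51727 Q51727 (allL N51727 (tt N52225 (iv1 F148059)) (tt N31789 F340720) (tt N52227 (iv2 F148062)) (tt N87067 (iv3 F378265)) (tt N87080 (iv4 F378311)) (tt N27359 F147114) (tt N55520 (iv6 F160486)) (tt N27358 (iv7 D95480)))
theorem Q51729 : ∀ i, i < 51729 → P i := stepQ 51728 Q51728 (allL N51728 (tt N29451 F147115) (tt N29448 F147116) (tt N52231 (iv2 F148077)) (tt N45667 F327919) (tt N27360 (iv4 D95481)) (tt N51841 (iv5 F328310)) (tt N27360 F327920) (tt N52234 (iv7 F148097)))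
theorem Q51730 : ∀ i, i < 51730 → P i := stepQ 51729 Q51729 (allL N51729 (tt N29442 F147117) (tt N29244 F147118) (tt N52236 (iv2 F148102)) (tt N46943 F326716) (tt N27362 (iv4 D95484)) (tt N52479 (iv5 F149755)) (tt N52225 (iv6 F361122)) (tt N46941 F326717))
theorem Q51731 : ∀ i, i < 51731 → P i := stepQ 51730 Q51730 (allL N51730 (tt N51989 (iv1 F354596)) (tt N58377 F326728) (tt N31844 (iv2 F327380)) (tt N31863 F326729) (tt N52225 (iv4 F340724)) (tt N55282 (iv5 F159304)) (tt N27362 (iv6 D95485)) (tt N58378 F326731))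
theorem Q51732 : ∀ i, i < 51732 → P i := stepQ 51731 Q51731 (allL N51731 (tt N31810 F328682) (tt N31870 (iv0 F329084)) (tt N31872 F328683) (tt N27363 (iv3 D95486)) (tt N31805 F328684) (tt N52428 F149599) (tt N58385 F328685) (tt N31846 F328686))
theorem Q51733 : ∀ i, i < 51733 → P i := stepQ 51732 Q51732 (allL N51732 (tt N29244 F147119) (tt N29442 F147120) (tt N46941 F326711) (tt N47249 F326712) (tt N27363 (iv4 D95487)) (tt N52473 (iv5 F149735)) (tt N47631 F326713) (tt N52236 (iv7 F148103)))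
theorem Q51734 : ∀ i, i < 51734 → P i := stepQ 51733 Q51733 (allL N51733 (tt N79638 F326718) (tt N79637 F326719) (tt N47624 F326720) (tt N58385 (iv3 F326235)) (tt N47631 F326721) (tt N52430 (iv5 F149603)) (tt N27363 (iv6 D95488)) (tt N58380 (iv7 F328212)))
theorem Q51735 : ∀ i, i < 51735 → P i := stepQ 51734 Q51734 (allL N51734 (tt N87081 D189939) (tt N54846 (iv0 F365880)) (tt N87082 D189940) (tt N27364 (iv3 D95489)) (tt N87072 (iv4 F378278)) (tt N84495 (iv5 F369543)) (tt N87078 (iv6 F378303)) (tt N55516 (iv7 F160481)))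
theorem Q51736 : ∀ i, i < 51736 → P i := stepQ 51735 Q51735 (allL N51735 (tt N85767 F373853) (tt N51796 (iv0 F367275)) (tt N52322 (iv2 F148682)) (tt N48750 F147121) (tt N27367 F147122) (tt N87083 D189941) (tt N27365 (iv6 D95490)) (tt N84500 (iv7 F369548)))
theorem Q51737 : ∀ i, i < 51737 → P i := stepQ 51736 Q51736 (allL N51736 (tt N52518 (iv1 F362087)) (tt N52546 (iv0 F362064)) (tt N42596 F147123) (tt N84039 (iv3 F367886)) (tt N45269 F147124) (tt N87084 D189942) (tt N27366 (iv6 D95491)) (tt N87085 D189943))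
theorem Q51738 : ∀ i, i < 51738 → P i := stepQ 51737 Q51737 (allL N51737 (tt N52526 (iv1 F289705)) (tt N52551 (iv0 F289703)) (tt N52323 (iv2 F148685)) (tt N84041 (iv3 F367893)) (tt N87086 D189944) (tt N27367 (iv5 D95494)) (tt N87084 (iv6 F378319)) (tt N84501 (iv7 F369551)))
theorem Q51739 : ∀ i, i < 51739 → P i := stepQ 51738 Q51738 (allL N51738 (tt N52488 (iv1 F149787)) (tt N46070 (iv0 F147129)) (tt N28566 F147128) (tt N27368 (iv3 D95496)) (tt N47269 F147125) (tt N28247 F147126) (tt N87087 D189945) (tt N28574 F147127))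
theorem Q51740 : ∀ i, i < 51740 → P i := stepQ 51739 Q51739 (allL N51739 (tt N36331 (iv1 F318769)) (tt N29700 F317381) (tt N36330 (iv2 F319626)) (tt N87087 (iv3 F378327)) (tt N40978 (iv4 F319643)) (tt N87088 D189946) (tt N27368 (iv6 D95497)) (tt N36329 F317382))
theorem Q51741 : ∀ i, i < 51741 → P i := stepQ 51740 Q51740 (allL N51740 (tt N52327 (iv1 F148702)) (tt N27369 (iv0 D95498)) (tt N52324 (iv2 F369164)) (tt N87089 D189947) (tt N87090 D189948) (tt N87091 D189949) (tt N84400 F369163) (tt N52325 (iv7 F369166)))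
theorem Q51742 : ∀ i, i < 51742 → P i := stepQ 51741 Q51741 (allL N51741 (tt N27369 (iv1 D95499)) (tt N52327 F148701) (tt N52325 F369167) (tt N84401 (iv3 F369168)) (tt N87092 D189950) (tt N87093 D189951) (tt N87094 D189952) (tt N52324 F369165))
theorem Q51743 : ∀ i, i < 51743 → P i := stepQ 51742 Q51742 (allL N51742 (tt N87095 D189953) (tt N87096 D189954) (tt N52326 (iv2 F148694)) (tt N27376 F147131) (tt N87097 D189955) (tt N27369 (iv5 D95500)) (tt N27372 F147132) (tt N87098 D189956))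
theorem Q51744 : ∀ i, i < 51744 → P i := stepQ 51743 Q51743 (allL N51743 (tt N52325 (iv1 F148693)) (tt N52324 F148700) (tt N52327 (iv2 F148697)) (tt N27377 F147133) (tt N75637 (iv4 F310975)) (tt N87098 (iv5 F378365)) (tt N52327 (iv6 F148699)) (tt N27369 (iv7 D95501)))
theorem Q51745 : ∀ i, i < 51745 → P i := stepQ 51744 Q51744 (allL N51744 (tt N87099 D189957) (tt N52533 (iv0 F157621)) (tt N80680 F270481) (tt N27370 (iv3 D95503)) (tt N51148 (iv4 F294215)) (tt N87100 D189958) (tt N87101 D189959) (tt N52331 F270455))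
theorem Q51746 : ∀ i, i < 51746 → P i := stepQ 51745 Q51745 (allL N51745 (tt N84671 F370142) (tt N51788 (iv0 F205497)) (tt N52328 (iv2 F270453)) (tt N48758 (iv3 F147135)) (tt N27370 (iv4 D95504)) (tt N87102 D189960) (tt N87103 D189961) (tt N52332 F270454))
theorem Q51747 : ∀ i, i < 51747 → P i := stepQ 51746 Q51746 (allL N51746 (tt N49981 (iv1 F291967)) (tt N81640 (iv0 F343061)) (tt N52329 F270487) (tt N87100 (iv3 F378372)) (tt N87104 D189962) (tt N27370 (iv5 D95505)) (tt N87105 D189963) (tt N52333 F270456))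
theorem Q51748 : ∀ i, i < 51748 → P i := stepQ 51747 Q51747 (allL N51747 (tt N49935 (iv1 F350173)) (tt N50639 (iv0 F350172)) (tt N52330 (iv2 F270488)) (tt N87101 (iv3 F378373)) (tt N87103 (iv4 F378378)) (tt N54916 F158272) (tt N27370 (iv6 D95506)) (tt N83149 (iv7 F367109)))
theorem Q51749 : ∀ i, i < 51749 → P i := stepQ 51748 Q51748 (allL N51748 (tt N51788 (iv1 F205498)) (tt N84671 (iv0 F370141)) (tt N52332 F270446) (tt N52103 (iv3 F147665)) (tt N27371 (iv4 D95508)) (tt N87106 D189964) (tt N81555 (iv6 F348572)) (tt N52328 (iv7 F270448)))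
theorem Q51750 : ∀ i, i < 51750 → P i := stepQ 51749 Q51749 (allL N51749 (tt N50672 (iv1 F293079)) (tt N27372 (iv0 D95511)) (tt N52335 (iv2 F158933)) (tt N87107 D189965) (tt N87108 D189966) (tt N48677 F343042) (tt N87109 D189967) (tt N52336 F158932))
theorem Q51751 : ∀ i, i < 51751 → P i := stepQ 51750 Q51750 (allL N51750 (tt N27372 (iv1 D95512)) (tt N50672 (iv0 F293078)) (tt N52336 F158930) (tt N85458 (iv3 F372690)) (tt N87110 D189968) (tt N48676 F343046) (tt N87111 D189969) (tt N52335 (iv7 F158931)))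
theorem Q51752 : ∀ i, i < 51752 → P i := stepQ 51751 Q51751 (allL N51751 (tt N81643 (iv1 F445705)) (tt N87112 D189971) (tt N52337 (iv2 F148709)) (tt N87113 D189972) (tt N27372 (iv4 D95513)) (tt N87114 D189973) (tt N87097 (iv6 F378363)) (tt N87115 D189974))
theorem Q51753 : ∀ i, i < 51753 → P i := stepQ 51752 Q51752 (allL N51752 (tt N52336 (iv1 F148708)) (tt N52335 F148713) (tt N50672 (iv2 F293080)) (tt N27383 F147137) (tt N87115 (iv4 F378385)) (tt N27373 F147138) (tt N87116 D189975) (tt N27372 (iv7 D95514)))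
theorem Q51754 : ∀ i, i < 51754 → P i := stepQ 51753 Q51753 (allL N51753 (tt N80029 F342956) (tt N42733 F342957) (tt N80027 (iv2 F332628)) (tt N27374 (iv3 D95516)) (tt N45038 F261858) (tt N87117 D189976) (tt N87118 D189977) (tt N27507 F317854))
theorem Q51755 : ∀ i, i < 51755 → P i := stepQ 51754 Q51754 (allL N51754 (tt N43676 F317855) (tt N48415 F317856) (tt N27504 F317857) (tt N79068 F317858) (tt N27374 (iv4 D95517)) (tt N34538 F317859) (tt N42178 F317860) (tt N27508 F317861))
theorem Q51756 : ∀ i, i < 51756 → P i := stepQ 51755 Q51755 (allL N51755 (tt N87119 D189978) (tt N74814 F363587) (tt N27505 F317862) (tt N87117 (iv3 F378391)) (tt N87120 D189979) (tt N27374 (iv5 D95518)) (tt N87121 D189980) (tt N27509 F317863))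
theorem Q51757 : ∀ i, i < 51757 → P i := stepQ 51756 Q51756 (allL N51756 (tt N52563 (iv1 F334512)) (tt N87122 D189981) (tt N27506 F317864) (tt N87118 (iv3 F378394)) (tt N42178 F334510) (tt N29151 F147140) (tt N27374 (iv6 D95519)) (tt N87123 D189982))
theorem Q51758 : ∀ i, i < 51758 → P i := stepQ 51757 Q51757 (allL N51757 (tt N52486 (iv1 F342250)) (tt N87124 D189983) (tt N87125 D189984) (tt N27375 (iv3 D95521)) (tt N75462 F342244) (tt N87126 D189985) (tt N75455 (iv6 F342245)) (tt N27503 F317851))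
theorem Q51759 : ∀ i, i < 51759 → P i := stepQ 51758 Q51758 (allL N51758 (tt N74814 F363586) (tt N87119 F378413) (tt N27509 F317852) (tt N87126 (iv3 F378447)) (tt N86422 (iv4 F376169)) (tt N27375 (iv5 D95523)) (tt N83598 (iv6 F367198)) (tt N27505 F317853))
theorem Q51760 : ∀ i, i < 51760 → P i := stepQ 51759 Q51759 (allL N51759 (tt N27514 (iv1 F147148)) (tt N27376 (iv0 D95525)) (tt N27511 F335104) (tt N87127 D189986) (tt N87128 D189987) (tt N64005 F335105) (tt N55578 F160700) (tt N27512 F335106))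
theorem Q51761 : ∀ i, i < 51761 → P i := stepQ 51760 Q51760 (allL N51760 (tt N27376 (iv1 D95526)) (tt N27514 F147142) (tt N27512 F335101) (tt N87129 D189988) (tt N73966 (iv4 F356912)) (tt N29268 (iv5 F147143)) (tt N73965 F356890) (tt N27511 F335102))
theorem Q51762 : ∀ i, i < 51762 → P i := stepQ 51761 Q51761 (allL N51761 (tt N56639 F363605) (tt N87130 D189989) (tt N27513 F147144) (tt N60289 F356941) (tt N27376 (iv4 D95527)) (tt N82884 F356675) (tt N27382 F147145) (tt N82883 (iv7 F356672)))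
theorem Q51763 : ∀ i, i < 51763 → P i := stepQ 51762 Q51762 (allL N51762 (tt N27512 (iv1 F147149)) (tt N27511 F147150) (tt N27514 F147146) (tt N87098 (iv3 F378364)) (tt N82883 F356674) (tt N27377 F147147) (tt N87131 D189990) (tt N27376 (iv7 D95528)))
theorem Q51764 : ∀ i, i < 51764 → P i := stepQ 51763 Q51763 (allL N51763 (tt N27378 (iv1 D95530)) (tt N27516 F147157) (tt N27515 F151954) (tt N87099 (iv3 F378367)) (tt N53032 (iv4 F152031)) (tt N87132 D189991) (tt N50674 (iv6 F294109)) (tt N27449 (iv7 F157626)))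
theorem Q51765 : ∀ i, i < 51765 → P i := stepQ 51764 Q51764 (allL N51764 (tt N27449 (iv1 F157625)) (tt N27515 F147156) (tt N27378 (iv2 D95531)) (tt N27524 F147153) (tt N28101 F147154) (tt N74170 (iv5 F360329)) (tt N84559 (iv6 F369693)) (tt N27516 F147155))
theorem Q51766 : ∀ i, i < 51766 → P i := stepQ 51765 Q51765 (allL N51765 (tt N74169 (iv1 F360339)) (tt N74168 F360331) (tt N74170 F360330) (tt N27379 F147159) (tt N87133 D189992) (tt N27378 (iv5 D95532)) (tt N59928 (iv6 F346838)) (tt N27517 F147160))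
theorem Q51767 : ∀ i, i < 51767 → P i := stepQ 51766 Q51766 (allL N51766 (tt N52121 (iv1 F147692)) (tt N52118 (iv0 F147685)) (tt N27527 F147161) (tt N69588 F364662) (tt N27379 (iv4 D95533)) (tt N51769 (iv5 F147168)) (tt N87134 D189993) (tt N27520 F147162))
theorem Q51768 : ∀ i, i < 51768 → P i := stepQ 51767 Q51767 (allL N51767 (tt N81630 F363510) (tt N87135 D189994) (tt N27528 F147163) (tt N59928 F346840) (tt N87134 (iv4 F378488)) (tt N55454 (iv5 F160339)) (tt N27379 (iv6 D95534)) (tt N87136 D189995))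
theorem Q51769 : ∀ i, i < 51769 → P i := stepQ 51768 Q51768 (allL N51768 (tt N86655 (iv1 F376685)) (tt N52535 (iv0 F178373)) (tt N87137 D189996) (tt N27380 (iv3 D95535)) (tt N86868 (iv4 F377503)) (tt N49213 F294017) (tt N74150 F350481) (tt N27533 F147165))
theorem Q51770 : ∀ i, i < 51770 → P i := stepQ 51769 Q51769 (allL N51769 (tt N52107 (iv1 F147672)) (tt N51786 (iv0 F147232)) (tt N27531 F147166) (tt N87138 D189997) (tt N27380 (iv4 D95536)) (tt N51766 F147168) (tt N87139 D189998) (tt N27534 F147167))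
theorem Q51771 : ∀ i, i < 51771 → P i := stepQ 51770 Q51770 (allL N51770 (tt N87140 D189999) (tt N87141 D190000) (tt N27532 F147169) (tt N74150 (iv3 F350482)) (tt N87139 (iv4 F378513)) (tt N84527 (iv5 F369622)) (tt N27380 (iv6 D95537)) (tt N87142 D190001))
theorem Q51772 : ∀ i, i < 51772 → P i := stepQ 51771 Q51771 (allL N51771 (tt N52487 F157797) (tt N87132 (iv0 F378479)) (tt N87143 D190002) (tt N27381 (iv3 D95538)) (tt N87144 D190003) (tt N29157 F147170) (tt N60338 (iv6 F355182)) (tt N27530 F147171))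
theorem Q51773 : ∀ i, i < 51773 → P i := stepQ 51772 Q51772 (allL N51772 (tt N51786 (iv1 F147233)) (tt N52107 (iv0 F147671)) (tt N27534 F147172) (tt N87145 D190004) (tt N27381 (iv4 D95539)) (tt N51395 F147173) (tt N87146 D190005) (tt N27531 F147174))
theorem Q51774 : ∀ i, i < 51774 → P i := stepQ 51773 Q51773 (allL N51773 (tt N87147 D190006) (tt N56642 F372129) (tt N27535 F147175) (tt N60338 F355183) (tt N87146 (iv4 F378543)) (tt N29160 F147176) (tt N27381 (iv6 D95540)) (tt N87148 D190007))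
theorem Q51775 : ∀ i, i < 51775 → P i := stepQ 51774 Q51774 (allL N51774 (tt N27540 (iv1 F147177)) (tt N27382 (iv0 D95541)) (tt N27536 (iv2 F147182)) (tt N87149 D190008) (tt N49279 F295305) (tt N51783 (iv5 F147227)) (tt N87150 D190009) (tt N27537 (iv7 F147183)))
theorem Q51776 : ∀ i, i < 51776 → P i := stepQ 51775 Q51775 (allL N51775 (tt N27382 (iv1 D95542)) (tt N27540 F147178) (tt N27537 F147180) (tt N69634 F331354) (tt N29191 (iv4 F147179)) (tt N51781 (iv5 F147211)) (tt N56644 (iv6 F348078)) (tt N27536 F147181))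
theorem Q51777 : ∀ i, i < 51777 → P i := stepQ 51776 Q51776 (allL N51776 (tt N87151 D190010) (tt N87152 D190011) (tt N87153 D190012) (tt N27382 (iv3 D95543)) (tt N87113 (iv4 F378382)) (tt N52098 (iv5 F147656)) (tt N60289 (iv6 F356946)) (tt N52097 F147654))
theorem Q51778 : ∀ i, i < 51778 → P i := stepQ 51777 Q51777 (allL N51777 (tt N87154 D190013) (tt N87155 D190014) (tt N27541 F147184) (tt N87116 (iv3 F378388)) (tt N52099 (iv4 F147657)) (tt N50673 (iv5 F293081)) (tt N27383 (iv6 D95544)) (tt N87131 (iv7 F378474)))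
theorem Q51779 : ∀ i, i < 51779 → P i := stepQ 51778 Q51778 (allL N51778 (tt N29191 F147187) (tt N49279 F295303) (tt N27543 F147185) (tt N52700 (iv3 F150247)) (tt N52074 (iv4 F147640)) (tt N27384 (iv5 D95545)) (tt N87156 D190015) (tt N27389 F147186))
theorem Q51780 : ∀ i, i < 51780 → P i := stepQ 51779 Q51779 (allL N51779 (tt N85459 (iv1 F372694)) (tt N52691 (iv0 F150184)) (tt N85463 (iv2 F372713)) (tt N27386 F147197) (tt N83725 F365425) (tt N27385 (iv5 D95548)) (tt N87157 D190016) (tt N27563 F147198))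
theorem Q51781 : ∀ i, i < 51781 → P i := stepQ 51780 Q51780 (allL N51780 (tt N27387 (iv1 F147202)) (tt N27386 (iv0 D95550)) (tt N27548 (iv2 F147203)) (tt N52704 F150252) (tt N52050 (iv4 F147616)) (tt N27554 F147201) (tt N87158 D190017) (tt N27549 (iv7 F147204)))
theorem Q51782 : ∀ i, i < 51782 → P i := stepQ 51781 Q51781 (allL N51781 (tt N29462 F147212) (tt N83594 F348099) (tt N27550 F147209) (tt N87159 D190018) (tt N27386 (iv4 D95552)) (tt N51775 F147211) (tt N87160 D190019) (tt N27565 F147210))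
theorem Q51783 : ∀ i, i < 51783 → P i := stepQ 51782 Q51782 (allL N51782 (tt N87161 D190020) (tt N87162 D190021) (tt N27551 F147213) (tt N87157 (iv3 F378563)) (tt N87160 (iv4 F378578)) (tt N85626 (iv5 F373267)) (tt N27386 (iv6 D95553)) (tt N87163 D190022))
theorem Q51784 : ∀ i, i < 51784 → P i := stepQ 51783 Q51783 (allL N51783 (tt N83594 (iv1 F348100)) (tt N29462 F147229) (tt N27565 F147226) (tt N76474 (iv3 F376263)) (tt N27387 (iv4 D95557)) (tt N51774 F147227) (tt N87164 D190023) (tt N27550 F147228))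
theorem Q51785 : ∀ i, i < 51785 → P i := stepQ 51784 Q51784 (allL N51784 (tt N87165 D190024) (tt N87166 D190025) (tt N27566 F147230) (tt N86570 (iv3 F376506)) (tt N87164 (iv4 F378597)) (tt N80062 F364274) (tt N27387 (iv6 D95558)) (tt N87167 D190026))
theorem Q51786 : ∀ i, i < 51786 → P i := stepQ 51785 Q51785 (allL N51785 (tt N49201 F294698) (tt N84656 (iv0 F370074)) (tt N52454 (iv2 F149693)) (tt N27389 F147231) (tt N87168 D190027) (tt N27388 (iv5 D95559)) (tt N86989 (iv6 F377973)) (tt N52700 (iv7 F150248)))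
theorem Q51787 : ∀ i, i < 51787 → P i := stepQ 51786 Q51786 (allL N51786 (tt N51769 F147232) (tt N51772 F147233) (tt N52075 F147646) (tt N87169 D190028) (tt N27389 (iv4 D95560)) (tt N52107 (iv5 F147670)) (tt N86994 (iv6 F377984)) (tt N52074 F147642))
theorem Q51788 : ∀ i, i < 51788 → P i := stepQ 51787 Q51787 (allL N51787 (tt N84677 (iv1 F370180)) (tt N48522 F294513) (tt N52400 (iv2 F149544)) (tt N52398 (iv3 F149532)) (tt N51563 (iv4 F343691)) (tt N27390 (iv5 D95563)) (tt N78891 (iv6 F251260)) (tt N52681 (iv7 F205515)))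
theorem Q51789 : ∀ i, i < 51789 → P i := stepQ 51788 Q51788 (allL N51788 (tt N51745 F205497) (tt N51748 F205498) (tt N52399 (iv2 F149540)) (tt N27392 F147235) (tt N52399 (iv4 F149542)) (tt N87170 D190029) (tt N27391 (iv6 D95565)) (tt N86569 (iv7 F376502)))
theorem Q51790 : ∀ i, i < 51790 → P i := stepQ 51789 Q51789 (allL N51789 (tt N52132 F235286) (tt N37466 F340446) (tt N52398 (iv2 F149531)) (tt N87170 (iv3 F378615)) (tt N60253 F331366) (tt N27392 (iv5 D95568)) (tt N79963 (iv6 F259097)) (tt N83739 (iv7 F365031)))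
theorem Q51791 : ∀ i, i < 51791 → P i := stepQ 51790 Q51790 (allL N51790 (tt N79038 (iv1 F251965)) (tt N27393 (iv0 D95570)) (tt N79037 F251957) (tt N52403 (iv3 F290503)) (tt N50738 F147237) (tt N87171 D190030) (tt N87172 D190031) (tt N61016 (iv7 F177602)))
theorem Q51792 : ∀ i, i < 51792 → P i := stepQ 51791 Q51791 (allL N51791 (tt N27393 (iv1 D95571)) (tt N79038 F251964) (tt N61016 (iv2 F177600)) (tt N87173 D190032) (tt N50739 F147238) (tt N87174 D190033) (tt N87175 D190034) (tt N79037 (iv7 F251959)))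
theorem Q51793 : ∀ i, i < 51793 → P i := stepQ 51792 Q51792 (allL N51792 (tt N87176 D190035) (tt N87177 D190036) (tt N79024 (iv2 F251890)) (tt N27403 F147239) (tt N87178 D190037) (tt N27393 (iv5 D95572)) (tt N27396 F147240) (tt N87179 D190038))
theorem Q51794 : ∀ i, i < 51794 → P i := stepQ 51793 Q51793 (allL N51793 (tt N61016 (iv1 F177604)) (tt N79037 F251960) (tt N79038 (iv2 F251961)) (tt N27404 F147241) (tt N64195 (iv4 F193566)) (tt N87179 (iv5 F378628)) (tt N52406 (iv6 F149564)) (tt N27393 (iv7 D95573)))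
theorem Q51795 : ∀ i, i < 51795 → P i := stepQ 51794 Q51794 (allL N51794 (tt N87180 D190039) (tt N55496 (iv0 F251424)) (tt N79018 (iv2 F251847)) (tt N52407 (iv3 F149568)) (tt N79939 (iv4 F290521)) (tt N27394 (iv5 D95575)) (tt N87181 D190040) (tt N79020 (iv7 F251854)))
theorem Q51796 : ∀ i, i < 51796 → P i := stepQ 51795 Q51795 (allL N51795 (tt N84569 (iv1 F369724)) (tt N49871 F367178) (tt N79019 (iv2 F251850)) (tt N52408 (iv3 F149569)) (tt N60833 F177004) (tt N86970 (iv5 F377896)) (tt N27394 (iv6 D95576)) (tt N84568 (iv7 F369719)))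
theorem Q51797 : ∀ i, i < 51797 → P i := stepQ 51796 Q51796 (allL N51796 (tt N51735 F367275) (tt N84582 (iv0 F369766)) (tt N52409 (iv2 F149572)) (tt N27395 (iv3 D95578)) (tt N52409 (iv4 F149573)) (tt N87182 D190041) (tt N87183 D190042) (tt N79017 (iv7 F251846)))
theorem Q51798 : ∀ i, i < 51798 → P i := stepQ 51797 Q51797 (allL N51797 (tt N55496 (iv1 F177781)) (tt N87180 F378631) (tt N79020 (iv2 F251853)) (tt N87182 (iv3 F378632)) (tt N79951 (iv4 F259073)) (tt N27395 (iv5 D95579)) (tt N69463 (iv6 F378635)) (tt N79018 (iv7 F251848)))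
theorem Q51799 : ∀ i, i < 51799 → P i := stepQ 51798 Q51798 (allL N51798 (tt N49972 F345200) (tt N52683 (iv0 F350536)) (tt N52687 (iv2 F350539)) (tt N87183 (iv3 F378633)) (tt N51407 (iv4 F204781)) (tt N56937 F350537) (tt N27395 (iv6 D95580)) (tt N52688 (iv7 F350538)))
theorem Q51800 : ∀ i, i < 51800 → P i := stepQ 51799 Q51799 (allL N51799 (tt N79025 (iv1 F251896)) (tt N27396 (iv0 D95581)) (tt N79021 F251879) (tt N52412 (iv3 F259056)) (tt N79946 (iv4 F259051)) (tt N55505 F161631) (tt N87184 D190044) (tt N79022 (iv7 F251883)))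
theorem Q51801 : ∀ i, i < 51801 → P i := stepQ 51800 Q51800 (allL N51800 (tt N27396 (iv1 D95582)) (tt N79025 F251895) (tt N79022 F251885) (tt N87185 D190045) (tt N79935 (iv4 F259033)) (tt N55422 (iv5 F160239)) (tt N87186 D190046) (tt N79021 F251880))
theorem Q51802 : ∀ i, i < 51802 → P i := stepQ 51801 Q51801 (allL N51801 (tt N79961 (iv1 F259092)) (tt N79960 F259091) (tt N79023 (iv2 F251886)) (tt N87187 D190047) (tt N27396 (iv4 D95583)) (tt N61081 (iv5 F177929)) (tt N87178 (iv6 F378626)) (tt N61080 F177926))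
theorem Q51803 : ∀ i, i < 51803 → P i := stepQ 51802 Q51802 (allL N51802 (tt N48907 (iv1 F147248)) (tt N42590 F147247) (tt N27397 (iv2 D95584)) (tt N27421 F147244) (tt N51907 (iv4 F147437)) (tt N27591 F147245) (tt N87188 D190048) (tt N48905 F147246))
theorem Q51804 : ∀ i, i < 51804 → P i := stepQ 51803 Q51803 (allL N51803 (tt N51902 (iv1 F147428)) (tt N27813 F147251) (tt N51907 F147438) (tt N80111 (iv3 F319968)) (tt N27397 (iv4 D95585)) (tt N34109 F303699) (tt N80110 (iv6 F347917)) (tt N34108 F303700))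
theorem Q51805 : ∀ i, i < 51805 → P i := stepQ 51804 Q51804 (allL N51804 (tt N87189 D190049) (tt N87190 D190050) (tt N87188 (iv2 F378637)) (tt N27398 F147252) (tt N80110 F350699) (tt N34148 F350700) (tt N27397 (iv6 D95586)) (tt N87191 D190051))
theorem Q51806 : ∀ i, i < 51806 → P i := stepQ 51805 Q51805 (allL N51805 (tt N51626 (iv1 F147258)) (tt N27398 (iv0 D95587)) (tt N51624 F332540) (tt N49417 F339725) (tt N35294 F315634) (tt N53410 F363715) (tt N87192 D190052) (tt N36298 F314949))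
theorem Q51807 : ∀ i, i < 51807 → P i := stepQ 51806 Q51806 (allL N51806 (tt N27398 (iv1 D95588)) (tt N51626 F147253) (tt N36298 F314950) (tt N78840 F317172) (tt N35295 F317173) (tt N54480 (iv5 F339832)) (tt N36283 F314951) (tt N51624 F332542))
theorem Q51808 : ∀ i, i < 51808 → P i := stepQ 51807 Q51807 (allL N51807 (tt N53414 (iv1 F337132)) (tt N37268 F346789) (tt N51625 F147254) (tt N34148 F329940) (tt N44067 F329941) (tt N27398 (iv5 D95589)) (tt N27593 F147255) (tt N54512 (iv7 F339716)))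
theorem Q51809 : ∀ i, i < 51809 → P i := stepQ 51808 Q51808 (allL N51808 (tt N36298 (iv1 F317103)) (tt N51624 F147260) (tt N51626 F147256) (tt N87191 (iv3 F378649)) (tt N41837 F314952) (tt N54512 (iv5 F346767)) (tt N48913 F147257) (tt N27398 (iv7 D95590)))
theorem Q51810 : ∀ i, i < 51810 → P i := stepQ 51809 Q51809 (allL N51809 (tt N48913 (iv1 F147272)) (tt N27400 (iv0 D95593)) (tt N47711 F340927) (tt N79969 F340928) (tt N29261 F340929) (tt N87193 D190053) (tt N87194 D190054) (tt N47714 F340930))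
theorem Q51811 : ∀ i, i < 51811 → P i := stepQ 51810 Q51810 (allL N51810 (tt N27400 (iv1 D95594)) (tt N48913 F147267) (tt N47714 F340932) (tt N87195 D190055) (tt N29262 F340933) (tt N87196 D190056) (tt N87197 D190057) (tt N47711 F340934))
theorem Q51812 : ∀ i, i < 51812 → P i := stepQ 51811 Q51811 (allL N51811 (tt N87198 D190058) (tt N87199 D190059) (tt N48912 F147268) (tt N28967 F352895) (tt N87200 D190060) (tt N27400 (iv5 D95595)) (tt N27595 F147269) (tt N54511 F352896))
theorem Q51813 : ∀ i, i < 51813 → P i := stepQ 51812 Q51812 (allL N51812 (tt N47714 F346805) (tt N47711 (iv0 F346806)) (tt N48913 F147270) (tt N49718 (iv3 F353227)) (tt N55200 (iv4 F317105)) (tt N54511 F353228) (tt N51626 F147271) (tt N27400 (iv7 D95596)))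
theorem Q51814 : ∀ i, i < 51814 → P i := stepQ 51813 Q51813 (allL N51813 (tt N87201 D190061) (tt N82938 F361183) (tt N31093 F348886) (tt N27401 (iv3 D95598)) (tt N32014 F348887) (tt N87202 D190062) (tt N31078 F348888) (tt N52466 F348954))
theorem Q51815 : ∀ i, i < 51815 → P i := stepQ 51814 Q51814 (allL N51814 (tt N43625 F334068) (tt N27714 F334069) (tt N43814 F334070) (tt N69135 F334071) (tt N27401 (iv4 D95599)) (tt N43538 F334072) (tt N77509 F334073) (tt N43815 F334074))
theorem Q51816 : ∀ i, i < 51816 → P i := stepQ 51815 Q51815 (allL N51815 (tt N66715 (iv1 F361119)) (tt N66724 (iv0 F364589)) (tt N52464 (iv2 F361118)) (tt N87202 (iv3 F378745)) (tt N51835 (iv4 F361147)) (tt N27401 (iv5 D95600)) (tt N51834 (iv6 F340716)) (tt N52467 F361117))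
theorem Q51817 : ∀ i, i < 51817 → P i := stepQ 51816 Q51816 (allL N51816 (tt N87197 F378708) (tt N87203 D190063) (tt N52465 F361113) (tt N31078 F340713) (tt N77509 (iv4 F340717)) (tt N31077 F340714) (tt N27401 (iv6 D95601)) (tt N58886 F340715))
theorem Q51818 : ∀ i, i < 51818 → P i := stepQ 51817 Q51817 (allL N51817 (tt N27423 F361105) (tt N87204 D190064) (tt N87205 D190065) (tt N27402 (iv3 D95603)) (tt N87206 D190066) (tt N87207 D190067) (tt N87208 D190068) (tt N52463 (iv7 F348960)))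
theorem Q51819 : ∀ i, i < 51819 → P i := stepQ 51818 Q51818 (allL N51818 (tt N27714 F348961) (tt N43625 F348962) (tt N43815 F348963) (tt N34339 F348964) (tt N27402 (iv4 D95604)) (tt N75457 F348965) (tt N41923 F348966) (tt N43814 F348967))
theorem Q51820 : ∀ i, i < 51820 → P i := stepQ 51819 Q51819 (allL N51819 (tt N66724 (iv1 F364591)) (tt N66715 (iv0 F361095)) (tt N52467 (iv2 F361116)) (tt N87207 (iv3 F378766)) (tt N87209 D190069) (tt N27402 (iv5 D95605)) (tt N87210 D190070) (tt N52464 (iv7 F348968)))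
theorem Q51821 : ∀ i, i < 51821 → P i := stepQ 51820 Q51820 (allL N51820 (tt N36312 F348969) (tt N87192 F378658) (tt N52468 F348970) (tt N87208 (iv3 F378767)) (tt N41923 F348971) (tt N87211 D190071) (tt N27402 (iv6 D95606)) (tt N75245 F348972))
theorem Q51822 : ∀ i, i < 51822 → P i := stepQ 51821 Q51821 (allL N51821 (tt N52472 (iv1 F149732)) (tt N27403 (iv0 D95607)) (tt N52469 F361127) (tt N87212 D190072) (tt N87213 D190073) (tt N86998 (iv5 F377998)) (tt N87214 D190074) (tt N52470 F361125))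
theorem Q51823 : ∀ i, i < 51823 → P i := stepQ 51822 Q51822 (allL N51822 (tt N27403 (iv1 D95608)) (tt N52472 F149731) (tt N52470 (iv2 F361124)) (tt N87215 D190075) (tt N87216 D190076) (tt N52266 (iv5 F148328)) (tt N79318 (iv6 F348741)) (tt N52469 (iv7 F361126)))
theorem Q51824 : ∀ i, i < 51824 → P i := stepQ 51823 Q51823 (allL N51823 (tt N87217 D190077) (tt N87218 D190078) (tt N52471 (iv2 F149726)) (tt N87219 D190079) (tt N27403 (iv4 D95609)) (tt N87220 D190080) (tt N27412 F147278) (tt N87221 D190081))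
theorem Q51825 : ∀ i, i < 51825 → P i := stepQ 51824 Q51824 (allL N51824 (tt N52470 (iv1 F149724)) (tt N52469 F149730) (tt N52472 (iv2 F149728)) (tt N87179 (iv3 F378627)) (tt N87221 (iv4 F378801)) (tt N27404 F147279) (tt N84499 (iv6 F369546)) (tt N27403 (iv7 D95610)))
theorem Q51826 : ∀ i, i < 51826 → P i := stepQ 51825 Q51825 (allL N51825 (tt N52476 (iv1 F149744)) (tt N27405 (iv0 D95611)) (tt N52475 (iv2 F367271)) (tt N84582 (iv3 F369767)) (tt N87222 D190082) (tt N87223 D190083) (tt N52425 (iv6 F344217)) (tt N52391 F289559))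
theorem Q51827 : ∀ i, i < 51827 → P i := stepQ 51826 Q51826 (allL N51826 (tt N52475 (iv1 F149745)) (tt N52391 (iv0 F289563)) (tt N27405 (iv2 D95613)) (tt N27424 F147280) (tt N52871 (iv4 F151744)) (tt N87224 D190084) (tt N87225 D190085) (tt N52476 (iv7 F149743)))
theorem Q51828 : ∀ i, i < 51828 → P i := stepQ 51827 Q51827 (allL N51827 (tt N87226 D190086) (tt N87227 D190087) (tt N87224 (iv2 F378810)) (tt N27406 F147281) (tt N87228 D190088) (tt N27405 (iv5 D95614)) (tt N87229 D190089) (tt N52477 (iv7 F149751)))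
theorem Q51829 : ∀ i, i < 51829 → P i := stepQ 51828 Q51828 (allL N51828 (tt N87230 D190090) (tt N87231 D190091) (tt N87225 (iv2 F378812)) (tt N27407 F147282) (tt N51465 F147283) (tt N52284 (iv5 F148375)) (tt N27405 (iv6 D95615)) (tt N77713 F361847))
theorem Q51830 : ∀ i, i < 51830 → P i := stepQ 51829 Q51829 (allL N51829 (tt N49905 F147284) (tt N49908 F147285) (tt N52473 (iv2 F149733)) (tt N46942 F326714) (tt N27406 (iv4 D95616)) (tt N46941 F326715) (tt N87232 D190092) (tt N52479 (iv7 F149756)))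
theorem Q51831 : ∀ i, i < 51831 → P i := stepQ 51830 Q51830 (allL N51830 (tt N45472 F344656) (tt N80264 F344657) (tt N52474 (iv2 F149738)) (tt N87229 (iv3 F378819)) (tt N87232 (iv4 F378825)) (tt N52286 (iv5 F148381)) (tt N27406 (iv6 D95617)) (tt N79643 F344658))
theorem Q51832 : ∀ i, i < 51832 → P i := stepQ 51831 Q51831 (allL N51831 (tt N27408 (iv1 D95618)) (tt N27424 F147289) (tt N27426 (iv2 F147287)) (tt N52402 (iv3 F149554)) (tt N83875 (iv4 F367322)) (tt N87233 D190093) (tt N49929 (iv6 F147288)) (tt N27420 F147286))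
theorem Q51833 : ∀ i, i < 51833 → P i := stepQ 51832 Q51832 (allL N51832 (tt N27420 (iv1 F147293)) (tt N27426 F147292) (tt N27408 (iv2 D95619)) (tt N52476 (iv3 F149741)) (tt N49412 F147290) (tt N87234 D190094) (tt N83219 F367116) (tt N27424 F147291))
theorem Q51834 : ∀ i, i < 51834 → P i := stepQ 51833 Q51833 (allL N51833 (tt N87235 D190095) (tt N87236 D190096) (tt N87234 (iv2 F378834)) (tt N27409 F147294) (tt N87237 D190097) (tt N27408 (iv5 D95620)) (tt N87238 D190098) (tt N49671 F147295))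
theorem Q51835 : ∀ i, i < 51835 → P i := stepQ 51834 Q51834 (allL N51834 (tt N49908 F147298) (tt N49905 F147299) (tt N52479 (iv2 F149754)) (tt N58492 F364879) (tt N27409 (iv4 D95622)) (tt N52236 (iv5 F148104)) (tt N51815 F340716) (tt N52473 (iv7 F149734)))
theorem Q51836 : ∀ i, i < 51836 → P i := stepQ 51835 Q51835 (allL N51835 (tt N69455 F364590) (tt N87239 D190099) (tt N52480 (iv2 F149759)) (tt N87238 (iv3 F378851)) (tt N51815 F361147) (tt N83220 (iv5 F364592)) (tt N27409 (iv6 D95623)) (tt N87240 D190100))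
theorem Q51837 : ∀ i, i < 51837 → P i := stepQ 51836 Q51836 (allL N51836 (tt N87223 (iv1 F381205)) (tt N82939 (iv0 F289558)) (tt N87241 D190102) (tt N27410 (iv3 D95625)) (tt N87242 D190103) (tt N55504 (iv5 F160403)) (tt N87243 D190104) (tt N52483 (iv7 F149766)))
theorem Q51838 : ∀ i, i < 51838 → P i := stepQ 51837 Q51837 (allL N51837 (tt N49898 F147304) (tt N27839 F147305) (tt N51933 F147464) (tt N81149 (iv3 F348939)) (tt N27410 (iv4 D95626)) (tt N52234 (iv5 F148096)) (tt N86425 F376176) (tt N51841 (iv7 F328311)))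
theorem Q51839 : ∀ i, i < 51839 → P i := stepQ 51838 Q51838 (allL N51838 (tt N79647 F362493) (tt N87244 D190105) (tt N52482 (iv2 F149763)) (tt N87243 (iv3 F378860)) (tt N86425 (iv4 F376175)) (tt N85707 (iv5 F373605)) (tt N27410 (iv6 D95627)) (tt N86775 (iv7 F377139)))
theorem Q51840 : ∀ i, i < 51840 → P i := stepQ 51839 Q51839 (allL N51839 (tt N27425 F147307) (tt N87233 (iv0 F378832)) (tt N87245 D190106) (tt N27411 (iv3 D95628)) (tt N87246 D190107) (tt N28865 F147306) (tt N79472 (iv6 F348937)) (tt N52481 (iv7 F149760)))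
theorem Q51841 : ∀ i, i < 51841 → P i := stepQ 51840 Q51840 (allL N51840 (tt N27839 F147308) (tt N49898 F147309) (tt N51841 F328705) (tt N87247 D190108) (tt N27411 (iv4 D95629)) (tt N52231 (iv5 F148079)) (tt N27801 F328706) (tt N51933 F147465))
theorem Q51842 : ∀ i, i < 51842 → P i := stepQ 51841 Q51841 (allL N51841 (tt N27464 F328307) (tt N49943 F328308) (tt N51840 (iv2 F328705)) (tt N79472 F348938) (tt N27801 F328309) (tt N51728 F328310) (tt N27411 (iv6 D95630)) (tt N51837 F328311))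
theorem Q51843 : ∀ i, i < 51843 → P i := stepQ 51842 Q51842 (allL N51842 (tt N87248 D190109) (tt N87249 D190110) (tt N87250 D190111) (tt N27412 (iv3 D95631)) (tt N87187 (iv4 F378636)) (tt N55516 (iv5 F160480)) (tt N87219 (iv6 F378795)) (tt N84495 (iv7 F369544)))
theorem Q51844 : ∀ i, i < 51844 → P i := stepQ 51843 Q51843 (allL N51843 (tt N28161 F157242) (tt N27558 F157243) (tt N48683 F147311) (tt N49377 F147312) (tt N52489 (iv4 F149790)) (tt N87251 D190112) (tt N27413 (iv6 D95632)) (tt N48723 F157244))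
theorem Q51845 : ∀ i, i < 51845 → P i := stepQ 51844 Q51844 (allL N51844 (tt N48525 F294755) (tt N48793 F157612) (tt N48682 F147313) (tt N28020 F147314) (tt N52533 (iv4 F149885)) (tt N87252 D190113) (tt N27414 (iv6 D95633)) (tt N48792 F157613))
theorem Q51846 : ∀ i, i < 51846 → P i := stepQ 51845 Q51845 (allL N51845 (tt N83875 F367326) (tt N27415 (iv0 D95634)) (tt N83955 (iv2 F367599)) (tt N49392 F147315) (tt N84040 (iv4 F367888)) (tt N87253 D190114) (tt N87254 D190115) (tt N83956 (iv7 F367602)))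
theorem Q51847 : ∀ i, i < 51847 → P i := stepQ 51846 Q51846 (allL N51846 (tt N27415 (iv1 D95635)) (tt N83875 (iv0 F367325)) (tt N83956 (iv2 F367605)) (tt N28028 F251783) (tt N79014 (iv4 F251834)) (tt N87255 D190116) (tt N87256 D190117) (tt N83955 (iv7 F367600)))
theorem Q51848 : ∀ i, i < 51848 → P i := stepQ 51847 Q51847 (allL N51847 (tt N86282 (iv1 F375676)) (tt N52149 (iv0 F147780)) (tt N49550 F147337) (tt N82940 (iv3 F284874)) (tt N86802 (iv4 F377249)) (tt N27418 (iv5 D95643)) (tt N87061 (iv6 F378238)) (tt N86280 (iv7 F375665)))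
theorem Q51849 : ∀ i, i < 51849 → P i := stepQ 51848 Q51848 (allL N51848 (tt N52463 F361110) (tt N87205 F378760) (tt N27423 F147338) (tt N32902 F147339) (tt N49653 (iv4 F308361)) (tt N87257 D190118) (tt N27419 (iv6 D95644)) (tt N87204 (iv7 F378752)))
theorem Q51850 : ∀ i, i < 51850 → P i := stepQ 51849 Q51849 (allL N51849 (tt N52481 (iv1 F289951)) (tt N87245 F378868) (tt N27425 F147340) (tt N52401 (iv3 F149552)) (tt N87258 D190119) (tt N27420 (iv5 D95645)) (tt N87257 (iv6 F378917)) (tt N87233 (iv7 F378831)))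
theorem Q51851 : ∀ i, i < 51851 → P i := stepQ 51850 Q51850 (allL N51850 (tt N53554 (iv1 F305510)) (tt N45547 (iv0 F147344)) (tt N28584 F147341) (tt N78544 (iv3 F249089)) (tt N27421 (iv4 D95646)) (tt N28032 F303329) (tt N84346 (iv6 F369006)) (tt N28031 F303330))
theorem Q51852 : ∀ i, i < 51852 → P i := stepQ 51851 Q51851 (allL N51851 (tt N87259 D190120) (tt N87195 (iv0 F378671)) (tt N28585 F147345) (tt N87188 (iv3 F378638)) (tt N84346 (iv4 F369005)) (tt N87260 D190121) (tt N27421 (iv6 D95647)) (tt N84344 (iv7 F368998)))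
theorem Q51853 : ∀ i, i < 51853 → P i := stepQ 51852 Q51852 (allL N51852 (tt N64715 F355153) (tt N78988 (iv0 F359379)) (tt N49653 (iv2 F308359)) (tt N74388 (iv3 F338491)) (tt N27423 F147346) (tt N55330 F307497) (tt N27422 (iv6 D95648)) (tt N87261 D190122))
theorem Q51854 : ∀ i, i < 51854 → P i := stepQ 51853 Q51853 (allL N51853 (tt N87204 F378756) (tt N27423 (iv0 D95649)) (tt N52463 (iv2 F361106)) (tt N31093 F348932) (tt N87262 D190123) (tt N81190 (iv5 F348934)) (tt N31089 F348933) (tt N87205 (iv7 F378758)))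
theorem Q51855 : ∀ i, i < 51855 → P i := stepQ 51854 Q51854 (allL N51854 (tt N87263 D190124) (tt N87215 (iv0 F379280)) (tt N87257 (iv2 F378915)) (tt N27429 F147347) (tt N87264 D190126) (tt N27423 (iv5 D95651)) (tt N27425 F147348) (tt N87265 D190127))
theorem Q51856 : ∀ i, i < 51856 → P i := stepQ 51855 Q51855 (allL N51855 (tt N87205 (iv1 F378759)) (tt N52463 (iv0 F366367)) (tt N87204 (iv2 F378754)) (tt N27430 F147349) (tt N87261 (iv4 F378929)) (tt N87265 (iv5 F378940)) (tt N52459 (iv6 F149717)) (tt N27423 (iv7 D95652)))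
theorem Q51857 : ∀ i, i < 51857 → P i := stepQ 51856 Q51856 (allL N51856 (tt N87236 (iv1 F378844)) (tt N87235 F378841) (tt N49671 F147350) (tt N87224 (iv3 F378811)) (tt N87266 D190128) (tt N27424 (iv5 D95653)) (tt N87267 D190129) (tt N87234 (iv7 F378835)))
theorem Q51858 : ∀ i, i < 51858 → P i := stepQ 51857 Q51857 (allL N51857 (tt N52702 (iv1 F150251)) (tt N49967 F147771) (tt N49672 F147351) (tt N87225 (iv3 F378813)) (tt N49670 F147352) (tt N55514 F160477) (tt N27424 (iv6 D95654)) (tt N52707 (iv7 F150259)))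
theorem Q51859 : ∀ i, i < 51859 → P i := stepQ 51858 Q51858 (allL N51858 (tt N87233 F378833) (tt N27425 (iv0 D95655)) (tt N52481 (iv2 F149762)) (tt N87241 (iv3 F378858)) (tt N87268 D190130) (tt N55089 (iv5 F158635)) (tt N87269 D190131) (tt N87245 (iv7 F378866)))
theorem Q51860 : ∀ i, i < 51860 → P i := stepQ 51859 Q51859 (allL N51859 (tt N87270 D190132) (tt N87271 D190133) (tt N87258 (iv2 F378918)) (tt N87272 D190134) (tt N27425 (iv4 D95656)) (tt N87273 D190135) (tt N87264 (iv6 F378938)) (tt N87274 D190136))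
theorem Q51861 : ∀ i, i < 51861 → P i := stepQ 51860 Q51860 (allL N51860 (tt N87245 (iv1 F378867)) (tt N52481 (iv0 F149761)) (tt N87233 (iv2 F378830)) (tt N27440 F147353) (tt N87274 (iv4 F378951)) (tt N27426 F147354) (tt N87275 D190137) (tt N27425 (iv7 D95657)))
theorem Q51862 : ∀ i, i < 51862 → P i := stepQ 51861 Q51861 (allL N51861 (tt N52459 F366340) (tt N52455 (iv0 F366341)) (tt N52457 F366339) (tt N27427 (iv3 D95659)) (tt N87276 D190138) (tt N87277 D190139) (tt N75189 F366381) (tt N52418 F366336))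
theorem Q51863 : ∀ i, i < 51863 → P i := stepQ 51862 Q51862 (allL N51862 (tt N87278 D190140) (tt N87279 D190141) (tt N52417 (iv2 F366338)) (tt N87277 (iv3 F378957)) (tt N87280 D190142) (tt N27427 (iv5 D95661)) (tt N87281 D190143) (tt N52419 F366337))
theorem Q51864 : ∀ i, i < 51864 → P i := stepQ 51863 Q51863 (allL N51863 (tt N82936 F364028) (tt N87282 D190144) (tt N87283 D190145) (tt N27428 (iv3 D95664)) (tt N48126 F347831) (tt N87284 D190146) (tt N48125 F347832) (tt N52416 F347833))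
theorem Q51865 : ∀ i, i < 51865 → P i := stepQ 51864 Q51864 (allL N51864 (tt N27726 F338152) (tt N46574 F338153) (tt N46573 F338154) (tt N34564 F338155) (tt N27428 (iv4 D95665)) (tt N44534 F338156) (tt N34551 F338157) (tt N41843 F338158))
theorem Q51866 : ∀ i, i < 51866 → P i := stepQ 51865 Q51865 (allL N51865 (tt N87279 (iv1 F378960)) (tt N87278 F378959) (tt N52419 (iv2 F366195)) (tt N87284 (iv3 F378976)) (tt N87285 D190147) (tt N27428 (iv5 D95666)) (tt N87286 D190148) (tt N52417 (iv7 F366194)))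
theorem Q51867 : ∀ i, i < 51867 → P i := stepQ 51866 Q51866 (allL N51866 (tt N87287 D190149) (tt N87194 F378668) (tt N52420 (iv2 F347837)) (tt N48125 F347834) (tt N34551 F347835) (tt N87288 D190150) (tt N27428 (iv6 D95667)) (tt N34550 F347836))
theorem Q51868 : ∀ i, i < 51868 → P i := stepQ 51867 Q51867 (allL N51867 (tt N52424 (iv1 F149587)) (tt N27429 (iv0 D95668)) (tt N52421 (iv2 F364159)) (tt N87289 D190151) (tt N87290 D190152) (tt N87075 (iv5 F378292)) (tt N87291 D190153) (tt N52422 F364158))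
theorem Q51869 : ∀ i, i < 51869 → P i := stepQ 51868 Q51868 (allL N51868 (tt N27429 (iv1 D95669)) (tt N52424 F149586) (tt N52422 F364156) (tt N87292 D190154) (tt N87293 D190155) (tt N52221 (iv5 F148057)) (tt N87294 D190156) (tt N52421 (iv7 F364157)))
theorem Q51870 : ∀ i, i < 51870 → P i := stepQ 51869 Q51869 (allL N51869 (tt N87295 D190157) (tt N87296 D190158) (tt N52423 (iv2 F149581)) (tt N87297 D190159) (tt N27429 (iv4 D95670)) (tt N87298 D190160) (tt N27439 F147358) (tt N87299 D190161))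
theorem Q51871 : ∀ i, i < 51871 → P i := stepQ 51870 Q51870 (allL N51870 (tt N52422 (iv1 F149579)) (tt N52421 F149585) (tt N52424 (iv2 F149583)) (tt N87265 (iv3 F378939)) (tt N87299 (iv4 F379009)) (tt N27430 F147359) (tt N87300 D190162) (tt N27429 (iv7 D95671)))
theorem Q51872 : ∀ i, i < 51872 → P i := stepQ 51871 Q51871 (allL N51871 (tt N55293 F159343) (tt N87301 D190163) (tt N52460 (iv2 F149718)) (tt N27432 F147360) (tt N79305 F365877) (tt N27431 (iv5 D95672)) (tt N45474 F365878) (tt N52431 (iv7 F149605)))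
theorem Q51873 : ∀ i, i < 51873 → P i := stepQ 51872 Q51872 (allL N51872 (tt N27564 F147363) (tt N80130 F324884) (tt N47609 (iv2 F325906)) (tt N27433 F147361) (tt N49742 F147362) (tt N46776 F324885) (tt N27431 (iv6 D95673)) (tt N47606 (iv7 F325909)))
theorem Q51874 : ∀ i, i < 51874 → P i := stepQ 51873 Q51873 (allL N51873 (tt N27435 (iv1 F147365)) (tt N27432 (iv0 D95674)) (tt N29207 (iv2 F147366)) (tt N85178 (iv3 F371824)) (tt N84528 (iv4 F369624)) (tt N29117 F147364) (tt N87302 D190164) (tt N29369 F291917))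
theorem Q51875 : ∀ i, i < 51875 → P i := stepQ 51874 Q51874 (allL N51874 (tt N27432 (iv1 D95675)) (tt N27435 F147367) (tt N29369 F291919) (tt N87235 (iv3 F378839)) (tt N84529 (iv4 F369631)) (tt N29208 F147369) (tt N87303 D190165) (tt N29207 F147368))
theorem Q51876 : ∀ i, i < 51876 → P i := stepQ 51875 Q51875 (allL N51875 (tt N54206 (iv1 F290801)) (tt N54215 (iv0 F360814)) (tt N52429 (iv2 F149600)) (tt N87304 D190166) (tt N27432 (iv4 D95676)) (tt N55372 F360813) (tt N87305 D190167) (tt N52433 (iv7 F149610)))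
theorem Q51877 : ∀ i, i < 51877 → P i := stepQ 51876 Q51876 (allL N51876 (tt N87306 D190168) (tt N87307 D190169) (tt N52430 (iv2 F149602)) (tt N45474 F326723) (tt N87305 (iv4 F379021)) (tt N47624 F326724) (tt N27432 (iv6 D95677)) (tt N79639 F326725))
theorem Q51878 : ∀ i, i < 51878 → P i := stepQ 51877 Q51877 (allL N51877 (tt N27434 (iv1 D95679)) (tt N52426 F149594) (tt N52425 (iv2 F344219)) (tt N52475 (iv3 F367272)) (tt N87308 D190170) (tt N87309 D190171) (tt N52475 (iv6 F367273)) (tt N52392 F344221))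
theorem Q51879 : ∀ i, i < 51879 → P i := stepQ 51878 Q51878 (allL N51878 (tt N52392 (iv1 F289553)) (tt N52425 F149588) (tt N27434 (iv2 D95680)) (tt N49928 F147371) (tt N49445 F147372) (tt N87310 D190172) (tt N83222 (iv6 F340539)) (tt N52426 (iv7 F149591)))
theorem Q51880 : ∀ i, i < 51880 → P i := stepQ 51879 Q51879 (allL N51879 (tt N87311 D190173) (tt N87312 D190174) (tt N87310 (iv2 F379033)) (tt N27435 F147373) (tt N87313 D190175) (tt N27434 (iv5 D95681)) (tt N87314 D190176) (tt N52427 (iv7 F149596)))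
theorem Q51881 : ∀ i, i < 51881 → P i := stepQ 51880 Q51880 (allL N51880 (tt N87315 D190177) (tt N87316 D190178) (tt N83222 (iv2 F340551)) (tt N27436 F147374) (tt N49874 F147375) (tt N55277 (iv5 F159290)) (tt N27434 (iv6 D95682)) (tt N55080 F292163))
theorem Q51882 : ∀ i, i < 51882 → P i := stepQ 51881 Q51881 (allL N51881 (tt N54215 (iv1 F360815)) (tt N54206 (iv0 F290800)) (tt N52433 (iv2 F149609)) (tt N87317 D190179) (tt N27435 (iv4 D95683)) (tt N55374 F360811) (tt N87318 D190180) (tt N52429 (iv7 F149601)))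
theorem Q51883 : ∀ i, i < 51883 → P i := stepQ 51882 Q51882 (allL N51882 (tt N87319 D190181) (tt N87320 D190182) (tt N52434 (iv2 F149611)) (tt N87314 (iv3 F379038)) (tt N87318 (iv4 F379046)) (tt N55279 (iv5 F159295)) (tt N27435 (iv6 D95684)) (tt N87321 D190183))
theorem Q51884 : ∀ i, i < 51884 → P i := stepQ 51883 Q51883 (allL N51883 (tt N49930 F147377) (tt N52456 (iv0 F158656)) (tt N52461 F149720) (tt N27437 (iv3 D95685)) (tt N87322 D190184) (tt N55098 (iv5 F158650)) (tt N79651 (iv6 F381418)) (tt N52438 (iv7 F149619)))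
theorem Q51885 : ∀ i, i < 51885 → P i := stepQ 51884 Q51884 (allL N51884 (tt N51969 (iv1 F147514)) (tt N27825 F147376) (tt N51966 F147507) (tt N87323 D190186) (tt N27437 (iv4 D95686)) (tt N55365 F367196) (tt N87324 D190187) (tt N51967 (iv7 F147509)))
theorem Q51886 : ∀ i, i < 51886 → P i := stepQ 51885 Q51885 (allL N51885 (tt N87325 D190188) (tt N87326 D190189) (tt N52437 (iv2 F149617)) (tt N79651 (iv3 F381417)) (tt N87324 (iv4 F379048)) (tt N52693 (iv5 F150185)) (tt N27437 (iv6 D95687)) (tt N87327 D190190))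
theorem Q51887 : ∀ i, i < 51887 → P i := stepQ 51886 Q51886 (allL N51886 (tt N82937 F289706) (tt N87309 (iv0 F379032)) (tt N87328 D190191) (tt N27438 (iv3 D95688)) (tt N87329 D190192) (tt N51662 F147378) (tt N87330 D190193) (tt N52436 (iv7 F149616)))
theorem Q51888 : ∀ i, i < 51888 → P i := stepQ 51887 Q51887 (allL N51887 (tt N27825 F147379) (tt N51969 F147513) (tt N51967 F147511) (tt N87331 D190194) (tt N27438 (iv4 D95689)) (tt N55334 F367197) (tt N87332 D190195) (tt N51966 F147508))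
theorem Q51889 : ∀ i, i < 51889 → P i := stepQ 51888 Q51888 (allL N51888 (tt N81172 F378043) (tt N87333 D190196) (tt N52439 (iv2 F149621)) (tt N87330 (iv3 F379053)) (tt N87332 (iv4 F379056)) (tt N51664 F147380) (tt N27438 (iv6 D95690)) (tt N87334 D190197))
theorem Q51890 : ∀ i, i < 51890 → P i := stepQ 51889 Q51889 (allL N51889 (tt N78078 F365368) (tt N78080 F365373) (tt N73547 (iv2 F365371)) (tt N27439 (iv3 D95693)) (tt N87272 (iv4 F378945)) (tt N55376 (iv5 F365369)) (tt N87297 (iv6 F379006)) (tt N56767 F365370))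
theorem Q51891 : ∀ i, i < 51891 → P i := stepQ 51890 Q51890 (allL N51890 (tt N52441 (iv1 F149627)) (tt N52440 F149626) (tt N52444 (iv2 F149634)) (tt N56767 (iv3 F365372)) (tt N27440 F147383) (tt N52453 (iv5 F149684)) (tt N87335 D190198) (tt N27439 (iv7 D95695)))
theorem Q51892 : ∀ i, i < 51892 → P i := stepQ 51891 Q51891 (allL N51891 (tt N87336 D190199) (tt N87337 D190200) (tt N52445 (iv2 F149639)) (tt N87275 (iv3 F378953)) (tt N87335 (iv4 F379063)) (tt N49932 F147384) (tt N27440 (iv6 D95696)) (tt N87300 (iv7 F379012)))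
theorem Q51893 : ∀ i, i < 51893 → P i := stepQ 51892 Q51892 (allL N51892 (tt N84503 (iv1 F369556)) (tt N84502 F369555) (tt N49934 F147385) (tt N27442 F147386) (tt N87338 D190201) (tt N27441 (iv5 D95697)) (tt N87339 D190202) (tt N52446 (iv7 F149643)))
theorem Q51894 : ∀ i, i < 51894 → P i := stepQ 51893 Q51893 (allL N51893 (tt N84529 (iv1 F369628)) (tt N84528 F369625) (tt N49945 F147390) (tt N87340 D190203) (tt N27442 (iv4 D95699)) (tt N54181 (iv5 F360808)) (tt N87341 D190204) (tt N52447 (iv7 F149645)))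
theorem Q51895 : ∀ i, i < 51895 → P i := stepQ 51894 Q51894 (allL N51894 (tt N87342 D190205) (tt N87343 D190206) (tt N49946 F147391) (tt N87339 (iv3 F379066)) (tt N87341 (iv4 F379068)) (tt N55231 (iv5 F159215)) (tt N27442 (iv6 D95700)) (tt N87344 D190207))
theorem Q51896 : ∀ i, i < 51896 → P i := stepQ 51895 Q51895 (allL N51895 (tt N52760 F157298) (tt N49559 (iv0 F157292)) (tt N49376 F147418) (tt N51479 F147419) (tt N27445 F147420) (tt N87345 D190208) (tt N27443 (iv6 D95724)) (tt N52625 F157288))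
theorem Q51897 : ∀ i, i < 51897 → P i := stepQ 51896 Q51896 (allL N51896 (tt N52588 F350615) (tt N52342 F350616) (tt N52491 (iv2 F149796)) (tt N42733 F147421) (tt N57340 (iv4 F328856)) (tt N87346 D190209) (tt N27444 (iv6 D95725)) (tt N52587 F346752))
theorem Q51898 : ∀ i, i < 51898 → P i := stepQ 51897 Q51897 (allL N51897 (tt N52655 (iv1 F177430)) (tt N49206 F294041) (tt N52492 (iv2 F149798)) (tt N52535 (iv3 F149896)) (tt N87347 D190210) (tt N27445 (iv5 D95728)) (tt N87346 (iv6 F379088)) (tt N52626 F157289))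
theorem Q51899 : ∀ i, i < 51899 → P i := stepQ 51898 Q51898 (allL N51898 (tt N80680 F270430) (tt N52331 F270483) (tt N52533 (iv2 F149883)) (tt N27449 F147422) (tt N48682 F147423) (tt N87348 D190211) (tt N27446 (iv6 D95730)) (tt N87099 (iv7 F378370)))
theorem Q51900 : ∀ i, i < 51900 → P i := stepQ 51899 Q51899 (allL N51899 (tt N82943 F284882) (tt N80549 (iv0 F268361)) (tt N52485 (iv2 F149769)) (tt N48658 F295389) (tt N27449 F147425) (tt N87349 D190212) (tt N27447 (iv6 D95731)) (tt N53032 F157618))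
theorem Q51901 : ∀ i, i < 51901 → P i := stepQ 51900 Q51900 (allL N51900 (tt N27503 F361783) (tt N87125 F378444) (tt N52486 (iv2 F149772)) (tt N77288 (iv3 F242306)) (tt N63241 (iv4 F336407)) (tt N60177 F336410) (tt N27448 (iv6 D95732)) (tt N87124 (iv7 F378435)))
theorem Q51902 : ∀ i, i < 51902 → P i := stepQ 51901 Q51901 (allL N51901 (tt N27530 F157629) (tt N87143 F378526) (tt N52487 (iv2 F149775)) (tt N87348 (iv3 F379092)) (tt N60178 F364263) (tt N27449 (iv5 D95735)) (tt N60177 (iv6 F336411)) (tt N87132 (iv7 F378478)))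
theorem Q51903 : ∀ i, i < 51903 → P i := stepQ 51902 Q51902 (allL N51902 (tt N52500 (iv1 F149836)) (tt N51803 F147428) (tt N27454 F147426) (tt N32638 F147427) (tt N27450 (iv4 D95737)) (tt N63538 (iv5 F300848)) (tt N77447 F347848) (tt N52493 (iv7 F149806)))
theorem Q51904 : ∀ i, i < 51904 → P i := stepQ 51903 Q51903 (allL N51903 (tt N87350 D190213) (tt N87351 D190214) (tt N27455 F147429) (tt N32646 F147430) (tt N77447 (iv4 F347846)) (tt N87352 D190215) (tt N27450 (iv6 D95738)) (tt N87353 D190216))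
theorem Q51905 : ∀ i, i < 51905 → P i := stepQ 51904 Q51904 (allL N51904 (tt N84514 (iv1 F369593)) (tt N84513 F369590) (tt N27458 F147431) (tt N52536 (iv3 F149905)) (tt N87354 D190217) (tt N27451 (iv5 D95739)) (tt N87352 (iv6 F379103)) (tt N84512 (iv7 F369583)))
theorem Q51906 : ∀ i, i < 51906 → P i := stepQ 51905 Q51905 (allL N51905 (tt N46137 F147435) (tt N64046 (iv0 F192386)) (tt N44773 (iv2 F300640)) (tt N32596 F147432) (tt N27452 (iv4 D95740)) (tt N34435 F298360) (tt N47379 F298361) (tt N43172 F147433))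
theorem Q51907 : ∀ i, i < 51907 → P i := stepQ 51906 Q51906 (allL N51906 (tt N54972 F339745) (tt N44148 F339746) (tt N52499 (iv2 F149835)) (tt N46068 F147436) (tt N47379 F335525) (tt N74187 F364426) (tt N27452 (iv6 D95741)) (tt N54971 F335526))
theorem Q51908 : ∀ i, i < 51908 → P i := stepQ 51907 Q51907 (allL N51907 (tt N27454 (iv1 D95743)) (tt N52493 (iv0 F149807)) (tt N51803 (iv2 F147438)) (tt N64709 F198192) (tt N51802 F147437) (tt N63251 (iv5 F298806)) (tt N80186 F330759) (tt N52500 (iv7 F149837)))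
theorem Q51909 : ∀ i, i < 51909 → P i := stepQ 51908 Q51908 (allL N51908 (tt N87353 (iv1 F379110)) (tt N27455 (iv0 D95746)) (tt N87350 F379097) (tt N85779 F373902) (tt N87355 D190218) (tt N87356 D190219) (tt N87357 D190220) (tt N87351 (iv7 F379096)))
theorem Q51910 : ∀ i, i < 51910 → P i := stepQ 51909 Q51909 (allL N51909 (tt N27455 (iv1 D95747)) (tt N87353 F379109) (tt N87351 (iv2 F379099)) (tt N87358 D190221) (tt N87359 D190222) (tt N87360 D190223) (tt N87361 D190224) (tt N87350 F379098))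
theorem Q51911 : ∀ i, i < 51911 → P i := stepQ 51910 Q51910 (allL N51910 (tt N87362 D190225) (tt N87363 D190226) (tt N87352 (iv2 F379101)) (tt N27461 F147442) (tt N87364 D190227) (tt N27455 (iv5 D95748)) (tt N27458 F147443) (tt N87365 D190228))
theorem Q51912 : ∀ i, i < 51912 → P i := stepQ 51911 Q51911 (allL N51911 (tt N87351 (iv1 F379094)) (tt N87350 F379100) (tt N87353 (iv2 F379106)) (tt N27462 F147444) (tt N77183 (iv4 F347844)) (tt N87365 (iv5 F379132)) (tt N52506 (iv6 F149851)) (tt N27455 (iv7 D95749)))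
theorem Q51913 : ∀ i, i < 51913 → P i := stepQ 51912 Q51912 (allL N51912 (tt N87308 F379031) (tt N49542 (iv0 F289523)) (tt N49391 F147445) (tt N51486 F147446) (tt N27456 (iv4 D95750)) (tt N63067 F356586) (tt N87366 D190229) (tt N75672 (iv7 F356584)))
theorem Q51914 : ∀ i, i < 51914 → P i := stepQ 51913 Q51913 (allL N51913 (tt N84534 (iv1 F369639)) (tt N49947 (iv0 F349343)) (tt N84510 (iv2 F369574)) (tt N79010 (iv3 F251814)) (tt N74334 (iv4 F356588)) (tt N27456 (iv5 D95751)) (tt N87367 D190230) (tt N84509 (iv7 F369572)))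
theorem Q51915 : ∀ i, i < 51915 → P i := stepQ 51914 Q51914 (allL N51914 (tt N84559 (iv1 F369694)) (tt N84375 (iv0 F369068)) (tt N84511 (iv2 F369577)) (tt N52649 (iv3 F283803)) (tt N87366 (iv4 F379136)) (tt N59705 F356020) (tt N27456 (iv6 D95752)) (tt N65622 (iv7 F356021)))
theorem Q51916 : ∀ i, i < 51916 → P i := stepQ 51915 Q51915 (allL N51915 (tt N80674 (iv1 F364382)) (tt N83859 F289501) (tt N79014 (iv2 F251833)) (tt N27457 (iv3 D95753)) (tt N83956 F367604) (tt N87368 D190231) (tt N87369 D190232) (tt N84040 (iv7 F367891)))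
theorem Q51917 : ∀ i, i < 51917 → P i := stepQ 51916 Q51916 (allL N51916 (tt N49542 (iv1 F289524)) (tt N87308 (iv0 F379030)) (tt N75672 F356585) (tt N49384 F147449) (tt N27457 (iv4 D95754)) (tt N74343 F356601) (tt N85910 (iv6 F374426)) (tt N49391 F147448))
theorem Q51918 : ∀ i, i < 51918 → P i := stepQ 51917 Q51917 (allL N51917 (tt N49947 F356594) (tt N84534 F369640) (tt N84509 (iv2 F369570)) (tt N87368 (iv3 F379140)) (tt N87370 D190233) (tt N27457 (iv5 D95755)) (tt N87371 D190234) (tt N84510 (iv7 F369575)))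
theorem Q51919 : ∀ i, i < 51919 → P i := stepQ 51918 Q51918 (allL N51918 (tt N49962 F369641) (tt N52628 F369963) (tt N52633 F349227) (tt N87369 (iv3 F379142)) (tt N85910 (iv4 F374427)) (tt N87372 D190235) (tt N27457 (iv6 D95756)) (tt N52634 (iv7 F360981)))
theorem Q51920 : ∀ i, i < 51920 → P i := stepQ 51919 Q51919 (allL N51919 (tt N84512 (iv1 F369585)) (tt N27458 (iv0 D95757)) (tt N84514 F369596) (tt N79003 (iv3 F369587)) (tt N87373 D190236) (tt N55490 F369586) (tt N87374 D190237) (tt N84513 F369592))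
theorem Q51921 : ∀ i, i < 51921 → P i := stepQ 51920 Q51920 (allL N51920 (tt N27458 (iv1 D95758)) (tt N84512 (iv0 F369584)) (tt N84513 F369591) (tt N87375 D190238) (tt N87376 D190239) (tt N55441 (iv5 F160319)) (tt N87249 (iv6 F385460)) (tt N84514 (iv7 F369594)))
theorem Q51922 : ∀ i, i < 51922 → P i := stepQ 51921 Q51921 (allL N51921 (tt N87377 D190241) (tt N87378 D190242) (tt N87354 (iv2 F379111)) (tt N74078 F361797) (tt N27458 (iv4 D95759)) (tt N72689 (iv5 F361796)) (tt N87364 (iv6 F379124)) (tt N84515 (iv7 F369597)))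
theorem Q51923 : ∀ i, i < 51923 → P i := stepQ 51922 Q51922 (allL N51922 (tt N87085 (iv1 F378325)) (tt N42596 F362070) (tt N52518 (iv2 F362072)) (tt N27459 (iv3 D95761)) (tt N42592 F362071) (tt N87379 D190243) (tt N73398 (iv6 F362073)) (tt N52546 (iv7 F362074)))
theorem Q51924 : ∀ i, i < 51924 → P i := stepQ 51923 Q51923 (allL N51923 (tt N52024 F147585) (tt N66707 (iv0 F363490)) (tt N49957 F340383) (tt N87379 (iv3 F379165)) (tt N49937 (iv4 F358005)) (tt N27459 (iv5 D95763)) (tt N49936 F358004) (tt N52547 (iv7 F340391)))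
theorem Q51925 : ∀ i, i < 51925 → P i := stepQ 51924 Q51924 (allL N51924 (tt N29272 F340730) (tt N87380 D190244) (tt N52545 F340731) (tt N73398 F340732) (tt N62391 F340733) (tt N51988 F147542) (tt N27459 (iv6 D95764)) (tt N62390 (iv7 F340734)))
theorem Q51926 : ∀ i, i < 51926 → P i := stepQ 51925 Q51925 (allL N51925 (tt N66707 (iv1 F363491)) (tt N52024 F340396) (tt N52547 F340395) (tt N52520 (iv3 F366293)) (tt N49961 (iv4 F358007)) (tt N27460 (iv5 D95768)) (tt N84544 (iv6 F369658)) (tt N49957 F340385))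
theorem Q51927 : ∀ i, i < 51927 → P i := stepQ 51926 Q51926 (allL N51926 (tt N42003 F339501) (tt N52618 F340411) (tt N41710 F317109) (tt N52521 F363400) (tt N36313 F317110) (tt N87381 D190245) (tt N27460 (iv6 D95769)) (tt N54980 F360645))
theorem Q51928 : ∀ i, i < 51928 → P i := stepQ 51927 Q51927 (allL N51927 (tt N52550 (iv1 F149924)) (tt N27461 (iv0 D95770)) (tt N52548 F366329) (tt N87382 D190246) (tt N87217 (iv4 F378783)) (tt N36340 F317111) (tt N87383 D190247) (tt N36339 F317112))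
theorem Q51929 : ∀ i, i < 51929 → P i := stepQ 51928 Q51928 (allL N51928 (tt N27461 (iv1 D95771)) (tt N52550 F149922) (tt N36339 F317113) (tt N52523 F366327) (tt N87218 (iv4 F378792)) (tt N36318 (iv5 F318859)) (tt N79344 (iv6 F364600)) (tt N52548 (iv7 F366328)))
theorem Q51930 : ∀ i, i < 51930 → P i := stepQ 51929 Q51929 (allL N51929 (tt N87384 D190248) (tt N87385 D190249) (tt N52549 (iv2 F149917)) (tt N74105 (iv3 F425577)) (tt N27461 (iv4 D95772)) (tt N87386 D190251) (tt N27464 F147457) (tt N87387 D190252))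
theorem Q51931 : ∀ i, i < 51931 → P i := stepQ 51930 Q51930 (allL N51930 (tt N36339 (iv1 F319358)) (tt N52548 F149921) (tt N52550 (iv2 F149919)) (tt N87365 (iv3 F379130)) (tt N87387 (iv4 F379201)) (tt N27462 F147458) (tt N84521 (iv6 F369602)) (tt N27461 (iv7 D95773)))
theorem Q51932 : ∀ i, i < 51932 → P i := stepQ 51931 Q51931 (allL N51931 (tt N84501 F369553) (tt N52323 F343070) (tt N52526 (iv2 F149870)) (tt N27463 (iv3 D95774)) (tt N87388 D190253) (tt N29391 F147459) (tt N87389 D190254) (tt N52551 (iv7 F149927)))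
theorem Q51933 : ∀ i, i < 51933 → P i := stepQ 51932 Q51932 (allL N51932 (tt N87390 D190255) (tt N87391 D190256) (tt N29423 F147460) (tt N87389 (iv3 F379205)) (tt N55570 (iv4 F160695)) (tt N83595 F367203) (tt N27463 (iv6 D95775)) (tt N55570 (iv7 F363600)))
theorem Q51934 : ∀ i, i < 51934 → P i := stepQ 51933 Q51933 (allL N51933 (tt N49943 (iv1 F147463)) (tt N27464 (iv0 D95776)) (tt N51837 (iv2 F147464)) (tt N87392 D190257) (tt N27800 F147462) (tt N49172 F147461) (tt N86775 (iv6 F377138)) (tt N51840 (iv7 F147465)))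
theorem Q51935 : ∀ i, i < 51935 → P i := stepQ 51934 Q51934 (allL N51934 (tt N87393 D190258) (tt N87186 (iv0 F395612)) (tt N87394 D190260) (tt N27464 (iv3 D95778)) (tt N74078 (iv4 F361798)) (tt N55537 (iv5 F160605)) (tt N74105 (iv6 F425578)) (tt N84517 (iv7 F369600)))
theorem Q51936 : ∀ i, i < 51936 → P i := stepQ 51935 Q51935 (allL N51935 (tt N51137 (iv1 F294340)) (tt N51134 (iv0 F364439)) (tt N52489 (iv2 F149788)) (tt N27466 F147471) (tt N48683 F147472) (tt N87395 D190261) (tt N27465 (iv6 D95779)) (tt N81559 F364448))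
theorem Q51937 : ∀ i, i < 51937 → P i := stepQ 51936 Q51936 (allL N51936 (tt N87137 (iv1 F378505)) (tt N27533 F177441) (tt N52535 (iv2 F149895)) (tt N87395 (iv3 F379227)) (tt N87396 D190262) (tt N27466 (iv5 D95782)) (tt N80028 (iv6 F259567)) (tt N86655 (iv7 F376683)))
theorem Q51938 : ∀ i, i < 51938 → P i := stepQ 51937 Q51937 (allL N51937 (tt N52338 (iv1 F261863)) (tt N52602 F288202) (tt N46071 F147474) (tt N52486 (iv3 F149773)) (tt N32650 F147475) (tt N87397 D190263) (tt N27467 (iv6 D95784)) (tt N52601 (iv7 F258999)))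
theorem Q51939 : ∀ i, i < 51939 → P i := stepQ 51938 Q51938 (allL N51938 (tt N49211 F293470) (tt N52662 (iv0 F292590)) (tt N52534 (iv2 F149887)) (tt N52487 (iv3 F149776)) (tt N37467 F331365) (tt N27468 (iv5 D95787)) (tt N87397 (iv6 F379234)) (tt N52643 F157642))
theorem Q51940 : ∀ i, i < 51940 → P i := stepQ 51939 Q51939 (allL N51939 (tt N79003 (iv1 F251740)) (tt N79009 (iv0 F251809)) (tt N27476 F147477) (tt N52497 (iv3 F149816)) (tt N87398 D190264) (tt N27470 (iv5 D95789)) (tt N85780 (iv6 F373904)) (tt N87399 D190265))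
theorem Q51941 : ∀ i, i < 51941 → P i := stepQ 51940 Q51940 (allL N51940 (tt N27475 (iv1 F147481)) (tt N27474 F147482) (tt N27477 F147478) (tt N52498 (iv3 F149818)) (tt N32612 F147479) (tt N87399 (iv5 F379244)) (tt N49941 F147480) (tt N27470 (iv7 D95790)))
theorem Q51942 : ∀ i, i < 51942 → P i := stepQ 51941 Q51941 (allL N51941 (tt N42595 F147486) (tt N49655 (iv0 F307538)) (tt N49656 F306778) (tt N27471 (iv3 D95791)) (tt N49404 F306779) (tt N29245 F147484) (tt N54575 F306780) (tt N46066 F147485))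
theorem Q51943 : ∀ i, i < 51943 → P i := stepQ 51942 Q51942 (allL N51942 (tt N36197 F297681) (tt N29269 F343523) (tt N46068 F147487) (tt N54575 F357187) (tt N56285 (iv4 F163338)) (tt N37274 F297682) (tt N27471 (iv6 D95792)) (tt N54572 (iv7 F357184)))
theorem Q51944 : ∀ i, i < 51944 → P i := stepQ 51943 Q51943 (allL N51943 (tt N54570 (iv1 F314181)) (tt N54569 (iv0 F314179)) (tt N46067 F147488) (tt N49732 (iv3 F312634)) (tt N42658 F147489) (tt N54557 F366707) (tt N27472 (iv6 D95793)) (tt N54568 (iv7 F314188)))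
theorem Q51945 : ∀ i, i < 51945 → P i := stepQ 51944 Q51944 (allL N51944 (tt N85781 (iv1 F373909)) (tt N27473 (iv0 D95794)) (tt N85779 F373899) (tt N87400 D190266) (tt N64201 (iv4 F251678)) (tt N87401 D190267) (tt N77804 F364564) (tt N78986 (iv7 F251658)))
theorem Q51946 : ∀ i, i < 51946 → P i := stepQ 51945 Q51945 (allL N51945 (tt N27473 (iv1 D95795)) (tt N85781 F373908) (tt N78986 (iv2 F251682)) (tt N87351 F379095) (tt N64202 F193581) (tt N87402 D190268) (tt N87403 D190269) (tt N85779 (iv7 F373900)))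
theorem Q51947 : ∀ i, i < 51947 → P i := stepQ 51946 Q51946 (allL N51946 (tt N87404 D190270) (tt N87405 D190271) (tt N85780 (iv2 F373903)) (tt N27480 F147490) (tt N87406 D190272) (tt N27473 (iv5 D95796)) (tt N27476 F147491) (tt N87407 D190273))
theorem Q51948 : ∀ i, i < 51948 → P i := stepQ 51947 Q51947 (allL N51947 (tt N78986 F251660) (tt N85779 F373901) (tt N85781 (iv2 F373905)) (tt N27481 F147492) (tt N46055 F147493) (tt N87407 (iv5 F379256)) (tt N46054 F147494) (tt N27473 (iv7 D95797)))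
theorem Q51949 : ∀ i, i < 51949 → P i := stepQ 51948 Q51948 (allL N51948 (tt N83859 F289500) (tt N80674 (iv0 F335747)) (tt N84040 F367889) (tt N27474 (iv3 D95798)) (tt N83955 (iv4 F367596)) (tt N87408 D190274) (tt N87409 D190275) (tt N79014 (iv7 F251835)))
theorem Q51950 : ∀ i, i < 51950 → P i := stepQ 51949 Q51949 (allL N51949 (tt N87410 D190276) (tt N84525 F369615) (tt N79010 (iv2 F251813)) (tt N87408 (iv3 F379257)) (tt N79958 (iv4 F259087)) (tt N27474 (iv5 D95799)) (tt N87411 D190277) (tt N79015 (iv7 F251839)))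
theorem Q51951 : ∀ i, i < 51951 → P i := stepQ 51950 Q51950 (allL N51950 (tt N52645 (iv1 F283797)) (tt N49969 F283794) (tt N52649 (iv2 F283802)) (tt N87409 (iv3 F379258)) (tt N51502 F147495) (tt N55533 F160601) (tt N27474 (iv6 D95800)) (tt N52648 F288028))
theorem Q51952 : ∀ i, i < 51952 → P i := stepQ 51951 Q51951 (allL N51951 (tt N84525 F369614) (tt N87410 F379262) (tt N79015 (iv2 F251838)) (tt N84509 (iv3 F369571)) (tt N79955 (iv4 F259085)) (tt N27475 (iv5 D95801)) (tt N87412 D190278) (tt N79010 (iv7 F251815)))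
theorem Q51953 : ∀ i, i < 51953 → P i := stepQ 51952 Q51952 (allL N51952 (tt N87399 (iv1 F379246)) (tt N27476 (iv0 D95803)) (tt N79003 (iv2 F251737)) (tt N87413 D190279) (tt N79961 (iv4 F259094)) (tt N55018 F158487) (tt N87414 D190280) (tt N79009 (iv7 F251808)))
theorem Q51954 : ∀ i, i < 51954 → P i := stepQ 51953 Q51953 (allL N51953 (tt N27476 (iv1 D95804)) (tt N87399 F379245) (tt N79009 (iv2 F251807)) (tt N84513 (iv3 F369588)) (tt N79960 (iv4 F259090)) (tt N55019 (iv5 F159061)) (tt N87415 D190281) (tt N79003 (iv7 F251738)))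
theorem Q51955 : ∀ i, i < 51955 → P i := stepQ 51954 Q51954 (allL N51954 (tt N87416 D190282) (tt N87417 D190283) (tt N87398 (iv2 F379236)) (tt N87418 D190284) (tt N27476 (iv4 D95805)) (tt N61499 (iv5 F178937)) (tt N87406 (iv6 F379253)) (tt N61498 F178934))
theorem Q51956 : ∀ i, i < 51956 → P i := stepQ 51955 Q51955 (allL N51955 (tt N79009 (iv1 F251810)) (tt N79003 (iv0 F251739)) (tt N87399 (iv2 F379242)) (tt N27484 F147497) (tt N61498 (iv4 F178933)) (tt N27477 F147498) (tt N87419 D190285) (tt N27476 (iv7 D95806)))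
theorem Q51957 : ∀ i, i < 51957 → P i := stepQ 51956 Q51956 (allL N51956 (tt N87420 D190286) (tt N87421 D190287) (tt N52519 (iv2 F366292)) (tt N49957 F340384) (tt N87422 D190288) (tt N27478 (iv5 D95810)) (tt N49955 (iv6 F363592)) (tt N52520 F366291))
theorem Q51958 : ∀ i, i < 51958 → P i := stepQ 51957 Q51957 (allL N51957 (tt N42596 F362078) (tt N87085 F378324) (tt N52546 (iv2 F362080)) (tt N27479 (iv3 D95813)) (tt N42593 F362079) (tt N87423 D190289) (tt N87424 D190290) (tt N52518 (iv7 F362081)))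
theorem Q51959 : ∀ i, i < 51959 → P i := stepQ 51958 Q51958 (allL N51958 (tt N87421 (iv1 F379291)) (tt N87420 F379288) (tt N52520 F366167) (tt N87423 (iv3 F379299)) (tt N87425 D190291) (tt N27479 (iv5 D95815)) (tt N87426 D190292) (tt N52519 (iv7 F366166)))
theorem Q51960 : ∀ i, i < 51960 → P i := stepQ 51959 Q51959 (allL N51959 (tt N64005 F324998) (tt N29268 F324999) (tt N52521 F363399) (tt N87424 (iv3 F379301)) (tt N41661 F325000) (tt N52008 (iv5 F147574)) (tt N27479 (iv6 D95816)) (tt N41658 F325001))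
theorem Q51961 : ∀ i, i < 51961 → P i := stepQ 51960 Q51960 (allL N51960 (tt N52525 (iv1 F149869)) (tt N27480 (iv0 D95817)) (tt N52522 (iv2 F290437)) (tt N52548 (iv3 F353133)) (tt N87295 (iv4 F379281)) (tt N52610 (iv5 F150038)) (tt N87427 D190293) (tt N52523 F290436))
theorem Q51962 : ∀ i, i < 51962 → P i := stepQ 51961 Q51961 (allL N51961 (tt N27480 (iv1 D95818)) (tt N52525 F149868) (tt N52523 F290434) (tt N87428 D190294) (tt N87296 (iv4 F379003)) (tt N52562 (iv5 F149949)) (tt N87429 D190295) (tt N52522 (iv7 F290435)))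
theorem Q51963 : ∀ i, i < 51963 → P i := stepQ 51962 Q51962 (allL N51962 (tt N87430 D190296) (tt N87431 D190297) (tt N52524 (iv2 F149863)) (tt N87432 D190298) (tt N27480 (iv4 D95819)) (tt N81254 (iv5 F366096)) (tt N27483 F147501) (tt N87433 D190299))
theorem Q51964 : ∀ i, i < 51964 → P i := stepQ 51963 Q51963 (allL N51963 (tt N52523 (iv1 F149861)) (tt N52522 F149867) (tt N52525 (iv2 F149865)) (tt N87407 (iv3 F379255)) (tt N87433 (iv4 F379317)) (tt N27481 F147502) (tt N87434 D190300) (tt N27480 (iv7 D95820)))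
theorem Q51965 : ∀ i, i < 51965 → P i := stepQ 51964 Q51964 (allL N51964 (tt N52323 F343069) (tt N84501 (iv0 F369552)) (tt N52551 (iv2 F149925)) (tt N27482 (iv3 D95822)) (tt N87435 D190301) (tt N51675 F147504) (tt N87436 D190302) (tt N52526 (iv7 F149871)))
theorem Q51966 : ∀ i, i < 51966 → P i := stepQ 51965 Q51965 (allL N51965 (tt N87437 D190303) (tt N73504 (iv0 F359853)) (tt N52528 (iv2 F149873)) (tt N87436 (iv3 F379325)) (tt N54231 F366555) (tt N51676 F147505) (tt N27482 (iv6 D95823)) (tt N87438 D190304))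
theorem Q51967 : ∀ i, i < 51967 → P i := stepQ 51966 Q51966 (allL N51966 (tt N52531 (iv1 F149880)) (tt N27483 (iv0 D95824)) (tt N51884 (iv2 F147507)) (tt N87439 D190305) (tt N27775 F147506) (tt N54204 (iv5 F367195)) (tt N87440 D190306) (tt N51887 (iv7 F147508)))
theorem Q51968 : ∀ i, i < 51968 → P i := stepQ 51967 Q51967 (allL N51967 (tt N27483 (iv1 D95825)) (tt N52531 F149879) (tt N51887 (iv2 F147511)) (tt N87441 D190307) (tt N27776 F147510) (tt N48852 F291432) (tt N73502 (iv6 F366255)) (tt N51884 F147509))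
theorem Q51969 : ∀ i, i < 51969 → P i := stepQ 51968 Q51968 (allL N51968 (tt N87442 D190308) (tt N87443 D190309) (tt N87444 D190310) (tt N27483 (iv3 D95826)) (tt N87418 (iv4 F379276)) (tt N54185 F367261) (tt N87432 (iv6 F379316)) (tt N87445 D190311))
theorem Q51970 : ∀ i, i < 51970 → P i := stepQ 51969 Q51969 (allL N51969 (tt N51887 (iv1 F147513)) (tt N51884 F147514) (tt N52531 (iv2 F149877)) (tt N87445 (iv3 F379347)) (tt N27484 F147512) (tt N54106 (iv5 F292272)) (tt N87446 D190312) (tt N27483 (iv7 D95828)))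
theorem Q51971 : ∀ i, i < 51971 → P i := stepQ 51970 Q51970 (allL N51970 (tt N87447 D190313) (tt N87448 D190314) (tt N52532 (iv2 F149881)) (tt N87419 (iv3 F379284)) (tt N87446 (iv4 F379352)) (tt N49944 F147515) (tt N27484 (iv6 D95829)) (tt N87434 (iv7 F379323)))
theorem Q51972 : ∀ i, i < 51972 → P i := stepQ 51971 Q51971 (allL N51971 (tt N52555 (iv1 F149936)) (tt N48756 F147517) (tt N27486 F147516) (tt N61278 (iv3 F178494)) (tt N27485 (iv4 D95830)) (tt N34106 F303649) (tt N32007 F309692) (tt N52553 (iv7 F149931)))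
theorem Q51973 : ∀ i, i < 51973 → P i := stepQ 51972 Q51972 (allL N51972 (tt N52553 (iv1 F149933)) (tt N27486 (iv0 D95832)) (tt N52555 F149939) (tt N74749 (iv3 F306166)) (tt N27608 F147519) (tt N63525 (iv5 F300852)) (tt N82144 F351334) (tt N48756 (iv7 F147520)))
theorem Q51974 : ∀ i, i < 51974 → P i := stepQ 51973 Q51973 (allL N51973 (tt N27486 (iv1 D95833)) (tt N52553 (iv0 F149932)) (tt N48756 F147522) (tt N66912 (iv3 F206068)) (tt N48753 (iv4 F147521)) (tt N63659 (iv5 F300858)) (tt N34419 F342217) (tt N52555 (iv7 F149937)))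
theorem Q51975 : ∀ i, i < 51975 → P i := stepQ 51974 Q51974 (allL N51974 (tt N34109 (iv1 F300986)) (tt N34060 F298829) (tt N34106 (iv2 F301468)) (tt N45431 F147523) (tt N61344 (iv4 F301483)) (tt N27486 (iv5 D95834)) (tt N58881 (iv6 F313055)) (tt N34107 F298831))
theorem Q51976 : ∀ i, i < 51976 → P i := stepQ 51975 Q51975 (allL N51975 (tt N52600 (iv1 F341047)) (tt N52341 F341046) (tt N36341 F317118) (tt N52563 (iv3 F353135)) (tt N36281 F317119) (tt N87449 D190315) (tt N27488 (iv6 D95849)) (tt N52598 F341048))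
theorem Q51977 : ∀ i, i < 51977 → P i := stepQ 51976 Q51976 (allL N51976 (tt N27489 (iv1 D95851)) (tt N36328 (iv0 F318873)) (tt N41331 F317121) (tt N52565 F340698) (tt N41320 F317122) (tt N41329 (iv5 F319397)) (tt N84630 (iv6 F369922)) (tt N52572 F317123))
theorem Q51978 : ∀ i, i < 51978 → P i := stepQ 51977 Q51977 (allL N51977 (tt N60611 F347818) (tt N87450 D190316) (tt N27491 F147535) (tt N52554 (iv3 F149935)) (tt N29838 F147536) (tt N71724 (iv5 F357961)) (tt N27490 (iv6 D95854)) (tt N71736 F357973))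
theorem Q51979 : ∀ i, i < 51979 → P i := stepQ 51978 Q51978 (allL N51978 (tt N71736 F357976) (tt N27491 (iv0 D95855)) (tt N60611 (iv2 F354590)) (tt N87451 D190317) (tt N80024 F259549) (tt N60606 F354591) (tt N86480 (iv6 F376342)) (tt N87450 (iv7 F379360)))
theorem Q51980 : ∀ i, i < 51980 → P i := stepQ 51979 Q51979 (allL N51979 (tt N27491 (iv1 D95856)) (tt N71736 F354586) (tt N87450 (iv2 F379364)) (tt N44143 F354587) (tt N80025 (iv4 F290482)) (tt N44142 F354588) (tt N87452 D190318) (tt N60611 F354589))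
theorem Q51981 : ∀ i, i < 51981 → P i := stepQ 51980 Q51980 (allL N51980 (tt N71725 F354592) (tt N32436 F354593) (tt N71724 (iv2 F357985)) (tt N27494 F147537) (tt N87453 D190319) (tt N27491 (iv5 D95857)) (tt N29135 F147538) (tt N71723 (iv7 F357964)))
theorem Q51982 : ∀ i, i < 51982 → P i := stepQ 51981 Q51981 (allL N51981 (tt N87450 (iv1 F379359)) (tt N60611 (iv0 F357965)) (tt N71736 F317126) (tt N27495 F147539) (tt N61171 F178171) (tt N71723 F357962) (tt N36327 (iv6 F318866)) (tt N27491 (iv7 D95858)))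
theorem Q51983 : ∀ i, i < 51983 → P i := stepQ 51982 Q51982 (allL N51982 (tt N87454 D190320) (tt N55579 F335115) (tt N52561 F290432) (tt N36317 F321391) (tt N81624 (iv4 F358424)) (tt N27492 (iv5 D95862)) (tt N79343 F358423) (tt N42132 F321392))
theorem Q51984 : ∀ i, i < 51984 → P i := stepQ 51983 Q51983 (allL N51983 (tt N52345 (iv1 F364480)) (tt N52612 F364481) (tt N52562 F290433) (tt N36318 F321393) (tt N80462 F341007) (tt N52523 F149862) (tt N27492 (iv6 D95863)) (tt N52610 F290438))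
theorem Q51985 : ∀ i, i < 51985 → P i := stepQ 51984 Q51984 (allL N51984 (tt N36330 (iv1 F319625)) (tt N36329 F317352) (tt N29700 F317353) (tt N27493 (iv3 D95865)) (tt N29698 F317354) (tt N87455 D190321) (tt N75897 F290461) (tt N36331 (iv7 F318770)))
theorem Q51986 : ∀ i, i < 51986 → P i := stepQ 51985 Q51985 (allL N51985 (tt N55579 (iv1 F335114)) (tt N87454 F379376) (tt N42132 F321388) (tt N87455 (iv3 F379379)) (tt N87456 D190322) (tt N27493 (iv5 D95867)) (tt N55555 (iv6 F160652)) (tt N52561 F290430))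
theorem Q51987 : ∀ i, i < 51987 → P i := stepQ 51986 Q51986 (allL N51986 (tt N87123 (iv1 F378432)) (tt N27506 F290441) (tt N52563 F290442) (tt N75897 (iv3 F290462)) (tt N41433 F315538) (tt N54976 (iv5 F158434)) (tt N27493 (iv6 D95868)) (tt N87122 (iv7 F378422)))
theorem Q51988 : ∀ i, i < 51988 → P i := stepQ 51987 Q51987 (allL N51987 (tt N52567 (iv1 F149959)) (tt N27494 (iv0 D95869)) (tt N52564 F358010) (tt N52572 (iv3 F357999)) (tt N87077 (iv4 F378299)) (tt N55216 (iv5 F159189)) (tt N87457 D190323) (tt N52565 F358008))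
theorem Q51989 : ∀ i, i < 51989 → P i := stepQ 51988 Q51988 (allL N51988 (tt N27494 (iv1 D95870)) (tt N52567 F149958) (tt N52565 (iv2 F358001)) (tt N87458 D190324) (tt N49924 F358000) (tt N51924 (iv5 F147542)) (tt N49923 (iv6 F358002)) (tt N52564 (iv7 F358009)))
theorem Q51990 : ∀ i, i < 51990 → P i := stepQ 51989 Q51989 (allL N51989 (tt N31015 F354595) (tt N51730 F354596) (tt N52566 (iv2 F149953)) (tt N87459 D190325) (tt N27494 (iv4 D95871)) (tt N87460 D190326) (tt N29137 F147543) (tt N59772 (iv7 F340705)))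
theorem Q51991 : ∀ i, i < 51991 → P i := stepQ 51990 Q51990 (allL N51990 (tt N52565 (iv1 F149951)) (tt N52564 F149957) (tt N52567 (iv2 F149955)) (tt N71723 (iv3 F357963)) (tt N59772 F357988) (tt N27495 F147544) (tt N55541 (iv6 F160611)) (tt N27494 (iv7 D95872)))
theorem Q51992 : ∀ i, i < 51992 → P i := stepQ 51991 Q51991 (allL N51991 (tt N35047 (iv1 F187342)) (tt N63409 (iv0 F187341)) (tt N77217 (iv2 F241988)) (tt N27496 (iv3 D95873)) (tt N64593 (iv4 F197774)) (tt N35037 F147545) (tt N29734 F311488) (tt N52573 (iv7 F149980)))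
theorem Q51993 : ∀ i, i < 51993 → P i := stepQ 51992 Q51992 (allL N51992 (tt N63018 (iv1 F307856)) (tt N53928 (iv0 F155035)) (tt N52575 (iv2 F149988)) (tt N46107 (iv3 F147547)) (tt N27496 (iv4 D95874)) (tt N28288 F147546) (tt N29735 F311489) (tt N52574 (iv7 F149982)))
theorem Q51994 : ∀ i, i < 51994 → P i := stepQ 51993 Q51993 (allL N51993 (tt N41615 F307295) (tt N75367 (iv0 F307323)) (tt N87461 D190327) (tt N27497 (iv3 D95876)) (tt N42114 F307296) (tt N53323 (iv5 F153345)) (tt N75752 F359052) (tt N42111 F307297))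
theorem Q51995 : ∀ i, i < 51995 → P i := stepQ 51994 Q51994 (allL N51994 (tt N76137 (iv1 F334926)) (tt N76138 F307000) (tt N27499 F147549) (tt N33570 F307001) (tt N41617 F311493) (tt N33982 F301287) (tt N27498 (iv6 D95879)) (tt N48069 F301288))
theorem Q51996 : ∀ i, i < 51996 → P i := stepQ 51995 Q51995 (allL N51995 (tt N48069 F301289) (tt N27499 (iv0 D95880)) (tt N76137 (iv2 F337011)) (tt N76077 F337010) (tt N87462 D190328) (tt N66862 (iv5 F337012)) (tt N87463 D190329) (tt N76138 F337013))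
theorem Q51997 : ∀ i, i < 51997 → P i := stepQ 51996 Q51996 (allL N51996 (tt N27499 (iv1 D95881)) (tt N48069 F301290) (tt N76138 F306302) (tt N42437 F306303) (tt N87464 D190330) (tt N42435 F306304) (tt N29740 F306305) (tt N76137 F306306))
theorem Q51998 : ∀ i, i < 51998 → P i := stepQ 51997 Q51997 (allL N51997 (tt N76138 F334924) (tt N76137 F334925) (tt N48069 F301292) (tt N27502 F147553) (tt N52578 (iv4 F149996)) (tt N35413 F301293) (tt N52578 (iv6 F149997)) (tt N27499 (iv7 D95883)))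
theorem Q51999 : ∀ i, i < 51999 → P i := stepQ 51998 Q51998 (allL N51998 (tt N41433 F308815) (tt N87465 D190331) (tt N52388 F345667) (tt N76123 F308816) (tt N68108 F346790) (tt N65099 F199193) (tt N27500 (iv6 D95888)) (tt N36348 F308817))
theorem Q52000 : ∀ i, i < 52000 → P i := stepQ 51999 Q51999 (allL N51999 (tt N78737 F308807) (tt N87466 D190332) (tt N76124 F308808) (tt N27501 (iv3 D95890)) (tt N84234 (iv4 F368625)) (tt N42486 F308809) (tt N36342 F308810) (tt N52387 F352637))
theorem Q52001 : ∀ i, i < 52001 → P i := stepQ 52000 Q52000 (allL N52000 (tt N42686 F306434) (tt N42691 F306435) (tt N42690 F306436) (tt N42486 F306437) (tt N49017 F301295) (tt N27501 (iv5 D95892)) (tt N42720 F306438) (tt N42689 F306439))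
theorem Q52002 : ∀ i, i < 52002 → P i := stepQ 52001 Q52001 (allL N52001 (tt N87125 (iv1 F378443)) (tt N27503 (iv0 D95904)) (tt N87124 F378437) (tt N52601 (iv3 F342257)) (tt N63238 F342256) (tt N60179 (iv5 F342258)) (tt N52587 (iv6 F346750)) (tt N52486 (iv7 F342259)))
theorem Q52003 : ∀ i, i < 52003 → P i := stepQ 52002 Q52002 (allL N52002 (tt N87124 F378439) (tt N52486 F342251) (tt N27503 (iv2 D95906)) (tt N80027 F342252) (tt N47071 F342253) (tt N87467 D190333) (tt N87468 D190334) (tt N87125 (iv7 F378442)))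
theorem Q52004 : ∀ i, i < 52004 → P i := stepQ 52003 Q52003 (allL N52003 (tt N87469 D190335) (tt N34419 F342246) (tt N47071 F342247) (tt N75468 (iv3 F342255)) (tt N27503 (iv4 D95907)) (tt N47069 F342248) (tt N87470 D190336) (tt N75462 F342249))
theorem Q52005 : ∀ i, i < 52005 → P i := stepQ 52004 Q52004 (allL N52004 (tt N68453 F361784) (tt N87471 D190337) (tt N87467 (iv2 F379431)) (tt N27505 F147566) (tt N31366 F361785) (tt N27503 (iv5 D95908)) (tt N61260 F361786) (tt N87126 (iv7 F378448)))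
theorem Q52006 : ∀ i, i < 52006 → P i := stepQ 52005 Q52005 (allL N52005 (tt N87472 D190338) (tt N87473 D190339) (tt N87468 (iv2 F379436)) (tt N27506 F147567) (tt N87470 (iv4 F379450)) (tt N87474 D190340) (tt N27503 (iv6 D95909)) (tt N87475 D190341))
theorem Q52007 : ∀ i, i < 52007 → P i := stepQ 52006 Q52006 (allL N52006 (tt N27508 (iv1 F147573)) (tt N27504 (iv0 D95911)) (tt N43676 F312741) (tt N44859 F312742) (tt N51650 F312743) (tt N35362 F312744) (tt N52591 (iv6 F334463)) (tt N48415 F312746))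
theorem Q52008 : ∀ i, i < 52008 → P i := stepQ 52007 Q52007 (allL N52007 (tt N74998 F312755) (tt N62775 F312756) (tt N42178 F312757) (tt N75324 F312758) (tt N27506 F147570) (tt N42061 F312759) (tt N27504 (iv6 D95915)) (tt N75002 F312760))
theorem Q52009 : ∀ i, i < 52009 → P i := stepQ 52008 Q52008 (allL N52008 (tt N27509 (iv1 F147578)) (tt N27505 (iv0 D95917)) (tt N87119 F378412) (tt N87476 D190342) (tt N87477 D190343) (tt N51959 F147574) (tt N87478 D190344) (tt N74814 (iv7 F366090)))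
theorem Q52010 : ∀ i, i < 52010 → P i := stepQ 52009 Q52009 (allL N52009 (tt N27505 (iv1 D95918)) (tt N27509 F147575) (tt N74814 (iv2 F366091)) (tt N52595 F358020) (tt N87479 D190345) (tt N55206 (iv5 F290443)) (tt N87135 F378492) (tt N87119 (iv7 F378414)))
theorem Q52011 : ∀ i, i < 52011 → P i := stepQ 52010 Q52010 (allL N52010 (tt N86617 F376611) (tt N87480 D190346) (tt N87120 (iv2 F378415)) (tt N68368 (iv3 F361789)) (tt N27505 (iv4 D95919)) (tt N82878 (iv5 F364048)) (tt N87481 D190347) (tt N86422 F376171))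
theorem Q52012 : ∀ i, i < 52012 → P i := stepQ 52011 Q52011 (allL N52011 (tt N87482 D190348) (tt N87483 D190349) (tt N87121 (iv2 F378419)) (tt N61260 (iv3 F361787)) (tt N87481 (iv4 F379486)) (tt N87484 D190350) (tt N27505 (iv6 D95920)) (tt N87485 D190351))
theorem Q52013 : ∀ i, i < 52013 → P i := stepQ 52012 Q52012 (allL N52012 (tt N27506 (iv1 D95923)) (tt N87123 F378431) (tt N87122 (iv2 F378425)) (tt N52598 (iv3 F353134)) (tt N87465 (iv4 F379425)) (tt N54977 F366334) (tt N52610 (iv6 F150039)) (tt N52563 F290439))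
theorem Q52014 : ∀ i, i < 52014 → P i := stepQ 52013 Q52013 (allL N52013 (tt N29107 F147579) (tt N29153 F147580) (tt N29151 F334505) (tt N87474 (iv3 F379460)) (tt N87486 D190352) (tt N27506 (iv5 D95924)) (tt N87484 (iv6 F379496)) (tt N29150 F334506))
theorem Q52015 : ∀ i, i < 52015 → P i := stepQ 52014 Q52014 (allL N52014 (tt N87122 (iv1 F378421)) (tt N52563 F334501) (tt N87123 (iv2 F378426)) (tt N87475 (iv3 F379463)) (tt N75002 F334502) (tt N29150 F334503) (tt N36338 F334504) (tt N27506 (iv7 D95925)))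
theorem Q52016 : ∀ i, i < 52016 → P i := stepQ 52015 Q52015 (allL N52015 (tt N27507 (iv1 D95928)) (tt N80027 F347580) (tt N80029 F347581) (tt N52587 F347582) (tt N42736 F347583) (tt N87487 D190353) (tt N52601 F347584) (tt N42733 F347585))
theorem Q52017 : ∀ i, i < 52017 → P i := stepQ 52016 Q52016 (allL N52016 (tt N42733 F361698) (tt N80029 F361699) (tt N27507 (iv2 D95929)) (tt N87125 (iv3 F378440)) (tt N45039 F361700) (tt N87488 D190354) (tt N87489 D190355) (tt N80027 F361701))
theorem Q52018 : ∀ i, i < 52018 → P i := stepQ 52017 Q52017 (allL N52017 (tt N32648 F346178) (tt N45040 F346179) (tt N45039 F346180) (tt N63411 F347587) (tt N27507 (iv4 D95930)) (tt N56171 F346181) (tt N46035 F346182) (tt N45038 F346183))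
theorem Q52019 : ∀ i, i < 52019 → P i := stepQ 52018 Q52018 (allL N52018 (tt N81648 (iv1 F381340)) (tt N87490 D190357) (tt N87488 (iv2 F379533)) (tt N27509 F147582) (tt N87491 D190358) (tt N27507 (iv5 D95931)) (tt N87492 D190359) (tt N87117 (iv7 F378392)))
theorem Q52020 : ∀ i, i < 52020 → P i := stepQ 52019 Q52019 (allL N52019 (tt N64186 F346174) (tt N64189 F346175) (tt N87489 (iv2 F379535)) (tt N27510 F147583) (tt N46035 F346176) (tt N87493 D190360) (tt N27507 (iv6 D95932)) (tt N87494 D190361))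
theorem Q52021 : ∀ i, i < 52021 → P i := stepQ 52020 Q52020 (allL N52020 (tt N42350 F233446) (tt N87495 D190362) (tt N75317 F310420) (tt N27508 (iv3 D95933)) (tt N63411 F337009) (tt N34545 F310421) (tt N75228 F310422) (tt N79068 F310423))
theorem Q52022 : ∀ i, i < 52022 → P i := stepQ 52021 Q52021 (allL N52021 (tt N87480 (iv1 F379470)) (tt N86617 F376612) (tt N86422 (iv2 F376167)) (tt N87496 D190363) (tt N27509 (iv4 D95936)) (tt N82876 (iv5 F364047)) (tt N51477 (iv6 F364061)) (tt N87120 (iv7 F378417)))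
theorem Q52023 : ∀ i, i < 52023 → P i := stepQ 52022 Q52022 (allL N52022 (tt N83600 F363598) (tt N83595 (iv0 F367204)) (tt N83598 F367199) (tt N87492 (iv3 F379541)) (tt N51477 F364062) (tt N87497 D190364) (tt N27509 (iv6 D95937)) (tt N83599 (iv7 F367201)))
theorem Q52024 : ∀ i, i < 52024 → P i := stepQ 52023 Q52023 (allL N52023 (tt N36338 F317840) (tt N27510 (iv0 D95938)) (tt N36340 F317841) (tt N52610 (iv3 F353132)) (tt N36321 F317842) (tt N52548 F149923) (tt N52598 F150031) (tt N36318 F317843))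
theorem Q52025 : ∀ i, i < 52025 → P i := stepQ 52024 Q52024 (allL N52024 (tt N51925 (iv1 F340396)) (tt N51923 (iv0 F147585)) (tt N75456 F317846) (tt N87493 (iv3 F379542)) (tt N87498 D190365) (tt N27510 (iv5 D95940)) (tt N87497 (iv6 F379556)) (tt N84631 (iv7 F369928)))
theorem Q52026 : ∀ i, i < 52026 → P i := stepQ 52025 Q52025 (allL N52025 (tt N36318 F317847) (tt N36340 F317848) (tt N36338 F317849) (tt N87494 (iv3 F379544)) (tt N74844 F317850) (tt N84631 (iv5 F369929)) (tt N87123 (iv6 F378430)) (tt N27510 (iv7 D95941)))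
theorem Q52027 : ∀ i, i < 52027 → P i := stepQ 52026 Q52026 (allL N52026 (tt N60179 F356948) (tt N60177 F356949) (tt N87499 D190366) (tt N27511 (iv3 D95943)) (tt N31370 F356950) (tt N87500 D190367) (tt N87501 D190368) (tt N87129 (iv7 F378467)))
theorem Q52028 : ∀ i, i < 52028 → P i := stepQ 52027 Q52027 (allL N52027 (tt N87502 D190369) (tt N87503 D190370) (tt N87128 (iv2 F378458)) (tt N61363 (iv3 F356947)) (tt N27511 (iv4 D95944)) (tt N82873 (iv5 F335103)) (tt N61343 (iv6 F340311)) (tt N73966 F356940))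
theorem Q52029 : ∀ i, i < 52029 → P i := stepQ 52028 Q52028 (allL N52028 (tt N41658 F335097) (tt N52521 (iv0 F363395)) (tt N64005 F335098) (tt N87500 (iv3 F379567)) (tt N35388 F335099) (tt N27511 (iv5 D95945)) (tt N87380 F379170) (tt N29268 F335100))
theorem Q52030 : ∀ i, i < 52030 → P i := stepQ 52029 Q52029 (allL N52029 (tt N56634 F340314) (tt N56643 (iv0 F340313)) (tt N55578 F356897) (tt N87501 (iv3 F379572)) (tt N61343 F340310) (tt N55527 F160520) (tt N27511 (iv6 D95946)) (tt N55574 (iv7 F340325)))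
theorem Q52031 : ∀ i, i < 52031 → P i := stepQ 52030 Q52030 (allL N52030 (tt N80028 F356964) (tt N87487 F379531) (tt N36194 F356961) (tt N27512 (iv3 D95948)) (tt N56000 F356962) (tt N87504 D190371) (tt N36187 F356963) (tt N87127 (iv7 F378453)))
theorem Q52032 : ∀ i, i < 52032 → P i := stepQ 52031 Q52031 (allL N52031 (tt N87503 (iv1 F379584)) (tt N87502 F379579) (tt N73966 F356939) (tt N73679 (iv3 F356959)) (tt N27512 (iv4 D95949)) (tt N82871 (iv5 F335096)) (tt N73677 (iv6 F356960)) (tt N87128 (iv7 F378460)))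
theorem Q52033 : ∀ i, i < 52033 → P i := stepQ 52032 Q52032 (allL N52032 (tt N52521 (iv1 F363397)) (tt N41658 F335090) (tt N29268 F335091) (tt N87504 (iv3 F379592)) (tt N63995 F335092) (tt N27512 (iv5 D95950)) (tt N29222 F147588) (tt N64005 F335093))
theorem Q52034 : ∀ i, i < 52034 → P i := stepQ 52033 Q52033 (allL N52033 (tt N74038 F356905) (tt N74041 F356906) (tt N73965 F356907) (tt N36187 F356908) (tt N73677 F356909) (tt N30319 F356910) (tt N27512 (iv6 D95951)) (tt N59119 F356911))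
theorem Q52035 : ∀ i, i < 52035 → P i := stepQ 52034 Q52034 (allL N52034 (tt N82883 F356686) (tt N27513 (iv0 D95952)) (tt N56639 (iv2 F348081)) (tt N87505 D190372) (tt N86992 (iv4 F377981)) (tt N83288 F356682) (tt N56633 F348080) (tt N87130 (iv7 F378470)))
theorem Q52036 : ∀ i, i < 52036 → P i := stepQ 52035 Q52035 (allL N52035 (tt N27513 (iv1 D95953)) (tt N82883 (iv0 F356670)) (tt N87130 F378471) (tt N75549 (iv3 F350238)) (tt N86993 F377983) (tt N73163 (iv5 F350239)) (tt N73164 F350237) (tt N56639 F348082))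
theorem Q52037 : ∀ i, i < 52037 → P i := stepQ 52036 Q52036 (allL N52036 (tt N29995 F356951) (tt N56657 F356952) (tt N56656 F356944) (tt N27513 (iv3 D95954)) (tt N52622 (iv4 F150044)) (tt N87506 D190373) (tt N27538 F147589) (tt N56655 F356943))
theorem Q52038 : ∀ i, i < 52038 → P i := stepQ 52037 Q52037 (allL N52037 (tt N82881 (iv1 F356680)) (tt N82880 (iv0 F356683)) (tt N82884 (iv2 F356676)) (tt N87506 (iv3 F379598)) (tt N82635 F356679) (tt N27513 (iv5 D95955)) (tt N87507 D190374) (tt N82634 (iv7 F356678)))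
theorem Q52039 : ∀ i, i < 52039 → P i := stepQ 52038 Q52038 (allL N52038 (tt N87130 (iv1 F378469)) (tt N56639 F363606) (tt N82883 F356673) (tt N56655 (iv3 F356942)) (tt N27514 F147590) (tt N82634 F356677) (tt N87508 D190375) (tt N27513 (iv7 D95956)))
theorem Q52040 : ∀ i, i < 52040 → P i := stepQ 52039 Q52039 (allL N52039 (tt N87155 (iv1 F378559)) (tt N87154 F378558) (tt N87131 (iv2 F378472)) (tt N50682 (iv3 F293106)) (tt N87508 (iv4 F379607)) (tt N50682 (iv5 F293107)) (tt N27514 (iv6 D95957)) (tt N27541 F147591))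
theorem Q52041 : ∀ i, i < 52041 → P i := stepQ 52040 Q52040 (allL N52040 (tt N80549 F268362) (tt N82943 (iv0 F284881)) (tt N53032 F152032) (tt N51520 F147593) (tt N27515 (iv4 D95959)) (tt N87509 D190376) (tt N52625 F157632) (tt N52485 (iv7 F157634)))
theorem Q52042 : ∀ i, i < 52042 → P i := stepQ 52041 Q52041 (allL N52041 (tt N87143 (iv1 F378525)) (tt N27530 F365036) (tt N87132 (iv2 F378477)) (tt N52643 (iv3 F150100)) (tt N86910 (iv4 F377673)) (tt N27515 (iv5 D95960)) (tt N87510 D190377) (tt N52487 F157641))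
theorem Q52043 : ∀ i, i < 52043 → P i := stepQ 52042 Q52042 (allL N52042 (tt N74170 F360328) (tt N27517 (iv0 D95969)) (tt N74168 F360333) (tt N52646 (iv3 F288030)) (tt N87511 D190378) (tt N55000 (iv5 F251253)) (tt N87512 D190379) (tt N74169 (iv7 F360335)))
theorem Q52044 : ∀ i, i < 52044 → P i := stepQ 52043 Q52043 (allL N52043 (tt N27517 (iv1 D95970)) (tt N74170 (iv0 F360342)) (tt N74169 (iv2 F360337)) (tt N87513 D190380) (tt N69370 F364265) (tt N55001 (iv5 F360338)) (tt N69378 (iv6 F364267)) (tt N74168 F360336))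
theorem Q52045 : ∀ i, i < 52045 → P i := stepQ 52044 Q52044 (allL N52044 (tt N87514 D190381) (tt N70693 (iv0 F379674)) (tt N74167 (iv2 F364635)) (tt N70679 (iv3 F364632)) (tt N27517 (iv4 D95971)) (tt N87515 D190383) (tt N74166 F364634) (tt N87133 (iv7 F378483)))
theorem Q52046 : ∀ i, i < 52046 → P i := stepQ 52045 Q52045 (allL N52045 (tt N63381 F324607) (tt N27518 (iv0 D95973)) (tt N52513 (iv2 F365312)) (tt N52541 (iv3 F365306)) (tt N87516 D190384) (tt N42950 F324608) (tt N52496 F365308) (tt N74172 (iv7 F323200)))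
theorem Q52047 : ∀ i, i < 52047 → P i := stepQ 52046 Q52046 (allL N52046 (tt N27518 (iv1 D95974)) (tt N63381 F324609) (tt N74172 (iv2 F323198)) (tt N81557 (iv3 F331236)) (tt N87517 D190385) (tt N42949 F324610) (tt N81556 F331235) (tt N52513 (iv7 F365314)))
theorem Q52048 : ∀ i, i < 52048 → P i := stepQ 52047 Q52047 (allL N52047 (tt N52333 (iv1 F343053)) (tt N52329 F343051) (tt N49981 (iv2 F291968)) (tt N27519 (iv3 D95977)) (tt N72324 F348071) (tt N29436 F147605) (tt N72323 (iv6 F348070)) (tt N81640 (iv7 F343065)))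
theorem Q52049 : ∀ i, i < 52049 → P i := stepQ 52048 Q52048 (allL N52048 (tt N27565 F147608) (tt N27550 F147609) (tt N29462 F147606) (tt N32173 F348072) (tt N27519 (iv4 D95978)) (tt N29462 F147607) (tt N32172 F348073) (tt N83594 F348097))
theorem Q52050 : ∀ i, i < 52050 → P i := stepQ 52049 Q52049 (allL N52049 (tt N87518 D190386) (tt N87519 D190387) (tt N29458 F147610) (tt N72323 F340315) (tt N32172 F340316) (tt N29437 F147611) (tt N27519 (iv6 D95979)) (tt N55571 (iv7 F340340)))
theorem Q52051 : ∀ i, i < 52051 → P i := stepQ 52050 Q52050 (allL N52050 (tt N27527 (iv1 F147617)) (tt N27520 (iv0 D95982)) (tt N52118 (iv2 F147682)) (tt N86430 (iv3 F376191)) (tt N51780 F147616) (tt N52118 (iv5 F147684)) (tt N86406 (iv6 F376132)) (tt N52121 (iv7 F147690)))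
theorem Q52052 : ∀ i, i < 52052 → P i := stepQ 52051 Q52051 (allL N52051 (tt N27520 (iv1 D95983)) (tt N27527 F147618) (tt N52121 (iv2 F147688)) (tt N50712 (iv3 F363538)) (tt N50690 (iv4 F295130)) (tt N52121 (iv5 F147689)) (tt N50711 F363531) (tt N52118 (iv7 F147683)))
theorem Q52053 : ∀ i, i < 52053 → P i := stepQ 52052 Q52052 (allL N52052 (tt N69584 F333582) (tt N69591 (iv0 F364633)) (tt N69589 F333583) (tt N27520 (iv3 D95984)) (tt N70679 F333584) (tt N52085 (iv5 F147651)) (tt N33587 F333585) (tt N69588 (iv7 F364660)))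
theorem Q52054 : ∀ i, i < 52054 → P i := stepQ 52053 Q52053 (allL N52053 (tt N87520 D190388) (tt N87521 D190389) (tt N74045 F306967) (tt N33587 F306968) (tt N27521 F147620) (tt N33379 F306969) (tt N27520 (iv6 D95985)) (tt N40878 F306970))
theorem Q52055 : ∀ i, i < 52055 → P i := stepQ 52054 Q52054 (allL N52054 (tt N41163 F306958) (tt N27521 (iv0 D95986)) (tt N74043 F306959) (tt N87522 D190390) (tt N61109 F331567) (tt N57088 F306960) (tt N87482 (iv6 F379493)) (tt N74044 F306961))
theorem Q52056 : ∀ i, i < 52056 → P i := stepQ 52055 Q52055 (allL N52055 (tt N27521 (iv1 D95987)) (tt N41163 F306962) (tt N74044 F306963) (tt N52639 (iv3 F372120)) (tt N87523 D190391) (tt N57087 F306964) (tt N87524 D190392) (tt N74043 F306965))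
theorem Q52057 : ∀ i, i < 52057 → P i := stepQ 52056 Q52056 (allL N52056 (tt N74044 F306971) (tt N74043 F306972) (tt N41163 F306973) (tt N62655 F306974) (tt N40878 F306975) (tt N57215 F306976) (tt N87136 (iv6 F378498)) (tt N27521 (iv7 D95989)))
theorem Q52058 : ∀ i, i < 52058 → P i := stepQ 52057 Q52057 (allL N52057 (tt N27533 F177442) (tt N87137 F378506) (tt N86655 (iv2 F376682)) (tt N52626 (iv3 F150052)) (tt N87525 D190393) (tt N27523 (iv5 D95996)) (tt N87526 D190394) (tt N52535 F157290))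
theorem Q52059 : ∀ i, i < 52059 → P i := stepQ 52058 Q52058 (allL N52058 (tt N84560 (iv1 F369695)) (tt N52539 F353185) (tt N27526 F147634) (tt N84559 (iv3 F369690)) (tt N85764 (iv4 F373833)) (tt N81550 (iv5 F360315)) (tt N27524 (iv6 D95999)) (tt N74195 (iv7 F350459)))
theorem Q52060 : ∀ i, i < 52060 → P i := stepQ 52059 Q52059 (allL N52059 (tt N74182 F306982) (tt N47665 (iv0 F350479)) (tt N52060 F306984) (tt N87527 D190395) (tt N27525 (iv4 D96002)) (tt N47644 F294880) (tt N41168 F306985) (tt N33533 F306986))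
theorem Q52061 : ∀ i, i < 52061 → P i := stepQ 52060 Q52060 (allL N52060 (tt N49353 (iv1 F350527)) (tt N62661 F306988) (tt N52059 (iv2 F306984)) (tt N27528 F147635) (tt N41168 F306989) (tt N78661 (iv5 F360303)) (tt N27525 (iv6 D96003)) (tt N41164 F306990))
theorem Q52062 : ∀ i, i < 52062 → P i := stepQ 52061 Q52061 (allL N52061 (tt N74195 (iv1 F350462)) (tt N27526 (iv0 D96004)) (tt N84560 F369697) (tt N80126 F353187) (tt N51540 (iv4 F353198)) (tt N55167 (iv5 F353191)) (tt N86389 F376044) (tt N52539 F350463))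
theorem Q52063 : ∀ i, i < 52063 → P i := stepQ 52062 Q52062 (allL N52062 (tt N27526 (iv1 D96005)) (tt N74195 (iv0 F350458)) (tt N52539 (iv2 F350451)) (tt N52509 (iv3 F350449)) (tt N51541 (iv4 F350448)) (tt N55168 F350456) (tt N49940 F350450) (tt N84560 (iv7 F369696)))
theorem Q52064 : ∀ i, i < 52064 → P i := stepQ 52063 Q52063 (allL N52063 (tt N80138 F350447) (tt N81551 F360321) (tt N81550 (iv2 F360313)) (tt N27529 F147636) (tt N87528 D190396) (tt N27526 (iv5 D96006)) (tt N78661 F360307) (tt N55455 (iv7 F160341)))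
theorem Q52065 : ∀ i, i < 52065 → P i := stepQ 52064 Q52064 (allL N52064 (tt N78534 F369350) (tt N69590 F363792) (tt N87529 D190397) (tt N27527 (iv3 D96007)) (tt N87527 (iv4 F379660)) (tt N52076 (iv5 F147647)) (tt N87530 D190398) (tt N86656 (iv7 F376688)))
theorem Q52066 : ∀ i, i < 52066 → P i := stepQ 52065 Q52065 (allL N52065 (tt N70816 (iv1 F379683)) (tt N87531 D190400) (tt N87134 (iv2 F378486)) (tt N87530 (iv3 F379670)) (tt N27528 F147637) (tt N87532 D190401) (tt N27527 (iv6 D96008)) (tt N87533 D190402))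
theorem Q52067 : ∀ i, i < 52067 → P i := stepQ 52066 Q52066 (allL N52066 (tt N87136 (iv1 F378500)) (tt N27528 (iv0 D96009)) (tt N81630 (iv2 F364487)) (tt N52652 F369678) (tt N87534 D190403) (tt N79665 (iv5 F364244)) (tt N87535 D190404) (tt N87135 (iv7 F378491)))
theorem Q52068 : ∀ i, i < 52068 → P i := stepQ 52067 Q52067 (allL N52067 (tt N27528 (iv1 D96010)) (tt N87136 F378499) (tt N87135 (iv2 F378493)) (tt N78672 (iv3 F364485)) (tt N87536 D190405) (tt N74813 F364484) (tt N74814 (iv6 F364483)) (tt N81630 (iv7 F364486)))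
theorem Q52069 : ∀ i, i < 52069 → P i := stepQ 52068 Q52068 (allL N52068 (tt N80064 F364242) (tt N78665 F364243) (tt N55454 (iv2 F160338)) (tt N78661 (iv3 F360305)) (tt N87537 D190406) (tt N27528 (iv5 D96011)) (tt N27529 F147638) (tt N81606 (iv7 F346847)))
theorem Q52070 : ∀ i, i < 52070 → P i := stepQ 52069 Q52069 (allL N52069 (tt N87135 (iv1 F378490)) (tt N81630 F378495) (tt N87136 (iv2 F378496)) (tt N41164 F346850) (tt N87533 (iv4 F379681)) (tt N81606 F346848) (tt N41163 F346851) (tt N27528 (iv7 D96012)))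
theorem Q52071 : ∀ i, i < 52071 → P i := stepQ 52070 Q52070 (allL N52070 (tt N52279 (iv1 F148365)) (tt N52274 (iv0 F148347)) (tt N55453 (iv2 F160335)) (tt N80672 F366901) (tt N27529 (iv4 D96013)) (tt N49621 F361222) (tt N87537 (iv6 F379688)) (tt N55456 (iv7 F160342)))
theorem Q52072 : ∀ i, i < 52072 → P i := stepQ 52071 Q52071 (allL N52071 (tt N87132 F378480) (tt N52487 F157798) (tt N27530 (iv2 D96016)) (tt N87137 (iv3 F378501)) (tt N87538 D190407) (tt N55585 (iv5 F160705)) (tt N87539 D190408) (tt N87143 (iv7 F378524)))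
theorem Q52073 : ∀ i, i < 52073 → P i := stepQ 52072 Q52072 (allL N52072 (tt N87540 D190409) (tt N76420 (iv0 F363171)) (tt N87538 (iv2 F379689)) (tt N70775 F363789) (tt N27530 (iv4 D96017)) (tt N70697 (iv5 F365387)) (tt N87541 D190410) (tt N87144 (iv7 F378527)))
theorem Q52074 : ∀ i, i < 52074 → P i := stepQ 52073 Q52073 (allL N52073 (tt N74162 F360334) (tt N86906 F377662) (tt N87539 (iv2 F379694)) (tt N27532 F147639) (tt N87541 (iv4 F379703)) (tt N87542 D190411) (tt N27530 (iv6 D96018)) (tt N87543 D190412))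
theorem Q52075 : ∀ i, i < 52075 → P i := stepQ 52074 Q52074 (allL N52074 (tt N27534 (iv1 F147641)) (tt N27531 (iv0 D96019)) (tt N52107 (iv2 F147668)) (tt N87544 D190413) (tt N51778 F147640) (tt N52075 (iv5 F147644)) (tt N87545 D190414) (tt N51786 (iv7 F147642)))
theorem Q52076 : ∀ i, i < 52076 → P i := stepQ 52075 Q52075 (allL N52075 (tt N27531 (iv1 D96020)) (tt N27534 F147643) (tt N51786 (iv2 F147646)) (tt N87546 D190415) (tt N27753 F147645) (tt N52074 F147644) (tt N87503 F379587) (tt N52107 (iv7 F147669)))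
theorem Q52077 : ∀ i, i < 52077 → P i := stepQ 52076 Q52076 (allL N52076 (tt N87547 D190416) (tt N87548 D190417) (tt N87549 D190418) (tt N27531 (iv3 D96021)) (tt N70775 (iv4 F363790)) (tt N52064 F147647) (tt N87550 D190419) (tt N87145 (iv7 F378538)))
theorem Q52078 : ∀ i, i < 52078 → P i := stepQ 52077 Q52077 (allL N52077 (tt N87551 D190420) (tt N81653 (iv0 F363536)) (tt N87139 (iv2 F378511)) (tt N87550 (iv3 F379734)) (tt N27532 F147648) (tt N87552 D190421) (tt N27531 (iv6 D96022)) (tt N87553 D190422))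
theorem Q52079 : ∀ i, i < 52079 → P i := stepQ 52078 Q52078 (allL N52078 (tt N87142 (iv1 F378521)) (tt N27532 (iv0 D96023)) (tt N87140 (iv2 F402370)) (tt N87554 D190424) (tt N87555 D190425) (tt N87556 D190426) (tt N74041 F366864) (tt N87141 (iv7 F402374)))
theorem Q52080 : ∀ i, i < 52080 → P i := stepQ 52079 Q52079 (allL N52079 (tt N27532 (iv1 D96024)) (tt N87142 F378520) (tt N87141 (iv2 F402373)) (tt N52660 (iv3 F399895)) (tt N87557 D190429) (tt N87558 D190430) (tt N87559 D190431) (tt N87140 (iv7 F402372)))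
theorem Q52081 : ∀ i, i < 52081 → P i := stepQ 52080 Q52080 (allL N52080 (tt N87426 F379306) (tt N84552 (iv0 F379329)) (tt N84527 (iv2 F369621)) (tt N87542 (iv3 F379706)) (tt N87560 D190432) (tt N27532 (iv5 D96025)) (tt N29371 F290799) (tt N87561 D190433))
theorem Q52082 : ∀ i, i < 52082 → P i := stepQ 52081 Q52081 (allL N52081 (tt N87141 (iv1 F378516)) (tt N87140 F378519) (tt N87142 (iv2 F378517)) (tt N87543 (iv3 F379708)) (tt N87553 (iv4 F379746)) (tt N87561 (iv5 F379755)) (tt N87148 (iv6 F378549)) (tt N27532 (iv7 D96026)))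
theorem Q52083 : ∀ i, i < 52083 → P i := stepQ 52082 Q52082 (allL N52082 (tt N52535 F177450) (tt N86655 (iv0 F376684)) (tt N27533 (iv2 D96029)) (tt N87143 (iv3 F378522)) (tt N86869 (iv4 F377510)) (tt N55587 (iv5 F160712)) (tt N87562 D190434) (tt N87137 (iv7 F378504)))
theorem Q52084 : ∀ i, i < 52084 → P i := stepQ 52083 Q52083 (allL N52083 (tt N86870 (iv1 F377518)) (tt N47647 F365032) (tt N86869 F377511) (tt N59743 (iv3 F360343)) (tt N27533 (iv4 D96030)) (tt N49350 F360327) (tt N87563 D190435) (tt N86868 F377505))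
theorem Q52085 : ∀ i, i < 52085 → P i := stepQ 52084 Q52084 (allL N52084 (tt N81610 F350516) (tt N87564 D190436) (tt N87562 (iv2 F379756)) (tt N27535 F147650) (tt N87563 (iv4 F379758)) (tt N85270 (iv5 F372105)) (tt N27533 (iv6 D96031)) (tt N87565 D190437))
theorem Q52086 : ∀ i, i < 52086 → P i := stepQ 52085 Q52085 (allL N52085 (tt N86841 F377395) (tt N87566 D190438) (tt N87567 D190439) (tt N27534 (iv3 D96032)) (tt N59743 F360344) (tt N52052 F147651) (tt N58924 (iv6 F333590)) (tt N87138 (iv7 F378508)))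
theorem Q52087 : ∀ i, i < 52087 → P i := stepQ 52086 Q52086 (allL N52086 (tt N87568 D190440) (tt N87569 D190441) (tt N87146 (iv2 F378541)) (tt N58924 (iv3 F333588)) (tt N27535 F147652) (tt N62459 (iv5 F333591)) (tt N27534 (iv6 D96033)) (tt N87570 D190442))
theorem Q52088 : ∀ i, i < 52088 → P i := stepQ 52087 Q52087 (allL N52087 (tt N87148 (iv1 F378551)) (tt N27535 (iv0 D96034)) (tt N87147 F378544) (tt N52665 (iv3 F355503)) (tt N56646 (iv4 F355470)) (tt N75259 F355469) (tt N87571 D190443) (tt N56642 F355502))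
theorem Q52089 : ∀ i, i < 52089 → P i := stepQ 52088 Q52088 (allL N52088 (tt N27535 (iv1 D96035)) (tt N87148 F378550) (tt N56642 (iv2 F356825)) (tt N87572 D190444) (tt N56635 F356824) (tt N87573 D190445) (tt N56634 (iv6 F356826)) (tt N87147 (iv7 F378545)))
theorem Q52090 : ∀ i, i < 52090 → P i := stepQ 52089 Q52089 (allL N52089 (tt N56642 F372128) (tt N87147 F378546) (tt N87148 (iv2 F378547)) (tt N87565 (iv3 F379764)) (tt N87570 (iv4 F379779)) (tt N85273 (iv5 F372124)) (tt N87142 (iv6 F378518)) (tt N27535 (iv7 D96036)))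
theorem Q52091 : ∀ i, i < 52091 → P i := stepQ 52090 Q52090 (allL N52090 (tt N87574 D190446) (tt N87575 D190447) (tt N87576 D190448) (tt N27536 (iv3 D96037)) (tt N51521 F331359) (tt N52143 (iv5 F147765)) (tt N87577 D190449) (tt N69634 (iv7 F331358)))
theorem Q52092 : ∀ i, i < 52092 → P i := stepQ 52091 Q52091 (allL N52091 (tt N87555 F379751) (tt N87557 (iv0 F399896)) (tt N87150 (iv2 F378554)) (tt N87577 (iv3 F379794)) (tt N52133 (iv4 F147724)) (tt N87578 D190451) (tt N27536 (iv6 D96038)) (tt N87579 D190452))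
theorem Q52093 : ∀ i, i < 52093 → P i := stepQ 52092 Q52092 (allL N52092 (tt N87580 D190453) (tt N87581 D190454) (tt N87582 D190455) (tt N27537 (iv3 D96039)) (tt N87583 D190456) (tt N52123 (iv5 F147693)) (tt N79089 (iv6 F397522)) (tt N87149 (iv7 F378553)))
theorem Q52094 : ∀ i, i < 52094 → P i := stepQ 52093 Q52093 (allL N52093 (tt N56646 (iv1 F355247)) (tt N56635 F350223) (tt N56644 (iv2 F348075)) (tt N79089 (iv3 F397521)) (tt N52150 (iv4 F147782)) (tt N87584 D190458) (tt N27537 (iv6 D96040)) (tt N56645 (iv7 F348086)))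
theorem Q52095 : ∀ i, i < 52095 → P i := stepQ 52094 Q52094 (allL N52094 (tt N87585 D190459) (tt N27538 (iv0 D96041)) (tt N87586 D190460) (tt N87587 D190461) (tt N87588 D190462) (tt N60254 (iv5 F376735)) (tt N87589 D190463) (tt N56668 F376747))
theorem Q52096 : ∀ i, i < 52096 → P i := stepQ 52095 Q52095 (allL N52095 (tt N27538 (iv1 D96042)) (tt N87585 F379814) (tt N56668 F376744) (tt N87590 D190464) (tt N87591 D190465) (tt N60255 F376745) (tt N29998 F376746) (tt N87586 (iv7 F379817)))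
theorem Q52097 : ∀ i, i < 52097 → P i := stepQ 52096 Q52096 (allL N52096 (tt N87586 (iv1 F379818)) (tt N56668 F359040) (tt N27538 (iv2 D96043)) (tt N87153 (iv3 F378556)) (tt N52674 (iv4 F150122)) (tt N87592 D190466) (tt N56656 (iv6 F356945)) (tt N87585 (iv7 F379815)))
theorem Q52098 : ∀ i, i < 52098 → P i := stepQ 52097 Q52097 (allL N52097 (tt N87593 D190467) (tt N87594 D190468) (tt N87592 (iv2 F379831)) (tt N27539 F147653) (tt N87595 D190469) (tt N27538 (iv5 D96044)) (tt N86886 F377585) (tt N51776 (iv7 F147654)))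
theorem Q52099 : ∀ i, i < 52099 → P i := stepQ 52098 Q52098 (allL N52098 (tt N56668 (iv1 F359020)) (tt N87586 F379819) (tt N87585 F379813) (tt N27540 F147655) (tt N50678 (iv4 F294889)) (tt N51776 F147656) (tt N86679 (iv6 F395357)) (tt N27538 (iv7 D96045)))
theorem Q52100 : ∀ i, i < 52100 → P i := stepQ 52099 Q52099 (allL N52099 (tt N76472 F377090) (tt N87596 D190471) (tt N52100 (iv2 F147658)) (tt N86886 (iv3 F377586)) (tt N51777 F147657) (tt N87507 (iv5 F379605)) (tt N27539 (iv6 D96046)) (tt N87597 D190472))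
theorem Q52101 : ∀ i, i < 52101 → P i := stepQ 52100 Q52100 (allL N52100 (tt N87598 D190473) (tt N87599 D190474) (tt N52099 F147658) (tt N86679 (iv3 F395355)) (tt N27541 F147659) (tt N87600 D190475) (tt N27540 (iv6 D96047)) (tt N87508 (iv7 F379609)))
theorem Q52102 : ∀ i, i < 52102 → P i := stepQ 52101 Q52101 (allL N52101 (tt N87131 (iv1 F378476)) (tt N27541 (iv0 D96048)) (tt N87154 (iv2 F379218)) (tt N87601 D190476) (tt N86763 (iv4 F379219)) (tt N87602 D190477) (tt N86762 F379217) (tt N87155 (iv7 F379221)))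
theorem Q52103 : ∀ i, i < 52103 → P i := stepQ 52102 Q52102 (allL N52102 (tt N27541 (iv1 D96049)) (tt N87131 F378475) (tt N87155 F379222) (tt N87603 D190478) (tt N87604 D190479) (tt N87605 D190480) (tt N87606 D190481) (tt N87154 F379220))
theorem Q52104 : ∀ i, i < 52104 → P i := stepQ 52103 Q52103 (allL N52103 (tt N52393 F149506) (tt N27542 (iv0 D96051)) (tt N52395 (iv2 F270445)) (tt N51748 F147665) (tt N49559 F147664) (tt N87607 D190482) (tt N87230 F378823) (tt N52394 F270447))
theorem Q52105 : ∀ i, i < 52105 → P i := stepQ 52104 Q52104 (allL N52104 (tt N27542 (iv1 D96052)) (tt N52393 F149507) (tt N52394 F270444) (tt N52676 F157299) (tt N52760 (iv4 F151226)) (tt N87608 D190483) (tt N87316 F379044) (tt N52395 (iv7 F270443)))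
theorem Q52106 : ∀ i, i < 52106 → P i := stepQ 52105 Q52105 (allL N52105 (tt N52395 (iv1 F149510)) (tt N52394 F149509) (tt N27542 (iv2 D96053)) (tt N48526 F295307) (tt N49470 F147666) (tt N87609 D190484) (tt N52677 (iv6 F150145)) (tt N52393 F149505))
theorem Q52107 : ∀ i, i < 52107 → P i := stepQ 52106 Q52106 (allL N52106 (tt N87610 D190485) (tt N87611 D190486) (tt N87609 (iv2 F379870)) (tt N27543 F147667) (tt N87612 D190487) (tt N27542 (iv5 D96054)) (tt N87613 D190488) (tt N52396 (iv7 F149512)))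
theorem Q52108 : ∀ i, i < 52108 → P i := stepQ 52107 Q52107 (allL N52107 (tt N51772 F147671) (tt N51769 F147672) (tt N52074 F147668) (tt N87614 D190489) (tt N27543 (iv4 D96055)) (tt N51786 F147670) (tt N87615 D190490) (tt N52075 F147669))
theorem Q52109 : ∀ i, i < 52109 → P i := stepQ 52108 Q52108 (allL N52108 (tt N87616 D190491) (tt N87617 D190492) (tt N87156 (iv2 F378561)) (tt N87613 (iv3 F379882)) (tt N87615 (iv4 F379892)) (tt N52680 (iv5 F150156)) (tt N27543 (iv6 D96056)) (tt N87618 D190493))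
theorem Q52110 : ∀ i, i < 52110 → P i := stepQ 52109 Q52109 (allL N52109 (tt N83731 (iv1 F331399)) (tt N83737 F331400) (tt N27546 F147676) (tt N85463 F372712) (tt N51349 F331392) (tt N27545 (iv5 D96064)) (tt N60197 (iv6 F363582)) (tt N86568 (iv7 F376496)))
theorem Q52111 : ∀ i, i < 52111 → P i := stepQ 52110 Q52110 (allL N52110 (tt N52411 F367233) (tt N85621 F373237) (tt N27547 F147677) (tt N83218 (iv3 F357437)) (tt N79036 (iv4 F251954)) (tt N87619 D190494) (tt N27545 (iv6 D96065)) (tt N85622 (iv7 F373242)))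
theorem Q52112 : ∀ i, i < 52112 → P i := stepQ 52111 Q52111 (allL N52111 (tt N27546 (iv1 D96067)) (tt N86568 (iv0 F376497)) (tt N83737 (iv2 F331418)) (tt N87620 D190495) (tt N83732 F331416) (tt N55062 F251775) (tt N68155 (iv6 F365037)) (tt N83731 F365029))
theorem Q52113 : ∀ i, i < 52113 → P i := stepQ 52112 Q52112 (allL N52112 (tt N51256 F331381) (tt N51345 F331382) (tt N51349 F331383) (tt N84445 (iv3 F369301)) (tt N27546 (iv4 D96068)) (tt N45131 F331384) (tt N45133 F331385) (tt N51350 F331386))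
theorem Q52114 : ∀ i, i < 52114 → P i := stepQ 52113 Q52113 (allL N52113 (tt N32184 F340450) (tt N60198 F340451) (tt N60197 F340452) (tt N27551 F147678) (tt N45133 F340453) (tt N41104 F340454) (tt N27546 (iv6 D96069)) (tt N60196 F340455))
theorem Q52115 : ∀ i, i < 52115 → P i := stepQ 52114 Q52114 (allL N52114 (tt N85622 (iv1 F373243)) (tt N27547 (iv0 D96070)) (tt N52411 F360292) (tt N52687 F360290) (tt N50737 F360293) (tt N55274 (iv5 F360294)) (tt N50735 (iv6 F360291)) (tt N85621 (iv7 F373239)))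
theorem Q52116 : ∀ i, i < 52116 → P i := stepQ 52115 Q52115 (allL N52115 (tt N27547 (iv1 D96071)) (tt N85622 F373244) (tt N85621 F373236) (tt N87621 D190496) (tt N85377 (iv4 F372395)) (tt N55275 F370150) (tt N84561 F370000) (tt N52411 F360297))
theorem Q52117 : ∀ i, i < 52117 → P i := stepQ 52116 Q52116 (allL N52116 (tt N41181 F331281) (tt N85281 (iv0 F372164)) (tt N87619 (iv2 F379901)) (tt N27553 F147679) (tt N87622 D190497) (tt N27547 (iv5 D96072)) (tt N41104 F340463) (tt N85623 (iv7 F373248)))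
theorem Q52118 : ∀ i, i < 52118 → P i := stepQ 52117 Q52117 (allL N52117 (tt N87607 F379867) (tt N87608 (iv0 F379869)) (tt N87623 D190498) (tt N27548 (iv3 D96074)) (tt N87624 D190499) (tt N49169 F147681) (tt N87625 D190500) (tt N85706 (iv7 F373602)))
theorem Q52119 : ∀ i, i < 52119 → P i := stepQ 52118 Q52118 (allL N52118 (tt N51766 F147685) (tt N51395 F147686) (tt N52050 F147682) (tt N85741 (iv3 F373754)) (tt N27548 (iv4 D96075)) (tt N52050 F147684) (tt N61340 (iv6 F363518)) (tt N52051 F147683))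
theorem Q52120 : ∀ i, i < 52120 → P i := stepQ 52119 Q52119 (allL N52119 (tt N56630 (iv1 F363520)) (tt N56624 (iv0 F363519)) (tt N87158 (iv2 F378569)) (tt N87625 (iv3 F379923)) (tt N61340 F363517) (tt N49173 F147687) (tt N27548 (iv6 D96076)) (tt N86483 (iv7 F376356)))
theorem Q52121 : ∀ i, i < 52121 → P i := stepQ 52120 Q52120 (allL N52120 (tt N48528 F295180) (tt N52701 (iv0 F294711)) (tt N52703 F150255) (tt N27549 (iv3 D96077)) (tt N86644 (iv4 F376650)) (tt N49975 (iv5 F294075)) (tt N86643 F376648) (tt N52704 (iv7 F150254)))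
theorem Q52122 : ∀ i, i < 52122 → P i := stepQ 52121 Q52121 (allL N52121 (tt N51395 F147691) (tt N51766 F147692) (tt N52051 F147688) (tt N51268 F363534) (tt N27549 (iv4 D96078)) (tt N52051 F147689) (tt N51253 (iv6 F363533)) (tt N52050 F147690))
theorem Q52123 : ∀ i, i < 52123 → P i := stepQ 52122 Q52122 (allL N52122 (tt N86774 (iv1 F377133)) (tt N86773 F377129) (tt N85707 (iv2 F373603)) (tt N86643 (iv3 F376646)) (tt N51253 F363535) (tt N52482 (iv5 F149764)) (tt N27549 (iv6 D96079)) (tt N51252 (iv7 F363537)))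
theorem Q52124 : ∀ i, i < 52124 → P i := stepQ 52123 Q52123 (allL N52123 (tt N76329 F364664) (tt N76476 F364665) (tt N76475 (iv2 F375298)) (tt N27550 (iv3 D96080)) (tt N84445 (iv4 F369306)) (tt N52092 F147693) (tt N87626 D190501) (tt N76474 (iv7 F376264)))
theorem Q52125 : ∀ i, i < 52125 → P i := stepQ 52124 Q52124 (allL N52124 (tt N61109 F350240) (tt N87523 (iv0 F379652)) (tt N87160 (iv2 F378577)) (tt N87626 (iv3 F379925)) (tt N27551 F147694) (tt N74677 (iv5 F340513)) (tt N27550 (iv6 D96081)) (tt N87627 D190502))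
theorem Q52126 : ∀ i, i < 52126 → P i := stepQ 52125 Q52125 (allL N52125 (tt N87163 (iv1 F378595)) (tt N27551 (iv0 D96082)) (tt N87161 F378584) (tt N87628 D190503) (tt N73783 F363581) (tt N59131 (iv5 F363580)) (tt N68103 F355410) (tt N87162 (iv7 F378587)))
theorem Q52127 : ∀ i, i < 52127 → P i := stepQ 52126 Q52126 (allL N52126 (tt N27551 (iv1 D96083)) (tt N87163 F378594) (tt N87162 F378589) (tt N71587 (iv3 F340519)) (tt N73782 F340516) (tt N59134 (iv5 F340514)) (tt N87629 D190504) (tt N87161 F378585))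
theorem Q52128 : ∀ i, i < 52128 → P i := stepQ 52127 Q52127 (allL N52127 (tt N59097 F340459) (tt N59100 F340460) (tt N85626 (iv2 F373264)) (tt N41104 F340461) (tt N66559 F340462) (tt N27551 (iv5 D96084)) (tt N27553 F147695) (tt N87630 D190505))
theorem Q52129 : ∀ i, i < 52129 → P i := stepQ 52128 Q52128 (allL N52128 (tt N87162 (iv1 F378586)) (tt N87161 F378590) (tt N87163 (iv2 F378591)) (tt N60196 (iv3 F340456)) (tt N87627 (iv4 F379930)) (tt N87630 (iv5 F379943)) (tt N87167 (iv6 F378603)) (tt N27551 (iv7 D96085)))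
theorem Q52130 : ∀ i, i < 52130 → P i := stepQ 52129 Q52129 (allL N52129 (tt N27553 (iv1 D96087)) (tt N48914 F147697) (tt N29299 (iv2 F147700)) (tt N55082 (iv3 F158625)) (tt N55250 (iv4 F159238)) (tt N27596 F147699) (tt N87631 D190506) (tt N27595 F147698))
theorem Q52131 : ∀ i, i < 52131 → P i := stepQ 52130 Q52130 (allL N52130 (tt N29229 F147702) (tt N29296 F147703) (tt N29293 F147701) (tt N76978 F335345) (tt N27553 (iv4 D96088)) (tt N50651 (iv5 F345146)) (tt N66559 (iv6 F340512)) (tt N29292 F147709))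
theorem Q52132 : ∀ i, i < 52132 → P i := stepQ 52131 Q52131 (allL N52131 (tt N55062 (iv1 F158546)) (tt N55061 F158545) (tt N27555 (iv2 D96095)) (tt N82593 F367076) (tt N54887 (iv4 F293644)) (tt N68391 F331378) (tt N55385 (iv6 F367238)) (tt N55058 F158541))
theorem Q52133 : ∀ i, i < 52133 → P i := stepQ 52132 Q52132 (allL N52132 (tt N49332 F331364) (tt N51789 (iv0 F235286)) (tt N68391 F331361) (tt N27556 F147720) (tt N51343 (iv4 F331360)) (tt N27555 (iv5 D96096)) (tt N87632 D190507) (tt N55063 (iv7 F158548)))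
theorem Q52134 : ∀ i, i < 52134 → P i := stepQ 52133 Q52133 (allL N52133 (tt N87633 D190508) (tt N87634 D190509) (tt N83683 F367040) (tt N87632 (iv3 F379949)) (tt N52091 F147724) (tt N55387 (iv5 F367256)) (tt N27556 (iv6 D96098)) (tt N87635 D190510))
theorem Q52135 : ∀ i, i < 52135 → P i := stepQ 52134 Q52134 (allL N52134 (tt N27558 (iv1 D96103)) (tt N28161 F147740) (tt N48723 (iv2 F150062)) (tt N28184 (iv3 F150063)) (tt N81559 (iv4 F364445)) (tt N87636 D190511) (tt N48792 F157637) (tt N48683 (iv7 F157235)))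
theorem Q52136 : ∀ i, i < 52136 → P i := stepQ 52135 Q52135 (allL N52135 (tt N87637 D190512) (tt N87638 D190513) (tt N85411 (iv2 F372514)) (tt N27559 F147742) (tt N85470 (iv4 F372729)) (tt N27558 (iv5 D96105)) (tt N87639 D190514) (tt N48724 F147743))
theorem Q52137 : ∀ i, i < 52137 → P i := stepQ 52136 Q52136 (allL N52136 (tt N81486 (iv1 F331232)) (tt N81481 F331226) (tt N80135 F331220) (tt N27560 F147744) (tt N27564 F147745) (tt N55371 (iv5 F159834)) (tt N27558 (iv6 D96106)) (tt N80140 (iv7 F331231)))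
theorem Q52138 : ∀ i, i < 52138 → P i := stepQ 52137 Q52137 (allL N52137 (tt N51453 F147748) (tt N49096 F147749) (tt N48729 F147746) (tt N87640 D190515) (tt N27559 (iv4 D96107)) (tt N82638 (iv5 F283442)) (tt N87641 D190516) (tt N48727 F147747))
theorem Q52139 : ∀ i, i < 52139 → P i := stepQ 52138 Q52138 (allL N52138 (tt N87642 D190517) (tt N87643 D190518) (tt N48730 F147750) (tt N87639 (iv3 F379971)) (tt N87641 (iv4 F379974)) (tt N55373 (iv5 F159841)) (tt N27559 (iv6 D96108)) (tt N87644 D190519))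
theorem Q52140 : ∀ i, i < 52140 → P i := stepQ 52139 Q52139 (allL N52139 (tt N52691 F356250) (tt N85459 (iv0 F372693)) (tt N27563 F147760) (tt N86568 (iv3 F376493)) (tt N49368 F329423) (tt N27562 (iv5 D96111)) (tt N27964 F329424) (tt N85463 (iv7 F372710)))
theorem Q52141 : ∀ i, i < 52141 → P i := stepQ 52140 Q52140 (allL N52140 (tt N47606 F326732) (tt N47609 F326733) (tt N27564 F147761) (tt N84569 (iv3 F369720)) (tt N80135 F331218) (tt N27962 F326734) (tt N27562 (iv6 D96112)) (tt N80130 (iv7 F357438)))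
theorem Q52142 : ∀ i, i < 52142 → P i := stepQ 52141 Q52141 (allL N52141 (tt N85463 (iv1 F372709)) (tt N27563 (iv0 D96113)) (tt N52691 (iv2 F150179)) (tt N87645 D190520) (tt N49858 F343054) (tt N82594 F356265) (tt N87646 D190521) (tt N85459 (iv7 F372692)))
theorem Q52143 : ∀ i, i < 52143 → P i := stepQ 52142 Q52142 (allL N52142 (tt N80130 F356186) (tt N27564 (iv0 D96117)) (tt N47606 (iv2 F325908)) (tt N31871 F324881) (tt N54505 F157049) (tt N31865 F324882) (tt N83225 (iv6 F340535)) (tt N47609 (iv7 F325907)))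
theorem Q52144 : ∀ i, i < 52144 → P i := stepQ 52143 Q52143 (allL N52143 (tt N87647 D190522) (tt N76469 (iv0 F375299)) (tt N87648 D190523) (tt N27565 (iv3 D96119)) (tt N83724 F365424) (tt N52090 F147765) (tt N83723 (iv6 F365440)) (tt N87159 (iv7 F378575)))
theorem Q52145 : ∀ i, i < 52145 → P i := stepQ 52144 Q52144 (allL N52144 (tt N87534 (iv1 F379684)) (tt N87536 (iv0 F379687)) (tt N87164 (iv2 F378596)) (tt N83723 F365441) (tt N27566 F147766) (tt N87649 D190524) (tt N27565 (iv6 D96120)) (tt N87650 D190525))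
theorem Q52146 : ∀ i, i < 52146 → P i := stepQ 52145 Q52145 (allL N52145 (tt N87167 (iv1 F378612)) (tt N27566 (iv0 D96121)) (tt N87165 (iv2 F378609)) (tt N87651 D190526) (tt N87652 D190527) (tt N78526 F378610) (tt N87653 D190528) (tt N87166 F378611))
theorem Q52147 : ∀ i, i < 52147 → P i := stepQ 52146 Q52146 (allL N52146 (tt N27566 (iv1 D96122)) (tt N87167 F378605) (tt N87166 F378600) (tt N87654 D190529) (tt N87655 D190530) (tt N78363 (iv5 F363845)) (tt N64010 F363846) (tt N87165 (iv7 F378606)))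
theorem Q52148 : ∀ i, i < 52148 → P i := stepQ 52147 Q52147 (allL N52147 (tt N87166 (iv1 F378598)) (tt N87165 F378604) (tt N87167 (iv2 F378601)) (tt N44691 F328694) (tt N87650 (iv4 F379993)) (tt N44690 F328695) (tt N87163 (iv6 F378593)) (tt N27566 (iv7 D96124)))
theorem Q52149 : ∀ i, i < 52149 → P i := stepQ 52148 Q52148 (allL N52148 (tt N49967 F147770) (tt N52702 F150260) (tt N52707 F150257) (tt N27567 (iv3 D96125)) (tt N49680 F147768) (tt N52281 (iv5 F148367)) (tt N52699 (iv6 F150188)) (tt N49672 F147769))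
theorem Q52150 : ∀ i, i < 52150 → P i := stepQ 52149 Q52149 (allL N52149 (tt N51847 F147780) (tt N51142 (iv0 F294514)) (tt N68390 (iv2 F356253)) (tt N27570 F147779) (tt N87656 D190531) (tt N27569 (iv5 D96130)) (tt N68389 F356252) (tt N83682 F367039))
theorem Q52151 : ∀ i, i < 52151 → P i := stepQ 52150 Q52150 (allL N52150 (tt N69446 F355169) (tt N69443 (iv0 F355472)) (tt N55069 (iv2 F158562)) (tt N68389 (iv3 F356254)) (tt N52093 F147782) (tt N54932 (iv5 F158316)) (tt N27570 (iv6 D96131)) (tt N87657 D190532))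
theorem Q52152 : ∀ i, i < 52152 → P i := stepQ 52151 Q52151 (allL N52151 (tt N69801 F365869) (tt N86292 (iv0 F375720)) (tt N70968 F361759) (tt N27571 (iv3 D96139)) (tt N85032 (iv4 F371427)) (tt N28328 F147796) (tt N70967 (iv6 F361758)) (tt N52167 (iv7 F147837)))
theorem Q52153 : ∀ i, i < 52153 → P i := stepQ 52152 Q52152 (allL N52152 (tt N28104 F147799) (tt N28098 F147800) (tt N28898 F147797) (tt N87658 D190533) (tt N27571 (iv4 D96140)) (tt N28898 F147798) (tt N71841 F365316) (tt N52168 (iv7 F147840)))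
theorem Q52154 : ∀ i, i < 52154 → P i := stepQ 52153 Q52153 (allL N52153 (tt N28098 F147806) (tt N28104 F147807) (tt N52168 (iv2 F147838)) (tt N87659 D190534) (tt N27572 (iv4 D96143)) (tt N52168 (iv5 F147839)) (tt N87660 D190535) (tt N28898 F147805))
theorem Q52155 : ∀ i, i < 52155 → P i := stepQ 52154 Q52154 (allL N52154 (tt N54262 F156325) (tt N87661 D190536) (tt N49722 F147808) (tt N68238 F352612) (tt N87660 (iv4 F380020)) (tt N49418 F147809) (tt N27572 (iv6 D96144)) (tt N70959 (iv7 F352613)))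
theorem Q52156 : ∀ i, i < 52156 → P i := stepQ 52155 Q52155 (allL N52155 (tt N49535 (iv1 F147812)) (tt N27573 (iv0 D96145)) (tt N29037 (iv2 F147813)) (tt N37684 F327931) (tt N28357 F147811) (tt N29037 F147810) (tt N87662 D190537) (tt N37679 F327932))
theorem Q52157 : ∀ i, i < 52157 → P i := stepQ 52156 Q52156 (allL N52156 (tt N27573 (iv1 D96146)) (tt N49535 F147814) (tt N37679 F327927) (tt N37683 F327929) (tt N29038 F147816) (tt N37679 F327930) (tt N37677 F327928) (tt N29037 F147815))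
theorem Q52158 : ∀ i, i < 52158 → P i := stepQ 52157 Q52157 (allL N52157 (tt N87663 D190538) (tt N87664 D190539) (tt N82807 (iv2 F364843)) (tt N27573 (iv3 D96147)) (tt N48672 F295376) (tt N84023 (iv5 F367839)) (tt N82806 F364842) (tt N52169 (iv7 F147849)))
theorem Q52159 : ∀ i, i < 52159 → P i := stepQ 52158 Q52158 (allL N52158 (tt N67279 (iv1 F345239)) (tt N67273 F345230) (tt N53042 (iv2 F152084)) (tt N82806 (iv3 F364840)) (tt N27574 F147818) (tt N55593 (iv5 F345227)) (tt N27573 (iv6 D96148)) (tt N67278 (iv7 F332746)))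
theorem Q52160 : ∀ i, i < 52160 → P i := stepQ 52159 Q52159 (allL N52159 (tt N53045 (iv1 F152090)) (tt N27574 (iv0 D96149)) (tt N53043 (iv2 F380042)) (tt N87665 D190541) (tt N78419 (iv4 F345231)) (tt N87666 D190542) (tt N87667 D190543) (tt N53044 F380040))
theorem Q52161 : ∀ i, i < 52161 → P i := stepQ 52160 Q52160 (allL N52160 (tt N27574 (iv1 D96150)) (tt N53045 F152089) (tt N53044 (iv2 F380041)) (tt N87668 D190544) (tt N78412 (iv4 F345233)) (tt N87669 D190545) (tt N87670 D190546) (tt N53043 (iv7 F380043)))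
theorem Q52162 : ∀ i, i < 52162 → P i := stepQ 52161 Q52161 (allL N52161 (tt N87671 D190547) (tt N87672 D190548) (tt N28678 F147819) (tt N29324 F294745) (tt N48333 F345214) (tt N27574 (iv5 D96151)) (tt N27577 F147821) (tt N82513 F345215))
theorem Q52163 : ∀ i, i < 52163 → P i := stepQ 52162 Q52162 (allL N52162 (tt N53044 (iv1 F152086)) (tt N53043 F152088) (tt N53045 (iv2 F152087)) (tt N48675 F295377) (tt N67278 F332745) (tt N82513 (iv5 F345223)) (tt N52174 (iv6 F147854)) (tt N27574 (iv7 D96152)))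
theorem Q52164 : ∀ i, i < 52164 → P i := stepQ 52163 Q52163 (allL N52163 (tt N87673 D190549) (tt N86293 F375724) (tt N83223 F363550) (tt N27575 (iv3 D96153)) (tt N52432 (iv4 F149607)) (tt N50474 (iv5 F293917)) (tt N49286 F147823) (tt N53046 (iv7 F152093)))
theorem Q52165 : ∀ i, i < 52165 → P i := stepQ 52164 Q52164 (allL N52164 (tt N49582 (iv1 F343883)) (tt N86243 (iv0 F375546)) (tt N71135 F344182) (tt N27576 (iv3 D96154)) (tt N54935 (iv4 F294029)) (tt N50476 (iv5 F293909)) (tt N53173 (iv6 F152606)) (tt N49747 F147824))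
theorem Q52166 : ∀ i, i < 52166 → P i := stepQ 52165 Q52165 (allL N52165 (tt N28230 F147827) (tt N28543 F147828) (tt N28541 F147825) (tt N48336 F345207) (tt N27577 (iv4 D96155)) (tt N50328 (iv5 F362674)) (tt N48333 F345208) (tt N28540 F147826))
theorem Q52167 : ∀ i, i < 52167 → P i := stepQ 52166 Q52166 (allL N52166 (tt N28601 F289943) (tt N87674 D190550) (tt N83573 F294443) (tt N27578 (iv3 D96156)) (tt N49975 F294444) (tt N52167 (iv5 F147836)) (tt N28873 F147829) (tt N28328 F147830))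
theorem Q52168 : ∀ i, i < 52168 → P i := stepQ 52167 Q52167 (allL N52167 (tt N80681 (iv1 F361765)) (tt N80684 (iv0 F357560)) (tt N87675 D190551) (tt N27579 (iv3 D96159)) (tt N87676 D190552) (tt N52166 F147836) (tt N84253 (iv6 F368702)) (tt N52151 F147837))
theorem Q52169 : ∀ i, i < 52169 → P i := stepQ 52168 Q52168 (allL N52168 (tt N49516 F147841) (tt N49522 F147842) (tt N52153 F147838) (tt N87677 D190553) (tt N27579 (iv4 D96160)) (tt N52153 F147839) (tt N84262 (iv6 F368728)) (tt N52152 F147840))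
theorem Q52170 : ∀ i, i < 52170 → P i := stepQ 52169 Q52169 (allL N52169 (tt N87678 D190554) (tt N87679 D190555) (tt N87680 D190556) (tt N27580 (iv3 D96162)) (tt N51598 F147848) (tt N53027 (iv5 F152021)) (tt N87681 D190557) (tt N52157 F147849))
theorem Q52171 : ∀ i, i < 52171 → P i := stepQ 52170 Q52170 (allL N52170 (tt N87682 D190558) (tt N87683 D190559) (tt N84027 (iv2 F367854)) (tt N87681 (iv3 F380135)) (tt N27581 F147850) (tt N87684 D190560) (tt N27580 (iv6 D96163)) (tt N87685 D190561))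
theorem Q52172 : ∀ i, i < 52172 → P i := stepQ 52171 Q52171 (allL N52171 (tt N84030 (iv1 F367869)) (tt N27581 (iv0 D96164)) (tt N84028 (iv2 F367867)) (tt N85990 (iv3 F374930)) (tt N87686 D190562) (tt N87687 D190563) (tt N85989 F374928) (tt N84029 F367868))
theorem Q52173 : ∀ i, i < 52173 → P i := stepQ 52172 Q52172 (allL N52172 (tt N27581 (iv1 D96165)) (tt N84030 F367865) (tt N84029 (iv2 F367860)) (tt N87688 D190564) (tt N87689 D190565) (tt N81385 (iv5 F274868)) (tt N84090 F368065) (tt N84028 (iv7 F367866)))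
theorem Q52174 : ∀ i, i < 52174 → P i := stepQ 52173 Q52173 (allL N52173 (tt N87690 D190566) (tt N87691 D190567) (tt N54595 (iv2 F157127)) (tt N51602 F147851) (tt N87692 D190568) (tt N27581 (iv5 D96166)) (tt N27582 F147852) (tt N87693 D190569))
theorem Q52175 : ∀ i, i < 52175 → P i := stepQ 52174 Q52174 (allL N52174 (tt N84029 (iv1 F367858)) (tt N84028 F367864) (tt N84030 (iv2 F367861)) (tt N51603 F147853) (tt N87685 (iv4 F380142)) (tt N87693 (iv5 F380152)) (tt N52162 F147854) (tt N27581 (iv7 D96167)))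
theorem Q52176 : ∀ i, i < 52176 → P i := stepQ 52175 Q52175 (allL N52175 (tt N50049 (iv1 F290883)) (tt N50039 (iv0 F290885)) (tt N54594 (iv2 F157124)) (tt N87694 D190570) (tt N27582 (iv4 D96168)) (tt N50044 (iv5 F347709)) (tt N87692 (iv6 F380150)) (tt N54596 (iv7 F157129)))
theorem Q52177 : ∀ i, i < 52177 → P i := stepQ 52176 Q52176 (allL N52176 (tt N65092 F199176) (tt N46649 F147883) (tt N48488 F296374) (tt N87695 D190571) (tt N27583 (iv4 D96180)) (tt N87696 D190572) (tt N27632 F147882) (tt N48484 (iv7 F297515)))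
theorem Q52178 : ∀ i, i < 52178 → P i := stepQ 52177 Q52177 (allL N52177 (tt N47721 F333721) (tt N47111 F333722) (tt N47691 F147884) (tt N77774 (iv3 F312334)) (tt N68549 (iv4 F307275)) (tt N77772 (iv5 F351493)) (tt N27584 (iv6 D96181)) (tt N47720 F333731))
theorem Q52179 : ∀ i, i < 52179 → P i := stepQ 52178 Q52178 (allL N52178 (tt N64451 F197233) (tt N47672 (iv0 F147887)) (tt N64622 F197922) (tt N27585 (iv3 D96182)) (tt N64587 (iv4 F197747)) (tt N35116 F147885) (tt N87697 D190573) (tt N47689 F147886))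
theorem Q52180 : ∀ i, i < 52180 → P i := stepQ 52179 Q52179 (allL N52179 (tt N35297 F319572) (tt N87698 D190574) (tt N47688 F147888) (tt N87697 (iv3 F380164)) (tt N80629 (iv4 F270055)) (tt N87699 D190575) (tt N27585 (iv6 D96183)) (tt N87700 D190576))
theorem Q52181 : ∀ i, i < 52181 → P i := stepQ 52180 Q52180 (allL N52180 (tt N35008 F147892) (tt N46588 F147893) (tt N27587 F147889) (tt N29584 F147890) (tt N62900 F309681) (tt N27586 (iv5 D96184)) (tt N45192 F309682) (tt N46606 F147891))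
theorem Q52182 : ∀ i, i < 52182 → P i := stepQ 52181 Q52181 (allL N52181 (tt N46606 (iv1 F147901)) (tt N27587 (iv0 D96186)) (tt N35008 (iv2 F147904)) (tt N34081 F147900) (tt N35005 F147903) (tt N27732 F147902) (tt N87701 D190577) (tt N46588 (iv7 F147905)))
theorem Q52183 : ∀ i, i < 52183 → P i := stepQ 52182 Q52182 (allL N52182 (tt N27587 (iv1 D96187)) (tt N46606 F147906) (tt N46588 (iv2 F147910)) (tt N64453 (iv3 F197240)) (tt N34890 F147909) (tt N27733 F147908) (tt N87702 D190578) (tt N35008 F147907))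
theorem Q52184 : ∀ i, i < 52184 → P i := stepQ 52183 Q52183 (allL N52183 (tt N48753 F147940) (tt N27608 F147941) (tt N48755 F147937) (tt N42531 F147938) (tt N66877 (iv4 F205971)) (tt N27589 (iv5 D96200)) (tt N66743 F354563) (tt N42584 F147939))
theorem Q52185 : ∀ i, i < 52185 → P i := stepQ 52184 Q52184 (allL N52184 (tt N51660 F289590) (tt N27654 F289591) (tt N48904 F147942) (tt N55107 (iv3 F158891)) (tt N28573 F147943) (tt N87703 D190579) (tt N27589 (iv6 D96201)) (tt N51659 F289592))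
theorem Q52186 : ∀ i, i < 52186 → P i := stepQ 52185 Q52185 (allL N52185 (tt N27608 F147948) (tt N48753 F147949) (tt N42584 F147944) (tt N48755 F147945) (tt N43145 F298368) (tt N27590 (iv5 D96202)) (tt N31081 F323312) (tt N48755 F147946))
theorem Q52187 : ∀ i, i < 52187 → P i := stepQ 52186 Q52186 (allL N52186 (tt N27617 F289639) (tt N49167 F289640) (tt N48903 F147950) (tt N48904 F147951) (tt N49008 F147952) (tt N31082 F329647) (tt N27590 (iv6 D96203)) (tt N49166 F289641))
theorem Q52188 : ∀ i, i < 52188 → P i := stepQ 52187 Q52187 (allL N52187 (tt N55055 F158522) (tt N55054 F158520) (tt N27592 F147953) (tt N27639 F147954) (tt N28389 F147955) (tt N34121 F329977) (tt N27591 (iv6 D96204)) (tt N55056 (iv7 F158526)))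
theorem Q52189 : ∀ i, i < 52189 → P i := stepQ 52188 Q52188 (allL N52188 (tt N55056 (iv1 F158527)) (tt N27592 (iv0 D96205)) (tt N55055 F158923) (tt N55114 (iv3 F158920)) (tt N85381 (iv4 F372418)) (tt N44088 F329975) (tt N85457 (iv6 F372686)) (tt N55054 F158921))
theorem Q52190 : ∀ i, i < 52190 → P i := stepQ 52189 Q52189 (allL N52189 (tt N27592 (iv1 D96206)) (tt N55056 F158528) (tt N55054 (iv2 F158922)) (tt N48910 (iv3 F158455)) (tt N80612 (iv4 F268828)) (tt N44089 F329976) (tt N87704 D190580) (tt N55055 (iv7 F158924)))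
theorem Q52191 : ∀ i, i < 52191 → P i := stepQ 52190 Q52190 (allL N52190 (tt N54579 (iv1 F352900)) (tt N54582 (iv0 F346620)) (tt N51706 F147964) (tt N27595 F147965) (tt N28968 F352889) (tt N27594 (iv5 D96210)) (tt N28967 F352890) (tt N55082 (iv7 F158626)))
theorem Q52192 : ∀ i, i < 52192 → P i := stepQ 52191 Q52191 (allL N52191 (tt N55135 (iv1 F158981)) (tt N43582 F325007) (tt N48915 F147966) (tt N87705 D190581) (tt N27595 (iv4 D96211)) (tt N48890 F294999) (tt N87200 (iv6 F378738)) (tt N55250 (iv7 F159240)))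
theorem Q52193 : ∀ i, i < 52193 → P i := stepQ 52192 Q52192 (allL N52192 (tt N55114 F176036) (tt N55116 F176037) (tt N51628 F147978) (tt N27599 F147979) (tt N51628 F147980) (tt N87706 D190582) (tt N27598 (iv6 D96216)) (tt N85280 (iv7 F372156)))
theorem Q52194 : ∀ i, i < 52194 → P i := stepQ 52193 Q52193 (allL N52193 (tt N85623 (iv1 F373249)) (tt N87619 (iv0 F379906)) (tt N41181 F331282) (tt N87706 (iv3 F380204)) (tt N87707 D190583) (tt N27599 (iv5 D96219)) (tt N79971 (iv6 F259118)) (tt N85281 (iv7 F372163)))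
theorem Q52195 : ∀ i, i < 52195 → P i := stepQ 52194 Q52194 (allL N52194 (tt N87708 D190584) (tt N61116 (iv0 F353143)) (tt N27604 F147989) (tt N51708 F147990) (tt N46113 F147991) (tt N87709 D190585) (tt N27600 (iv6 D96221)) (tt N87710 D190586))
theorem Q52196 : ∀ i, i < 52196 → P i := stepQ 52195 Q52195 (allL N52195 (tt N55425 (iv1 F160246)) (tt N55424 F160244) (tt N27607 F147992) (tt N51709 F147993) (tt N87711 D190587) (tt N27601 (iv5 D96222)) (tt N87709 (iv6 F380219)) (tt N55423 (iv7 F160241)))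
theorem Q52197 : ∀ i, i < 52197 → P i := stepQ 52196 Q52196 (allL N52196 (tt N69499 F350602) (tt N79985 (iv0 F259263)) (tt N46056 F147994) (tt N45037 F147995) (tt N32584 F147996) (tt N87712 D190588) (tt N27602 (iv6 D96223)) (tt N87713 D190589))
theorem Q52198 : ∀ i, i < 52198 → P i := stepQ 52197 Q52197 (allL N52197 (tt N42531 F148001) (tt N42531 F148002) (tt N42002 F147997) (tt N27603 (iv3 D96224)) (tt N41993 F147998) (tt N27756 F147999) (tt N87714 D190590) (tt N42002 F148000))
theorem Q52199 : ∀ i, i < 52199 → P i := stepQ 52198 Q52198 (allL N52198 (tt N76035 F335184) (tt N76038 F336925) (tt N45037 F148003) (tt N87714 (iv3 F380239)) (tt N32648 F148004) (tt N71824 (iv5 F365070)) (tt N27603 (iv6 D96225)) (tt N87715 D190591))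
theorem Q52200 : ∀ i, i < 52200 → P i := stepQ 52199 Q52199 (allL N52199 (tt N87710 (iv1 F380225)) (tt N27604 (iv0 D96226)) (tt N87708 F380214) (tt N51633 F353129) (tt N46044 (iv4 F259054)) (tt N87716 D190592) (tt N46043 F259053) (tt N61116 (iv7 F353128)))
theorem Q52201 : ∀ i, i < 52201 → P i := stepQ 52200 Q52200 (allL N52200 (tt N27604 (iv1 D96227)) (tt N87710 F380224) (tt N61116 (iv2 F359246)) (tt N66738 (iv3 F353322)) (tt N61115 F359244) (tt N87717 D190593) (tt N71829 F359245) (tt N87708 (iv7 F380215)))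
theorem Q52202 : ∀ i, i < 52202 → P i := stepQ 52201 Q52201 (allL N52201 (tt N87718 D190594) (tt N87719 D190595) (tt N87709 (iv2 F380217)) (tt N27615 F148005) (tt N87720 D190596) (tt N27604 (iv5 D96228)) (tt N27607 F148006) (tt N87721 D190597))
theorem Q52203 : ∀ i, i < 52203 → P i := stepQ 52202 Q52202 (allL N52202 (tt N61116 (iv1 F353145)) (tt N87708 F380216) (tt N87710 (iv2 F380220)) (tt N27616 F148007) (tt N76031 (iv4 F235974)) (tt N87721 (iv5 F380256)) (tt N51636 F148008) (tt N27604 (iv7 D96229)))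
theorem Q52204 : ∀ i, i < 52204 → P i := stepQ 52203 Q52203 (allL N52203 (tt N87722 D190598) (tt N84563 F369703) (tt N55421 F160277) (tt N51637 F148010) (tt N87723 D190599) (tt N27605 (iv5 D96231)) (tt N87724 D190600) (tt N55419 F160273))
theorem Q52205 : ∀ i, i < 52205 → P i := stepQ 52204 Q52204 (allL N52204 (tt N55506 F161613) (tt N29418 F161614) (tt N55422 (iv2 F160278)) (tt N51638 F148011) (tt N55770 F161612) (tt N79022 (iv5 F251884)) (tt N27605 (iv6 D96232)) (tt N55505 (iv7 F161690)))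
theorem Q52206 : ∀ i, i < 52206 → P i := stepQ 52205 Q52205 (allL N52205 (tt N55107 (iv1 F289624)) (tt N55522 (iv0 F160506)) (tt N51639 F148014) (tt N27606 (iv3 D96234)) (tt N51639 F148015) (tt N48279 F348569) (tt N83730 (iv6 F367234)) (tt N55420 (iv7 F160256)))
theorem Q52207 : ∀ i, i < 52207 → P i := stepQ 52206 Q52206 (allL N52206 (tt N84563 (iv1 F369702)) (tt N87722 F380259) (tt N55419 F160274) (tt N48279 F348575) (tt N87725 D190601) (tt N27606 (iv5 D96235)) (tt N87726 D190602) (tt N55421 (iv7 F160276)))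
theorem Q52208 : ∀ i, i < 52208 → P i := stepQ 52207 Q52207 (allL N52207 (tt N55423 (iv1 F160243)) (tt N27607 (iv0 D96237)) (tt N55425 F369990) (tt N51641 (iv3 F369986)) (tt N87727 D190603) (tt N84643 (iv5 F369979)) (tt N87728 D190604) (tt N55424 F369988))
theorem Q52209 : ∀ i, i < 52209 → P i := stepQ 52208 Q52208 (allL N52208 (tt N27607 (iv1 D96238)) (tt N55423 F160242) (tt N55424 (iv2 F369989)) (tt N87729 D190605) (tt N87730 D190606) (tt N84644 (iv5 F369992)) (tt N87731 D190607) (tt N55425 (iv7 F369991)))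
theorem Q52210 : ∀ i, i < 52210 → P i := stepQ 52209 Q52209 (allL N52209 (tt N82561 F353197) (tt N87732 D190608) (tt N87711 (iv2 F380226)) (tt N67344 F362289) (tt N27607 (iv4 D96239)) (tt N67343 (iv5 F362290)) (tt N87720 (iv6 F380252)) (tt N55426 (iv7 F160247)))
theorem Q52211 : ∀ i, i < 52211 → P i := stepQ 52210 Q52210 (allL N52210 (tt N48755 (iv1 F148020)) (tt N42584 F148019) (tt N27608 (iv2 D96240)) (tt N27642 F148016) (tt N52555 (iv4 F149938)) (tt N27751 F148017) (tt N87733 D190609) (tt N48753 F148018))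
theorem Q52212 : ∀ i, i < 52212 → P i := stepQ 52211 Q52211 (allL N52211 (tt N87734 D190610) (tt N87735 D190611) (tt N87733 (iv2 F380280)) (tt N27609 F148021) (tt N82144 (iv4 F351335)) (tt N87736 D190612) (tt N27608 (iv6 D96241)) (tt N87737 D190613))
theorem Q52213 : ∀ i, i < 52213 → P i := stepQ 52212 Q52212 (allL N52212 (tt N51650 (iv1 F148027)) (tt N27609 (iv0 D96242)) (tt N51647 (iv2 F352645)) (tt N49709 F352639) (tt N27744 F352640) (tt N87738 D190614) (tt N49708 F339719) (tt N51648 (iv7 F352642)))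
theorem Q52214 : ∀ i, i < 52214 → P i := stepQ 52213 Q52213 (allL N52213 (tt N27609 (iv1 D96243)) (tt N51650 F148022) (tt N51648 (iv2 F352648)) (tt N79985 F334522) (tt N27745 F334523) (tt N87739 D190615) (tt N66679 F352649) (tt N51647 F352650))
theorem Q52215 : ∀ i, i < 52215 → P i := stepQ 52214 Q52214 (allL N52214 (tt N87740 D190616) (tt N87741 D190617) (tt N51649 F148023) (tt N87736 (iv3 F380285)) (tt N87503 (iv4 F379589)) (tt N27609 (iv5 D96244)) (tt N27753 F148024) (tt N87742 D190618))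
theorem Q52216 : ∀ i, i < 52216 → P i := stepQ 52215 Q52215 (allL N52215 (tt N51648 (iv1 F148028)) (tt N51647 F148029) (tt N51650 F148025) (tt N87737 (iv3 F380288)) (tt N43676 F308124) (tt N87742 (iv5 F380314)) (tt N48763 F148026) (tt N27609 (iv7 D96245)))
theorem Q52217 : ∀ i, i < 52217 → P i := stepQ 52216 Q52216 (allL N52216 (tt N48763 (iv1 F148035)) (tt N27610 (iv0 D96246)) (tt N46612 F350617) (tt N76035 F350618) (tt N27853 F350619) (tt N87743 D190619) (tt N66731 (iv6 F350621)) (tt N46616 F350620))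
theorem Q52218 : ∀ i, i < 52218 → P i := stepQ 52217 Q52217 (allL N52217 (tt N27610 (iv1 D96247)) (tt N48763 F148030) (tt N46616 F336836) (tt N87744 D190620) (tt N27854 F335826) (tt N87745 D190621) (tt N87746 D190622) (tt N46612 F336837))
theorem Q52219 : ∀ i, i < 52219 → P i := stepQ 52218 Q52218 (allL N52218 (tt N66675 F361097) (tt N87747 D190623) (tt N48762 F148031) (tt N84045 (iv3 F367904)) (tt N56689 (iv4 F332567)) (tt N27610 (iv5 D96248)) (tt N27754 F148032) (tt N87748 D190624))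
theorem Q52220 : ∀ i, i < 52220 → P i := stepQ 52219 Q52219 (allL N52219 (tt N46616 F332550) (tt N46612 F332551) (tt N48763 F148033) (tt N84046 (iv3 F367906)) (tt N52591 (iv4 F334461)) (tt N87748 (iv5 F380348)) (tt N51650 F148034) (tt N27610 (iv7 D96249)))
theorem Q52221 : ∀ i, i < 52221 → P i := stepQ 52220 Q52220 (allL N52220 (tt N87749 D190625) (tt N62603 F309966) (tt N63388 (iv2 F187250)) (tt N27612 F148045) (tt N29579 F148046) (tt N62387 (iv5 F333291)) (tt N27611 (iv6 D96251)) (tt N45191 F309967))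
theorem Q52222 : ∀ i, i < 52222 → P i := stepQ 52221 Q52221 (allL N52221 (tt N87746 F380338) (tt N87750 D190626) (tt N51722 (iv2 F364155)) (tt N58627 F344000) (tt N75326 (iv4 F343998)) (tt N51868 F148057) (tt N27613 (iv6 D96260)) (tt N87751 D190627))
theorem Q52223 : ∀ i, i < 52223 → P i := stepQ 52222 Q52222 (allL N52222 (tt N27644 F321660) (tt N58643 F320044) (tt N31892 F320045) (tt N27614 (iv3 D96262)) (tt N87752 D190628) (tt N31891 F320046) (tt N87753 D190629) (tt N51719 (iv7 F349487)))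
theorem Q52224 : ∀ i, i < 52224 → P i := stepQ 52223 Q52223 (allL N52223 (tt N58625 F337321) (tt N58624 F337322) (tt N31880 F337323) (tt N31891 F337324) (tt N58556 F337325) (tt N27614 (iv5 D96264)) (tt N80933 (iv6 F337335)) (tt N51721 (iv7 F337334)))
theorem Q52225 : ∀ i, i < 52225 → P i := stepQ 52224 Q52224 (allL N52224 (tt N66725 (iv1 F360233)) (tt N49708 (iv0 F360234)) (tt N51724 F337327) (tt N87753 (iv3 F380377)) (tt N74998 F360232) (tt N87754 D190630) (tt N27614 (iv6 D96265)) (tt N75226 (iv7 F360230)))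
theorem Q52226 : ∀ i, i < 52226 → P i := stepQ 52225 Q52225 (allL N52225 (tt N27615 (iv1 D96267)) (tt N51727 F148059) (tt N31077 F340722) (tt N31088 F340723) (tt N51730 F340724) (tt N52465 (iv5 F149722)) (tt N51729 F361122) (tt N51725 F340725))
theorem Q52227 : ∀ i, i < 52227 → P i := stepQ 52226 Q52226 (allL N52226 (tt N84567 F369714) (tt N55159 (iv0 F340378)) (tt N51726 F148060) (tt N65618 (iv3 F363492)) (tt N27615 (iv4 D96268)) (tt N87755 D190631) (tt N27623 F148061) (tt N84566 (iv7 F369710)))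
theorem Q52228 : ∀ i, i < 52228 → P i := stepQ 52227 Q52227 (allL N52227 (tt N31077 (iv1 F340706)) (tt N51725 F148066) (tt N51727 F148062) (tt N87721 (iv3 F380255)) (tt N84566 F369711) (tt N27616 F148063) (tt N55432 (iv6 F160252)) (tt N27615 (iv7 D96269)))
theorem Q52229 : ∀ i, i < 52229 → P i := stepQ 52228 Q52228 (allL N52228 (tt N49167 (iv1 F148067)) (tt N27617 (iv0 D96270)) (tt N49166 F157113) (tt N55522 (iv3 F160507)) (tt N85477 (iv4 F372756)) (tt N58891 F340581) (tt N51659 (iv6 F289685)) (tt N48903 F289684))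
theorem Q52230 : ∀ i, i < 52230 → P i := stepQ 52229 Q52229 (allL N52229 (tt N49166 (iv1 F148074)) (tt N48903 F289682) (tt N27617 (iv2 D96272)) (tt N27645 F148070) (tt N48836 F148071) (tt N47611 F325912) (tt N83529 (iv6 F287733)) (tt N49167 F148072))
theorem Q52231 : ∀ i, i < 52231 → P i := stepQ 52230 Q52230 (allL N52230 (tt N87756 D190632) (tt N87757 D190633) (tt N47611 F340578) (tt N27618 F148075) (tt N44229 F340579) (tt N27617 (iv5 D96273)) (tt N71196 F340580) (tt N49168 F148076))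
theorem Q52232 : ∀ i, i < 52232 → P i := stepQ 52231 Q52231 (allL N52231 (tt N29403 F148080) (tt N29406 F148081) (tt N51728 F148077) (tt N71196 (iv3 F340608)) (tt N27618 (iv4 D96274)) (tt N51840 F148079) (tt N27618 F328306) (tt N49172 F148078))
theorem Q52233 : ∀ i, i < 52233 → P i := stepQ 52232 Q52232 (allL N52232 (tt N27619 (iv1 D96276)) (tt N27645 F148087) (tt N27647 F148085) (tt N51632 (iv3 F148084)) (tt N53433 (iv4 F153673)) (tt N46249 F325911) (tt N29430 F148086) (tt N27641 F148083))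
theorem Q52234 : ∀ i, i < 52234 → P i := stepQ 52233 Q52233 (allL N52233 (tt N27641 (iv1 F148092)) (tt N27647 F148091) (tt N27619 (iv2 D96277)) (tt N49167 F148088) (tt N28326 F148089) (tt N46777 F325910) (tt N49974 (iv6 F356260)) (tt N27645 F148090))
theorem Q52235 : ∀ i, i < 52235 → P i := stepQ 52234 Q52234 (allL N52234 (tt N29406 F148098) (tt N29403 F148099) (tt N49172 F148095) (tt N47233 F327395) (tt N27620 (iv4 D96279)) (tt N51837 F148096) (tt N87758 D190634) (tt N51728 F148097))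
theorem Q52236 : ∀ i, i < 52236 → P i := stepQ 52235 Q52235 (allL N52235 (tt N55577 F356903) (tt N55573 F363529) (tt N49173 F148100) (tt N47610 F327396) (tt N87758 (iv4 F380398)) (tt N87158 (iv5 F378572)) (tt N27620 (iv6 D96280)) (tt N87758 (iv7 F380400)))
theorem Q52237 : ∀ i, i < 52237 → P i := stepQ 52236 Q52236 (allL N52236 (tt N29396 F148105) (tt N29137 F148106) (tt N51729 F148102) (tt N31079 F328288) (tt N27621 (iv4 D96282)) (tt N51834 F148104) (tt N31077 F328289) (tt N51732 F148103))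
theorem Q52238 : ∀ i, i < 52238 → P i := stepQ 52237 Q52237 (allL N52237 (tt N87759 D190635) (tt N87760 D190636) (tt N87761 D190637) (tt N27623 (iv3 D96287)) (tt N67344 (iv4 F362288)) (tt N84576 (iv5 F369747)) (tt N65618 F363493) (tt N55428 (iv7 F160250)))
theorem Q52239 : ∀ i, i < 52239 → P i := stepQ 52238 Q52238 (allL N52238 (tt N87762 D190638) (tt N87704 (iv0 F381189)) (tt N87763 D190640) (tt N27626 (iv3 D96292)) (tt N27663 F148138) (tt N52436 F367252) (tt N27627 F148139) (tt N51662 (iv7 F291123)))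
theorem Q52240 : ∀ i, i < 52240 → P i := stepQ 52239 Q52239 (allL N52239 (tt N82592 (iv1 F283168)) (tt N27627 (iv0 D96294)) (tt N82591 F370109) (tt N84665 (iv3 F370108)) (tt N87764 D190641) (tt N87765 D190642) (tt N48909 F370110) (tt N82590 F370111))
theorem Q52241 : ∀ i, i < 52241 → P i := stepQ 52240 Q52240 (allL N52240 (tt N27627 (iv1 D96295)) (tt N82592 F283170) (tt N82590 (iv2 F370112)) (tt N85705 (iv3 F373600)) (tt N84704 (iv4 F370278)) (tt N87766 D190643) (tt N83528 F370114) (tt N82591 (iv7 F370113)))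
theorem Q52242 : ∀ i, i < 52242 → P i := stepQ 52241 Q52241 (allL N52241 (tt N82591 (iv1 F283169)) (tt N82590 F283164) (tt N27627 (iv2 D96296)) (tt N82594 (iv3 F283178)) (tt N27675 F148140) (tt N87645 (iv5 F379984)) (tt N87763 (iv6 F380417)) (tt N82592 (iv7 F283167)))
theorem Q52243 : ∀ i, i < 52243 → P i := stepQ 52242 Q52242 (allL N52242 (tt N82944 (iv1 F381638)) (tt N82945 F366984) (tt N87645 (iv2 F379983)) (tt N27628 F148141) (tt N70698 (iv4 F365384)) (tt N27627 (iv5 D96297)) (tt N87767 D190645) (tt N52689 (iv7 F294506)))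
theorem Q52244 : ∀ i, i < 52244 → P i := stepQ 52243 Q52243 (allL N52243 (tt N27873 F293819) (tt N27880 F293820) (tt N52692 F293821) (tt N87768 D190646) (tt N27628 (iv4 D96298)) (tt N45490 F148142) (tt N87769 D190647) (tt N52352 (iv7 F148942)))
theorem Q52245 : ∀ i, i < 52245 → P i := stepQ 52244 Q52244 (allL N52244 (tt N87770 D190648) (tt N87771 D190649) (tt N52693 (iv2 F292823)) (tt N87767 (iv3 F380439)) (tt N87769 (iv4 F380443)) (tt N52437 F367205) (tt N27628 (iv6 D96299)) (tt N87772 D190650))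
theorem Q52246 : ∀ i, i < 52246 → P i := stepQ 52245 Q52245 (allL N52245 (tt N38335 F305689) (tt N64623 (iv0 F197927)) (tt N68411 (iv2 F306809)) (tt N27629 (iv3 D96300)) (tt N43421 F305690) (tt N76621 (iv5 F239568)) (tt N78307 F305691) (tt N47700 F148145))
theorem Q52247 : ∀ i, i < 52247 → P i := stepQ 52246 Q52246 (allL N52246 (tt N29781 F298481) (tt N29803 F298482) (tt N29801 (iv2 F301069)) (tt N78307 F361527) (tt N63387 (iv4 F301140)) (tt N87773 D190651) (tt N27629 (iv6 D96301)) (tt N29800 F298483))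
theorem Q52248 : ∀ i, i < 52248 → P i := stepQ 52247 Q52247 (allL N52247 (tt N40602 F341095) (tt N47729 F341096) (tt N47703 F148154) (tt N40593 F318155) (tt N63633 (iv4 F304092)) (tt N62573 F318156) (tt N27630 (iv6 D96303)) (tt N47728 F310189))
theorem Q52249 : ∀ i, i < 52249 → P i := stepQ 52248 Q52248 (allL N52248 (tt N87774 D190652) (tt N87775 D190653) (tt N87776 D190654) (tt N27632 (iv3 D96334)) (tt N45463 F148259) (tt N61593 (iv5 F364801)) (tt N87695 (iv6 F380156)) (tt N51613 F148260))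
theorem Q52250 : ∀ i, i < 52250 → P i := stepQ 52249 Q52249 (allL N52249 (tt N82399 F280703) (tt N87777 D190655) (tt N87778 D190656) (tt N27633 (iv3 D96335)) (tt N64151 (iv4 F193370)) (tt N80428 (iv5 F267356)) (tt N74660 (iv6 F366015)) (tt N51611 F148261))
theorem Q52251 : ∀ i, i < 52251 → P i := stepQ 52250 Q52250 (allL N52250 (tt N27635 (iv1 D96340)) (tt N31963 (iv0 F323937)) (tt N31955 F323926) (tt N50710 (iv3 F255023)) (tt N65704 F323927) (tt N31197 F323928) (tt N79709 F296058) (tt N31962 (iv7 F323936)))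
theorem Q52252 : ∀ i, i < 52252 → P i := stepQ 52251 Q52251 (allL N52251 (tt N80157 F360457) (tt N87779 D190657) (tt N87780 D190658) (tt N27636 (iv3 D96342)) (tt N46705 F148280) (tt N48647 F148281) (tt N58304 (iv6 F364795)) (tt N44620 F148282))
theorem Q52253 : ∀ i, i < 52253 → P i := stepQ 52252 Q52252 (allL N52252 (tt N80052 (iv1 F260957)) (tt N27637 (iv0 D96344)) (tt N80051 (iv2 F416734)) (tt N87781 D190660) (tt N87782 D190661) (tt N69286 (iv5 F341944)) (tt N80223 F341945) (tt N80050 (iv7 F416733)))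
theorem Q52254 : ∀ i, i < 52254 → P i := stepQ 52253 Q52253 (allL N52253 (tt N27637 (iv1 D96345)) (tt N80052 F260959) (tt N80050 (iv2 F416730)) (tt N87783 D190663) (tt N87784 D190664) (tt N69285 (iv5 F338378)) (tt N87785 D190665) (tt N80051 (iv7 F416736)))
theorem Q52255 : ∀ i, i < 52255 → P i := stepQ 52254 Q52254 (allL N52254 (tt N80051 (iv1 F260958)) (tt N80050 F260953) (tt N27637 (iv2 D96346)) (tt N51621 F148285) (tt N64266 (iv4 F194394)) (tt N87786 D190666) (tt N80098 (iv6 F366945)) (tt N80052 (iv7 F260956)))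
theorem Q52256 : ∀ i, i < 52256 → P i := stepQ 52255 Q52255 (allL N52255 (tt N87787 D190667) (tt N87788 D190668) (tt N87786 (iv2 F380489)) (tt N27638 F148286) (tt N68986 (iv4 F338374)) (tt N27637 (iv5 D96347)) (tt N60587 (iv6 F338381)) (tt N51695 F148287))
theorem Q52257 : ∀ i, i < 52257 → P i := stepQ 52256 Q52256 (allL N52256 (tt N60640 F329351) (tt N66051 F329352) (tt N51623 F148288) (tt N60587 F329353) (tt N39185 F329354) (tt N59431 F329355) (tt N27638 (iv6 D96348)) (tt N39715 F329356))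
theorem Q52258 : ∀ i, i < 52258 → P i := stepQ 52257 Q52257 (allL N52257 (tt N28589 (iv1 F148293)) (tt N27639 (iv0 D96349)) (tt N28586 (iv2 F148290)) (tt N29301 F148291) (tt N53182 (iv4 F152888)) (tt N86238 (iv5 F375517)) (tt N49976 F294893) (tt N28587 F148292))
theorem Q52259 : ∀ i, i < 52259 → P i := stepQ 52258 Q52258 (allL N52258 (tt N28608 F329984) (tt N85625 (iv0 F373261)) (tt N28588 F148294) (tt N34121 F329985) (tt N76199 F329986) (tt N27639 (iv5 D96350)) (tt N87260 (iv6 F378927)) (tt N87789 D190669))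
theorem Q52260 : ∀ i, i < 52260 → P i := stepQ 52259 Q52259 (allL N52259 (tt N28587 (iv1 F148298)) (tt N28586 F148299) (tt N28589 F148295) (tt N55056 (iv3 F158523)) (tt N28583 F148296) (tt N87789 (iv5 F380508)) (tt N51707 F148297) (tt N27639 (iv7 D96351)))
theorem Q52261 : ∀ i, i < 52261 → P i := stepQ 52260 Q52260 (allL N52260 (tt N51719 (iv1 F349483)) (tt N31892 F320049) (tt N27644 F148305) (tt N51630 F148306) (tt N49643 (iv4 F319204)) (tt N31086 F320050) (tt N27640 (iv6 D96353)) (tt N58643 F320051))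
theorem Q52262 : ∀ i, i < 52262 → P i := stepQ 52261 Q52261 (allL N52261 (tt N47269 F148312) (tt N34972 F148313) (tt N51645 F148309) (tt N46970 (iv3 F148314)) (tt N27642 (iv4 D96355)) (tt N34954 F148310) (tt N69941 (iv6 F377959)) (tt N51710 F148311))
theorem Q52263 : ∀ i, i < 52263 → P i := stepQ 52262 Q52262 (allL N52262 (tt N87790 D190670) (tt N87744 (iv0 F380331)) (tt N51646 F148315) (tt N87733 (iv3 F380281)) (tt N69941 (iv4 F377957)) (tt N87791 D190671) (tt N27642 (iv6 D96356)) (tt N87792 D190672))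
theorem Q52264 : ∀ i, i < 52264 → P i := stepQ 52263 Q52263 (allL N52263 (tt N55084 (iv1 F158637)) (tt N55091 F158645) (tt N28865 F148322) (tt N83529 (iv3 F287731)) (tt N28863 F148323) (tt N87245 (iv5 F378864)) (tt N27645 (iv6 D96363)) (tt N55089 (iv7 F158636)))
theorem Q52265 : ∀ i, i < 52265 → P i := stepQ 52264 Q52264 (allL N52264 (tt N51714 F366430) (tt N51708 (iv0 F347766)) (tt N51712 F348022) (tt N27648 (iv3 D96368)) (tt N62742 F320024) (tt N87793 D190673) (tt N87794 D190674) (tt N51654 (iv7 F318897)))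
theorem Q52266 : ∀ i, i < 52266 → P i := stepQ 52265 Q52265 (allL N52265 (tt N66640 F320026) (tt N58641 F320027) (tt N51652 (iv2 F318888)) (tt N87793 (iv3 F380523)) (tt N41980 F320028) (tt N27648 (iv5 D96370)) (tt N45469 F336507) (tt N51655 (iv7 F318902)))
theorem Q52267 : ∀ i, i < 52267 → P i := stepQ 52266 Q52266 (allL N52266 (tt N66679 F320029) (tt N66681 F320030) (tt N51653 (iv2 F318894)) (tt N87794 (iv3 F380530)) (tt N41959 F320031) (tt N51822 F148328) (tt N27648 (iv6 D96371)) (tt N66713 F320032))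
theorem Q52268 : ∀ i, i < 52268 → P i := stepQ 52267 Q52267 (allL N52267 (tt N66743 F320033) (tt N58646 F320034) (tt N87795 D190675) (tt N27649 (iv3 D96373)) (tt N62600 F320035) (tt N58632 F320036) (tt N87796 D190676) (tt N51651 (iv7 F318884)))
theorem Q52269 : ∀ i, i < 52269 → P i := stepQ 52268 Q52268 (allL N52268 (tt N58641 F320038) (tt N66640 F320039) (tt N51655 (iv2 F318900)) (tt N58632 F320040) (tt N41981 F320041) (tt N27649 (iv5 D96375)) (tt N81793 (iv6 F336521)) (tt N51652 (iv7 F318891)))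
theorem Q52270 : ∀ i, i < 52270 → P i := stepQ 52269 Q52269 (allL N52269 (tt N66729 (iv1 F361891)) (tt N66731 (iv0 F365227)) (tt N51656 (iv2 F318903)) (tt N87796 (iv3 F380540)) (tt N41957 F320042) (tt N87797 D190677) (tt N27649 (iv6 D96376)) (tt N78188 (iv7 F366428)))
theorem Q52271 : ∀ i, i < 52271 → P i := stepQ 52270 Q52270 (allL N52270 (tt N51658 (iv1 F148335)) (tt N27650 (iv0 D96377)) (tt N44585 F320056) (tt N87798 D190678) (tt N42071 F320057) (tt N36294 F320058) (tt N81562 (iv6 F348603)) (tt N51657 (iv7 F318908)))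
theorem Q52272 : ∀ i, i < 52272 → P i := stepQ 52271 Q52271 (allL N52271 (tt N27650 (iv1 D96378)) (tt N51658 F148330) (tt N51657 (iv2 F318906)) (tt N59707 F320059) (tt N42072 F320060) (tt N36295 F320061) (tt N81170 F362492) (tt N44585 F320062))
theorem Q52273 : ∀ i, i < 52273 → P i := stepQ 52272 Q52272 (allL N52272 (tt N52708 F150262) (tt N87799 D190679) (tt N51715 F148338) (tt N27652 F148339) (tt N87800 D190680) (tt N27651 (iv5 D96381)) (tt N87801 D190681) (tt N51665 F148340))
theorem Q52274 : ∀ i, i < 52274 → P i := stepQ 52273 Q52273 (allL N52273 (tt N29308 F148344) (tt N55509 F160421) (tt N51716 F148341) (tt N27653 F148342) (tt N28936 F148343) (tt N52438 (iv5 F149618)) (tt N27651 (iv6 D96382)) (tt N55098 (iv7 F158652)))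
theorem Q52275 : ∀ i, i < 52275 → P i := stepQ 52274 Q52274 (allL N52274 (tt N52070 F148347) (tt N55543 (iv0 F160618)) (tt N51663 F148345) (tt N87802 D190682) (tt N27652 (iv4 D96383)) (tt N36577 F344673) (tt N43533 F344674) (tt N51666 F148346))
theorem Q52276 : ∀ i, i < 52276 → P i := stepQ 52275 Q52275 (allL N52275 (tt N79474 F358723) (tt N79476 F358724) (tt N51664 F148348) (tt N87801 (iv3 F380563)) (tt N43533 F358725) (tt N52439 (iv5 F149622)) (tt N27652 (iv6 D96384)) (tt N79473 F358795))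
theorem Q52277 : ∀ i, i < 52277 → P i := stepQ 52276 Q52276 (allL N52276 (tt N27654 (iv1 D96386)) (tt N51660 F148355) (tt N51659 F156208) (tt N49166 F157114) (tt N87803 D190683) (tt N59821 F354565) (tt N49166 F289686) (tt N48904 F289642))
theorem Q52278 : ∀ i, i < 52278 → P i := stepQ 52277 Q52277 (allL N52277 (tt N48904 F289638) (tt N51659 F148354) (tt N27654 (iv2 D96387)) (tt N29429 F148351) (tt N28392 (iv4 F148358)) (tt N87804 D190684) (tt N82592 F367147) (tt N51660 F148353))
theorem Q52279 : ∀ i, i < 52279 → P i := stepQ 52278 Q52278 (allL N52278 (tt N87805 D190685) (tt N87806 D190686) (tt N87804 (iv2 F380577)) (tt N27655 F148359) (tt N87807 D190687) (tt N27654 (iv5 D96388)) (tt N87808 D190688) (tt N51661 F148360))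
theorem Q52280 : ∀ i, i < 52280 → P i := stepQ 52279 Q52279 (allL N52279 (tt N55543 (iv1 F160619)) (tt N52070 F148365) (tt N51666 F148363) (tt N65137 F341259) (tt N27655 (iv4 D96390)) (tt N82840 F353920) (tt N87809 D190689) (tt N51663 F148364))
theorem Q52281 : ∀ i, i < 52281 → P i := stepQ 52280 Q52280 (allL N52280 (tt N87810 D190690) (tt N66673 (iv0 F363611)) (tt N51667 F148366) (tt N87808 (iv3 F380597)) (tt N87809 (iv4 F380601)) (tt N52690 (iv5 F150176)) (tt N27655 (iv6 D96391)) (tt N87811 D190691))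
theorem Q52282 : ∀ i, i < 52282 → P i := stepQ 52281 Q52281 (allL N52281 (tt N29431 F148373) (tt N51709 F160472) (tt N51717 F148369) (tt N27656 (iv3 D96392)) (tt N81966 F359243) (tt N52148 F148367) (tt N87812 D190692) (tt N51671 F148368))
theorem Q52283 : ∀ i, i < 52283 → P i := stepQ 52282 Q52282 (allL N52282 (tt N55175 (iv1 F159128)) (tt N29128 F148372) (tt N51669 F148370) (tt N87813 D190693) (tt N27656 (iv4 D96393)) (tt N84471 (iv5 F369430)) (tt N60089 (iv6 F344701)) (tt N51672 F148371))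
theorem Q52284 : ∀ i, i < 52284 → P i := stepQ 52283 Q52283 (allL N52283 (tt N87814 D190694) (tt N59810 (iv0 F344704)) (tt N51670 F148374) (tt N87812 (iv3 F380620)) (tt N60089 F344702) (tt N55066 (iv5 F158560)) (tt N27656 (iv6 D96394)) (tt N87815 D190695))
theorem Q52285 : ∀ i, i < 52285 → P i := stepQ 52284 Q52284 (allL N52284 (tt N87703 F380196) (tt N59821 (iv0 F366492)) (tt N87816 D190696) (tt N27657 (iv3 D96395)) (tt N87817 D190697) (tt N51828 F148375) (tt N87818 D190698) (tt N51668 F148376))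
theorem Q52286 : ∀ i, i < 52286 → P i := stepQ 52285 Q52285 (allL N52285 (tt N29128 F148379) (tt N55175 F159127) (tt N51672 F148377) (tt N45952 F330287) (tt N27657 (iv4 D96396)) (tt N84473 (iv5 F369437)) (tt N45950 F330288) (tt N51669 F148378))
theorem Q52287 : ∀ i, i < 52287 → P i := stepQ 52286 Q52286 (allL N52286 (tt N34653 F344651) (tt N45800 F344652) (tt N45798 (iv2 F344655)) (tt N87818 (iv3 F380646)) (tt N45950 F344653) (tt N51830 F148381) (tt N27657 (iv6 D96397)) (tt N45799 F344654))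
theorem Q52288 : ∀ i, i < 52288 → P i := stepQ 52287 Q52287 (allL N52287 (tt N81031 F357673) (tt N81029 (iv0 F354477)) (tt N51673 F148399) (tt N46250 F325885) (tt N46254 F325886) (tt N29433 F148400) (tt N27658 (iv6 D96403)) (tt N66685 (iv7 F358392)))
theorem Q52289 : ∀ i, i < 52289 → P i := stepQ 52288 Q52288 (allL N52288 (tt N87819 D190699) (tt N59680 (iv0 F340306)) (tt N29446 F148409) (tt N81553 (iv3 F340302)) (tt N75411 F340301) (tt N49982 (iv5 F291969)) (tt N27660 (iv6 D96407)) (tt N87820 D190700))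
theorem Q52290 : ∀ i, i < 52290 → P i := stepQ 52289 Q52289 (allL N52289 (tt N87821 D190701) (tt N87822 D190702) (tt N54798 F291574) (tt N27662 (iv3 D96415)) (tt N29203 (iv4 F291777)) (tt N84470 (iv5 F369426)) (tt N29197 F291575) (tt N51679 F148427))
theorem Q52291 : ∀ i, i < 52291 → P i := stepQ 52290 Q52290 (allL N52290 (tt N54729 F293549) (tt N27663 (iv0 D96417)) (tt N28994 F293550) (tt N54726 F293551) (tt N55499 F293552) (tt N62740 (iv5 F346302)) (tt N49183 F293553) (tt N54730 F293554))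
theorem Q52292 : ∀ i, i < 52292 → P i := stepQ 52291 Q52291 (allL N52291 (tt N28994 F293556) (tt N54730 F293557) (tt N27663 (iv2 D96419)) (tt N51682 F148431) (tt N87763 (iv4 F380416)) (tt N78691 (iv5 F347307)) (tt N27675 F148432) (tt N54729 F293558))
theorem Q52293 : ∀ i, i < 52293 → P i := stepQ 52292 Q52292 (allL N52292 (tt N82953 (iv1 F360634)) (tt N49446 F360635) (tt N78691 (iv2 F347305)) (tt N27664 F148433) (tt N87823 D190703) (tt N27663 (iv5 D96420)) (tt N75125 F360626) (tt N82839 F360607))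
theorem Q52294 : ∀ i, i < 52294 → P i := stepQ 52293 Q52293 (allL N52293 (tt N49637 (iv1 F293376)) (tt N49614 (iv0 F293373)) (tt N46253 (iv2 F324809)) (tt N82017 F323555) (tt N27664 (iv4 D96424)) (tt N46252 F323556) (tt N87824 D190704) (tt N49634 (iv7 F292808)))
theorem Q52295 : ∀ i, i < 52295 → P i := stepQ 52294 Q52294 (allL N52294 (tt N87825 D190705) (tt N47584 F339692) (tt N51684 F148446) (tt N75125 (iv3 F339705)) (tt N87824 (iv4 F380683)) (tt N27678 F148447) (tt N27664 (iv6 D96425)) (tt N78692 (iv7 F360617)))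
theorem Q52296 : ∀ i, i < 52296 → P i := stepQ 52295 Q52295 (allL N52295 (tt N87826 D190706) (tt N67461 (iv0 F358299)) (tt N87827 D190707) (tt N27665 (iv3 D96427)) (tt N46704 F148453) (tt N48672 F148454) (tt N87828 D190708) (tt N46539 F148455))
theorem Q52297 : ∀ i, i < 52297 → P i := stepQ 52296 Q52296 (allL N52296 (tt N58894 F324455) (tt N80152 F347422) (tt N29466 F148456) (tt N87828 (iv3 F380719)) (tt N27666 F148457) (tt N87829 D190709) (tt N27665 (iv6 D96428)) (tt N35792 F324456))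
theorem Q52298 : ∀ i, i < 52298 → P i := stepQ 52297 Q52297 (allL N52297 (tt N28458 F294401) (tt N27667 (iv0 D96441)) (tt N48629 F294434) (tt N54867 (iv3 F158202)) (tt N87036 (iv4 F378133)) (tt N53036 F294402) (tt N54721 F294403) (tt N28302 F294404))
theorem Q52299 : ∀ i, i < 52299 → P i := stepQ 52298 Q52298 (allL N52298 (tt N27667 (iv1 D96442)) (tt N28458 F294405) (tt N28302 F294406) (tt N87830 D190710) (tt N72008 (iv4 F350430)) (tt N53035 F294407) (tt N28279 F294408) (tt N48629 F294432))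
theorem Q52300 : ∀ i, i < 52300 → P i := stepQ 52299 Q52299 (allL N52299 (tt N72053 (iv1 F356329)) (tt N72049 (iv0 F357346)) (tt N53047 F294413) (tt N27668 F148507) (tt N87831 D190711) (tt N27667 (iv5 D96444)) (tt N87832 D190712) (tt N48630 F148508))
theorem Q52301 : ∀ i, i < 52301 → P i := stepQ 52300 Q52300 (allL N52300 (tt N69863 (iv1 F361739)) (tt N69858 (iv0 F336398)) (tt N29471 F148511) (tt N87832 (iv3 F380746)) (tt N44636 F148512) (tt N83499 F294414) (tt N27668 (iv6 D96446)) (tt N69861 (iv7 F361735)))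
theorem Q52302 : ∀ i, i < 52302 → P i := stepQ 52301 Q52301 (allL N52301 (tt N27669 (iv1 D96455)) (tt N29028 (iv0 F293614)) (tt N29030 F293576) (tt N54736 F293577) (tt N54853 (iv4 F158167)) (tt N82981 F293578) (tt N53449 F293579) (tt N29023 (iv7 F293613)))
theorem Q52303 : ∀ i, i < 52303 → P i := stepQ 52302 Q52302 (allL N52302 (tt N29023 (iv1 F293612)) (tt N29030 F293580) (tt N27669 (iv2 D96456)) (tt N51687 F148531) (tt N29080 F148532) (tt N83961 F367626) (tt N28202 F293581) (tt N29028 (iv7 F293618)))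
theorem Q52304 : ∀ i, i < 52304 → P i := stepQ 52303 Q52303 (allL N52303 (tt N87833 D190713) (tt N87834 D190714) (tt N48802 (iv2 F294504)) (tt N55726 F363445) (tt N80427 (iv4 F267344)) (tt N48933 F293587) (tt N27670 (iv6 D96459)) (tt N87835 D190715))
theorem Q52305 : ∀ i, i < 52305 → P i := stepQ 52304 Q52304 (allL N52304 (tt N51687 (iv1 F148553)) (tt N27671 (iv0 D96462)) (tt N51686 F350439) (tt N82751 (iv3 F283854)) (tt N87836 D190716) (tt N82991 (iv5 F367649)) (tt N87821 F380666) (tt N51685 F350437))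
theorem Q52306 : ∀ i, i < 52306 → P i := stepQ 52305 Q52305 (allL N52305 (tt N27671 (iv1 D96463)) (tt N51687 F148558) (tt N51685 (iv2 F350438)) (tt N84988 (iv3 F371289)) (tt N83712 (iv4 F288674)) (tt N82992 F367052) (tt N48849 F350442) (tt N51686 (iv7 F350440)))
theorem Q52307 : ∀ i, i < 52307 → P i := stepQ 52306 Q52306 (allL N52306 (tt N51686 (iv1 F148559)) (tt N51685 F148557) (tt N27671 (iv2 D96464)) (tt N29028 (iv3 F293616)) (tt N49200 F148555) (tt N83970 (iv5 F367660)) (tt N83502 F293588) (tt N51687 F148556))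
theorem Q52308 : ∀ i, i < 52308 → P i := stepQ 52307 Q52307 (allL N52307 (tt N87837 D190717) (tt N87252 (iv0 F378883)) (tt N83970 (iv2 F367659)) (tt N27672 F148560) (tt N51360 F364702) (tt N27671 (iv5 D96465)) (tt N51362 (iv6 F364703)) (tt N48800 (iv7 F294501)))
theorem Q52309 : ∀ i, i < 52309 → P i := stepQ 52308 Q52308 (allL N52308 (tt N87838 D190718) (tt N87839 D190719) (tt N48799 (iv2 F293627)) (tt N51362 F364715) (tt N80423 (iv4 F267339)) (tt N83504 F293590) (tt N27672 (iv6 D96467)) (tt N87840 D190720))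
theorem Q52310 : ∀ i, i < 52310 → P i := stepQ 52309 Q52309 (allL N52309 (tt N84988 (iv1 F371293)) (tt N87841 D190721) (tt N28437 F291553) (tt N27673 (iv3 D96471)) (tt N51442 F291554) (tt N84016 (iv5 F367812)) (tt N28435 F291555) (tt N82791 (iv7 F284088)))
theorem Q52311 : ∀ i, i < 52311 → P i := stepQ 52310 Q52310 (allL N52310 (tt N55154 F293514) (tt N55584 F293515) (tt N29157 F293516) (tt N55587 F293517) (tt N27673 (iv4 D96472)) (tt N87143 (iv5 F378523)) (tt N29155 F293518) (tt N55585 (iv7 F294386)))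
theorem Q52312 : ∀ i, i < 52312 → P i := stepQ 52311 Q52311 (allL N52311 (tt N48773 F293519) (tt N48633 F295108) (tt N28111 (iv2 F294472)) (tt N84016 (iv3 F367811)) (tt N87842 D190722) (tt N27673 (iv5 D96473)) (tt N87843 D190723) (tt N48781 (iv7 F294476)))
theorem Q52313 : ∀ i, i < 52313 → P i := stepQ 52312 Q52312 (allL N52312 (tt N49514 (iv1 F295123)) (tt N52997 (iv0 F295120)) (tt N27676 F148579) (tt N39750 F329337) (tt N87844 D190724) (tt N27675 (iv5 D96478)) (tt N78690 F347308) (tt N39741 F329338))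
theorem Q52314 : ∀ i, i < 52314 → P i := stepQ 52313 Q52313 (allL N52313 (tt N87845 D190725) (tt N67572 (iv0 F366040)) (tt N87844 (iv2 F380812)) (tt N87846 D190726) (tt N27676 (iv4 D96481)) (tt N87847 D190727) (tt N67521 (iv6 F347317)) (tt N82793 (iv7 F284107)))
theorem Q52315 : ∀ i, i < 52315 → P i := stepQ 52314 Q52314 (allL N52314 (tt N87848 D190728) (tt N87849 D190729) (tt N78690 (iv2 F347309)) (tt N27678 F148581) (tt N67521 F347315) (tt N75125 (iv5 F347316)) (tt N27676 (iv6 D96482)) (tt N78693 (iv7 F360630)))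
theorem Q52316 : ∀ i, i < 52316 → P i := stepQ 52315 Q52315 (allL N52315 (tt N87850 D190730) (tt N87851 D190731) (tt N87852 D190732) (tt N27677 (iv3 D96487)) (tt N87846 (iv4 F380817)) (tt N44628 F148588) (tt N65818 (iv6 F347329)) (tt N51622 F148589))
theorem Q52317 : ∀ i, i < 52317 → P i := stepQ 52316 Q52316 (allL N52316 (tt N69792 (iv1 F358872)) (tt N69794 F359791) (tt N51696 F148590) (tt N65818 F347328) (tt N27678 F148591) (tt N87853 D190733) (tt N27677 (iv6 D96488)) (tt N87854 D190734))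
theorem Q52318 : ∀ i, i < 52318 → P i := stepQ 52317 Q52317 (allL N52317 (tt N39716 F329743) (tt N27678 (iv0 D96489)) (tt N43663 F339694) (tt N87855 D190735) (tt N67288 F347318) (tt N35359 F339695) (tt N35360 F339696) (tt N51697 (iv7 F345947)))
theorem Q52319 : ∀ i, i < 52319 → P i := stepQ 52318 Q52318 (allL N52318 (tt N27678 (iv1 D96490)) (tt N39716 F329742) (tt N51697 F345950) (tt N87856 D190736) (tt N67287 F347325) (tt N43664 F345951) (tt N87857 D190737) (tt N43663 F345952))
theorem Q52320 : ∀ i, i < 52320 → P i := stepQ 52319 Q52319 (allL N52319 (tt N51697 (iv1 F148595)) (tt N43663 (iv0 F345944)) (tt N39716 F329740) (tt N78693 (iv3 F360629)) (tt N87854 (iv4 F380860)) (tt N78692 (iv5 F360615)) (tt N39707 F329741) (tt N27678 (iv7 D96491)))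
theorem Q52321 : ∀ i, i < 52321 → P i := stepQ 52320 Q52320 (allL N52320 (tt N46589 F148599) (tt N53550 (iv0 F301163)) (tt N63917 (iv2 F191789)) (tt N27679 (iv3 D96492)) (tt N34843 F148597) (tt N55177 (iv5 F159131)) (tt N57479 (iv6 F351927)) (tt N46554 F148598))
theorem Q52322 : ∀ i, i < 52322 → P i := stepQ 52321 Q52321 (allL N52321 (tt N82827 F353220) (tt N82830 (iv0 F289562)) (tt N49538 F148679) (tt N27684 F148680) (tt N46800 F148681) (tt N87858 D190738) (tt N27682 (iv6 D96524)) (tt N84581 (iv7 F369759)))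
theorem Q52323 : ∀ i, i < 52323 → P i := stepQ 52322 Q52322 (allL N52322 (tt N79017 F353224) (tt N52409 (iv0 F353221)) (tt N51735 F148682) (tt N52391 (iv3 F149499)) (tt N27684 F148683) (tt N87859 D190739) (tt N27683 (iv6 D96525)) (tt N84582 (iv7 F369765)))
theorem Q52324 : ∀ i, i < 52324 → P i := stepQ 52323 Q52323 (allL N52323 (tt N51931 (iv1 F343070)) (tt N51964 (iv0 F343069)) (tt N51737 F148685) (tt N87858 (iv3 F380877)) (tt N87860 D190740) (tt N27684 (iv5 D96528)) (tt N75946 (iv6 F234656)) (tt N84583 (iv7 F369769)))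
theorem Q52325 : ∀ i, i < 52325 → P i := stepQ 52324 Q52324 (allL N52324 (tt N51743 (iv1 F148700)) (tt N27686 (iv0 D96531)) (tt N51740 F369164) (tt N49816 (iv3 F337147)) (tt N75241 (iv4 F234575)) (tt N87861 D190741) (tt N49815 F337137) (tt N51741 (iv7 F369165)))
theorem Q52326 : ∀ i, i < 52326 → P i := stepQ 52325 Q52325 (allL N52325 (tt N27686 (iv1 D96532)) (tt N51743 F148693) (tt N51741 (iv2 F369167)) (tt N87862 D190742) (tt N63804 (iv4 F359663)) (tt N87863 D190743) (tt N66697 (iv6 F378357)) (tt N51740 F369166))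
theorem Q52327 : ∀ i, i < 52327 → P i := stepQ 52326 Q52326 (allL N52326 (tt N87864 D190744) (tt N87865 D190745) (tt N51742 F148694) (tt N27692 F148695) (tt N87866 D190746) (tt N27686 (iv5 D96533)) (tt N27689 F148696) (tt N87867 D190747))
theorem Q52328 : ∀ i, i < 52328 → P i := stepQ 52327 Q52327 (allL N52327 (tt N51741 (iv1 F148701)) (tt N51740 F148702) (tt N51743 F148697) (tt N27693 F148698) (tt N62731 (iv4 F183361)) (tt N87867 (iv5 F380898)) (tt N51743 F148699) (tt N27686 (iv7 D96534)))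
theorem Q52329 : ∀ i, i < 52329 → P i := stepQ 52328 Q52328 (allL N52328 (tt N86569 F376504) (tt N52399 (iv0 F205507)) (tt N51745 F270453) (tt N52394 (iv3 F149508)) (tt N27687 (iv4 D96537)) (tt N87868 D190748) (tt N87869 D190749) (tt N51748 F270448))
theorem Q52330 : ∀ i, i < 52330 → P i := stepQ 52329 Q52329 (allL N52329 (tt N52047 (iv1 F343051)) (tt N48679 F343050) (tt N51746 (iv2 F270487)) (tt N47671 F335324) (tt N87870 D190750) (tt N27687 (iv5 D96538)) (tt N87871 D190751) (tt N47662 F335325))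
theorem Q52331 : ∀ i, i < 52331 → P i := stepQ 52330 Q52330 (allL N52330 (tt N48900 F343057) (tt N48952 F343055) (tt N51747 F270488) (tt N86237 (iv3 F375514)) (tt N87869 (iv4 F380905)) (tt N55120 F158943) (tt N27687 (iv6 D96539)) (tt N84588 (iv7 F369786)))
theorem Q52332 : ∀ i, i < 52332 → P i := stepQ 52331 Q52331 (allL N52331 (tt N51898 (iv1 F270483)) (tt N82987 (iv0 F285232)) (tt N86279 (iv2 F375658)) (tt N27688 (iv3 D96541)) (tt N46803 F148707) (tt N87872 D190752) (tt N87873 D190753) (tt N51744 (iv7 F270455)))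
theorem Q52333 : ∀ i, i < 52333 → P i := stepQ 52332 Q52332 (allL N52332 (tt N52399 (iv1 F205508)) (tt N86569 (iv0 F376503)) (tt N51748 (iv2 F270446)) (tt N52675 (iv3 F150141)) (tt N27688 (iv4 D96542)) (tt N87874 D190754) (tt N87875 D190755) (tt N51745 (iv7 F270454)))
theorem Q52334 : ∀ i, i < 52334 → P i := stepQ 52333 Q52333 (allL N52333 (tt N48679 F343049) (tt N52047 F343053) (tt N47662 F335322) (tt N87872 (iv3 F380916)) (tt N87876 D190756) (tt N27688 (iv5 D96543)) (tt N47658 F335323) (tt N51746 (iv7 F270456)))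
theorem Q52335 : ∀ i, i < 52335 → P i := stepQ 52334 Q52334 (allL N52334 (tt N49893 (iv1 F360565)) (tt N49889 F360564) (tt N47619 F335312) (tt N87873 (iv3 F380922)) (tt N87875 (iv4 F380931)) (tt N47618 F335313) (tt N27688 (iv6 D96544)) (tt N84593 (iv7 F369805)))
theorem Q52336 : ∀ i, i < 52336 → P i := stepQ 52335 Q52335 (allL N52335 (tt N51752 (iv1 F148713)) (tt N27689 (iv0 D96545)) (tt N51749 F158933) (tt N87877 D190757) (tt N87878 D190758) (tt N49979 (iv5 F343077)) (tt N87879 D190759) (tt N51750 F158931))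
theorem Q52337 : ∀ i, i < 52337 → P i := stepQ 52336 Q52336 (allL N52336 (tt N27689 (iv1 D96546)) (tt N51752 F148708) (tt N51750 (iv2 F158930)) (tt N87880 D190760) (tt N87881 D190761) (tt N49980 (iv5 F343072)) (tt N87882 D190762) (tt N51749 (iv7 F158932)))
theorem Q52338 : ∀ i, i < 52338 → P i := stepQ 52337 Q52337 (allL N52337 (tt N87883 D190763) (tt N87884 D190764) (tt N51751 F148709) (tt N79696 F367174) (tt N27689 (iv4 D96547)) (tt N87885 D190765) (tt N87866 (iv6 F380894)) (tt N85681 (iv7 F373505)))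
theorem Q52339 : ∀ i, i < 52339 → P i := stepQ 52338 Q52338 (allL N52338 (tt N79981 F261860) (tt N51937 F261863) (tt N79965 F288179) (tt N27690 (iv3 D96550)) (tt N60990 (iv4 F261859)) (tt N56453 F335162) (tt N60125 F350612) (tt N27861 F288180))
theorem Q52340 : ∀ i, i < 52340 → P i := stepQ 52339 Q52339 (allL N52339 (tt N77243 F335133) (tt N46530 F335134) (tt N27858 F288182) (tt N87886 D190766) (tt N27690 (iv4 D96551)) (tt N41546 F334479) (tt N41548 F334480) (tt N27862 F288183))
theorem Q52341 : ∀ i, i < 52341 → P i := stepQ 52340 Q52340 (allL N52340 (tt N87381 (iv1 F379177)) (tt N87887 D190767) (tt N27859 F288184) (tt N56453 F340421) (tt N56469 (iv4 F340419)) (tt N27690 (iv5 D96552)) (tt N56452 F340422) (tt N27863 F288185))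
theorem Q52342 : ∀ i, i < 52342 → P i := stepQ 52341 Q52341 (allL N52341 (tt N51975 (iv1 F341046)) (tt N66709 (iv0 F341045)) (tt N27860 F288186) (tt N60125 (iv3 F360261)) (tt N41548 F334494) (tt N29274 F148717) (tt N27690 (iv6 D96553)) (tt N66710 (iv7 F334493)))
theorem Q52343 : ∀ i, i < 52343 → P i := stepQ 52342 Q52342 (allL N52342 (tt N51896 (iv1 F350616)) (tt N87888 D190768) (tt N82206 (iv2 F350625)) (tt N27691 (iv3 D96555)) (tt N82198 F352643) (tt N87889 D190769) (tt N87890 D190770) (tt N27857 F288190))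
theorem Q52344 : ∀ i, i < 52344 → P i := stepQ 52343 Q52343 (allL N52343 (tt N46530 F335135) (tt N77243 F335136) (tt N27862 F288191) (tt N87891 D190771) (tt N27691 (iv4 D96556)) (tt N73774 (iv5 F335139)) (tt N78322 F364478) (tt N27858 F288192))
theorem Q52345 : ∀ i, i < 52345 → P i := stepQ 52344 Q52344 (allL N52344 (tt N87887 (iv1 F380968)) (tt N87381 (iv0 F379176)) (tt N27863 F288193) (tt N87889 (iv3 F380979)) (tt N87892 D190772) (tt N27691 (iv5 D96557)) (tt N49219 F358279) (tt N27859 F288194))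
theorem Q52346 : ∀ i, i < 52346 → P i := stepQ 52345 Q52345 (allL N52345 (tt N87893 D190773) (tt N51983 F364480) (tt N27864 F288195) (tt N87890 (iv3 F380982)) (tt N78322 (iv4 F364479)) (tt N87420 (iv5 F379287)) (tt N27691 (iv6 D96558)) (tt N87894 D190774))
theorem Q52347 : ∀ i, i < 52347 → P i := stepQ 52346 Q52346 (allL N52346 (tt N27868 (iv1 F148725)) (tt N27692 (iv0 D96559)) (tt N27865 F340406) (tt N87895 D190775) (tt N58929 F358381) (tt N74812 F340407) (tt N87896 D190776) (tt N27866 F340408))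
theorem Q52348 : ∀ i, i < 52348 → P i := stepQ 52347 Q52347 (allL N52347 (tt N27692 (iv1 D96560)) (tt N27868 F148719) (tt N27866 F340403) (tt N87897 D190777) (tt N58928 (iv4 F335830)) (tt N29147 (iv5 F148720)) (tt N87898 D190778) (tt N27865 F340404))
theorem Q52349 : ∀ i, i < 52349 → P i := stepQ 52348 Q52348 (allL N52348 (tt N27866 (iv1 F148726)) (tt N27865 F148727) (tt N27868 F148723) (tt N87867 (iv3 F380897)) (tt N79705 F332555) (tt N27693 F148724) (tt N85685 (iv6 F373511)) (tt N27692 (iv7 D96562)))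
theorem Q52350 : ∀ i, i < 52350 → P i := stepQ 52349 Q52349 (allL N52349 (tt N47739 F309920) (tt N45603 F309921) (tt N34219 F148873) (tt N55808 (iv3 F161835)) (tt N34158 F148874) (tt N87899 D190779) (tt N27694 (iv6 D96631)) (tt N47738 F316603))
theorem Q52351 : ∀ i, i < 52351 → P i := stepQ 52350 Q52350 (allL N52350 (tt N79730 F257861) (tt N79365 (iv0 F254667)) (tt N35306 (iv2 F297277)) (tt N67362 (iv3 F362297)) (tt N27698 (iv4 D96650)) (tt N87900 D190780) (tt N27699 F148931) (tt N35309 (iv7 F297472)))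
theorem Q52352 : ∀ i, i < 52352 → P i := stepQ 52351 Q52351 (allL N52351 (tt N87901 D190781) (tt N87902 D190782) (tt N60569 (iv2 F364788)) (tt N27699 (iv3 D96652)) (tt N27709 F148940) (tt N87903 D190783) (tt N67362 (iv6 F362298)) (tt N79351 (iv7 F254497)))
theorem Q52353 : ∀ i, i < 52353 → P i := stepQ 52352 Q52352 (allL N52352 (tt N45497 F148944) (tt N45823 F148945) (tt N48681 F148941) (tt N87903 (iv3 F381060)) (tt N27897 (iv4 F293573)) (tt N27699 (iv5 D96653)) (tt N69256 F347518) (tt N52243 F148942))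
theorem Q52354 : ∀ i, i < 52354 → P i := stepQ 52353 Q52353 (allL N52353 (tt N78309 F304896) (tt N35307 (iv0 F154837)) (tt N46553 F148946) (tt N77666 (iv3 F306837)) (tt N46519 F148947) (tt N75227 F304897) (tt N27700 (iv6 D96654)) (tt N78308 F304898))
theorem Q52355 : ∀ i, i < 52355 → P i := stepQ 52354 Q52354 (allL N52354 (tt N78311 F308539) (tt N62561 (iv0 F313665)) (tt N62464 (iv2 F321225)) (tt N27705 F148965) (tt N81254 F366093) (tt N27703 (iv5 D96662)) (tt N42085 F308542) (tt N42931 F308543))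
theorem Q52356 : ∀ i, i < 52356 → P i := stepQ 52355 Q52355 (allL N52355 (tt N43884 F308550) (tt N43883 F308551) (tt N43885 (iv2 F310610)) (tt N42085 F308552) (tt N62345 F350001) (tt N27704 (iv5 D96666)) (tt N27705 F148970) (tt N42065 F308553))
theorem Q52357 : ∀ i, i < 52357 → P i := stepQ 52356 Q52356 (allL N52356 (tt N42197 F308544) (tt N27705 (iv0 D96668)) (tt N43877 (iv2 F310604)) (tt N78304 F308545) (tt N81694 (iv4 F276466)) (tt N46462 F300029) (tt N74706 (iv6 F351584)) (tt N43876 (iv7 F310609)))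
theorem Q52358 : ∀ i, i < 52358 → P i := stepQ 52357 Q52357 (allL N52357 (tt N27705 (iv1 D96669)) (tt N42197 F308546) (tt N43876 (iv2 F310608)) (tt N34371 F308547) (tt N81695 (iv4 F276470)) (tt N46576 (iv5 F148980)) (tt N48108 F308548) (tt N43877 (iv7 F310606)))
theorem Q52359 : ∀ i, i < 52359 → P i := stepQ 52358 Q52358 (allL N52358 (tt N80088 (iv1 F360579)) (tt N80089 F360578) (tt N46531 F148981) (tt N87904 D190784) (tt N27705 (iv4 D96670)) (tt N87905 D190785) (tt N62345 F350002) (tt N43875 F308549))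
theorem Q52360 : ∀ i, i < 52360 → P i := stepQ 52359 Q52359 (allL N52359 (tt N67180 (iv1 F362305)) (tt N67340 (iv0 F362302)) (tt N67338 (iv2 F392619)) (tt N27707 (iv3 D96673)) (tt N67362 F362300) (tt N87906 D190787) (tt N27709 F148990) (tt N67337 (iv7 F362301)))
theorem Q52361 : ∀ i, i < 52361 → P i := stepQ 52360 Q52360 (allL N52360 (tt N82554 (iv1 F330418)) (tt N82530 F330417) (tt N46537 F148991) (tt N87906 (iv3 F381071)) (tt N87907 D190788) (tt N27707 (iv5 D96674)) (tt N55631 (iv6 F345927)) (tt N82551 (iv7 F350075)))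
theorem Q52362 : ∀ i, i < 52362 → P i := stepQ 52361 Q52361 (allL N52361 (tt N46186 F299389) (tt N46184 F299390) (tt N46538 F148992) (tt N67337 F341625) (tt N27708 F148993) (tt N82551 F299391) (tt N46586 F148994) (tt N27707 (iv7 D96675)))
theorem Q52363 : ∀ i, i < 52363 → P i := stepQ 52362 Q52362 (allL N52362 (tt N65716 (iv1 F327441)) (tt N27709 (iv0 D96676)) (tt N82523 (iv2 F281469)) (tt N87908 D190789) (tt N68826 (iv4 F341809)) (tt N87909 D190790) (tt N81744 (iv6 F361395)) (tt N65535 (iv7 F361399)))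
theorem Q52364 : ∀ i, i < 52364 → P i := stepQ 52363 Q52363 (allL N52363 (tt N27709 (iv1 D96677)) (tt N65716 (iv0 F327440)) (tt N65535 (iv2 F361398)) (tt N82492 (iv3 F281202)) (tt N68829 (iv4 F341807)) (tt N87910 D190791) (tt N65531 F361389) (tt N82523 (iv7 F281467)))
theorem Q52365 : ∀ i, i < 52365 → P i := stepQ 52364 Q52364 (allL N52364 (tt N82523 (iv1 F281471)) (tt N65535 (iv0 F361396)) (tt N27709 (iv2 D96678)) (tt N46545 F148997) (tt N60569 F364789) (tt N87911 D190792) (tt N67338 (iv6 F392622)) (tt N65716 (iv7 F327443)))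
theorem Q52366 : ∀ i, i < 52366 → P i := stepQ 52365 Q52365 (allL N52365 (tt N87912 D190793) (tt N87913 D190794) (tt N87911 (iv2 F381089)) (tt N27710 F148998) (tt N87914 D190795) (tt N27709 (iv5 D96679)) (tt N87915 D190796) (tt N82524 (iv7 F281479)))
theorem Q52367 : ∀ i, i < 52367 → P i := stepQ 52366 Q52366 (allL N52366 (tt N65970 F345923) (tt N32313 F345924) (tt N46549 F148999) (tt N87915 (iv3 F381099)) (tt N48640 F149000) (tt N55631 F345925) (tt N27710 (iv6 D96680)) (tt N60452 F349678))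
theorem Q52368 : ∀ i, i < 52368 → P i := stepQ 52367 Q52367 (allL N52367 (tt N46639 F300252) (tt N46405 F300242) (tt N44781 F149001) (tt N46502 (iv3 F302988)) (tt N44777 F149002) (tt N87916 D190797) (tt N27711 (iv6 D96681)) (tt N46638 F302997))
theorem Q52369 : ∀ i, i < 52369 → P i := stepQ 52368 Q52368 (allL N52368 (tt N27713 (iv1 D96684)) (tt N75826 (iv0 F311826)) (tt N75827 (iv2 F311820)) (tt N68355 F335218) (tt N63576 (iv4 F188172)) (tt N63092 (iv5 F335220)) (tt N76481 (iv6 F335217)) (tt N63091 (iv7 F311818)))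
theorem Q52370 : ∀ i, i < 52370 → P i := stepQ 52369 Q52369 (allL N52369 (tt N43691 F310096) (tt N87917 D190798) (tt N43619 (iv2 F311825)) (tt N27716 F149006) (tt N54373 (iv4 F350959)) (tt N27713 (iv5 D96685)) (tt N43499 (iv6 F312368)) (tt N87918 D190799))
theorem Q52371 : ∀ i, i < 52371 → P i := stepQ 52370 Q52370 (allL N52370 (tt N75827 (iv1 F311819)) (tt N63091 (iv0 F311817)) (tt N75826 (iv2 F311827)) (tt N27717 F149007) (tt N46401 F149008) (tt N87918 (iv5 F381115)) (tt N44901 F149009) (tt N27713 (iv7 D96686)))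
theorem Q52372 : ∀ i, i < 52372 → P i := stepQ 52371 Q52371 (allL N52371 (tt N43815 F314790) (tt N43814 F314791) (tt N43625 F314792) (tt N43842 (iv3 F316643)) (tt N27837 F149014) (tt N43410 F314793) (tt N46574 F149015) (tt N27714 (iv7 D96690)))
theorem Q52373 : ∀ i, i < 52373 → P i := stepQ 52372 Q52372 (allL N52372 (tt N43816 (iv1 F308081)) (tt N43723 F308074) (tt N43817 (iv2 F308080)) (tt N87918 (iv3 F381114)) (tt N52789 (iv4 F310093)) (tt N27717 F149052) (tt N52788 F308075) (tt N27716 (iv7 D96700)))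
theorem Q52374 : ∀ i, i < 52374 → P i := stepQ 52373 Q52373 (allL N52373 (tt N87919 D190800) (tt N79548 (iv0 F341702)) (tt N46585 F149083) (tt N60533 F360767) (tt N80939 F341699) (tt N27720 (iv5 D96709)) (tt N67216 (iv6 F349823)) (tt N87920 D190801))
theorem Q52375 : ∀ i, i < 52375 → P i := stepQ 52374 Q52374 (allL N52374 (tt N35854 F326404) (tt N46288 F298907) (tt N46586 F149084) (tt N35822 F326256) (tt N27721 F149085) (tt N87920 (iv5 F381128)) (tt N46538 F149086) (tt N27720 (iv7 D96710)))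
theorem Q52376 : ∀ i, i < 52376 → P i := stepQ 52375 Q52375 (allL N52375 (tt N46564 F185137) (tt N46651 F267521) (tt N46580 F149120) (tt N41943 F149121) (tt N69680 F306565) (tt N87921 D190802) (tt N27723 (iv6 D96715)) (tt N46650 (iv7 F192539)))
theorem Q52377 : ∀ i, i < 52377 → P i := stepQ 52376 Q52376 (allL N52376 (tt N45433 F149127) (tt N43233 (iv0 F149128)) (tt N46891 F298392) (tt N27813 F149124) (tt N27725 (iv4 D96717)) (tt N47034 (iv5 F149126)) (tt N65120 F348879) (tt N43838 F306817))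
theorem Q52378 : ∀ i, i < 52378 → P i := stepQ 52377 Q52377 (allL N52377 (tt N46573 (iv1 F149141)) (tt N41843 (iv0 F313016)) (tt N46574 F149137) (tt N41821 F310783) (tt N27822 F149138) (tt N48426 F310252) (tt N43625 (iv6 F312408)) (tt N27726 (iv7 D96726)))
theorem Q52379 : ∀ i, i < 52379 → P i := stepQ 52378 Q52378 (allL N52378 (tt N63848 F309762) (tt N76012 F267618) (tt N76013 F235637) (tt N27727 (iv3 D96727)) (tt N34518 F149143) (tt N37862 F309763) (tt N87922 D190803) (tt N46577 F149144))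
theorem Q52380 : ∀ i, i < 52380 → P i := stepQ 52379 Q52379 (allL N52379 (tt N44909 (iv1 F149154)) (tt N44910 (iv0 F149153)) (tt N46576 F149149) (tt N87922 (iv3 F381139)) (tt N34759 F299603) (tt N43876 F310624) (tt N27727 (iv6 D96729)) (tt N46462 F299604))
theorem Q52381 : ∀ i, i < 52381 → P i := stepQ 52380 Q52380 (allL N52380 (tt N78541 (iv1 F249065)) (tt N28001 (iv0 F149197)) (tt N46590 F149194) (tt N37643 F306576) (tt N27732 (iv4 D96740)) (tt N76106 (iv5 F303981)) (tt N87923 D190804) (tt N46587 F149196))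
theorem Q52382 : ∀ i, i < 52382 → P i := stepQ 52381 Q52381 (allL N52381 (tt N46623 F340792) (tt N46561 F340793) (tt N46591 F149199) (tt N66749 (iv3 F333595)) (tt N87923 (iv4 F381146)) (tt N66747 (iv5 F340797)) (tt N27732 (iv6 D96741)) (tt N46622 F317487))
theorem Q52383 : ∀ i, i < 52383 → P i := stepQ 52382 Q52382 (allL N52382 (tt N63917 (iv1 F191790)) (tt N46554 (iv0 F151572)) (tt N53550 (iv2 F301165)) (tt N27733 (iv3 D96742)) (tt N48768 (iv4 F301172)) (tt N64453 (iv5 F197242)) (tt N48767 F298492) (tt N46589 F149200))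
theorem Q52384 : ∀ i, i < 52384 → P i := stepQ 52383 Q52383 (allL N52383 (tt N75814 F310080) (tt N75822 F310081) (tt N27735 F149202) (tt N37631 F310082) (tt N46817 F149204) (tt N63612 F310083) (tt N27734 (iv6 D96744)) (tt N75821 F310084))
theorem Q52385 : ∀ i, i < 52385 → P i := stepQ 52384 Q52384 (allL N52384 (tt N27735 (iv1 D96746)) (tt N75821 F335256) (tt N75822 F335254) (tt N87924 D190805) (tt N63859 (iv4 F335251)) (tt N75815 F335249) (tt N87925 D190806) (tt N75814 F364466))
theorem Q52386 : ∀ i, i < 52386 → P i := stepQ 52385 Q52385 (allL N52385 (tt N75822 F311340) (tt N75814 F311341) (tt N75821 F311342) (tt N27736 F149206) (tt N46818 F149207) (tt N67042 F311343) (tt N44904 F149208) (tt N27735 (iv7 D96748)))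
theorem Q52387 : ∀ i, i < 52387 → P i := stepQ 52386 Q52386 (allL N52386 (tt N46556 F149218) (tt N66817 (iv0 F305607)) (tt N37644 F304556) (tt N27737 (iv3 D96752)) (tt N43443 F304557) (tt N74763 (iv5 F306554)) (tt N36453 F304558) (tt N46601 F149217))
theorem Q52388 : ∀ i, i < 52388 → P i := stepQ 52387 Q52387 (allL N52387 (tt N82328 (iv1 F352638)) (tt N87702 (iv0 F380190)) (tt N75810 (iv2 F352636)) (tt N27744 (iv3 D96778)) (tt N49704 F352631) (tt N75806 F352635) (tt N49703 (iv6 F352633)) (tt N51999 (iv7 F352637)))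
theorem Q52389 : ∀ i, i < 52389 → P i := stepQ 52388 Q52388 (allL N52388 (tt N66687 (iv1 F345668)) (tt N66727 F345664) (tt N51998 (iv2 F345667)) (tt N49703 F356802) (tt N49708 F345662) (tt N54968 F158415) (tt N27744 (iv6 D96781)) (tt N66682 (iv7 F356803)))
theorem Q52390 : ∀ i, i < 52390 → P i := stepQ 52389 Q52389 (allL N52389 (tt N48471 (iv1 F300083)) (tt N27746 (iv0 D96787)) (tt N48469 F299901) (tt N81360 F299902) (tt N27950 F299903) (tt N66650 F305226) (tt N35105 F305227) (tt N48470 F299904))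
theorem Q52391 : ∀ i, i < 52391 → P i := stepQ 52390 Q52390 (allL N52390 (tt N27746 (iv1 D96788)) (tt N48471 (iv0 F300082)) (tt N48470 F299905) (tt N42610 (iv3 F305837)) (tt N27951 F299907) (tt N55188 (iv5 F159152)) (tt N87926 D190807) (tt N48469 F299908))
theorem Q52392 : ∀ i, i < 52392 → P i := stepQ 52391 Q52391 (allL N52391 (tt N51826 F289563) (tt N27797 F289564) (tt N48752 F149498) (tt N52322 F149499) (tt N80675 (iv4 F270416)) (tt N87927 D190808) (tt N27749 (iv6 D96946)) (tt N51825 (iv7 F289559)))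
theorem Q52393 : ∀ i, i < 52393 → P i := stepQ 52392 Q52392 (allL N52392 (tt N27769 F289552) (tt N51878 F289553) (tt N48750 F149500) (tt N48752 F149501) (tt N82527 (iv4 F281616)) (tt N87928 D190809) (tt N27750 (iv6 D96947)) (tt N51877 (iv7 F344221)))
theorem Q52394 : ∀ i, i < 52394 → P i := stepQ 52393 Q52393 (allL N52393 (tt N52104 (iv1 F149507)) (tt N52103 (iv0 F149506)) (tt N27752 F149502) (tt N27785 F149503) (tt N28035 F149504) (tt N87929 D190810) (tt N27751 (iv6 D96948)) (tt N52105 (iv7 F149505)))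
theorem Q52395 : ∀ i, i < 52395 → P i := stepQ 52394 Q52394 (allL N52394 (tt N52105 (iv1 F149509)) (tt N27752 (iv0 D96949)) (tt N52104 (iv2 F270444)) (tt N52328 F149508) (tt N51136 (iv4 F295340)) (tt N87930 D190811) (tt N87931 D190812) (tt N52103 (iv7 F270447)))
theorem Q52396 : ∀ i, i < 52396 → P i := stepQ 52395 Q52395 (allL N52395 (tt N27752 (iv1 D96950)) (tt N52105 F149510) (tt N52103 F270445) (tt N48759 (iv3 F268363)) (tt N83823 F289238) (tt N87932 D190813) (tt N87933 D190814) (tt N52104 F270443))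
theorem Q52397 : ∀ i, i < 52397 → P i := stepQ 52396 Q52396 (allL N52396 (tt N87934 D190815) (tt N87935 D190816) (tt N87929 (iv2 F381178)) (tt N27753 F149511) (tt N87936 D190817) (tt N27752 (iv5 D96951)) (tt N87736 (iv6 F380286)) (tt N52106 F149512))
theorem Q52398 : ∀ i, i < 52398 → P i := stepQ 52397 Q52397 (allL N52397 (tt N45492 F294043) (tt N45816 F294044) (tt N48764 F149527) (tt N60023 (iv3 F359021)) (tt N27754 (iv4 D96954)) (tt N45494 F294045) (tt N56689 F332568) (tt N52658 (iv7 F150114)))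
theorem Q52399 : ∀ i, i < 52399 → P i := stepQ 52398 Q52398 (allL N52398 (tt N68391 (iv1 F331387)) (tt N55063 (iv0 F176043)) (tt N51789 F149531) (tt N51787 F149532) (tt N49334 F294587) (tt N27755 (iv5 D96957)) (tt N87712 (iv6 F380230)) (tt N49332 F294588))
theorem Q52400 : ∀ i, i < 52400 → P i := stepQ 52399 Q52399 (allL N52399 (tt N52328 F205507) (tt N52332 F205508) (tt N51788 F149540) (tt N27757 F149541) (tt N51788 F149542) (tt N87937 D190818) (tt N27756 (iv6 D96959)) (tt N84671 (iv7 F370140)))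
theorem Q52401 : ∀ i, i < 52401 → P i := stepQ 52400 Q52400 (allL N52400 (tt N49990 (iv1 F365112)) (tt N82596 F365035) (tt N51787 F149544) (tt N87937 (iv3 F381234)) (tt N86870 (iv4 F377515)) (tt N27757 (iv5 D96962)) (tt N71824 F365072) (tt N82597 (iv7 F365111)))
theorem Q52402 : ∀ i, i < 52402 → P i := stepQ 52401 Q52401 (allL N52401 (tt N87938 D190819) (tt N86979 (iv0 F377930)) (tt N27763 F149551) (tt N51849 F149552) (tt N87419 (iv4 F379285)) (tt N27759 (iv5 D96964)) (tt N61498 (iv6 F178932)) (tt N87939 D190820))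
theorem Q52403 : ∀ i, i < 52403 → P i := stepQ 52402 Q52402 (allL N52402 (tt N27762 (iv1 F149557)) (tt N27761 (iv0 F149558)) (tt N27764 F149553) (tt N51831 F149554) (tt N45154 F149555) (tt N87939 (iv5 F381241)) (tt N45153 F149556) (tt N27759 (iv7 D96965)))
theorem Q52404 : ∀ i, i < 52404 → P i := stepQ 52403 Q52403 (allL N52403 (tt N61499 (iv1 F178939)) (tt N27760 (iv0 D96966)) (tt N46048 (iv2 F178260)) (tt N51790 F290503) (tt N32639 F290504) (tt N87940 D190821) (tt N66668 (iv6 F366049)) (tt N46040 (iv7 F290512)))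
theorem Q52405 : ∀ i, i < 52405 → P i := stepQ 52404 Q52404 (allL N52404 (tt N27760 (iv1 D96967)) (tt N61499 F178938) (tt N46040 (iv2 F290511)) (tt N75942 (iv3 F362068)) (tt N32645 F149559) (tt N87941 D190822) (tt N87942 D190823) (tt N46048 F178259))
theorem Q52406 : ∀ i, i < 52406 → P i := stepQ 52405 Q52405 (allL N52405 (tt N87417 (iv1 F379269)) (tt N87416 F379266) (tt N61498 (iv2 F178931)) (tt N27767 F149560) (tt N87399 (iv4 F379243)) (tt N27760 (iv5 D96968)) (tt N27763 F149561) (tt N87398 (iv7 F379240)))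
theorem Q52407 : ∀ i, i < 52407 → P i := stepQ 52406 Q52406 (allL N52406 (tt N46040 F290520) (tt N46048 (iv0 F149566)) (tt N61499 (iv2 F178935)) (tt N27768 F149562) (tt N34698 F149563) (tt N87398 (iv5 F379237)) (tt N51793 F149564) (tt N27760 (iv7 D96969)))
theorem Q52408 : ∀ i, i < 52408 → P i := stepQ 52407 Q52407 (allL N52407 (tt N87943 D190824) (tt N55386 (iv0 F370149)) (tt N85768 (iv2 F373854)) (tt N51794 F149568) (tt N87944 D190825) (tt N27761 (iv5 D96971)) (tt N87945 D190826) (tt N85774 (iv7 F373882)))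
theorem Q52409 : ∀ i, i < 52409 → P i := stepQ 52408 Q52408 (allL N52408 (tt N84645 (iv1 F370005)) (tt N49920 (iv0 F288025)) (tt N84644 F369995) (tt N51795 F149569) (tt N84922 (iv4 F371098)) (tt N55424 F160245) (tt N27761 (iv6 D96972)) (tt N84643 F369987))
theorem Q52410 : ∀ i, i < 52410 → P i := stepQ 52409 Q52409 (allL N52409 (tt N52322 F353221) (tt N84500 (iv0 F369549)) (tt N51796 F149572) (tt N27762 (iv3 D96974)) (tt N51796 F149573) (tt N87946 D190827) (tt N87947 D190828) (tt N85767 (iv7 F373851)))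
theorem Q52411 : ∀ i, i < 52411 → P i := stepQ 52410 Q52410 (allL N52410 (tt N55386 F367232) (tt N87943 F381256) (tt N85774 (iv2 F373880)) (tt N87946 (iv3 F381262)) (tt N87948 D190829) (tt N27762 (iv5 D96975)) (tt N87949 D190830) (tt N85768 (iv7 F373855)))
theorem Q52412 : ∀ i, i < 52412 → P i := stepQ 52411 Q52411 (allL N52411 (tt N50623 F367119) (tt N52110 (iv0 F367233)) (tt N52114 (iv2 F360292)) (tt N87947 (iv3 F381264)) (tt N51575 (iv4 F251143)) (tt N86091 (iv5 F375095)) (tt N27762 (iv6 D96976)) (tt N52115 (iv7 F360297)))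
theorem Q52413 : ∀ i, i < 52413 → P i := stepQ 52412 Q52412 (allL N52412 (tt N87939 (iv1 F381243)) (tt N27763 (iv0 D96977)) (tt N87938 F381236) (tt N51799 F259056) (tt N87950 D190831) (tt N84675 F370169) (tt N87951 D190832) (tt N86979 (iv7 F377929)))
theorem Q52414 : ∀ i, i < 52414 → P i := stepQ 52413 Q52413 (allL N52413 (tt N27763 (iv1 D96978)) (tt N87939 F381242) (tt N86979 (iv2 F377927)) (tt N87952 D190833) (tt N87953 D190834) (tt N85177 (iv5 F371823)) (tt N87954 D190835) (tt N87938 (iv7 F381237)))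
theorem Q52415 : ∀ i, i < 52415 → P i := stepQ 52414 Q52414 (allL N52414 (tt N87955 D190836) (tt N87956 D190837) (tt N87419 (iv2 F379283)) (tt N87957 D190838) (tt N27763 (iv4 D96979)) (tt N87958 D190839) (tt N87399 F379247) (tt N87959 D190840))
theorem Q52416 : ∀ i, i < 52416 → P i := stepQ 52415 Q52415 (allL N52415 (tt N86979 (iv1 F377931)) (tt N87938 F381238) (tt N87939 (iv2 F381239)) (tt N27778 F149574) (tt N87959 (iv4 F381288)) (tt N27764 F149575) (tt N87960 D190841) (tt N27763 (iv7 D96980)))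
theorem Q52417 : ∀ i, i < 52417 → P i := stepQ 52416 Q52416 (allL N52416 (tt N87961 D190842) (tt N83151 (iv0 F354567)) (tt N87962 D190843) (tt N27765 (iv3 D96982)) (tt N74836 (iv4 F347828)) (tt N87963 D190844) (tt N66653 F347829) (tt N51863 (iv7 F347833)))
theorem Q52418 : ∀ i, i < 52418 → P i := stepQ 52417 Q52417 (allL N52417 (tt N87964 D190845) (tt N87965 D190846) (tt N51862 F366338) (tt N87963 (iv3 F381301)) (tt N81256 (iv4 F338161)) (tt N27765 (iv5 D96984)) (tt N87966 D190847) (tt N51865 F366194))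
theorem Q52419 : ∀ i, i < 52419 → P i := stepQ 52418 Q52418 (allL N52418 (tt N27788 F338150) (tt N87967 D190848) (tt N87968 D190849) (tt N27766 (iv3 D96987)) (tt N87969 D190850) (tt N87970 D190851) (tt N84255 (iv6 F368713)) (tt N51861 (iv7 F366336)))
theorem Q52420 : ∀ i, i < 52420 → P i := stepQ 52419 Q52419 (allL N52419 (tt N87965 (iv1 F381307)) (tt N87964 F381304) (tt N51865 F366195) (tt N87970 (iv3 F381329)) (tt N87971 D190852) (tt N27766 (iv5 D96989)) (tt N87972 D190853) (tt N51862 (iv7 F366337)))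
theorem Q52421 : ∀ i, i < 52421 → P i := stepQ 52420 Q52420 (allL N52420 (tt N64008 (iv1 F347840)) (tt N64007 F347839) (tt N51866 F347837) (tt N84255 F368712) (tt N63997 F338159) (tt N87973 D190854) (tt N27766 (iv6 D96990)) (tt N63996 (iv7 F347838)))
theorem Q52422 : ∀ i, i < 52422 → P i := stepQ 52421 Q52421 (allL N52421 (tt N51870 (iv1 F149585)) (tt N27767 (iv0 D96991)) (tt N51867 F364159) (tt N87974 D190855) (tt N87430 (iv4 F379310)) (tt N87751 (iv5 F380366)) (tt N87975 D190856) (tt N51868 F364157))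
theorem Q52423 : ∀ i, i < 52423 → P i := stepQ 52422 Q52422 (allL N52422 (tt N27767 (iv1 D96992)) (tt N51870 F149579) (tt N51868 (iv2 F364156)) (tt N80258 F364153) (tt N87431 (iv4 F379314)) (tt N51722 (iv5 F149580)) (tt N80257 (iv6 F364152)) (tt N51867 (iv7 F364158)))
theorem Q52424 : ∀ i, i < 52424 → P i := stepQ 52423 Q52423 (allL N52423 (tt N87976 D190857) (tt N87977 D190858) (tt N51869 F149581) (tt N87978 D190859) (tt N27767 (iv4 D96993)) (tt N87979 D190860) (tt N27777 F149582) (tt N87980 D190861))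
theorem Q52425 : ∀ i, i < 52425 → P i := stepQ 52424 Q52424 (allL N52424 (tt N51868 (iv1 F149586)) (tt N51867 F149587) (tt N51870 F149583) (tt N87398 F379241) (tt N87980 (iv4 F381360)) (tt N27768 F149584) (tt N87981 D190862) (tt N27767 (iv7 D96994)))
theorem Q52426 : ∀ i, i < 52426 → P i := stepQ 52425 Q52425 (allL N52425 (tt N51878 (iv1 F149588)) (tt N27769 (iv0 D96995)) (tt N51877 F344219) (tt N84500 (iv3 F369547)) (tt N83833 (iv4 F344215)) (tt N87982 D190863) (tt N51825 F344217) (tt N48750 F344218))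
theorem Q52427 : ∀ i, i < 52427 → P i := stepQ 52426 Q52426 (allL N52426 (tt N51877 (iv1 F149594)) (tt N48750 F289532) (tt N27769 (iv2 D96997)) (tt N27789 F149589) (tt N48769 F149590) (tt N87983 D190864) (tt N59825 (iv6 F340555)) (tt N51878 F149591))
theorem Q52428 : ∀ i, i < 52428 → P i := stepQ 52427 Q52427 (allL N52427 (tt N87984 D190865) (tt N87985 D190866) (tt N87983 (iv2 F381372)) (tt N27770 F149595) (tt N74158 (iv4 F366205)) (tt N27769 (iv5 D96998)) (tt N87986 D190867) (tt N51879 F149596))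
theorem Q52429 : ∀ i, i < 52429 → P i := stepQ 52428 Q52428 (allL N52428 (tt N59823 (iv1 F358524)) (tt N59822 (iv0 F358519)) (tt N59825 F340556) (tt N27771 F149597) (tt N48619 F149598) (tt N51731 (iv5 F149599)) (tt N27769 (iv6 D96999)) (tt N59775 (iv7 F358523)))
theorem Q52430 : ∀ i, i < 52430 → P i := stepQ 52429 Q52429 (allL N52429 (tt N84523 (iv1 F369609)) (tt N84526 (iv0 F369619)) (tt N51875 F149600) (tt N87987 D190868) (tt N27770 (iv4 D97000)) (tt N54183 (iv5 F360812)) (tt N87988 D190869) (tt N51881 F149601))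
theorem Q52431 : ∀ i, i < 52431 → P i := stepQ 52430 Q52430 (allL N52430 (tt N87989 D190870) (tt N87990 D190871) (tt N51876 F149602) (tt N87986 (iv3 F381388)) (tt N87988 (iv4 F381395)) (tt N51733 F149603) (tt N27770 (iv6 D97001)) (tt N87991 D190872))
theorem Q52432 : ∀ i, i < 52432 → P i := stepQ 52431 Q52431 (allL N52431 (tt N55510 (iv1 F356255)) (tt N87992 D190873) (tt N84571 (iv2 F369733)) (tt N27773 F149604) (tt N87993 D190874) (tt N27772 (iv5 D97002)) (tt N87994 D190875) (tt N51871 F149605))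
theorem Q52433 : ∀ i, i < 52433 → P i := stepQ 52432 Q52432 (allL N52432 (tt N48962 F295205) (tt N48960 F295206) (tt N48958 F295212) (tt N27774 F149606) (tt N52163 F149607) (tt N55086 (iv5 F159223)) (tt N27772 (iv6 D97003)) (tt N48959 F295213))
theorem Q52434 : ∀ i, i < 52434 → P i := stepQ 52433 Q52433 (allL N52433 (tt N84526 (iv1 F369620)) (tt N84523 (iv0 F369608)) (tt N51881 F149609) (tt N87995 D190876) (tt N27773 (iv4 D97004)) (tt N54184 (iv5 F360810)) (tt N87996 D190877) (tt N51875 F149610))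
theorem Q52435 : ∀ i, i < 52435 → P i := stepQ 52434 Q52434 (allL N52434 (tt N87997 D190878) (tt N87998 D190879) (tt N51882 F149611) (tt N87994 (iv3 F381420)) (tt N87996 (iv4 F381424)) (tt N87999 D190880) (tt N27773 (iv6 D97005)) (tt N88000 D190881))
theorem Q52436 : ∀ i, i < 52436 → P i := stepQ 52435 Q52435 (allL N52435 (tt N29232 F149614) (tt N29231 F149615) (tt N29303 F149612) (tt N55086 F159221) (tt N55232 (iv4 F159220)) (tt N27774 (iv5 D97006)) (tt N87999 (iv6 F381429)) (tt N29304 F149613))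
theorem Q52437 : ∀ i, i < 52437 → P i := stepQ 52436 Q52436 (allL N52436 (tt N87982 (iv1 F381371)) (tt N87928 (iv0 F381176)) (tt N88001 D190882) (tt N27775 (iv3 D97007)) (tt N87377 (iv4 F379158)) (tt N52238 (iv5 F367252)) (tt N88002 D190883) (tt N51886 F149616))
theorem Q52438 : ∀ i, i < 52438 → P i := stepQ 52437 Q52437 (allL N52437 (tt N88003 D190884) (tt N88004 D190885) (tt N51885 F149617) (tt N88002 (iv3 F381444)) (tt N87440 (iv4 F379339)) (tt N52244 (iv5 F367205)) (tt N27775 (iv6 D97008)) (tt N88005 D190886))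
theorem Q52439 : ∀ i, i < 52439 → P i := stepQ 52438 Q52438 (allL N52438 (tt N27790 F149620) (tt N84572 (iv0 F369739)) (tt N84573 F369742) (tt N27776 (iv3 D97009)) (tt N88006 D190887) (tt N52273 F149618) (tt N88007 D190888) (tt N51883 F149619))
theorem Q52440 : ∀ i, i < 52440 → P i := stepQ 52439 Q52439 (allL N52439 (tt N88008 D190889) (tt N88009 D190890) (tt N51888 F149621) (tt N88007 (iv3 F381455)) (tt N73502 F366254) (tt N52275 F149622) (tt N27776 (iv6 D97010)) (tt N88010 D190891))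
theorem Q52441 : ∀ i, i < 52441 → P i := stepQ 52440 Q52440 (allL N52440 (tt N51890 (iv1 F149626)) (tt N27777 (iv0 D97011)) (tt N29372 (iv2 F291218)) (tt N88011 D190892) (tt N27823 F149623) (tt N28758 F290795) (tt N88012 D190893) (tt N28757 (iv7 F291199)))
theorem Q52442 : ∀ i, i < 52442 → P i := stepQ 52441 Q52441 (allL N52441 (tt N27777 (iv1 D97012)) (tt N51890 F149627) (tt N28757 (iv2 F291197)) (tt N88013 D190894) (tt N27824 F149629) (tt N28707 F290786) (tt N88013 F381481) (tt N29372 (iv7 F291219)))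
theorem Q52443 : ∀ i, i < 52443 → P i := stepQ 52442 Q52442 (allL N52442 (tt N88014 D190895) (tt N88015 D190896) (tt N88016 D190897) (tt N27777 (iv3 D97013)) (tt N87957 (iv4 F381283)) (tt N88017 D190898) (tt N87978 (iv6 F381356)) (tt N88018 D190899))
theorem Q52444 : ∀ i, i < 52444 → P i := stepQ 52443 Q52443 (allL N52443 (tt N51462 F293811) (tt N84608 (iv0 F369855)) (tt N29362 F293812) (tt N88017 (iv3 F381485)) (tt N29353 F293813) (tt N27777 (iv5 D97014)) (tt N88019 D190900) (tt N29366 F293814))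
theorem Q52445 : ∀ i, i < 52445 → P i := stepQ 52444 Q52444 (allL N52444 (tt N28757 F291905) (tt N29372 F291906) (tt N51890 F149634) (tt N88018 (iv3 F381487)) (tt N27778 F149635) (tt N29366 (iv5 F293014)) (tt N88020 D190901) (tt N27777 (iv7 D97015)))
theorem Q52446 : ∀ i, i < 52446 → P i := stepQ 52445 Q52445 (allL N52445 (tt N88021 D190902) (tt N88022 D190903) (tt N51891 F149639) (tt N87960 (iv3 F381290)) (tt N88020 (iv4 F381497)) (tt N49886 F149640) (tt N27778 (iv6 D97016)) (tt N87981 (iv7 F381365)))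
theorem Q52447 : ∀ i, i < 52447 → P i := stepQ 52446 Q52446 (allL N52446 (tt N84585 (iv1 F369776)) (tt N84584 F369773) (tt N49888 F149641) (tt N27780 F149642) (tt N88023 D190904) (tt N27779 (iv5 D97017)) (tt N88024 D190905) (tt N51892 F149643))
theorem Q52448 : ∀ i, i < 52448 → P i := stepQ 52447 Q52447 (allL N52447 (tt N54221 (iv1 F292811)) (tt N54224 (iv0 F360809)) (tt N49902 F149644) (tt N88025 D190906) (tt N27780 (iv4 D97018)) (tt N51462 F360807) (tt N88026 D190907) (tt N51893 F149645))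
theorem Q52449 : ∀ i, i < 52449 → P i := stepQ 52448 Q52448 (allL N52448 (tt N88027 D190908) (tt N88028 D190909) (tt N49903 F149646) (tt N88024 (iv3 F381503)) (tt N88026 (iv4 F381508)) (tt N54960 (iv5 F158407)) (tt N27780 (iv6 D97019)) (tt N88029 D190910))
theorem Q52450 : ∀ i, i < 52450 → P i := stepQ 52449 Q52449 (allL N52449 (tt N53172 (iv1 F342534)) (tt N53171 (iv0 F342533)) (tt N49794 (iv2 F342532)) (tt N27781 (iv3 D97020)) (tt N52449 F149647) (tt N73853 F342531) (tt N55070 (iv6 F158570)) (tt N51447 (iv7 F291816)))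
theorem Q52451 : ∀ i, i < 52451 → P i := stepQ 52450 Q52450 (allL N52450 (tt N28702 F292257) (tt N28704 (iv0 F292814)) (tt N28739 F292258) (tt N73853 F342530) (tt N84608 (iv4 F369853)) (tt N27781 (iv5 D97021)) (tt N88030 D190911) (tt N28738 F292259))
theorem Q52452 : ∀ i, i < 52452 → P i := stepQ 52451 Q52451 (allL N52451 (tt N48606 F292401) (tt N48851 (iv0 F293043)) (tt N29356 F292402) (tt N29021 F292403) (tt N54204 F292404) (tt N27782 (iv5 D97029)) (tt N88031 D190912) (tt N29331 F292405))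
theorem Q52453 : ∀ i, i < 52453 → P i := stepQ 52452 Q52452 (allL N52452 (tt N29353 (iv1 F292809)) (tt N27784 (iv0 D97036)) (tt N29361 (iv2 F292171)) (tt N52782 F356222) (tt N54184 F291804) (tt N49927 F291805) (tt N88032 D190913) (tt N29360 (iv7 F292168)))
theorem Q52454 : ∀ i, i < 52454 → P i := stepQ 52453 Q52453 (allL N52453 (tt N84608 (iv1 F369856)) (tt N51462 F293848) (tt N29366 F293849) (tt N30151 F328555) (tt N27784 (iv4 D97038)) (tt N51890 F149684) (tt N30149 F328556) (tt N29362 F293850))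
theorem Q52455 : ∀ i, i < 52455 → P i := stepQ 52454 Q52454 (allL N52454 (tt N83574 (iv1 F356266)) (tt N49977 F356267) (tt N51785 F149693) (tt N87929 (iv3 F381179)) (tt N88033 D190914) (tt N27785 (iv5 D97041)) (tt N87791 (iv6 F380517)) (tt N82603 F295362))
theorem Q52456 : ∀ i, i < 52456 → P i := stepQ 52455 Q52455 (allL N52455 (tt N51861 F366341) (tt N87968 F381324) (tt N27788 F149701) (tt N45167 F149702) (tt N51300 F149703) (tt N88034 D190915) (tt N27786 (iv6 D97043)) (tt N87967 (iv7 F381315)))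
theorem Q52457 : ∀ i, i < 52457 → P i := stepQ 52456 Q52456 (allL N52456 (tt N51883 F158656) (tt N84573 F369743) (tt N27790 F149704) (tt N45152 F149705) (tt N88035 D190916) (tt N27787 (iv5 D97044)) (tt N88034 (iv6 F381540)) (tt N84572 (iv7 F369738)))
theorem Q52458 : ∀ i, i < 52458 → P i := stepQ 52457 Q52457 (allL N52457 (tt N87967 (iv1 F381320)) (tt N27788 (iv0 D97047)) (tt N51861 (iv2 F366339)) (tt N87962 (iv3 F381297)) (tt N88036 D190917) (tt N88037 D190918) (tt N88038 D190919) (tt N87968 (iv7 F381322)))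
theorem Q52459 : ∀ i, i < 52459 → P i := stepQ 52458 Q52458 (allL N52458 (tt N88039 D190920) (tt N80258 (iv0 F365879)) (tt N88034 (iv2 F381538)) (tt N27793 F149714) (tt N88040 D190921) (tt N27788 (iv5 D97049)) (tt N27790 F149715) (tt N88041 D190922))
theorem Q52460 : ∀ i, i < 52460 → P i := stepQ 52459 Q52459 (allL N52459 (tt N87968 (iv1 F381323)) (tt N51861 (iv0 F366340)) (tt N87967 (iv2 F381317)) (tt N27794 F149716) (tt N84155 (iv4 F368379)) (tt N88041 (iv5 F381556)) (tt N51855 F149717) (tt N27788 (iv7 D97050)))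
theorem Q52461 : ∀ i, i < 52461 → P i := stepQ 52460 Q52460 (allL N52460 (tt N87992 (iv1 F381412)) (tt N55510 (iv0 F356251)) (tt N51871 F149718) (tt N87983 (iv3 F381373)) (tt N79635 F365875) (tt N27789 (iv5 D97051)) (tt N45795 F365876) (tt N84571 (iv7 F369734)))
theorem Q52462 : ∀ i, i < 52462 → P i := stepQ 52461 Q52461 (allL N52461 (tt N84572 F369740) (tt N27790 (iv0 D97053)) (tt N51883 (iv2 F149720)) (tt N88001 (iv3 F381439)) (tt N88042 D190923) (tt N55292 (iv5 F159339)) (tt N88043 D190924) (tt N84573 (iv7 F369744)))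
theorem Q52463 : ∀ i, i < 52463 → P i := stepQ 52462 Q52462 (allL N52462 (tt N88044 D190925) (tt N88045 D190926) (tt N88035 (iv2 F381542)) (tt N74106 F366034) (tt N27790 (iv4 D97054)) (tt N88046 D190927) (tt N88040 (iv6 F381554)) (tt N84574 (iv7 F369745)))
theorem Q52464 : ∀ i, i < 52464 → P i := stepQ 52463 Q52463 (allL N52463 (tt N51855 F366367) (tt N51848 (iv0 F361110)) (tt N51853 F361106) (tt N27791 (iv3 D97056)) (tt N77651 F361109) (tt N88047 D190928) (tt N58506 (iv6 F361107)) (tt N51817 F348960))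
theorem Q52465 : ∀ i, i < 52465 → P i := stepQ 52464 Q52464 (allL N52464 (tt N84633 (iv1 F369939)) (tt N84637 F369951) (tt N51815 F361118) (tt N88047 (iv3 F381572)) (tt N52480 F361121) (tt N27791 (iv5 D97058)) (tt N52479 (iv6 F361120)) (tt N51819 F348968))
theorem Q52466 : ∀ i, i < 52466 → P i := stepQ 52465 Q52465 (allL N52465 (tt N81706 F361115) (tt N88048 D190929) (tt N51816 (iv2 F361113)) (tt N58506 F361108) (tt N77417 (iv4 F361114)) (tt N52225 F149722) (tt N27791 (iv6 D97059)) (tt N87076 (iv7 F378296)))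
theorem Q52467 : ∀ i, i < 52467 → P i := stepQ 52466 Q52466 (allL N52466 (tt N58514 (iv1 F348959)) (tt N58513 F361148) (tt N58516 (iv2 F348953)) (tt N27792 (iv3 D97061)) (tt N37947 F348931) (tt N88049 D190930) (tt N88050 D190931) (tt N51813 (iv7 F348954)))
theorem Q52468 : ∀ i, i < 52468 → P i := stepQ 52467 Q52467 (allL N52467 (tt N84637 (iv1 F369950)) (tt N84633 F369940) (tt N51819 F361116) (tt N88049 (iv3 F381582)) (tt N87240 (iv4 F378856)) (tt N27792 (iv5 D97063)) (tt N88051 D190932) (tt N51815 (iv7 F361117)))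
theorem Q52469 : ∀ i, i < 52469 → P i := stepQ 52468 Q52468 (allL N52468 (tt N66654 F320364) (tt N66676 F320365) (tt N51820 (iv2 F348970)) (tt N88050 (iv3 F381585)) (tt N42005 F320367) (tt N88052 D190933) (tt N27792 (iv6 D97064)) (tt N66674 F361088))
theorem Q52470 : ∀ i, i < 52470 → P i := stepQ 52469 Q52469 (allL N52469 (tt N51824 (iv1 F149730)) (tt N27793 (iv0 D97065)) (tt N51821 (iv2 F361127)) (tt N88053 D190934) (tt N87384 (iv4 F379184)) (tt N66713 (iv5 F361128)) (tt N88054 D190935) (tt N51822 F361126))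
theorem Q52471 : ∀ i, i < 52471 → P i := stepQ 52470 Q52470 (allL N52470 (tt N27793 (iv1 D97066)) (tt N51824 F149724) (tt N51822 F361124) (tt N88055 D190936) (tt N87385 (iv4 F379190)) (tt N51653 (iv5 F149725)) (tt N80263 (iv6 F361123)) (tt N51821 (iv7 F361125)))
theorem Q52472 : ∀ i, i < 52472 → P i := stepQ 52471 Q52471 (allL N52471 (tt N67030 (iv1 F366331)) (tt N66708 F340394) (tt N51823 F149726) (tt N88056 D190937) (tt N27793 (iv4 D97067)) (tt N67056 F340393) (tt N27802 F149727) (tt N88057 D190938))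
theorem Q52473 : ∀ i, i < 52473 → P i := stepQ 52472 Q52472 (allL N52472 (tt N51822 (iv1 F149731)) (tt N51821 F149732) (tt N51824 F149728) (tt N88041 (iv3 F381555)) (tt N88057 (iv4 F381612)) (tt N27794 F149729) (tt N84580 (iv6 F369753)) (tt N27793 (iv7 D97068)))
theorem Q52474 : ∀ i, i < 52474 → P i := stepQ 52473 Q52473 (allL N52473 (tt N49951 F149736) (tt N49948 F149737) (tt N51829 F149733) (tt N81176 (iv3 F365447)) (tt N27795 (iv4 D97069)) (tt N51732 F149735) (tt N88058 D190939) (tt N51834 F149734))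
theorem Q52475 : ∀ i, i < 52475 → P i := stepQ 52474 Q52474 (allL N52474 (tt N79322 F344659) (tt N46328 F344660) (tt N51830 F149738) (tt N84184 (iv3 F368451)) (tt N88058 (iv4 F381618)) (tt N45798 F344661) (tt N27795 (iv6 D97070)) (tt N79323 F344662))
theorem Q52476 : ∀ i, i < 52476 → P i := stepQ 52475 Q52475 (allL N52475 (tt N27797 (iv1 D97072)) (tt N51826 F149745) (tt N51825 F367271) (tt N51877 F367272) (tt N84324 (iv4 F368904)) (tt N88059 D190940) (tt N51877 F367273) (tt N48752 F367274))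
theorem Q52477 : ∀ i, i < 52477 → P i := stepQ 52476 Q52476 (allL N52476 (tt N48752 F289557) (tt N51825 F149744) (tt N27797 (iv2 D97073)) (tt N51832 F149741) (tt N28040 (iv4 F149749)) (tt N88060 D190941) (tt N88061 D190942) (tt N51826 F149743))
theorem Q52478 : ∀ i, i < 52478 → P i := stepQ 52477 Q52477 (allL N52477 (tt N88062 D190943) (tt N88063 D190944) (tt N88060 (iv2 F381626)) (tt N27798 F149750) (tt N81138 F364880) (tt N27797 (iv5 D97074)) (tt N88064 D190945) (tt N51827 F149751))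
theorem Q52479 : ∀ i, i < 52479 → P i := stepQ 52478 Q52478 (allL N52478 (tt N63497 F326525) (tt N63499 F326526) (tt N88061 (iv2 F381631)) (tt N27799 F149752) (tt N48614 F149753) (tt N34367 (iv5 F327290)) (tt N27797 (iv6 D97075)) (tt N44091 F326527))
theorem Q52480 : ∀ i, i < 52480 → P i := stepQ 52479 Q52479 (allL N52479 (tt N49948 F149757) (tt N49951 F149758) (tt N51834 F149754) (tt N80819 (iv3 F364878)) (tt N27798 (iv4 D97076)) (tt N51729 F149755) (tt N52464 F361120) (tt N51829 F149756))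
theorem Q52481 : ∀ i, i < 52481 → P i := stepQ 52480 Q52480 (allL N52480 (tt N87498 (iv1 F379561)) (tt N88065 D190946) (tt N51835 F149759) (tt N88064 (iv3 F381648)) (tt N52464 (iv4 F361121)) (tt N55064 (iv5 F158554)) (tt N27798 (iv6 D97077)) (tt N87209 (iv7 F378769)))
theorem Q52482 : ∀ i, i < 52482 → P i := stepQ 52481 Q52481 (allL N52481 (tt N51860 F149761) (tt N51849 F289951) (tt N51858 F149762) (tt N27800 (iv3 D97078)) (tt N88066 D190947) (tt N54451 (iv5 F156948)) (tt N88067 D190948) (tt N51839 F149760))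
theorem Q52483 : ∀ i, i < 52483 → P i := stepQ 52482 Q52482 (allL N52482 (tt N88068 D190949) (tt N88069 D190950) (tt N51838 F149763) (tt N88067 (iv3 F381660)) (tt N86775 (iv4 F377140)) (tt N52122 F149764) (tt N27800 (iv6 D97079)) (tt N86425 (iv7 F376174)))
theorem Q52484 : ∀ i, i < 52484 → P i := stepQ 52483 Q52483 (allL N52483 (tt N87927 F381171) (tt N88059 (iv0 F381624)) (tt N88070 D190951) (tt N27801 (iv3 D97080)) (tt N88071 D190952) (tt N49175 F149765) (tt N87247 (iv6 F378870)) (tt N51836 F149766))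
theorem Q52485 : ∀ i, i < 52485 → P i := stepQ 52484 Q52484 (allL N52484 (tt N88072 D190953) (tt N88073 D190954) (tt N88074 D190955) (tt N27802 (iv3 D97082)) (tt N74106 (iv4 F366035)) (tt N55428 (iv5 F160249)) (tt N88056 (iv6 F381610)) (tt N84576 (iv7 F369748)))
theorem Q52486 : ∀ i, i < 52486 → P i := stepQ 52485 Q52485 (allL N52485 (tt N82802 (iv1 F366972)) (tt N80683 (iv0 F270439)) (tt N51899 F149769) (tt N51278 F149770) (tt N27805 F149771) (tt N88075 D190956) (tt N27803 (iv6 D97083)) (tt N52040 F157634))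
theorem Q52487 : ∀ i, i < 52487 → P i := stepQ 52486 Q52486 (allL N52486 (tt N52002 (iv1 F342251)) (tt N51757 F342250) (tt N51900 F149772) (tt N51937 F149773) (tt N79990 (iv4 F259256)) (tt N88076 D190957) (tt N27804 (iv6 D97084)) (tt N52001 F342259))
theorem Q52488 : ∀ i, i < 52488 → P i := stepQ 52487 Q52487 (allL N52487 (tt N52071 (iv1 F157798)) (tt N51771 (iv0 F157797)) (tt N51901 F149775) (tt N51938 F149776) (tt N88077 D190958) (tt N27805 (iv5 D97087)) (tt N88076 (iv6 F381697)) (tt N52041 (iv7 F157641)))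
theorem Q52489 : ∀ i, i < 52489 → P i := stepQ 52488 Q52488 (allL N52488 (tt N53250 (iv1 F153205)) (tt N51738 F149787) (tt N46115 F149783) (tt N27807 F149784) (tt N35077 F149785) (tt N27806 (iv5 D97089)) (tt N88078 D190959) (tt N43733 F149786))
theorem Q52490 : ∀ i, i < 52490 → P i := stepQ 52489 Q52489 (allL N52489 (tt N49556 F157254) (tt N47623 F335317) (tt N51935 F149788) (tt N27808 F149789) (tt N51843 F149790) (tt N88079 D190960) (tt N27806 (iv6 D97090)) (tt N82886 (iv7 F284733)))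
theorem Q52491 : ∀ i, i < 52491 → P i := stepQ 52490 Q52490 (allL N52490 (tt N66877 (iv1 F205973)) (tt N43145 F298366) (tt N43254 F149791) (tt N35079 F149792) (tt N27807 (iv4 D97091)) (tt N36506 (iv5 F149795)) (tt N88080 D190961) (tt N36549 F149793))
theorem Q52492 : ∀ i, i < 52492 → P i := stepQ 52491 Q52491 (allL N52491 (tt N27857 F350630) (tt N82206 F350631) (tt N51896 F149796) (tt N88078 (iv3 F381710)) (tt N88080 (iv4 F381721)) (tt N88081 D190962) (tt N27807 (iv6 D97092)) (tt N87888 (iv7 F380975)))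
theorem Q52493 : ∀ i, i < 52493 → P i := stepQ 52492 Q52492 (allL N52492 (tt N27882 F284560) (tt N78198 F335371) (tt N51897 F149798) (tt N88079 (iv3 F381716)) (tt N88082 D190963) (tt N27808 (iv5 D97095)) (tt N88081 (iv6 F381724)) (tt N83582 (iv7 F335377)))
theorem Q52494 : ∀ i, i < 52494 → P i := stepQ 52493 Q52493 (allL N52493 (tt N51907 F149807) (tt N34108 F304282) (tt N27813 F149804) (tt N50746 F149805) (tt N27809 (iv4 D97097)) (tt N64658 (iv5 F197994)) (tt N50757 (iv6 F149809)) (tt N51902 F149806))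
theorem Q52495 : ∀ i, i < 52495 → P i := stepQ 52494 Q52494 (allL N52494 (tt N71721 F361971) (tt N79957 F361974) (tt N27814 F149810) (tt N50740 F149811) (tt N50757 F149812) (tt N88083 D190964) (tt N27809 (iv6 D97098)) (tt N88084 D190965))
theorem Q52496 : ∀ i, i < 52496 → P i := stepQ 52495 Q52495 (allL N52495 (tt N27818 (iv1 F149820)) (tt N27810 (iv0 D97099)) (tt N27815 F283556) (tt N82827 (iv3 F284519)) (tt N83684 (iv4 F288480)) (tt N88085 D190966) (tt N84647 (iv6 F370017)) (tt N27816 F283557))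
theorem Q52497 : ∀ i, i < 52497 → P i := stepQ 52496 Q52496 (allL N52496 (tt N27810 (iv1 D97100)) (tt N27818 F149813) (tt N27816 F283554) (tt N27832 (iv3 F149814)) (tt N88086 D190967) (tt N88087 D190968) (tt N52045 (iv6 F365308)) (tt N27815 F283555))
theorem Q52498 : ∀ i, i < 52498 → P i := stepQ 52497 Q52497 (allL N52497 (tt N88088 D190969) (tt N88089 D190970) (tt N27817 F149815) (tt N51939 F149816) (tt N88090 D190971) (tt N27810 (iv5 D97101)) (tt N88083 (iv6 F381731)) (tt N88091 D190972))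
theorem Q52499 : ∀ i, i < 52499 → P i := stepQ 52498 Q52498 (allL N52498 (tt N27816 (iv1 F149821)) (tt N27815 (iv0 F149822)) (tt N27818 F149817) (tt N51940 F149818) (tt N52873 (iv4 F151755)) (tt N88091 (iv5 F381769)) (tt N49896 F149819) (tt N27810 (iv7 D97102)))
theorem Q52500 : ∀ i, i < 52500 → P i := stepQ 52499 Q52499 (allL N52499 (tt N29144 F335522) (tt N44155 F335523) (tt N51906 F149835) (tt N84157 (iv3 F368386)) (tt N63597 F335524) (tt N88092 D190973) (tt N27812 (iv6 D97106)) (tt N77798 (iv7 F339747)))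
theorem Q52501 : ∀ i, i < 52501 → P i := stepQ 52500 Q52500 (allL N52500 (tt N27813 (iv1 D97107)) (tt N51902 F149836) (tt N34108 (iv2 F301495)) (tt N43767 (iv3 F149841)) (tt N48905 F149838) (tt N34060 F300954) (tt N88093 D190974) (tt N51907 F149837))
theorem Q52502 : ∀ i, i < 52502 → P i := stepQ 52501 Q52501 (allL N52501 (tt N46134 F149844) (tt N34257 F300844) (tt N64658 (iv2 F197992)) (tt N47034 F149842) (tt N54131 (iv4 F156068)) (tt N27813 (iv5 D97108)) (tt N37065 F315818) (tt N47968 (iv7 F301506)))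
theorem Q52503 : ∀ i, i < 52503 → P i := stepQ 52502 Q52502 (allL N52502 (tt N32014 F348882) (tt N69123 (iv0 F336920)) (tt N50757 F149846) (tt N65120 (iv3 F348881)) (tt N27814 F149847) (tt N37902 F325473) (tt N27813 (iv6 D97109)) (tt N69132 (iv7 F348927)))
theorem Q52504 : ∀ i, i < 52504 → P i := stepQ 52503 Q52503 (allL N52503 (tt N88084 (iv1 F381737)) (tt N27814 (iv0 D97110)) (tt N71721 F354599) (tt N61078 (iv3 F348884)) (tt N79912 F348883) (tt N88094 D190975) (tt N32437 F354600) (tt N79957 F348885))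
theorem Q52505 : ∀ i, i < 52505 → P i := stepQ 52504 Q52504 (allL N52504 (tt N27814 (iv1 D97111)) (tt N88084 F381736) (tt N79957 (iv2 F357959)) (tt N88095 D190976) (tt N88096 D190977) (tt N88097 D190978) (tt N88098 D190979) (tt N71721 F357958))
theorem Q52506 : ∀ i, i < 52506 → P i := stepQ 52505 Q52505 (allL N52505 (tt N88099 D190980) (tt N88100 D190981) (tt N88083 (iv2 F381729)) (tt N27821 F149848) (tt N88101 D190982) (tt N27814 (iv5 D97112)) (tt N27817 F149849) (tt N88102 D190983))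
theorem Q52507 : ∀ i, i < 52507 → P i := stepQ 52506 Q52506 (allL N52506 (tt N79957 (iv1 F361973)) (tt N71721 (iv0 F361972)) (tt N88084 (iv2 F381732)) (tt N27822 F149850) (tt N69132 F348928) (tt N88102 (iv5 F381800)) (tt N51911 F149851) (tt N27814 (iv7 D97113)))
theorem Q52508 : ∀ i, i < 52508 → P i := stepQ 52507 Q52507 (allL N52507 (tt N84324 F368905) (tt N80675 (iv0 F353222)) (tt N83684 (iv2 F288479)) (tt N51280 F149853) (tt N27815 (iv4 D97115)) (tt N88103 D190984) (tt N88104 D190985) (tt N88086 (iv7 F381746)))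
theorem Q52509 : ∀ i, i < 52509 → P i := stepQ 52508 Q52508 (allL N52508 (tt N88105 D190986) (tt N55390 (iv0 F370026)) (tt N88085 (iv2 F381738)) (tt N84596 (iv3 F369818)) (tt N88106 D190987) (tt N27815 (iv5 D97116)) (tt N88107 D190988) (tt N88087 (iv7 F381751)))
theorem Q52510 : ∀ i, i < 52510 → P i := stepQ 52509 Q52509 (allL N52509 (tt N84648 (iv1 F370024)) (tt N49922 (iv0 F160326)) (tt N84647 (iv2 F370016)) (tt N52062 F350449) (tt N88104 (iv4 F381803)) (tt N55443 F160325) (tt N27815 (iv6 D97117)) (tt N84646 (iv7 F370011)))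
theorem Q52511 : ∀ i, i < 52511 → P i := stepQ 52510 Q52510 (allL N52510 (tt N49538 (iv1 F353210)) (tt N84581 (iv0 F369762)) (tt N82830 (iv2 F284520)) (tt N27816 (iv3 D97119)) (tt N53070 F152403) (tt N88108 D190989) (tt N88109 D190990) (tt N82827 (iv7 F284518)))
theorem Q52512 : ∀ i, i < 52512 → P i := stepQ 52511 Q52511 (allL N52511 (tt N80675 (iv1 F353223)) (tt N84324 (iv0 F368903)) (tt N88086 (iv2 F381743)) (tt N48534 (iv3 F149855)) (tt N27816 (iv4 D97120)) (tt N88110 D190991) (tt N88111 D190992) (tt N83684 (iv7 F288481)))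
theorem Q52513 : ∀ i, i < 52513 → P i := stepQ 52512 Q52512 (allL N52512 (tt N55390 F365315) (tt N88105 F381806) (tt N88087 (iv2 F381749)) (tt N88108 (iv3 F381810)) (tt N88112 D190993) (tt N27816 (iv5 D97121)) (tt N88113 D190994) (tt N88085 (iv7 F381741)))
theorem Q52514 : ∀ i, i < 52514 → P i := stepQ 52513 Q52513 (allL N52513 (tt N50627 F365310) (tt N41158 F365311) (tt N52045 F365312) (tt N88109 (iv3 F381814)) (tt N88111 (iv4 F381825)) (tt N63194 F365313) (tt N27816 (iv6 D97122)) (tt N52046 F365314))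
theorem Q52515 : ∀ i, i < 52515 → P i := stepQ 52514 Q52514 (allL N52514 (tt N88091 (iv1 F381771)) (tt N27817 (iv0 D97123)) (tt N88088 F381754) (tt N84599 (iv3 F370216)) (tt N88114 D190995) (tt N84685 F370215) (tt N88115 D190996) (tt N88089 (iv7 F381758)))
theorem Q52516 : ∀ i, i < 52516 → P i := stepQ 52515 Q52515 (allL N52515 (tt N27817 (iv1 D97124)) (tt N88091 F381770) (tt N88089 F381761) (tt N88116 D190997) (tt N88117 D190998) (tt N88118 D190999) (tt N88119 D191000) (tt N88088 F381756))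
theorem Q52517 : ∀ i, i < 52517 → P i := stepQ 52516 Q52516 (allL N52516 (tt N87242 F378859) (tt N88120 D191001) (tt N88090 (iv2 F381762)) (tt N88121 D191002) (tt N27817 (iv4 D97125)) (tt N88122 D191003) (tt N88101 (iv6 F381798)) (tt N88123 D191004))
theorem Q52518 : ∀ i, i < 52518 → P i := stepQ 52517 Q52517 (allL N52517 (tt N88089 (iv1 F381757)) (tt N88088 (iv0 F381755)) (tt N88091 (iv2 F381766)) (tt N27826 F149856) (tt N88123 (iv4 F381844)) (tt N27818 F149857) (tt N88124 D191005) (tt N27817 (iv7 D97126)))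
theorem Q52519 : ∀ i, i < 52519 → P i := stepQ 52518 Q52518 (allL N52518 (tt N75947 F362067) (tt N51736 F362087) (tt N51922 F362072) (tt N27819 (iv3 D97128)) (tt N40633 F317682) (tt N88125 D191006) (tt N40632 F317683) (tt N51957 F362081))
theorem Q52520 : ∀ i, i < 52520 → P i := stepQ 52519 Q52519 (allL N52519 (tt N52611 F150040) (tt N88126 D191007) (tt N51956 F366292) (tt N88125 (iv3 F381852)) (tt N88127 D191008) (tt N27819 (iv5 D97130)) (tt N84629 (iv6 F369913)) (tt N51958 F366166))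
theorem Q52521 : ∀ i, i < 52521 → P i := stepQ 52520 Q52520 (allL N52520 (tt N88126 (iv1 F381854)) (tt N52611 (iv0 F363394)) (tt N51958 (iv2 F366167)) (tt N51925 F366293) (tt N88128 D191009) (tt N27820 (iv5 D97135)) (tt N88129 D191010) (tt N51956 (iv7 F366291)))
theorem Q52522 : ∀ i, i < 52522 → P i := stepQ 52521 Q52521 (allL N52521 (tt N52028 F363395) (tt N52032 F363397) (tt N51959 (iv2 F363399)) (tt N51926 (iv3 F363400)) (tt N66651 (iv4 F363396)) (tt N87119 (iv5 F378411)) (tt N27820 (iv6 D97136)) (tt N55206 F363398))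
theorem Q52523 : ∀ i, i < 52523 → P i := stepQ 52522 Q52522 (allL N52522 (tt N51963 (iv1 F149867)) (tt N27821 (iv0 D97137)) (tt N51960 F290437) (tt N88130 D191011) (tt N87976 (iv4 F381346)) (tt N87893 (iv5 F380995)) (tt N88131 D191012) (tt N51961 F290435))
theorem Q52524 : ∀ i, i < 52524 → P i := stepQ 52523 Q52523 (allL N52523 (tt N27821 (iv1 D97138)) (tt N51963 F149861) (tt N51961 (iv2 F290434)) (tt N51928 (iv3 F366327)) (tt N87977 (iv4 F381353)) (tt N51983 (iv5 F149862)) (tt N88132 D191013) (tt N51960 (iv7 F290436)))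
theorem Q52525 : ∀ i, i < 52525 → P i := stepQ 52524 Q52524 (allL N52524 (tt N87290 (iv1 F378994)) (tt N87293 (iv0 F378999)) (tt N51962 F149863) (tt N88133 D191014) (tt N27821 (iv4 D97139)) (tt N88134 D191015) (tt N27825 F149864) (tt N88135 D191016))
theorem Q52526 : ∀ i, i < 52526 → P i := stepQ 52525 Q52525 (allL N52525 (tt N51961 (iv1 F149868)) (tt N51960 F149869) (tt N51963 F149865) (tt N88102 (iv3 F381799)) (tt N88135 (iv4 F381885)) (tt N27822 F149866) (tt N88136 D191017) (tt N27821 (iv7 D97140)))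
theorem Q52527 : ∀ i, i < 52527 → P i := stepQ 52526 Q52526 (allL N52526 (tt N84583 F369771) (tt N51737 F289705) (tt N51931 F149870) (tt N27823 (iv3 D97141)) (tt N88137 D191018) (tt N29354 F290794) (tt N88138 D191019) (tt N51964 F149871))
theorem Q52528 : ∀ i, i < 52528 → P i := stepQ 52527 Q52527 (allL N52527 (tt N88139 D191020) (tt N88140 D191021) (tt N29373 (iv2 F291220)) (tt N88138 (iv3 F381897)) (tt N88012 (iv4 F381476)) (tt N48680 F290796) (tt N27823 (iv6 D97142)) (tt N88141 D191022))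
theorem Q52529 : ∀ i, i < 52529 → P i := stepQ 52528 Q52528 (allL N52528 (tt N88142 D191023) (tt N88143 D191024) (tt N51965 F149873) (tt N29414 F149874) (tt N88013 (iv4 F381477)) (tt N29401 F149875) (tt N27824 (iv6 D97143)) (tt N55500 F340374))
theorem Q52530 : ∀ i, i < 52530 → P i := stepQ 52529 Q52529 (allL N52529 (tt N88144 D191025) (tt N88145 D191026) (tt N88146 D191027) (tt N27825 (iv3 D97144)) (tt N88121 (iv4 F381841)) (tt N88147 D191028) (tt N88133 (iv6 F381876)) (tt N88148 D191029))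
theorem Q52531 : ∀ i, i < 52531 → P i := stepQ 52530 Q52530 (allL N52530 (tt N55372 F292267) (tt N55374 F292268) (tt N28740 F292269) (tt N88147 (iv3 F381922)) (tt N28702 F292270) (tt N27825 (iv5 D97145)) (tt N88149 D191030) (tt N28746 F292271))
theorem Q52532 : ∀ i, i < 52532 → P i := stepQ 52531 Q52531 (allL N52531 (tt N51967 (iv1 F149879)) (tt N51966 F149880) (tt N51969 F149877) (tt N88148 (iv3 F381930)) (tt N27826 F149878) (tt N28746 F290897) (tt N88150 D191031) (tt N27825 (iv7 D97146)))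
theorem Q52533 : ∀ i, i < 52533 → P i := stepQ 52532 Q52532 (allL N52532 (tt N88151 D191032) (tt N88152 D191033) (tt N51970 F149881) (tt N88124 (iv3 F381848)) (tt N88150 (iv4 F381938)) (tt N49899 F149882) (tt N27826 (iv6 D97147)) (tt N88136 (iv7 F381891)))
theorem Q52534 : ∀ i, i < 52534 → P i := stepQ 52533 Q52533 (allL N52533 (tt N51744 F157621) (tt N86279 (iv0 F375663)) (tt N51898 F149883) (tt N27828 F149884) (tt N51844 F149885) (tt N88153 D191034) (tt N27827 (iv6 D97148)) (tt N82987 (iv7 F285231)))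
theorem Q52535 : ∀ i, i < 52535 → P i := stepQ 52534 Q52534 (allL N52534 (tt N83588 F292588) (tt N27885 F157802) (tt N51938 F149887) (tt N88153 (iv3 F381942)) (tt N51263 (iv4 F331362)) (tt N27828 (iv5 D97151)) (tt N79980 (iv6 F259228)) (tt N51374 (iv7 F331379)))
theorem Q52536 : ∀ i, i < 52536 → P i := stepQ 52535 Q52535 (allL N52535 (tt N51768 F178373) (tt N52082 (iv0 F177450)) (tt N51936 F149895) (tt N51897 F149896) (tt N82476 F366983) (tt N27829 (iv5 D97155)) (tt N66527 (iv6 F355233)) (tt N52057 (iv7 F157290)))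
theorem Q52537 : ∀ i, i < 52537 → P i := stepQ 52536 Q52536 (allL N52536 (tt N84599 (iv1 F369831)) (tt N84598 F369828) (tt N27833 F149904) (tt N51904 F149905) (tt N84494 (iv4 F369542)) (tt N27830 (iv5 D97157)) (tt N61080 (iv6 F177924)) (tt N84597 (iv7 F369824)))
theorem Q52538 : ∀ i, i < 52538 → P i := stepQ 52537 Q52537 (allL N52537 (tt N84581 F369761) (tt N49538 (iv0 F353209)) (tt N82827 (iv2 F284517)) (tt N27831 (iv3 D97159)) (tt N53069 (iv4 F152400)) (tt N79310 (iv5 F353204)) (tt N47621 F353206) (tt N82830 (iv7 F284522)))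
theorem Q52539 : ∀ i, i < 52539 → P i := stepQ 52538 Q52538 (allL N52538 (tt N84618 (iv1 F369886)) (tt N49907 (iv0 F353186)) (tt N84596 (iv2 F369817)) (tt N79310 F353203) (tt N88154 D191035) (tt N27831 (iv5 D97160)) (tt N79308 (iv6 F353179)) (tt N84594 (iv7 F369811)))
theorem Q52540 : ∀ i, i < 52540 → P i := stepQ 52539 Q52539 (allL N52539 (tt N52058 (iv1 F353185)) (tt N49919 (iv0 F353183)) (tt N52062 F350451) (tt N47621 F353178) (tt N51293 F149908) (tt N79309 F353176) (tt N27831 (iv6 D97161)) (tt N52061 (iv7 F350463)))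
theorem Q52541 : ∀ i, i < 52541 → P i := stepQ 52540 Q52540 (allL N52540 (tt N49907 (iv1 F367229)) (tt N84618 F369887) (tt N84594 (iv2 F369810)) (tt N88087 (iv3 F381750)) (tt N88155 D191036) (tt N27832 (iv5 D97163)) (tt N88156 D191037) (tt N84596 (iv7 F369819)))
theorem Q52542 : ∀ i, i < 52542 → P i := stepQ 52541 Q52541 (allL N52541 (tt N51225 F367217) (tt N84642 (iv0 F369977)) (tt N84595 (iv2 F369814)) (tt N52045 F365306) (tt N51295 F149911) (tt N55015 (iv5 F365602)) (tt N27832 (iv6 D97164)) (tt N84641 (iv7 F369970)))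
theorem Q52543 : ∀ i, i < 52543 → P i := stepQ 52542 Q52542 (allL N52542 (tt N84597 (iv1 F369826)) (tt N27833 (iv0 D97165)) (tt N84599 F369834) (tt N88157 D191038) (tt N87955 (iv4 F381281)) (tt N55242 F251681) (tt N88158 D191039) (tt N84598 F369830))
theorem Q52544 : ∀ i, i < 52544 → P i := stepQ 52543 Q52543 (allL N52543 (tt N27833 (iv1 D97166)) (tt N84597 (iv0 F369825)) (tt N84598 F369829) (tt N88089 F381760) (tt N87956 (iv4 F381282)) (tt N55243 (iv5 F251668)) (tt N88073 (iv6 F381685)) (tt N84599 (iv7 F369832)))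
theorem Q52545 : ∀ i, i < 52545 → P i := stepQ 52544 Q52544 (allL N52544 (tt N88159 D191040) (tt N88160 D191041) (tt N84494 (iv2 F369540)) (tt N88161 D191042) (tt N27833 (iv4 D97167)) (tt N88162 D191043) (tt N79025 F251897) (tt N84600 (iv7 F369835)))
theorem Q52546 : ∀ i, i < 52546 → P i := stepQ 52545 Q52545 (allL N52545 (tt N55129 (iv1 F335112)) (tt N55218 (iv0 F335108)) (tt N51924 (iv2 F340731)) (tt N41329 F340696) (tt N67051 F335110) (tt N52565 F149952) (tt N27834 (iv6 D97172)) (tt N55216 (iv7 F350023)))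
theorem Q52547 : ∀ i, i < 52547 → P i := stepQ 52546 Q52546 (allL N52546 (tt N51736 F362064) (tt N75947 F362065) (tt N51957 F362080) (tt N27835 (iv3 D97174)) (tt N44017 F319353) (tt N88163 D191044) (tt N74847 F319354) (tt N51922 F362074))
theorem Q52548 : ∀ i, i < 52548 → P i := stepQ 52547 Q52547 (allL N52547 (tt N84631 (iv1 F369927)) (tt N75456 (iv0 F363585)) (tt N51925 (iv2 F340395)) (tt N88163 (iv3 F381966)) (tt N84592 (iv4 F369800)) (tt N27835 (iv5 D97176)) (tt N84616 (iv6 F369873)) (tt N51923 F340391))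
theorem Q52549 : ∀ i, i < 52549 → P i := stepQ 52548 Q52548 (allL N52548 (tt N51930 (iv1 F149921)) (tt N27836 (iv0 D97178)) (tt N51927 (iv2 F366329)) (tt N51960 F353133) (tt N67030 F366330) (tt N52023 (iv5 F149923)) (tt N88164 D191045) (tt N51928 F366328))
theorem Q52550 : ∀ i, i < 52550 → P i := stepQ 52549 Q52549 (allL N52549 (tt N87213 (iv1 F378776)) (tt N87216 (iv0 F378780)) (tt N51929 F149917) (tt N88165 D191046) (tt N27836 (iv4 D97180)) (tt N67019 F364595) (tt N27839 F149918) (tt N88166 D191047))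
theorem Q52551 : ∀ i, i < 52551 → P i := stepQ 52550 Q52550 (allL N52550 (tt N51928 (iv1 F149922)) (tt N51927 F149924) (tt N51930 F149919) (tt N79023 F251888) (tt N88166 (iv4 F381980)) (tt N27837 F149920) (tt N84606 (iv6 F369843)) (tt N27836 (iv7 D97181)))
theorem Q52552 : ∀ i, i < 52552 → P i := stepQ 52551 Q52551 (allL N52551 (tt N51737 F289703) (tt N84583 (iv0 F369770)) (tt N51964 F149925) (tt N27838 (iv3 D97182)) (tt N88167 D191048) (tt N29390 F149926) (tt N55485 (iv6 F363599)) (tt N51931 F149927))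
theorem Q52553 : ∀ i, i < 52553 → P i := stepQ 52552 Q52552 (allL N52552 (tt N88168 D191049) (tt N88007 (iv0 F381457)) (tt N88169 D191050) (tt N27839 (iv3 D97184)) (tt N88161 (iv4 F381959)) (tt N55447 (iv5 F160330)) (tt N88165 (iv6 F381973)) (tt N84602 (iv7 F369838)))
theorem Q52554 : ∀ i, i < 52554 → P i := stepQ 52553 Q52553 (allL N52553 (tt N51973 F149932) (tt N51972 F149933) (tt N27841 F149930) (tt N56180 (iv3 F163144)) (tt N27840 (iv4 D97185)) (tt N42805 F301496) (tt N75758 F347822) (tt N51971 F149931))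
theorem Q52555 : ∀ i, i < 52555 → P i := stepQ 52554 Q52554 (allL N52554 (tt N88170 D191051) (tt N88171 D191052) (tt N27842 F149934) (tt N51977 F149935) (tt N75758 (iv4 F347819)) (tt N88172 D191053) (tt N27840 (iv6 D97186)) (tt N39597 F357974))
theorem Q52556 : ∀ i, i < 52556 → P i := stepQ 52555 Q52555 (allL N52555 (tt N27841 (iv1 D97187)) (tt N51971 F149936) (tt N51972 (iv2 F149939)) (tt N78332 F248331) (tt N52210 F149938) (tt N34257 F300854) (tt N82205 F347849) (tt N51973 F149937))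
theorem Q52557 : ∀ i, i < 52557 → P i := stepQ 52556 Q52556 (allL N52556 (tt N41603 F354582) (tt N88173 D191054) (tt N75758 F347821) (tt N42076 F347936) (tt N27842 F149943) (tt N75755 (iv5 F347934)) (tt N27841 (iv6 D97189)) (tt N42070 F347937))
theorem Q52558 : ∀ i, i < 52558 → P i := stepQ 52557 Q52557 (allL N52557 (tt N39597 F357977) (tt N27842 (iv0 D97190)) (tt N88170 F381991) (tt N66689 F347761) (tt N88174 D191055) (tt N88175 D191056) (tt N88176 D191057) (tt N88171 (iv7 F381995)))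
theorem Q52559 : ∀ i, i < 52559 → P i := stepQ 52558 Q52558 (allL N52558 (tt N27842 (iv1 D97191)) (tt N39597 F357987) (tt N88171 F382006) (tt N88177 D191058) (tt N88178 D191059) (tt N88179 D191060) (tt N88180 D191061) (tt N88170 F381993))
theorem Q52560 : ∀ i, i < 52560 → P i := stepQ 52559 Q52559 (allL N52559 (tt N88181 D191062) (tt N88182 D191063) (tt N88172 (iv2 F382007)) (tt N27845 F149944) (tt N88183 D191064) (tt N27842 (iv5 D97192)) (tt N29242 F149945) (tt N88184 D191065))
theorem Q52561 : ∀ i, i < 52561 → P i := stepQ 52560 Q52560 (allL N52560 (tt N88171 (iv1 F381994)) (tt N88170 F381990) (tt N39597 F316664) (tt N27846 F149946) (tt N42070 F316665) (tt N88184 (iv5 F382072)) (tt N31796 F316666) (tt N27842 (iv7 D97193)))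
theorem Q52562 : ∀ i, i < 52562 → P i := stepQ 52561 Q52561 (allL N52561 (tt N55217 F159191) (tt N75415 (iv0 F359865)) (tt N51982 (iv2 F290432)) (tt N66693 (iv3 F359864)) (tt N71039 F359863) (tt N27843 (iv5 D97197)) (tt N88185 D191066) (tt N51985 (iv7 F290430)))
theorem Q52563 : ∀ i, i < 52563 → P i := stepQ 52562 Q52562 (allL N52562 (tt N27864 F341058) (tt N87894 F381005) (tt N51983 (iv2 F290433)) (tt N66694 (iv3 F363404)) (tt N62607 F341011) (tt N51961 F149949) (tt N27843 (iv6 D97198)) (tt N87893 (iv7 F381000)))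
theorem Q52564 : ∀ i, i < 52564 → P i := stepQ 52563 Q52563 (allL N52563 (tt N52014 (iv1 F334501)) (tt N51756 F334512) (tt N51986 (iv2 F290442)) (tt N51975 F353135) (tt N66687 (iv4 F334508)) (tt N88186 D191067) (tt N27844 (iv6 D97203)) (tt N52012 (iv7 F290439)))
theorem Q52565 : ∀ i, i < 52565 → P i := stepQ 52564 Q52564 (allL N52564 (tt N51990 (iv1 F149957)) (tt N27845 (iv0 D97204)) (tt N51987 (iv2 F358010)) (tt N85713 (iv3 F373623)) (tt N84567 (iv4 F369713)) (tt N62390 (iv5 F358011)) (tt N85712 F373621) (tt N51988 F358009))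
theorem Q52566 : ∀ i, i < 52566 → P i := stepQ 52565 Q52565 (allL N52565 (tt N27845 (iv1 D97205)) (tt N51990 F149951) (tt N51988 F358001) (tt N51976 (iv3 F340698)) (tt N55159 F340379) (tt N52545 (iv5 F149952)) (tt N49956 (iv6 F340380)) (tt N51987 (iv7 F358008)))
theorem Q52567 : ∀ i, i < 52567 → P i := stepQ 52566 Q52566 (allL N52566 (tt N58378 F340703) (tt N31844 F340704) (tt N51989 F149953) (tt N88187 D191068) (tt N27845 (iv4 D97206)) (tt N88188 D191069) (tt N29244 F149954) (tt N58377 (iv7 F357996)))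
theorem Q52568 : ∀ i, i < 52568 → P i := stepQ 52567 Q52567 (allL N52567 (tt N51988 (iv1 F149958)) (tt N51987 F149959) (tt N51990 F149955) (tt N88184 (iv3 F382071)) (tt N58377 F357998) (tt N27846 F149956) (tt N55451 (iv6 F160333)) (tt N27845 (iv7 D97207)))
theorem Q52569 : ∀ i, i < 52569 → P i := stepQ 52568 Q52568 (allL N52568 (tt N66689 F316658) (tt N66688 F316659) (tt N27848 F149960) (tt N31803 F316660) (tt N45000 F149962) (tt N31802 F316661) (tt N27847 (iv6 D97208)) (tt N39595 F316662))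
theorem Q52570 : ∀ i, i < 52570 → P i := stepQ 52569 Q52569 (allL N52569 (tt N39595 F318860) (tt N27848 (iv0 D97209)) (tt N66689 (iv2 F347756)) (tt N80253 (iv3 F338520)) (tt N61493 (iv4 F338511)) (tt N44151 F338519) (tt N61492 (iv6 F361668)) (tt N66688 (iv7 F347765)))
theorem Q52571 : ∀ i, i < 52571 → P i := stepQ 52570 Q52570 (allL N52570 (tt N27848 (iv1 D97210)) (tt N39595 F318861) (tt N66688 (iv2 F347762)) (tt N88171 F381996) (tt N76030 (iv4 F338506)) (tt N44150 F338517) (tt N66532 F350494) (tt N66689 (iv7 F347758)))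
theorem Q52572 : ∀ i, i < 52572 → P i := stepQ 52571 Q52571 (allL N52571 (tt N39593 F318862) (tt N39592 F318863) (tt N31802 F318864) (tt N27849 F149963) (tt N88189 D191070) (tt N27848 (iv5 D97211)) (tt N29251 F149964) (tt N39594 F318865))
theorem Q52573 : ∀ i, i < 52573 → P i := stepQ 52572 Q52572 (allL N52572 (tt N31795 F318868) (tt N27849 (iv0 D97223)) (tt N41657 F318869) (tt N51987 F357999) (tt N41819 F318870) (tt N36292 (iv5 F319928)) (tt N88190 D191071) (tt N51976 (iv7 F317123)))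
theorem Q52574 : ∀ i, i < 52574 → P i := stepQ 52573 Q52573 (allL N52573 (tt N64453 F197243) (tt N61350 (iv0 F178662)) (tt N64624 (iv2 F197928)) (tt N27850 (iv3 D97227)) (tt N64420 (iv4 F196807)) (tt N47672 F149979) (tt N56066 F349463) (tt N51991 F149980))
theorem Q52575 : ∀ i, i < 52575 → P i := stepQ 52574 Q52574 (allL N52574 (tt N78932 F251432) (tt N49387 F149984) (tt N42402 F309804) (tt N33696 F309805) (tt N27850 (iv4 D97228)) (tt N43104 F309806) (tt N33694 F309807) (tt N51992 F149982))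
theorem Q52576 : ∀ i, i < 52576 → P i := stepQ 52575 Q52575 (allL N52575 (tt N49387 (iv1 F149991)) (tt N78932 (iv0 F251431)) (tt N51992 F149988) (tt N42406 F306216) (tt N27851 (iv4 D97231)) (tt N47380 F149989) (tt N56055 (iv6 F312518)) (tt N42402 (iv7 F308136)))
theorem Q52577 : ∀ i, i < 52577 → P i := stepQ 52576 Q52576 (allL N52576 (tt N74764 (iv1 F310946)) (tt N27852 (iv0 D97233)) (tt N64012 F332449) (tt N88191 D191072) (tt N45217 F332450) (tt N73354 F337014) (tt N56080 (iv6 F363914)) (tt N73389 (iv7 F334930)))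
theorem Q52578 : ∀ i, i < 52578 → P i := stepQ 52577 Q52577 (allL N52577 (tt N42630 F311479) (tt N74846 F311480) (tt N62735 F311481) (tt N27855 F149993) (tt N82162 (iv4 F348297)) (tt N27852 (iv5 D97235)) (tt N46560 F149994) (tt N74850 F311482))
theorem Q52579 : ∀ i, i < 52579 → P i := stepQ 52578 Q52578 (allL N52578 (tt N73389 (iv1 F334923)) (tt N64012 (iv0 F334911)) (tt N74764 (iv2 F310947)) (tt N27856 F149995) (tt N51997 F149996) (tt N74850 F334908) (tt N51997 F149997) (tt N27852 (iv7 D97236)))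
theorem Q52580 : ∀ i, i < 52580 → P i := stepQ 52579 Q52579 (allL N52579 (tt N88192 D191073) (tt N74762 F335033) (tt N73375 F333161) (tt N27853 (iv3 D97238)) (tt N45074 (iv4 F230422)) (tt N40260 F333162) (tt N40262 F333163) (tt N46615 F336825))
theorem Q52581 : ∀ i, i < 52581 → P i := stepQ 52580 Q52580 (allL N52580 (tt N41711 F330072) (tt N62377 (iv0 F330071)) (tt N46613 F336829) (tt N40260 F330063) (tt N88193 D191074) (tt N27853 (iv5 D97240)) (tt N40252 F330064) (tt N46617 F336830))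
theorem Q52582 : ∀ i, i < 52582 → P i := stepQ 52581 Q52581 (allL N52581 (tt N87701 (iv1 F380186)) (tt N88194 D191075) (tt N70076 F352579) (tt N27854 (iv3 D97243)) (tt N70060 F352586) (tt N47563 F352587) (tt N88195 D191076) (tt N46611 F336835))
theorem Q52583 : ∀ i, i < 52583 → P i := stepQ 52582 Q52582 (allL N52582 (tt N62377 F350181) (tt N41711 F348984) (tt N46617 F336838) (tt N47563 F348985) (tt N47568 F348986) (tt N27854 (iv5 D97245)) (tt N63762 (iv6 F348987)) (tt N46613 F336839))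
theorem Q52584 : ∀ i, i < 52584 → P i := stepQ 52583 Q52583 (allL N52583 (tt N88196 D191077) (tt N62607 F340994) (tt N46618 F336840) (tt N88195 (iv3 F382121)) (tt N87746 (iv4 F380336)) (tt N37618 F340995) (tt N27854 (iv6 D97246)) (tt N66730 F340996))
theorem Q52585 : ∀ i, i < 52585 → P i := stepQ 52584 Q52584 (allL N52584 (tt N27855 (iv1 D97248)) (tt N46621 F150001) (tt N46619 F313238) (tt N88197 D191078) (tt N47533 F335819) (tt N62732 (iv5 F311002)) (tt N79131 F308834) (tt N42622 F308835))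
theorem Q52586 : ∀ i, i < 52586 → P i := stepQ 52585 Q52585 (allL N52585 (tt N32577 F360947) (tt N88198 D191079) (tt N46620 F150002) (tt N45209 F360928) (tt N27855 (iv4 D97249)) (tt N88199 D191080) (tt N46563 F150003) (tt N88200 D191081))
theorem Q52587 : ∀ i, i < 52587 → P i := stepQ 52586 Q52586 (allL N52586 (tt N46619 (iv1 F150007)) (tt N42622 (iv0 F311003)) (tt N46621 F150004) (tt N74850 F308837) (tt N88200 (iv4 F382147)) (tt N27856 F150005) (tt N66572 (iv6 F315747)) (tt N27855 (iv7 D97250)))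
theorem Q52588 : ∀ i, i < 52588 → P i := stepQ 52587 Q52587 (allL N52587 (tt N82206 F350629) (tt N27857 (iv0 D97257)) (tt N87888 F380977) (tt N52015 (iv3 F347582)) (tt N88201 D191082) (tt N88202 D191083) (tt N52001 F346750) (tt N51896 (iv7 F346752)))
theorem Q52589 : ∀ i, i < 52589 → P i := stepQ 52588 Q52588 (allL N52588 (tt N87888 (iv1 F380974)) (tt N51896 (iv0 F350615)) (tt N27857 (iv2 D97259)) (tt N79965 F259105) (tt N82208 (iv4 F350614)) (tt N88203 D191084) (tt N76886 F350613) (tt N82206 F350624))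
theorem Q52590 : ∀ i, i < 52590 → P i := stepQ 52589 Q52589 (allL N52589 (tt N88204 D191085) (tt N83814 (iv0 F382165)) (tt N88203 (iv2 F382158)) (tt N27859 F150017) (tt N88205 D191087) (tt N27857 (iv5 D97261)) (tt N82121 F340430) (tt N87889 (iv7 F380980)))
theorem Q52591 : ∀ i, i < 52591 → P i := stepQ 52590 Q52590 (allL N52590 (tt N77789 F346908) (tt N88206 D191088) (tt N76886 F346948) (tt N27860 F150018) (tt N46275 F346949) (tt N53423 (iv5 F337158)) (tt N27857 (iv6 D97262)) (tt N88207 D191089))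
theorem Q52592 : ∀ i, i < 52592 → P i := stepQ 52591 Q52591 (allL N52591 (tt N27862 (iv1 F150025)) (tt N27858 (iv0 D97264)) (tt N77243 F334459) (tt N78679 F334460) (tt N52219 F334461) (tt N61755 F334462) (tt N52006 F334463) (tt N46530 F334464))
theorem Q52593 : ∀ i, i < 52593 → P i := stepQ 52592 Q52592 (allL N52592 (tt N88208 D191090) (tt N41940 (iv0 F150021)) (tt N42187 F309622) (tt N27858 (iv3 D97266)) (tt N82212 F350636) (tt N62460 (iv5 F318654)) (tt N41947 F309624) (tt N87891 (iv7 F380986)))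
theorem Q52594 : ∀ i, i < 52594 → P i := stepQ 52593 Q52593 (allL N52593 (tt N41862 F334482) (tt N44409 F334483) (tt N41548 F334484) (tt N41947 F334485) (tt N27860 F150022) (tt N33478 F334486) (tt N27858 (iv6 D97268)) (tt N42180 F334487))
theorem Q52595 : ∀ i, i < 52595 → P i := stepQ 52594 Q52594 (allL N52594 (tt N27863 (iv1 F150030)) (tt N27859 (iv0 D97270)) (tt N87381 (iv2 F379173)) (tt N88209 D191091) (tt N88210 D191092) (tt N41710 F321371) (tt N88211 D191093) (tt N87887 (iv7 F380969)))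
theorem Q52596 : ∀ i, i < 52596 → P i := stepQ 52595 Q52595 (allL N52595 (tt N27859 (iv1 D97271)) (tt N27863 F150027) (tt N87887 F380971) (tt N52009 (iv3 F358020)) (tt N88212 D191094) (tt N54980 F340414) (tt N84691 F370248) (tt N87381 (iv7 F379175)))
theorem Q52597 : ∀ i, i < 52597 → P i := stepQ 52596 Q52596 (allL N52596 (tt N88213 D191095) (tt N68620 F363584) (tt N56469 F340420) (tt N88214 D191096) (tt N27859 (iv4 D97272)) (tt N30102 F358362) (tt N56468 (iv6 F340434)) (tt N87892 (iv7 F380992)))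
theorem Q52598 : ∀ i, i < 52598 → P i := stepQ 52597 Q52597 (allL N52597 (tt N88215 D191097) (tt N88216 D191098) (tt N56452 (iv2 F340425)) (tt N82121 (iv3 F340428)) (tt N56468 F340426) (tt N60124 F340427) (tt N27859 (iv6 D97273)) (tt N88217 D191099))
theorem Q52599 : ∀ i, i < 52599 → P i := stepQ 52598 Q52598 (allL N52598 (tt N27860 (iv1 D97276)) (tt N66710 F334496) (tt N66709 (iv2 F334497)) (tt N52012 F353134) (tt N66637 (iv4 F330078)) (tt N55203 (iv5 F334498)) (tt N52023 (iv6 F150031)) (tt N51975 (iv7 F341048)))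
theorem Q52600 : ∀ i, i < 52600 → P i := stepQ 52599 Q52599 (allL N52599 (tt N29224 F150032) (tt N29276 (iv0 F150033)) (tt N29274 F288196) (tt N53423 F337152) (tt N77086 (iv4 F337157)) (tt N27860 (iv5 D97277)) (tt N60124 (iv6 F337159)) (tt N29273 F288197))
theorem Q52601 : ∀ i, i < 52601 → P i := stepQ 52600 Q52600 (allL N52600 (tt N66709 F334489) (tt N51975 F341047) (tt N66710 F334490) (tt N88207 (iv3 F382177)) (tt N42180 F334491) (tt N29273 F288198) (tt N87894 (iv6 F381004)) (tt N27860 (iv7 D97278)))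
theorem Q52602 : ∀ i, i < 52602 → P i := stepQ 52601 Q52601 (allL N52601 (tt N27861 (iv1 D97281)) (tt N79965 (iv0 F259102)) (tt N79981 (iv2 F259229)) (tt N52001 F342257) (tt N61088 (iv4 F259000)) (tt N88218 D191100) (tt N52015 (iv6 F347584)) (tt N51937 F258999))
theorem Q52603 : ∀ i, i < 52603 → P i := stepQ 52602 Q52602 (allL N52602 (tt N51937 (iv1 F288202)) (tt N79981 F288201) (tt N27861 (iv2 D97282)) (tt N82206 (iv3 F350626)) (tt N60991 (iv4 F288174)) (tt N88219 D191101) (tt N88220 D191102) (tt N79965 (iv7 F259104)))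
theorem Q52604 : ∀ i, i < 52604 → P i := stepQ 52603 Q52603 (allL N52603 (tt N69505 (iv1 F340436)) (tt N69501 (iv0 F360265)) (tt N88219 (iv2 F382224)) (tt N27863 F150035) (tt N56456 F340417) (tt N27861 (iv5 D97284)) (tt N88221 D191103) (tt N56453 (iv7 F340435)))
theorem Q52605 : ∀ i, i < 52605 → P i := stepQ 52604 Q52604 (allL N52604 (tt N88222 D191104) (tt N88223 D191105) (tt N88220 (iv2 F382229)) (tt N27864 F150036) (tt N79968 (iv4 F259112)) (tt N88224 D191106) (tt N27861 (iv6 D97285)) (tt N88225 D191107))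
theorem Q52606 : ∀ i, i < 52606 → P i := stepQ 52605 Q52605 (allL N52605 (tt N34396 F230420) (tt N88226 D191108) (tt N88227 D191109) (tt N27862 (iv3 D97286)) (tt N79925 (iv4 F258973)) (tt N73816 (iv5 F364505)) (tt N81310 (iv6 F359665)) (tt N87886 (iv7 F380965)))
theorem Q52607 : ∀ i, i < 52607 → P i := stepQ 52606 Q52606 (allL N52606 (tt N73718 (iv1 F335122)) (tt N73773 F334475) (tt N73774 F334476) (tt N73816 F364503) (tt N88228 D191110) (tt N27862 (iv5 D97287)) (tt N64052 F334477) (tt N41546 F334478))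
theorem Q52608 : ∀ i, i < 52608 → P i := stepQ 52607 Q52607 (allL N52607 (tt N80432 F334470) (tt N87073 (iv0 F378285)) (tt N78322 (iv2 F334468)) (tt N81310 F359666) (tt N27864 F150037) (tt N76902 F334467) (tt N27862 (iv6 D97288)) (tt N78324 (iv7 F334469)))
theorem Q52609 : ∀ i, i < 52609 → P i := stepQ 52608 Q52608 (allL N52608 (tt N68620 (iv1 F340415)) (tt N88213 F382203) (tt N87892 (iv2 F380990)) (tt N56473 (iv3 F340416)) (tt N27863 (iv4 D97289)) (tt N30103 F358363) (tt N88229 D191111) (tt N56469 F340418))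
theorem Q52610 : ∀ i, i < 52610 → P i := stepQ 52609 Q52609 (allL N52609 (tt N49221 F361259) (tt N48680 F361260) (tt N49219 F358277) (tt N88221 (iv3 F382234)) (tt N88229 (iv4 F382278)) (tt N88230 D191112) (tt N27863 (iv6 D97290)) (tt N49220 F358278))
theorem Q52611 : ∀ i, i < 52611 → P i := stepQ 52610 Q52610 (allL N52610 (tt N87894 (iv1 F381006)) (tt N27864 (iv0 D97291)) (tt N87893 F380997) (tt N52023 F353132) (tt N88196 (iv4 F382124)) (tt N51960 F150038) (tt N52012 F150039) (tt N51983 (iv7 F290438)))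
theorem Q52612 : ∀ i, i < 52612 → P i := stepQ 52611 Q52611 (allL N52611 (tt N52520 F363394) (tt N52519 (iv0 F150040)) (tt N87420 F379290) (tt N88224 (iv3 F382251)) (tt N88231 D191113) (tt N27864 (iv5 D97293)) (tt N88230 (iv6 F382281)) (tt N87421 (iv7 F379292)))
theorem Q52613 : ∀ i, i < 52613 → P i := stepQ 52612 Q52612 (allL N52612 (tt N51983 (iv1 F364481)) (tt N87893 F381001) (tt N87894 (iv2 F381002)) (tt N88225 (iv3 F382252)) (tt N78324 F364482) (tt N87421 F379293) (tt N66710 F334495) (tt N27864 (iv7 D97294)))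
theorem Q52614 : ∀ i, i < 52614 → P i := stepQ 52613 Q52613 (allL N52613 (tt N88202 F382157) (tt N88081 (iv0 F381726)) (tt N88232 D191114) (tt N27865 (iv3 D97296)) (tt N88233 D191115) (tt N59681 F340401) (tt N59684 F363591) (tt N87897 (iv7 F381014)))
theorem Q52615 : ∀ i, i < 52615 → P i := stepQ 52614 Q52614 (allL N52614 (tt N58930 F340397) (tt N30105 F340398) (tt N58929 F358380) (tt N88234 D191116) (tt N27865 (iv4 D97297)) (tt N88235 D191117) (tt N88236 D191118) (tt N58928 F340405))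
theorem Q52616 : ∀ i, i < 52616 → P i := stepQ 52615 Q52615 (allL N52615 (tt N88237 D191119) (tt N37774 F363589) (tt N87896 (iv2 F381008)) (tt N59684 (iv3 F363588)) (tt N88236 (iv4 F382293)) (tt N59680 F340402) (tt N27865 (iv6 D97299)) (tt N88238 D191120))
theorem Q52617 : ∀ i, i < 52617 → P i := stepQ 52616 Q52616 (allL N52616 (tt N79980 F358375) (tt N88218 (iv0 F382223)) (tt N88239 D191121) (tt N27866 (iv3 D97301)) (tt N79943 (iv4 F358374)) (tt N88240 D191122) (tt N88241 D191123) (tt N87895 (iv7 F381007)))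
theorem Q52618 : ∀ i, i < 52618 → P i := stepQ 52617 Q52617 (allL N52617 (tt N30105 F358371) (tt N58930 F358372) (tt N58928 (iv2 F358376)) (tt N79948 F358373) (tt N27866 (iv4 D97302)) (tt N88242 D191124) (tt N88243 D191125) (tt N58929 (iv7 F358379)))
theorem Q52619 : ∀ i, i < 52619 → P i := stepQ 52618 Q52618 (allL N52618 (tt N51926 (iv1 F340411)) (tt N62734 (iv0 F358015)) (tt N29147 F319843) (tt N88240 (iv3 F382311)) (tt N75190 (iv4 F340410)) (tt N27866 (iv5 D97303)) (tt N29105 F150043) (tt N74812 F340409))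
theorem Q52620 : ∀ i, i < 52620 → P i := stepQ 52619 Q52619 (allL N52619 (tt N88244 D191126) (tt N88245 D191127) (tt N87898 (iv2 F381016)) (tt N88241 (iv3 F382315)) (tt N88243 (iv4 F382329)) (tt N88246 D191128) (tt N27866 (iv6 D97304)) (tt N88247 D191129))
theorem Q52621 : ∀ i, i < 52621 → P i := stepQ 52620 Q52620 (allL N52620 (tt N79705 (iv1 F332556)) (tt N27867 (iv0 D97305)) (tt N79702 F361096) (tt N37772 F361094) (tt N66675 (iv4 F361093)) (tt N88248 D191130) (tt N37772 F363607) (tt N79703 (iv7 F361098)))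
theorem Q52622 : ∀ i, i < 52622 → P i := stepQ 52621 Q52621 (allL N52621 (tt N27867 (iv1 D97306)) (tt N79705 F361104) (tt N79703 (iv2 F361100)) (tt N88249 D191131) (tt N87747 (iv4 F380343)) (tt N88250 D191132) (tt N88251 D191133) (tt N79702 F361099))
theorem Q52623 : ∀ i, i < 52623 → P i := stepQ 52622 Q52622 (allL N52622 (tt N37778 F358377) (tt N88252 D191134) (tt N88253 D191135) (tt N27867 (iv3 D97307)) (tt N52036 F150044) (tt N70785 (iv5 F356954)) (tt N27890 F150045) (tt N88254 D191136))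
theorem Q52624 : ∀ i, i < 52624 → P i := stepQ 52623 Q52623 (allL N52623 (tt N37762 F356955) (tt N88255 D191137) (tt N79704 (iv2 F356957)) (tt N70785 F356956) (tt N88256 D191138) (tt N27867 (iv5 D97308)) (tt N67428 F333481) (tt N88257 D191139))
theorem Q52625 : ∀ i, i < 52625 → P i := stepQ 52624 Q52624 (allL N52624 (tt N79703 (iv1 F361101)) (tt N79702 F332553) (tt N79705 (iv2 F332554)) (tt N88254 (iv3 F382365)) (tt N27868 F150046) (tt N88257 (iv5 F382384)) (tt N85690 (iv6 F373545)) (tt N27867 (iv7 D97309)))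
theorem Q52626 : ∀ i, i < 52626 → P i := stepQ 52625 Q52625 (allL N52625 (tt N83823 (iv1 F289236)) (tt N51136 (iv0 F295337)) (tt N50855 (iv2 F294798)) (tt N51323 F150051) (tt N27869 (iv4 D97312)) (tt N88258 D191140) (tt N52040 (iv6 F157632)) (tt N51895 (iv7 F157288)))
theorem Q52627 : ∀ i, i < 52627 → P i := stepQ 52626 Q52626 (allL N52626 (tt N78198 F335369) (tt N27882 F335370) (tt N83582 F335375) (tt N52057 F150052) (tt N88259 D191141) (tt N27869 (iv5 D97313)) (tt N88260 D191142) (tt N51897 (iv7 F157289)))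
theorem Q52628 : ∀ i, i < 52628 → P i := stepQ 52627 Q52627 (allL N52627 (tt N84687 F370232) (tt N84684 (iv0 F370210)) (tt N27871 F150065) (tt N83738 F294049) (tt N88261 D191143) (tt N27870 (iv5 D97320)) (tt N88262 D191144) (tt N84688 (iv7 F370236)))
theorem Q52629 : ∀ i, i < 52629 → P i := stepQ 52628 Q52628 (allL N52628 (tt N51918 (iv1 F369963)) (tt N84639 F369960) (tt N27872 F150066) (tt N84642 (iv3 F369973)) (tt N53138 (iv4 F152510)) (tt N88263 D191145) (tt N27870 (iv6 D97321)) (tt N84640 (iv7 F369967)))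
theorem Q52630 : ∀ i, i < 52630 → P i := stepQ 52629 Q52629 (allL N52629 (tt N84688 (iv1 F370237)) (tt N27871 (iv0 D97322)) (tt N84687 (iv2 F370228)) (tt N41165 F357385) (tt N88264 D191146) (tt N49203 F357386) (tt N88265 D191147) (tt N84684 (iv7 F370209)))
theorem Q52631 : ∀ i, i < 52631 → P i := stepQ 52630 Q52630 (allL N52630 (tt N27871 (iv1 D97323)) (tt N84688 F370238) (tt N84684 (iv2 F370207)) (tt N47669 F365436) (tt N88266 D191148) (tt N49204 F294039) (tt N88267 D191149) (tt N84687 (iv7 F370230)))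
theorem Q52632 : ∀ i, i < 52632 → P i := stepQ 52631 Q52631 (allL N52631 (tt N87624 (iv1 F379921)) (tt N88268 D191150) (tt N88261 (iv2 F382394)) (tt N88269 D191151) (tt N27871 (iv4 D97324)) (tt N88270 D191152) (tt N88271 D191153) (tt N84689 (iv7 F370239)))
theorem Q52633 : ∀ i, i < 52633 → P i := stepQ 52632 Q52632 (allL N52632 (tt N41159 F340026) (tt N88272 D191154) (tt N88262 (iv2 F382396)) (tt N27874 F150067) (tt N88271 (iv4 F382414)) (tt N41132 F367029) (tt N27871 (iv6 D97325)) (tt N88273 D191155))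
theorem Q52634 : ∀ i, i < 52634 → P i := stepQ 52633 Q52633 (allL N52633 (tt N84640 (iv1 F369968)) (tt N27872 (iv0 D97326)) (tt N51918 (iv2 F349227)) (tt N41174 F349228) (tt N76296 F349216) (tt N54997 (iv5 F349217)) (tt N49894 F349226) (tt N84639 (iv7 F369961)))
theorem Q52635 : ∀ i, i < 52635 → P i := stepQ 52634 Q52634 (allL N52634 (tt N27872 (iv1 D97327)) (tt N84640 F369969) (tt N84639 F369959) (tt N88274 D191156) (tt N88275 D191157) (tt N54998 (iv5 F367031)) (tt N88276 D191158) (tt N51918 F360981))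
theorem Q52636 : ∀ i, i < 52636 → P i := stepQ 52635 Q52635 (allL N52635 (tt N41169 F296438) (tt N88277 D191159) (tt N88263 (iv2 F382402)) (tt N27875 F150068) (tt N88278 D191160) (tt N27872 (iv5 D97328)) (tt N41132 F367030) (tt N29168 F150069))
theorem Q52637 : ∀ i, i < 52637 → P i := stepQ 52636 Q52636 (allL N52636 (tt N88279 D191161) (tt N88280 D191162) (tt N88281 D191163) (tt N27873 (iv3 D97336)) (tt N88269 (iv4 F382413)) (tt N48490 F294051) (tt N88282 D191164) (tt N79361 F294052))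
theorem Q52638 : ∀ i, i < 52638 → P i := stepQ 52637 Q52637 (allL N52637 (tt N88283 D191165) (tt N88284 D191166) (tt N79680 F294054) (tt N88282 (iv3 F382452)) (tt N27874 F150086) (tt N88285 D191167) (tt N27873 (iv6 D97338)) (tt N88286 D191168))
theorem Q52639 : ∀ i, i < 52639 → P i := stepQ 52638 Q52638 (allL N52638 (tt N84695 (iv1 F370264)) (tt N27874 (iv0 D97339)) (tt N84693 (iv2 F379936)) (tt N88287 D191169) (tt N88288 D191170) (tt N66443 F382338) (tt N88215 F382211) (tt N84694 (iv7 F379938)))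
theorem Q52640 : ∀ i, i < 52640 → P i := stepQ 52639 Q52639 (allL N52639 (tt N27874 (iv1 D97340)) (tt N84695 F370263) (tt N84694 F379937) (tt N52055 F372120) (tt N88289 D191171) (tt N66447 (iv5 F372119)) (tt N88290 D191172) (tt N84693 F379935))
theorem Q52641 : ∀ i, i < 52641 → P i := stepQ 52640 Q52640 (allL N52640 (tt N71361 (iv1 F367009)) (tt N71364 F367008) (tt N29173 F150087) (tt N41132 F367028) (tt N88291 D191173) (tt N27874 (iv5 D97341)) (tt N27875 F150088) (tt N88292 D191174))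
theorem Q52642 : ∀ i, i < 52642 → P i := stepQ 52641 Q52641 (allL N52641 (tt N84694 (iv1 F370257)) (tt N84693 F370262) (tt N84695 (iv2 F370258)) (tt N88273 (iv3 F382422)) (tt N88286 (iv4 F382462)) (tt N88292 (iv5 F382475)) (tt N84692 (iv6 F370254)) (tt N27874 (iv7 D97342)))
theorem Q52643 : ∀ i, i < 52643 → P i := stepQ 52642 Q52642 (allL N52642 (tt N44066 (iv1 F329893)) (tt N34356 F329848) (tt N29172 F150089) (tt N66223 F329040) (tt N27875 (iv4 D97343)) (tt N44063 F329041) (tt N88291 (iv6 F382471)) (tt N29169 F150090))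
theorem Q52644 : ∀ i, i < 52644 → P i := stepQ 52643 Q52643 (allL N52643 (tt N27885 F157803) (tt N83588 F292589) (tt N51374 (iv2 F331377)) (tt N52041 F150100) (tt N51373 (iv4 F331363)) (tt N27876 (iv5 D97349)) (tt N88293 D191175) (tt N51938 (iv7 F157642)))
theorem Q52645 : ∀ i, i < 52645 → P i := stepQ 52644 Q52644 (allL N52644 (tt N83714 F331402) (tt N83713 F331403) (tt N27878 F150103) (tt N84688 (iv3 F370233)) (tt N83729 F294057) (tt N27877 (iv5 D97351)) (tt N88294 D191176) (tt N83738 F294058))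
theorem Q52646 : ∀ i, i < 52646 → P i := stepQ 52645 Q52645 (allL N52645 (tt N84649 F370033) (tt N51950 F283797) (tt N27879 F150104) (tt N84648 (iv3 F370019)) (tt N84440 (iv4 F369265)) (tt N55558 (iv5 F160661)) (tt N27877 (iv6 D97352)) (tt N84650 (iv7 F370036)))
theorem Q52647 : ∀ i, i < 52647 → P i := stepQ 52646 Q52646 (allL N52646 (tt N27878 (iv1 D97354)) (tt N83738 F294056) (tt N83713 F331407) (tt N52042 F288030) (tt N79035 (iv4 F331389)) (tt N49209 F293468) (tt N88295 D191177) (tt N83714 (iv7 F331409)))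
theorem Q52648 : ∀ i, i < 52648 → P i := stepQ 52647 Q52647 (allL N52647 (tt N88296 D191178) (tt N88297 D191179) (tt N88294 (iv2 F382485)) (tt N27881 F150105) (tt N83733 F294060) (tt N55560 (iv5 F160670)) (tt N27878 (iv6 D97356)) (tt N88298 D191180))
theorem Q52649 : ∀ i, i < 52649 → P i := stepQ 52648 Q52648 (allL N52648 (tt N84650 (iv1 F370037)) (tt N27879 (iv0 D97357)) (tt N84649 (iv2 F370030)) (tt N88299 D191181) (tt N51353 F288024) (tt N54956 F288027) (tt N41175 F350466) (tt N51950 (iv7 F288028)))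
theorem Q52650 : ∀ i, i < 52650 → P i := stepQ 52649 Q52649 (allL N52649 (tt N27879 (iv1 D97358)) (tt N84650 F370038) (tt N51950 F283802) (tt N51914 F283803) (tt N45146 F283804) (tt N54957 F283805) (tt N45144 F283806) (tt N84649 (iv7 F370027)))
theorem Q52651 : ∀ i, i < 52651 → P i := stepQ 52650 Q52650 (allL N52650 (tt N51538 F358115) (tt N88300 D191182) (tt N88301 D191183) (tt N27880 (iv3 D97359)) (tt N51403 F294061) (tt N48489 F294062) (tt N88302 D191184) (tt N79679 F294063))
theorem Q52652 : ∀ i, i < 52652 → P i := stepQ 52651 Q52651 (allL N52651 (tt N88303 D191185) (tt N88304 D191186) (tt N79362 F294065) (tt N88302 (iv3 F382510)) (tt N27881 F150107) (tt N88305 D191187) (tt N27880 (iv6 D97361)) (tt N88306 D191188))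
theorem Q52653 : ∀ i, i < 52653 → P i := stepQ 52652 Q52652 (allL N52652 (tt N84692 (iv1 F370256)) (tt N27881 (iv0 D97362)) (tt N84690 F370241) (tt N52066 (iv3 F369678)) (tt N88307 D191189) (tt N84553 F369677) (tt N84554 (iv6 F369681)) (tt N84691 (iv7 F370247)))
theorem Q52654 : ∀ i, i < 52654 → P i := stepQ 52653 Q52653 (allL N52653 (tt N27881 (iv1 D97363)) (tt N84692 F370255) (tt N84691 F370249) (tt N47660 F370244) (tt N88308 D191190) (tt N85712 (iv5 F373619)) (tt N87887 F380973) (tt N84690 F370245))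
theorem Q52655 : ∀ i, i < 52655 → P i := stepQ 52654 Q52654 (allL N52654 (tt N84691 (iv1 F370246)) (tt N84690 F370250) (tt N84692 (iv2 F370251)) (tt N88298 (iv3 F382491)) (tt N88306 (iv4 F382528)) (tt N55564 (iv5 F160676)) (tt N84695 (iv6 F370261)) (tt N27881 (iv7 D97364)))
theorem Q52656 : ∀ i, i < 52656 → P i := stepQ 52655 Q52655 (allL N52655 (tt N83582 (iv1 F335374)) (tt N51897 F177430) (tt N27882 (iv2 D97367)) (tt N83588 F335373) (tt N88309 D191191) (tt N49994 (iv5 F291953)) (tt N88310 D191192) (tt N78198 (iv7 F335372)))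
theorem Q52657 : ∀ i, i < 52657 → P i := stepQ 52656 Q52656 (allL N52656 (tt N87612 (iv1 F379880)) (tt N88311 D191193) (tt N88309 (iv2 F382538)) (tt N48680 F365808) (tt N27882 (iv4 D97368)) (tt N88138 (iv5 F381898)) (tt N48679 F365809) (tt N83583 F365810))
theorem Q52658 : ∀ i, i < 52658 → P i := stepQ 52657 Q52657 (allL N52657 (tt N88312 D191194) (tt N88313 D191195) (tt N88310 (iv2 F382543)) (tt N27884 F150111) (tt N48679 F327100) (tt N84614 (iv5 F369868)) (tt N27882 (iv6 D97370)) (tt N84666 (iv7 F370118)))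
theorem Q52659 : ∀ i, i < 52659 → P i := stepQ 52658 Q52658 (allL N52658 (tt N27886 (iv1 F150113)) (tt N27883 (iv0 D97371)) (tt N52679 (iv2 F150152)) (tt N37758 F343662) (tt N48523 (iv4 F293597)) (tt N44621 F296312) (tt N37756 F343663) (tt N52397 F150114))
theorem Q52660 : ∀ i, i < 52660 → P i := stepQ 52659 Q52659 (allL N52659 (tt N83592 (iv1 F348735)) (tt N27884 (iv0 D97375)) (tt N83590 (iv2 F418570)) (tt N88314 D191197) (tt N79716 F358965) (tt N88315 D191198) (tt N88245 (iv6 F392782)) (tt N83591 (iv7 F418574)))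
theorem Q52661 : ∀ i, i < 52661 → P i := stepQ 52660 Q52660 (allL N52660 (tt N27884 (iv1 D97376)) (tt N83592 F367192) (tt N83591 (iv2 F418573)) (tt N52079 F399895) (tt N79718 (iv4 F367194)) (tt N88316 D191202) (tt N88317 D191203) (tt N83590 (iv7 F418572)))
theorem Q52662 : ∀ i, i < 52662 → P i := stepQ 52661 Q52661 (allL N52661 (tt N83591 (iv1 F367193)) (tt N83590 F348732) (tt N83592 (iv2 F348730)) (tt N84666 (iv3 F370117)) (tt N45871 F327101) (tt N84617 (iv5 F369879)) (tt N83586 F348729) (tt N27884 (iv7 D97377)))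
theorem Q52663 : ∀ i, i < 52663 → P i := stepQ 52662 Q52662 (allL N52662 (tt N51938 F292590) (tt N51374 (iv0 F295132)) (tt N27885 (iv2 D97380)) (tt N78198 (iv3 F295135)) (tt N32128 F294548) (tt N49302 F292594) (tt N30378 F294549) (tt N83588 F292595))
theorem Q52664 : ∀ i, i < 52664 → P i := stepQ 52663 Q52663 (allL N52663 (tt N54881 F348787) (tt N86857 (iv0 F377458)) (tt N68616 F341778) (tt N27886 (iv3 D97383)) (tt N50010 F341779) (tt N46286 F293082) (tt N37750 F341780) (tt N79355 F293083))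
theorem Q52665 : ∀ i, i < 52665 → P i := stepQ 52664 Q52664 (allL N52664 (tt N88318 D191204) (tt N88319 D191205) (tt N79671 F293085) (tt N37750 F295473) (tt N27887 F150119) (tt N56487 F295474) (tt N27886 (iv6 D97385)) (tt N68603 F295475))
theorem Q52666 : ∀ i, i < 52666 → P i := stepQ 52665 Q52665 (allL N52665 (tt N83586 F293086) (tt N27887 (iv0 D97386)) (tt N83584 F355506) (tt N52087 F355503) (tt N88320 D191206) (tt N60122 (iv5 F355504)) (tt N88321 D191207) (tt N83585 (iv7 F355505)))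
theorem Q52667 : ∀ i, i < 52667 → P i := stepQ 52666 Q52666 (allL N52666 (tt N27887 (iv1 D97387)) (tt N83586 F293087) (tt N83585 (iv2 F355507)) (tt N88205 F382163) (tt N88214 (iv4 F382206)) (tt N60123 (iv5 F358271)) (tt N88237 (iv6 F382299)) (tt N83584 F355508))
theorem Q52668 : ∀ i, i < 52668 → P i := stepQ 52667 Q52667 (allL N52667 (tt N83585 F293088) (tt N83584 F293089) (tt N83586 F293090) (tt N30379 F295477) (tt N68603 F295478) (tt N32102 F295479) (tt N83592 F293091) (tt N27887 (iv7 D97388)))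
theorem Q52669 : ∀ i, i < 52669 → P i := stepQ 52668 Q52668 (allL N52668 (tt N88322 D191208) (tt N37775 F365954) (tt N88323 D191209) (tt N27888 (iv3 D97389)) (tt N78510 F348786) (tt N46290 F294903) (tt N88280 (iv6 F382448)) (tt N79700 F294904))
theorem Q52670 : ∀ i, i < 52670 → P i := stepQ 52669 Q52669 (allL N52669 (tt N79716 (iv1 F358964)) (tt N79718 (iv0 F358963)) (tt N79699 F294905) (tt N88280 F382446) (tt N49991 F294906) (tt N80233 F358960) (tt N27888 (iv6 D97391)) (tt N88324 D191210))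
theorem Q52671 : ∀ i, i < 52671 → P i := stepQ 52670 Q52670 (allL N52670 (tt N86622 F376867) (tt N88325 D191211) (tt N60646 (iv2 F348772)) (tt N27889 (iv3 D97392)) (tt N88326 D191212) (tt N46289 F294896) (tt N68635 (iv6 F352533)) (tt N79698 F294897))
theorem Q52672 : ∀ i, i < 52672 → P i := stepQ 52671 Q52671 (allL N52671 (tt N88320 F382577) (tt N88214 (iv0 F382209)) (tt N79701 F294899) (tt N68635 F352534) (tt N49978 F294900) (tt N66061 (iv5 F352535)) (tt N27889 (iv6 D97394)) (tt N88327 D191213))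
theorem Q52673 : ∀ i, i < 52673 → P i := stepQ 52672 Q52672 (allL N52672 (tt N85687 (iv1 F373528)) (tt N27890 (iv0 D97395)) (tt N85686 (iv2 F373517)) (tt N60622 F362865) (tt N69602 F362868) (tt N60619 (iv5 F362866)) (tt N65943 F362869) (tt N60618 (iv7 F362867)))
theorem Q52674 : ∀ i, i < 52674 → P i := stepQ 52673 Q52673 (allL N52673 (tt N27890 (iv1 D97396)) (tt N85687 F373529) (tt N60618 F373519) (tt N88328 D191214) (tt N57282 (iv4 F373521)) (tt N60608 (iv5 F373522)) (tt N56470 (iv6 F373523)) (tt N85686 F373518))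
theorem Q52675 : ∀ i, i < 52675 → P i := stepQ 52674 Q52674 (allL N52674 (tt N85686 (iv1 F373520)) (tt N60618 F359023) (tt N27890 (iv2 D97397)) (tt N79693 (iv3 F367037)) (tt N52096 F150122) (tt N79674 F367036) (tt N88253 (iv6 F382360)) (tt N85687 (iv7 F373527)))
theorem Q52676 : ∀ i, i < 52676 → P i := stepQ 52675 Q52675 (allL N52675 (tt N48754 (iv1 F150142)) (tt N27891 (iv0 D97408)) (tt N48759 F270437) (tt N52332 F150141) (tt N80683 (iv4 F270436)) (tt N88329 D191215) (tt N59823 (iv6 F358526)) (tt N48758 (iv7 F270440)))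
theorem Q52677 : ∀ i, i < 52677 → P i := stepQ 52676 Q52676 (allL N52676 (tt N27891 (iv1 D97409)) (tt N48754 F150148) (tt N48758 (iv2 F270442)) (tt N52104 (iv3 F157299)) (tt N82802 F294769) (tt N88330 D191216) (tt N63499 F330007) (tt N48759 F270441))
theorem Q52678 : ∀ i, i < 52678 → P i := stepQ 52677 Q52677 (allL N52677 (tt N48759 (iv1 F150149)) (tt N48758 F150147) (tt N27891 (iv2 D97410)) (tt N51138 (iv3 F295194)) (tt N28100 F150144) (tt N88331 D191217) (tt N52105 F150145) (tt N48754 F150146))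
theorem Q52679 : ∀ i, i < 52679 → P i := stepQ 52678 Q52678 (allL N52678 (tt N87765 F380431) (tt N87766 (iv0 F380435)) (tt N88331 (iv2 F382617)) (tt N27892 F150150) (tt N87540 (iv4 F379698)) (tt N27891 (iv5 D97411)) (tt N88332 D191218) (tt N48760 F150151))
theorem Q52680 : ∀ i, i < 52680 → P i := stepQ 52679 Q52679 (allL N52679 (tt N45816 F294046) (tt N45492 F294047) (tt N52658 F150152) (tt N56693 (iv3 F341804)) (tt N27892 (iv4 D97412)) (tt N45495 F294048) (tt N68768 F349643) (tt N48764 F150153))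
theorem Q52681 : ∀ i, i < 52681 → P i := stepQ 52680 Q52680 (allL N52680 (tt N88333 D191219) (tt N88334 D191220) (tt N68771 (iv2 F360833)) (tt N88332 (iv3 F382624)) (tt N68768 (iv4 F349645)) (tt N52108 F150156) (tt N27892 (iv6 D97413)) (tt N88335 D191221))
theorem Q52682 : ∀ i, i < 52682 → P i := stepQ 52681 Q52681 (allL N52681 (tt N82596 (iv1 F365034)) (tt N49990 F365033) (tt N82597 (iv2 F365109)) (tt N49332 F294947) (tt N47647 F294948) (tt N27893 (iv5 D97415)) (tt N88336 D191222) (tt N51787 F205515))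
theorem Q52683 : ∀ i, i < 52683 → P i := stepQ 52682 Q52682 (allL N52682 (tt N84673 (iv1 F370152)) (tt N83780 F350534) (tt N27895 F150167) (tt N82604 F294700) (tt N39522 F331311) (tt N27894 (iv5 D97421)) (tt N36681 F331312) (tt N84672 (iv7 F370146)))
theorem Q52684 : ∀ i, i < 52684 → P i := stepQ 52683 Q52683 (allL N52683 (tt N51798 F350536) (tt N84654 F370061) (tt N27896 F150168) (tt N48960 F294978) (tt N85216 (iv4 F371926)) (tt N39114 F331261) (tt N27894 (iv6 D97422)) (tt N74198 F331262))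
theorem Q52685 : ∀ i, i < 52685 → P i := stepQ 52684 Q52684 (allL N52684 (tt N84672 (iv1 F370147)) (tt N27895 (iv0 D97423)) (tt N84673 F370156) (tt N51573 F293679) (tt N47665 F293680) (tt N48519 F293681) (tt N88337 D191223) (tt N83780 F293682))
theorem Q52686 : ∀ i, i < 52686 → P i := stepQ 52685 Q52685 (allL N52685 (tt N27895 (iv1 D97424)) (tt N84672 (iv0 F370148)) (tt N83780 F360346) (tt N88338 D191224) (tt N74182 F360347) (tt N48520 F360348) (tt N88339 D191225) (tt N84673 (iv7 F370153)))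
theorem Q52687 : ∀ i, i < 52687 → P i := stepQ 52686 Q52686 (allL N52686 (tt N88340 D191226) (tt N88341 D191227) (tt N39522 F331313) (tt N78505 F294701) (tt N27895 (iv4 D97425)) (tt N78503 F294702) (tt N36682 F331314) (tt N84674 (iv7 F370159)))
theorem Q52688 : ∀ i, i < 52688 → P i := stepQ 52687 Q52687 (allL N52687 (tt N74198 (iv1 F345192)) (tt N27896 (iv0 D97427)) (tt N51798 F350539) (tt N52114 (iv3 F360290)) (tt N50015 F350540) (tt N55059 F350541) (tt N45151 F350542) (tt N84654 (iv7 F370062)))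
theorem Q52689 : ∀ i, i < 52689 → P i := stepQ 52688 Q52688 (allL N52688 (tt N27896 (iv1 D97428)) (tt N74198 (iv0 F350550)) (tt N84654 F370060) (tt N88342 D191228) (tt N74193 F350548) (tt N55060 (iv5 F345183)) (tt N84478 (iv6 F369460)) (tt N51798 F350538))
theorem Q52690 : ∀ i, i < 52690 → P i := stepQ 52689 Q52689 (allL N52689 (tt N88329 F382611) (tt N88330 (iv0 F382615)) (tt N88343 D191229) (tt N27897 (iv3 D97430)) (tt N87514 (iv4 F379617)) (tt N48517 F294505) (tt N88344 D191230) (tt N52242 F294506))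
theorem Q52691 : ∀ i, i < 52691 → P i := stepQ 52690 Q52690 (allL N52690 (tt N88345 D191231) (tt N88346 D191232) (tt N82608 F294507) (tt N88344 (iv3 F382666)) (tt N69256 (iv4 F347520)) (tt N52280 F150176) (tt N27897 (iv6 D97432)) (tt N88347 D191233))
theorem Q52692 : ∀ i, i < 52692 → P i := stepQ 52691 Q52691 (allL N52691 (tt N51779 F150184) (tt N52139 (iv0 F356250)) (tt N52141 F150179) (tt N27898 (iv3 D97433)) (tt N81654 (iv4 F364456)) (tt N48518 F292816) (tt N88348 D191234) (tt N50530 (iv7 F293831)))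
theorem Q52693 : ∀ i, i < 52693 → P i := stepQ 52692 Q52692 (allL N52692 (tt N45823 F292819) (tt N45497 F292820) (tt N52243 (iv2 F293821)) (tt N60572 (iv3 F327063)) (tt N27898 (iv4 D97434)) (tt N46152 F292822) (tt N88349 D191235) (tt N48681 (iv7 F293835)))
theorem Q52694 : ∀ i, i < 52694 → P i := stepQ 52693 Q52693 (allL N52693 (tt N88350 D191236) (tt N88351 D191237) (tt N52244 F292823) (tt N88348 (iv3 F382681)) (tt N88349 (iv4 F382687)) (tt N51885 F150185) (tt N27898 (iv6 D97435)) (tt N88352 D191238))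
theorem Q52695 : ∀ i, i < 52695 → P i := stepQ 52694 Q52694 (allL N52694 (tt N88308 (iv1 F382536)) (tt N88307 (iv0 F382590)) (tt N88353 D191239) (tt N27899 (iv3 D97436)) (tt N78505 F294066) (tt N49196 F294067) (tt N88354 D191240) (tt N79685 F294068))
theorem Q52696 : ∀ i, i < 52696 → P i := stepQ 52695 Q52695 (allL N52695 (tt N88288 (iv1 F382465)) (tt N88289 (iv0 F382467)) (tt N79684 F294070) (tt N88354 (iv3 F382716)) (tt N27900 F150186) (tt N88355 D191241) (tt N27899 (iv6 D97437)) (tt N88354 (iv7 F382718)))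
theorem Q52697 : ∀ i, i < 52697 → P i := stepQ 52696 Q52696 (allL N52696 (tt N82610 F294703) (tt N27900 (iv0 D97438)) (tt N82609 (iv2 F355421)) (tt N62479 F355423) (tt N88356 D191242) (tt N62478 F355424) (tt N88357 D191243) (tt N73642 (iv7 F355422)))
theorem Q52698 : ∀ i, i < 52698 → P i := stepQ 52697 Q52697 (allL N52697 (tt N27900 (iv1 D97439)) (tt N82610 F294704) (tt N73642 F355417) (tt N86797 (iv3 F377236)) (tt N68821 F373556) (tt N66452 (iv5 F355416)) (tt N68820 (iv6 F373557)) (tt N82609 F355418))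
theorem Q52699 : ∀ i, i < 52699 → P i := stepQ 52698 Q52698 (allL N52698 (tt N73642 (iv1 F331295)) (tt N82609 F294707) (tt N82610 F294708) (tt N36682 F331278) (tt N88354 (iv4 F382717)) (tt N39514 F331279) (tt N78505 F358112) (tt N27900 (iv7 D97441)))
theorem Q52700 : ∀ i, i < 52700 → P i := stepQ 52699 Q52699 (allL N52699 (tt N50625 (iv1 F293316)) (tt N53925 (iv0 F356185)) (tt N85668 F373448) (tt N27901 (iv3 D97442)) (tt N50848 F293559) (tt N55065 (iv5 F158555)) (tt N52148 F150188) (tt N48955 (iv7 F294157)))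
theorem Q52701 : ∀ i, i < 52701 → P i := stepQ 52700 Q52700 (allL N52700 (tt N49977 (iv1 F356268)) (tt N83574 (iv0 F356264)) (tt N82603 F295363) (tt N51778 F150247) (tt N88358 D191244) (tt N27903 (iv5 D97469)) (tt N88359 D191245) (tt N51785 F150248))
theorem Q52702 : ∀ i, i < 52702 → P i := stepQ 52701 Q52701 (allL N52701 (tt N52120 F294711) (tt N82605 F294712) (tt N27905 F150249) (tt N84672 (iv3 F370144)) (tt N86576 (iv4 F376529)) (tt N27904 (iv5 D97470)) (tt N88360 D191246) (tt N82604 F294713))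
theorem Q52703 : ∀ i, i < 52703 → P i := stepQ 52702 Q52702 (allL N52702 (tt N52148 (iv1 F150260)) (tt N51857 F150251) (tt N27906 F150250) (tt N84645 (iv3 F370001)) (tt N82990 (iv4 F285237)) (tt N87016 (iv5 F378053)) (tt N27904 (iv6 D97471)) (tt N84185 (iv7 F368455)))
theorem Q52704 : ∀ i, i < 52704 → P i := stepQ 52703 Q52703 (allL N52703 (tt N82604 F294709) (tt N27905 (iv0 D97472)) (tt N52120 (iv2 F150255)) (tt N88361 D191247) (tt N88362 D191248) (tt N49198 F356257) (tt N88363 D191249) (tt N82605 F356271))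
theorem Q52705 : ∀ i, i < 52705 → P i := stepQ 52704 Q52704 (allL N52704 (tt N27905 (iv1 D97473)) (tt N82604 F294710) (tt N82605 F356270) (tt N51780 (iv3 F150252)) (tt N88364 D191250) (tt N49199 F294696) (tt N81546 F365996) (tt N52120 F150254))
theorem Q52706 : ∀ i, i < 52706 → P i := stepQ 52705 Q52705 (allL N52705 (tt N86577 (iv1 F376897)) (tt N86432 F376898) (tt N86576 F376530) (tt N88365 D191251) (tt N27905 (iv4 D97474)) (tt N86555 (iv5 F376482)) (tt N88366 D191252) (tt N82606 F294714))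
theorem Q52707 : ∀ i, i < 52707 → P i := stepQ 52706 Q52706 (allL N52706 (tt N88367 D191253) (tt N88368 D191254) (tt N88360 (iv2 F382734)) (tt N27908 F150256) (tt N88366 (iv4 F382760)) (tt N78508 F358420) (tt N27905 (iv6 D97475)) (tt N88369 D191255))
theorem Q52708 : ∀ i, i < 52708 → P i := stepQ 52707 Q52707 (allL N52707 (tt N84185 (iv1 F368454)) (tt N27906 (iv0 D97476)) (tt N52148 (iv2 F150257)) (tt N88370 D191256) (tt N84181 (iv4 F368445)) (tt N51717 F150258) (tt N85668 (iv6 F373447)) (tt N51857 F150259))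
theorem Q52709 : ∀ i, i < 52709 → P i := stepQ 52708 Q52708 (allL N52708 (tt N55512 (iv1 F160466)) (tt N52272 (iv0 F150262)) (tt N87016 F378054) (tt N27910 F150261) (tt N88371 D191257) (tt N27906 (iv5 D97477)) (tt N78508 (iv6 F358099)) (tt N83520 (iv7 F287719)))
theorem Q52710 : ∀ i, i < 52710 → P i := stepQ 52709 Q52709 (allL N52709 (tt N88372 D191258) (tt N88373 D191259) (tt N88374 D191260) (tt N27907 (iv3 D97478)) (tt N88365 (iv4 F382758)) (tt N49195 F294071) (tt N88374 F382787) (tt N79683 F294072))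
theorem Q52711 : ∀ i, i < 52711 → P i := stepQ 52710 Q52710 (allL N52710 (tt N88307 (iv1 F382532)) (tt N88308 (iv0 F382535)) (tt N79685 (iv2 F354385)) (tt N88374 (iv3 F382784)) (tt N27908 F150263) (tt N67459 F358445) (tt N27907 (iv6 D97479)) (tt N88353 (iv7 F382715)))
theorem Q52712 : ∀ i, i < 52712 → P i := stepQ 52711 Q52711 (allL N52711 (tt N27908 (iv1 D97481)) (tt N78505 F358114) (tt N78657 F358106) (tt N59688 F358107) (tt N88375 D191261) (tt N59687 (iv5 F358105)) (tt N88376 D191262) (tt N81578 F358108))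
theorem Q52713 : ∀ i, i < 52713 → P i := stepQ 52712 Q52712 (allL N52712 (tt N78657 (iv1 F358088)) (tt N81578 F358109) (tt N78505 (iv2 F358110)) (tt N88369 (iv3 F382766)) (tt N88353 (iv4 F382713)) (tt N78502 F358111) (tt N82610 F294715) (tt N27908 (iv7 D97483)))
theorem Q52714 : ∀ i, i < 52714 → P i := stepQ 52713 Q52713 (allL N52713 (tt N85381 F372422) (tt N80612 (iv0 F268830)) (tt N54937 (iv2 F158365)) (tt N27914 F150957) (tt N29238 F150958) (tt N61394 F335350) (tt N27911 (iv6 D97942)) (tt N61393 F335405))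
theorem Q52715 : ∀ i, i < 52715 → P i := stepQ 52714 Q52714 (allL N52714 (tt N83077 F285828) (tt N53203 F177396) (tt N28272 F150959) (tt N51698 F150960) (tt N27914 F150961) (tt N88377 D191263) (tt N27912 (iv6 D97943)) (tt N83085 (iv7 F285860)))
theorem Q52716 : ∀ i, i < 52716 → P i := stepQ 52715 Q52715 (allL N52715 (tt N48995 F311973) (tt N28669 F311974) (tt N28273 F150962) (tt N36429 F307739) (tt N36461 (iv4 F308657)) (tt N88378 D191264) (tt N27913 (iv6 D97944)) (tt N48467 F309083))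
theorem Q52717 : ∀ i, i < 52717 → P i := stepQ 52716 Q52716 (allL N52716 (tt N49001 F157661) (tt N28677 F157662) (tt N28274 F150965) (tt N61394 (iv3 F352777)) (tt N88379 D191265) (tt N27914 (iv5 D97947)) (tt N88378 (iv6 F382810)) (tt N61392 (iv7 F335407)))
theorem Q52718 : ∀ i, i < 52718 → P i := stepQ 52717 Q52717 (allL N52717 (tt N53515 F157746) (tt N53526 F157747) (tt N28265 F150971) (tt N50215 F150972) (tt N27917 F150973) (tt N88380 D191266) (tt N27915 (iv6 D97949)) (tt N53525 F157748))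
theorem Q52719 : ∀ i, i < 52719 → P i := stepQ 52718 Q52718 (allL N52718 (tt N28616 (iv1 F316400)) (tt N49018 F314251) (tt N28266 F150974) (tt N85996 (iv3 F374815)) (tt N30552 F313612) (tt N88381 D191267) (tt N27916 (iv6 D97950)) (tt N76494 F313613))
theorem Q52720 : ∀ i, i < 52720 → P i := stepQ 52719 Q52719 (allL N52719 (tt N28626 F157302) (tt N49023 F157303) (tt N28267 F150977) (tt N44055 F349200) (tt N88382 D191268) (tt N27917 (iv5 D97953)) (tt N88381 (iv6 F382825)) (tt N79104 F349201))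
theorem Q52721 : ∀ i, i < 52721 → P i := stepQ 52720 Q52720 (allL N52720 (tt N85477 F372761) (tt N49008 F289655) (tt N54943 (iv2 F160568)) (tt N27918 (iv3 D97956)) (tt N54940 (iv4 F158371)) (tt N88383 D191269) (tt N88384 D191270) (tt N48812 (iv7 F160571)))
theorem Q52722 : ∀ i, i < 52722 → P i := stepQ 52721 Q52721 (allL N52721 (tt N54497 F157377) (tt N47818 F289757) (tt N48809 F160541) (tt N51701 F150984) (tt N27918 (iv4 D97957)) (tt N88385 D191271) (tt N88386 D191272) (tt N48813 (iv7 F160536)))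
theorem Q52723 : ∀ i, i < 52723 → P i := stepQ 52722 Q52722 (allL N52722 (tt N49070 F157660) (tt N84738 (iv0 F370430)) (tt N48810 F160574) (tt N88383 (iv3 F382837)) (tt N88387 D191273) (tt N27918 (iv5 D97958)) (tt N88388 D191274) (tt N48814 (iv7 F160576)))
theorem Q52724 : ∀ i, i < 52724 → P i := stepQ 52723 Q52723 (allL N52723 (tt N48950 (iv1 F285543)) (tt N50207 (iv0 F291500)) (tt N48811 F160575) (tt N88384 (iv3 F382840)) (tt N88386 (iv4 F382847)) (tt N82616 F283244) (tt N27918 (iv6 D97959)) (tt N83497 (iv7 F288155)))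
theorem Q52725 : ∀ i, i < 52725 → P i := stepQ 52724 Q52724 (allL N52724 (tt N47818 F289758) (tt N54497 (iv0 F157026)) (tt N48813 (iv2 F160542)) (tt N53487 F153850) (tt N27919 (iv4 D97961)) (tt N88389 D191275) (tt N84749 (iv6 F370465)) (tt N48809 F160545))
theorem Q52726 : ∀ i, i < 52726 → P i := stepQ 52725 Q52725 (allL N52725 (tt N84738 F370431) (tt N49070 F160579) (tt N48814 F160577) (tt N85999 (iv3 F374835)) (tt N88390 D191276) (tt N27919 (iv5 D97962)) (tt N88391 D191277) (tt N48810 F160573))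
theorem Q52727 : ∀ i, i < 52727 → P i := stepQ 52726 Q52726 (allL N52726 (tt N48818 (iv1 F150991)) (tt N27920 (iv0 D97964)) (tt N48815 F289301) (tt N88392 D191278) (tt N88393 D191279) (tt N83841 (iv5 F289367)) (tt N88394 D191280) (tt N48816 F289302))
theorem Q52728 : ∀ i, i < 52728 → P i := stepQ 52727 Q52727 (allL N52727 (tt N27920 (iv1 D97965)) (tt N48818 F150986) (tt N48816 F289298) (tt N88395 D191281) (tt N88396 D191282) (tt N83830 (iv5 F289295)) (tt N88397 D191283) (tt N48815 F289299))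
theorem Q52729 : ∀ i, i < 52729 → P i := stepQ 52728 Q52728 (allL N52728 (tt N88398 D191284) (tt N88399 D191285) (tt N48817 F150987) (tt N77360 (iv3 F354905)) (tt N27920 (iv4 D97966)) (tt N88400 D191286) (tt N77357 (iv6 F354908)) (tt N88401 D191287))
theorem Q52730 : ∀ i, i < 52730 → P i := stepQ 52729 Q52729 (allL N52729 (tt N48816 (iv1 F150992)) (tt N48815 F150993) (tt N48818 F150988) (tt N27926 F150989) (tt N88401 (iv4 F382879)) (tt N27921 F150990) (tt N78821 F352728) (tt N27920 (iv7 D97967)))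
theorem Q52731 : ∀ i, i < 52731 → P i := stepQ 52730 Q52730 (allL N52730 (tt N28639 F290160) (tt N27922 (iv0 D97968)) (tt N28641 F290161) (tt N85969 (iv3 F374661)) (tt N28319 F150994) (tt N88402 D191288) (tt N28319 F290166) (tt N28232 F290162))
theorem Q52732 : ∀ i, i < 52732 → P i := stepQ 52731 Q52731 (allL N52731 (tt N28641 F290154) (tt N28232 F290155) (tt N27922 (iv2 D97970)) (tt N28569 F289666) (tt N29357 F150999) (tt N88403 D191289) (tt N85504 (iv6 F372880)) (tt N28639 F290182))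
theorem Q52733 : ∀ i, i < 52733 → P i := stepQ 52732 Q52732 (allL N52732 (tt N88404 D191290) (tt N88405 D191291) (tt N88403 (iv2 F382889)) (tt N27923 F151004) (tt N88406 D191292) (tt N27922 (iv5 D97971)) (tt N88407 D191293) (tt N28942 F151005))
theorem Q52734 : ∀ i, i < 52734 → P i := stepQ 52733 Q52733 (allL N52733 (tt N83348 F368301) (tt N88408 D191294) (tt N28940 F151015) (tt N88407 (iv3 F382912)) (tt N86785 (iv4 F377189)) (tt N49755 F151016) (tt N27923 (iv6 D97975)) (tt N88409 D191295))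
theorem Q52735 : ∀ i, i < 52735 → P i := stepQ 52734 Q52734 (allL N52734 (tt N88402 (iv1 F382888)) (tt N28640 F346054) (tt N88410 D191296) (tt N27924 (iv3 D97983)) (tt N62069 (iv4 F346053)) (tt N51111 (iv5 F291495)) (tt N88411 D191297) (tt N28948 F151033))
theorem Q52736 : ∀ i, i < 52736 → P i := stepQ 52735 Q52735 (allL N52735 (tt N53502 (iv1 F153872)) (tt N53175 (iv0 F152855)) (tt N28946 F151034) (tt N88412 D191298) (tt N27924 (iv4 D97984)) (tt N84178 F368430) (tt N84180 (iv6 F368439)) (tt N28949 F151035))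
theorem Q52737 : ∀ i, i < 52737 → P i := stepQ 52736 Q52736 (allL N52736 (tt N77461 (iv1 F368569)) (tt N83467 F361678) (tt N28947 F151036) (tt N88411 (iv3 F382929)) (tt N84180 F368443) (tt N51112 (iv5 F293436)) (tt N27924 (iv6 D97985)) (tt N88413 D191299))
theorem Q52738 : ∀ i, i < 52738 → P i := stepQ 52737 Q52737 (allL N52737 (tt N28934 (iv1 F151040)) (tt N27925 (iv0 D97986)) (tt N28951 (iv2 F151038)) (tt N88414 D191300) (tt N28385 F151037) (tt N84390 (iv5 F369117)) (tt N83465 F378895) (tt N28952 F151039))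
theorem Q52739 : ∀ i, i < 52739 → P i := stepQ 52738 Q52738 (allL N52738 (tt N82740 F354904) (tt N83311 F369452) (tt N88415 D191301) (tt N27925 (iv3 D97987)) (tt N77360 F354903) (tt N84726 (iv5 F370366)) (tt N77359 (iv6 F354902)) (tt N88416 D191302))
theorem Q52740 : ∀ i, i < 52740 → P i := stepQ 52739 Q52739 (allL N52739 (tt N28952 (iv1 F151047)) (tt N28951 F151048) (tt N28934 F151044) (tt N88416 (iv3 F382948)) (tt N27926 F151045) (tt N29059 F151046) (tt N88417 D191303) (tt N27925 (iv7 D97989)))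
theorem Q52741 : ∀ i, i < 52741 → P i := stepQ 52740 Q52740 (allL N52740 (tt N71210 F346670) (tt N88418 D191304) (tt N28933 F151049) (tt N78821 (iv3 F352731)) (tt N88417 (iv4 F382957)) (tt N28339 F151050) (tt N27926 (iv6 D97990)) (tt N81393 (iv7 F274881)))
theorem Q52742 : ∀ i, i < 52742 → P i := stepQ 52741 Q52741 (allL N52741 (tt N28484 (iv1 F151054)) (tt N27927 (iv0 D97991)) (tt N28486 (iv2 F151053)) (tt N49132 F151051) (tt N49232 F151052) (tt N88419 D191305) (tt N28343 (iv6 F151056)) (tt N28198 F151055))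
theorem Q52743 : ∀ i, i < 52743 → P i := stepQ 52742 Q52742 (allL N52742 (tt N88420 D191306) (tt N49148 (iv0 F151078)) (tt N81878 F290091) (tt N27928 F151066) (tt N88421 D191307) (tt N27927 (iv5 D97993)) (tt N88422 D191308) (tt N29051 F151067))
theorem Q52744 : ∀ i, i < 52744 → P i := stepQ 52743 Q52743 (allL N52743 (tt N88423 D191309) (tt N88424 D191310) (tt N29049 F151079) (tt N88422 (iv3 F382981)) (tt N84728 (iv4 F370378)) (tt N52897 (iv5 F151794)) (tt N27928 (iv6 D97997)) (tt N88425 D191311))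
theorem Q52745 : ∀ i, i < 52745 → P i := stepQ 52744 Q52744 (allL N52744 (tt N49228 F291659) (tt N27929 (iv0 D98018)) (tt N83618 F335772) (tt N88426 D191312) (tt N75625 (iv4 F333334)) (tt N85793 F373968) (tt N27931 F335773) (tt N50810 (iv7 F335775)))
theorem Q52746 : ∀ i, i < 52746 → P i := stepQ 52745 Q52745 (allL N52745 (tt N84446 F369312) (tt N88427 D191313) (tt N88428 D191314) (tt N27930 (iv3 D98029)) (tt N48636 F151159) (tt N86421 (iv5 F376161)) (tt N50805 F361055) (tt N83703 F361051))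
theorem Q52747 : ∀ i, i < 52747 → P i := stepQ 52746 Q52746 (allL N52746 (tt N85945 F374547) (tt N49327 (iv0 F151160)) (tt N83706 (iv2 F355746)) (tt N85932 (iv3 F374490)) (tt N27930 (iv4 D98030)) (tt N88429 D191315) (tt N50806 F355751) (tt N83704 (iv7 F355747)))
theorem Q52748 : ∀ i, i < 52748 → P i := stepQ 52747 Q52747 (allL N52747 (tt N84750 (iv1 F370472)) (tt N84448 (iv0 F369320)) (tt N85495 (iv2 F372832)) (tt N27931 (iv3 D98034)) (tt N85494 (iv4 F372830)) (tt N86419 (iv5 F376159)) (tt N88426 (iv6 F382994)) (tt N83705 F366982))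
theorem Q52749 : ∀ i, i < 52749 → P i := stepQ 52748 Q52748 (allL N52748 (tt N49327 F288976) (tt N85945 (iv0 F374548)) (tt N83704 F355748) (tt N49310 F151162) (tt N27931 (iv4 D98035)) (tt N88430 D191316) (tt N75625 F335774) (tt N83706 F355745))
theorem Q52750 : ∀ i, i < 52750 → P i := stepQ 52749 Q52749 (allL N52749 (tt N51244 (iv1 F344302)) (tt N51248 (iv0 F335770)) (tt N27933 F151163) (tt N29091 F151164) (tt N88431 D191317) (tt N27932 (iv5 D98038)) (tt N73963 (iv6 F363539)) (tt N51333 (iv7 F294558)))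
theorem Q52751 : ∀ i, i < 52751 → P i := stepQ 52750 Q52750 (allL N52750 (tt N88432 D191318) (tt N88433 D191319) (tt N88431 (iv2 F383024)) (tt N78674 (iv3 F250197)) (tt N27933 (iv4 D98041)) (tt N88434 D191320) (tt N88435 D191321) (tt N81637 (iv7 F276264)))
theorem Q52752 : ∀ i, i < 52752 → P i := stepQ 52751 Q52751 (allL N52751 (tt N61339 F333380) (tt N73677 F333381) (tt N73963 F333382) (tt N27934 F151165) (tt N88435 (iv4 F383033)) (tt N40877 F333383) (tt N27933 (iv6 D98042)) (tt N73964 F333384))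
theorem Q52753 : ∀ i, i < 52753 → P i := stepQ 52752 Q52752 (allL N52752 (tt N27934 (iv1 D98044)) (tt N29098 F151166) (tt N29097 F355654) (tt N88436 D191322) (tt N73627 F355655) (tt N88437 D191323) (tt N86795 (iv6 F377232)) (tt N29096 F355656))
theorem Q52754 : ∀ i, i < 52754 → P i := stepQ 52753 Q52753 (allL N52753 (tt N29097 (iv1 F151169)) (tt N29096 F151170) (tt N29098 F151167) (tt N73964 F357469) (tt N74138 (iv4 F357465)) (tt N86783 (iv5 F377176)) (tt N81656 (iv6 F276293)) (tt N27934 (iv7 D98045)))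
theorem Q52755 : ∀ i, i < 52755 → P i := stepQ 52754 Q52754 (allL N52754 (tt N44541 (iv1 F305751)) (tt N43165 (iv0 F305752)) (tt N42722 F297896) (tt N64216 (iv3 F193618)) (tt N42786 F151189) (tt N88438 D191324) (tt N27937 (iv6 D98050)) (tt N34120 (iv7 F305753)))
theorem Q52756 : ∀ i, i < 52756 → P i := stepQ 52755 Q52755 (allL N52755 (tt N27940 (iv1 D98054)) (tt N63042 (iv0 F315553)) (tt N75619 (iv2 F319995)) (tt N75796 (iv3 F235906)) (tt N52878 F344401) (tt N88439 D191325) (tt N37382 F354314) (tt N75618 (iv7 F319993)))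
theorem Q52757 : ∀ i, i < 52757 → P i := stepQ 52756 Q52756 (allL N52756 (tt N46633 F297918) (tt N46632 F297919) (tt N48411 F151208) (tt N88440 D191326) (tt N27941 (iv4 D98062)) (tt N42276 F317908) (tt N43673 F310839) (tt N75614 (iv7 F317885)))
theorem Q52758 : ∀ i, i < 52758 → P i := stepQ 52757 Q52757 (allL N52757 (tt N83684 F289554) (tt N88086 (iv0 F381747)) (tt N80675 (iv2 F270414)) (tt N27944 F151219) (tt N48752 F151220) (tt N88441 D191327) (tt N27943 (iv6 D98066)) (tt N84324 (iv7 F368902)))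
theorem Q52759 : ∀ i, i < 52759 → P i := stepQ 52758 Q52758 (allL N52758 (tt N88442 D191328) (tt N48587 F352774) (tt N52805 (iv2 F151422)) (tt N88441 (iv3 F383064)) (tt N88443 D191329) (tt N27944 (iv5 D98069)) (tt N46656 F299273) (tt N84325 (iv7 F368908)))
theorem Q52760 : ∀ i, i < 52760 → P i := stepQ 52759 Q52759 (allL N52759 (tt N84061 F367968) (tt N85531 (iv0 F372958)) (tt N27949 F151223) (tt N84102 (iv3 F368115)) (tt N65548 (iv4 F336671)) (tt N27946 (iv5 D98075)) (tt N34782 F151224) (tt N38786 F336674))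
theorem Q52761 : ∀ i, i < 52761 → P i := stepQ 52760 Q52760 (allL N52760 (tt N50855 (iv1 F294797)) (tt N51895 (iv0 F157298)) (tt N51136 (iv2 F295339)) (tt N27947 (iv3 D98077)) (tt N52104 F151226) (tt N88444 D191330) (tt N88445 D191331) (tt N83823 (iv7 F289237)))
theorem Q52762 : ∀ i, i < 52762 → P i := stepQ 52761 Q52761 (allL N52761 (tt N58287 (iv1 F336757)) (tt N50572 (iv0 F295079)) (tt N83375 (iv2 F289709)) (tt N88444 (iv3 F383073)) (tt N86397 (iv4 F376095)) (tt N27947 (iv5 D98078)) (tt N88446 D191332) (tt N83374 (iv7 F362819)))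
theorem Q52763 : ∀ i, i < 52763 → P i := stepQ 52762 Q52762 (allL N52762 (tt N59251 F329762) (tt N51114 (iv0 F336645)) (tt N40141 F329763) (tt N88445 (iv3 F383076)) (tt N55313 F343851) (tt N40064 F329764) (tt N27947 (iv6 D98079)) (tt N40147 (iv7 F329802)))
theorem Q52764 : ∀ i, i < 52764 → P i := stepQ 52763 Q52763 (allL N52763 (tt N50572 (iv1 F295080)) (tt N58287 (iv0 F336754)) (tt N83374 F362818) (tt N50531 F356244) (tt N86398 (iv4 F376102)) (tt N27948 (iv5 D98081)) (tt N88447 D191333) (tt N83375 (iv7 F289711)))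
theorem Q52765 : ∀ i, i < 52765 → P i := stepQ 52764 Q52764 (allL N52764 (tt N55316 F356196) (tt N80625 F290105) (tt N84330 F368923) (tt N51135 (iv3 F356192)) (tt N82803 (iv4 F295452)) (tt N54195 (iv5 F290103)) (tt N27948 (iv6 D98082)) (tt N81494 F356195))
theorem Q52766 : ∀ i, i < 52766 → P i := stepQ 52765 Q52765 (allL N52765 (tt N38786 F343093) (tt N27949 (iv0 D98083)) (tt N84061 F367966) (tt N88448 D191334) (tt N58216 F343094) (tt N49088 F343095) (tt N88449 D191335) (tt N85531 (iv7 F372957)))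
theorem Q52767 : ∀ i, i < 52767 → P i := stepQ 52766 Q52766 (allL N52766 (tt N27949 (iv1 D98084)) (tt N38786 F336675) (tt N85531 (iv2 F372955)) (tt N51143 F357535) (tt N58218 (iv4 F336755)) (tt N49089 (iv5 F289937)) (tt N88450 D191336) (tt N84061 (iv7 F367964)))
theorem Q52768 : ∀ i, i < 52768 → P i := stepQ 52767 Q52767 (allL N52767 (tt N78140 F360785) (tt N59935 (iv0 F336753)) (tt N65548 (iv2 F336677)) (tt N88451 D191337) (tt N27949 (iv4 D98085)) (tt N58980 F336676) (tt N46683 F151228) (tt N57746 (iv7 F336668)))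
theorem Q52769 : ∀ i, i < 52769 → P i := stepQ 52768 Q52768 (allL N52768 (tt N63936 F306350) (tt N63946 F306351) (tt N49028 F156454) (tt N28782 (iv3 F155185)) (tt N88452 D191338) (tt N27950 (iv5 D98091)) (tt N88453 D191339) (tt N49029 (iv7 F156466)))
theorem Q52770 : ∀ i, i < 52770 → P i := stepQ 52769 Q52769 (allL N52769 (tt N63946 (iv1 F365666)) (tt N63936 (iv0 F356770)) (tt N49029 (iv2 F156451)) (tt N76326 (iv3 F366584)) (tt N88454 D191340) (tt N27951 (iv5 D98096)) (tt N86739 (iv6 F377042)) (tt N49028 (iv7 F156449)))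
theorem Q52771 : ∀ i, i < 52771 → P i := stepQ 52770 Q52770 (allL N52770 (tt N43714 F306353) (tt N28726 F156465) (tt N49030 (iv2 F156452)) (tt N76327 (iv3 F361485)) (tt N87926 (iv4 F381162)) (tt N76871 (iv5 F308283)) (tt N27951 (iv6 D98097)) (tt N35110 F306354))
theorem Q52772 : ∀ i, i < 52772 → P i := stepQ 52771 Q52771 (allL N52771 (tt N49034 (iv1 F151243)) (tt N27952 (iv0 D98098)) (tt N49031 F156894) (tt N28786 F156895) (tt N88455 D191341) (tt N34508 F304535) (tt N88456 D191342) (tt N49032 F156896))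
theorem Q52773 : ∀ i, i < 52773 → P i := stepQ 52772 Q52772 (allL N52772 (tt N27952 (iv1 D98099)) (tt N49034 F151237) (tt N49032 F156892) (tt N43127 F314766) (tt N88457 D191343) (tt N34509 F304537) (tt N88458 D191344) (tt N49031 (iv7 F156893)))
theorem Q52774 : ∀ i, i < 52774 → P i := stepQ 52773 Q52773 (allL N52773 (tt N82876 (iv1 F364058)) (tt N82878 (iv0 F284727)) (tt N49033 F151238) (tt N84807 (iv3 F376936)) (tt N27952 (iv4 D98100)) (tt N87502 (iv5 F379577)) (tt N27954 F151239) (tt N85163 (iv7 F371769)))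
theorem Q52775 : ∀ i, i < 52775 → P i := stepQ 52774 Q52774 (allL N52774 (tt N49032 (iv1 F151244)) (tt N49031 F151245) (tt N49034 F151240) (tt N35463 F151241) (tt N85163 F371767) (tt N27953 F151242) (tt N38768 F329072) (tt N27952 (iv7 D98101)))
theorem Q52776 : ∀ i, i < 52776 → P i := stepQ 52775 Q52775 (allL N52775 (tt N80585 F376961) (tt N88459 D191345) (tt N85168 (iv2 F371785)) (tt N27954 (iv3 D98104)) (tt N88451 (iv4 F383098)) (tt N86306 (iv5 F375771)) (tt N84807 (iv6 F376938)) (tt N85539 (iv7 F373002)))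
theorem Q52777 : ∀ i, i < 52777 → P i := stepQ 52776 Q52776 (allL N52776 (tt N45591 F331882) (tt N34255 F151274) (tt N27959 F151257) (tt N36538 (iv3 F302135)) (tt N47692 F151259) (tt N88460 D191346) (tt N27957 (iv6 D98107)) (tt N77191 F300730))
theorem Q52778 : ∀ i, i < 52778 → P i := stepQ 52777 Q52777 (allL N52777 (tt N45598 F344049) (tt N45535 F344050) (tt N45566 F151266) (tt N27960 F151267) (tt N75803 F344051) (tt N80305 (iv5 F344053)) (tt N27958 (iv6 D98109)) (tt N45597 (iv7 F314290)))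
theorem Q52779 : ∀ i, i < 52779 → P i := stepQ 52778 Q52778 (allL N52778 (tt N77191 (iv1 F343990)) (tt N27959 (iv0 D98110)) (tt N45591 F331883) (tt N34164 F151268) (tt N44511 F309895) (tt N88461 D191347) (tt N63864 F332081) (tt N34255 (iv7 F162722)))
theorem Q52780 : ∀ i, i < 52780 → P i := stepQ 52779 Q52779 (allL N52779 (tt N27959 (iv1 D98111)) (tt N77191 F343991) (tt N34255 F343992) (tt N45531 F343993) (tt N63221 F343994) (tt N88462 D191348) (tt N36511 F343995) (tt N45591 F343996))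
theorem Q52781 : ∀ i, i < 52781 → P i := stepQ 52780 Q52780 (allL N52780 (tt N88463 D191349) (tt N67760 (iv0 F362748)) (tt N88460 (iv2 F383139)) (tt N27961 F151269) (tt N88464 D191350) (tt N27959 (iv5 D98112)) (tt N80305 F362746) (tt N80127 F366930))
theorem Q52782 : ∀ i, i < 52782 → P i := stepQ 52781 Q52781 (allL N52781 (tt N88465 D191351) (tt N84140 (iv0 F368284)) (tt N46832 F151276) (tt N80305 F362745) (tt N88466 D191352) (tt N27960 (iv5 D98116)) (tt N27961 F151277) (tt N54345 F156786))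
theorem Q52783 : ∀ i, i < 52783 → P i := stepQ 52782 Q52782 (allL N52782 (tt N72002 (iv1 F325118)) (tt N71999 (iv0 F325112)) (tt N47068 F151294) (tt N52452 (iv3 F356222)) (tt N27961 (iv4 D98120)) (tt N80140 (iv5 F331230)) (tt N88466 (iv6 F383166)) (tt N55371 (iv7 F328711)))
theorem Q52784 : ∀ i, i < 52784 → P i := stepQ 52783 Q52783 (allL N52783 (tt N51640 F347482) (tt N51637 (iv0 F369727)) (tt N84570 (iv2 F369728)) (tt N27962 (iv3 D98129)) (tt N51609 F151324) (tt N84569 F369726) (tt N27963 F151325) (tt N80129 F366941))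
theorem Q52785 : ∀ i, i < 52785 → P i := stepQ 52784 Q52784 (allL N52784 (tt N83716 (iv1 F288744)) (tt N27963 (iv0 D98132)) (tt N83715 F288736) (tt N44951 F151333) (tt N88467 D191353) (tt N88468 D191354) (tt N81022 F364249) (tt N48380 (iv7 F254479)))
theorem Q52786 : ∀ i, i < 52786 → P i := stepQ 52785 Q52785 (allL N52785 (tt N27963 (iv1 D98133)) (tt N83716 F288745) (tt N48380 F288737) (tt N88469 D191355) (tt N88470 D191356) (tt N68089 F332879) (tt N68090 F364791) (tt N83715 F288738))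
theorem Q52787 : ∀ i, i < 52787 → P i := stepQ 52786 Q52786 (allL N52786 (tt N83715 (iv1 F288740)) (tt N48380 F151335) (tt N27963 (iv2 D98134)) (tt N80062 (iv3 F261153)) (tt N51621 F151334) (tt N86570 (iv5 F376507)) (tt N84570 F369732) (tt N83716 (iv7 F288743)))
theorem Q52788 : ∀ i, i < 52788 → P i := stepQ 52787 Q52787 (allL N52787 (tt N88471 D191357) (tt N88472 D191358) (tt N86570 (iv2 F376505)) (tt N27964 F151336) (tt N88473 D191359) (tt N27963 (iv5 D98135)) (tt N86568 (iv6 F376495)) (tt N78536 (iv7 F249058)))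
theorem Q52789 : ∀ i, i < 52789 → P i := stepQ 52788 Q52788 (allL N52788 (tt N47300 F151342) (tt N47328 F151341) (tt N46550 F151338) (tt N63720 F188951) (tt N27965 (iv4 D98137)) (tt N42096 (iv5 F306674)) (tt N52372 (iv6 F308075)) (tt N47063 F151339))
theorem Q52790 : ∀ i, i < 52790 → P i := stepQ 52789 Q52789 (allL N52789 (tt N47105 F304741) (tt N42719 F304706) (tt N47067 F151343) (tt N80290 (iv3 F262762)) (tt N52372 F310093) (tt N76119 F304708) (tt N27965 (iv6 D98138)) (tt N36585 F304709))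
theorem Q52791 : ∀ i, i < 52791 → P i := stepQ 52790 Q52790 (allL N52790 (tt N46807 F151349) (tt N43440 F300718) (tt N27968 F151345) (tt N34716 F151346) (tt N76905 (iv4 F240687)) (tt N27967 (iv5 D98140)) (tt N46886 F343374) (tt N45565 F151347))
theorem Q52792 : ∀ i, i < 52792 → P i := stepQ 52791 Q52791 (allL N52791 (tt N47554 (iv1 F151354)) (tt N47553 F151353) (tt N27969 F151350) (tt N47069 F151351) (tt N48159 (iv4 F303513)) (tt N75468 (iv5 F334524)) (tt N27967 (iv6 D98141)) (tt N47555 (iv7 F151352)))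
theorem Q52793 : ∀ i, i < 52793 → P i := stepQ 52792 Q52792 (allL N52792 (tt N45565 (iv1 F151357)) (tt N27968 (iv0 D98142)) (tt N46807 (iv2 F151359)) (tt N34711 F151356) (tt N47034 F151355) (tt N27988 F151358) (tt N81535 F303096) (tt N43440 F300714))
theorem Q52794 : ∀ i, i < 52794 → P i := stepQ 52793 Q52793 (allL N52793 (tt N36525 F151369) (tt N63593 (iv0 F188247)) (tt N76905 F240689) (tt N28070 F151366) (tt N27968 (iv4 D98144)) (tt N41933 F151368) (tt N80639 (iv6 F362755)) (tt N46830 F151367))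
theorem Q52795 : ∀ i, i < 52795 → P i := stepQ 52794 Q52794 (allL N52794 (tt N43954 F343958) (tt N46887 F343959) (tt N46886 F340222) (tt N27970 F151370) (tt N80639 F343960) (tt N75487 F343961) (tt N27968 (iv6 D98145)) (tt N46885 F340223))
theorem Q52796 : ∀ i, i < 52796 → P i := stepQ 52795 Q52795 (allL N52795 (tt N47555 (iv1 F151371)) (tt N27969 (iv0 D98146)) (tt N47554 F281952) (tt N38879 F315359) (tt N65221 F300719) (tt N88474 D191360) (tt N36592 F300720) (tt N47553 F281953))
theorem Q52797 : ∀ i, i < 52797 → P i := stepQ 52796 Q52796 (allL N52796 (tt N27969 (iv1 D98147)) (tt N47555 F151372) (tt N47553 F281950) (tt N88475 D191361) (tt N65224 (iv4 F303523)) (tt N41975 F334063) (tt N79492 F300721) (tt N47554 F281951))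
theorem Q52798 : ∀ i, i < 52798 → P i := stepQ 52797 Q52797 (allL N52797 (tt N75467 (iv1 F334050)) (tt N75368 (iv0 F334530)) (tt N75468 (iv2 F334528)) (tt N27971 F151373) (tt N75321 F334527) (tt N27969 (iv5 D98148)) (tt N75487 (iv6 F334532)) (tt N47556 F151374))
theorem Q52799 : ∀ i, i < 52799 → P i := stepQ 52798 Q52798 (allL N52798 (tt N88476 D191362) (tt N85796 (iv0 F373987)) (tt N46836 F151376) (tt N75487 F339585) (tt N81404 F274972) (tt N27970 (iv5 D98151)) (tt N27971 F151377) (tt N75484 (iv7 F357763)))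
theorem Q52800 : ∀ i, i < 52800 → P i := stepQ 52799 Q52799 (allL N52799 (tt N46835 (iv1 F151382)) (tt N46834 F151383) (tt N46837 F151378) (tt N46885 F312604) (tt N28073 F151379) (tt N75484 F357762) (tt N46833 F151380) (tt N27970 (iv7 D98152)))
theorem Q52801 : ∀ i, i < 52801 → P i := stepQ 52800 Q52800 (allL N52800 (tt N31224 (iv1 F326995)) (tt N31972 (iv0 F326967)) (tt N31917 F326034) (tt N45623 (iv3 F298901)) (tt N64435 (iv4 F299239)) (tt N27974 F151402) (tt N63881 (iv6 F298977)) (tt N27973 (iv7 D98157)))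
theorem Q52802 : ∀ i, i < 52802 → P i := stepQ 52801 Q52801 (allL N52801 (tt N49659 F354017) (tt N63143 F185768) (tt N27976 F151415) (tt N75620 (iv3 F320002)) (tt N28003 F151416) (tt N88477 D191363) (tt N27975 (iv6 D98158)) (tt N63926 F354021))
theorem Q52803 : ∀ i, i < 52803 → P i := stepQ 52802 Q52802 (allL N52802 (tt N63926 F344406) (tt N27976 (iv0 D98159)) (tt N49659 F354020) (tt N43510 (iv3 F190294)) (tt N88478 D191364) (tt N88479 D191365) (tt N88480 D191366) (tt N63143 (iv7 F187657)))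
theorem Q52804 : ∀ i, i < 52804 → P i := stepQ 52803 Q52803 (allL N52803 (tt N27976 (iv1 D98160)) (tt N63926 F354022) (tt N63143 (iv2 F354023)) (tt N28613 F354024) (tt N88481 D191367) (tt N88482 D191368) (tt N88483 D191369) (tt N49659 (iv7 F354025)))
theorem Q52805 : ∀ i, i < 52805 → P i := stepQ 52804 Q52804 (allL N52804 (tt N88484 D191370) (tt N54343 (iv0 F355376)) (tt N88477 (iv2 F383211)) (tt N27978 F151417) (tt N88485 D191371) (tt N27976 (iv5 D98161)) (tt N49540 F151418) (tt N63927 F366934))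
theorem Q52806 : ∀ i, i < 52806 → P i := stepQ 52805 Q52805 (allL N52805 (tt N54647 F363077) (tt N82694 (iv0 F356422)) (tt N52758 F151422) (tt N49540 F151423) (tt N88486 D191372) (tt N27977 (iv5 D98165)) (tt N27978 F151424) (tt N82678 (iv7 F352775)))
theorem Q52807 : ∀ i, i < 52807 → P i := stepQ 52806 Q52806 (allL N52806 (tt N88487 D191373) (tt N88488 D191374) (tt N80504 (iv2 F299272)) (tt N88489 D191375) (tt N27978 (iv4 D98167)) (tt N64373 (iv5 F366890)) (tt N88486 (iv6 F383243)) (tt N63932 F366891))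
theorem Q52808 : ∀ i, i < 52808 → P i := stepQ 52807 Q52807 (allL N52807 (tt N28496 F302019) (tt N43547 F301703) (tt N43549 F301704) (tt N27979 (iv3 D98169)) (tt N34805 F301705) (tt N82291 (iv5 F280038)) (tt N88490 D191376) (tt N34805 F151434))
theorem Q52809 : ∀ i, i < 52809 → P i := stepQ 52808 Q52808 (allL N52808 (tt N46668 F301706) (tt N34569 F201463) (tt N34809 F151435) (tt N88490 (iv3 F383256)) (tt N27981 F151436) (tt N64443 (iv5 F301982)) (tt N27979 (iv6 D98170)) (tt N64602 (iv7 F303765)))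
theorem Q52810 : ∀ i, i < 52810 → P i := stepQ 52809 Q52809 (allL N52809 (tt N34462 F298001) (tt N31970 F326110) (tt N31107 F326111) (tt N54842 (iv3 F299279)) (tt N64445 (iv4 F300433)) (tt N27981 (iv5 D98173)) (tt N45608 F151438) (tt N58699 F326112))
theorem Q52811 : ∀ i, i < 52811 → P i := stepQ 52810 Q52810 (allL N52810 (tt N78421 (iv1 F248762)) (tt N79388 F255496) (tt N59754 (iv2 F324105)) (tt N80315 F301028) (tt N64602 (iv4 F303763)) (tt N58699 (iv5 F325341)) (tt N80315 (iv6 F263559)) (tt N27981 (iv7 D98174)))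
theorem Q52812 : ∀ i, i < 52812 → P i := stepQ 52811 Q52811 (allL N52811 (tt N43158 F305114) (tt N33943 F303097) (tt N43157 F306765) (tt N27988 (iv3 D98189)) (tt N34470 F151496) (tt N34711 F151494) (tt N65412 (iv6 F353903)) (tt N43156 F306766))
theorem Q52813 : ∀ i, i < 52813 → P i := stepQ 52812 Q52812 (allL N52812 (tt N75773 F300766) (tt N70545 (iv0 F334187)) (tt N27990 F151505) (tt N46817 F151506) (tt N36452 (iv4 F303543)) (tt N44738 (iv5 F310294)) (tt N27989 (iv6 D98193)) (tt N88491 D191377))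
theorem Q52814 : ∀ i, i < 52814 → P i := stepQ 52813 Q52813 (allL N52813 (tt N88491 (iv1 F383265)) (tt N27990 (iv0 D98194)) (tt N75773 F300768) (tt N70523 F351812) (tt N43716 F300769) (tt N79488 F300770) (tt N75763 F300771) (tt N70545 (iv7 F334185)))
theorem Q52815 : ∀ i, i < 52815 → P i := stepQ 52814 Q52814 (allL N52814 (tt N27990 (iv1 D98195)) (tt N88491 F383264) (tt N70545 (iv2 F334181)) (tt N45682 F310109) (tt N43715 (iv4 F303573)) (tt N45681 (iv5 F312373)) (tt N75458 F300773) (tt N75773 F300774))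
theorem Q52816 : ∀ i, i < 52816 → P i := stepQ 52815 Q52815 (allL N52815 (tt N70545 (iv1 F334188)) (tt N75773 F300779) (tt N88491 (iv2 F383259)) (tt N27994 F151509) (tt N42840 (iv4 F303552)) (tt N46879 F312593) (tt N44817 F151511) (tt N27990 (iv7 D98197)))
theorem Q52817 : ∀ i, i < 52817 → P i := stepQ 52816 Q52816 (allL N52816 (tt N33940 F346375) (tt N38629 F346376) (tt N38638 F330190) (tt N27992 (iv3 D98200)) (tt N45443 F151518) (tt N79493 (iv5 F363369)) (tt N88492 D191378) (tt N38639 F330191))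
theorem Q52818 : ∀ i, i < 52818 → P i := stepQ 52817 Q52817 (allL N52817 (tt N46850 F151527) (tt N28014 F151528) (tt N44840 F151523) (tt N88492 (iv3 F383267)) (tt N34820 F151524) (tt N47210 F151526) (tt N27992 (iv6 D98202)) (tt N44816 F300787))
theorem Q52819 : ∀ i, i < 52819 → P i := stepQ 52818 Q52818 (allL N52818 (tt N79500 F300484) (tt N79502 F300485) (tt N80928 F300486) (tt N81794 F300487) (tt N72465 F357490) (tt N27997 (iv5 D98213)) (tt N72464 (iv6 F357471)) (tt N45751 F300488))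
theorem Q52820 : ∀ i, i < 52820 → P i := stepQ 52819 Q52819 (allL N52819 (tt N69671 F321372) (tt N37210 F321373) (tt N69670 (iv2 F322998)) (tt N28000 F151557) (tt N70089 (iv4 F323001)) (tt N37156 F321374) (tt N27998 (iv6 D98215)) (tt N69185 F321375))
theorem Q52821 : ∀ i, i < 52821 → P i := stepQ 52820 Q52820 (allL N52820 (tt N48872 F321376) (tt N76528 F321377) (tt N69182 (iv2 F321676)) (tt N52856 (iv3 F151723)) (tt N28000 F151558) (tt N88493 D191379) (tt N27999 (iv6 D98216)) (tt N69187 F321378))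
theorem Q52822 : ∀ i, i < 52822 → P i := stepQ 52821 Q52821 (allL N52821 (tt N46590 (iv1 F151563)) (tt N46587 F151561) (tt N28001 (iv2 D98221)) (tt N43180 F151559) (tt N45304 F151562) (tt N37606 F307223) (tt N63429 F301921) (tt N78541 (iv7 F249066)))
theorem Q52823 : ∀ i, i < 52823 → P i := stepQ 52822 Q52822 (allL N52822 (tt N46579 F151570) (tt N42255 F306210) (tt N45304 F151566) (tt N46719 F151567) (tt N28001 (iv4 D98222)) (tt N34248 (iv5 F308211)) (tt N34250 F306211) (tt N45301 F151568))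
theorem Q52824 : ∀ i, i < 52824 → P i := stepQ 52823 Q52823 (allL N52823 (tt N28007 (iv1 F151587)) (tt N28003 (iv0 D98229)) (tt N28004 F345520) (tt N58788 F337179) (tt N82824 (iv4 F354029)) (tt N48255 F345519) (tt N88494 D191380) (tt N28005 F345521))
theorem Q52825 : ∀ i, i < 52825 → P i := stepQ 52824 Q52824 (allL N52824 (tt N28003 (iv1 D98230)) (tt N28007 F151581) (tt N28005 F351716) (tt N78588 (iv3 F307598)) (tt N82825 F354009) (tt N48256 F342099) (tt N78615 (iv6 F342102)) (tt N28004 F351717))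
theorem Q52826 : ∀ i, i < 52826 → P i := stepQ 52825 Q52825 (allL N52825 (tt N43482 F304714) (tt N53068 F354015) (tt N82824 F354026) (tt N80699 F304715) (tt N28004 (iv4 D98235)) (tt N88495 D191381) (tt N88496 D191382) (tt N82825 (iv7 F354011)))
theorem Q52827 : ∀ i, i < 52827 → P i := stepQ 52826 Q52826 (allL N52826 (tt N35502 F336008) (tt N48257 F336009) (tt N48255 F345517) (tt N80700 (iv3 F362442)) (tt N88497 D191383) (tt N28004 (iv5 D98236)) (tt N48325 F336015) (tt N48256 F345518))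
theorem Q52828 : ∀ i, i < 52828 → P i := stepQ 52827 Q52827 (allL N52827 (tt N69340 F353794) (tt N80343 F353800) (tt N88494 (iv2 F383275)) (tt N80701 F366896) (tt N88496 (iv4 F383278)) (tt N88498 D191384) (tt N28004 (iv6 D98237)) (tt N88499 D191385))
theorem Q52829 : ∀ i, i < 52829 → P i := stepQ 52828 Q52828 (allL N52828 (tt N87923 (iv1 F381149)) (tt N80741 (iv0 F344410)) (tt N58893 (iv2 F351707)) (tt N28005 (iv3 D98239)) (tt N73695 F340955) (tt N58789 F351643) (tt N88500 D191386) (tt N58788 (iv7 F351709)))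
theorem Q52830 : ∀ i, i < 52830 → P i := stepQ 52829 Q52829 (allL N52829 (tt N53068 (iv1 F354030)) (tt N43482 F304716) (tt N82825 (iv2 F354010)) (tt N34860 F304717) (tt N28005 (iv4 D98240)) (tt N88501 D191387) (tt N88502 D191388) (tt N82824 F354027))
theorem Q52831 : ∀ i, i < 52831 → P i := stepQ 52830 Q52830 (allL N52830 (tt N48257 F351711) (tt N35502 F351712) (tt N48256 F345522) (tt N58789 (iv3 F351708)) (tt N72917 F351710) (tt N28005 (iv5 D98241)) (tt N79518 (iv6 F360734)) (tt N48255 F345523))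
theorem Q52832 : ∀ i, i < 52832 → P i := stepQ 52831 Q52831 (allL N52831 (tt N78618 F351713) (tt N37227 F351714) (tt N78615 F351719) (tt N88500 (iv3 F383294)) (tt N88502 (iv4 F383300)) (tt N88503 D191389) (tt N28005 (iv6 D98242)) (tt N78616 (iv7 F351720)))
theorem Q52833 : ∀ i, i < 52833 → P i := stepQ 52832 Q52832 (allL N52832 (tt N80982 (iv1 F358728)) (tt N82358 F358718) (tt N65407 (iv2 F358716)) (tt N88504 D191390) (tt N28006 (iv4 D98245)) (tt N88505 D191391) (tt N81359 (iv6 F274489)) (tt N82359 F358717))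
theorem Q52834 : ∀ i, i < 52834 → P i := stepQ 52833 Q52833 (allL N52833 (tt N80742 F357801) (tt N78545 (iv0 F353096)) (tt N88506 D191392) (tt N28008 (iv3 D98247)) (tt N88507 D191393) (tt N46872 F151594) (tt N88508 D191394) (tt N78417 (iv7 F329441)))
theorem Q52835 : ∀ i, i < 52835 → P i := stepQ 52834 Q52834 (allL N52834 (tt N45389 F333783) (tt N78414 F333784) (tt N47280 (iv2 F333787)) (tt N88508 (iv3 F383317)) (tt N80736 (iv4 F270723)) (tt N47266 F333785) (tt N28008 (iv6 D98248)) (tt N47276 F333786))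
theorem Q52836 : ∀ i, i < 52836 → P i := stepQ 52835 Q52835 (allL N52835 (tt N63853 F191350) (tt N76878 (iv0 F240158)) (tt N78590 (iv2 F249646)) (tt N28009 (iv3 D98249)) (tt N64084 F344889) (tt N46675 F151595) (tt N64083 F354801) (tt N78586 (iv7 F249620)))
theorem Q52837 : ∀ i, i < 52837 → P i := stepQ 52836 Q52836 (allL N52836 (tt N52839 (iv1 F151605)) (tt N28010 (iv0 D98251)) (tt N46858 (iv2 F151597)) (tt N60546 F345724) (tt N44747 F151596) (tt N46473 (iv5 F301020)) (tt N60544 (iv6 F345732)) (tt N46860 (iv7 F151598)))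
theorem Q52838 : ∀ i, i < 52838 → P i := stepQ 52837 Q52837 (allL N52837 (tt N28010 (iv1 D98252)) (tt N52839 (iv0 F151604)) (tt N46860 (iv2 F151601)) (tt N60442 F365496) (tt N44748 F151600) (tt N52845 (iv5 F151639)) (tt N65425 F334381) (tt N46858 F151599))
theorem Q52839 : ∀ i, i < 52839 → P i := stepQ 52838 Q52838 (allL N52838 (tt N82345 F347408) (tt N46244 F347409) (tt N67434 F347407) (tt N28010 (iv3 D98253)) (tt N88504 (iv4 F383308)) (tt N35512 F347410) (tt N67426 (iv6 F347406)) (tt N48259 F347411))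
theorem Q52840 : ∀ i, i < 52840 → P i := stepQ 52839 Q52839 (allL N52839 (tt N52837 F151604) (tt N52836 F151605) (tt N52840 (iv2 F151606)) (tt N35512 F321831) (tt N35513 F321832) (tt N28010 (iv5 D98254)) (tt N80117 F321833) (tt N44772 F151603))
theorem Q52841 : ∀ i, i < 52841 → P i := stepQ 52840 Q52840 (allL N52840 (tt N46860 (iv1 F151609)) (tt N46858 F151610) (tt N52839 F151606) (tt N48259 F323858) (tt N28011 F151607) (tt N44772 F151608) (tt N88509 D191395) (tt N28010 (iv7 D98255)))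
theorem Q52842 : ∀ i, i < 52842 → P i := stepQ 52841 Q52841 (allL N52841 (tt N81991 F321802) (tt N47798 F333809) (tt N46204 F321804) (tt N81994 F321805) (tt N88509 (iv4 F383323)) (tt N45429 F300664) (tt N28011 (iv6 D98256)) (tt N81363 (iv7 F274633)))
theorem Q52843 : ∀ i, i < 52843 → P i := stepQ 52842 Q52842 (allL N52842 (tt N46852 (iv1 F151622)) (tt N28012 (iv0 D98258)) (tt N46851 F151624) (tt N34143 F151621) (tt N73973 (iv4 F308967)) (tt N45913 F332129) (tt N45418 F298808) (tt N34138 (iv7 F151623)))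
theorem Q52844 : ∀ i, i < 52844 → P i := stepQ 52843 Q52843 (allL N52843 (tt N46851 (iv1 F151632)) (tt N34138 F151631) (tt N28012 (iv2 D98259)) (tt N36490 (iv3 F301513)) (tt N46623 F151629) (tt N31276 F328009) (tt N88510 D191396) (tt N46852 F151630))
theorem Q52845 : ∀ i, i < 52845 → P i := stepQ 52844 Q52844 (allL N52844 (tt N88511 D191397) (tt N88512 D191398) (tt N88510 (iv2 F383329)) (tt N28014 F151635) (tt N46625 F151636) (tt N60088 (iv5 F350649)) (tt N28012 (iv6 D98261)) (tt N81120 (iv7 F273421)))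
theorem Q52846 : ∀ i, i < 52846 → P i := stepQ 52845 Q52845 (allL N52845 (tt N47519 F151640) (tt N80373 (iv0 F303715)) (tt N46848 F151637) (tt N32274 F328006) (tt N28013 (iv4 D98262)) (tt N52837 F151639) (tt N32273 F328007) (tt N46854 F151638))
theorem Q52847 : ∀ i, i < 52847 → P i := stepQ 52846 Q52846 (allL N52846 (tt N36510 F151699) (tt N36561 F151700) (tt N36559 F151696) (tt N37073 F310112) (tt N28017 (iv4 D98284)) (tt N34585 F151698) (tt N37072 F310113) (tt N36560 F151697))
theorem Q52848 : ∀ i, i < 52848 → P i := stepQ 52847 Q52847 (allL N52847 (tt N80866 F354648) (tt N28173 F354650) (tt N83893 (iv2 F367417)) (tt N37372 F317132) (tt N37072 F317133) (tt N88513 D191399) (tt N28017 (iv6 D98285)) (tt N67619 F317134))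
theorem Q52849 : ∀ i, i < 52849 → P i := stepQ 52848 Q52848 (allL N52848 (tt N83936 (iv1 F367546)) (tt N28191 F177443) (tt N83761 (iv2 F367048)) (tt N85920 (iv3 F374473)) (tt N88514 D191400) (tt N28018 (iv5 D98288)) (tt N88513 (iv6 F383348)) (tt N83760 (iv7 F367047)))
theorem Q52850 : ∀ i, i < 52850 → P i := stepQ 52849 Q52849 (allL N52849 (tt N36561 F151705) (tt N36510 F151706) (tt N36560 F151701) (tt N46925 F151702) (tt N28019 (iv4 D98290)) (tt N34587 F151703) (tt N88515 D191401) (tt N36559 F151704))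
theorem Q52851 : ∀ i, i < 52851 → P i := stepQ 52850 Q52850 (allL N52850 (tt N28081 F344995) (tt N80630 F345812) (tt N80850 (iv2 F332345)) (tt N47257 F151707) (tt N88515 (iv4 F383354)) (tt N67798 F344996) (tt N28019 (iv6 D98291)) (tt N77211 F344997))
theorem Q52852 : ∀ i, i < 52852 → P i := stepQ 52851 Q52851 (allL N52851 (tt N28107 F344982) (tt N84016 F367815) (tt N83892 (iv2 F367412)) (tt N87252 (iv3 F378880)) (tt N67789 F345002) (tt N28020 (iv5 D98294)) (tt N67798 (iv6 F345001)) (tt N83994 (iv7 F367750)))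
theorem Q52853 : ∀ i, i < 52853 → P i := stepQ 52852 Q52852 (allL N52852 (tt N84340 (iv1 F368978)) (tt N84339 F368975) (tt N28029 F151710) (tt N48770 F151711) (tt N45572 F343384) (tt N28022 (iv5 D98297)) (tt N78542 F346299) (tt N84338 (iv7 F368966)))
theorem Q52854 : ∀ i, i < 52854 → P i := stepQ 52853 Q52853 (allL N52853 (tt N42810 F151715) (tt N43439 F151716) (tt N43438 F151712) (tt N45573 F298566) (tt N28023 (iv4 D98298)) (tt N33836 F151714) (tt N67645 (iv6 F351954)) (tt N42664 F151713))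
theorem Q52855 : ∀ i, i < 52855 → P i := stepQ 52854 Q52854 (allL N52854 (tt N53556 F351946) (tt N53186 F351947) (tt N53484 (iv2 F153845)) (tt N64295 (iv3 F195650)) (tt N67645 (iv4 F351953)) (tt N88516 D191402) (tt N28023 (iv6 D98299)) (tt N53555 (iv7 F351960)))
theorem Q52856 : ∀ i, i < 52856 → P i := stepQ 52855 Q52855 (allL N52855 (tt N43439 F151721) (tt N42810 F151722) (tt N42664 F151717) (tt N44732 F151718) (tt N28024 (iv4 D98300)) (tt N34584 F151719) (tt N88517 D191403) (tt N43438 F151720))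
theorem Q52857 : ∀ i, i < 52857 → P i := stepQ 52856 Q52856 (allL N52856 (tt N53206 F366447) (tt N53746 (iv0 F364882)) (tt N53482 (iv2 F153841)) (tt N52820 F151723) (tt N88517 (iv4 F383364)) (tt N88518 D191404) (tt N28024 (iv6 D98301)) (tt N53745 (iv7 F363116)))
theorem Q52858 : ∀ i, i < 52858 → P i := stepQ 52857 Q52857 (allL N52857 (tt N45101 F304318) (tt N76948 F304319) (tt N78542 F304320) (tt N28031 F151725) (tt N43767 F304321) (tt N28026 (iv5 D98305)) (tt N28029 F151726) (tt N78544 F304322))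
theorem Q52859 : ∀ i, i < 52859 → P i := stepQ 52858 Q52858 (allL N52858 (tt N80594 F349050) (tt N48695 F349051) (tt N49392 (iv2 F151730)) (tt N28027 (iv3 D98307)) (tt N49383 F151729) (tt N88519 D191405) (tt N88520 D191406) (tt N49396 F151728))
theorem Q52860 : ∀ i, i < 52860 → P i := stepQ 52859 Q52859 (allL N52859 (tt N79004 (iv1 F251781)) (tt N32847 F290310) (tt N51500 F151732) (tt N51483 F151734) (tt N28027 (iv4 D98308)) (tt N88521 D191407) (tt N88522 D191408) (tt N51488 F151733))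
theorem Q52861 : ∀ i, i < 52861 → P i := stepQ 52860 Q52860 (allL N52860 (tt N84352 (iv1 F369031)) (tt N54727 (iv0 F368188)) (tt N84337 (iv2 F368958)) (tt N88519 (iv3 F383372)) (tt N47394 F335210) (tt N28027 (iv5 D98309)) (tt N88523 D191409) (tt N47393 F335211))
theorem Q52862 : ∀ i, i < 52862 → P i := stepQ 52861 Q52861 (allL N52861 (tt N83996 F368189) (tt N83883 F368190) (tt N84002 (iv2 F367775)) (tt N88520 (iv3 F383377)) (tt N88522 (iv4 F383386)) (tt N88524 D191410) (tt N28027 (iv6 D98310)) (tt N84001 F375476))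
theorem Q52863 : ∀ i, i < 52863 → P i := stepQ 52862 Q52862 (allL N52862 (tt N54727 F344373) (tt N84352 F369033) (tt N47393 F335204) (tt N87255 (iv3 F378904)) (tt N47359 F335205) (tt N28028 (iv5 D98312)) (tt N47370 F335206) (tt N84337 (iv7 F368959)))
theorem Q52864 : ∀ i, i < 52864 → P i := stepQ 52863 Q52863 (allL N52863 (tt N51095 F345184) (tt N53678 (iv0 F367128)) (tt N53676 F367141) (tt N87256 (iv3 F378910)) (tt N79013 (iv4 F251832)) (tt N85336 (iv5 F372278)) (tt N28028 (iv6 D98313)) (tt N53677 (iv7 F367146)))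
theorem Q52865 : ∀ i, i < 52865 → P i := stepQ 52864 Q52864 (allL N52864 (tt N84338 (iv1 F368968)) (tt N28029 (iv0 D98314)) (tt N84340 F368982) (tt N61542 F366793) (tt N88525 D191411) (tt N53787 F363720) (tt N88526 D191412) (tt N84339 F368977))
theorem Q52866 : ∀ i, i < 52866 → P i := stepQ 52865 Q52865 (allL N52865 (tt N28029 (iv1 D98315)) (tt N84338 (iv0 F368967)) (tt N84339 F368976) (tt N76949 (iv3 F355681)) (tt N68533 (iv4 F339756)) (tt N53788 (iv5 F161657)) (tt N88527 D191413) (tt N84340 (iv7 F368979)))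
theorem Q52867 : ∀ i, i < 52867 → P i := stepQ 52866 Q52866 (allL N52866 (tt N88528 D191414) (tt N88529 D191415) (tt N45572 F335213) (tt N88093 (iv3 F381779)) (tt N28029 (iv4 D98316)) (tt N45568 F335214) (tt N43767 F364472) (tt N84341 (iv7 F368985)))
theorem Q52868 : ∀ i, i < 52868 → P i := stepQ 52867 Q52867 (allL N52867 (tt N53210 (iv1 F272802)) (tt N53757 (iv0 F154559)) (tt N46376 F303333) (tt N53177 F303334) (tt N46378 F303335) (tt N52946 F151902) (tt N28030 (iv6 D98321)) (tt N53755 F287002))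
theorem Q52869 : ∀ i, i < 52869 → P i := stepQ 52868 Q52868 (allL N52868 (tt N69937 (iv1 F354732)) (tt N69935 (iv0 F354721)) (tt N29009 F151741) (tt N69982 (iv3 F333150)) (tt N83871 (iv4 F367314)) (tt N54797 (iv5 F157838)) (tt N28033 (iv6 D98332)) (tt N69983 F333146))
theorem Q52870 : ∀ i, i < 52870 → P i := stepQ 52869 Q52869 (allL N52869 (tt N88530 D191416) (tt N59723 (iv0 F361279)) (tt N48908 F308340) (tt N28034 (iv3 D98333)) (tt N88093 (iv4 F381780)) (tt N54510 (iv5 F157060)) (tt N48905 F308341) (tt N84343 (iv7 F368993)))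
theorem Q52871 : ∀ i, i < 52871 → P i := stepQ 52870 Q52870 (allL N52870 (tt N28189 F284559) (tt N83940 F367562) (tt N48552 F151742) (tt N48701 F151743) (tt N88531 D191417) (tt N28035 (iv5 D98334)) (tt N75864 (iv6 F234478)) (tt N83929 (iv7 F367521)))
theorem Q52872 : ∀ i, i < 52872 → P i := stepQ 52871 Q52871 (allL N52871 (tt N28042 (iv1 F151748)) (tt N28036 (iv0 D98335)) (tt N28039 (iv2 F151745)) (tt N48598 F151746) (tt N51826 F151744) (tt N88532 D191418) (tt N83932 (iv6 F367530)) (tt N28040 F151747))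
theorem Q52873 : ∀ i, i < 52873 → P i := stepQ 52872 Q52872 (allL N52872 (tt N88533 D191419) (tt N49194 (iv0 F151751)) (tt N28041 F151750) (tt N83896 (iv3 F367435)) (tt N88534 D191420) (tt N28036 (iv5 D98336)) (tt N83169 (iv6 F286170)) (tt N88535 D191421))
theorem Q52874 : ∀ i, i < 52874 → P i := stepQ 52873 Q52873 (allL N52873 (tt N28040 (iv1 F151757)) (tt N28039 F151758) (tt N28042 F151754) (tt N83897 (iv3 F367437)) (tt N52498 F151755) (tt N88535 (iv5 F383442)) (tt N48771 F151756) (tt N28036 (iv7 D98337)))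
theorem Q52875 : ∀ i, i < 52875 → P i := stepQ 52874 Q52874 (allL N52874 (tt N48767 (iv1 F151761)) (tt N28037 (iv0 D98338)) (tt N36422 F303424) (tt N34833 (iv3 F151762)) (tt N48412 F151759) (tt N32799 F303425) (tt N32801 F303426) (tt N48765 (iv7 F151763)))
theorem Q52876 : ∀ i, i < 52876 → P i := stepQ 52875 Q52875 (allL N52875 (tt N28037 (iv1 D98339)) (tt N48767 F151764) (tt N48765 F151767) (tt N36455 (iv3 F303515)) (tt N28263 F151765) (tt N36423 F303430) (tt N78318 F303431) (tt N36422 F303432))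
theorem Q52877 : ∀ i, i < 52877 → P i := stepQ 52876 Q52876 (allL N52876 (tt N63262 (iv1 F186623)) (tt N64060 (iv0 F192605)) (tt N49039 F151769) (tt N34997 F151770) (tt N63538 F303647) (tt N28037 (iv5 D98340)) (tt N36521 F303648) (tt N53549 (iv7 F153997)))
theorem Q52878 : ∀ i, i < 52878 → P i := stepQ 52877 Q52877 (allL N52877 (tt N88536 D191422) (tt N88537 D191423) (tt N83168 (iv2 F286164)) (tt N37613 F307595) (tt N28038 F151771) (tt N66750 F366435) (tt N28037 (iv6 D98341)) (tt N88538 D191424))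
theorem Q52879 : ∀ i, i < 52879 → P i := stepQ 52878 Q52878 (allL N52878 (tt N28038 (iv1 D98343)) (tt N76924 (iv0 F302980)) (tt N76963 F344402) (tt N63115 F344403) (tt N52755 (iv4 F344401)) (tt N88539 D191425) (tt N68285 (iv6 F354316)) (tt N63128 F344404))
theorem Q52880 : ∀ i, i < 52880 → P i := stepQ 52879 Q52879 (allL N52879 (tt N77072 F344405) (tt N88540 D191426) (tt N83169 (iv2 F286169)) (tt N28045 F151772) (tt N88541 D191427) (tt N28038 (iv5 D98344)) (tt N28041 F151773) (tt N88542 D191428))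
theorem Q52881 : ∀ i, i < 52881 → P i := stepQ 52880 Q52880 (allL N52880 (tt N76963 (iv1 F306625)) (tt N63128 (iv0 F344407)) (tt N76924 (iv2 F302982)) (tt N28046 F151774) (tt N88538 (iv4 F383460)) (tt N88542 (iv5 F383470)) (tt N53553 (iv6 F154004)) (tt N28038 (iv7 D98345)))
theorem Q52882 : ∀ i, i < 52882 → P i := stepQ 52881 Q52881 (allL N52881 (tt N83563 F287795) (tt N83564 F287799) (tt N88532 (iv2 F383430)) (tt N48543 F151775) (tt N88543 D191429) (tt N28039 (iv5 D98346)) (tt N88544 D191430) (tt N48613 F151776))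
theorem Q52883 : ∀ i, i < 52883 → P i := stepQ 52882 Q52882 (allL N52882 (tt N83564 F287798) (tt N83563 (iv0 F287794)) (tt N48613 F151777) (tt N84222 (iv3 F368572)) (tt N88545 D191431) (tt N28040 (iv5 D98347)) (tt N88546 D191432) (tt N88532 (iv7 F383432)))
theorem Q52884 : ∀ i, i < 52884 → P i := stepQ 52883 Q52883 (allL N52883 (tt N53794 (iv1 F283715)) (tt N48780 F154639) (tt N48614 F151778) (tt N55303 F362780) (tt N88061 (iv4 F381633)) (tt N88547 D191433) (tt N28040 (iv6 D98348)) (tt N55306 (iv7 F352761)))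
theorem Q52885 : ∀ i, i < 52885 → P i := stepQ 52884 Q52884 (allL N52884 (tt N88535 (iv1 F383444)) (tt N28041 (iv0 D98349)) (tt N88533 F383436) (tt N48689 F283275) (tt N88548 D191434) (tt N48841 (iv5 F283276)) (tt N88549 D191435) (tt N49194 (iv7 F283277)))
theorem Q52886 : ∀ i, i < 52886 → P i := stepQ 52885 Q52885 (allL N52885 (tt N28041 (iv1 D98350)) (tt N88535 F383443) (tt N49194 F151780) (tt N83474 (iv3 F287597)) (tt N88550 D191436) (tt N49193 (iv5 F151779)) (tt N88551 D191437) (tt N88533 (iv7 F383438)))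
theorem Q52887 : ∀ i, i < 52887 → P i := stepQ 52886 Q52886 (allL N52886 (tt N88552 D191438) (tt N88553 D191439) (tt N88534 (iv2 F383440)) (tt N88554 D191440) (tt N28041 (iv4 D98351)) (tt N88555 D191441) (tt N88541 (iv6 F383468)) (tt N88556 D191442))
theorem Q52888 : ∀ i, i < 52888 → P i := stepQ 52887 Q52887 (allL N52887 (tt N49194 (iv1 F151783)) (tt N88533 F383439) (tt N88535 (iv2 F383441)) (tt N28049 F151781) (tt N88556 (iv4 F383489)) (tt N28042 F151782) (tt N88557 D191443) (tt N28041 (iv7 D98352)))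
theorem Q52889 : ∀ i, i < 52889 → P i := stepQ 52888 Q52888 (allL N52888 (tt N53130 F152502) (tt N88558 D191444) (tt N53541 (iv2 F274655)) (tt N46411 F308588) (tt N88559 D191445) (tt N28043 (iv5 D98356)) (tt N88560 D191446) (tt N53543 (iv7 F274653)))
theorem Q52890 : ∀ i, i < 52890 → P i := stepQ 52889 Q52889 (allL N52889 (tt N53188 (iv1 F275006)) (tt N53580 (iv0 F154052)) (tt N53542 (iv2 F274651)) (tt N46412 F308589) (tt N46419 F308590) (tt N47861 (iv5 F310671)) (tt N28043 (iv6 D98357)) (tt N53578 (iv7 F274981)))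
theorem Q52891 : ∀ i, i < 52891 → P i := stepQ 52890 Q52890 (allL N52890 (tt N88558 (iv1 F383492)) (tt N53130 (iv0 F274648)) (tt N53543 (iv2 F274654)) (tt N77046 F366798) (tt N88561 D191447) (tt N28044 (iv5 D98361)) (tt N88562 D191448) (tt N53541 F274656))
theorem Q52892 : ∀ i, i < 52892 → P i := stepQ 52891 Q52891 (allL N52891 (tt N53744 (iv1 F274645)) (tt N53208 F274647) (tt N53544 (iv2 F274637)) (tt N77047 F366799) (tt N78548 F274636) (tt N52956 (iv5 F151921)) (tt N28044 (iv6 D98362)) (tt N53743 (iv7 F274644)))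
theorem Q52893 : ∀ i, i < 52893 → P i := stepQ 52892 Q52892 (allL N52892 (tt N53548 (iv1 F153989)) (tt N28045 (iv0 D98363)) (tt N53545 (iv2 F275100)) (tt N63913 (iv3 F343484)) (tt N84171 (iv4 F368412)) (tt N64564 F343483) (tt N88563 D191449) (tt N53546 F275101))
theorem Q52894 : ∀ i, i < 52894 → P i := stepQ 52893 Q52893 (allL N52893 (tt N28045 (iv1 D98364)) (tt N53548 F153987) (tt N53546 (iv2 F275092)) (tt N77048 (iv3 F368417)) (tt N84172 (iv4 F368416)) (tt N81416 F275091) (tt N88564 D191450) (tt N53545 (iv7 F275093)))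
theorem Q52895 : ∀ i, i < 52895 → P i := stepQ 52894 Q52894 (allL N52894 (tt N88565 D191451) (tt N54368 (iv0 F272668)) (tt N53547 (iv2 F153982)) (tt N88566 D191452) (tt N28045 (iv4 D98365)) (tt N88567 D191453) (tt N28048 F151786) (tt N88568 D191454))
theorem Q52896 : ∀ i, i < 52896 → P i := stepQ 52895 Q52895 (allL N52895 (tt N53546 (iv1 F153980)) (tt N53545 F153986) (tt N53548 (iv2 F153984)) (tt N88542 (iv3 F383469)) (tt N88568 (iv4 F383510)) (tt N28046 F151787) (tt N88569 D191455) (tt N28045 (iv7 D98366)))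
theorem Q52897 : ∀ i, i < 52897 → P i := stepQ 52896 Q52896 (allL N52896 (tt N28148 F151789) (tt N83495 (iv0 F287637)) (tt N83959 F367620) (tt N28047 (iv3 D98369)) (tt N88570 D191456) (tt N50514 (iv5 F290615)) (tt N83444 F382984) (tt N50513 F367220))
theorem Q52898 : ∀ i, i < 52898 → P i := stepQ 52897 Q52897 (allL N52897 (tt N88571 D191457) (tt N88572 D191458) (tt N54818 (iv2 F157920)) (tt N83444 F382983) (tt N84318 (iv4 F368881)) (tt N52743 F151794) (tt N28047 (iv6 D98370)) (tt N88573 D191459))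
theorem Q52899 : ∀ i, i < 52899 → P i := stepQ 52898 Q52898 (allL N52898 (tt N88574 D191460) (tt N88575 D191461) (tt N88576 D191462) (tt N28048 (iv3 D98373)) (tt N88554 (iv4 F383488)) (tt N69758 (iv5 F336948)) (tt N88566 (iv6 F383506)) (tt N88577 D191463))
theorem Q52900 : ∀ i, i < 52900 → P i := stepQ 52899 Q52899 (allL N52899 (tt N49754 (iv1 F151802)) (tt N49751 F151803) (tt N83907 (iv2 F367449)) (tt N88577 (iv3 F383518)) (tt N28049 F151801) (tt N50912 (iv5 F290990)) (tt N88578 D191464) (tt N28048 (iv7 D98375)))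
theorem Q52901 : ∀ i, i < 52901 → P i := stepQ 52900 Q52900 (allL N52900 (tt N88579 D191465) (tt N88580 D191466) (tt N83908 (iv2 F367454)) (tt N88557 (iv3 F383490)) (tt N88578 (iv4 F383520)) (tt N54719 (iv5 F157447)) (tt N28049 (iv6 D98376)) (tt N88569 (iv7 F383514)))
theorem Q52902 : ∀ i, i < 52902 → P i := stepQ 52901 Q52901 (allL N52901 (tt N82796 (iv1 F295461)) (tt N28063 F157616) (tt N49381 F151804) (tt N48682 F151805) (tt N48658 F295390) (tt N88581 D191467) (tt N28050 (iv6 D98377)) (tt N53033 F157617))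
theorem Q52903 : ∀ i, i < 52903 → P i := stepQ 52902 Q52902 (allL N52902 (tt N82612 F335693) (tt N82613 F335694) (tt N28052 F151807) (tt N42791 F151808) (tt N28052 F151809) (tt N88582 D191468) (tt N28051 (iv6 D98378)) (tt N84226 (iv7 F368603)))
theorem Q52904 : ∀ i, i < 52904 → P i := stepQ 52903 Q52903 (allL N52903 (tt N84226 F368605) (tt N28052 (iv0 D98379)) (tt N82612 F364399) (tt N48685 F364400) (tt N49280 F364401) (tt N88583 D191469) (tt N88584 D191470) (tt N82613 F364402))
theorem Q52905 : ∀ i, i < 52905 → P i := stepQ 52904 Q52904 (allL N52904 (tt N28052 (iv1 D98380)) (tt N84226 (iv0 F368604)) (tt N82613 F364396) (tt N83895 F367431) (tt N49281 F364397) (tt N88585 D191471) (tt N88586 D191472) (tt N82612 F364398))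
theorem Q52906 : ∀ i, i < 52906 → P i := stepQ 52905 Q52905 (allL N52905 (tt N88587 D191473) (tt N88588 D191474) (tt N88582 (iv2 F383527)) (tt N28054 F151810) (tt N64320 (iv4 F384373)) (tt N28052 (iv5 D98381)) (tt N64298 (iv6 F195652)) (tt N88589 D191476))
theorem Q52907 : ∀ i, i < 52907 → P i := stepQ 52906 Q52906 (allL N52906 (tt N82613 F353211) (tt N82612 F353212) (tt N84226 (iv2 F368600)) (tt N28055 F151811) (tt N84226 (iv4 F368601)) (tt N88589 (iv5 F383538)) (tt N80594 (iv6 F268492)) (tt N28052 (iv7 D98382)))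
theorem Q52908 : ∀ i, i < 52908 → P i := stepQ 52907 Q52907 (allL N52907 (tt N84414 (iv1 F369210)) (tt N84413 F369206) (tt N64316 F364392) (tt N83957 (iv3 F367607)) (tt N88590 D191477) (tt N28053 (iv5 D98391)) (tt N88591 D191478) (tt N64314 (iv7 F364393)))
theorem Q52909 : ∀ i, i < 52909 → P i := stepQ 52908 Q52908 (allL N52908 (tt N28054 (iv1 D98394)) (tt N64319 F195858) (tt N54808 (iv2 F290031)) (tt N83959 F367621) (tt N88592 D191479) (tt N47844 (iv5 F151814)) (tt N88593 D191480) (tt N64317 F290030))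
theorem Q52910 : ∀ i, i < 52910 → P i := stepQ 52909 Q52909 (allL N52909 (tt N88594 D191481) (tt N82695 (iv0 F290096)) (tt N64318 (iv2 F195853)) (tt N64322 (iv3 F384374)) (tt N28054 (iv4 D98395)) (tt N88595 D191483) (tt N64299 (iv6 F195665)) (tt N88596 D191484))
theorem Q52911 : ∀ i, i < 52911 → P i := stepQ 52910 Q52910 (allL N52910 (tt N54808 (iv1 F289788)) (tt N64317 F195857) (tt N64319 (iv2 F195855)) (tt N88589 (iv3 F383537)) (tt N88596 (iv4 F383544)) (tt N28055 F151815) (tt N64416 (iv6 F366899)) (tt N28054 (iv7 D98396)))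
theorem Q52912 : ∀ i, i < 52912 → P i := stepQ 52911 Q52911 (allL N52911 (tt N53033 F152041) (tt N49381 (iv0 F157588)) (tt N82796 (iv2 F295462)) (tt N28056 (iv3 D98398)) (tt N82796 (iv4 F295463)) (tt N69803 (iv5 F356276)) (tt N85327 (iv6 F372252)) (tt N28063 F152042))
theorem Q52913 : ∀ i, i < 52913 → P i := stepQ 52912 Q52912 (allL N52912 (tt N57721 F326758) (tt N57720 F326759) (tt N28068 F151824) (tt N66069 F326760) (tt N28058 (iv4 D98406)) (tt N58982 F326761) (tt N57719 (iv6 F327346)) (tt N30741 F326762))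
theorem Q52914 : ∀ i, i < 52914 → P i := stepQ 52913 Q52913 (allL N52913 (tt N55303 F343917) (tt N51109 (iv0 F343905)) (tt N55302 (iv2 F343878)) (tt N28062 F151840) (tt N55073 (iv4 F343898)) (tt N83081 F285838) (tt N28060 (iv6 D98416)) (tt N55301 (iv7 F343868)))
theorem Q52915 : ∀ i, i < 52915 → P i := stepQ 52914 Q52914 (allL N52914 (tt N28064 (iv1 F151850)) (tt N28061 (iv0 D98422)) (tt N53457 (iv2 F290062)) (tt N54763 F290063) (tt N58943 F325953) (tt N53453 (iv5 F289739)) (tt N68349 F325954) (tt N58941 F325955))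
theorem Q52916 : ∀ i, i < 52916 → P i := stepQ 52915 Q52915 (allL N52915 (tt N40132 F329820) (tt N40061 F329821) (tt N40129 F329835) (tt N83081 (iv3 F285840)) (tt N72303 F345076) (tt N28062 (iv5 D98429)) (tt N68259 F350362) (tt N40130 F329836))
theorem Q52917 : ∀ i, i < 52917 → P i := stepQ 52916 Q52916 (allL N52916 (tt N28063 (iv1 D98433)) (tt N82796 (iv0 F295460)) (tt N53033 (iv2 F152038)) (tt N28093 F151858) (tt N48657 F295381) (tt N70184 (iv5 F411672)) (tt N53170 F157638) (tt N49381 (iv7 F157590)))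
theorem Q52918 : ∀ i, i < 52918 → P i := stepQ 52917 Q52917 (allL N52917 (tt N49381 (iv1 F157589)) (tt N53033 (iv0 F152040)) (tt N28063 (iv2 D98434)) (tt N48547 F151855) (tt N28063 (iv4 F151856)) (tt N71958 (iv5 F356281)) (tt N88597 D191486) (tt N82796 (iv7 F295464)))
theorem Q52919 : ∀ i, i < 52919 → P i := stepQ 52918 Q52918 (allL N52918 (tt N72009 F360354) (tt N71993 F376086) (tt N71958 (iv2 F356280)) (tt N28064 F151859) (tt N88598 D191487) (tt N28063 (iv5 D98435)) (tt N88599 D191488) (tt N69803 F356277))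
theorem Q52920 : ∀ i, i < 52920 → P i := stepQ 52919 Q52919 (allL N52919 (tt N88600 D191489) (tt N88520 (iv0 F383390)) (tt N88597 (iv2 F383550)) (tt N28065 F151860) (tt N88597 (iv4 F383552)) (tt N88601 D191490) (tt N28063 (iv6 D98436)) (tt N84351 (iv7 F369026)))
theorem Q52921 : ∀ i, i < 52921 → P i := stepQ 52920 Q52920 (allL N52920 (tt N88602 D191491) (tt N64603 (iv0 F306407)) (tt N68263 (iv2 F341433)) (tt N88599 (iv3 F383556)) (tt N58226 F341434) (tt N88603 D191492) (tt N28064 (iv6 D98440)) (tt N88604 D191493))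
theorem Q52922 : ∀ i, i < 52922 → P i := stepQ 52921 Q52921 (allL N52921 (tt N47845 (iv1 F277446)) (tt N47843 (iv0 F151862)) (tt N54804 F289999) (tt N88601 (iv3 F383560)) (tt N88605 D191494) (tt N28065 (iv5 D98443)) (tt N88603 (iv6 F383567)) (tt N54805 (iv7 F290018)))
theorem Q52923 : ∀ i, i < 52923 → P i := stepQ 52922 Q52922 (allL N52922 (tt N70391 (iv1 F337812)) (tt N48548 F289978) (tt N51690 F295083) (tt N28066 (iv3 D98446)) (tt N37990 F324214) (tt N48627 F295085) (tt N67836 F324215) (tt N51688 F295086))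
theorem Q52924 : ∀ i, i < 52924 → P i := stepQ 52923 Q52923 (allL N52923 (tt N88581 (iv1 F383526)) (tt N70184 (iv0 F411668)) (tt N39798 F356309) (tt N28067 (iv3 D98451)) (tt N39788 F356310) (tt N86395 (iv5 F376082)) (tt N39787 F356311) (tt N70361 F356312))
theorem Q52925 : ∀ i, i < 52925 → P i := stepQ 52924 Q52924 (allL N52924 (tt N28068 (iv1 D98456)) (tt N30741 F327627) (tt N57720 F327628) (tt N37732 F327629) (tt N38787 F327630) (tt N58215 F327631) (tt N73299 F342850) (tt N57721 F327632))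
theorem Q52926 : ∀ i, i < 52926 → P i := stepQ 52925 Q52925 (allL N52925 (tt N77202 F331891) (tt N81835 F340214) (tt N28071 F151869) (tt N48774 F151870) (tt N63503 (iv4 F310882)) (tt N88606 D191495) (tt N28069 (iv6 D98461)) (tt N80636 (iv7 F340207)))
theorem Q52927 : ∀ i, i < 52927 → P i := stepQ 52926 Q52926 (allL N52926 (tt N80636 F340204) (tt N28071 (iv0 D98463)) (tt N77202 F340198) (tt N43911 F340199) (tt N45528 F340200) (tt N88607 D191496) (tt N43910 F340201) (tt N81835 (iv7 F340203)))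
theorem Q52928 : ∀ i, i < 52928 → P i := stepQ 52927 Q52927 (allL N52927 (tt N28071 (iv1 D98464)) (tt N80636 F340209) (tt N81835 (iv2 F340210)) (tt N77180 (iv3 F363622)) (tt N88608 D191497) (tt N88609 D191498) (tt N80864 (iv6 F363618)) (tt N77202 F340212))
theorem Q52929 : ∀ i, i < 52929 → P i := stepQ 52928 Q52928 (allL N52928 (tt N88610 D191499) (tt N88611 D191500) (tt N88606 (iv2 F383577)) (tt N28072 F151872) (tt N78026 F359546) (tt N28071 (iv5 D98465)) (tt N28383 F151873) (tt N88612 D191501))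
theorem Q52930 : ∀ i, i < 52930 → P i := stepQ 52929 Q52929 (allL N52929 (tt N81835 (iv1 F340213)) (tt N77202 F340208) (tt N80636 F340205) (tt N28073 F151874) (tt N63502 (iv4 F310881)) (tt N88612 (iv5 F383590)) (tt N83917 (iv6 F367486)) (tt N28071 (iv7 D98466)))
theorem Q52931 : ∀ i, i < 52931 → P i := stepQ 52930 Q52930 (allL N52930 (tt N81394 (iv1 F274901)) (tt N28072 (iv0 D98477)) (tt N81845 F338081) (tt N77459 (iv3 F338100)) (tt N81389 (iv4 F274877)) (tt N81406 (iv5 F274977)) (tt N88613 D191502) (tt N81920 (iv7 F338097)))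
theorem Q52932 : ∀ i, i < 52932 → P i := stepQ 52931 Q52931 (allL N52931 (tt N54438 F338093) (tt N54441 (iv0 F272646)) (tt N83921 (iv2 F367501)) (tt N88614 D191503) (tt N28072 (iv4 D98479)) (tt N71480 (iv5 F368482)) (tt N28386 F151878) (tt N88615 D191504))
theorem Q52933 : ∀ i, i < 52933 → P i := stepQ 52932 Q52932 (allL N52932 (tt N81920 (iv1 F338085)) (tt N81845 (iv0 F338084)) (tt N81394 (iv2 F274896)) (tt N88612 (iv3 F383589)) (tt N88615 (iv4 F383593)) (tt N28073 F151879) (tt N88616 D191505) (tt N28072 (iv7 D98480)))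
theorem Q52934 : ∀ i, i < 52934 → P i := stepQ 52933 Q52933 (allL N52933 (tt N53321 (iv1 F153341)) (tt N48454 F151882) (tt N28075 F151880) (tt N48408 F151883) (tt N28074 (iv4 D98481)) (tt N61344 (iv5 F301484)) (tt N88617 D191506) (tt N48420 F151881))
theorem Q52935 : ∀ i, i < 52935 → P i := stepQ 52934 Q52934 (allL N52934 (tt N63096 (iv1 F366234)) (tt N63868 F366233) (tt N28076 F151884) (tt N83914 (iv3 F367477)) (tt N88617 (iv4 F383600)) (tt N88618 D191507) (tt N28074 (iv6 D98482)) (tt N78367 (iv7 F366436)))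
theorem Q52936 : ∀ i, i < 52936 → P i := stepQ 52935 Q52935 (allL N52935 (tt N48420 (iv1 F151887)) (tt N28075 (iv0 D98483)) (tt N53321 (iv2 F153337)) (tt N34948 F151886) (tt N48437 F151885) (tt N63262 (iv5 F186620)) (tt N88619 D191508) (tt N48454 (iv7 F151888)))
theorem Q52937 : ∀ i, i < 52937 → P i := stepQ 52936 Q52936 (allL N52936 (tt N28075 (iv1 D98484)) (tt N48420 F151889) (tt N48454 F151892) (tt N46518 (iv3 F151891)) (tt N47448 F151890) (tt N64060 (iv5 F192603)) (tt N68480 F304148) (tt N53321 (iv7 F153339)))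
theorem Q52938 : ∀ i, i < 52938 → P i := stepQ 52937 Q52937 (allL N52937 (tt N75798 F344055) (tt N88620 D191509) (tt N88617 (iv2 F383598)) (tt N75803 (iv3 F344052)) (tt N28076 F151896) (tt N77603 F351944) (tt N28075 (iv6 D98486)) (tt N88621 D191510))
theorem Q52939 : ∀ i, i < 52939 → P i := stepQ 52938 Q52938 (allL N52938 (tt N28076 (iv1 D98488)) (tt N78367 F319953) (tt N63868 F319954) (tt N39840 F351797) (tt N46089 F319955) (tt N39838 F351798) (tt N77268 F361468) (tt N63096 F319956))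
theorem Q52940 : ∀ i, i < 52940 → P i := stepQ 52939 Q52939 (allL N52939 (tt N88622 D191511) (tt N88623 D191512) (tt N88618 (iv2 F383605)) (tt N28079 F151897) (tt N88624 D191513) (tt N28076 (iv5 D98489)) (tt N28393 F151898) (tt N88625 D191514))
theorem Q52941 : ∀ i, i < 52941 → P i := stepQ 52940 Q52940 (allL N52940 (tt N63868 F366231) (tt N63096 F366232) (tt N78367 F366437) (tt N28080 F151899) (tt N88621 (iv4 F383618)) (tt N88625 (iv5 F383632)) (tt N75868 (iv6 F312628)) (tt N28076 (iv7 D98490)))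
theorem Q52942 : ∀ i, i < 52942 → P i := stepQ 52941 Q52941 (allL N52941 (tt N53756 F154557) (tt N88626 D191515) (tt N81415 (iv2 F275086)) (tt N45609 F314156) (tt N88627 D191516) (tt N28077 (iv5 D98494)) (tt N88628 D191517) (tt N65018 F314157))
theorem Q52943 : ∀ i, i < 52943 → P i := stepQ 52942 Q52942 (allL N52942 (tt N28154 F351769) (tt N65013 F351770) (tt N64568 (iv2 F351772)) (tt N28078 (iv3 D98497)) (tt N64567 F351771) (tt N88629 D191518) (tt N64567 F351788) (tt N65014 (iv7 F311719)))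
theorem Q52944 : ∀ i, i < 52944 → P i := stepQ 52943 Q52943 (allL N52943 (tt N88626 (iv1 F383634)) (tt N53756 F275131) (tt N65018 (iv2 F311712)) (tt N88629 (iv3 F383648)) (tt N88630 D191519) (tt N28078 (iv5 D98499)) (tt N88631 D191520) (tt N81415 (iv7 F275087)))
theorem Q52945 : ∀ i, i < 52945 → P i := stepQ 52944 Q52944 (allL N52944 (tt N64524 (iv1 F318850)) (tt N28084 F275137) (tt N45616 (iv2 F309564)) (tt N64567 F308415) (tt N28801 F311766) (tt N53562 (iv5 F154036)) (tt N28078 (iv6 D98500)) (tt N64563 F308416))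
theorem Q52946 : ∀ i, i < 52946 → P i := stepQ 52945 Q52945 (allL N52945 (tt N83919 (iv1 F367497)) (tt N28079 (iv0 D98501)) (tt N83918 F367490) (tt N65004 F286890) (tt N28842 F156575) (tt N79166 F338818) (tt N86343 (iv6 F375870)) (tt N65024 (iv7 F286891)))
theorem Q52947 : ∀ i, i < 52947 → P i := stepQ 52946 Q52946 (allL N52946 (tt N28079 (iv1 D98502)) (tt N83919 F367496) (tt N65024 (iv2 F286893)) (tt N73905 F349507) (tt N28843 F274517) (tt N52867 (iv5 F151902)) (tt N73902 (iv6 F349506)) (tt N83918 (iv7 F367491)))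
theorem Q52948 : ∀ i, i < 52948 → P i := stepQ 52947 Q52947 (allL N52947 (tt N53384 (iv1 F272743)) (tt N53388 F272741) (tt N54392 F156807) (tt N88632 D191521) (tt N28079 (iv4 D98503)) (tt N88633 D191522) (tt N28394 F151903) (tt N54391 F156805))
theorem Q52949 : ∀ i, i < 52949 → P i := stepQ 52948 Q52948 (allL N52948 (tt N65024 (iv1 F286962)) (tt N83918 F367492) (tt N83919 (iv2 F367493)) (tt N88625 (iv3 F383631)) (tt N54391 (iv4 F156803)) (tt N28080 F151904) (tt N88634 D191523) (tt N28079 (iv7 D98504)))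
theorem Q52950 : ∀ i, i < 52950 → P i := stepQ 52949 Q52949 (allL N52949 (tt N80630 (iv1 F332402)) (tt N28081 (iv0 D98511)) (tt N77211 (iv2 F332398)) (tt N64439 (iv3 F332399)) (tt N62575 F332397) (tt N88635 D191524) (tt N67619 (iv6 F332400)) (tt N80850 (iv7 F332401)))
theorem Q52951 : ∀ i, i < 52951 → P i := stepQ 52950 Q52950 (allL N52950 (tt N77211 (iv1 F345813)) (tt N80850 F345814) (tt N28081 (iv2 D98513)) (tt N48776 (iv3 F233022)) (tt N80534 (iv4 F268253)) (tt N88636 D191525) (tt N80840 F345808) (tt N80630 (iv7 F345810)))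
theorem Q52952 : ∀ i, i < 52952 → P i := stepQ 52951 Q52951 (allL N52951 (tt N88637 D191526) (tt N88638 D191527) (tt N88636 (iv2 F383664)) (tt N28083 F151913) (tt N67802 (iv4 F332374)) (tt N28081 (iv5 D98515)) (tt N88639 D191528) (tt N80851 (iv7 F366745)))
theorem Q52953 : ∀ i, i < 52953 → P i := stepQ 52952 Q52952 (allL N52952 (tt N64550 (iv1 F345806)) (tt N80839 (iv0 F345803)) (tt N80840 (iv2 F345805)) (tt N28084 F151914) (tt N80634 (iv4 F333750)) (tt N88640 D191529) (tt N28081 (iv6 D98516)) (tt N80632 F345807))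
theorem Q52954 : ∀ i, i < 52954 → P i := stepQ 52953 Q52953 (allL N52953 (tt N47191 F319573) (tt N47189 F319574) (tt N88641 D191530) (tt N28082 (iv3 D98520)) (tt N80848 F315044) (tt N88642 D191531) (tt N54346 F350943) (tt N46882 F315045))
theorem Q52955 : ∀ i, i < 52955 → P i := stepQ 52954 Q52954 (allL N52954 (tt N88643 D191532) (tt N80332 (iv0 F359842)) (tt N46893 F268293) (tt N88642 (iv3 F383675)) (tt N88644 D191533) (tt N28082 (iv5 D98521)) (tt N88645 D191534) (tt N46895 (iv7 F268297)))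
theorem Q52956 : ∀ i, i < 52956 → P i := stepQ 52955 Q52955 (allL N52955 (tt N53378 (iv1 F184680)) (tt N54379 (iv0 F184679)) (tt N46894 F268278) (tt N54346 (iv3 F350940)) (tt N28084 F151917) (tt N47205 F184678) (tt N28082 (iv6 D98522)) (tt N54240 (iv7 F308349)))
theorem Q52957 : ∀ i, i < 52957 → P i := stepQ 52956 Q52956 (allL N52956 (tt N28087 (iv1 F151925)) (tt N28083 (iv0 D98524)) (tt N64604 F366871) (tt N86001 (iv3 F374841)) (tt N88646 D191535) (tt N52891 F151921) (tt N88647 D191536) (tt N83977 (iv7 F367688)))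
theorem Q52958 : ∀ i, i < 52958 → P i := stepQ 52957 Q52957 (allL N52957 (tt N28083 (iv1 D98525)) (tt N28087 F151922) (tt N83977 F367691) (tt N64442 (iv3 F366873)) (tt N88648 D191537) (tt N88649 D191538) (tt N84006 F383707) (tt N64604 F366872))
theorem Q52959 : ∀ i, i < 52959 → P i := stepQ 52958 Q52958 (allL N52958 (tt N88650 D191539) (tt N88651 D191540) (tt N83978 (iv2 F367692)) (tt N88652 D191541) (tt N28083 (iv4 D98526)) (tt N81754 F383328) (tt N88653 D191542) (tt N83980 (iv7 F367700)))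
theorem Q52960 : ∀ i, i < 52960 → P i := stepQ 52959 Q52959 (allL N52959 (tt N88654 D191543) (tt N88655 D191544) (tt N83979 (iv2 F367695)) (tt N88639 (iv3 F383666)) (tt N88653 (iv4 F383726)) (tt N88656 D191545) (tt N28083 (iv6 D98527)) (tt N88657 D191546))
theorem Q52961 : ∀ i, i < 52961 → P i := stepQ 52960 Q52960 (allL N52960 (tt N28207 F151926) (tt N28433 (iv0 F151927)) (tt N28431 F268279) (tt N88640 (iv3 F383667)) (tt N53956 (iv4 F155575)) (tt N28084 (iv5 D98531)) (tt N88656 (iv6 F383756)) (tt N28430 F268280))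
theorem Q52962 : ∀ i, i < 52962 → P i := stepQ 52961 Q52961 (allL N52961 (tt N64563 F311767) (tt N45616 F311768) (tt N64524 F306532) (tt N80632 F306533) (tt N54240 (iv4 F308347)) (tt N28430 F268282) (tt N45546 F306534) (tt N28084 (iv7 D98532)))
theorem Q52963 : ∀ i, i < 52963 → P i := stepQ 52962 Q52962 (allL N52962 (tt N28085 (iv1 D98535)) (tt N48776 F233024) (tt N48778 (iv2 F233025)) (tt N56145 (iv3 F184676)) (tt N69617 (iv4 F305760)) (tt N70386 (iv5 F337827)) (tt N65355 (iv6 F210915)) (tt N48772 (iv7 F232486)))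
theorem Q52964 : ∀ i, i < 52964 → P i := stepQ 52963 Q52963 (allL N52963 (tt N48772 (iv1 F268295)) (tt N48778 F268294) (tt N28085 (iv2 D98536)) (tt N80630 F345811) (tt N87697 (iv4 F380165)) (tt N88658 D191547) (tt N64587 (iv6 F345815)) (tt N48776 (iv7 F233023)))
theorem Q52965 : ∀ i, i < 52965 → P i := stepQ 52964 Q52964 (allL N52964 (tt N88619 F383610) (tt N80453 (iv0 F359374)) (tt N87697 (iv2 F380163)) (tt N81303 F359370) (tt N28085 (iv4 D98537)) (tt N88659 D191548) (tt N64622 (iv6 F359373)) (tt N83975 (iv7 F367681)))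
theorem Q52966 : ∀ i, i < 52966 → P i := stepQ 52965 Q52965 (allL N52965 (tt N77227 F358465) (tt N88660 D191549) (tt N88658 (iv2 F383760)) (tt N28087 F151929) (tt N88661 D191550) (tt N28085 (iv5 D98538)) (tt N88662 D191551) (tt N83976 (iv7 F367685)))
theorem Q52967 : ∀ i, i < 52967 → P i := stepQ 52966 Q52966 (allL N52966 (tt N45568 (iv1 F151932)) (tt N34722 F303156) (tt N45571 F268274) (tt N28086 (iv3 D98540)) (tt N81303 F319555) (tt N88663 D191552) (tt N34103 F319556) (tt N45570 F268275))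
theorem Q52968 : ∀ i, i < 52968 → P i := stepQ 52967 Q52967 (allL N52967 (tt N80332 (iv1 F359843)) (tt N88643 F383680) (tt N46895 F268298) (tt N88663 (iv3 F383778)) (tt N88664 D191553) (tt N28086 (iv5 D98541)) (tt N80324 F342654) (tt N46893 F268292))
theorem Q52969 : ∀ i, i < 52969 → P i := stepQ 52968 Q52968 (allL N52968 (tt N45526 F306537) (tt N54239 (iv0 F308086)) (tt N46881 (iv2 F308262)) (tt N34103 F306538) (tt N28088 F151933) (tt N34176 F306539) (tt N28086 (iv6 D98542)) (tt N45578 F306540))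
theorem Q52970 : ∀ i, i < 52970 → P i := stepQ 52969 Q52969 (allL N52969 (tt N88651 (iv1 F383718)) (tt N88650 F383716) (tt N83980 (iv2 F367699)) (tt N66604 (iv3 F383698)) (tt N28087 (iv4 D98543)) (tt N88665 D191554) (tt N88666 D191555) (tt N83978 (iv7 F367693)))
theorem Q52971 : ∀ i, i < 52971 → P i := stepQ 52970 Q52970 (allL N52970 (tt N44323 F328331) (tt N54797 (iv0 F157839)) (tt N68597 (iv2 F354695)) (tt N88662 (iv3 F383770)) (tt N88666 (iv4 F383793)) (tt N86987 (iv5 F377954)) (tt N28087 (iv6 D98544)) (tt N68598 (iv7 F354697)))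
theorem Q52972 : ∀ i, i < 52972 → P i := stepQ 52971 Q52971 (allL N52971 (tt N88635 F383663) (tt N67798 (iv0 F344992)) (tt N88667 D191556) (tt N28089 (iv3 D98550)) (tt N68876 F344991) (tt N88668 D191557) (tt N88669 D191558) (tt N83983 (iv7 F367713)))
theorem Q52973 : ∀ i, i < 52973 → P i := stepQ 52972 Q52972 (allL N52972 (tt N54270 (iv1 F184681)) (tt N49595 F272847) (tt N54266 F272845) (tt N88670 D191559) (tt N28089 (iv4 D98551)) (tt N65128 (iv5 F352205)) (tt N88671 D191560) (tt N54267 (iv7 F272848)))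
theorem Q52974 : ∀ i, i < 52974 → P i := stepQ 52973 Q52973 (allL N52973 (tt N53743 (iv1 F154548)) (tt N53544 (iv0 F249712)) (tt N53744 (iv2 F154549)) (tt N88668 (iv3 F383798)) (tt N80965 (iv4 F272839)) (tt N28089 (iv5 D98552)) (tt N53757 (iv6 F154558)) (tt N53208 (iv7 F272819)))
theorem Q52975 : ∀ i, i < 52975 → P i := stepQ 52974 Q52974 (allL N52974 (tt N60655 (iv1 F383816)) (tt N88672 D191562) (tt N83982 (iv2 F367707)) (tt N88669 (iv3 F383800)) (tt N88671 (iv4 F383807)) (tt N29034 F151936) (tt N28089 (iv6 D98553)) (tt N88673 D191563))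
theorem Q52976 : ∀ i, i < 52976 → P i := stepQ 52975 Q52975 (allL N52975 (tt N48777 F233166) (tt N70386 (iv0 F338464)) (tt N88674 D191564) (tt N28090 (iv3 D98555)) (tt N88675 D191565) (tt N53736 F154527) (tt N88676 D191566) (tt N83981 (iv7 F367702)))
theorem Q52977 : ∀ i, i < 52977 → P i := stepQ 52976 Q52976 (allL N52976 (tt N49595 F184675) (tt N54270 F184677) (tt N54267 (iv2 F272849)) (tt N60511 F352188) (tt N28090 (iv4 D98556)) (tt N60510 (iv5 F352187)) (tt N88677 D191567) (tt N54266 F272846))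
theorem Q52978 : ∀ i, i < 52978 → P i := stepQ 52977 Q52977 (allL N52977 (tt N38537 F377961) (tt N88678 D191568) (tt N83984 (iv2 F367714)) (tt N88676 (iv3 F383846)) (tt N88677 (iv4 F383848)) (tt N53742 (iv5 F154544)) (tt N28090 (iv6 D98557)) (tt N88679 D191569))
theorem Q52979 : ∀ i, i < 52979 → P i := stepQ 52978 Q52978 (allL N52978 (tt N67331 F361724) (tt N28091 (iv0 D98558)) (tt N67335 (iv2 F361728)) (tt N78408 F361733) (tt N28773 F249715) (tt N88680 D191570) (tt N60657 (iv6 F395995)) (tt N67334 (iv7 F361731)))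
theorem Q52980 : ∀ i, i < 52980 → P i := stepQ 52979 Q52979 (allL N52979 (tt N28091 (iv1 D98559)) (tt N67331 F361725) (tt N67334 F361732) (tt N88681 D191571) (tt N28774 F184694) (tt N88682 D191572) (tt N78401 F345252) (tt N67335 (iv7 F361730)))
theorem Q52981 : ∀ i, i < 52981 → P i := stepQ 52980 Q52980 (allL N52980 (tt N88683 D191573) (tt N88684 D191574) (tt N83986 (iv2 F367719)) (tt N67349 (iv3 F361719)) (tt N80673 (iv4 F361720)) (tt N28091 (iv5 D98561)) (tt N80725 (iv6 F361721)) (tt N67336 F361718))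
theorem Q52982 : ∀ i, i < 52982 → P i := stepQ 52981 Q52981 (allL N52981 (tt N79033 (iv1 F251924)) (tt N51468 (iv0 F151943)) (tt N79034 (iv2 F251926)) (tt N50713 (iv3 F294239)) (tt N28093 (iv4 D98564)) (tt N88685 D191575) (tt N83759 (iv6 F367044)) (tt N51481 (iv7 F157564)))
theorem Q52983 : ∀ i, i < 52983 → P i := stepQ 52982 Q52982 (allL N52982 (tt N84016 (iv1 F367814)) (tt N28107 F367753) (tt N83994 (iv2 F367748)) (tt N70184 (iv3 F411671)) (tt N88686 D191576) (tt N28093 (iv5 D98565)) (tt N70181 (iv6 F411675)) (tt N83892 (iv7 F367414)))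
theorem Q52984 : ∀ i, i < 52984 → P i := stepQ 52983 Q52983 (allL N52983 (tt N83998 (iv1 F367764)) (tt N83997 F367763) (tt N28095 F151966) (tt N48779 F151967) (tt N88687 D191578) (tt N28094 (iv5 D98570)) (tt N88688 D191579) (tt N83995 (iv7 F367756)))
theorem Q52985 : ∀ i, i < 52985 → P i := stepQ 52984 Q52984 (allL N52984 (tt N83901 F368970) (tt N85325 F372240) (tt N28096 F151968) (tt N48780 F151969) (tt N53831 F345033) (tt N53801 (iv5 F154644)) (tt N28094 (iv6 D98571)) (tt N85326 (iv7 F372248)))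
theorem Q52986 : ∀ i, i < 52986 → P i := stepQ 52985 Q52985 (allL N52985 (tt N83995 (iv1 F367757)) (tt N28095 (iv0 D98572)) (tt N83998 (iv2 F367766)) (tt N71993 (iv3 F357368)) (tt N88689 D191580) (tt N53597 (iv5 F251755)) (tt N71973 F357369) (tt N83997 (iv7 F367768)))
theorem Q52987 : ∀ i, i < 52987 → P i := stepQ 52986 Q52986 (allL N52986 (tt N28095 (iv1 D98573)) (tt N83995 F367758) (tt N83997 F367769) (tt N87035 (iv3 F378126)) (tt N88690 D191581) (tt N53598 F367255) (tt N88691 D191582) (tt N83998 F367767))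
theorem Q52988 : ∀ i, i < 52988 → P i := stepQ 52987 Q52987 (allL N52987 (tt N88692 D191583) (tt N86917 (iv0 F377702)) (tt N88687 (iv2 F383892)) (tt N88693 D191584) (tt N28095 (iv4 D98574)) (tt N88694 D191585) (tt N88695 D191586) (tt N83999 (iv7 F367770)))
theorem Q52989 : ∀ i, i < 52989 → P i := stepQ 52988 Q52988 (allL N52988 (tt N88696 D191587) (tt N88697 D191588) (tt N88688 (iv2 F383894)) (tt N28099 F151970) (tt N88695 (iv4 F383901)) (tt N53802 (iv5 F154646)) (tt N28095 (iv6 D98575)) (tt N88698 D191589))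
theorem Q52990 : ∀ i, i < 52990 → P i := stepQ 52989 Q52989 (allL N52989 (tt N85326 (iv1 F372249)) (tt N28096 (iv0 D98576)) (tt N83901 (iv2 F371270)) (tt N88586 (iv3 F383534)) (tt N86472 (iv4 F376328)) (tt N88699 D191590) (tt N83895 F371271) (tt N85325 (iv7 F372241)))
theorem Q52991 : ∀ i, i < 52991 → P i := stepQ 52990 Q52990 (allL N52990 (tt N28096 (iv1 D98577)) (tt N85326 F372250) (tt N85325 F372243) (tt N83164 F381821) (tt N88700 D191591) (tt N88701 D191592) (tt N84381 (iv6 F371268)) (tt N83901 F371269))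
theorem Q52992 : ∀ i, i < 52992 → P i := stepQ 52991 Q52991 (allL N52991 (tt N88702 D191593) (tt N88703 D191594) (tt N88704 D191595) (tt N28098 (iv3 D98581)) (tt N88693 (iv4 F383899)) (tt N53022 (iv5 F152017)) (tt N88705 D191596) (tt N84003 (iv7 F367776)))
theorem Q52993 : ∀ i, i < 52993 → P i := stepQ 52992 Q52992 (allL N52992 (tt N78419 F354675) (tt N78412 F354676) (tt N83990 (iv2 F367730)) (tt N88705 (iv3 F383921)) (tt N28099 F151974) (tt N82392 (iv5 F354673)) (tt N28098 (iv6 D98582)) (tt N88706 D191597))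
theorem Q52994 : ∀ i, i < 52994 → P i := stepQ 52993 Q52993 (allL N52993 (tt N83993 (iv1 F367747)) (tt N28099 (iv0 D98583)) (tt N83991 (iv2 F367737)) (tt N88707 D191598) (tt N88708 D191599) (tt N88709 D191600) (tt N88654 F383734) (tt N83992 (iv7 F367739)))
theorem Q52995 : ∀ i, i < 52995 → P i := stepQ 52994 Q52994 (allL N52994 (tt N28099 (iv1 D98584)) (tt N83993 F367746) (tt N83992 F367741) (tt N36727 F354670) (tt N36753 F354671) (tt N88710 D191601) (tt N36725 F354672) (tt N83991 (iv7 F367736)))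
theorem Q52996 : ∀ i, i < 52996 → P i := stepQ 52995 Q52995 (allL N52995 (tt N83992 (iv1 F367738)) (tt N83991 F367743) (tt N83993 (iv2 F367744)) (tt N88698 (iv3 F383902)) (tt N88706 (iv4 F383922)) (tt N53806 (iv5 F154649)) (tt N84007 (iv6 F367781)) (tt N28099 (iv7 D98585)))
theorem Q52997 : ∀ i, i < 52997 → P i := stepQ 52996 Q52996 (allL N52996 (tt N28111 (iv1 F151977)) (tt N48781 F151978) (tt N48633 F295110) (tt N70391 (iv3 F337813)) (tt N88711 D191602) (tt N28100 (iv5 D98586)) (tt N70387 F363944) (tt N48773 F151976))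
theorem Q52998 : ∀ i, i < 52998 → P i := stepQ 52997 Q52997 (allL N52997 (tt N52312 F295120) (tt N48655 F295121) (tt N28102 F151979) (tt N83995 (iv3 F367755)) (tt N88712 D191603) (tt N28101 (iv5 D98587)) (tt N88713 D191604) (tt N48779 F151980))
theorem Q52999 : ∀ i, i < 52999 → P i := stepQ 52998 Q52998 (allL N52998 (tt N59824 (iv1 F340561)) (tt N48619 F151982) (tt N28103 F151981) (tt N83996 (iv3 F367761)) (tt N84559 (iv4 F369691)) (tt N83062 (iv5 F285724)) (tt N28101 (iv6 D98588)) (tt N83535 (iv7 F287742)))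
theorem Q53000 : ∀ i, i < 53000 → P i := stepQ 52999 Q52999 (allL N52999 (tt N67782 (iv1 F437583)) (tt N69022 (iv0 F384114)) (tt N88712 (iv2 F383953)) (tt N88714 D191607) (tt N28102 (iv4 D98591)) (tt N88715 D191608) (tt N88716 D191609) (tt N83987 (iv7 F367725)))
theorem Q53001 : ∀ i, i < 53001 → P i := stepQ 53000 Q53000 (allL N53000 (tt N88717 D191610) (tt N88718 D191611) (tt N88713 (iv2 F383957)) (tt N28105 F151987) (tt N88716 (iv4 F383962)) (tt N83538 (iv5 F287750)) (tt N28102 (iv6 D98592)) (tt N88719 D191612))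
theorem Q53002 : ∀ i, i < 53002 → P i := stepQ 53001 Q53001 (allL N53001 (tt N83535 F287743) (tt N28103 (iv0 D98593)) (tt N59824 F340559) (tt N29211 F294187) (tt N59775 (iv4 F340566)) (tt N87057 (iv5 F378218)) (tt N29209 F294188) (tt N48619 (iv7 F151990)))
theorem Q53003 : ∀ i, i < 53003 → P i := stepQ 53002 Q53002 (allL N53002 (tt N28103 (iv1 D98594)) (tt N83535 F287746) (tt N48619 F287747) (tt N76101 (iv3 F356798)) (tt N59825 F340557) (tt N88720 D191613) (tt N48769 F287748) (tt N59824 (iv7 F340558)))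
theorem Q53004 : ∀ i, i < 53004 → P i := stepQ 53003 Q53003 (allL N53003 (tt N88721 D191614) (tt N88722 D191615) (tt N88723 D191616) (tt N28104 (iv3 D98596)) (tt N88714 (iv4 F383960)) (tt N53014 (iv5 F152003)) (tt N88724 D191617) (tt N83989 (iv7 F367728)))
theorem Q53005 : ∀ i, i < 53005 → P i := stepQ 53004 Q53004 (allL N53004 (tt N88725 D191618) (tt N88726 D191619) (tt N84004 (iv2 F367777)) (tt N88724 (iv3 F383977)) (tt N28105 F151992) (tt N88727 D191620) (tt N28104 (iv6 D98597)) (tt N88728 D191621))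
theorem Q53006 : ∀ i, i < 53006 → P i := stepQ 53005 Q53005 (allL N53005 (tt N84007 (iv1 F367784)) (tt N28105 (iv0 D98598)) (tt N84005 F383713) (tt N88602 (iv3 F384030)) (tt N87682 (iv4 F384028)) (tt N88729 D191624) (tt N88730 D191625) (tt N84006 F383711))
theorem Q53007 : ∀ i, i < 53007 → P i := stepQ 53006 Q53006 (allL N53006 (tt N28105 (iv1 D98599)) (tt N84007 F367783) (tt N84006 (iv2 F383710)) (tt N88731 D191626) (tt N87683 (iv4 F384033)) (tt N88613 (iv5 F383591)) (tt N83977 (iv6 F367690)) (tt N84005 (iv7 F383712)))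
theorem Q53008 : ∀ i, i < 53008 → P i := stepQ 53007 Q53007 (allL N53007 (tt N88732 D191628) (tt N88733 D191629) (tt N54811 (iv2 F157909)) (tt N83538 (iv3 F287749)) (tt N88734 D191630) (tt N28105 (iv5 D98600)) (tt N28106 F151993) (tt N88735 D191631))
theorem Q53009 : ∀ i, i < 53009 → P i := stepQ 53008 Q53008 (allL N53008 (tt N84006 (iv1 F367779)) (tt N84005 F367782) (tt N84007 (iv2 F367780)) (tt N88719 (iv3 F383963)) (tt N88728 (iv4 F383978)) (tt N88735 (iv5 F383984)) (tt N83993 (iv6 F367745)) (tt N28105 (iv7 D98601)))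
theorem Q53010 : ∀ i, i < 53010 → P i := stepQ 53009 Q53009 (allL N53009 (tt N28943 F151994) (tt N28939 F151995) (tt N54810 (iv2 F157905)) (tt N64775 F370309) (tt N28106 (iv4 D98602)) (tt N50022 F347715) (tt N88734 (iv6 F383982)) (tt N54813 (iv7 F157915)))
theorem Q53011 : ∀ i, i < 53011 → P i := stepQ 53010 Q53010 (allL N53010 (tt N83994 F367752) (tt N83892 (iv0 F367415)) (tt N28107 (iv2 D98605)) (tt N48781 F151998) (tt N88736 D191632) (tt N82791 (iv5 F367089)) (tt N88737 D191633) (tt N84016 (iv7 F367813)))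
theorem Q53012 : ∀ i, i < 53012 → P i := stepQ 53011 Q53011 (allL N53011 (tt N66187 (iv1 F344981)) (tt N82650 (iv0 F283465)) (tt N88736 (iv2 F383985)) (tt N88738 D191634) (tt N28107 (iv4 D98606)) (tt N66611 F344984) (tt N88739 D191635) (tt N84017 (iv7 F367816)))
theorem Q53013 : ∀ i, i < 53013 → P i := stepQ 53012 Q53012 (allL N53012 (tt N87841 (iv1 F380797)) (tt N84988 (iv0 F371291)) (tt N82791 F291558) (tt N28109 F151999) (tt N29473 F291559) (tt N28107 (iv5 D98607)) (tt N50209 F367253) (tt N28437 F152000))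
theorem Q53014 : ∀ i, i < 53014 → P i := stepQ 53013 Q53013 (allL N53013 (tt N88740 D191636) (tt N85967 (iv0 F383999)) (tt N88737 (iv2 F383987)) (tt N28110 F152002) (tt N88739 (iv4 F383990)) (tt N88741 D191638) (tt N28107 (iv6 D98608)) (tt N88742 D191639))
theorem Q53015 : ∀ i, i < 53015 → P i := stepQ 53014 Q53014 (allL N53014 (tt N88743 D191640) (tt N88744 D191641) (tt N88745 D191642) (tt N28108 (iv3 D98609)) (tt N88738 (iv4 F383989)) (tt N53003 F152003) (tt N88746 D191643) (tt N84019 (iv7 F367821)))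
theorem Q53016 : ∀ i, i < 53016 → P i := stepQ 53015 Q53015 (allL N53015 (tt N88747 D191644) (tt N88748 D191645) (tt N84011 (iv2 F367791)) (tt N88746 (iv3 F383997)) (tt N28110 F152004) (tt N88749 D191646) (tt N28108 (iv6 D98610)) (tt N88750 D191647))
theorem Q53017 : ∀ i, i < 53017 → P i := stepQ 53016 Q53016 (allL N53016 (tt N84015 (iv1 F367810)) (tt N28110 (iv0 D98611)) (tt N84012 (iv2 F377969)) (tt N88751 D191648) (tt N88752 D191649) (tt N88753 D191650) (tt N88678 (iv6 F383856)) (tt N84013 (iv7 F377970)))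
theorem Q53018 : ∀ i, i < 53018 → P i := stepQ 53017 Q53017 (allL N53017 (tt N28110 (iv1 D98612)) (tt N84015 F367805) (tt N84013 F377964) (tt N37712 F377965) (tt N37720 F377966) (tt N88754 D191651) (tt N37710 F377967) (tt N84012 F377968))
theorem Q53019 : ∀ i, i < 53019 → P i := stepQ 53018 Q53018 (allL N53018 (tt N88562 F383498) (tt N88755 D191652) (tt N84014 (iv2 F367800)) (tt N88741 (iv3 F383991)) (tt N88756 D191653) (tt N28110 (iv5 D98613)) (tt N50210 (iv6 F291066)) (tt N88757 D191654))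
theorem Q53020 : ∀ i, i < 53020 → P i := stepQ 53019 Q53019 (allL N53019 (tt N84013 (iv1 F367799)) (tt N84012 F367804) (tt N84015 (iv2 F367802)) (tt N88742 (iv3 F383993)) (tt N88750 (iv4 F384043)) (tt N88757 (iv5 F384062)) (tt N60653 (iv6 F383745)) (tt N28110 (iv7 D98614)))
theorem Q53021 : ∀ i, i < 53021 → P i := stepQ 53020 Q53020 (allL N53020 (tt N88758 D191655) (tt N88759 D191656) (tt N87842 (iv2 F380804)) (tt N88760 D191657) (tt N28111 (iv4 D98616)) (tt N88761 D191658) (tt N88762 D191659) (tt N84008 (iv7 F367786)))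
theorem Q53022 : ∀ i, i < 53022 → P i := stepQ 53021 Q53021 (allL N53021 (tt N88763 D191660) (tt N39815 F365380) (tt N87843 (iv2 F380808)) (tt N28114 F152016) (tt N88762 (iv4 F384071)) (tt N88764 D191661) (tt N28111 (iv6 D98618)) (tt N88765 D191662))
theorem Q53023 : ∀ i, i < 53023 → P i := stepQ 53022 Q53022 (allL N53022 (tt N88766 D191663) (tt N67199 (iv0 F365710)) (tt N88767 D191664) (tt N28112 (iv3 D98619)) (tt N88760 (iv4 F384066)) (tt N52991 F152017) (tt N88768 D191665) (tt N84010 (iv7 F367790)))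
theorem Q53024 : ∀ i, i < 53024 → P i := stepQ 53023 Q53023 (allL N53023 (tt N88769 D191666) (tt N88770 D191667) (tt N84020 (iv2 F367822)) (tt N88768 (iv3 F384085)) (tt N28114 F152018) (tt N88771 D191668) (tt N28112 (iv6 D98620)) (tt N88772 D191669))
theorem Q53025 : ∀ i, i < 53025 → P i := stepQ 53024 Q53024 (allL N53024 (tt N60653 (iv1 F383742)) (tt N28114 (iv0 D98621)) (tt N55727 F383738) (tt N70430 F383739) (tt N55748 (iv4 F383736)) (tt N88773 D191670) (tt N70428 F383740) (tt N60648 F383741))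
theorem Q53026 : ∀ i, i < 53026 → P i := stepQ 53025 Q53025 (allL N53025 (tt N73223 (iv1 F360360)) (tt N73217 (iv0 F357511)) (tt N28440 F152019) (tt N88764 (iv3 F384078)) (tt N88774 D191671) (tt N28114 (iv5 D98623)) (tt N28210 F152020) (tt N73221 (iv7 F360356)))
theorem Q53027 : ∀ i, i < 53027 → P i := stepQ 53026 Q53026 (allL N53026 (tt N60648 (iv1 F360365)) (tt N55727 F360366) (tt N60653 (iv2 F383743)) (tt N88765 (iv3 F384081)) (tt N88772 (iv4 F384095)) (tt N73221 F360367) (tt N84015 (iv6 F367803)) (tt N28114 (iv7 D98624)))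
theorem Q53028 : ∀ i, i < 53028 → P i := stepQ 53027 Q53027 (allL N53027 (tt N88775 D191672) (tt N72098 (iv0 F395401)) (tt N88776 D191674) (tt N28115 (iv3 D98625)) (tt N83299 F336400) (tt N52169 F152021) (tt N82979 (iv6 F336401)) (tt N84023 (iv7 F367840)))
theorem Q53029 : ∀ i, i < 53029 → P i := stepQ 53028 Q53028 (allL N53028 (tt N88752 F384052) (tt N37720 F362886) (tt N84022 (iv2 F367834)) (tt N82979 F336402) (tt N53048 (iv4 F152106)) (tt N87686 F380146) (tt N28115 (iv6 D98626)) (tt N60652 (iv7 F359715)))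
theorem Q53030 : ∀ i, i < 53030 → P i := stepQ 53029 Q53029 (allL N53029 (tt N88777 D191675) (tt N88778 D191676) (tt N82810 (iv2 F364844)) (tt N28116 (iv3 D98627)) (tt N48647 F295373) (tt N53041 (iv5 F152083)) (tt N55596 (iv6 F352472)) (tt N84021 (iv7 F367833)))
theorem Q53031 : ∀ i, i < 53031 → P i := stepQ 53030 Q53030 (allL N53030 (tt N32382 F332861) (tt N66619 F332862) (tt N36815 F332863) (tt N28118 F152023) (tt N32551 F332864) (tt N28117 (iv5 D98632)) (tt N36813 F332865) (tt N49532 (iv7 F152024)))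
theorem Q53032 : ∀ i, i < 53032 → P i := stepQ 53031 Q53031 (allL N53031 (tt N36792 F325740) (tt N36791 F325741) (tt N35630 F325742) (tt N36813 F325743) (tt N38802 F325744) (tt N80725 (iv5 F345383)) (tt N28118 (iv6 D98634)) (tt N36793 F325745))
theorem Q53033 : ∀ i, i < 53033 → P i := stepQ 53032 Q53032 (allL N53032 (tt N80683 F270438) (tt N82802 F366971) (tt N52040 (iv2 F152032)) (tt N28120 (iv3 D98639)) (tt N51763 F152031) (tt N88779 D191677) (tt N50855 (iv6 F294799)) (tt N51899 (iv7 F157618)))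
theorem Q53034 : ∀ i, i < 53034 → P i := stepQ 53033 Q53033 (allL N53033 (tt N52917 F152040) (tt N52911 (iv0 F152041)) (tt N52916 F152038) (tt N82602 (iv3 F294752)) (tt N28120 (iv4 D98640)) (tt N72044 F357353) (tt N50856 (iv6 F294804)) (tt N52901 (iv7 F157617)))
theorem Q53035 : ∀ i, i < 53035 → P i := stepQ 53034 Q53034 (allL N53034 (tt N48630 F294438) (tt N53047 (iv0 F251757)) (tt N72053 (iv2 F356330)) (tt N88779 (iv3 F384106)) (tt N69763 (iv4 F357344)) (tt N28120 (iv5 D98641)) (tt N69761 F357345) (tt N72049 (iv7 F357351)))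
theorem Q53036 : ∀ i, i < 53036 → P i := stepQ 53035 Q53035 (allL N53035 (tt N48804 (iv1 F152078)) (tt N28121 (iv0 D98646)) (tt N40961 F334888) (tt N88780 D191678) (tt N88781 D191679) (tt N52298 (iv5 F294407)) (tt N40925 F334889) (tt N82752 (iv7 F335418)))
theorem Q53037 : ∀ i, i < 53037 → P i := stepQ 53036 Q53036 (allL N53036 (tt N28121 (iv1 D98647)) (tt N48804 F152079) (tt N82752 F335419) (tt N88782 D191680) (tt N88783 D191681) (tt N52297 (iv5 F294402)) (tt N88784 D191682) (tt N40961 F334890))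
theorem Q53038 : ∀ i, i < 53038 → P i := stepQ 53037 Q53037 (allL N53037 (tt N72007 F350429) (tt N88785 D191683) (tt N53038 F345236) (tt N48660 F345237) (tt N28121 (iv4 D98648)) (tt N88786 D191684) (tt N48659 F345238) (tt N84024 (iv7 F367842)))
theorem Q53039 : ∀ i, i < 53039 → P i := stepQ 53038 Q53038 (allL N53038 (tt N88787 D191685) (tt N88788 D191686) (tt N53037 (iv2 F345236)) (tt N28124 F152080) (tt N48659 F345235) (tt N54059 (iv5 F155857)) (tt N28121 (iv6 D98649)) (tt N83013 F345234))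
theorem Q53040 : ∀ i, i < 53040 → P i := stepQ 53039 Q53039 (allL N53039 (tt N55148 (iv1 F292863)) (tt N28122 (iv0 D98650)) (tt N55146 (iv2 F335412)) (tt N88111 (iv3 F381824)) (tt N88789 D191687) (tt N84852 (iv5 F370848)) (tt N48534 F289317) (tt N55147 (iv7 F364431)))
theorem Q53041 : ∀ i, i < 53041 → P i := stepQ 53040 Q53040 (allL N53040 (tt N28122 (iv1 D98651)) (tt N55148 (iv0 F292862)) (tt N55147 F364432) (tt N86822 (iv3 F377304)) (tt N88790 D191688) (tt N84853 F370854) (tt N84380 F369086) (tt N55146 (iv7 F335415)))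
theorem Q53042 : ∀ i, i < 53042 → P i := stepQ 53041 Q53041 (allL N53041 (tt N88791 D191689) (tt N88792 D191690) (tt N48673 F332738) (tt N28123 (iv3 D98653)) (tt N48660 F332739) (tt N53029 F152083) (tt N29465 F332740) (tt N84026 (iv7 F367849)))
theorem Q53043 : ∀ i, i < 53043 → P i := stepQ 53042 Q53042 (allL N53042 (tt N88708 F383936) (tt N36753 F332747) (tt N52158 F152084) (tt N29465 F332748) (tt N28124 F152085) (tt N29464 F332749) (tt N28123 (iv6 D98654)) (tt N48296 F332750))
theorem Q53044 : ∀ i, i < 53044 → P i := stepQ 53043 Q53043 (allL N53043 (tt N52162 (iv1 F152088)) (tt N28124 (iv0 D98655)) (tt N52159 F380042) (tt N88793 D191691) (tt N88794 D191692) (tt N88795 D191693) (tt N88796 D191694) (tt N52160 F380043))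
theorem Q53045 : ∀ i, i < 53045 → P i := stepQ 53044 Q53044 (allL N53044 (tt N28124 (iv1 D98656)) (tt N52162 F152086) (tt N52160 F380041) (tt N88797 D191695) (tt N88798 D191696) (tt N85403 (iv5 F372501)) (tt N88799 D191697) (tt N52159 (iv7 F380040)))
theorem Q53046 : ∀ i, i < 53046 → P i := stepQ 53045 Q53045 (allL N53045 (tt N52160 (iv1 F152089)) (tt N52159 F152090) (tt N52162 F152087) (tt N83013 (iv3 F345232)) (tt N48296 F345229) (tt N54062 (iv5 F155858)) (tt N84030 (iv6 F367863)) (tt N28124 (iv7 D98657)))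
theorem Q53047 : ∀ i, i < 53047 → P i := stepQ 53046 Q53046 (allL N53046 (tt N80682 F361763) (tt N84194 (iv0 F372445)) (tt N88800 D191698) (tt N28125 (iv3 D98658)) (tt N48959 F294973) (tt N55322 (iv5 F159454)) (tt N28900 F152092) (tt N52163 F152093))
theorem Q53048 : ∀ i, i < 53048 → P i := stepQ 53047 Q53047 (allL N53047 (tt N53034 F251757) (tt N49382 (iv0 F285544)) (tt N52299 (iv2 F294413)) (tt N28127 F152100) (tt N88801 D191699) (tt N28126 (iv5 D98662)) (tt N88802 D191700) (tt N49598 F152101))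
theorem Q53049 : ∀ i, i < 53049 → P i := stepQ 53048 Q53048 (allL N53048 (tt N88803 D191701) (tt N84322 (iv0 F368889)) (tt N49597 F152105) (tt N88802 (iv3 F384199)) (tt N53028 F152106) (tt N84974 (iv5 F371232)) (tt N28127 (iv6 D98664)) (tt N88804 D191702))
theorem Q53050 : ∀ i, i < 53050 → P i := stepQ 53049 Q53049 (allL N53049 (tt N51280 F333365) (tt N51284 F333366) (tt N76988 (iv2 F241320)) (tt N48562 F152154) (tt N28129 F152155) (tt N88805 D191703) (tt N28128 (iv6 D98684)) (tt N84709 (iv7 F370298)))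
theorem Q53051 : ∀ i, i < 53051 → P i := stepQ 53050 Q53050 (allL N53050 (tt N51323 F152158) (tt N50857 (iv0 F294811)) (tt N51154 (iv2 F344287)) (tt N51160 (iv3 F294591)) (tt N28134 (iv4 D98692)) (tt N88806 D191704) (tt N56108 (iv6 F349205)) (tt N84106 (iv7 F368129)))
theorem Q53052 : ∀ i, i < 53052 → P i := stepQ 53051 Q53051 (allL N53051 (tt N83720 F349283) (tt N49369 F349284) (tt N83722 F367100) (tt N86409 (iv3 F376140)) (tt N88807 D191705) (tt N28134 (iv5 D98693)) (tt N88808 D191706) (tt N83721 (iv7 F367106)))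
theorem Q53053 : ∀ i, i < 53053 → P i := stepQ 53052 Q53052 (allL N53052 (tt N76193 (iv1 F349237)) (tt N28554 F349234) (tt N84393 (iv2 F369134)) (tt N86410 (iv3 F376141)) (tt N56108 F349235) (tt N76177 F349236) (tt N28134 (iv6 D98694)) (tt N84392 F369129))
theorem Q53054 : ∀ i, i < 53054 → P i := stepQ 53053 Q53053 (allL N53053 (tt N50857 (iv1 F294812)) (tt N51323 (iv0 F152161)) (tt N84106 (iv2 F368127)) (tt N50488 (iv3 F294776)) (tt N28135 (iv4 D98697)) (tt N88809 D191707) (tt N88810 D191708) (tt N51154 F344286))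
theorem Q53055 : ∀ i, i < 53055 → P i := stepQ 53054 Q53054 (allL N53054 (tt N49369 F367102) (tt N83720 F367103) (tt N83721 F367104) (tt N83948 (iv3 F367583)) (tt N70674 (iv4 F376441)) (tt N28135 (iv5 D98698)) (tt N88811 D191709) (tt N83722 F367101))
theorem Q53056 : ∀ i, i < 53056 → P i := stepQ 53055 Q53055 (allL N53055 (tt N83874 F367373) (tt N84396 F369143) (tt N84394 F369138) (tt N83949 (iv3 F367584)) (tt N88810 (iv4 F384223)) (tt N54743 (iv5 F361067)) (tt N28135 (iv6 D98699)) (tt N84395 (iv7 F369137)))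
theorem Q53057 : ∀ i, i < 53057 → P i := stepQ 53056 Q53056 (allL N53056 (tt N76458 (iv1 F238938)) (tt N28136 (iv0 D98700)) (tt N76456 F355753) (tt N88430 (iv3 F383019)) (tt N60166 F355758) (tt N49310 F355754) (tt N60165 (iv6 F355756)) (tt N76457 F355755))
theorem Q53058 : ∀ i, i < 53058 → P i := stepQ 53057 Q53057 (allL N53057 (tt N28136 (iv1 D98701)) (tt N76458 F238937) (tt N76457 (iv2 F355752)) (tt N83951 F367589) (tt N88812 D191710) (tt N49311 F349266) (tt N88813 D191711) (tt N76456 F349274))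
theorem Q53059 : ∀ i, i < 53059 → P i := stepQ 53058 Q53058 (allL N53058 (tt N78281 F349265) (tt N85144 (iv0 F371736)) (tt N76455 (iv2 F238929)) (tt N88814 D191712) (tt N28136 (iv4 D98702)) (tt N88815 D191713) (tt N76325 (iv6 F238329)) (tt N85408 (iv7 F372510)))
theorem Q53060 : ∀ i, i < 53060 → P i := stepQ 53059 Q53059 (allL N53059 (tt N32174 (iv1 F152166)) (tt N28137 (iv0 D98703)) (tt N37280 (iv2 F152165)) (tt N34408 F152167) (tt N79858 (iv4 F340685)) (tt N34407 F152164) (tt N88816 D191714) (tt N69477 (iv7 F214469)))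
theorem Q53061 : ∀ i, i < 53061 → P i := stepQ 53060 Q53060 (allL N53060 (tt N51511 F152169) (tt N51513 F152170) (tt N78517 F292607) (tt N88817 D191715) (tt N28137 (iv4 D98704)) (tt N88818 D191716) (tt N28138 F152168) (tt N76470 (iv7 F238987)))
theorem Q53062 : ∀ i, i < 53062 → P i := stepQ 53061 Q53061 (allL N53061 (tt N88819 D191717) (tt N88820 D191718) (tt N88821 D191719) (tt N28138 (iv3 D98707)) (tt N88814 (iv4 F384233)) (tt N47625 F292604) (tt N88817 (iv6 F384240)) (tt N78514 F292605))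
theorem Q53063 : ∀ i, i < 53063 → P i := stepQ 53062 Q53062 (allL N53062 (tt N67921 (iv1 F304575)) (tt N79255 (iv0 F298386)) (tt N28142 F152246) (tt N32887 (iv3 F298177)) (tt N42648 F296792) (tt N28139 (iv5 D98758)) (tt N34715 F152247) (tt N75010 (iv7 F309309)))
theorem Q53064 : ∀ i, i < 53064 → P i := stepQ 53063 Q53063 (allL N53063 (tt N69346 (iv1 F308400)) (tt N37235 F306584) (tt N69345 F306585) (tt N36443 F296787) (tt N42861 (iv4 F298385)) (tt N41852 (iv5 F312505)) (tt N28141 (iv6 D98769)) (tt N69334 (iv7 F308404)))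
theorem Q53065 : ∀ i, i < 53065 → P i := stepQ 53064 Q53064 (allL N53064 (tt N75010 (iv1 F309306)) (tt N28142 (iv0 D98770)) (tt N67921 F306587) (tt N81300 F296796) (tt N69579 (iv4 F306156)) (tt N36922 (iv5 F308038)) (tt N36925 F306588) (tt N79255 F296799))
theorem Q53066 : ∀ i, i < 53066 → P i := stepQ 53065 Q53065 (allL N53065 (tt N28142 (iv1 D98771)) (tt N75010 (iv0 F309305)) (tt N79255 F296801) (tt N36447 F296802) (tt N75007 (iv4 F306162)) (tt N36527 (iv5 F298387)) (tt N74747 (iv6 F338174)) (tt N67921 (iv7 F304578)))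
theorem Q53067 : ∀ i, i < 53067 → P i := stepQ 53066 Q53066 (allL N53066 (tt N33835 F296805) (tt N42649 F296806) (tt N42648 F296807) (tt N79271 F296808) (tt N28142 (iv4 D98772)) (tt N37367 (iv5 F307992)) (tt N40195 F318157) (tt N41678 (iv7 F307842)))
theorem Q53068 : ∀ i, i < 53068 → P i := stepQ 53067 Q53067 (allL N53067 (tt N28250 F152396) (tt N28578 F152397) (tt N28592 F152392) (tt N43157 F306767) (tt N28143 (iv4 D98847)) (tt N45526 F152395) (tt N88822 D191720) (tt N28593 F152394))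
theorem Q53069 : ∀ i, i < 53069 → P i := stepQ 53068 Q53068 (allL N53068 (tt N52825 (iv1 F354015)) (tt N52829 F354030) (tt N48684 F152398) (tt N28146 F152399) (tt N88822 (iv4 F384258)) (tt N88823 D191721) (tt N28143 (iv6 D98848)) (tt N76937 (iv7 F354014)))
theorem Q53070 : ∀ i, i < 53070 → P i := stepQ 53069 Q53069 (allL N53069 (tt N48595 F152401) (tt N28144 (iv0 D98849)) (tt N48685 F284515) (tt N83894 F367425) (tt N52537 F152400) (tt N88824 D191722) (tt N81481 (iv6 F353208)) (tt N48686 F284516))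
theorem Q53071 : ∀ i, i < 53071 → P i := stepQ 53070 Q53070 (allL N53070 (tt N28144 (iv1 D98850)) (tt N48595 F152402) (tt N48686 F284514) (tt N82613 (iv3 F283243)) (tt N52510 (iv4 F152403)) (tt N88825 D191723) (tt N83163 F381817) (tt N48685 (iv7 F284512)))
theorem Q53072 : ∀ i, i < 53072 → P i := stepQ 53071 Q53071 (allL N53071 (tt N88826 D191724) (tt N88827 D191725) (tt N48687 F152404) (tt N28148 F152405) (tt N88828 D191726) (tt N28144 (iv5 D98851)) (tt N88823 (iv6 F384264)) (tt N88829 D191727))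
theorem Q53073 : ∀ i, i < 53073 → P i := stepQ 53072 Q53072 (allL N53072 (tt N48686 (iv1 F152409)) (tt N48685 F152410) (tt N48595 F152406) (tt N28149 F152407) (tt N49929 F152408) (tt N88829 (iv5 F384289)) (tt N83875 (iv6 F367323)) (tt N28144 (iv7 D98852)))
theorem Q53074 : ∀ i, i < 53074 → P i := stepQ 53073 Q53073 (allL N53073 (tt N76990 F366855) (tt N76989 (iv0 F366856)) (tt N53699 (iv2 F154465)) (tt N79138 (iv3 F253115)) (tt N28146 F152411) (tt N88830 D191728) (tt N28145 (iv6 D98853)) (tt N76987 F366857))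
theorem Q53075 : ∀ i, i < 53075 → P i := stepQ 53074 Q53074 (allL N53074 (tt N64326 (iv1 F363134)) (tt N77048 F366923) (tt N53700 (iv2 F154468)) (tt N88823 (iv3 F384263)) (tt N82614 F363127) (tt N28146 (iv5 D98856)) (tt N28148 F152412) (tt N77043 (iv7 F363133)))
theorem Q53076 : ∀ i, i < 53076 → P i := stepQ 53075 Q53075 (allL N53075 (tt N83506 (iv1 F287689)) (tt N84429 F369249) (tt N83698 (iv2 F288566)) (tt N64314 F364395) (tt N88831 D191729) (tt N28147 (iv5 D98858)) (tt N88832 D191730) (tt N83957 (iv7 F367608)))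
theorem Q53077 : ∀ i, i < 53077 → P i := stepQ 53076 Q53076 (allL N53076 (tt N83495 (iv1 F287639)) (tt N28148 (iv0 D98859)) (tt N50513 F367219) (tt N64317 (iv3 F290088)) (tt N88833 D191731) (tt N50509 (iv5 F290951)) (tt N88834 D191732) (tt N83959 (iv7 F367618)))
theorem Q53078 : ∀ i, i < 53078 → P i := stepQ 53077 Q53077 (allL N53077 (tt N88835 D191733) (tt N88836 D191734) (tt N83960 (iv2 F367622)) (tt N88837 D191735) (tt N28148 (iv4 D98860)) (tt N88838 D191736) (tt N82614 (iv6 F363135)) (tt N88839 D191737))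
theorem Q53079 : ∀ i, i < 53079 → P i := stepQ 53078 Q53078 (allL N53078 (tt N83959 (iv1 F367617)) (tt N50513 F355765) (tt N83495 F287638) (tt N88829 (iv3 F384287)) (tt N88839 (iv4 F384298)) (tt N28149 F152413) (tt N88840 D191738) (tt N28148 (iv7 D98861)))
theorem Q53080 : ∀ i, i < 53080 → P i := stepQ 53079 Q53079 (allL N53079 (tt N85422 (iv1 F372587)) (tt N40539 F338881) (tt N28168 F152431) (tt N88841 D191739) (tt N28151 (iv4 D98872)) (tt N88842 D191740) (tt N81874 (iv6 F277353)) (tt N85417 (iv7 F372547)))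
theorem Q53081 : ∀ i, i < 53081 → P i := stepQ 53080 Q53080 (allL N53080 (tt N47275 F342342) (tt N47279 F342343) (tt N48713 F152436) (tt N28154 F152437) (tt N54238 (iv4 F156288)) (tt N81824 (iv5 F363861)) (tt N28152 (iv6 D98874)) (tt N77423 F351790))
theorem Q53082 : ∀ i, i < 53082 → P i := stepQ 53081 Q53081 (allL N53081 (tt N88843 D191741) (tt N88844 D191742) (tt N81864 (iv2 F277318)) (tt N34920 F152438) (tt N28154 F152439) (tt N62326 (iv5 F351773)) (tt N28153 (iv6 D98875)) (tt N88845 D191743))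
theorem Q53083 : ∀ i, i < 53083 → P i := stepQ 53082 Q53082 (allL N53082 (tt N65021 F338922) (tt N73905 (iv0 F349510)) (tt N81865 (iv2 F277321)) (tt N81824 F363863) (tt N88846 D191744) (tt N28154 (iv5 D98878)) (tt N28483 F152440) (tt N88847 D191745))
theorem Q53084 : ∀ i, i < 53084 → P i := stepQ 53083 Q53083 (allL N53083 (tt N64568 (iv1 F351778)) (tt N65014 (iv0 F351779)) (tt N65013 (iv2 F351757)) (tt N77423 (iv3 F351789)) (tt N88845 (iv4 F384322)) (tt N88847 (iv5 F384328)) (tt N77172 (iv6 F306378)) (tt N28154 (iv7 D98879)))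
theorem Q53085 : ∀ i, i < 53085 → P i := stepQ 53084 Q53084 (allL N53084 (tt N48202 F304450) (tt N28156 (iv0 D98886)) (tt N64529 (iv2 F197501)) (tt N65226 (iv3 F200449)) (tt N88848 D191746) (tt N88849 D191747) (tt N28157 F312924) (tt N64530 (iv7 F197503)))
theorem Q53086 : ∀ i, i < 53086 → P i := stepQ 53085 Q53085 (allL N53085 (tt N53095 (iv1 F338879)) (tt N53710 (iv0 F338841)) (tt N64531 (iv2 F197505)) (tt N53740 (iv3 F310430)) (tt N88850 D191748) (tt N28156 (iv5 D98887)) (tt N79108 (iv6 F252624)) (tt N88851 D191749))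
theorem Q53087 : ∀ i, i < 53087 → P i := stepQ 53086 Q53086 (allL N53086 (tt N64530 (iv1 F197502)) (tt N64529 F197499) (tt N48202 F304451) (tt N64894 (iv3 F198465)) (tt N28160 F152449) (tt N88851 (iv5 F384342)) (tt N77171 (iv6 F241797)) (tt N28156 (iv7 D98888)))
theorem Q53088 : ∀ i, i < 53088 → P i := stepQ 53087 Q53087 (allL N53087 (tt N47490 F281956) (tt N47263 F319022) (tt N48715 F281934) (tt N28157 (iv3 D98890)) (tt N88852 D191750) (tt N88853 D191751) (tt N65226 F366732) (tt N81868 (iv7 F281935)))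
theorem Q53089 : ∀ i, i < 53089 → P i := stepQ 53088 Q53088 (allL N53088 (tt N69611 F354634) (tt N79113 F354642) (tt N81866 F281960) (tt N34930 F197294) (tt N28157 (iv4 D98891)) (tt N88854 D191752) (tt N88848 (iv6 F384332)) (tt N81869 (iv7 F281963)))
theorem Q53090 : ∀ i, i < 53090 → P i := stepQ 53089 Q53089 (allL N53089 (tt N65360 F275528) (tt N82269 F281968) (tt N81867 F281961) (tt N88853 (iv3 F384352)) (tt N88855 D191753) (tt N28157 (iv5 D98892)) (tt N88856 D191754) (tt N81870 (iv7 F281964)))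
theorem Q53091 : ∀ i, i < 53091 → P i := stepQ 53090 Q53090 (allL N53090 (tt N79113 (iv1 F354640)) (tt N69611 F354639) (tt N81869 F281969) (tt N82329 (iv3 F342040)) (tt N28158 (iv4 D98896)) (tt N88857 D191755) (tt N88858 D191756) (tt N81866 F281958))
theorem Q53092 : ∀ i, i < 53092 → P i := stepQ 53091 Q53091 (allL N53091 (tt N82269 (iv1 F281967)) (tt N65360 F281966) (tt N81870 F281965) (tt N48717 (iv3 F281931)) (tt N88859 D191757) (tt N28158 (iv5 D98897)) (tt N88860 D191758) (tt N81867 F281959))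
theorem Q53093 : ∀ i, i < 53093 → P i := stepQ 53092 Q53092 (allL N53092 (tt N77258 F343481) (tt N64921 F343482) (tt N81871 (iv2 F281974)) (tt N48718 (iv3 F281932)) (tt N88858 (iv4 F384358)) (tt N88861 D191759) (tt N28158 (iv6 D98898)) (tt N65251 F366778))
theorem Q53094 : ∀ i, i < 53094 → P i := stepQ 53093 Q53093 (allL N53093 (tt N65354 (iv1 F201006)) (tt N28159 (iv0 D98899)) (tt N81872 (iv2 F364056)) (tt N88862 D191760) (tt N88863 D191761) (tt N53702 F338885) (tt N88864 D191762) (tt N81873 F364057))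
theorem Q53095 : ∀ i, i < 53095 → P i := stepQ 53094 Q53094 (allL N53094 (tt N28159 (iv1 D98900)) (tt N65354 F201005) (tt N81873 F364055) (tt N48720 F268865) (tt N88865 D191763) (tt N53703 (iv5 F307381)) (tt N88866 D191764) (tt N81872 (iv7 F364054)))
theorem Q53096 : ∀ i, i < 53096 → P i := stepQ 53095 Q53095 (allL N53095 (tt N82296 F338884) (tt N53085 F338879) (tt N81874 (iv2 F277352)) (tt N86289 (iv3 F375706)) (tt N28159 (iv4 D98901)) (tt N28499 F338880) (tt N28168 F152453) (tt N88867 D191765))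
theorem Q53097 : ∀ i, i < 53097 → P i := stepQ 53096 Q53096 (allL N53096 (tt N81873 (iv1 F277351)) (tt N81872 F277350) (tt N65354 (iv2 F201002)) (tt N28179 F152454) (tt N88867 (iv4 F384389)) (tt N28160 F152455) (tt N70368 (iv6 F332664)) (tt N28159 (iv7 D98902)))
theorem Q53098 : ∀ i, i < 53098 → P i := stepQ 53097 Q53097 (allL N53097 (tt N87638 (iv1 F379966)) (tt N87637 F379963) (tt N48724 F152456) (tt N28162 F152457) (tt N85471 F372731) (tt N28161 (iv5 D98903)) (tt N88868 D191766) (tt N85411 (iv7 F372516)))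
theorem Q53099 : ∀ i, i < 53099 → P i := stepQ 53098 Q53098 (allL N53098 (tt N87256 (iv1 F378913)) (tt N88869 D191767) (tt N48725 F152458) (tt N28163 F152459) (tt N83218 (iv4 F357433)) (tt N76199 (iv5 F328507)) (tt N28161 (iv6 D98904)) (tt N84398 (iv7 F369148)))
theorem Q53100 : ∀ i, i < 53100 → P i := stepQ 53099 Q53099 (allL N53099 (tt N88870 D191768) (tt N88871 D191769) (tt N85415 (iv2 F372540)) (tt N88872 D191770) (tt N28162 (iv4 D98907)) (tt N88873 D191771) (tt N88874 D191772) (tt N85413 (iv7 F372538)))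
theorem Q53101 : ∀ i, i < 53101 → P i := stepQ 53100 Q53100 (allL N53100 (tt N62410 F365646) (tt N88875 D191773) (tt N85416 (iv2 F372542)) (tt N88868 (iv3 F384394)) (tt N88874 (iv4 F384406)) (tt N76173 (iv5 F365644)) (tt N28162 (iv6 D98908)) (tt N88876 D191774))
theorem Q53102 : ∀ i, i < 53102 → P i := stepQ 53101 Q53101 (allL N53101 (tt N88871 (iv1 F384405)) (tt N88870 F384404) (tt N85413 (iv2 F372537)) (tt N88877 D191775) (tt N28164 (iv4 D98913)) (tt N88878 D191776) (tt N88879 D191777) (tt N85415 (iv7 F372541)))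
theorem Q53103 : ∀ i, i < 53103 → P i := stepQ 53102 Q53102 (allL N53102 (tt N86333 (iv1 F427121)) (tt N82271 (iv0 F338899)) (tt N85414 (iv2 F372539)) (tt N48730 F152463) (tt N88879 (iv4 F384414)) (tt N54768 (iv5 F157699)) (tt N28164 (iv6 D98914)) (tt N88880 D191779))
theorem Q53104 : ∀ i, i < 53104 → P i := stepQ 53103 Q53103 (allL N53103 (tt N87636 (iv1 F379961)) (tt N87251 (iv0 F378877)) (tt N48732 F152465) (tt N28166 (iv3 D98917)) (tt N86287 F375698) (tt N50794 F367098) (tt N88881 D191780) (tt N85418 (iv7 F372555)))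
theorem Q53105 : ∀ i, i < 53105 → P i := stepQ 53104 Q53104 (allL N53104 (tt N88882 D191781) (tt N88883 D191782) (tt N85421 (iv2 F372585)) (tt N88884 D191783) (tt N28166 (iv4 D98918)) (tt N88885 D191784) (tt N88886 D191785) (tt N85419 (iv7 F372561)))
theorem Q53106 : ∀ i, i < 53106 → P i := stepQ 53105 Q53105 (allL N53105 (tt N88887 D191786) (tt N88888 D191787) (tt N72810 F359689) (tt N88881 (iv3 F384417)) (tt N88886 (iv4 F384422)) (tt N62313 (iv5 F359688)) (tt N28166 (iv6 D98920)) (tt N72805 F359690))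
theorem Q53107 : ∀ i, i < 53107 → P i := stepQ 53106 Q53106 (allL N53106 (tt N88883 (iv1 F384420)) (tt N88882 F384419) (tt N85419 (iv2 F372560)) (tt N88889 D191788) (tt N28167 (iv4 D98921)) (tt N88890 D191789) (tt N73342 F372579) (tt N85421 (iv7 F372586)))
theorem Q53108 : ∀ i, i < 53108 → P i := stepQ 53107 Q53107 (allL N53107 (tt N72579 (iv1 F372567)) (tt N72570 F372566) (tt N85420 (iv2 F372562)) (tt N48736 F152469) (tt N73342 (iv4 F372568)) (tt N85129 (iv5 F371709)) (tt N28167 (iv6 D98922)) (tt N88891 D191790))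
theorem Q53109 : ∀ i, i < 53109 → P i := stepQ 53108 Q53108 (allL N53108 (tt N85417 F372550) (tt N28168 (iv0 D98923)) (tt N85422 F372589) (tt N40551 F372551) (tt N88892 D191791) (tt N88893 D191792) (tt N88894 D191793) (tt N40539 F372552))
theorem Q53110 : ∀ i, i < 53110 → P i := stepQ 53109 Q53109 (allL N53109 (tt N28168 (iv1 D98924)) (tt N85417 F372548) (tt N40539 F364540) (tt N88709 (iv3 F383938)) (tt N85490 (iv4 F372808)) (tt N88707 F383927) (tt N40534 F364541) (tt N85422 (iv7 F372588)))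
theorem Q53111 : ∀ i, i < 53111 → P i := stepQ 53110 Q53110 (allL N53110 (tt N69750 F375704) (tt N88895 D191794) (tt N88842 (iv2 F384306)) (tt N86288 (iv3 F375700)) (tt N88896 D191795) (tt N28168 (iv5 D98926)) (tt N88897 D191796) (tt N85423 (iv7 F372591)))
theorem Q53112 : ∀ i, i < 53112 → P i := stepQ 53111 Q53111 (allL N53111 (tt N75863 (iv1 F234473)) (tt N28169 (iv0 D98935)) (tt N65355 (iv2 F201014)) (tt N48556 (iv3 F233028)) (tt N69609 (iv4 F304548)) (tt N88898 D191797) (tt N48778 F233026) (tt N48551 (iv7 F233029)))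
theorem Q53113 : ∀ i, i < 53113 → P i := stepQ 53112 Q53112 (allL N53112 (tt N65355 (iv1 F272723)) (tt N48551 F272722) (tt N28169 (iv2 D98937)) (tt N80866 F354644) (tt N66825 (iv4 F342000)) (tt N88899 D191798) (tt N57425 (iv6 F354647)) (tt N75863 (iv7 F234474)))
theorem Q53114 : ∀ i, i < 53114 → P i := stepQ 53113 Q53113 (allL N53113 (tt N88900 D191799) (tt N82256 (iv0 F368322)) (tt N88899 (iv2 F384478)) (tt N28171 F152481) (tt N88901 D191800) (tt N28169 (iv5 D98939)) (tt N88902 D191801) (tt N83923 (iv7 F367508)))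
theorem Q53115 : ∀ i, i < 53115 → P i := stepQ 53114 Q53114 (allL N53114 (tt N84146 (iv1 F368327)) (tt N67276 F354765) (tt N46838 F272698) (tt N34753 F357788) (tt N88903 D191802) (tt N28170 (iv5 D98945)) (tt N34752 F357789) (tt N46841 F272699))
theorem Q53116 : ∀ i, i < 53116 → P i := stepQ 53115 Q53115 (allL N53115 (tt N28171 (iv1 D98949)) (tt N28175 F152492) (tt N65362 (iv2 F287075)) (tt N82269 F287076) (tt N85931 (iv4 F380075)) (tt N81200 F338820) (tt N83934 F367532) (tt N81199 (iv7 F304510)))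
theorem Q53117 : ∀ i, i < 53117 → P i := stepQ 53116 Q53116 (allL N53116 (tt N67230 (iv1 F354669)) (tt N70414 F357792) (tt N70378 F354661) (tt N75124 F354741) (tt N28171 (iv4 D98950)) (tt N67318 (iv5 F354667)) (tt N75123 (iv6 F354740)) (tt N70380 (iv7 F354663)))
theorem Q53118 : ∀ i, i < 53118 → P i := stepQ 53117 Q53117 (allL N53117 (tt N88904 D191803) (tt N88905 D191804) (tt N83922 (iv2 F367505)) (tt N88902 (iv3 F384489)) (tt N75123 F354742) (tt N88906 D191805) (tt N28171 (iv6 D98951)) (tt N86403 (iv7 F376117)))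
theorem Q53119 : ∀ i, i < 53119 → P i := stepQ 53118 Q53118 (allL N53118 (tt N28222 F152496) (tt N28522 (iv0 F152497)) (tt N28520 F272724) (tt N68478 (iv3 F357932)) (tt N54050 (iv4 F195698)) (tt N28172 (iv5 D98955)) (tt N88906 (iv6 F384500)) (tt N28519 F272725))
theorem Q53120 : ∀ i, i < 53120 → P i := stepQ 53119 Q53119 (allL N53119 (tt N45548 F310437) (tt N64894 F310438) (tt N64893 F310439) (tt N57426 F337634) (tt N68449 (iv4 F337633)) (tt N28519 F272728) (tt N82290 (iv6 F344109)) (tt N28172 (iv7 D98956)))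
theorem Q53121 : ∀ i, i < 53121 → P i := stepQ 53120 Q53120 (allL N53120 (tt N28173 (iv1 D98959)) (tt N80866 (iv0 F354614)) (tt N67619 F318137) (tt N47490 (iv3 F155171)) (tt N38877 F318138) (tt N88907 D191806) (tt N77211 F332360) (tt N83893 (iv7 F367420)))
theorem Q53122 : ∀ i, i < 53122 → P i := stepQ 53121 Q53121 (allL N53121 (tt N83893 (iv1 F367422)) (tt N67619 (iv0 F315929)) (tt N28173 (iv2 D98960)) (tt N75863 (iv3 F234476)) (tt N80870 (iv4 F354621)) (tt N76503 (iv5 F354624)) (tt N88908 D191807) (tt N80866 F354622))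
theorem Q53123 : ∀ i, i < 53123 → P i := stepQ 53122 Q53122 (allL N53122 (tt N47571 F300672) (tt N80853 (iv0 F317281)) (tt N80870 (iv2 F354619)) (tt N38052 F317518) (tt N28173 (iv4 D98961)) (tt N38042 F317519) (tt N80877 F348181) (tt N38040 F317520))
theorem Q53124 : ∀ i, i < 53124 → P i := stepQ 53123 Q53123 (allL N53123 (tt N38908 F354655) (tt N76502 F354656) (tt N76503 F354657) (tt N28175 F152499) (tt N88909 D191808) (tt N28173 (iv5 D98962)) (tt N86399 (iv6 F376105)) (tt N76504 F354658))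
theorem Q53125 : ∀ i, i < 53125 → P i := stepQ 53124 Q53124 (allL N53124 (tt N65419 F351633) (tt N88910 D191809) (tt N88908 (iv2 F384504)) (tt N28176 F152500) (tt N80877 (iv4 F348182)) (tt N88911 D191810) (tt N28173 (iv6 D98963)) (tt N80873 (iv7 F357794)))
theorem Q53126 : ∀ i, i < 53126 → P i := stepQ 53125 Q53125 (allL N53125 (tt N81535 (iv1 F348713)) (tt N81534 (iv0 F337630)) (tt N38065 F315982) (tt N28174 (iv3 D98964)) (tt N38052 F315983) (tt N88912 D191811) (tt N88913 D191812) (tt N38050 F315984))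
theorem Q53127 : ∀ i, i < 53127 → P i := stepQ 53126 Q53126 (allL N53126 (tt N67276 F354766) (tt N84146 (iv0 F368326)) (tt N46841 F272708) (tt N88912 (iv3 F384512)) (tt N88914 D191813) (tt N28174 (iv5 D98965)) (tt N88915 D191814) (tt N46838 F272709))
theorem Q53128 : ∀ i, i < 53128 → P i := stepQ 53127 Q53127 (allL N53127 (tt N54354 (iv1 F272750)) (tt N53367 F272751) (tt N46842 F272710) (tt N88913 (iv3 F384516)) (tt N28176 F152501) (tt N88916 D191815) (tt N28174 (iv6 D98966)) (tt N54352 F272711))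
theorem Q53129 : ∀ i, i < 53129 → P i := stepQ 53128 Q53128 (allL N53128 (tt N70414 (iv1 F357791)) (tt N67230 F354756) (tt N70380 F354664) (tt N88917 D191816) (tt N28175 (iv4 D98967)) (tt N67317 F354759) (tt N50065 (iv6 F354762)) (tt N70378 F354662))
theorem Q53130 : ∀ i, i < 53130 → P i := stepQ 53129 Q53129 (allL N53129 (tt N82290 F362723) (tt N28176 (iv0 D98969)) (tt N64564 (iv2 F343476)) (tt N77258 (iv3 F343477)) (tt N78609 (iv4 F249721)) (tt N53545 F153988) (tt N64563 F343475) (tt N81416 F275090))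
theorem Q53131 : ∀ i, i < 53131 → P i := stepQ 53130 Q53130 (allL N53130 (tt N52890 F274648) (tt N52888 (iv0 F152502)) (tt N83925 (iv2 F367512)) (tt N88911 (iv3 F384510)) (tt N88918 D191817) (tt N28176 (iv5 D98971)) (tt N86400 (iv6 F376108)) (tt N88919 D191818))
theorem Q53132 : ∀ i, i < 53132 → P i := stepQ 53131 Q53131 (allL N53131 (tt N81416 (iv1 F275094)) (tt N64564 (iv0 F355385)) (tt N82290 (iv2 F344108)) (tt N80873 F357795) (tt N54352 (iv4 F272736)) (tt N88919 (iv5 F384533)) (tt N64893 (iv6 F310428)) (tt N28176 (iv7 D98972)))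
theorem Q53133 : ∀ i, i < 53133 → P i := stepQ 53132 Q53132 (allL N53132 (tt N88898 F384477) (tt N75864 (iv0 F384543)) (tt N88920 D191820) (tt N28177 (iv3 D98974)) (tt N88921 D191821) (tt N88922 D191822) (tt N88923 D191823) (tt N83927 (iv7 F367517)))
theorem Q53134 : ∀ i, i < 53134 → P i := stepQ 53133 Q53133 (allL N53133 (tt N53566 (iv1 F154042)) (tt N47270 F304505) (tt N53567 (iv2 F154043)) (tt N88922 (iv3 F384545)) (tt N81080 (iv4 F275031)) (tt N28177 (iv5 D98976)) (tt N53580 (iv6 F154051)) (tt N53185 (iv7 F275013)))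
theorem Q53135 : ∀ i, i < 53135 → P i := stepQ 53134 Q53134 (allL N53134 (tt N88924 D191824) (tt N88925 D191825) (tt N83926 (iv2 F367515)) (tt N88923 (iv3 F384546)) (tt N85427 (iv4 F372598)) (tt N84745 F370445) (tt N28177 (iv6 D98977)) (tt N88926 D191826))
theorem Q53136 : ∀ i, i < 53136 → P i := stepQ 53135 Q53135 (allL N53135 (tt N88513 (iv1 F383350)) (tt N88907 (iv0 F384502)) (tt N70537 F321744) (tt N28178 (iv3 D98979)) (tt N88927 D191827) (tt N43134 F321745) (tt N88928 D191828) (tt N70538 F321746))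
theorem Q53137 : ∀ i, i < 53137 → P i := stepQ 53136 Q53136 (allL N53136 (tt N88929 D191829) (tt N88930 D191830) (tt N83928 (iv2 F367518)) (tt N88928 (iv3 F384550)) (tt N85430 (iv4 F372604)) (tt N53565 (iv5 F154038)) (tt N28178 (iv6 D98981)) (tt N88931 D191831))
theorem Q53138 : ∀ i, i < 53138 → P i := stepQ 53137 Q53137 (allL N53137 (tt N83532 F287737) (tt N50691 (iv0 F294097)) (tt N28181 F152508) (tt N83762 (iv3 F367065)) (tt N88932 D191832) (tt N28180 (iv5 D98988)) (tt N88933 D191833) (tt N83547 (iv7 F287768)))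
theorem Q53139 : ∀ i, i < 53139 → P i := stepQ 53138 Q53138 (allL N53138 (tt N83909 F367462) (tt N29209 F294727) (tt N28182 F152509) (tt N53678 F366979) (tt N52628 F152510) (tt N53632 (iv5 F154142)) (tt N28180 (iv6 D98989)) (tt N83177 (iv7 F286180)))
theorem Q53140 : ∀ i, i < 53140 → P i := stepQ 53139 Q53139 (allL N53139 (tt N28181 (iv1 D98990)) (tt N83547 F287770) (tt N50691 (iv2 F294098)) (tt N88934 D191834) (tt N88935 D191835) (tt N50056 (iv5 F293665)) (tt N88936 D191836) (tt N83532 F287738))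
theorem Q53141 : ∀ i, i < 53141 → P i := stepQ 53140 Q53140 (allL N53140 (tt N88937 D191837) (tt N88938 D191838) (tt N88932 (iv2 F384556)) (tt N83930 (iv3 F367524)) (tt N28181 (iv4 D98991)) (tt N88939 D191839) (tt N88940 D191840) (tt N83930 (iv7 F367525)))
theorem Q53142 : ∀ i, i < 53142 → P i := stepQ 53141 Q53141 (allL N53141 (tt N88941 D191841) (tt N88942 D191842) (tt N88933 (iv2 F384557)) (tt N28183 F152512) (tt N88940 (iv4 F384568)) (tt N53634 (iv5 F154147)) (tt N28181 (iv6 D98992)) (tt N88943 D191843))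
theorem Q53143 : ∀ i, i < 53143 → P i := stepQ 53142 Q53142 (allL N53142 (tt N28182 (iv1 D98993)) (tt N83177 F286181) (tt N29209 F294729) (tt N88944 D191844) (tt N59819 F340564) (tt N88945 D191845) (tt N59824 (iv6 F340563)) (tt N83909 (iv7 F367459)))
theorem Q53144 : ∀ i, i < 53144 → P i := stepQ 53143 Q53143 (allL N53143 (tt N83768 (iv1 F359444)) (tt N28183 (iv0 D99001)) (tt N83767 F359437) (tt N59026 (iv3 F350404)) (tt N51173 F359435) (tt N59024 F350403) (tt N88904 (iv6 F384495)) (tt N70415 F350408))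
theorem Q53145 : ∀ i, i < 53145 → P i := stepQ 53144 Q53144 (allL N53144 (tt N28183 (iv1 D99002)) (tt N83768 F359445) (tt N70415 (iv2 F359440)) (tt N88875 (iv3 F384410)) (tt N51174 (iv4 F359441)) (tt N88946 D191846) (tt N70414 F359446) (tt N83767 F359439))
theorem Q53146 : ∀ i, i < 53146 → P i := stepQ 53145 Q53145 (allL N53145 (tt N70415 (iv1 F359436)) (tt N83767 F359442) (tt N83768 (iv2 F359443)) (tt N88943 (iv3 F384569)) (tt N83935 (iv4 F367535)) (tt N53639 (iv5 F154150)) (tt N83935 (iv6 F367536)) (tt N28183 (iv7 D99003)))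
theorem Q53147 : ∀ i, i < 53147 → P i := stepQ 53146 Q53146 (allL N53146 (tt N51472 F152533) (tt N84103 (iv0 F368121)) (tt N83759 F367042) (tt N50716 (iv3 F294533)) (tt N28184 (iv4 D99007)) (tt N88947 D191847) (tt N79034 (iv6 F251930)) (tt N51499 (iv7 F157237)))
theorem Q53148 : ∀ i, i < 53148 → P i := stepQ 53147 Q53147 (allL N53147 (tt N28191 F363583) (tt N83936 F367547) (tt N83760 F367050) (tt N87636 (iv3 F379958)) (tt N88948 D191848) (tt N28184 (iv5 D99008)) (tt N88949 D191849) (tt N83761 F367049))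
theorem Q53149 : ∀ i, i < 53149 → P i := stepQ 53148 Q53148 (allL N53148 (tt N83764 (iv1 F367067)) (tt N83763 F367125) (tt N28186 F152548) (tt N83547 (iv3 F287766)) (tt N88950 D191850) (tt N28185 (iv5 D99010)) (tt N88951 D191851) (tt N83762 F367066))
theorem Q53150 : ∀ i, i < 53150 → P i := stepQ 53149 Q53149 (allL N53149 (tt N84381 (iv1 F369090)) (tt N83899 (iv0 F369093)) (tt N28187 F152549) (tt N71955 F365469) (tt N51585 F152550) (tt N54685 (iv5 F157417)) (tt N28185 (iv6 D99011)) (tt N84382 (iv7 F369088)))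
theorem Q53151 : ∀ i, i < 53151 → P i := stepQ 53150 Q53150 (allL N53150 (tt N83762 (iv1 F367126)) (tt N28186 (iv0 D99012)) (tt N83764 F367137) (tt N84888 (iv3 F371007)) (tt N88952 D191852) (tt N50053 F367127) (tt N88953 D191853) (tt N83763 (iv7 F367136)))
theorem Q53152 : ∀ i, i < 53152 → P i := stepQ 53151 Q53151 (allL N53151 (tt N28186 (iv1 D99013)) (tt N83762 F367068) (tt N83763 (iv2 F367132)) (tt N87638 F379970) (tt N88954 D191854) (tt N50054 (iv5 F367070)) (tt N88955 D191855) (tt N83764 F367138))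
theorem Q53153 : ∀ i, i < 53153 → P i := stepQ 53152 Q53152 (allL N53152 (tt N88956 D191856) (tt N85529 (iv0 F372952)) (tt N88950 (iv2 F384587)) (tt N83765 F367112) (tt N28186 (iv4 D99014)) (tt N88957 D191857) (tt N88958 D191858) (tt N83765 F367124))
theorem Q53154 : ∀ i, i < 53154 → P i := stepQ 53153 Q53153 (allL N53153 (tt N88959 D191859) (tt N88960 D191860) (tt N88951 (iv2 F384589)) (tt N28188 F152551) (tt N88958 (iv4 F384599)) (tt N54687 (iv5 F157420)) (tt N28186 (iv6 D99015)) (tt N88961 D191861))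
theorem Q53155 : ∀ i, i < 53155 → P i := stepQ 53154 Q53154 (allL N53154 (tt N84382 (iv1 F369089)) (tt N28187 (iv0 D99016)) (tt N84381 (iv2 F369095)) (tt N88962 D191862) (tt N88963 D191863) (tt N84989 (iv5 F371298)) (tt N85325 (iv6 F372239)) (tt N83899 F369096))
theorem Q53156 : ∀ i, i < 53156 → P i := stepQ 53155 Q53155 (allL N53155 (tt N28187 (iv1 D99017)) (tt N84382 F369097) (tt N83899 (iv2 F367442)) (tt N81481 (iv3 F365761)) (tt N86477 (iv4 F376339)) (tt N81480 F365762) (tt N83894 (iv6 F367424)) (tt N84381 (iv7 F369092)))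
theorem Q53157 : ∀ i, i < 53157 → P i := stepQ 53156 Q53156 (allL N53156 (tt N83934 (iv1 F367531)) (tt N83933 F367537) (tt N83935 (iv2 F367534)) (tt N88961 (iv3 F384602)) (tt N83768 F366995) (tt N54692 (iv5 F157424)) (tt N83768 (iv6 F367183)) (tt N28188 (iv7 D99023)))
theorem Q53158 : ∀ i, i < 53158 → P i := stepQ 53157 Q53157 (allL N53157 (tt N83929 F367523) (tt N48552 F152555) (tt N28189 (iv2 D99025)) (tt N83936 (iv3 F367543)) (tt N88964 D191864) (tt N49183 (iv5 F152561)) (tt N62739 (iv6 F346314)) (tt N83940 (iv7 F367560)))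
theorem Q53159 : ∀ i, i < 53159 → P i := stepQ 53158 Q53158 (allL N53158 (tt N88965 D191865) (tt N88966 D191866) (tt N88964 (iv2 F384612)) (tt N83941 (iv3 F367563)) (tt N28189 (iv4 D99026)) (tt N88967 D191867) (tt N75023 (iv6 F346315)) (tt N83941 (iv7 F367564)))
theorem Q53160 : ∀ i, i < 53160 → P i := stepQ 53159 Q53159 (allL N53159 (tt N83939 (iv1 F367557)) (tt N28190 (iv0 D99032)) (tt N50602 F373121) (tt N88968 D191868) (tt N50166 F373122) (tt N75120 F366644) (tt N88930 (iv6 F384554)) (tt N50606 F373123))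
theorem Q53161 : ∀ i, i < 53161 → P i := stepQ 53160 Q53160 (allL N53160 (tt N28190 (iv1 D99033)) (tt N83939 F367556) (tt N50606 F373124) (tt N88888 F384433) (tt N50167 F373125) (tt N75121 F373126) (tt N88969 D191869) (tt N50602 F373127))
theorem Q53162 : ∀ i, i < 53162 → P i := stepQ 53161 Q53161 (allL N53161 (tt N50606 (iv1 F372989)) (tt N50602 (iv0 F372993)) (tt N83939 (iv2 F367552)) (tt N62743 F346316) (tt N83945 (iv4 F367569)) (tt N62742 (iv5 F346317)) (tt N83945 (iv6 F367571)) (tt N28190 (iv7 D99034)))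
theorem Q53163 : ∀ i, i < 53163 → P i := stepQ 53162 Q53162 (allL N53162 (tt N83761 (iv1 F367086)) (tt N83760 F367085) (tt N28191 (iv2 D99037)) (tt N83940 (iv3 F367558)) (tt N88970 D191870) (tt N50793 (iv5 F367087)) (tt N88971 D191871) (tt N83936 (iv7 F367545)))
theorem Q53164 : ∀ i, i < 53164 → P i := stepQ 53163 Q53163 (allL N53163 (tt N88972 D191872) (tt N86305 (iv0 F375770)) (tt N88970 (iv2 F384624)) (tt N83937 (iv3 F367548)) (tt N28191 (iv4 D99038)) (tt N88973 D191873) (tt N88974 D191874) (tt N83937 (iv7 F367549)))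
theorem Q53165 : ∀ i, i < 53165 → P i := stepQ 53164 Q53164 (allL N53164 (tt N88975 D191875) (tt N88976 D191876) (tt N88971 (iv2 F384626)) (tt N28192 F152569) (tt N88974 (iv4 F384629)) (tt N76660 (iv5 F363655)) (tt N28191 (iv6 D99040)) (tt N88977 D191877))
theorem Q53166 : ∀ i, i < 53166 → P i := stepQ 53165 Q53165 (allL N53165 (tt N83945 (iv1 F367574)) (tt N28192 (iv0 D99044)) (tt N83943 (iv2 F378686)) (tt N72579 (iv3 F372987)) (tt N50610 F367575) (tt N88978 D191878) (tt N88979 D191879) (tt N83944 (iv7 F378688)))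
theorem Q53167 : ∀ i, i < 53167 → P i := stepQ 53166 Q53166 (allL N53166 (tt N28192 (iv1 D99045)) (tt N83945 F367573) (tt N83944 F378687) (tt N58707 F373190) (tt N50611 (iv4 F373102)) (tt N88980 D191880) (tt N88924 (iv6 F387568)) (tt N83943 F378685))
theorem Q53168 : ∀ i, i < 53168 → P i := stepQ 53167 Q53167 (allL N53167 (tt N88981 D191882) (tt N88982 D191883) (tt N28526 F152572) (tt N76660 (iv3 F363654)) (tt N88983 D191884) (tt N28192 (iv5 D99046)) (tt N28225 F152573) (tt N88984 D191885))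
theorem Q53169 : ∀ i, i < 53169 → P i := stepQ 53168 Q53168 (allL N53168 (tt N83944 (iv1 F367567)) (tt N83943 F367572) (tt N83945 (iv2 F367568)) (tt N88977 (iv3 F384632)) (tt N83939 (iv4 F367553)) (tt N88984 (iv5 F384659)) (tt N83939 (iv6 F367554)) (tt N28192 (iv7 D99047)))
theorem Q53170 : ∀ i, i < 53170 → P i := stepQ 53169 Q53169 (allL N53169 (tt N84106 F368131) (tt N51154 (iv0 F293984)) (tt N51323 (iv2 F152589)) (tt N28193 (iv3 D99066)) (tt N51258 F152588) (tt N84894 (iv5 F371021)) (tt N82794 (iv6 F294971)) (tt N50857 (iv7 F294816)))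
theorem Q53171 : ∀ i, i < 53171 → P i := stepQ 53170 Q53170 (allL N53170 (tt N49450 F152591) (tt N82846 (iv0 F284598)) (tt N50856 (iv2 F294802)) (tt N49341 F294784) (tt N28193 (iv4 D99067)) (tt N88985 D191886) (tt N52916 (iv6 F157638)) (tt N50858 (iv7 F294601)))
theorem Q53172 : ∀ i, i < 53172 → P i := stepQ 53171 Q53171 (allL N53171 (tt N52449 F342533) (tt N28194 (iv0 D99074)) (tt N84380 F369085) (tt N88986 D191887) (tt N88987 D191888) (tt N28303 F157305) (tt N55147 F364433) (tt N83686 F288492))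
theorem Q53173 : ∀ i, i < 53173 → P i := stepQ 53172 Q53172 (allL N53172 (tt N28194 (iv1 D99075)) (tt N52449 F342534) (tt N83686 F289319) (tt N88988 D191889) (tt N88989 D191890) (tt N28304 F289320) (tt N48533 F289321) (tt N84380 (iv7 F369083)))
theorem Q53174 : ∀ i, i < 53174 → P i := stepQ 53173 Q53173 (allL N53173 (tt N39682 F329008) (tt N39685 F329009) (tt N39277 F329010) (tt N28195 (iv3 D99081)) (tt N48609 F152604) (tt N28330 F152605) (tt N52164 F152606) (tt N28912 F152607))
theorem Q53175 : ∀ i, i < 53175 → P i := stepQ 53174 Q53174 (allL N53174 (tt N87057 F378223) (tt N88720 (iv0 F383969)) (tt N48917 F152851) (tt N28197 F152852) (tt N88990 D191891) (tt N28196 (iv5 D99284)) (tt N83920 (iv6 F367500)) (tt N49176 F152853))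
theorem Q53176 : ∀ i, i < 53176 → P i := stepQ 53175 Q53175 (allL N53175 (tt N52735 F152855) (tt N49694 F152856) (tt N28386 F152854) (tt N64813 (iv3 F358616)) (tt N28197 (iv4 D99285)) (tt N50783 F358617) (tt N83921 (iv6 F367502)) (tt N54613 (iv7 F157151)))
theorem Q53177 : ∀ i, i < 53177 → P i := stepQ 53176 Q53176 (allL N53176 (tt N81886 (iv1 F367337)) (tt N83877 (iv0 F367333)) (tt N28485 F152857) (tt N87052 (iv3 F378190)) (tt N43855 F349322) (tt N28198 (iv5 D99286)) (tt N53686 (iv6 F349321)) (tt N88419 (iv7 F382964)))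
theorem Q53178 : ∀ i, i < 53178 → P i := stepQ 53177 Q53177 (allL N53177 (tt N88991 D191892) (tt N44579 F196516) (tt N34851 F152875) (tt N52867 (iv3 F303334)) (tt N28201 F152876) (tt N73905 (iv5 F349509)) (tt N28200 (iv6 D99290)) (tt N88992 D191893))
theorem Q53179 : ∀ i, i < 53179 → P i := stepQ 53178 Q53178 (allL N53178 (tt N46752 (iv1 F152884)) (tt N28201 (iv0 D99291)) (tt N46750 F365685) (tt N47051 F365684) (tt N88993 D191894) (tt N88994 D191895) (tt N88995 D191896) (tt N46751 F365686))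
theorem Q53180 : ∀ i, i < 53180 → P i := stepQ 53179 Q53179 (allL N53179 (tt N28201 (iv1 D99292)) (tt N46752 F152877) (tt N46751 F307385) (tt N29334 F281643) (tt N88996 D191897) (tt N73197 (iv5 F348381)) (tt N88997 D191898) (tt N46750 F307386))
theorem Q53181 : ∀ i, i < 53181 → P i := stepQ 53180 Q53180 (allL N53180 (tt N62286 F327591) (tt N62285 F327592) (tt N42923 F327593) (tt N28207 F152879) (tt N42921 F327594) (tt N28201 (iv5 D99293)) (tt N28204 F152880) (tt N62280 F327595))
theorem Q53182 : ∀ i, i < 53182 → P i := stepQ 53181 Q53181 (allL N53181 (tt N46751 (iv1 F152885)) (tt N46750 F152886) (tt N46752 F152881) (tt N28208 F152882) (tt N88992 (iv4 F384703)) (tt N62280 F334424) (tt N28502 F152883) (tt N28201 (iv7 D99294)))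
theorem Q53183 : ∀ i, i < 53183 → P i := stepQ 53182 Q53182 (allL N53182 (tt N48934 (iv1 F152890)) (tt N48846 (iv0 F157773)) (tt N29337 F152887) (tt N28202 (iv3 D99295)) (tt N52257 F152888) (tt N76192 F354446) (tt N51687 (iv6 F367038)) (tt N48935 F152889))
theorem Q53184 : ∀ i, i < 53184 → P i := stepQ 53183 Q53183 (allL N53183 (tt N44540 F311803) (tt N42786 (iv0 F232767)) (tt N48921 F275008) (tt N28205 (iv3 D99304)) (tt N68560 F311804) (tt N88998 D191899) (tt N88999 D191900) (tt N28426 F275009))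
theorem Q53185 : ∀ i, i < 53185 → P i := stepQ 53184 Q53184 (allL N53184 (tt N79425 (iv1 F343495)) (tt N89000 D191901) (tt N28424 F275010) (tt N88998 (iv3 F384738)) (tt N89001 D191902) (tt N28205 (iv5 D99306)) (tt N89002 D191903) (tt N28428 F275011))
theorem Q53186 : ∀ i, i < 53186 → P i := stepQ 53185 Q53185 (allL N53185 (tt N34848 F301805) (tt N81200 F301806) (tt N28425 F275012) (tt N88999 (iv3 F384742)) (tt N47200 (iv4 F155516)) (tt N49469 F152910) (tt N28205 (iv6 D99307)) (tt N53133 F275013))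
theorem Q53187 : ∀ i, i < 53187 → P i := stepQ 53186 Q53186 (allL N53186 (tt N52854 (iv1 F351947)) (tt N89003 D191904) (tt N89004 D191905) (tt N28206 (iv3 D99309)) (tt N89005 D191906) (tt N89006 D191907) (tt N89007 D191908) (tt N28422 F275002))
theorem Q53188 : ∀ i, i < 53188 → P i := stepQ 53187 Q53187 (allL N53187 (tt N89000 (iv1 F384747)) (tt N79425 (iv0 F343485)) (tt N28428 F275003) (tt N89006 (iv3 F384788)) (tt N89008 D191909) (tt N28206 (iv5 D99311)) (tt N89009 D191910) (tt N28424 F275004))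
theorem Q53189 : ∀ i, i < 53189 → P i := stepQ 53188 Q53188 (allL N53188 (tt N81406 F275005) (tt N52889 F275006) (tt N28429 F275007) (tt N89007 (iv3 F384790)) (tt N47203 (iv4 F155513)) (tt N89010 D191911) (tt N28206 (iv6 D99312)) (tt N89011 D191912))
theorem Q53190 : ∀ i, i < 53190 → P i := stepQ 53189 Q53189 (allL N53189 (tt N28433 (iv1 F152916)) (tt N28207 (iv0 D99313)) (tt N28430 F268283) (tt N89012 D191913) (tt N53955 (iv4 F268287)) (tt N64524 (iv5 F343489)) (tt N59213 F380323) (tt N28431 F268284))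
theorem Q53191 : ∀ i, i < 53191 → P i := stepQ 53190 Q53190 (allL N53190 (tt N72874 (iv1 F331770)) (tt N72873 F343493) (tt N28432 F152912) (tt N72998 (iv3 F331772)) (tt N28207 (iv4 D99314)) (tt N89013 D191914) (tt N28213 F152913) (tt N72869 F331771))
theorem Q53192 : ∀ i, i < 53192 → P i := stepQ 53191 Q53191 (allL N53191 (tt N28431 (iv1 F152917)) (tt N28430 F152918) (tt N28433 F152914) (tt N62280 (iv3 F331776)) (tt N72869 (iv4 F331773)) (tt N28208 F152915) (tt N59467 F350401) (tt N28207 (iv7 D99315)))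
theorem Q53193 : ∀ i, i < 53193 → P i := stepQ 53192 Q53192 (allL N53192 (tt N84482 (iv1 F369475)) (tt N88945 (iv0 F384578)) (tt N48923 F152919) (tt N28210 F152920) (tt N89014 D191915) (tt N28209 (iv5 D99316)) (tt N88764 (iv6 F384079)) (tt N28444 F152921))
theorem Q53194 : ∀ i, i < 53194 → P i := stepQ 53193 Q53193 (allL N53193 (tt N49714 F152924) (tt N53645 (iv0 F154227)) (tt N28439 F152922) (tt N89015 D191916) (tt N28210 (iv4 D99317)) (tt N50993 (iv5 F291274)) (tt N88774 (iv6 F384102)) (tt N28446 F152923))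
theorem Q53195 : ∀ i, i < 53195 → P i := stepQ 53194 Q53194 (allL N53194 (tt N48926 F152927) (tt N48918 F154101) (tt N48924 F152928) (tt N28211 (iv3 D99318)) (tt N89016 D191917) (tt N49821 F152925) (tt N89017 D191918) (tt N28452 F152926))
theorem Q53196 : ∀ i, i < 53196 → P i := stepQ 53195 Q53195 (allL N53195 (tt N89018 D191919) (tt N89019 D191920) (tt N28451 F152929) (tt N89017 (iv3 F384830)) (tt N53966 (iv4 F155592)) (tt N28987 F152930) (tt N28211 (iv6 D99319)) (tt N89020 D191921))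
theorem Q53197 : ∀ i, i < 53197 → P i := stepQ 53196 Q53196 (allL N53196 (tt N84983 F371256) (tt N85333 (iv0 F372268)) (tt N89021 D191922) (tt N28212 (iv3 D99320)) (tt N89022 D191923) (tt N28481 F292909) (tt N89023 D191924) (tt N28449 F152932))
theorem Q53198 : ∀ i, i < 53198 → P i := stepQ 53197 Q53197 (allL N53197 (tt N89024 D191925) (tt N59216 (iv0 F374452)) (tt N28454 F152933) (tt N89023 (iv3 F384847)) (tt N53968 (iv4 F155598)) (tt N49345 (iv5 F293939)) (tt N28212 (iv6 D99321)) (tt N89025 D191926))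
theorem Q53199 : ∀ i, i < 53199 → P i := stepQ 53198 Q53198 (allL N53198 (tt N86355 (iv1 F375916)) (tt N63274 (iv0 F352990)) (tt N48949 F152953) (tt N28215 F152954) (tt N89026 D191927) (tt N28214 (iv5 D99328)) (tt N89027 D191928) (tt N28457 F152955))
theorem Q53200 : ∀ i, i < 53200 → P i := stepQ 53199 Q53199 (allL N53199 (tt N51036 (iv1 F292695)) (tt N51039 (iv0 F292914)) (tt N28464 F152960) (tt N89028 D191929) (tt N28215 (iv4 D99330)) (tt N55105 (iv5 F158788)) (tt N89029 D191930) (tt N28460 F152961))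
theorem Q53201 : ∀ i, i < 53201 → P i := stepQ 53200 Q53200 (allL N53200 (tt N89030 D191931) (tt N89031 D191932) (tt N28465 F152962) (tt N89027 (iv3 F384871)) (tt N89029 (iv4 F384875)) (tt N84288 (iv5 F368812)) (tt N28215 (iv6 D99331)) (tt N89032 D191933))
theorem Q53202 : ∀ i, i < 53202 → P i := stepQ 53201 Q53201 (allL N53201 (tt N51245 F364369) (tt N84770 F370558) (tt N28549 F295272) (tt N28216 (iv3 D99332)) (tt N53201 F152963) (tt N85851 F374213) (tt N50765 (iv6 F364368)) (tt N28463 F152964))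
theorem Q53203 : ∀ i, i < 53203 → P i := stepQ 53202 Q53202 (allL N53202 (tt N85328 (iv1 F372256)) (tt N84385 (iv0 F369109)) (tt N53522 (iv2 F154197)) (tt N48862 F153003) (tt N89033 D191934) (tt N28217 (iv5 D99350)) (tt N89034 D191935) (tt N53529 F154196))
theorem Q53204 : ∀ i, i < 53204 → P i := stepQ 53203 Q53203 (allL N53203 (tt N52714 (iv1 F177396)) (tt N53301 (iv0 F177414)) (tt N48864 F153008) (tt N28218 (iv3 D99353)) (tt N48864 F153009) (tt N89035 D191936) (tt N54734 F289917) (tt N53299 (iv7 F177412)))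
theorem Q53205 : ∀ i, i < 53205 → P i := stepQ 53204 Q53204 (allL N53204 (tt N84385 (iv1 F369110)) (tt N85328 (iv0 F372255)) (tt N53529 (iv2 F154195)) (tt N89035 (iv3 F384903)) (tt N89036 D191937) (tt N28218 (iv5 D99354)) (tt N89037 D191938) (tt N53522 (iv7 F154194)))
theorem Q53206 : ∀ i, i < 53206 → P i := stepQ 53205 Q53205 (allL N53205 (tt N59485 (iv1 F345070)) (tt N59484 F345061) (tt N57835 (iv2 F345063)) (tt N89038 D191939) (tt N28219 (iv4 D99358)) (tt N30717 F345062) (tt N46753 F153012) (tt N59335 (iv7 F345067)))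
theorem Q53207 : ∀ i, i < 53207 → P i := stepQ 53206 Q53206 (allL N53206 (tt N89039 D191940) (tt N52856 (iv0 F366447)) (tt N89040 D191941) (tt N28220 (iv3 D99361)) (tt N83231 (iv4 F286403)) (tt N89041 D191942) (tt N89042 D191943) (tt N28515 F272813))
theorem Q53208 : ∀ i, i < 53208 → P i := stepQ 53207 Q53207 (allL N53207 (tt N89043 D191944) (tt N79391 F342028) (tt N28513 F272816) (tt N89041 (iv3 F384930)) (tt N89044 D191945) (tt N28220 (iv5 D99363)) (tt N89045 D191946) (tt N28517 F272817))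
theorem Q53209 : ∀ i, i < 53209 → P i := stepQ 53208 Q53208 (allL N53208 (tt N52891 (iv1 F274647)) (tt N88649 (iv0 F383709)) (tt N28514 F272818) (tt N89042 (iv3 F384932)) (tt N47099 (iv4 F195694)) (tt N49511 F153017) (tt N28220 (iv6 D99364)) (tt N52973 F272819))
theorem Q53210 : ∀ i, i < 53210 → P i := stepQ 53209 Q53209 (allL N53209 (tt N79391 (iv1 F363206)) (tt N89043 F384938) (tt N28517 F272806) (tt N68522 (iv3 F366759)) (tt N89046 D191947) (tt N28221 (iv5 D99368)) (tt N85374 (iv6 F372392)) (tt N28513 F272807))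
theorem Q53211 : ∀ i, i < 53211 → P i := stepQ 53210 Q53210 (allL N53210 (tt N79166 F338814) (tt N52867 F272802) (tt N28518 F272803) (tt N68523 (iv3 F338813)) (tt N47101 (iv4 F195697)) (tt N89047 D191948) (tt N28221 (iv6 D99369)) (tt N80296 (iv7 F333413)))
theorem Q53212 : ∀ i, i < 53212 → P i := stepQ 53211 Q53211 (allL N53211 (tt N28522 (iv1 F153024)) (tt N28222 (iv0 D99370)) (tt N28519 F272729) (tt N80872 (iv3 F366730)) (tt N54049 (iv4 F272733)) (tt N64893 (iv5 F310427)) (tt N89048 D191949) (tt N28520 F272730))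
theorem Q53213 : ∀ i, i < 53213 → P i := stepQ 53212 Q53212 (allL N53212 (tt N89049 D191950) (tt N89050 D191951) (tt N28521 F153019) (tt N65263 F333013) (tt N28222 (iv4 D99371)) (tt N65262 (iv5 F333015)) (tt N28230 F153020) (tt N89051 D191952))
theorem Q53214 : ∀ i, i < 53214 → P i := stepQ 53213 Q53213 (allL N53213 (tt N28520 (iv1 F153025)) (tt N28519 F153026) (tt N28522 F153021) (tt N44919 F153022) (tt N89051 (iv4 F384971)) (tt N28223 F153023) (tt N59044 F350409) (tt N28222 (iv7 D99372)))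
theorem Q53215 : ∀ i, i < 53215 → P i := stepQ 53214 Q53214 (allL N53214 (tt N28528 (iv1 F153027)) (tt N28224 (iv0 D99373)) (tt N28527 (iv2 F153033)) (tt N53301 (iv3 F177415)) (tt N84779 (iv4 F370599)) (tt N89052 D191953) (tt N28434 F177389) (tt N28377 F177390))
theorem Q53216 : ∀ i, i < 53216 → P i := stepQ 53215 Q53215 (allL N53215 (tt N28527 (iv1 F153038)) (tt N28377 F177387) (tt N28224 (iv2 D99375)) (tt N28523 F153034) (tt N50838 F153035) (tt N89053 D191954) (tt N50793 (iv6 F367088)) (tt N28528 F153036))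
theorem Q53217 : ∀ i, i < 53217 → P i := stepQ 53216 Q53216 (allL N53216 (tt N88699 (iv1 F383907)) (tt N88701 (iv0 F383916)) (tt N89053 (iv2 F384979)) (tt N28225 F153039) (tt N51080 (iv4 F340054)) (tt N28224 (iv5 D99376)) (tt N76660 F363653) (tt N28529 F153040))
theorem Q53218 : ∀ i, i < 53218 → P i := stepQ 53217 Q53217 (allL N53217 (tt N50356 (iv1 F293920)) (tt N50335 (iv0 F293911)) (tt N28525 F153041) (tt N50332 (iv3 F345135)) (tt N28225 (iv4 D99377)) (tt N50365 (iv5 F291187)) (tt N88983 (iv6 F384654)) (tt N28531 F153042))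
theorem Q53219 : ∀ i, i < 53219 → P i := stepQ 53218 Q53218 (allL N53218 (tt N55307 F352764) (tt N88547 (iv0 F383480)) (tt N43188 F325486) (tt N28227 F153043) (tt N32718 F325487) (tt N28226 (iv5 D99378)) (tt N75639 (iv6 F355597)) (tt N28524 F153044))
theorem Q53220 : ∀ i, i < 53220 → P i := stepQ 53219 Q53219 (allL N53219 (tt N50335 (iv1 F293912)) (tt N50356 (iv0 F293919)) (tt N28531 F153045) (tt N32719 F327163) (tt N28227 (iv4 D99379)) (tt N50366 (iv5 F291185)) (tt N89054 D191955) (tt N28525 F153046))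
theorem Q53221 : ∀ i, i < 53221 → P i := stepQ 53220 Q53220 (allL N53220 (tt N89055 D191956) (tt N89056 D191957) (tt N28532 F153047) (tt N75639 F355598) (tt N89054 (iv4 F384987)) (tt N54732 (iv5 F157501)) (tt N28227 (iv6 D99380)) (tt N89057 D191958))
theorem Q53222 : ∀ i, i < 53222 → P i := stepQ 53221 Q53221 (allL N53221 (tt N89052 (iv1 F384978)) (tt N84984 (iv0 F371261)) (tt N76705 F345129) (tt N28228 (iv3 D99381)) (tt N48973 F345130) (tt N50432 (iv5 F291847)) (tt N76580 F345131) (tt N28537 F153049))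
theorem Q53223 : ∀ i, i < 53223 → P i := stepQ 53222 Q53222 (allL N53222 (tt N89058 D191959) (tt N89059 D191960) (tt N28536 F153050) (tt N76580 F361015) (tt N54063 (iv4 F155864)) (tt N84741 (iv5 F370440)) (tt N28228 (iv6 D99382)) (tt N76696 (iv7 F361017)))
theorem Q53224 : ∀ i, i < 53224 → P i := stepQ 53223 Q53223 (allL N53223 (tt N29344 F153053) (tt N34136 F330002) (tt N82964 (iv2 F285125)) (tt N28229 (iv3 D99383)) (tt N32776 F330003) (tt N49515 F153051) (tt N89060 D191961) (tt N28533 F153052))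
theorem Q53225 : ∀ i, i < 53225 → P i := stepQ 53224 Q53224 (allL N53224 (tt N69946 (iv1 F354720)) (tt N89061 D191962) (tt N28539 F153054) (tt N89060 (iv3 F385009)) (tt N54064 (iv4 F155870)) (tt N49517 F153055) (tt N28229 (iv6 D99384)) (tt N89062 D191963))
theorem Q53226 : ∀ i, i < 53226 → P i := stepQ 53225 Q53225 (allL N53225 (tt N28543 (iv1 F153059)) (tt N28230 (iv0 D99385)) (tt N28540 (iv2 F153057)) (tt N55264 F351159) (tt N28259 F153056) (tt N50330 (iv5 F293726)) (tt N55262 (iv6 F351158)) (tt N28541 F153058))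
theorem Q53227 : ∀ i, i < 53227 → P i := stepQ 53226 Q53226 (allL N53226 (tt N43597 F345115) (tt N50390 F345116) (tt N50388 (iv2 F345111)) (tt N28230 (iv3 D99386)) (tt N89038 (iv4 F384914)) (tt N84831 (iv5 F370780)) (tt N65263 (iv6 F333016)) (tt N50387 F345138))
theorem Q53228 : ∀ i, i < 53228 → P i := stepQ 53227 Q53227 (allL N53227 (tt N48808 F290158) (tt N83619 F290159) (tt N48967 F153120) (tt N28232 F153121) (tt N28470 F153122) (tt N89063 D191964) (tt N28231 (iv6 D99413)) (tt N85969 (iv7 F374663)))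
theorem Q53229 : ∀ i, i < 53229 → P i := stepQ 53228 Q53228 (allL N53228 (tt N88410 (iv1 F382927)) (tt N28948 F346030) (tt N28640 F153124) (tt N89063 (iv3 F385024)) (tt N71878 F346031) (tt N28232 (iv5 D99416)) (tt N65192 (iv6 F199507)) (tt N88402 (iv7 F382886)))
theorem Q53230 : ∀ i, i < 53230 → P i := stepQ 53229 Q53229 (allL N53229 (tt N28330 F328958) (tt N28910 F328959) (tt N28634 F153132) (tt N48966 F153133) (tt N44455 F327143) (tt N28233 (iv5 D99420)) (tt N72136 F327144) (tt N28890 F290135))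
theorem Q53231 : ∀ i, i < 53231 → P i := stepQ 53230 Q53230 (allL N53230 (tt N28238 F153144) (tt N28234 (iv0 D99422)) (tt N28235 F155655) (tt N28689 F153145) (tt N28643 (iv4 F153143)) (tt N84235 (iv5 F368631)) (tt N28896 F289985) (tt N28236 F155656))
theorem Q53232 : ∀ i, i < 53232 → P i := stepQ 53231 Q53231 (allL N53231 (tt N28234 (iv1 D99423)) (tt N28238 F153147) (tt N28236 F155659) (tt N76188 F335922) (tt N28644 (iv4 F153148)) (tt N76187 (iv5 F364320)) (tt N85502 F372866) (tt N28235 F155660))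
theorem Q53233 : ∀ i, i < 53233 → P i := stepQ 53232 Q53232 (allL N53232 (tt N71685 (iv1 F357578)) (tt N72821 F357577) (tt N28237 F153149) (tt N28582 F153150) (tt N89064 D191965) (tt N28234 (iv5 D99424)) (tt N42509 F153151) (tt N86255 (iv7 F375604)))
theorem Q53234 : ∀ i, i < 53234 → P i := stepQ 53233 Q53233 (allL N53233 (tt N28236 (iv1 F153156)) (tt N28235 (iv0 F153161)) (tt N28238 F153152) (tt N28583 F153153) (tt N48860 F153154) (tt N86255 (iv5 F375603)) (tt N28646 F153155) (tt N28234 (iv7 D99425)))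
theorem Q53235 : ∀ i, i < 53235 → P i := stepQ 53234 Q53234 (allL N53234 (tt N79105 (iv1 F335918)) (tt N50239 (iv0 F157799)) (tt N76191 (iv2 F335912)) (tt N28235 (iv3 D99427)) (tt N50403 F153164) (tt N63186 F335911) (tt N85491 (iv6 F372812)) (tt N76188 (iv7 F335914)))
theorem Q53236 : ∀ i, i < 53236 → P i := stepQ 53235 Q53235 (allL N53235 (tt N84225 (iv1 F368591)) (tt N51110 (iv0 F357589)) (tt N84235 F368632) (tt N63186 (iv3 F335913)) (tt N67075 F363682) (tt N28235 (iv5 D99428)) (tt N71656 F350288) (tt N76187 F364322))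
theorem Q53237 : ∀ i, i < 53237 → P i := stepQ 53236 Q53236 (allL N53236 (tt N51110 F343914) (tt N84225 (iv0 F368590)) (tt N76187 F364321) (tt N86362 (iv3 F375947)) (tt N89065 D191966) (tt N28236 (iv5 D99431)) (tt N89066 D191967) (tt N84235 (iv7 F368630)))
theorem Q53238 : ∀ i, i < 53238 → P i := stepQ 53237 Q53237 (allL N53237 (tt N86255 (iv1 F375605)) (tt N28237 (iv0 D99433)) (tt N71685 (iv2 F344243)) (tt N42906 F349209) (tt N89067 D191968) (tt N49705 F344241) (tt N70946 F344242) (tt N72821 F349210))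
theorem Q53239 : ∀ i, i < 53239 → P i := stepQ 53238 Q53238 (allL N53238 (tt N28237 (iv1 D99434)) (tt N86255 F375607) (tt N72821 F349311) (tt N86363 F375954) (tt N89068 D191969) (tt N49706 (iv5 F349310)) (tt N89069 D191970) (tt N71685 F344244))
theorem Q53240 : ∀ i, i < 53240 → P i := stepQ 53239 Q53239 (allL N53239 (tt N89070 D191971) (tt N57201 (iv0 F359363)) (tt N89064 (iv2 F385025)) (tt N76977 F359362) (tt N28237 (iv4 D99435)) (tt N89071 D191972) (tt N74631 (iv6 F331765)) (tt N74535 F357573))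
theorem Q53241 : ∀ i, i < 53241 → P i := stepQ 53240 Q53240 (allL N53240 (tt N53382 F153517) (tt N54386 F156796) (tt N28617 F156869) (tt N49016 F155503) (tt N89072 D191973) (tt N28239 (iv5 D99440)) (tt N89073 D191974) (tt N28620 F156870))
theorem Q53242 : ∀ i, i < 53242 → P i := stepQ 53241 Q53241 (allL N53241 (tt N49402 (iv1 F156369)) (tt N49651 (iv0 F153525)) (tt N28618 F156871) (tt N49017 F155504) (tt N45518 F303269) (tt N49569 F153173) (tt N28239 (iv6 D99441)) (tt N49649 F156872))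
theorem Q53243 : ∀ i, i < 53243 → P i := stepQ 53242 Q53242 (allL N53242 (tt N28266 F335221) (tt N76494 (iv0 F335222)) (tt N49018 (iv2 F155506)) (tt N28240 (iv3 D99443)) (tt N68355 (iv4 F335219)) (tt N89074 D191975) (tt N76490 F338061) (tt N28616 F156858))
theorem Q53244 : ∀ i, i < 53244 → P i := stepQ 53243 Q53243 (allL N53243 (tt N54386 F156797) (tt N53382 F156799) (tt N28620 F156861) (tt N89074 (iv3 F385051)) (tt N89075 D191976) (tt N28240 (iv5 D99445)) (tt N89076 D191977) (tt N28617 F156862))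
theorem Q53245 : ∀ i, i < 53245 → P i := stepQ 53244 Q53244 (allL N53244 (tt N81384 (iv1 F274866)) (tt N49661 F156855) (tt N28621 F156856) (tt N76490 (iv3 F338059)) (tt N80320 (iv4 F308601)) (tt N54427 (iv5 F156850)) (tt N28240 (iv6 D99446)) (tt N76484 F338062))
theorem Q53246 : ∀ i, i < 53246 → P i := stepQ 53245 Q53245 (allL N53245 (tt N28625 (iv1 F153181)) (tt N28241 (iv0 D99447)) (tt N28622 F156760) (tt N35082 F306450) (tt N72874 F331767) (tt N28831 (iv5 F153183)) (tt N89077 D191978) (tt N28623 F156761))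
theorem Q53247 : ∀ i, i < 53247 → P i := stepQ 53246 Q53246 (allL N53246 (tt N28241 (iv1 D99448)) (tt N28625 F153175) (tt N28623 F156764) (tt N89078 D191979) (tt N72873 (iv4 F343490)) (tt N28771 (iv5 F153176)) (tt N89079 D191980) (tt N28622 F156765))
theorem Q53248 : ∀ i, i < 53248 → P i := stepQ 53247 Q53247 (allL N53247 (tt N53582 (iv1 F268289)) (tt N53585 (iv0 F155453)) (tt N28624 F153177) (tt N89080 D191981) (tt N28241 (iv4 D99449)) (tt N89081 D191982) (tt N28243 F153178) (tt N89082 D191983))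
theorem Q53249 : ∀ i, i < 53249 → P i := stepQ 53248 Q53248 (allL N53248 (tt N28623 (iv1 F153182)) (tt N28622 F153184) (tt N28625 F153179) (tt N76071 (iv3 F236191)) (tt N89082 (iv4 F385089)) (tt N28242 F153180) (tt N86256 (iv6 F375611)) (tt N28241 (iv7 D99450)))
theorem Q53250 : ∀ i, i < 53250 → P i := stepQ 53249 Q53249 (allL N53249 (tt N72608 F359360) (tt N89083 D191984) (tt N86045 (iv2 F374993)) (tt N28243 (iv3 D99454)) (tt N76977 (iv4 F359361)) (tt N85077 F371556) (tt N89080 (iv6 F385082)) (tt N86037 (iv7 F374977)))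
theorem Q53251 : ∀ i, i < 53251 → P i := stepQ 53250 Q53250 (allL N53250 (tt N46070 F153204) (tt N52488 F153205) (tt N28574 F153200) (tt N28566 F153201) (tt N34972 F153202) (tt N28244 (iv5 D99458)) (tt N59761 F353325) (tt N28566 F153203))
theorem Q53252 : ∀ i, i < 53252 → P i := stepQ 53251 Q53251 (allL N53251 (tt N47616 F331177) (tt N47613 F331178) (tt N28575 F153206) (tt N28567 F153207) (tt N28245 F153208) (tt N59762 F331179) (tt N28244 (iv6 D99459)) (tt N28860 F289574))
theorem Q53253 : ∀ i, i < 53253 → P i := stepQ 53252 Q53252 (allL N53252 (tt N28899 F289575) (tt N28333 F289576) (tt N28577 F153210) (tt N49010 F153211) (tt N46674 F327675) (tt N28245 (iv5 D99462)) (tt N47268 F153212) (tt N28861 F289577))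
theorem Q53254 : ∀ i, i < 53254 → P i := stepQ 53253 Q53253 (allL N53253 (tt N54943 F289657) (tt N48812 F289658) (tt N49008 F153219) (tt N28248 F153220) (tt N48903 F153221) (tt N89084 D191985) (tt N28246 (iv6 D99464)) (tt N85477 (iv7 F372759)))
theorem Q53255 : ∀ i, i < 53255 → P i := stepQ 53254 Q53254 (allL N53254 (tt N87053 F378200) (tt N55528 F289648) (tt N28567 F153222) (tt N29100 F153223) (tt N28248 F153224) (tt N89085 D191986) (tt N28247 (iv6 D99465)) (tt N55521 F289649))
theorem Q53256 : ∀ i, i < 53256 → P i := stepQ 53255 Q53255 (allL N53255 (tt N28945 F289676) (tt N84180 (iv0 F368441)) (tt N28570 F153226) (tt N89084 (iv3 F385097)) (tt N89086 D191987) (tt N28248 (iv5 D99468)) (tt N84048 (iv6 F367918)) (tt N84195 (iv7 F368475)))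
theorem Q53257 : ∀ i, i < 53257 → P i := stepQ 53256 Q53256 (allL N53256 (tt N85385 (iv1 F372440)) (tt N85384 F372437) (tt N28254 F153234) (tt N28645 F153235) (tt N89087 D191988) (tt N28249 (iv5 D99472)) (tt N76081 (iv6 F236248)) (tt N85383 (iv7 F372432)))
theorem Q53258 : ∀ i, i < 53258 → P i := stepQ 53257 Q53257 (allL N53257 (tt N70529 F313636) (tt N43162 F313637) (tt N67635 (iv2 F314332)) (tt N44737 F153243) (tt N28251 F153244) (tt N67811 F313638) (tt N28250 (iv6 D99474)) (tt N70498 F313639))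
theorem Q53259 : ∀ i, i < 53259 → P i := stepQ 53258 Q53258 (allL N53258 (tt N35159 F306300) (tt N69198 F357926) (tt N76081 (iv2 F236246)) (tt N28257 F153245) (tt N57777 (iv4 F333442)) (tt N28251 (iv5 D99477)) (tt N28254 F153246) (tt N89088 D191989))
theorem Q53260 : ∀ i, i < 53260 → P i := stepQ 53259 Q53259 (allL N53259 (tt N64301 (iv1 F195691)) (tt N37226 F315093) (tt N69328 F315094) (tt N28258 F153247) (tt N70498 F315095) (tt N89088 (iv5 F385112)) (tt N28597 F153248) (tt N28251 (iv7 D99478)))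
theorem Q53261 : ∀ i, i < 53261 → P i := stepQ 53260 Q53260 (allL N53260 (tt N85264 F372063) (tt N55149 (iv0 F177359)) (tt N55113 (iv2 F158914)) (tt N28599 F153250) (tt N28252 (iv4 D99480)) (tt N89089 D191990) (tt N84870 (iv6 F370931)) (tt N85379 (iv7 F372409)))
theorem Q53262 : ∀ i, i < 53262 → P i := stepQ 53261 Q53261 (allL N53261 (tt N85389 (iv1 F372470)) (tt N55322 (iv0 F357540)) (tt N85382 (iv2 F372424)) (tt N80611 (iv3 F268821)) (tt N89090 D191991) (tt N28252 (iv5 D99481)) (tt N89091 D191992) (tt N85380 (iv7 F372414)))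
theorem Q53263 : ∀ i, i < 53263 → P i := stepQ 53262 Q53262 (allL N53262 (tt N54937 F177440) (tt N61393 F335343) (tt N80612 (iv2 F268827)) (tt N28253 (iv3 D99484)) (tt N55054 (iv4 F158518)) (tt N43242 F335344) (tt N89092 D191993) (tt N85381 (iv7 F372420)))
theorem Q53264 : ∀ i, i < 53264 → P i := stepQ 53263 Q53263 (allL N53263 (tt N55149 (iv1 F177360)) (tt N85264 (iv0 F372062)) (tt N85379 (iv2 F372406)) (tt N29102 F153252) (tt N28253 (iv4 D99485)) (tt N89093 D191994) (tt N89094 D191995) (tt N55113 (iv7 F158915)))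
theorem Q53265 : ∀ i, i < 53265 → P i := stepQ 53264 Q53264 (allL N53264 (tt N55322 F335338) (tt N85389 F372471) (tt N85380 (iv2 F372412)) (tt N43242 F335340) (tt N89095 D191996) (tt N28253 (iv5 D99486)) (tt N89096 D191997) (tt N85382 (iv7 F372426)))
theorem Q53266 : ∀ i, i < 53266 → P i := stepQ 53265 Q53265 (allL N53265 (tt N28873 F335341) (tt N28863 F335342) (tt N28870 F357144) (tt N89092 (iv3 F385134)) (tt N89094 (iv4 F385143)) (tt N83862 F362403) (tt N28253 (iv6 D99487)) (tt N28871 F357145))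
theorem Q53267 : ∀ i, i < 53267 → P i := stepQ 53266 Q53266 (allL N53266 (tt N85383 (iv1 F372434)) (tt N28254 (iv0 D99488)) (tt N85385 (iv2 F372443)) (tt N80614 F345054) (tt N89097 D191998) (tt N87673 (iv5 F380100)) (tt N89098 D191999) (tt N85384 F372439))
theorem Q53268 : ∀ i, i < 53268 → P i := stepQ 53267 Q53267 (allL N53267 (tt N28254 (iv1 D99489)) (tt N85383 F372433) (tt N85384 F372438) (tt N61390 (iv3 F365230)) (tt N89099 D192000) (tt N86293 (iv5 F375723)) (tt N89100 D192001) (tt N85385 (iv7 F372441)))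
theorem Q53269 : ∀ i, i < 53269 → P i := stepQ 53268 Q53268 (allL N53268 (tt N83128 F286042) (tt N50534 (iv0 F357562)) (tt N89087 (iv2 F385105)) (tt N57778 (iv3 F333444)) (tt N28254 (iv4 D99490)) (tt N89101 D192002) (tt N57777 F333443) (tt N85386 (iv7 F372447)))
theorem Q53270 : ∀ i, i < 53270 → P i := stepQ 53269 Q53269 (allL N53269 (tt N48467 F342627) (tt N28273 F342633) (tt N48995 (iv2 F155415)) (tt N28255 (iv3 D99493)) (tt N89102 D192003) (tt N89103 D192004) (tt N89104 D192005) (tt N28669 F155801))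
theorem Q53271 : ∀ i, i < 53271 → P i := stepQ 53270 Q53270 (allL N53270 (tt N54436 F156915) (tt N77285 F332206) (tt N28667 F155804) (tt N89103 (iv3 F385162)) (tt N89105 D192006) (tt N28255 (iv5 D99495)) (tt N89106 D192007) (tt N28670 F155805))
theorem Q53272 : ∀ i, i < 53272 → P i := stepQ 53271 Q53271 (allL N53271 (tt N49663 F274658) (tt N89107 D192008) (tt N28668 F155799) (tt N89104 (iv3 F385168)) (tt N80294 (iv4 F262963)) (tt N49594 F153256) (tt N28255 (iv6 D99496)) (tt N54264 (iv7 F156328)))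
theorem Q53273 : ∀ i, i < 53273 → P i := stepQ 53272 Q53272 (allL N53272 (tt N77285 (iv1 F357955)) (tt N54436 (iv0 F156914)) (tt N28670 F155812) (tt N48998 F155412) (tt N89108 D192009) (tt N28256 (iv5 D99500)) (tt N85395 (iv6 F372477)) (tt N28667 F155813))
theorem Q53274 : ∀ i, i < 53274 → P i := stepQ 53273 Q53273 (allL N53273 (tt N28675 (iv1 F153264)) (tt N28257 (iv0 D99502)) (tt N28672 F156424) (tt N89109 D192010) (tt N89049 (iv4 F384959)) (tt N81358 (iv5 F308582)) (tt N89110 D192011) (tt N28673 F156425))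
theorem Q53275 : ∀ i, i < 53275 → P i := stepQ 53274 Q53274 (allL N53274 (tt N28257 (iv1 D99503)) (tt N28675 F153258) (tt N28673 F156421) (tt N35106 F306667) (tt N89050 (iv4 F384965)) (tt N28783 (iv5 F153259)) (tt N85586 F373146) (tt N28672 F156422))
theorem Q53276 : ∀ i, i < 53276 → P i := stepQ 53275 Q53275 (allL N53275 (tt N28673 (iv1 F153265)) (tt N28672 F153266) (tt N28675 F153262) (tt N89088 (iv3 F385110)) (tt N57771 F332980) (tt N28258 F153263) (tt N85388 (iv6 F372463)) (tt N28257 (iv7 D99505)))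
theorem Q53277 : ∀ i, i < 53277 → P i := stepQ 53276 Q53276 (allL N53276 (tt N61392 F335409) (tt N28274 F157653) (tt N49001 F153267) (tt N28259 (iv3 D99506)) (tt N83265 (iv4 F351160)) (tt N50431 (iv5 F291834)) (tt N83264 F351178) (tt N28677 F153269))
theorem Q53278 : ∀ i, i < 53278 → P i := stepQ 53277 Q53277 (allL N53277 (tt N85597 F373178) (tt N89111 D192012) (tt N28676 F153270) (tt N83264 (iv3 F351179)) (tt N55262 (iv4 F351156)) (tt N84739 (iv5 F370433)) (tt N28259 (iv6 D99507)) (tt N89112 D192013))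
theorem Q53279 : ∀ i, i < 53279 → P i := stepQ 53278 Q53278 (allL N53278 (tt N28296 F289588) (tt N55438 F289589) (tt N28573 F153278) (tt N28358 F153279) (tt N48904 F153280) (tt N89113 D192014) (tt N28261 (iv6 D99512)) (tt N87803 (iv7 F380574)))
theorem Q53280 : ∀ i, i < 53280 → P i := stepQ 53279 Q53279 (allL N53279 (tt N49014 F157771) (tt N28602 F157772) (tt N28264 F153281) (tt N50239 F153282) (tt N29236 F153283) (tt N72615 F365340) (tt N28262 (iv6 D99513)) (tt N54994 (iv7 F158452)))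
theorem Q53281 : ∀ i, i < 53281 → P i := stepQ 53280 Q53280 (allL N53280 (tt N73984 F335229) (tt N64308 (iv0 F335228)) (tt N80595 (iv2 F268711)) (tt N28266 F153284) (tt N78318 F335225) (tt N89114 D192015) (tt N28263 (iv6 D99514)) (tt N69568 (iv7 F335227)))
theorem Q53282 : ∀ i, i < 53282 → P i := stepQ 53281 Q53281 (allL N53281 (tt N54994 F158453) (tt N28264 (iv0 D99515)) (tt N49014 F157791) (tt N28580 F157792) (tt N48909 F157793) (tt N76294 F349218) (tt N87764 (iv6 F380425)) (tt N28602 F157794))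
theorem Q53283 : ∀ i, i < 53283 → P i := stepQ 53282 Q53282 (allL N53282 (tt N28264 (iv1 D99516)) (tt N54994 F158454) (tt N28602 F157787) (tt N49011 F157788) (tt N48910 F157789) (tt N76293 (iv5 F349225)) (tt N89115 D192016) (tt N49014 F157790))
theorem Q53284 : ∀ i, i < 53284 → P i := stepQ 53283 Q53283 (allL N53283 (tt N72616 (iv1 F365067)) (tt N72457 F365068) (tt N72615 (iv2 F365342)) (tt N28267 F153285) (tt N89116 D192017) (tt N28264 (iv5 D99517)) (tt N89114 (iv6 F385211)) (tt N72500 F349989))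
theorem Q53285 : ∀ i, i < 53285 → P i := stepQ 53284 Q53284 (allL N53284 (tt N28602 F157779) (tt N49014 F157780) (tt N54994 (iv2 F158450)) (tt N28268 F153286) (tt N53609 F157781) (tt N72500 (iv5 F349987)) (tt N61393 F335404) (tt N28264 (iv7 D99518)))
theorem Q53286 : ∀ i, i < 53286 → P i := stepQ 53285 Q53285 (allL N53285 (tt N53525 (iv1 F157796)) (tt N28265 (iv0 D99519)) (tt N53515 F157795) (tt N48861 F157784) (tt N53515 F157785) (tt N72041 (iv5 F356323)) (tt N72045 F356322) (tt N53526 (iv7 F157786)))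
theorem Q53287 : ∀ i, i < 53287 → P i := stepQ 53286 Q53286 (allL N53286 (tt N89117 D192018) (tt N40133 F365275) (tt N88380 (iv2 F382818)) (tt N83070 (iv3 F285783)) (tt N89118 D192019) (tt N28265 (iv5 D99521)) (tt N80590 (iv6 F268486)) (tt N89119 D192020))
theorem Q53288 : ∀ i, i < 53288 → P i := stepQ 53287 Q53287 (allL N53287 (tt N53526 F157776) (tt N53515 F157777) (tt N53525 F157778) (tt N55341 (iv3 F159624)) (tt N28268 F153287) (tt N89119 (iv5 F385229)) (tt N83085 (iv6 F285863)) (tt N28265 (iv7 D99522)))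
theorem Q53289 : ∀ i, i < 53289 → P i := stepQ 53288 Q53288 (allL N53288 (tt N43753 F335223) (tt N89078 F385077) (tt N88381 (iv2 F382823)) (tt N89114 (iv3 F385210)) (tt N89120 D192021) (tt N28266 (iv5 D99525)) (tt N28267 F153288) (tt N89121 D192022))
theorem Q53290 : ∀ i, i < 53290 → P i := stepQ 53289 Q53289 (allL N53289 (tt N49018 F314254) (tt N28616 (iv0 F316399)) (tt N76494 F311964) (tt N69568 F311965) (tt N30551 F311966) (tt N89121 (iv5 F385241)) (tt N48467 F311967) (tt N28266 (iv7 D99526)))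
theorem Q53291 : ∀ i, i < 53291 → P i := stepQ 53290 Q53290 (allL N53290 (tt N79104 F349203) (tt N28267 (iv0 D99537)) (tt N28626 F157323) (tt N28695 F157324) (tt N89122 D192023) (tt N55070 (iv5 F293323)) (tt N89123 D192024) (tt N49023 F157325))
theorem Q53292 : ∀ i, i < 53292 → P i := stepQ 53291 Q53291 (allL N53291 (tt N39480 F365069) (tt N89124 D192025) (tt N88382 (iv2 F382831)) (tt N89125 D192026) (tt N28267 (iv4 D99539)) (tt N89126 D192027) (tt N89120 (iv6 F385234)) (tt N89127 D192028))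
theorem Q53293 : ∀ i, i < 53293 → P i := stepQ 53292 Q53292 (allL N53292 (tt N49023 F157306) (tt N28626 F157307) (tt N79104 (iv2 F349199)) (tt N72500 F349988) (tt N89127 (iv4 F385268)) (tt N28268 F153291) (tt N72498 (iv6 F349991)) (tt N28267 (iv7 D99540)))
theorem Q53294 : ∀ i, i < 53294 → P i := stepQ 53293 Q53293 (allL N53293 (tt N50247 F290148) (tt N28300 F290149) (tt N28633 F153292) (tt N28685 F153293) (tt N28469 F153294) (tt N89128 D192029) (tt N28269 (iv6 D99541)) (tt N85948 (iv7 F374564)))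
theorem Q53295 : ∀ i, i < 53295 → P i := stepQ 53294 Q53294 (allL N53294 (tt N80605 F338835) (tt N76084 F338836) (tt N69565 F342638) (tt N28273 F153295) (tt N79121 (iv4 F252709)) (tt N89129 D192030) (tt N28270 (iv6 D99542)) (tt N89130 D192031))
theorem Q53296 : ∀ i, i < 53296 → P i := stepQ 53295 Q53295 (allL N53295 (tt N50315 F177401) (tt N28271 (iv0 D99543)) (tt N28658 F177402) (tt N48970 F177403) (tt N28473 F177404) (tt N89131 D192032) (tt N84885 (iv6 F370999)) (tt N48986 F177405))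
theorem Q53297 : ∀ i, i < 53297 → P i := stepQ 53296 Q53296 (allL N53296 (tt N28271 (iv1 D99544)) (tt N50315 F177406) (tt N48986 F177407) (tt N28644 F177408) (tt N28474 F177409) (tt N89132 D192033) (tt N89133 D192034) (tt N28658 F177410))
theorem Q53298 : ∀ i, i < 53298 → P i := stepQ 53297 Q53297 (allL N53297 (tt N89134 D192035) (tt N89135 D192036) (tt N85994 (iv2 F374783)) (tt N28274 F153296) (tt N85438 (iv4 F372638)) (tt N28271 (iv5 D99545)) (tt N89129 (iv6 F385277)) (tt N89136 D192037))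
theorem Q53299 : ∀ i, i < 53299 → P i := stepQ 53298 Q53298 (allL N53298 (tt N48986 F177397) (tt N28658 F177398) (tt N50315 F177399) (tt N28275 F153297) (tt N50114 F177400) (tt N89136 (iv5 F385313)) (tt N79105 (iv6 F349197)) (tt N28271 (iv7 D99546)))
theorem Q53300 : ∀ i, i < 53300 → P i := stepQ 53299 Q53299 (allL N53299 (tt N83085 (iv1 F285859)) (tt N28272 (iv0 D99547)) (tt N83077 (iv2 F285824)) (tt N28404 F177411) (tt N83077 (iv4 F285825)) (tt N89137 D192038) (tt N50060 F367074) (tt N53203 F177412))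
theorem Q53301 : ∀ i, i < 53301 → P i := stepQ 53300 Q53300 (allL N53300 (tt N89138 D192039) (tt N83093 (iv0 F385321)) (tt N88377 (iv2 F382801)) (tt N53483 (iv3 F153843)) (tt N89139 D192041) (tt N28272 (iv5 D99549)) (tt N80593 (iv6 F268488)) (tt N89140 D192042))
theorem Q53302 : ∀ i, i < 53302 → P i := stepQ 53301 Q53301 (allL N53301 (tt N53203 F177414) (tt N83077 (iv0 F285827)) (tt N83085 (iv2 F285862)) (tt N53214 F177415) (tt N28275 F153299) (tt N89140 (iv5 F385323)) (tt N53525 F157800) (tt N28272 (iv7 D99550)))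
theorem Q53303 : ∀ i, i < 53303 → P i := stepQ 53302 Q53302 (allL N53302 (tt N28273 (iv1 D99552)) (tt N48467 F342628) (tt N28669 F342629) (tt N28364 F342630) (tt N76519 F342631) (tt N64737 F351897) (tt N76518 (iv6 F349697)) (tt N48995 F342632))
theorem Q53304 : ∀ i, i < 53304 → P i := stepQ 53303 Q53303 (allL N53303 (tt N89109 (iv1 F385194)) (tt N76479 F359448) (tt N88378 (iv2 F382808)) (tt N89129 (iv3 F385276)) (tt N39348 F351903) (tt N28273 (iv5 D99553)) (tt N28274 F153300) (tt N89141 D192043))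
theorem Q53305 : ∀ i, i < 53305 → P i := stepQ 53304 Q53304 (allL N53304 (tt N28669 F315418) (tt N48995 F315419) (tt N48467 F313764) (tt N89130 (iv3 F385282)) (tt N48462 F313765) (tt N89141 (iv5 F385329)) (tt N76494 (iv6 F366718)) (tt N28273 (iv7 D99554)))
theorem Q53306 : ∀ i, i < 53306 → P i := stepQ 53305 Q53305 (allL N53305 (tt N28274 (iv1 D99566)) (tt N61392 (iv0 F335408)) (tt N28677 F157646) (tt N28368 F157647) (tt N89142 D192044) (tt N29234 F294717) (tt N88786 (iv6 F384143)) (tt N49001 F157649))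
theorem Q53307 : ∀ i, i < 53307 → P i := stepQ 53306 Q53306 (allL N53306 (tt N89143 D192045) (tt N89144 D192046) (tt N88379 (iv2 F382815)) (tt N89145 D192047) (tt N28274 (iv4 D99567)) (tt N78834 F359929) (tt N39348 F359930) (tt N89146 D192048))
theorem Q53308 : ∀ i, i < 53308 → P i := stepQ 53307 Q53307 (allL N53307 (tt N28677 F157667) (tt N49001 F157668) (tt N61392 (iv2 F335406)) (tt N89136 (iv3 F385312)) (tt N89146 (iv4 F385338)) (tt N28275 F153303) (tt N89147 D192049) (tt N28274 (iv7 D99568)))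
theorem Q53309 : ∀ i, i < 53309 → P i := stepQ 53308 Q53308 (allL N53308 (tt N55180 (iv1 F159141)) (tt N45300 F153308) (tt N28290 F153304) (tt N29587 F153305) (tt N32837 F153307) (tt N28276 (iv5 D99569)) (tt N74969 (iv6 F353436)) (tt N48807 F153306))
theorem Q53310 : ∀ i, i < 53310 → P i := stepQ 53309 Q53309 (allL N53309 (tt N28295 (iv1 F153319)) (tt N28277 (iv0 D99571)) (tt N28292 F359923) (tt N77249 (iv3 F384318)) (tt N47674 F339102) (tt N72405 F339086) (tt N76464 F361934) (tt N28293 F359924))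
theorem Q53311 : ∀ i, i < 53311 → P i := stepQ 53310 Q53310 (allL N53310 (tt N28277 (iv1 D99572)) (tt N28295 F153312) (tt N28293 F359921) (tt N89148 D192050) (tt N47675 F339103) (tt N72403 F339010) (tt N43752 F339124) (tt N28292 F359922))
theorem Q53312 : ∀ i, i < 53312 → P i := stepQ 53311 Q53311 (allL N53311 (tt N89149 D192051) (tt N89150 D192052) (tt N28294 F153313) (tt N28699 F153314) (tt N78818 (iv4 F339127)) (tt N28277 (iv5 D99573)) (tt N28280 F153315) (tt N78347 (iv7 F348208)))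
theorem Q53313 : ∀ i, i < 53313 → P i := stepQ 53312 Q53312 (allL N53312 (tt N28293 (iv1 F153320)) (tt N28292 F153321) (tt N28295 F153316) (tt N28700 F153317) (tt N72407 F332517) (tt N78347 F306906) (tt N43611 (iv6 F308271)) (tt N28277 (iv7 D99574)))
theorem Q53314 : ∀ i, i < 53314 → P i := stepQ 53313 Q53313 (allL N53313 (tt N85948 F374566) (tt N28633 F290146) (tt N50247 F153424) (tt N28278 (iv3 D99576)) (tt N50243 F153323) (tt N71854 (iv5 F365516)) (tt N89151 D192053) (tt N28300 F153425))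
theorem Q53315 : ∀ i, i < 53315 → P i := stepQ 53314 Q53314 (allL N53314 (tt N53450 (iv1 F153730)) (tt N53511 (iv0 F289731)) (tt N28297 F153426) (tt N50218 F153325) (tt N28278 (iv4 D99577)) (tt N71863 F356217) (tt N89152 D192054) (tt N28301 F153427))
theorem Q53316 : ∀ i, i < 53316 → P i := stepQ 53315 Q53315 (allL N53315 (tt N28546 F284791) (tt N51677 (iv0 F291545)) (tt N28299 F153430) (tt N89151 (iv3 F385357)) (tt N89152 (iv4 F385364)) (tt N49400 F153326) (tt N28278 (iv6 D99579)) (tt N54721 (iv7 F161653)))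
theorem Q53317 : ∀ i, i < 53317 → P i := stepQ 53316 Q53316 (allL N53316 (tt N28573 F289587) (tt N87803 (iv0 F380575)) (tt N55438 (iv2 F160301)) (tt N28279 (iv3 D99581)) (tt N29241 F153328) (tt N73835 (iv5 F364509)) (tt N87830 (iv6 F380740)) (tt N28296 F153414))
theorem Q53318 : ∀ i, i < 53318 → P i := stepQ 53317 Q53317 (allL N53317 (tt N28306 (iv1 F153334)) (tt N28280 (iv0 D99585)) (tt N28303 F288493) (tt N89153 D192055) (tt N34026 F339157) (tt N84380 (iv5 F369084)) (tt N69563 (iv6 F363275)) (tt N28304 F288494))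
theorem Q53319 : ∀ i, i < 53319 → P i := stepQ 53318 Q53318 (allL N53318 (tt N28280 (iv1 D99586)) (tt N28306 F153329) (tt N28304 F288490) (tt N89154 D192056) (tt N34025 F339156) (tt N83686 (iv5 F288487)) (tt N89155 D192057) (tt N28303 F288491))
theorem Q53320 : ∀ i, i < 53320 → P i := stepQ 53319 Q53319 (allL N53319 (tt N78822 F339147) (tt N42873 F339148) (tt N28305 F153330) (tt N36495 F339149) (tt N28280 (iv4 D99587)) (tt N36474 F339150) (tt N78818 F339151) (tt N36473 F339152))
theorem Q53321 : ∀ i, i < 53321 → P i := stepQ 53320 Q53320 (allL N53320 (tt N28304 (iv1 F153335)) (tt N28303 F153336) (tt N28306 F153331) (tt N28708 F153332) (tt N36473 F339158) (tt N28281 F153333) (tt N36476 F339159) (tt N28280 (iv7 D99588)))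
theorem Q53322 : ∀ i, i < 53322 → P i := stepQ 53321 Q53321 (allL N53321 (tt N42806 (iv1 F304145)) (tt N52933 F153341) (tt N52935 F153337) (tt N42835 (iv3 F303545)) (tt N28282 (iv4 D99589)) (tt N46132 F153338) (tt N89156 D192058) (tt N52936 F153339))
theorem Q53323 : ∀ i, i < 53323 → P i := stepQ 53322 Q53322 (allL N53322 (tt N80037 F364926) (tt N34915 F364927) (tt N82540 (iv2 F282160)) (tt N28284 F153343) (tt N89156 (iv4 F385377)) (tt N89157 D192059) (tt N28282 (iv6 D99590)) (tt N89158 D192060))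
theorem Q53324 : ∀ i, i < 53324 → P i := stepQ 53323 Q53323 (allL N53323 (tt N68411 (iv1 F306808)) (tt N47700 (iv0 F153347)) (tt N64623 (iv2 F197925)) (tt N28283 (iv3 D99591)) (tt N42835 F305640) (tt N51993 F153345) (tt N68414 F305641) (tt N38335 F305642))
theorem Q53325 : ∀ i, i < 53325 → P i := stepQ 53324 Q53324 (allL N53324 (tt N46532 (iv1 F311023)) (tt N43082 F309645) (tt N47673 F153348) (tt N68414 F308873) (tt N28284 F153349) (tt N73360 (iv5 F321257)) (tt N28283 (iv6 D99592)) (tt N48457 F313273))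
theorem Q53326 : ∀ i, i < 53326 → P i := stepQ 53325 Q53325 (allL N53325 (tt N57451 (iv1 F314380)) (tt N28284 (iv0 D99593)) (tt N28769 F348283) (tt N28711 F348284) (tt N68405 F348285) (tt N89159 D192061) (tt N43754 F348286) (tt N35086 F348287))
theorem Q53327 : ∀ i, i < 53327 → P i := stepQ 53326 Q53326 (allL N53326 (tt N73826 F349698) (tt N84092 F368074) (tt N81367 (iv2 F274737)) (tt N89157 (iv3 F385382)) (tt N72051 F357352) (tt N28284 (iv5 D99595)) (tt N72049 (iv6 F357350)) (tt N89160 D192062))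
theorem Q53328 : ∀ i, i < 53328 → P i := stepQ 53327 Q53327 (allL N53327 (tt N35086 F332409) (tt N28769 F332410) (tt N57451 (iv2 F314381)) (tt N89158 (iv3 F385386)) (tt N48457 F332411) (tt N89160 (iv5 F385395)) (tt N57440 (iv6 F309782)) (tt N28284 (iv7 D99596)))
theorem Q53329 : ∀ i, i < 53329 → P i := stepQ 53328 Q53328 (allL N53328 (tt N88848 F384334) (tt N65240 (iv0 F363204)) (tt N77247 (iv2 F242110)) (tt N28287 F153350) (tt N64630 (iv4 F197934)) (tt N89161 D192063) (tt N28285 (iv6 D99597)) (tt N57449 (iv7 F354645)))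
theorem Q53330 : ∀ i, i < 53330 → P i := stepQ 53329 Q53329 (allL N53329 (tt N43123 F311991) (tt N43127 F311992) (tt N57439 F311993) (tt N89161 (iv3 F385398)) (tt N89162 D192064) (tt N28287 (iv5 D99601)) (tt N50594 (iv6 F294818)) (tt N57450 F311994))
theorem Q53331 : ∀ i, i < 53331 → P i := stepQ 53330 Q53330 (allL N53330 (tt N68405 F331872) (tt N43909 F331873) (tt N68406 (iv2 F310233)) (tt N46108 F153353) (tt N64438 F331874) (tt N76292 F340836) (tt N28288 (iv6 D99603)) (tt N68403 (iv7 F340838)))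
theorem Q53332 : ∀ i, i < 53332 → P i := stepQ 53331 Q53331 (allL N53331 (tt N48807 F153356) (tt N28290 (iv0 D99605)) (tt N55180 (iv2 F159137)) (tt N34248 F309801) (tt N29138 F153355) (tt N46719 F153354) (tt N34239 F309802) (tt N45300 (iv7 F153357)))
theorem Q53333 : ∀ i, i < 53333 → P i := stepQ 53332 Q53332 (allL N53332 (tt N28290 (iv1 D99606)) (tt N48807 F153359) (tt N45300 (iv2 F153362)) (tt N75762 (iv3 F304123)) (tt N29139 F153361) (tt N46721 F153360) (tt N56139 (iv6 F342597)) (tt N55180 (iv7 F159139)))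
theorem Q53334 : ∀ i, i < 53334 → P i := stepQ 53333 Q53333 (allL N53333 (tt N72376 F332526) (tt N56043 (iv0 F340849)) (tt N74969 (iv2 F353437)) (tt N61329 (iv3 F178601)) (tt N62853 (iv4 F314937)) (tt N58545 F332525) (tt N28290 (iv6 D99607)) (tt N74965 (iv7 F353438)))
theorem Q53335 : ∀ i, i < 53335 → P i := stepQ 53334 Q53334 (allL N53334 (tt N63295 (iv1 F348231)) (tt N63327 (iv0 F332522)) (tt N63372 F332504) (tt N63600 (iv3 F188274)) (tt N53341 (iv4 F347175)) (tt N28291 (iv5 D99610)) (tt N58545 (iv6 F332524)) (tt N63371 F348217))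
theorem Q53336 : ∀ i, i < 53336 → P i := stepQ 53335 Q53335 (allL N53335 (tt N78366 F351868) (tt N46680 F351872) (tt N89163 D192065) (tt N28292 (iv3 D99613)) (tt N76062 (iv4 F351873)) (tt N73946 F358055) (tt N89164 D192066) (tt N89148 (iv7 F385343)))
theorem Q53337 : ∀ i, i < 53337 → P i := stepQ 53336 Q53336 (allL N53336 (tt N47677 F346601) (tt N33860 F346602) (tt N47674 F359919) (tt N40735 F344029) (tt N28292 (iv4 D99614)) (tt N40731 F344030) (tt N68419 F346606) (tt N47675 F359920))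
theorem Q53338 : ∀ i, i < 53338 → P i := stepQ 53337 Q53337 (allL N53337 (tt N76327 F361919) (tt N76466 F361921) (tt N76464 F361922) (tt N89164 (iv3 F385408)) (tt N68419 (iv4 F361920)) (tt N89165 D192067) (tt N28292 (iv6 D99616)) (tt N76463 F361923))
theorem Q53339 : ∀ i, i < 53339 → P i := stepQ 53338 Q53338 (allL N53338 (tt N77248 (iv1 F361940)) (tt N77252 (iv0 F361938)) (tt N77250 F384320) (tt N28293 (iv3 D99618)) (tt N64649 (iv4 F361937)) (tt N73951 F361936) (tt N88844 (iv6 F384310)) (tt N77249 F384319))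
theorem Q53340 : ∀ i, i < 53340 → P i := stepQ 53339 Q53339 (allL N53339 (tt N33860 F346684) (tt N47677 F346685) (tt N47675 F346686) (tt N64650 F346687) (tt N28293 (iv4 D99619)) (tt N48509 F346688) (tt N75793 F346689) (tt N47674 F346690))
theorem Q53341 : ∀ i, i < 53341 → P i := stepQ 53340 Q53340 (allL N53340 (tt N43748 F351908) (tt N43754 F351909) (tt N43752 F359906) (tt N88844 F384308) (tt N75793 F351910) (tt N89166 D192068) (tt N28293 (iv6 D99621)) (tt N43751 F359907))
theorem Q53342 : ∀ i, i < 53342 → P i := stepQ 53341 Q53341 (allL N53341 (tt N78347 F348229) (tt N28294 (iv0 D99622)) (tt N89149 F385349) (tt N89167 D192069) (tt N53334 F347175) (tt N76482 F348216) (tt N89168 D192070) (tt N89150 (iv7 F385352)))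
theorem Q53343 : ∀ i, i < 53343 → P i := stepQ 53342 Q53342 (allL N53342 (tt N28294 (iv1 D99623)) (tt N78347 F348215) (tt N89150 F385355) (tt N73913 (iv3 F361529)) (tt N75568 F348214) (tt N78330 (iv5 F348212)) (tt N73911 F348213) (tt N89149 F385350))
theorem Q53344 : ∀ i, i < 53344 → P i := stepQ 53343 Q53343 (allL N53343 (tt N44134 F339128) (tt N78817 F339129) (tt N78818 F339130) (tt N89169 D192071) (tt N28294 (iv4 D99624)) (tt N48766 F339131) (tt N28305 F153366) (tt N57464 F339132))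
theorem Q53345 : ∀ i, i < 53345 → P i := stepQ 53344 Q53344 (allL N53344 (tt N89150 (iv1 F385351)) (tt N89149 F385348) (tt N78347 (iv2 F348205)) (tt N28318 F153367) (tt N57464 F346610) (tt N28295 F153368) (tt N75980 (iv6 F346612)) (tt N28294 (iv7 D99625)))
theorem Q53346 : ∀ i, i < 53346 → P i := stepQ 53345 Q53345 (allL N53345 (tt N55438 F160305) (tt N28296 (iv0 D99632)) (tt N87803 (iv2 F380571)) (tt N28325 F157389) (tt N51659 F157390) (tt N89170 D192072) (tt N85477 (iv6 F372758)) (tt N28573 F289593))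
theorem Q53347 : ∀ i, i < 53347 → P i := stepQ 53346 Q53346 (allL N53346 (tt N87803 F380576) (tt N28573 F289586) (tt N28296 (iv2 D99634)) (tt N50247 F153383) (tt N29240 (iv4 F153409)) (tt N89171 D192073) (tt N89172 D192074) (tt N55438 (iv7 F160303)))
theorem Q53348 : ∀ i, i < 53348 → P i := stepQ 53347 Q53347 (allL N53347 (tt N89173 D192075) (tt N89174 D192076) (tt N89171 (iv2 F385433)) (tt N28298 F153384) (tt N89175 D192077) (tt N28296 (iv5 D99635)) (tt N73834 (iv6 F364511)) (tt N73835 F364510))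
theorem Q53349 : ∀ i, i < 53349 → P i := stepQ 53348 Q53348 (allL N53348 (tt N89092 F385138) (tt N89176 D192078) (tt N89172 (iv2 F385437)) (tt N28299 F153385) (tt N55441 (iv4 F160318)) (tt N89177 D192079) (tt N28296 (iv6 D99636)) (tt N89178 D192080))
theorem Q53350 : ∀ i, i < 53350 → P i := stepQ 53349 Q53349 (allL N53349 (tt N28301 (iv1 F153390)) (tt N28297 (iv0 D99638)) (tt N53450 (iv2 F157351)) (tt N49136 (iv3 F153391)) (tt N53450 (iv4 F153727)) (tt N34027 F343275) (tt N54497 (iv6 F290129)) (tt N53511 (iv7 F289733)))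
theorem Q53351 : ∀ i, i < 53351 → P i := stepQ 53350 Q53350 (allL N53350 (tt N83087 F289918) (tt N54682 F290048) (tt N89152 (iv2 F385362)) (tt N83072 (iv3 F285786)) (tt N28299 F153387) (tt N55830 (iv5 F356337)) (tt N28297 (iv6 D99640)) (tt N61547 F356336))
theorem Q53352 : ∀ i, i < 53352 → P i := stepQ 53351 Q53351 (allL N53351 (tt N49385 F153396) (tt N49401 F153398) (tt N49400 F153473) (tt N89177 (iv3 F385454)) (tt N42992 F349045) (tt N28299 (iv5 D99649)) (tt N73852 F335425) (tt N49399 F289276))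
theorem Q53353 : ∀ i, i < 53353 → P i := stepQ 53352 Q53352 (allL N53352 (tt N51677 (iv1 F291546)) (tt N28546 F284794) (tt N54721 F161654) (tt N89178 (iv3 F385462)) (tt N61547 F356335) (tt N49399 (iv5 F289275)) (tt N48629 F294435) (tt N28299 (iv7 D99650)))
theorem Q53354 : ∀ i, i < 53354 → P i := stepQ 53353 Q53353 (allL N53353 (tt N28300 (iv1 D99653)) (tt N50247 F153407) (tt N85948 (iv2 F374561)) (tt N28319 (iv3 F153403)) (tt N29011 F153404) (tt N89179 D192081) (tt N85969 (iv6 F374662)) (tt N28633 F290153))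
theorem Q53355 : ∀ i, i < 53355 → P i := stepQ 53354 Q53354 (allL N53354 (tt N28633 F290147) (tt N85948 (iv0 F374565)) (tt N28300 (iv2 D99654)) (tt N55438 (iv3 F160302)) (tt N50244 (iv4 F153434)) (tt N71767 F362224) (tt N54865 (iv6 F367150)) (tt N50247 F153406))
theorem Q53356 : ∀ i, i < 53356 → P i := stepQ 53355 Q53355 (allL N53355 (tt N89180 D192082) (tt N85491 (iv0 F372814)) (tt N54865 F367151) (tt N28302 F153481) (tt N49849 F293633) (tt N73883 F364508) (tt N28300 (iv6 D99656)) (tt N54867 F367096))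
theorem Q53357 : ∀ i, i < 53357 → P i := stepQ 53356 Q53356 (allL N53356 (tt N84753 F370491) (tt N72045 (iv0 F356319)) (tt N72008 F350431) (tt N53597 (iv3 F251754)) (tt N28302 F153483) (tt N71993 F357367) (tt N28301 (iv6 D99658)) (tt N87036 (iv7 F378136)))
theorem Q53358 : ∀ i, i < 53358 → P i := stepQ 53357 Q53357 (allL N53357 (tt N89170 F385431) (tt N89113 (iv0 F385208)) (tt N89181 D192083) (tt N28303 (iv3 D99666)) (tt N89182 D192084) (tt N88986 (iv5 F384668)) (tt N89183 D192085) (tt N89154 (iv7 F385370)))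
theorem Q53359 : ∀ i, i < 53359 → P i := stepQ 53358 Q53358 (allL N53358 (tt N33993 F341563) (tt N34019 F341564) (tt N34026 F341565) (tt N43520 F341566) (tt N28303 (iv4 D99667)) (tt N34314 F341567) (tt N39879 F341568) (tt N34025 F341569))
theorem Q53360 : ∀ i, i < 53360 → P i := stepQ 53359 Q53359 (allL N53359 (tt N48496 F341557) (tt N48504 F341558) (tt N69563 F341559) (tt N89183 (iv3 F385481)) (tt N39879 F341560) (tt N89184 D192086) (tt N28303 (iv6 D99669)) (tt N69562 F341561))
theorem Q53361 : ∀ i, i < 53361 → P i := stepQ 53360 Q53360 (allL N53360 (tt N89128 (iv1 F385274)) (tt N89179 (iv0 F385469)) (tt N89185 D192087) (tt N28304 (iv3 D99671)) (tt N89186 D192088) (tt N88988 (iv5 F384677)) (tt N89187 D192089) (tt N89153 (iv7 F385368)))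
theorem Q53362 : ∀ i, i < 53362 → P i := stepQ 53361 Q53361 (allL N53361 (tt N34019 F342535) (tt N33993 F342536) (tt N34025 F342537) (tt N89188 D192090) (tt N28304 (iv4 D99672)) (tt N44011 F342538) (tt N40207 F342539) (tt N34026 F342540))
theorem Q53363 : ∀ i, i < 53363 → P i := stepQ 53362 Q53362 (allL N53362 (tt N89189 D192091) (tt N89190 D192092) (tt N89155 (iv2 F385372)) (tt N89187 (iv3 F385492)) (tt N40207 F342541) (tt N89191 D192093) (tt N28304 (iv6 D99674)) (tt N89192 D192094))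
theorem Q53364 : ∀ i, i < 53364 → P i := stepQ 53363 Q53363 (allL N53363 (tt N36473 F339133) (tt N28305 (iv0 D99675)) (tt N78822 F339134) (tt N34393 F339135) (tt N63339 F339136) (tt N42704 F339137) (tt N35484 F339138) (tt N42873 F339139))
theorem Q53365 : ∀ i, i < 53365 → P i := stepQ 53364 Q53364 (allL N53364 (tt N28305 (iv1 D99676)) (tt N36473 F339140) (tt N42873 F339141) (tt N77089 F339142) (tt N63338 F339143) (tt N63726 F339144) (tt N80084 F339145) (tt N78822 F339146))
theorem Q53366 : ∀ i, i < 53366 → P i := stepQ 53365 Q53365 (allL N53365 (tt N89193 D192095) (tt N89194 D192096) (tt N80382 (iv2 F346753)) (tt N28305 (iv3 D99677)) (tt N28338 F153487) (tt N66864 F346749) (tt N89169 (iv6 F385426)) (tt N75816 (iv7 F346754)))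
theorem Q53367 : ∀ i, i < 53367 → P i := stepQ 53366 Q53366 (allL N53366 (tt N65242 F321083) (tt N89195 D192097) (tt N48230 F321084) (tt N28310 F153499) (tt N33852 F321085) (tt N76998 F321086) (tt N28307 (iv6 D99692)) (tt N48227 F321087))
theorem Q53368 : ∀ i, i < 53368 → P i := stepQ 53367 Q53367 (allL N53367 (tt N53127 (iv1 F272751)) (tt N80722 F272753) (tt N28815 F156673) (tt N65315 (iv3 F344098)) (tt N28310 F153502) (tt N66485 (iv5 F344103)) (tt N28308 (iv6 D99698)) (tt N80720 F272683))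
theorem Q53369 : ∀ i, i < 53369 → P i := stepQ 53368 Q53368 (allL N53368 (tt N28313 (iv1 F153510)) (tt N28309 (iv0 D99700)) (tt N28816 (iv2 F155832)) (tt N44567 F307571) (tt N89196 D192098) (tt N44566 F307572) (tt N70840 (iv6 F346674)) (tt N28817 (iv7 F155834)))
theorem Q53370 : ∀ i, i < 53370 → P i := stepQ 53369 Q53369 (allL N53369 (tt N89197 D192099) (tt N71818 (iv0 F383640)) (tt N28818 F156698) (tt N41083 F328192) (tt N28309 (iv4 D99702)) (tt N89198 D192100) (tt N88046 (iv6 F381570)) (tt N28829 F156699))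
theorem Q53371 : ∀ i, i < 53371 → P i := stepQ 53370 Q53370 (allL N53370 (tt N89199 D192101) (tt N89200 D192102) (tt N28819 F156700) (tt N70456 F365731) (tt N88046 F381569) (tt N84170 (iv5 F368410)) (tt N28309 (iv6 D99703)) (tt N89201 D192103))
theorem Q53372 : ∀ i, i < 53372 → P i := stepQ 53371 Q53371 (allL N53371 (tt N28310 (iv1 D99706)) (tt N28822 F156669) (tt N28820 F156670) (tt N76466 F361496) (tt N80323 (iv4 F307528)) (tt N89202 D192104) (tt N81358 (iv6 F308583)) (tt N28785 F156671))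
theorem Q53373 : ∀ i, i < 53373 → P i := stepQ 53372 Q53372 (allL N53372 (tt N28820 F156674) (tt N28785 F156675) (tt N28822 F156676) (tt N48227 F344091) (tt N80720 F272680) (tt N53938 F156677) (tt N28833 F156678) (tt N28310 (iv7 D99707)))
theorem Q53374 : ∀ i, i < 53374 → P i := stepQ 53373 Q53373 (allL N53373 (tt N28311 (iv1 D99710)) (tt N28808 F156709) (tt N28807 F324283) (tt N78366 F351869) (tt N47267 F321038) (tt N81823 F339177) (tt N81378 F351874) (tt N28576 F321039))
theorem Q53375 : ∀ i, i < 53375 → P i := stepQ 53374 Q53374 (allL N53374 (tt N28576 (iv1 F322814)) (tt N28807 F156711) (tt N28311 (iv2 D99711)) (tt N28824 F156712) (tt N63560 F321040) (tt N71025 (iv5 F354504)) (tt N79484 F354506) (tt N28808 F156713))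
theorem Q53376 : ∀ i, i < 53376 → P i := stepQ 53375 Q53375 (allL N53375 (tt N70966 F345501) (tt N71167 (iv0 F346585)) (tt N71025 (iv2 F354503)) (tt N28313 F153512) (tt N89203 D192105) (tt N28311 (iv5 D99713)) (tt N54327 (iv6 F357394)) (tt N28810 F156715))
theorem Q53377 : ∀ i, i < 53377 → P i := stepQ 53376 Q53376 (allL N53376 (tt N77586 F344080) (tt N77598 (iv0 F360163)) (tt N77580 F360161) (tt N28312 (iv3 D99715)) (tt N79490 (iv4 F344056)) (tt N89204 D192106) (tt N79489 (iv6 F360162)) (tt N28813 F156716))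
theorem Q53378 : ∀ i, i < 53378 → P i := stepQ 53377 Q53377 (allL N53377 (tt N71611 (iv1 F337649)) (tt N71610 F337642) (tt N28827 F156717) (tt N89204 (iv3 F385573)) (tt N89205 D192107) (tt N28312 (iv5 D99716)) (tt N89206 D192108) (tt N28814 F156718))
theorem Q53379 : ∀ i, i < 53379 → P i := stepQ 53378 Q53378 (allL N53378 (tt N79404 (iv1 F310444)) (tt N52955 F184680) (tt N28828 F156719) (tt N79489 (iv3 F332034)) (tt N28314 F153514) (tt N89207 D192109) (tt N28312 (iv6 D99717)) (tt N80763 (iv7 F271111)))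
theorem Q53380 : ∀ i, i < 53380 → P i := stepQ 53379 Q53379 (allL N53379 (tt N71818 (iv1 F383641)) (tt N89197 F385538) (tt N28829 F156720) (tt N89208 D192110) (tt N28313 (iv4 D99718)) (tt N89209 D192111) (tt N89210 D192112) (tt N28818 F156721))
theorem Q53381 : ∀ i, i < 53381 → P i := stepQ 53380 Q53380 (allL N53380 (tt N89211 D192113) (tt N28880 (iv0 F153515)) (tt N28830 F156722) (tt N54327 F357419) (tt N89210 (iv4 F385608)) (tt N89212 D192114) (tt N28313 (iv6 D99719)) (tt N89213 D192115))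
theorem Q53382 : ∀ i, i < 53382 → P i := stepQ 53381 Q53381 (allL N53381 (tt N28833 F156723) (tt N28314 (iv0 D99720)) (tt N28831 F156762) (tt N43748 F307518) (tt N45552 F307519) (tt N28622 F153516) (tt N35076 F307520) (tt N28771 F156763))
theorem Q53383 : ∀ i, i < 53383 → P i := stepQ 53382 Q53382 (allL N53382 (tt N53243 (iv1 F156799)) (tt N53240 (iv0 F153517)) (tt N28832 F156725) (tt N79496 (iv3 F334410)) (tt N89214 D192116) (tt N28314 (iv5 D99722)) (tt N89212 (iv6 F385617)) (tt N53942 F156726))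
theorem Q53384 : ∀ i, i < 53384 → P i := stepQ 53383 Q53383 (allL N53383 (tt N28771 F156733) (tt N28831 F156728) (tt N28833 F156729) (tt N64093 (iv3 F334411)) (tt N80763 (iv4 F271109)) (tt N53942 F156730) (tt N28822 F156731) (tt N28314 (iv7 D99723)))
theorem Q53385 : ∀ i, i < 53385 → P i := stepQ 53384 Q53384 (allL N53384 (tt N89215 D192117) (tt N52947 F272743) (tt N28835 F156404) (tt N72141 (iv3 F357415)) (tt N28315 (iv4 D99726)) (tt N89216 D192118) (tt N74068 F357416) (tt N28839 (iv7 F156411)))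
theorem Q53386 : ∀ i, i < 53386 → P i := stepQ 53385 Q53385 (allL N53385 (tt N49644 (iv1 F153524)) (tt N28671 (iv0 F155790)) (tt N28836 (iv2 F156391)) (tt N72143 (iv3 F324306)) (tt N80968 (iv4 F272800)) (tt N28315 (iv5 D99727)) (tt N49651 F153523) (tt N28840 (iv7 F156386)))
theorem Q53387 : ∀ i, i < 53387 → P i := stepQ 53386 Q53386 (allL N53386 (tt N89217 D192119) (tt N39548 F352559) (tt N28837 F156405) (tt N39426 F327145) (tt N74068 F327146) (tt N51186 (iv5 F295175)) (tt N28315 (iv6 D99728)) (tt N86326 (iv7 F375837)))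
theorem Q53388 : ∀ i, i < 53388 → P i := stepQ 53387 Q53387 (allL N53387 (tt N47268 F287095) (tt N81823 (iv0 F351875)) (tt N72137 F356079) (tt N28316 (iv3 D99730)) (tt N89218 D192120) (tt N49641 F153530) (tt N89219 D192121) (tt N28834 F156402))
theorem Q53389 : ∀ i, i < 53389 → P i := stepQ 53388 Q53388 (allL N53388 (tt N52947 (iv1 F272741)) (tt N89215 F385635) (tt N28839 F156412) (tt N89220 D192122) (tt N28316 (iv4 D99731)) (tt N89221 D192123) (tt N58578 F359476) (tt N28835 F156403))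
theorem Q53390 : ∀ i, i < 53390 → P i := stepQ 53389 Q53389 (allL N53389 (tt N89222 D192124) (tt N81615 F352821) (tt N28841 (iv2 F156413)) (tt N89219 (iv3 F385651)) (tt N58578 (iv4 F352823)) (tt N49643 F153531) (tt N28316 (iv6 D99732)) (tt N89223 D192125))
theorem Q53391 : ∀ i, i < 53391 → P i := stepQ 53390 Q53390 (allL N53390 (tt N28846 (iv1 F153537)) (tt N28317 (iv0 D99733)) (tt N28842 F286966) (tt N89224 D192126) (tt N83918 (iv4 F367489)) (tt N89225 D192127) (tt N89226 D192128) (tt N28843 F286967))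
theorem Q53392 : ∀ i, i < 53392 → P i := stepQ 53391 Q53391 (allL N53391 (tt N28317 (iv1 D99734)) (tt N28846 F153532) (tt N28843 F286963) (tt N89227 D192129) (tt N65024 F286964) (tt N89228 D192130) (tt N58480 (iv6 F349517)) (tt N28842 F286965))
theorem Q53393 : ∀ i, i < 53393 → P i := stepQ 53392 Q53392 (allL N53392 (tt N89229 D192131) (tt N89230 D192132) (tt N89231 D192133) (tt N28317 (iv3 D99735)) (tt N89169 (iv4 F385424)) (tt N89232 D192134) (tt N28338 F153533) (tt N89233 D192135))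
theorem Q53394 : ∀ i, i < 53394 → P i := stepQ 53393 Q53393 (allL N53393 (tt N89224 (iv1 F385709)) (tt N89234 D192137) (tt N28845 F153534) (tt N89232 (iv3 F385697)) (tt N89235 D192138) (tt N28317 (iv5 D99736)) (tt N84274 (iv6 F368771)) (tt N89236 D192139))
theorem Q53395 : ∀ i, i < 53395 → P i := stepQ 53394 Q53394 (allL N53394 (tt N28843 (iv1 F153538)) (tt N28842 F153539) (tt N28846 F153535) (tt N89233 (iv3 F385700)) (tt N28318 F153536) (tt N89236 (iv5 F385716)) (tt N84273 (iv6 F368764)) (tt N28317 (iv7 D99737)))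
theorem Q53396 : ∀ i, i < 53396 → P i := stepQ 53395 Q53395 (allL N53395 (tt N28932 (iv1 F153542)) (tt N28931 F153543) (tt N28847 F153540) (tt N75980 F346613) (tt N84273 (iv4 F368762)) (tt N81393 (iv5 F274880)) (tt N28318 (iv6 D99738)) (tt N28339 F153541))
theorem Q53397 : ∀ i, i < 53397 → P i := stepQ 53396 Q53396 (allL N53396 (tt N28910 F328570) (tt N28330 F328571) (tt N28890 (iv2 F156167)) (tt N89179 (iv3 F385467)) (tt N65450 F328170) (tt N28319 (iv5 D99740)) (tt N39127 F328171) (tt N28634 F290165))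
theorem Q53398 : ∀ i, i < 53398 → P i := stepQ 53397 Q53397 (allL N53397 (tt N28662 F344227) (tt N83460 F287562) (tt N28321 F153553) (tt N28863 F153554) (tt N49139 F153555) (tt N49724 (iv5 F153556)) (tt N28320 (iv6 D99747)) (tt N83461 (iv7 F287568)))
theorem Q53399 : ∀ i, i < 53399 → P i := stepQ 53398 Q53398 (allL N53398 (tt N83461 (iv1 F287569)) (tt N28321 (iv0 D99752)) (tt N28662 F344199) (tt N89133 (iv3 F385295)) (tt N85502 (iv4 F372865)) (tt N83849 (iv5 F344202)) (tt N28644 F344200) (tt N83460 (iv7 F344201)))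
theorem Q53400 : ∀ i, i < 53400 → P i := stepQ 53399 Q53399 (allL N53399 (tt N28348 F153567) (tt N28355 F153568) (tt N28879 F153564) (tt N62489 F356230) (tt N28322 (iv4 D99755)) (tt N49684 F153565) (tt N89237 D192140) (tt N28877 F153566))
theorem Q53401 : ∀ i, i < 53401 → P i := stepQ 53400 Q53400 (allL N53400 (tt N28830 F153571) (tt N89213 F385625) (tt N28880 F153569) (tt N73887 F364513) (tt N89237 (iv4 F385722)) (tt N28627 F153570) (tt N28322 (iv6 D99756)) (tt N89211 (iv7 F385613)))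
theorem Q53402 : ∀ i, i < 53402 → P i := stepQ 53401 Q53401 (allL N53401 (tt N54708 (iv1 F344550)) (tt N31864 F344543) (tt N28884 F153573) (tt N67128 F344586) (tt N28324 F153574) (tt N31927 F344544) (tt N28323 (iv6 D99758)) (tt N58444 F344545))
theorem Q53403 : ∀ i, i < 53403 → P i := stepQ 53402 Q53402 (allL N53402 (tt N28888 (iv1 F153579)) (tt N28324 (iv0 D99759)) (tt N28885 F344571) (tt N89238 D192141) (tt N79636 F344572) (tt N84142 (iv5 F368304)) (tt N89199 (iv6 F385548)) (tt N28886 F344573))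
theorem Q53404 : ∀ i, i < 53404 → P i := stepQ 53403 Q53403 (allL N53403 (tt N28324 (iv1 D99760)) (tt N28888 F153575) (tt N28886 F344579) (tt N73799 (iv3 F344584)) (tt N73684 F344580) (tt N84141 (iv5 F368287)) (tt N71209 (iv6 F352874)) (tt N28885 F344581))
theorem Q53405 : ∀ i, i < 53405 → P i := stepQ 53404 Q53404 (allL N53404 (tt N47613 F331181) (tt N47616 F331182) (tt N28860 F156228) (tt N29388 F153590) (tt N28325 (iv4 D99769)) (tt N46676 F331183) (tt N55521 (iv6 F289688)) (tt N28575 F289604))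
theorem Q53406 : ∀ i, i < 53406 → P i := stepQ 53405 Q53405 (allL N53405 (tt N28333 F157052) (tt N28899 F157053) (tt N28861 F156229) (tt N89170 (iv3 F385429)) (tt N79244 F356191) (tt N28325 (iv5 D99770)) (tt N39466 F362177) (tt N28577 F289607))
theorem Q53407 : ∀ i, i < 53407 → P i := stepQ 53406 Q53406 (allL N53406 (tt N87674 (iv1 F380105)) (tt N28601 F289944) (tt N28328 F153596) (tt N28892 F153597) (tt N49974 F295184) (tt N70968 (iv5 F361761)) (tt N28326 (iv6 D99773)) (tt N83573 F295185))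
theorem Q53408 : ∀ i, i < 53408 → P i := stepQ 53407 Q53407 (allL N53407 (tt N28327 (iv1 D99775)) (tt N28862 F153599) (tt N28866 F328312) (tt N89173 (iv3 F385444)) (tt N46772 F327389) (tt N47622 F327390) (tt N71175 (iv6 F354519)) (tt N28867 F328313))
theorem Q53409 : ∀ i, i < 53409 → P i := stepQ 53408 Q53408 (allL N53408 (tt N83573 F295181) (tt N28328 (iv0 D99778)) (tt N87674 (iv2 F380109)) (tt N48642 F295182) (tt N85454 (iv4 F372676)) (tt N80686 (iv5 F361754)) (tt N84876 (iv6 F370962)) (tt N28601 F357393))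
theorem Q53410 : ∀ i, i < 53410 → P i := stepQ 53409 Q53409 (allL N53409 (tt N28328 (iv1 D99779)) (tt N83573 F295183) (tt N28601 F357388) (tt N87764 (iv3 F380424)) (tt N84664 (iv4 F370100)) (tt N80687 F357389) (tt N28580 F357390) (tt N87674 (iv7 F380106)))
theorem Q53411 : ∀ i, i < 53411 → P i := stepQ 53410 Q53410 (allL N53410 (tt N87754 (iv1 F380381)) (tt N89239 D192142) (tt N67132 F339830) (tt N28329 (iv3 D99780)) (tt N80134 F365696) (tt N51805 (iv5 F363715)) (tt N67130 (iv6 F363716)) (tt N28883 F153602))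
theorem Q53412 : ∀ i, i < 53412 → P i := stepQ 53411 Q53411 (allL N53411 (tt N28909 (iv1 F153627)) (tt N28332 (iv0 D99792)) (tt N28906 F329280) (tt N89240 D192143) (tt N81613 F352817) (tt N71205 (iv5 F352825)) (tt N81615 (iv6 F352815)) (tt N28907 F329281))
theorem Q53413 : ∀ i, i < 53413 → P i := stepQ 53412 Q53412 (allL N53412 (tt N28332 (iv1 D99793)) (tt N28909 F153622) (tt N28907 F329282) (tt N48504 F352814) (tt N78255 F329278) (tt N71206 F352830) (tt N39556 F352811) (tt N28906 F329283))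
theorem Q53414 : ∀ i, i < 53414 → P i := stepQ 53413 Q53413 (allL N53413 (tt N39460 F357913) (tt N89241 D192144) (tt N81539 F357914) (tt N28335 F153637) (tt N80649 F357915) (tt N84285 (iv5 F368800)) (tt N28333 (iv6 D99800)) (tt N89242 D192145))
theorem Q53415 : ∀ i, i < 53415 → P i := stepQ 53414 Q53414 (allL N53414 (tt N68107 (iv1 F346799)) (tt N51807 F337132) (tt N68109 F346788) (tt N28334 (iv3 D99801)) (tt N80648 F337131) (tt N83854 (iv5 F289480)) (tt N89243 D192146) (tt N28904 F153638))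
theorem Q53416 : ∀ i, i < 53416 → P i := stepQ 53415 Q53415 (allL N53415 (tt N89244 D192147) (tt N89245 D192148) (tt N28915 F153639) (tt N89243 (iv3 F385754)) (tt N28335 F153640) (tt N89246 D192149) (tt N28334 (iv6 D99802)) (tt N89247 D192150))
theorem Q53417 : ∀ i, i < 53417 → P i := stepQ 53416 Q53416 (allL N53416 (tt N28919 (iv1 F153644)) (tt N28335 (iv0 D99803)) (tt N28916 F365505) (tt N89189 F385503) (tt N89248 D192151) (tt N89249 D192152) (tt N39122 F362585) (tt N28917 F365506))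
theorem Q53418 : ∀ i, i < 53418 → P i := stepQ 53417 Q53417 (allL N53417 (tt N28335 (iv1 D99804)) (tt N28919 F153641) (tt N28917 F365509) (tt N89250 D192153) (tt N89251 D192154) (tt N84302 (iv5 F368848)) (tt N89217 (iv6 F385643)) (tt N28916 F365510))
theorem Q53419 : ∀ i, i < 53419 → P i := stepQ 53418 Q53418 (allL N53418 (tt N28917 (iv1 F153645)) (tt N28916 F153646) (tt N28919 F153642) (tt N89242 (iv3 F385748)) (tt N89247 (iv4 F385772)) (tt N84292 (iv5 F368824)) (tt N28909 F153643) (tt N28335 (iv7 D99805)))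
theorem Q53420 : ∀ i, i < 53420 → P i := stepQ 53419 Q53419 (allL N53419 (tt N68119 F365460) (tt N84274 F368778) (tt N89252 D192155) (tt N28336 (iv3 D99806)) (tt N89253 D192156) (tt N83887 (iv5 F367377)) (tt N68067 (iv6 F390593)) (tt N28922 F153647))
theorem Q53421 : ∀ i, i < 53421 → P i := stepQ 53420 Q53420 (allL N53420 (tt N81613 F362570) (tt N78255 F362571) (tt N28921 F153648) (tt N68067 (iv3 F390592)) (tt N83886 (iv4 F367375)) (tt N89254 D192158) (tt N28336 (iv6 D99807)) (tt N89255 D192159))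
theorem Q53422 : ∀ i, i < 53422 → P i := stepQ 53421 Q53421 (allL N53421 (tt N75933 (iv1 F353153)) (tt N55111 (iv0 F353152)) (tt N75931 F337139) (tt N28337 (iv3 D99808)) (tt N89256 D192160) (tt N77550 F353149) (tt N89257 D192161) (tt N28920 F153649))
theorem Q53423 : ∀ i, i < 53423 → P i := stepQ 53422 Q53422 (allL N53422 (tt N89248 (iv1 F385792)) (tt N89251 (iv0 F385790)) (tt N28923 F153650) (tt N89257 (iv3 F385813)) (tt N83891 (iv4 F367410)) (tt N89258 D192162) (tt N28337 (iv6 D99809)) (tt N89259 D192163))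
theorem Q53424 : ∀ i, i < 53424 → P i := stepQ 53423 Q53423 (allL N53423 (tt N84270 (iv1 F368758)) (tt N28338 (iv0 D99810)) (tt N43402 F337149) (tt N52599 (iv3 F337152)) (tt N34147 F337150) (tt N52590 F337158) (tt N48040 F337151) (tt N55219 F337160))
theorem Q53425 : ∀ i, i < 53425 → P i := stepQ 53424 Q53424 (allL N53424 (tt N28338 (iv1 D99811)) (tt N84270 (iv0 F368757)) (tt N55219 (iv2 F346757)) (tt N57642 (iv3 F346758)) (tt N34050 F346755) (tt N80199 F346943) (tt N78265 (iv6 F346759)) (tt N43402 F346756))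
theorem Q53426 : ∀ i, i < 53426 → P i := stepQ 53425 Q53425 (allL N53425 (tt N43402 F352733) (tt N55219 F346761) (tt N28338 (iv2 D99812)) (tt N28926 F153651) (tt N80382 F352734) (tt N55196 F352735) (tt N89231 (iv6 F385694)) (tt N84270 (iv7 F368755)))
theorem Q53427 : ∀ i, i < 53427 → P i := stepQ 53426 Q53426 (allL N53426 (tt N28847 (iv1 F153652)) (tt N28339 (iv0 D99813)) (tt N28931 F346656) (tt N39130 F346657) (tt N74197 F346658) (tt N89260 D192164) (tt N39558 F346659) (tt N28932 F346660))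
theorem Q53428 : ∀ i, i < 53428 → P i := stepQ 53427 Q53427 (allL N53427 (tt N28339 (iv1 D99814)) (tt N28847 F153653) (tt N28932 F346661) (tt N39462 F346662) (tt N48961 F346669) (tt N89261 D192165) (tt N39123 F346663) (tt N28931 F346664))
theorem Q53429 : ∀ i, i < 53429 → P i := stepQ 53428 Q53428 (allL N53428 (tt N42290 F333298) (tt N53668 F349287) (tt N77627 F333299) (tt N28340 (iv3 D99815)) (tt N28350 F153654) (tt N50754 F153655) (tt N51421 F153656) (tt N29020 F153657))
theorem Q53430 : ∀ i, i < 53430 → P i := stepQ 53429 Q53429 (allL N53429 (tt N28341 (iv1 D99816)) (tt N28390 (iv0 F153662)) (tt N28391 F153661) (tt N29357 (iv3 F153659)) (tt N51660 (iv4 F153660)) (tt N39743 F327683) (tt N54729 (iv6 F157494)) (tt N28392 F153658))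
theorem Q53431 : ∀ i, i < 53431 → P i := stepQ 53430 Q53430 (allL N53430 (tt N28392 (iv1 F153668)) (tt N28391 F153667) (tt N28341 (iv2 D99817)) (tt N28965 F153663) (tt N29394 F153664) (tt N89262 D192166) (tt N48835 F153665) (tt N28390 F153666))
theorem Q53432 : ∀ i, i < 53432 → P i := stepQ 53431 Q53431 (allL N53431 (tt N86756 (iv1 F377074)) (tt N89263 D192167) (tt N89262 (iv2 F385828)) (tt N28342 F153669) (tt N89264 D192168) (tt N28341 (iv5 D99818)) (tt N89265 D192169) (tt N28393 F153670))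
theorem Q53433 : ∀ i, i < 53433 → P i := stepQ 53432 Q53432 (allL N53432 (tt N89266 D192170) (tt N89267 D192171) (tt N28968 F153671) (tt N89265 (iv3 F385841)) (tt N51706 (iv4 F352887)) (tt N84376 (iv5 F369071)) (tt N28342 (iv6 D99819)) (tt N88634 (iv7 F383659)))
theorem Q53434 : ∀ i, i < 53434 → P i := stepQ 53433 Q53433 (allL N53433 (tt N48849 (iv1 F153677)) (tt N48848 (iv0 F153676)) (tt N29355 F153672) (tt N28343 (iv3 D99820)) (tt N52232 F153673) (tt N81479 F331217) (tt N49132 F153674) (tt N28482 F153675))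
theorem Q53435 : ∀ i, i < 53435 → P i := stepQ 53434 Q53434 (allL N53434 (tt N84405 F369188) (tt N83885 (iv0 F367369)) (tt N29021 F153678) (tt N81479 F356748) (tt N83282 (iv4 F356746)) (tt N28343 (iv5 D99821)) (tt N83281 F356749) (tt N28483 F153679))
theorem Q53436 : ∀ i, i < 53436 → P i := stepQ 53435 Q53435 (allL N53435 (tt N29025 (iv1 F153684)) (tt N29024 F153687) (tt N28345 F153680) (tt N28972 F153681) (tt N89268 D192172) (tt N28344 (iv5 D99822)) (tt N40966 F349512) (tt N29022 F153682))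
theorem Q53437 : ∀ i, i < 53437 → P i := stepQ 53436 Q53436 (allL N53436 (tt N29022 (iv1 F153689)) (tt N28345 (iv0 D99823)) (tt N29025 (iv2 F153690)) (tt N46218 F331222) (tt N89269 D192173) (tt N49823 F153688) (tt N89270 D192174) (tt N29024 (iv7 F153691)))
theorem Q53438 : ∀ i, i < 53438 → P i := stepQ 53437 Q53437 (allL N53437 (tt N28345 (iv1 D99824)) (tt N29022 F153692) (tt N29024 (iv2 F153694)) (tt N29361 (iv3 F153695)) (tt N89271 D192175) (tt N49824 (iv5 F153696)) (tt N77679 (iv6 F365553)) (tt N29025 F153693))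
theorem Q53439 : ∀ i, i < 53439 → P i := stepQ 53438 Q53438 (allL N53438 (tt N89272 D192176) (tt N62413 (iv0 F365512)) (tt N89268 (iv2 F385856)) (tt N89273 D192177) (tt N28345 (iv4 D99825)) (tt N89274 D192178) (tt N73285 F353579) (tt N29026 F153697))
theorem Q53440 : ∀ i, i < 53440 → P i := stepQ 53439 Q53439 (allL N53439 (tt N89275 D192179) (tt N89276 D192180) (tt N40966 F321295) (tt N28349 F153698) (tt N73285 (iv4 F353575)) (tt N40938 F321296) (tt N28345 (iv6 D99826)) (tt N40936 F321297))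
theorem Q53441 : ∀ i, i < 53441 → P i := stepQ 53440 Q53440 (allL N53440 (tt N29365 F156187) (tt N39743 F329325) (tt N39742 F329333) (tt N28346 (iv3 D99827)) (tt N89277 D192181) (tt N49473 F153699) (tt N89278 D192182) (tt N28984 F153700))
theorem Q53442 : ∀ i, i < 53442 → P i := stepQ 53441 Q53441 (allL N53441 (tt N89279 D192183) (tt N89280 D192184) (tt N28983 F153701) (tt N89278 (iv3 F385896)) (tt N54475 (iv4 F156976)) (tt N49474 F153702) (tt N28346 (iv6 D99828)) (tt N89281 D192185))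
theorem Q53443 : ∀ i, i < 53443 → P i := stepQ 53442 Q53442 (allL N53442 (tt N84986 F371276) (tt N84987 (iv0 F371281)) (tt N89282 D192186) (tt N28347 (iv3 D99829)) (tt N89283 D192187) (tt N49795 F153703) (tt N89284 D192188) (tt N28981 F153704))
theorem Q53444 : ∀ i, i < 53444 → P i := stepQ 53443 Q53443 (allL N53443 (tt N88631 F383653) (tt N89285 D192189) (tt N28987 F153705) (tt N89284 (iv3 F385913)) (tt N54477 (iv4 F156977)) (tt N28451 F153706) (tt N28347 (iv6 D99830)) (tt N89286 D192190))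
theorem Q53445 : ∀ i, i < 53445 → P i := stepQ 53444 Q53444 (allL N53444 (tt N66534 F365366) (tt N89287 D192191) (tt N89288 D192192) (tt N28348 (iv3 D99831)) (tt N89273 (iv4 F385878)) (tt N54720 (iv5 F157448)) (tt N89289 D192193) (tt N29031 F153707))
theorem Q53446 : ∀ i, i < 53446 → P i := stepQ 53445 Q53445 (allL N53445 (tt N79636 F349518) (tt N73684 F349519) (tt N28989 F153708) (tt N89289 (iv3 F385941)) (tt N28349 F153709) (tt N31148 F344562) (tt N28348 (iv6 D99832)) (tt N59933 F344563))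
theorem Q53447 : ∀ i, i < 53447 → P i := stepQ 53446 Q53446 (allL N53446 (tt N28993 (iv1 F153713)) (tt N28349 (iv0 D99833)) (tt N28990 F344576) (tt N89290 D192194) (tt N31049 F344577) (tt N87752 (iv5 F380372)) (tt N89291 D192195) (tt N28991 F344578))
theorem Q53448 : ∀ i, i < 53448 → P i := stepQ 53447 Q53447 (allL N53447 (tt N28349 (iv1 D99834)) (tt N28993 F153710) (tt N28991 F344556) (tt N89292 D192196) (tt N54482 F344557) (tt N58644 F344558) (tt N89293 D192197) (tt N28990 F344559))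
theorem Q53449 : ∀ i, i < 53449 → P i := stepQ 53448 Q53448 (allL N53448 (tt N28991 (iv1 F153714)) (tt N28990 F153715) (tt N28993 F153711) (tt N40936 F324391) (tt N59933 F324392) (tt N40935 F324393) (tt N29036 F153712) (tt N28349 (iv7 D99835)))
theorem Q53450 : ∀ i, i < 53450 → P i := stepQ 53449 Q53449 (allL N53449 (tt N29040 (iv1 F153724)) (tt N29039 F153723) (tt N28350 (iv2 D99837)) (tt N29006 F153721) (tt N77627 (iv4 F349313)) (tt N64427 (iv5 F306483)) (tt N52301 (iv6 F293579)) (tt N29041 F153722))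
theorem Q53451 : ∀ i, i < 53451 → P i := stepQ 53450 Q53450 (allL N53450 (tt N39783 F331206) (tt N53314 F153730) (tt N53349 F157351) (tt N28351 (iv3 D99842)) (tt N53349 F153727) (tt N63287 F343272) (tt N54660 F289734) (tt N28396 F289735))
theorem Q53452 : ∀ i, i < 53452 → P i := stepQ 53451 Q53451 (allL N53451 (tt N65011 F289742) (tt N65010 F289743) (tt N28971 (iv2 F157358)) (tt N63287 (iv3 F357230)) (tt N76598 F357231) (tt N28351 (iv5 D99843)) (tt N63292 F357232) (tt N28397 F289744))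
theorem Q53453 : ∀ i, i < 53453 → P i := stepQ 53452 Q53452 (allL N53452 (tt N28975 (iv1 F153735)) (tt N28974 F153736) (tt N28353 F153732) (tt N29022 F153733) (tt N89294 D192198) (tt N28352 (iv5 D99845)) (tt N39194 F333134) (tt N28972 F153734))
theorem Q53454 : ∀ i, i < 53454 → P i := stepQ 53453 Q53453 (allL N53453 (tt N50059 F294518) (tt N28406 (iv0 F289775)) (tt N28354 F153737) (tt N29023 F153738) (tt N49083 F153739) (tt N52914 F289739) (tt N28352 (iv6 D99846)) (tt N54736 (iv7 F157514)))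
theorem Q53455 : ∀ i, i < 53455 → P i := stepQ 53454 Q53454 (allL N53454 (tt N28972 (iv1 F153740)) (tt N28353 (iv0 D99847)) (tt N28975 F290009) (tt N39175 F329307) (tt N89295 D192199) (tt N49796 (iv5 F343260)) (tt N72603 (iv6 F343256)) (tt N28974 F290010))
theorem Q53456 : ∀ i, i < 53456 → P i := stepQ 53455 Q53455 (allL N53455 (tt N28353 (iv1 D99848)) (tt N28972 F153741) (tt N28974 F290003) (tt N39782 F356212) (tt N89296 D192200) (tt N49452 (iv5 F290002)) (tt N89297 D192201) (tt N28975 F290004))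
theorem Q53457 : ∀ i, i < 53457 → P i := stepQ 53456 Q53456 (allL N53456 (tt N89298 D192202) (tt N89299 D192203) (tt N89294 (iv2 F385958)) (tt N89300 D192204) (tt N28353 (iv4 D99849)) (tt N89301 D192205) (tt N39195 F333135) (tt N28976 F153742))
theorem Q53458 : ∀ i, i < 53458 → P i := stepQ 53457 Q53457 (allL N53457 (tt N37361 F325973) (tt N38456 F325974) (tt N52914 F290062) (tt N28357 F153744) (tt N37660 F325975) (tt N28354 (iv5 D99853)) (tt N39196 F330994) (tt N37657 F325977))
theorem Q53459 : ∀ i, i < 53459 → P i := stepQ 53458 Q53458 (allL N53458 (tt N89302 D192206) (tt N89303 D192207) (tt N75929 F353161) (tt N28355 (iv3 D99854)) (tt N89300 (iv4 F385986)) (tt N55109 (iv5 F353166)) (tt N89304 D192208) (tt N28988 F153746))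
theorem Q53460 : ∀ i, i < 53460 → P i := stepQ 53459 Q53459 (allL N53459 (tt N62486 F333110) (tt N70956 F333111) (tt N29032 F153747) (tt N89304 (iv3 F386001)) (tt N28356 F153748) (tt N89305 D192209) (tt N28355 (iv6 D99855)) (tt N71835 F333112))
theorem Q53461 : ∀ i, i < 53461 → P i := stepQ 53460 Q53460 (allL N53460 (tt N29036 (iv1 F153754)) (tt N28356 (iv0 D99856)) (tt N29033 F333105) (tt N39756 F333094) (tt N39658 F333095) (tt N88673 (iv5 F383836)) (tt N89306 D192210) (tt N29034 F333106))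
theorem Q53462 : ∀ i, i < 53462 → P i := stepQ 53461 Q53461 (allL N53461 (tt N28356 (iv1 D99857)) (tt N29036 F153749) (tt N29034 F333107) (tt N39177 F333103) (tt N39659 F333104) (tt N83982 (iv5 F367709)) (tt N88626 F383638) (tt N29033 F333108))
theorem Q53463 : ∀ i, i < 53463 → P i := stepQ 53462 Q53462 (allL N53462 (tt N89307 D192211) (tt N89308 D192212) (tt N29035 F153750) (tt N39196 F333113) (tt N87662 (iv4 F380030)) (tt N28356 (iv5 D99858)) (tt N28357 F153751) (tt N78093 F333137))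
theorem Q53464 : ∀ i, i < 53464 → P i := stepQ 53463 Q53463 (allL N53463 (tt N29034 (iv1 F153755)) (tt N29033 F153756) (tt N29036 F153752) (tt N39189 F333091) (tt N71835 F333092) (tt N78093 F333093) (tt N28993 F153753) (tt N28356 (iv7 D99859)))
theorem Q53465 : ∀ i, i < 53465 → P i := stepQ 53464 Q53464 (allL N53464 (tt N89309 D192213) (tt N28751 F356387) (tt N49010 F153764) (tt N89113 (iv3 F385206)) (tt N89310 D192214) (tt N28358 (iv5 D99863)) (tt N45349 F302073) (tt N89311 D192215))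
theorem Q53466 : ∀ i, i < 53466 → P i := stepQ 53465 Q53465 (allL N53465 (tt N28744 F289609) (tt N28701 F289610) (tt N28743 F289611) (tt N87803 (iv3 F380572)) (tt N28955 (iv4 F289630)) (tt N89311 (iv5 F386041)) (tt N28955 F289654) (tt N28358 (iv7 D99864)))
theorem Q53467 : ∀ i, i < 53467 → P i := stepQ 53466 Q53466 (allL N53466 (tt N48824 F336647) (tt N49108 F336648) (tt N49009 F153773) (tt N28570 F153774) (tt N89312 D192216) (tt N28359 (iv5 D99867)) (tt N35182 F302072) (tt N49081 F289620))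
theorem Q53468 : ∀ i, i < 53468 → P i := stepQ 53467 Q53467 (allL N53467 (tt N61393 (iv1 F335368)) (tt N54937 (iv0 F177437)) (tt N85381 (iv2 F372417)) (tt N28360 (iv3 D99870)) (tt N55055 F158521) (tt N89313 D192217) (tt N84879 (iv6 F370982)) (tt N80612 (iv7 F268829)))
theorem Q53469 : ∀ i, i < 53469 → P i := stepQ 53468 Q53468 (allL N53468 (tt N85647 (iv1 F373362)) (tt N50615 (iv0 F345045)) (tt N80611 (iv2 F268820)) (tt N89313 (iv3 F386048)) (tt N72305 (iv4 F345059)) (tt N28360 (iv5 D99871)) (tt N89314 D192218) (tt N64798 (iv7 F355606)))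
theorem Q53470 : ∀ i, i < 53470 → P i := stepQ 53469 Q53469 (allL N53469 (tt N50615 F356409) (tt N85647 F373363) (tt N64798 (iv2 F355603)) (tt N85380 (iv3 F372413)) (tt N72308 F355607) (tt N28361 (iv5 D99874)) (tt N64493 F355608) (tt N80611 (iv7 F268822)))
theorem Q53471 : ∀ i, i < 53471 → P i := stepQ 53470 Q53470 (allL N53470 (tt N48644 F356416) (tt N64761 (iv0 F356439)) (tt N80613 (iv2 F268834)) (tt N28870 F356411) (tt N49015 F153788) (tt N84127 (iv5 F368213)) (tt N28361 (iv6 D99875)) (tt N85452 (iv7 F372665)))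
theorem Q53472 : ∀ i, i < 53472 → P i := stepQ 53471 Q53471 (allL N53471 (tt N69720 (iv1 F337436)) (tt N28362 (iv0 D99876)) (tt N80614 (iv2 F345050)) (tt N61391 F349167) (tt N59485 (iv4 F345072)) (tt N72619 F345055) (tt N89315 D192219) (tt N80615 (iv7 F345053)))
theorem Q53473 : ∀ i, i < 53473 → P i := stepQ 53472 Q53472 (allL N53472 (tt N28362 (iv1 D99877)) (tt N69720 (iv0 F337435)) (tt N80615 (iv2 F345056)) (tt N85384 (iv3 F372435)) (tt N59484 F345057) (tt N72606 (iv5 F329817)) (tt N89316 D192220) (tt N80614 (iv7 F345058)))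
theorem Q53474 : ∀ i, i < 53474 → P i := stepQ 53473 Q53473 (allL N53473 (tt N76869 (iv1 F304641)) (tt N76875 (iv0 F307578)) (tt N48997 F155829) (tt N28668 (iv3 F155371)) (tt N72235 F339632) (tt N54127 F156033) (tt N28363 (iv6 D99882)) (tt N76874 (iv7 F307568)))
theorem Q53475 : ∀ i, i < 53475 → P i := stepQ 53474 Q53474 (allL N53474 (tt N49000 (iv1 F153797)) (tt N28365 (iv0 D99888)) (tt N35109 (iv2 F304652)) (tt N28672 F156459) (tt N58343 (iv4 F332979)) (tt N35092 (iv5 F304672)) (tt N89317 D192221) (tt N35106 (iv7 F304657)))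
theorem Q53476 : ∀ i, i < 53476 → P i := stepQ 53475 Q53475 (allL N53475 (tt N28365 (iv1 D99889)) (tt N49000 F153791) (tt N35106 (iv2 F304656)) (tt N76479 F357805) (tt N89318 D192222) (tt N35091 (iv5 F304673)) (tt N89319 D192223) (tt N35109 (iv7 F304653)))
theorem Q53477 : ∀ i, i < 53477 → P i := stepQ 53476 Q53476 (allL N53476 (tt N83105 (iv1 F286554)) (tt N83107 (iv0 F286005)) (tt N48999 F153793) (tt N77101 F365934) (tt N28365 (iv4 D99890)) (tt N89320 D192224) (tt N28369 F153794) (tt N89321 D192225))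
theorem Q53478 : ∀ i, i < 53478 → P i := stepQ 53477 Q53477 (allL N53477 (tt N35106 (iv1 F304655)) (tt N35109 (iv0 F304650)) (tt N49000 F153795) (tt N35152 F302087) (tt N89321 (iv4 F386084)) (tt N28366 F153796) (tt N66347 F355069) (tt N28365 (iv7 D99891)))
theorem Q53479 : ∀ i, i < 53479 → P i := stepQ 53478 Q53478 (allL N53478 (tt N48895 F153803) (tt N29352 F153804) (tt N29295 F294721) (tt N58347 F351131) (tt N28367 (iv4 D99892)) (tt N29229 F294722) (tt N85238 F372002) (tt N29323 F294723))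
theorem Q53480 : ∀ i, i < 53480 → P i := stepQ 53479 Q53479 (allL N53479 (tt N43291 F372003) (tt N89322 D192226) (tt N49002 F153805) (tt N28676 F153806) (tt N85238 F372004) (tt N49074 F153807) (tt N28367 (iv6 D99893)) (tt N89323 D192227))
theorem Q53481 : ∀ i, i < 53481 → P i := stepQ 53480 Q53480 (allL N53480 (tt N29352 F153814) (tt N48895 F153815) (tt N29323 F294718) (tt N89324 D192228) (tt N28368 (iv4 D99895)) (tt N29296 F294719) (tt N89325 D192229) (tt N29295 F294720))
theorem Q53482 : ∀ i, i < 53482 → P i := stepQ 53481 Q53481 (allL N53481 (tt N89326 D192230) (tt N89327 D192231) (tt N29324 F294453) (tt N88786 (iv3 F384142)) (tt N89325 (iv4 F386111)) (tt N48660 F294454) (tt N28368 (iv6 D99896)) (tt N89328 D192232))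
theorem Q53483 : ∀ i, i < 53483 → P i := stepQ 53482 Q53482 (allL N53482 (tt N89040 (iv1 F384928)) (tt N28515 F363115) (tt N52856 F153841) (tt N46722 F153842) (tt N75997 (iv4 F235328)) (tt N89329 D192233) (tt N28376 (iv6 D99911)) (tt N89039 (iv7 F384923)))
theorem Q53484 : ∀ i, i < 53484 → P i := stepQ 53483 Q53483 (allL N53483 (tt N76705 (iv1 F362360)) (tt N28537 F157639) (tt N84984 (iv2 F371258)) (tt N53300 F153843) (tt N89330 D192234) (tt N28377 (iv5 D99914)) (tt N89329 (iv6 F386137)) (tt N89052 (iv7 F384976)))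
theorem Q53485 : ∀ i, i < 53485 → P i := stepQ 53484 Q53484 (allL N53484 (tt N28422 F357452) (tt N89004 F384783) (tt N52854 F153845) (tt N78483 (iv3 F306786)) (tt N76532 (iv4 F357446)) (tt N89331 D192235) (tt N28378 (iv6 D99916)) (tt N89003 (iv7 F384774)))
theorem Q53486 : ∀ i, i < 53486 → P i := stepQ 53485 Q53485 (allL N53485 (tt N28449 F367251) (tt N89021 F384843) (tt N84983 (iv2 F371254)) (tt N87051 (iv3 F378185)) (tt N89332 D192236) (tt N28379 (iv5 D99919)) (tt N89331 (iv6 F386145)) (tt N85333 (iv7 F372267)))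
theorem Q53487 : ∀ i, i < 53487 → P i := stepQ 53486 Q53486 (allL N53486 (tt N28384 F153847) (tt N28380 (iv0 D99921)) (tt N28381 F160547) (tt N49131 F158400) (tt N50955 F153846) (tt N89333 D192237) (tt N85339 F372293) (tt N28382 F160548))
theorem Q53488 : ∀ i, i < 53488 → P i := stepQ 53487 Q53487 (allL N53487 (tt N28380 (iv1 D99922)) (tt N28384 F153848) (tt N28382 F160543) (tt N52724 (iv3 F153850)) (tt N50936 (iv4 F153849)) (tt N89334 D192238) (tt N50791 (iv6 F367130)) (tt N28381 F160544))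
theorem Q53489 : ∀ i, i < 53489 → P i := stepQ 53488 Q53488 (allL N53488 (tt N89335 D192239) (tt N88524 (iv0 F383396)) (tt N28383 F153851) (tt N48917 F153852) (tt N83387 F287512) (tt N28380 (iv5 D99923)) (tt N88606 (iv6 F383579)) (tt N89336 D192240))
theorem Q53490 : ∀ i, i < 53490 → P i := stepQ 53489 Q53489 (allL N53489 (tt N28382 (iv1 F153857)) (tt N28381 (iv0 F153858)) (tt N28384 F153853) (tt N48835 F153854) (tt N50887 F153855) (tt N89336 (iv5 F386168)) (tt N28965 F153856) (tt N28380 (iv7 D99924)))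
theorem Q53491 : ∀ i, i < 53491 → P i := stepQ 53490 Q53490 (allL N53490 (tt N49057 F153861) (tt N48968 F290227) (tt N50955 (iv2 F160560)) (tt N49231 F153860) (tt N28381 (iv4 D99926)) (tt N33024 F335802) (tt N89337 D192241) (tt N50936 F160546))
theorem Q53492 : ∀ i, i < 53492 → P i := stepQ 53491 Q53491 (allL N53491 (tt N89338 D192242) (tt N84740 F386154) (tt N89333 (iv2 F386148)) (tt N83021 (iv3 F285529)) (tt N89339 D192243) (tt N28381 (iv5 D99927)) (tt N89340 D192244) (tt N89334 (iv7 F386157)))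
theorem Q53493 : ∀ i, i < 53493 → P i := stepQ 53492 Q53492 (allL N53492 (tt N83561 F288154) (tt N50209 (iv0 F367246)) (tt N85339 F372292) (tt N83022 (iv3 F285530)) (tt N89337 (iv4 F386173)) (tt N89341 D192245) (tt N28381 (iv6 D99928)) (tt N84751 (iv7 F370475)))
theorem Q53494 : ∀ i, i < 53494 → P i := stepQ 53493 Q53493 (allL N53493 (tt N48968 F290228) (tt N49057 (iv0 F153866)) (tt N50936 F160561) (tt N50953 F153863) (tt N28382 (iv4 D99931)) (tt N61700 F339548) (tt N84448 (iv6 F369318)) (tt N50955 F160549))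
theorem Q53495 : ∀ i, i < 53495 → P i := stepQ 53494 Q53494 (allL N53494 (tt N84740 F370438) (tt N89338 F386180) (tt N89334 (iv2 F386155)) (tt N87055 (iv3 F378207)) (tt N61862 (iv4 F363752)) (tt N28382 (iv5 D99932)) (tt N89342 D192246) (tt N89333 (iv7 F386150)))
theorem Q53496 : ∀ i, i < 53496 → P i := stepQ 53495 Q53495 (allL N53495 (tt N89336 (iv1 F386170)) (tt N28383 (iv0 D99934)) (tt N89335 F386161) (tt N89343 D192247) (tt N89344 D192248) (tt N84001 F375477) (tt N89345 D192249) (tt N88524 (iv7 F383395)))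
theorem Q53497 : ∀ i, i < 53497 → P i := stepQ 53496 Q53496 (allL N53496 (tt N28383 (iv1 D99935)) (tt N89336 F386169) (tt N88524 (iv2 F383394)) (tt N54624 (iv3 F372390)) (tt N89346 D192250) (tt N84002 (iv5 F367773)) (tt N54623 F372389) (tt N89335 (iv7 F386162)))
theorem Q53498 : ∀ i, i < 53498 → P i := stepQ 53497 Q53497 (allL N53497 (tt N83383 (iv1 F287506)) (tt N83050 (iv0 F285697)) (tt N83387 (iv2 F287513)) (tt N89347 D192251) (tt N28383 (iv4 D99936)) (tt N57552 F359542) (tt N78026 (iv6 F359544)) (tt N83386 F287511))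
theorem Q53499 : ∀ i, i < 53499 → P i := stepQ 53498 Q53498 (allL N53498 (tt N88524 (iv1 F383398)) (tt N89335 F386164) (tt N89336 (iv2 F386166)) (tt N28387 F153867) (tt N83386 (iv4 F287510)) (tt N28384 F153868) (tt N89348 D192252) (tt N28383 (iv7 D99937)))
theorem Q53500 : ∀ i, i < 53500 → P i := stepQ 53499 Q53499 (allL N53499 (tt N88419 (iv1 F382967)) (tt N28485 (iv0 F153869)) (tt N81886 (iv2 F362123)) (tt N28385 (iv3 D99938)) (tt N89349 D192253) (tt N51098 F365645) (tt N89350 D192254) (tt N83877 (iv7 F367332)))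
theorem Q53501 : ∀ i, i < 53501 → P i := stepQ 53500 Q53500 (allL N53500 (tt N53865 F378898) (tt N89351 D192255) (tt N84379 (iv2 F369078)) (tt N89350 (iv3 F386215)) (tt N83465 (iv4 F378897)) (tt N51099 (iv5 F367263)) (tt N28385 (iv6 D99939)) (tt N89352 D192256))
theorem Q53502 : ∀ i, i < 53502 → P i := stepQ 53501 Q53501 (allL N53501 (tt N89353 D192257) (tt N89354 D192258) (tt N89355 D192259) (tt N28386 (iv3 D99940)) (tt N89347 (iv4 F386209)) (tt N84723 (iv5 F370348)) (tt N88614 (iv6 F383592)) (tt N89356 D192260))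
theorem Q53503 : ∀ i, i < 53503 → P i := stepQ 53502 Q53502 (allL N53502 (tt N49694 (iv1 F153871)) (tt N52735 F153872) (tt N54613 F157149) (tt N89356 (iv3 F386232)) (tt N28387 F153870) (tt N50781 (iv5 F290627)) (tt N89357 D192261) (tt N28386 (iv7 D99942)))
theorem Q53504 : ∀ i, i < 53504 → P i := stepQ 53503 Q53503 (allL N53503 (tt N89358 D192262) (tt N89359 D192263) (tt N84376 (iv2 F369069)) (tt N89348 (iv3 F386210)) (tt N89357 (iv4 F386235)) (tt N28968 F153873) (tt N28387 (iv6 D99943)) (tt N88616 (iv7 F383597)))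
theorem Q53505 : ∀ i, i < 53505 → P i := stepQ 53504 Q53504 (allL N53504 (tt N28533 F283730) (tt N82964 (iv0 F285128)) (tt N29344 F153877) (tt N48859 F153878) (tt N32974 F329997) (tt N28389 (iv5 D99945)) (tt N34118 F364670) (tt N34136 F329998))
theorem Q53506 : ∀ i, i < 53506 → P i := stepQ 53505 Q53505 (allL N53505 (tt N89263 (iv1 F385833)) (tt N86756 (iv0 F377073)) (tt N28393 F153879) (tt N84985 (iv3 F371264)) (tt N89360 D192264) (tt N28390 (iv5 D99946)) (tt N88618 (iv6 F383606)) (tt N89262 (iv7 F385830)))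
theorem Q53507 : ∀ i, i < 53507 → P i := stepQ 53506 Q53506 (allL N53506 (tt N39742 F329330) (tt N28984 F159759) (tt N39743 F329331) (tt N29353 F153880) (tt N89361 D192265) (tt N28391 (iv5 D99947)) (tt N89362 D192266) (tt N29365 F153881))
theorem Q53508 : ∀ i, i < 53508 → P i := stepQ 53507 Q53507 (allL N53507 (tt N89262 (iv1 F385832)) (tt N28393 (iv0 D99951)) (tt N89263 (iv2 F385836)) (tt N48851 F155996) (tt N89363 D192267) (tt N55308 (iv5 F361849)) (tt N89364 D192268) (tt N86756 (iv7 F377072)))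
theorem Q53509 : ∀ i, i < 53509 → P i := stepQ 53508 Q53508 (allL N53508 (tt N28393 (iv1 D99952)) (tt N89262 (iv0 F385831)) (tt N86756 (iv2 F377070)) (tt N71137 (iv3 F365610)) (tt N89365 D192269) (tt N83932 (iv5 F367529)) (tt N71413 F365611) (tt N89263 (iv7 F385834)))
theorem Q53510 : ∀ i, i < 53510 → P i := stepQ 53509 Q53509 (allL N53509 (tt N89366 D192270) (tt N89367 D192271) (tt N89360 (iv2 F386237)) (tt N89368 D192272) (tt N28393 (iv4 D99953)) (tt N89369 D192273) (tt N88624 (iv6 F383630)) (tt N89264 (iv7 F385839)))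
theorem Q53511 : ∀ i, i < 53511 → P i := stepQ 53510 Q53510 (allL N53510 (tt N89370 D192274) (tt N89371 D192275) (tt N89372 D192276) (tt N28394 (iv3 D99954)) (tt N89368 (iv4 F386260)) (tt N84343 (iv5 F368992)) (tt N88632 (iv6 F383655)) (tt N54510 (iv7 F157061)))
theorem Q53512 : ∀ i, i < 53512 → P i := stepQ 53511 Q53511 (allL N53511 (tt N53314 F289731) (tt N39783 F331205) (tt N28396 F153891) (tt N28647 F153892) (tt N28396 F153893) (tt N63328 F327681) (tt N28395 (iv6 D99955)) (tt N53349 F289733))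
theorem Q53513 : ∀ i, i < 53513 → P i := stepQ 53512 Q53512 (allL N53512 (tt N63339 F343273) (tt N63338 F343274) (tt N63328 F343269) (tt N28397 F153894) (tt N63286 (iv4 F343268)) (tt N28396 (iv5 D99958)) (tt N65003 (iv6 F198799)) (tt N63287 F343271))
theorem Q53514 : ∀ i, i < 53514 → P i := stepQ 53513 Q53513 (allL N53513 (tt N28397 (iv1 D99971)) (tt N28971 F289741) (tt N65011 (iv2 F357221)) (tt N84405 (iv3 F369185)) (tt N89373 D192277) (tt N64315 (iv5 F195850)) (tt N89374 D192278) (tt N65010 F357227))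
theorem Q53515 : ∀ i, i < 53515 → P i := stepQ 53514 Q53514 (allL N53514 (tt N89375 D192279) (tt N54212 (iv0 F356386)) (tt N65012 (iv2 F198887)) (tt N76600 F343270) (tt N28397 (iv4 D99972)) (tt N89376 D192280) (tt N65005 (iv6 F198811)) (tt N76598 (iv7 F357235)))
theorem Q53516 : ∀ i, i < 53516 → P i := stepQ 53515 Q53515 (allL N53515 (tt N53287 (iv1 F157777)) (tt N52717 (iv0 F157746)) (tt N53285 (iv2 F157795)) (tt N28398 (iv3 D99975)) (tt N53285 (iv4 F157785)) (tt N73286 (iv5 F357366)) (tt N86395 (iv6 F376083)) (tt N28407 F154169))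
theorem Q53517 : ∀ i, i < 53517 → P i := stepQ 53516 Q53516 (allL N53516 (tt N44391 F329239) (tt N31574 (iv0 F329531)) (tt N28409 F154183) (tt N83088 (iv3 F285868)) (tt N41189 F329240) (tt N28399 (iv5 D99978)) (tt N73292 F329241) (tt N28405 F154184))
theorem Q53518 : ∀ i, i < 53518 → P i := stepQ 53517 Q53517 (allL N53517 (tt N50212 (iv1 F291474)) (tt N29045 F289889) (tt N28410 F154185) (tt N49143 (iv3 F289894)) (tt N29005 F289890) (tt N84413 (iv5 F369205)) (tt N28399 (iv6 D99979)) (tt N50211 (iv7 F292666)))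
theorem Q53519 : ∀ i, i < 53519 → P i := stepQ 53518 Q53518 (allL N53518 (tt N46720 F351962) (tt N57475 (iv0 F351961)) (tt N57477 (iv2 F313557)) (tt N28400 (iv3 D99984)) (tt N46581 F153919) (tt N89377 D192281) (tt N76498 F332466) (tt N46734 F153920))
theorem Q53520 : ∀ i, i < 53520 → P i := stepQ 53519 Q53519 (allL N53519 (tt N34977 (iv1 F302773)) (tt N34980 (iv0 F302774)) (tt N44934 F153921) (tt N89377 (iv3 F386276)) (tt N89378 D192282) (tt N28400 (iv5 D99985)) (tt N59231 F343245) (tt N46735 F153922))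
theorem Q53521 : ∀ i, i < 53521 → P i := stepQ 53520 Q53520 (allL N53520 (tt N80318 (iv1 F263595)) (tt N34807 (iv0 F153926)) (tt N44935 F153923) (tt N76498 F332465) (tt N34535 F301640) (tt N47851 (iv5 F153925)) (tt N28400 (iv6 D99986)) (tt N34531 (iv7 F302675)))
theorem Q53522 : ∀ i, i < 53522 → P i := stepQ 53521 Q53521 (allL N53521 (tt N89379 D192283) (tt N89380 D192284) (tt N83082 (iv2 F285852)) (tt N28405 F153945) (tt N89381 D192285) (tt N28403 (iv5 D99998)) (tt N73225 F329688) (tt N83088 (iv7 F285869)))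
theorem Q53523 : ∀ i, i < 53523 → P i := stepQ 53522 Q53522 (allL N53522 (tt N50436 (iv1 F358823)) (tt N89382 D192286) (tt N53202 F154197) (tt N89137 (iv3 F385314)) (tt N62206 (iv4 F345090)) (tt N28404 (iv5 D100002)) (tt N62411 (iv6 F365334)) (tt N53204 F154194))
theorem Q53524 : ∀ i, i < 53524 → P i := stepQ 53523 Q53523 (allL N53523 (tt N28405 (iv1 D100006)) (tt N28409 F153953) (tt N44391 F329689) (tt N28438 F335717) (tt N31576 F329690) (tt N50847 (iv5 F335661)) (tt N59233 F329691) (tt N31574 F329692))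
theorem Q53525 : ∀ i, i < 53525 → P i := stepQ 53524 Q53524 (allL N53524 (tt N30474 F329693) (tt N58973 F329694) (tt N58972 F329695) (tt N35552 F329696) (tt N28405 (iv4 D100007)) (tt N57582 F329697) (tt N36175 F329698) (tt N41189 F329699))
theorem Q53526 : ∀ i, i < 53526 → P i := stepQ 53525 Q53525 (allL N53525 (tt N28407 (iv1 D100015)) (tt N53285 F157796) (tt N53287 (iv2 F157778)) (tt N28434 F153963) (tt N51193 (iv4 F153962)) (tt N72529 F357355) (tt N53301 (iv6 F157800)) (tt N52717 (iv7 F157748)))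
theorem Q53527 : ∀ i, i < 53527 → P i := stepQ 53526 Q53526 (allL N53526 (tt N52717 (iv1 F157747)) (tt N53287 (iv0 F157776)) (tt N28407 (iv2 D100016)) (tt N28649 F153960) (tt N28407 (iv4 F153961)) (tt N89383 D192287) (tt N83509 (iv6 F289864)) (tt N53285 F157786))
theorem Q53528 : ∀ i, i < 53528 → P i := stepQ 53527 Q53527 (allL N53527 (tt N89384 D192288) (tt N89385 D192289) (tt N89383 (iv2 F386312)) (tt N28409 F153964) (tt N71215 F329701) (tt N28407 (iv5 D100017)) (tt N89386 D192290) (tt N73286 F329702))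
theorem Q53529 : ∀ i, i < 53529 → P i := stepQ 53528 Q53528 (allL N53528 (tt N89387 D192291) (tt N83022 (iv0 F289868)) (tt N83509 F289866) (tt N28410 F153965) (tt N83509 F289867) (tt N89388 D192292) (tt N28407 (iv6 D100018)) (tt N89389 D192293))
theorem Q53530 : ∀ i, i < 53530 → P i := stepQ 53529 Q53529 (allL N53529 (tt N89382 (iv1 F386300)) (tt N50436 F345091) (tt N53204 F154195) (tt N83079 (iv3 F285832)) (tt N62207 (iv4 F345080)) (tt N28408 (iv5 D100019)) (tt N89390 D192294) (tt N53202 (iv7 F154196)))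
theorem Q53531 : ∀ i, i < 53531 → P i := stepQ 53530 Q53530 (allL N53530 (tt N58973 F329703) (tt N30474 F329704) (tt N41189 F329705) (tt N70222 F329706) (tt N28409 (iv4 D100021)) (tt N57581 F329707) (tt N89391 D192295) (tt N58972 F329708))
theorem Q53532 : ∀ i, i < 53532 → P i := stepQ 53531 Q53531 (allL N53531 (tt N72440 F329709) (tt N70458 F329710) (tt N73292 F329711) (tt N89386 (iv3 F386320)) (tt N89391 (iv4 F386342)) (tt N89392 D192296) (tt N28409 (iv6 D100022)) (tt N73227 F329712))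
theorem Q53533 : ∀ i, i < 53533 → P i := stepQ 53532 Q53532 (allL N53532 (tt N64316 F362786) (tt N64314 (iv0 F195849)) (tt N84413 F369207) (tt N89388 (iv3 F386331)) (tt N89393 D192297) (tt N28410 (iv5 D100025)) (tt N89392 (iv6 F386347)) (tt N84414 (iv7 F369211)))
theorem Q53534 : ∀ i, i < 53534 → P i := stepQ 53533 Q53533 (allL N53533 (tt N29045 F290023) (tt N50212 (iv0 F291473)) (tt N50211 (iv2 F292662)) (tt N89389 (iv3 F386333)) (tt N29004 F290024) (tt N84414 F369212) (tt N50059 (iv6 F294270)) (tt N28410 (iv7 D100026)))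
theorem Q53535 : ∀ i, i < 53535 → P i := stepQ 53534 Q53534 (allL N53534 (tt N80699 F312610) (tt N89394 D192298) (tt N28413 F153971) (tt N48920 F153972) (tt N46865 F312611) (tt N89395 D192299) (tt N28411 (iv6 D100040)) (tt N89396 D192300))
theorem Q53536 : ∀ i, i < 53536 → P i := stepQ 53535 Q53535 (allL N53535 (tt N44751 F344415) (tt N46866 F344416) (tt N46865 F312609) (tt N80690 (iv3 F270504)) (tt N28413 F153973) (tt N82068 (iv5 F278246)) (tt N28412 (iv6 D100041)) (tt N44715 F315067))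
theorem Q53537 : ∀ i, i < 53537 → P i := stepQ 53536 Q53536 (allL N53536 (tt N89396 (iv1 F386365)) (tt N28413 (iv0 D100042)) (tt N80699 F344417) (tt N34861 F344418) (tt N79406 F344419) (tt N89397 D192301) (tt N89398 D192302) (tt N89394 (iv7 F386353)))
theorem Q53538 : ∀ i, i < 53538 → P i := stepQ 53537 Q53537 (allL N53537 (tt N28413 (iv1 D100043)) (tt N89396 F386364) (tt N89394 (iv2 F386356)) (tt N82825 F354008) (tt N80667 (iv4 F354006)) (tt N89399 D192303) (tt N89400 D192304) (tt N80699 F354007))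
theorem Q53539 : ∀ i, i < 53539 → P i := stepQ 53538 Q53538 (allL N53538 (tt N89401 D192305) (tt N89402 D192306) (tt N89395 (iv2 F386357)) (tt N28416 F153974) (tt N89403 D192307) (tt N28413 (iv5 D100044)) (tt N49440 F153975) (tt N89404 D192308))
theorem Q53540 : ∀ i, i < 53540 → P i := stepQ 53539 Q53539 (allL N53539 (tt N89394 (iv1 F386352)) (tt N80699 F310670) (tt N89396 (iv2 F386360)) (tt N28417 F153976) (tt N44715 F302450) (tt N89404 (iv5 F386375)) (tt N44714 F302451) (tt N28413 (iv7 D100045)))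
theorem Q53541 : ∀ i, i < 53541 → P i := stepQ 53540 Q53540 (allL N53540 (tt N43547 F307488) (tt N28496 F307489) (tt N34805 F307490) (tt N28414 (iv3 D100047)) (tt N43549 F307491) (tt N89405 D192309) (tt N89406 D192310) (tt N43549 (iv7 F308586)))
theorem Q53542 : ∀ i, i < 53542 → P i := stepQ 53541 Q53541 (allL N53541 (tt N83925 (iv1 F367514)) (tt N88919 F384534) (tt N52888 F274655) (tt N89405 (iv3 F386377)) (tt N89407 D192311) (tt N28414 (iv5 D100049)) (tt N89408 D192312) (tt N52890 (iv7 F274656)))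
theorem Q53543 : ∀ i, i < 53543 → P i := stepQ 53542 Q53542 (allL N53542 (tt N28429 F274584) (tt N89011 F384809) (tt N52889 F274651) (tt N89406 (iv3 F386381)) (tt N44793 F249127) (tt N81920 F338087) (tt N28414 (iv6 D100050)) (tt N81406 (iv7 F274976)))
theorem Q53544 : ∀ i, i < 53544 → P i := stepQ 53543 Q53543 (allL N53543 (tt N88919 (iv1 F384535)) (tt N83925 (iv0 F367513)) (tt N52890 F274654) (tt N34808 F306707) (tt N89409 D192313) (tt N28415 (iv5 D100054)) (tt N89410 D192314) (tt N52888 F274653))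
theorem Q53545 : ∀ i, i < 53545 → P i := stepQ 53544 Q53544 (allL N53544 (tt N52973 F249712) (tt N28514 F249713) (tt N52891 F274637) (tt N34809 F306708) (tt N44795 F249130) (tt N64604 (iv5 F304693)) (tt N28415 (iv6 D100055)) (tt N88649 (iv7 F383704)))
theorem Q53546 : ∀ i, i < 53546 → P i := stepQ 53545 Q53545 (allL N53545 (tt N52895 (iv1 F153986)) (tt N28416 (iv0 D100056)) (tt N52892 F275100) (tt N89411 D192315) (tt N89412 D192316) (tt N53129 (iv5 F153988)) (tt N89413 D192317) (tt N52893 F275093))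
theorem Q53547 : ∀ i, i < 53547 → P i := stepQ 53546 Q53546 (allL N53546 (tt N28416 (iv1 D100057)) (tt N52895 F153980) (tt N52893 F275092) (tt N34811 F311783) (tt N89414 D192318) (tt N48199 F311784) (tt N89415 D192319) (tt N52892 (iv7 F275101)))
theorem Q53548 : ∀ i, i < 53548 → P i := stepQ 53547 Q53547 (allL N53547 (tt N84167 (iv1 F368405)) (tt N84169 (iv0 F368407)) (tt N52894 F153982) (tt N89416 D192320) (tt N28416 (iv4 D100058)) (tt N89417 D192321) (tt N49442 F153983) (tt N89418 D192322))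
theorem Q53549 : ∀ i, i < 53549 → P i := stepQ 53548 Q53548 (allL N53548 (tt N52893 (iv1 F153987)) (tt N52892 F153989) (tt N52895 F153984) (tt N89404 (iv3 F386374)) (tt N89418 (iv4 F386422)) (tt N28417 F153985) (tt N89419 D192323) (tt N28416 (iv7 D100059)))
theorem Q53550 : ∀ i, i < 53550 → P i := stepQ 53549 Q53549 (allL N53549 (tt N36543 F153998) (tt N46132 F153999) (tt N54131 (iv2 F156067)) (tt N46128 F153996) (tt N64658 (iv4 F197993)) (tt N28418 (iv5 D100061)) (tt N48239 F305584) (tt N52876 F153997))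
theorem Q53551 : ∀ i, i < 53551 → P i := stepQ 53550 Q53550 (allL N53550 (tt N52320 F301163) (tt N64367 F301164) (tt N52382 F301165) (tt N42737 F301166) (tt N28419 F154000) (tt N63409 F301167) (tt N28418 (iv6 D100062)) (tt N76142 F301168))
theorem Q53552 : ∀ i, i < 53552 → P i := stepQ 53551 Q53551 (allL N53551 (tt N28419 (iv1 D100064)) (tt N43462 (iv0 F300229)) (tt N42687 (iv2 F300224)) (tt N34486 (iv3 F300234)) (tt N42693 F297899) (tt N64593 F297900) (tt N89420 D192324) (tt N34874 (iv7 F300223)))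
theorem Q53553 : ∀ i, i < 53553 → P i := stepQ 53552 Q53552 (allL N53552 (tt N43483 F302984) (tt N89421 D192325) (tt N79125 (iv2 F303941)) (tt N28420 F154001) (tt N35044 F302985) (tt N28419 (iv5 D100065)) (tt N49446 F154002) (tt N53884 F302986))
theorem Q53554 : ∀ i, i < 53554 → P i := stepQ 53553 Q53553 (allL N53553 (tt N42687 F301794) (tt N34874 F301795) (tt N43462 F301796) (tt N28421 F154003) (tt N76142 F301797) (tt N53884 F301798) (tt N52880 F154004) (tt N28419 (iv7 D100066)))
theorem Q53555 : ∀ i, i < 53555 → P i := stepQ 53554 Q53554 (allL N53554 (tt N28420 (iv1 D100078)) (tt N51850 F305510) (tt N34863 F305511) (tt N43110 F305512) (tt N42595 (iv4 F307537)) (tt N34956 (iv5 F306529)) (tt N89422 D192326) (tt N45270 F305513))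
theorem Q53556 : ∀ i, i < 53556 → P i := stepQ 53555 Q53555 (allL N53555 (tt N89004 (iv1 F384782)) (tt N28422 (iv0 D100087)) (tt N89003 (iv2 F384776)) (tt N57475 (iv3 F351959)) (tt N68358 F351958) (tt N89423 D192327) (tt N89039 F384924) (tt N52854 F351960))
theorem Q53557 : ∀ i, i < 53557 → P i := stepQ 53556 Q53556 (allL N53556 (tt N89003 F384779) (tt N52854 (iv0 F351946)) (tt N28422 (iv2 D100089)) (tt N48921 (iv3 F232751)) (tt N89424 D192328) (tt N89425 D192329) (tt N38906 F323428) (tt N89004 (iv7 F384781)))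
theorem Q53558 : ∀ i, i < 53558 → P i := stepQ 53557 Q53557 (allL N53557 (tt N79289 F253928) (tt N54078 (iv0 F155902)) (tt N89424 (iv2 F386449)) (tt N38074 F323429) (tt N28422 (iv4 D100090)) (tt N79332 F364245) (tt N38072 F323430) (tt N89005 (iv7 F384785)))
theorem Q53559 : ∀ i, i < 53559 → P i := stepQ 53558 Q53558 (allL N53558 (tt N89426 D192330) (tt N89427 D192331) (tt N89425 (iv2 F386454)) (tt N28424 F154027) (tt N89428 D192332) (tt N28422 (iv5 D100091)) (tt N89429 D192333) (tt N89006 (iv7 F384789)))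
theorem Q53560 : ∀ i, i < 53560 → P i := stepQ 53559 Q53559 (allL N53559 (tt N89430 D192334) (tt N80689 F358078) (tt N68589 F358075) (tt N28423 (iv3 D100096)) (tt N38074 F358076) (tt N89431 D192335) (tt N38073 F358077) (tt N47201 F274995))
theorem Q53561 : ∀ i, i < 53561 → P i := stepQ 53560 Q53560 (allL N53560 (tt N89207 (iv1 F385597)) (tt N89432 D192336) (tt N47199 F274998) (tt N89431 (iv3 F386468)) (tt N89433 D192337) (tt N28423 (iv5 D100097)) (tt N89434 D192338) (tt N47202 F274999))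
theorem Q53562 : ∀ i, i < 53562 → P i := stepQ 53561 Q53561 (allL N53561 (tt N80696 (iv1 F275041)) (tt N84147 F368333) (tt N47200 F275000) (tt N38073 F323426) (tt N28425 F154032) (tt N78563 F249455) (tt N28423 (iv6 D100098)) (tt N68580 (iv7 F324757)))
theorem Q53563 : ∀ i, i < 53563 → P i := stepQ 53562 Q53562 (allL N53562 (tt N28428 (iv1 F154041)) (tt N28424 (iv0 D100100)) (tt N79425 (iv2 F366784)) (tt N89435 D192339) (tt N89436 D192340) (tt N52944 F154036) (tt N89437 D192341) (tt N89000 (iv7 F384748)))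
theorem Q53564 : ∀ i, i < 53564 → P i := stepQ 53563 Q53563 (allL N53563 (tt N28424 (iv1 D100101)) (tt N28428 F154037) (tt N89000 F384750) (tt N34977 F310556) (tt N89438 D192342) (tt N34976 F310557) (tt N85342 F372302) (tt N79425 F310558))
theorem Q53565 : ∀ i, i < 53565 → P i := stepQ 53564 Q53564 (allL N53564 (tt N89214 (iv1 F385630)) (tt N89439 D192343) (tt N89001 (iv2 F384766)) (tt N89440 D192344) (tt N28424 (iv4 D100102)) (tt N89441 D192345) (tt N89442 D192346) (tt N89008 (iv7 F384793)))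
theorem Q53566 : ∀ i, i < 53566 → P i := stepQ 53565 Q53565 (allL N53565 (tt N88946 (iv1 F384581)) (tt N59024 (iv0 F350402)) (tt N89002 (iv2 F384770)) (tt N89429 (iv3 F386459)) (tt N89442 (iv4 F386526)) (tt N53136 F154038) (tt N28424 (iv6 D100103)) (tt N89443 D192347))
theorem Q53567 : ∀ i, i < 53567 → P i := stepQ 53566 Q53566 (allL N53566 (tt N28425 (iv1 D100106)) (tt N53133 F154042) (tt N81200 F301808) (tt N34529 F301809) (tt N45520 F301810) (tt N65362 F286903) (tt N79166 F301811) (tt N34848 F301812))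
theorem Q53568 : ∀ i, i < 53568 → P i := stepQ 53567 Q53567 (allL N53567 (tt N81200 F301803) (tt N34848 F301804) (tt N53133 F154043) (tt N38907 F323427) (tt N68580 (iv4 F324754)) (tt N49468 (iv5 F275020)) (tt N89011 (iv6 F384808)) (tt N28425 (iv7 D100107)))
theorem Q53569 : ∀ i, i < 53569 → P i := stepQ 53568 Q53568 (allL N53568 (tt N28426 (iv1 D100110)) (tt N48921 F232753) (tt N44540 (iv2 F309597)) (tt N42788 F232755) (tt N34120 F307749) (tt N89444 D192348) (tt N34119 F307750) (tt N42786 F232749))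
theorem Q53570 : ∀ i, i < 53570 → P i := stepQ 53569 Q53569 (allL N53569 (tt N42786 F275042) (tt N44540 F311802) (tt N28426 (iv2 D100111)) (tt N89004 (iv3 F384780)) (tt N89445 D192349) (tt N89446 D192350) (tt N89447 D192351) (tt N48921 (iv7 F232752)))
theorem Q53571 : ∀ i, i < 53571 → P i := stepQ 53570 Q53570 (allL N53570 (tt N82951 F339025) (tt N66828 (iv0 F339024)) (tt N89445 (iv2 F386534)) (tt N57703 F339022) (tt N28426 (iv4 D100112)) (tt N73336 (iv5 F357075)) (tt N89448 D192352) (tt N68560 (iv7 F359885)))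
theorem Q53572 : ∀ i, i < 53572 → P i := stepQ 53571 Q53571 (allL N53571 (tt N89449 D192353) (tt N89450 D192354) (tt N89446 (iv2 F386539)) (tt N28428 F154047) (tt N89451 D192355) (tt N28426 (iv5 D100113)) (tt N89452 D192356) (tt N88998 (iv7 F384739)))
theorem Q53573 : ∀ i, i < 53573 → P i := stepQ 53572 Q53572 (allL N53572 (tt N89453 D192357) (tt N89454 D192358) (tt N89447 (iv2 F386542)) (tt N28429 F154048) (tt N89448 (iv4 F386544)) (tt N89455 D192359) (tt N28426 (iv6 D100114)) (tt N89456 D192360))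
theorem Q53574 : ∀ i, i < 53574 → P i := stepQ 53573 Q53573 (allL N53573 (tt N47961 (iv1 F194826)) (tt N64274 (iv0 F194825)) (tt N64273 F274986) (tt N28427 (iv3 D100115)) (tt N57703 (iv4 F339023)) (tt N79415 (iv5 F357019)) (tt N80313 (iv6 F357026)) (tt N47198 F274987))
theorem Q53575 : ∀ i, i < 53575 → P i := stepQ 53574 Q53574 (allL N53574 (tt N89432 (iv1 F386475)) (tt N89207 (iv0 F385596)) (tt N47202 F274988) (tt N79415 F357020) (tt N89457 D192361) (tt N28427 (iv5 D100116)) (tt N89458 D192362) (tt N47199 F274989))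
theorem Q53576 : ∀ i, i < 53576 → P i := stepQ 53575 Q53575 (allL N53575 (tt N89459 D192363) (tt N80693 F274983) (tt N47203 F274984) (tt N80313 F357028) (tt N28429 F154049) (tt N89460 D192364) (tt N28427 (iv6 D100117)) (tt N89461 D192365))
theorem Q53577 : ∀ i, i < 53577 → P i := stepQ 53576 Q53576 (allL N53576 (tt N89439 (iv1 F386520)) (tt N89214 (iv0 F385629)) (tt N89008 (iv2 F384792)) (tt N89462 D192366) (tt N28428 (iv4 D100118)) (tt N89463 D192367) (tt N89464 D192368) (tt N89001 (iv7 F384767)))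
theorem Q53578 : ∀ i, i < 53578 → P i := stepQ 53577 Q53577 (allL N53577 (tt N59228 F342226) (tt N51099 (iv0 F367218)) (tt N89009 (iv2 F384796)) (tt N89452 (iv3 F386552)) (tt N89464 (iv4 F386589)) (tt N89465 D192369) (tt N28428 (iv6 D100119)) (tt N89466 D192370))
theorem Q53579 : ∀ i, i < 53579 → P i := stepQ 53578 Q53578 (allL N53578 (tt N89011 (iv1 F384810)) (tt N28429 (iv0 D100120)) (tt N81406 (iv2 F274979)) (tt N80318 F338074) (tt N80321 (iv4 F308609)) (tt N81845 (iv5 F338075)) (tt N88649 F383708) (tt N52889 F274981))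
theorem Q53580 : ∀ i, i < 53580 → P i := stepQ 53579 Q53579 (allL N53579 (tt N47466 (iv1 F274583)) (tt N47463 (iv0 F154541)) (tt N89010 (iv2 F384800)) (tt N89455 (iv3 F386557)) (tt N89467 D192371) (tt N28429 (iv5 D100122)) (tt N89465 (iv6 F386590)) (tt N89468 D192372))
theorem Q53581 : ∀ i, i < 53581 → P i := stepQ 53580 Q53580 (allL N53580 (tt N52889 F154052) (tt N81406 F274978) (tt N89011 (iv2 F384804)) (tt N89456 (iv3 F386560)) (tt N89461 (iv4 F386584)) (tt N89468 (iv5 F386600)) (tt N53133 F154051) (tt N28429 (iv7 D100123)))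
theorem Q53582 : ∀ i, i < 53582 → P i := stepQ 53581 Q53581 (allL N53581 (tt N89423 (iv1 F390082)) (tt N89331 (iv0 F386146)) (tt N78012 F342228) (tt N28430 (iv3 D100125)) (tt N78004 F342229) (tt N80632 F342230) (tt N78003 (iv6 F342227)) (tt N88640 (iv7 F383668)))
theorem Q53583 : ∀ i, i < 53583 → P i := stepQ 53582 Q53582 (allL N53582 (tt N53959 F155579) (tt N53247 F268289) (tt N53955 F268286) (tt N89469 D192374) (tt N28430 (iv4 D100126)) (tt N74619 (iv5 F366172)) (tt N89470 D192375) (tt N53956 F268281))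
theorem Q53584 : ∀ i, i < 53584 → P i := stepQ 53583 Q53583 (allL N53583 (tt N59214 F342222) (tt N31569 F342223) (tt N59213 F380322) (tt N78003 F342224) (tt N89470 (iv4 F386604)) (tt N49818 F154055) (tt N28430 (iv6 D100128)) (tt N59212 (iv7 F380327)))
theorem Q53585 : ∀ i, i < 53585 → P i := stepQ 53584 Q53584 (allL N53584 (tt N48922 F346704) (tt N89444 F386533) (tt N89471 D192376) (tt N28431 (iv3 D100130)) (tt N89472 D192377) (tt N77267 F346705) (tt N89473 D192378) (tt N89012 (iv7 F384815)))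
theorem Q53586 : ∀ i, i < 53586 → P i := stepQ 53585 Q53585 (allL N53585 (tt N53247 F155453) (tt N53959 F155578) (tt N53956 (iv2 F268285)) (tt N89474 D192379) (tt N28431 (iv4 D100131)) (tt N74581 (iv5 F359735)) (tt N89475 D192380) (tt N53955 (iv7 F268288)))
theorem Q53587 : ∀ i, i < 53587 → P i := stepQ 53586 Q53586 (allL N53586 (tt N88773 (iv1 F384100)) (tt N60654 (iv0 F383819)) (tt N88656 (iv2 F383755)) (tt N89473 (iv3 F386611)) (tt N89475 (iv4 F386612)) (tt N83979 (iv5 F367696)) (tt N28431 (iv6 D100132)) (tt N89476 D192381))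
theorem Q53588 : ∀ i, i < 53588 → P i := stepQ 53587 Q53587 (allL N53587 (tt N72869 (iv1 F343494)) (tt N28432 (iv0 D100133)) (tt N72874 F343486) (tt N89477 D192382) (tt N28622 F343487) (tt N89478 D192383) (tt N57804 (iv6 F385071)) (tt N72873 F343492))
theorem Q53589 : ∀ i, i < 53589 → P i := stepQ 53588 Q53588 (allL N53588 (tt N28432 (iv1 D100134)) (tt N72869 F331775) (tt N72873 F343491) (tt N89479 D192384) (tt N28623 F155571) (tt N89480 D192385) (tt N89481 D192386) (tt N72874 (iv7 F331769)))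
theorem Q53590 : ∀ i, i < 53590 → P i := stepQ 53589 Q53589 (allL N53589 (tt N89482 D192387) (tt N89483 D192388) (tt N89013 (iv2 F384821)) (tt N72883 F365349) (tt N89484 D192389) (tt N28432 (iv5 D100136)) (tt N86218 (iv6 F375416)) (tt N72875 (iv7 F365350)))
theorem Q53591 : ∀ i, i < 53591 → P i := stepQ 53590 Q53590 (allL N53590 (tt N75988 (iv1 F235258)) (tt N50805 (iv0 F154062)) (tt N75989 (iv2 F235263)) (tt N50819 F154061) (tt N28434 (iv4 D100139)) (tt N89485 D192390) (tt N84779 F370604) (tt N50928 (iv7 F157720)))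
theorem Q53592 : ∀ i, i < 53592 → P i := stepQ 53591 Q53591 (allL N53591 (tt N89021 (iv1 F384842)) (tt N28449 F369034) (tt N85333 (iv2 F372265)) (tt N72529 (iv3 F357356)) (tt N89486 D192391) (tt N28434 (iv5 D100140)) (tt N72527 F357357) (tt N84983 (iv7 F371255)))
theorem Q53593 : ∀ i, i < 53593 → P i := stepQ 53592 Q53592 (allL N53592 (tt N85336 (iv1 F372277)) (tt N85335 F372276) (tt N28436 F154075) (tt N48923 F154076) (tt N89487 D192392) (tt N28435 (iv5 D100145)) (tt N89488 D192393) (tt N85334 (iv7 F372273)))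
theorem Q53594 : ∀ i, i < 53594 → P i := stepQ 53593 Q53593 (allL N53593 (tt N85334 (iv1 F372274)) (tt N28436 (iv0 D100147)) (tt N85336 F372279) (tt N89385 (iv3 F386318)) (tt N89489 D192394) (tt N53676 F367144) (tt N47426 F367145) (tt N85335 (iv7 F372283)))
theorem Q53595 : ∀ i, i < 53595 → P i := stepQ 53594 Q53594 (allL N53594 (tt N28436 (iv1 D100148)) (tt N85334 F372275) (tt N85335 F372282) (tt N89490 D192395) (tt N89491 D192396) (tt N53677 (iv5 F362390)) (tt N89492 D192397) (tt N85336 F372281))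
theorem Q53596 : ∀ i, i < 53596 → P i := stepQ 53595 Q53595 (allL N53595 (tt N77831 F335720) (tt N86375 (iv0 F376000)) (tt N89487 (iv2 F386628)) (tt N89493 D192398) (tt N28436 (iv4 D100149)) (tt N89494 D192399) (tt N89495 D192400) (tt N85337 (iv7 F372287)))
theorem Q53597 : ∀ i, i < 53597 → P i := stepQ 53596 Q53596 (allL N53596 (tt N89496 D192401) (tt N89497 D192402) (tt N89488 (iv2 F386630)) (tt N28440 F154081) (tt N89495 (iv4 F386645)) (tt N84018 (iv5 F367819)) (tt N28436 (iv6 D100150)) (tt N89498 D192403))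
theorem Q53598 : ∀ i, i < 53598 → P i := stepQ 53597 Q53597 (allL N53597 (tt N82791 F367097) (tt N28437 (iv0 D100151)) (tt N84988 (iv2 F371288)) (tt N53356 F251754) (tt N84446 (iv4 F369309)) (tt N52985 F251755) (tt N28963 F251756) (tt N87841 (iv7 F380798)))
theorem Q53599 : ∀ i, i < 53599 → P i := stepQ 53598 Q53598 (allL N53598 (tt N28437 (iv1 D100152)) (tt N82791 F367254) (tt N87841 (iv2 F380802)) (tt N51686 F371294) (tt N88427 (iv4 F382999)) (tt N52986 (iv5 F367255)) (tt N54725 F367759) (tt N84988 (iv7 F371290)))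
theorem Q53600 : ∀ i, i < 53600 → P i := stepQ 53599 Q53599 (allL N53599 (tt N28460 F154082) (tt N28464 F154083) (tt N51036 (iv2 F292696)) (tt N57818 F335718) (tt N28438 (iv4 D100154)) (tt N50830 F354445) (tt N89499 D192404) (tt N51039 (iv7 F292917)))
theorem Q53601 : ∀ i, i < 53601 → P i := stepQ 53600 Q53600 (allL N53600 (tt N89009 F384798) (tt N89466 F386593) (tt N51099 (iv2 F365414)) (tt N59233 (iv3 F335716)) (tt N89499 (iv4 F386656)) (tt N84379 (iv5 F369081)) (tt N28438 (iv6 D100155)) (tt N59228 F335715))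
theorem Q53602 : ∀ i, i < 53602 → P i := stepQ 53601 Q53601 (allL N53601 (tt N76892 F359354) (tt N75182 F359355) (tt N76891 (iv2 F412547)) (tt N28439 (iv3 D100158)) (tt N89493 (iv4 F386644)) (tt N86200 (iv5 F375355)) (tt N89500 D192406) (tt N76890 F365332))
theorem Q53603 : ∀ i, i < 53603 → P i := stepQ 53602 Q53602 (allL N53602 (tt N89501 D192407) (tt N89502 D192408) (tt N88774 (iv2 F384101)) (tt N89500 (iv3 F386659)) (tt N28440 F154092) (tt N89503 D192409) (tt N28439 (iv6 D100160)) (tt N89504 D192410))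
theorem Q53604 : ∀ i, i < 53604 → P i := stepQ 53603 Q53603 (allL N53603 (tt N73221 (iv1 F360362)) (tt N28440 (iv0 D100161)) (tt N73223 (iv2 F360357)) (tt N73255 F360358) (tt N89505 D192411) (tt N74409 (iv5 F360363)) (tt N88946 F384582) (tt N73217 F360359))
theorem Q53605 : ∀ i, i < 53605 → P i := stepQ 53604 Q53604 (allL N53604 (tt N73217 (iv1 F357512)) (tt N73223 F357513) (tt N73221 (iv2 F360361)) (tt N89498 (iv3 F386648)) (tt N89504 (iv4 F386661)) (tt N60653 (iv5 F383744)) (tt N85343 (iv6 F372305)) (tt N28440 (iv7 D100163)))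
theorem Q53606 : ∀ i, i < 53606 → P i := stepQ 53605 Q53605 (allL N53605 (tt N48910 (iv1 F154096)) (tt N48909 F154097) (tt N29298 F154093) (tt N51707 F154094) (tt N28441 (iv4 D100164)) (tt N89506 D192412) (tt N55056 (iv6 F158525)) (tt N48906 F154095))
theorem Q53607 : ∀ i, i < 53607 → P i := stepQ 53606 Q53606 (allL N53606 (tt N28452 F154100) (tt N48924 F154102) (tt N48926 F154098) (tt N72549 F362382) (tt N89507 D192413) (tt N28441 (iv5 D100165)) (tt N72547 (iv6 F362381)) (tt N48918 F154099))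
theorem Q53608 : ∀ i, i < 53608 → P i := stepQ 53607 Q53607 (allL N53607 (tt N29121 (iv1 F157769)) (tt N29154 (iv0 F154106)) (tt N28443 F154103) (tt N29162 F154104) (tt N28442 (iv4 D100166)) (tt N89508 D192414) (tt N83562 (iv6 F287792)) (tt N29155 F154105))
theorem Q53609 : ∀ i, i < 53609 → P i := stepQ 53608 Q53608 (allL N53608 (tt N88945 (iv1 F384579)) (tt N84482 (iv0 F369476)) (tt N28444 F154108) (tt N85334 (iv3 F372272)) (tt N89509 D192415) (tt N28442 (iv5 D100167)) (tt N89510 D192416) (tt N48923 F154109))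
theorem Q53610 : ∀ i, i < 53610 → P i := stepQ 53609 Q53609 (allL N53609 (tt N28443 (iv1 D100169)) (tt N29155 F154114) (tt N29154 (iv2 F154116)) (tt N89511 D192417) (tt N53284 (iv4 F157781)) (tt N88277 (iv5 F382440)) (tt N55133 (iv6 F177393)) (tt N29121 (iv7 F157770)))
theorem Q53611 : ∀ i, i < 53611 → P i := stepQ 53610 Q53610 (allL N53610 (tt N65621 F360496) (tt N87372 (iv0 F379150)) (tt N89508 (iv2 F386676)) (tt N29109 F154117) (tt N89512 D192418) (tt N28443 (iv5 D100170)) (tt N89513 D192419) (tt N29156 F154118))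
theorem Q53612 : ∀ i, i < 53612 → P i := stepQ 53611 Q53611 (allL N53611 (tt N84685 F370219) (tt N88118 (iv0 F381836)) (tt N83562 (iv2 F287790)) (tt N29110 F154119) (tt N28445 F154120) (tt N84522 (iv5 F369603)) (tt N28443 (iv6 D100171)) (tt N29370 F290772))
theorem Q53613 : ∀ i, i < 53613 → P i := stepQ 53612 Q53612 (allL N53612 (tt N48923 (iv1 F154122)) (tt N28444 (iv0 D100172)) (tt N88945 (iv2 F384576)) (tt N29210 F294730) (tt N89514 D192420) (tt N29209 F294731) (tt N89515 D192421) (tt N84482 (iv7 F369474)))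
theorem Q53614 : ∀ i, i < 53614 → P i := stepQ 53613 Q53613 (allL N53613 (tt N28444 (iv1 D100173)) (tt N48923 F154124) (tt N84482 (iv2 F369472)) (tt N89379 F386290) (tt N89516 D192422) (tt N83909 F367461) (tt N89517 D192423) (tt N88945 (iv7 F384577)))
theorem Q53615 : ∀ i, i < 53615 → P i := stepQ 53614 Q53614 (allL N53614 (tt N89518 D192424) (tt N89519 D192425) (tt N89509 (iv2 F386681)) (tt N89520 D192426) (tt N28444 (iv4 D100174)) (tt N89521 D192427) (tt N89522 D192428) (tt N89014 (iv7 F384823)))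
theorem Q53616 : ∀ i, i < 53616 → P i := stepQ 53615 Q53615 (allL N53615 (tt N89523 D192429) (tt N89524 D192430) (tt N89510 (iv2 F386684)) (tt N28447 F154125) (tt N89522 (iv4 F386710)) (tt N89525 D192431) (tt N28444 (iv6 D100175)) (tt N89526 D192432))
theorem Q53617 : ∀ i, i < 53617 → P i := stepQ 53616 Q53616 (allL N53616 (tt N48613 F283621) (tt N88532 (iv0 F383433)) (tt N83563 (iv2 F287793)) (tt N28448 F154126) (tt N89527 D192433) (tt N28445 (iv5 D100177)) (tt N89525 (iv6 F386712)) (tt N83564 (iv7 F287797)))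
theorem Q53618 : ∀ i, i < 53618 → P i := stepQ 53617 Q53617 (allL N53617 (tt N89528 D192434) (tt N57834 (iv0 F364385)) (tt N89529 D192435) (tt N28446 (iv3 D100178)) (tt N89520 (iv4 F386709)) (tt N86193 (iv5 F375338)) (tt N89530 D192436) (tt N89015 (iv7 F384826)))
theorem Q53619 : ∀ i, i < 53619 → P i := stepQ 53618 Q53618 (allL N53618 (tt N89531 D192437) (tt N89532 D192438) (tt N85340 (iv2 F372297)) (tt N89530 (iv3 F386714)) (tt N28447 F154129) (tt N88497 F383283) (tt N28446 (iv6 D100180)) (tt N89533 D192439))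
theorem Q53620 : ∀ i, i < 53620 → P i := stepQ 53619 Q53619 (allL N53619 (tt N85343 (iv1 F372308)) (tt N28447 (iv0 D100181)) (tt N85341 F384756) (tt N72440 (iv3 F384757)) (tt N82360 F384761) (tt N88485 (iv5 F384758)) (tt N72438 F384765) (tt N85342 F384754))
theorem Q53621 : ∀ i, i < 53621 → P i := stepQ 53620 Q53620 (allL N53620 (tt N28447 (iv1 D100182)) (tt N85343 F372307) (tt N85342 (iv2 F384753)) (tt N89534 D192440) (tt N88505 F384759) (tt N89413 (iv5 F386405)) (tt N89000 F384752) (tt N85341 (iv7 F384755)))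
theorem Q53622 : ∀ i, i < 53622 → P i := stepQ 53621 Q53621 (allL N53621 (tt N89535 D192441) (tt N89536 D192442) (tt N84419 (iv2 F369223)) (tt N89525 (iv3 F386711)) (tt N88501 (iv4 F383297)) (tt N28447 (iv5 D100183)) (tt N28448 F154130) (tt N89537 D192443))
theorem Q53623 : ∀ i, i < 53623 → P i := stepQ 53622 Q53622 (allL N53622 (tt N85342 (iv1 F372301)) (tt N85341 F372306) (tt N85343 (iv2 F372304)) (tt N89526 (iv3 F386713)) (tt N89533 (iv4 F386719)) (tt N89537 (iv5 F386731)) (tt N73221 F360368) (tt N28447 (iv7 D100184)))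
theorem Q53624 : ∀ i, i < 53624 → P i := stepQ 53623 Q53623 (allL N53623 (tt N49748 F154133) (tt N49744 F154134) (tt N84418 (iv2 F369216)) (tt N89538 D192444) (tt N28448 (iv4 D100186)) (tt N50194 F365791) (tt N88501 (iv6 F383298)) (tt N84420 (iv7 F369227)))
theorem Q53625 : ∀ i, i < 53625 → P i := stepQ 53624 Q53624 (allL N53624 (tt N85333 (iv1 F372269)) (tt N84983 F371257) (tt N28449 (iv2 D100189)) (tt N48924 F154135) (tt N89539 D192445) (tt N86230 (iv5 F375480)) (tt N89540 D192446) (tt N89021 (iv7 F384841)))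
theorem Q53626 : ∀ i, i < 53626 → P i := stepQ 53625 Q53625 (allL N53625 (tt N89541 D192447) (tt N54091 (iv0 F155911)) (tt N89539 (iv2 F386734)) (tt N89542 D192448) (tt N28449 (iv4 D100190)) (tt N89543 D192449) (tt N89544 D192450) (tt N89022 (iv7 F384844)))
theorem Q53627 : ∀ i, i < 53627 → P i := stepQ 53626 Q53626 (allL N53626 (tt N89545 D192451) (tt N89546 D192452) (tt N89540 (iv2 F386737)) (tt N28451 F154139) (tt N89544 (iv4 F386745)) (tt N89284 (iv5 F385914)) (tt N28449 (iv6 D100192)) (tt N89547 D192453))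
theorem Q53628 : ∀ i, i < 53628 → P i := stepQ 53627 Q53627 (allL N53627 (tt N89548 D192454) (tt N77037 (iv0 F365474)) (tt N89549 D192455) (tt N28450 (iv3 D100193)) (tt N89542 (iv4 F386744)) (tt N85937 (iv5 F374511)) (tt N89550 D192456) (tt N53967 (iv7 F155593)))
theorem Q53629 : ∀ i, i < 53629 → P i := stepQ 53628 Q53628 (allL N53628 (tt N89551 D192457) (tt N89552 D192458) (tt N53966 (iv2 F155591)) (tt N89550 (iv3 F386749)) (tt N28451 F154141) (tt N89553 D192459) (tt N28450 (iv6 D100195)) (tt N89554 D192460))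
theorem Q53630 : ∀ i, i < 53630 → P i := stepQ 53629 Q53629 (allL N53629 (tt N89020 (iv1 F384838)) (tt N28451 (iv0 D100196)) (tt N89018 (iv2 F391228)) (tt N77677 (iv3 F390039)) (tt N86164 (iv4 F455478)) (tt N89555 D192464) (tt N60654 F383748) (tt N89019 (iv7 F391226)))
theorem Q53631 : ∀ i, i < 53631 → P i := stepQ 53630 Q53630 (allL N53630 (tt N28451 (iv1 D100197)) (tt N89020 F384837) (tt N89019 (iv2 F391225)) (tt N72485 (iv3 F390041)) (tt N86165 (iv4 F424174)) (tt N89556 D192468) (tt N72483 (iv6 F390044)) (tt N89018 (iv7 F391230)))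
theorem Q53632 : ∀ i, i < 53632 → P i := stepQ 53631 Q53631 (allL N53631 (tt N89019 (iv1 F384832)) (tt N89018 F384836) (tt N89020 (iv2 F384833)) (tt N89547 (iv3 F386746)) (tt N89554 (iv4 F386755)) (tt N89286 (iv5 F385921)) (tt N89025 (iv6 F384851)) (tt N28451 (iv7 D100198)))
theorem Q53633 : ∀ i, i < 53633 → P i := stepQ 53632 Q53632 (allL N53632 (tt N48918 (iv1 F154145)) (tt N48926 F154144) (tt N28452 (iv2 D100199)) (tt N89021 (iv3 F384839)) (tt N89557 D192470) (tt N53138 F154142) (tt N89558 D192471) (tt N48924 F154143))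
theorem Q53634 : ∀ i, i < 53634 → P i := stepQ 53633 Q53633 (allL N53633 (tt N63169 F365346) (tt N89559 D192472) (tt N89557 (iv2 F386759)) (tt N89560 D192473) (tt N28452 (iv4 D100200)) (tt N89561 D192474) (tt N89562 D192475) (tt N89016 (iv7 F384828)))
theorem Q53635 : ∀ i, i < 53635 → P i := stepQ 53634 Q53634 (allL N53634 (tt N89563 D192476) (tt N89564 D192477) (tt N89558 (iv2 F386762)) (tt N28454 F154146) (tt N89562 (iv4 F386771)) (tt N53141 F154147) (tt N28452 (iv6 D100201)) (tt N89565 D192478))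
theorem Q53636 : ∀ i, i < 53636 → P i := stepQ 53635 Q53635 (allL N53635 (tt N89566 D192479) (tt N57969 (iv0 F365338)) (tt N89567 D192480) (tt N28453 (iv3 D100202)) (tt N89560 (iv4 F386770)) (tt N86181 (iv5 F375305)) (tt N89568 D192481) (tt N53965 (iv7 F155587)))
theorem Q53637 : ∀ i, i < 53637 → P i := stepQ 53636 Q53636 (allL N53636 (tt N89569 D192482) (tt N89570 D192483) (tt N53968 (iv2 F155597)) (tt N89568 (iv3 F386774)) (tt N28454 F154149) (tt N89571 D192484) (tt N28453 (iv6 D100204)) (tt N89572 D192485))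
theorem Q53638 : ∀ i, i < 53638 → P i := stepQ 53637 Q53637 (allL N53637 (tt N89025 (iv1 F384863)) (tt N28454 (iv0 D100205)) (tt N89024 (iv2 F384859)) (tt N59221 F384860) (tt N86261 (iv4 F384864)) (tt N89573 D192486) (tt N72523 (iv6 F384862)) (tt N59216 F384861))
theorem Q53639 : ∀ i, i < 53639 → P i := stepQ 53638 Q53638 (allL N53638 (tt N28454 (iv1 D100206)) (tt N89025 F384853) (tt N59216 F375623) (tt N72165 F375624) (tt N86262 (iv4 F375622)) (tt N85584 (iv5 F373134)) (tt N59214 F375625) (tt N89024 (iv7 F384854)))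
theorem Q53640 : ∀ i, i < 53640 → P i := stepQ 53639 Q53639 (allL N53639 (tt N59216 F374448) (tt N89024 F384852) (tt N89025 (iv2 F384849)) (tt N89565 (iv3 F386772)) (tt N89572 (iv4 F386785)) (tt N53145 F154150) (tt N89020 (iv6 F384835)) (tt N28454 (iv7 D100207)))
theorem Q53641 : ∀ i, i < 53641 → P i := stepQ 53640 Q53640 (allL N53640 (tt N48949 (iv1 F154220)) (tt N28457 (iv0 D100234)) (tt N63274 (iv2 F352992)) (tt N76295 F359359) (tt N89574 D192487) (tt N50849 (iv5 F292923)) (tt N89575 D192488) (tt N86355 (iv7 F375917)))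
theorem Q53642 : ∀ i, i < 53642 → P i := stepQ 53641 Q53641 (allL N53641 (tt N28457 (iv1 D100235)) (tt N48949 F154221) (tt N86355 (iv2 F375919)) (tt N62793 F352997) (tt N63350 (iv4 F352998)) (tt N50850 (iv5 F292928)) (tt N89576 D192489) (tt N63274 (iv7 F352995)))
theorem Q53643 : ∀ i, i < 53643 → P i := stepQ 53642 Q53642 (allL N53642 (tt N89577 D192490) (tt N89578 D192491) (tt N86356 (iv2 F375920)) (tt N89579 D192492) (tt N28457 (iv4 D100236)) (tt N89580 D192493) (tt N89276 F385890) (tt N89026 (iv7 F384869)))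
theorem Q53644 : ∀ i, i < 53644 → P i := stepQ 53643 Q53643 (allL N53643 (tt N71990 F350424) (tt N72006 F350428) (tt N86357 (iv2 F375922)) (tt N28461 F154222) (tt N89276 (iv4 F385888)) (tt N72022 (iv5 F350425)) (tt N28457 (iv6 D100237)) (tt N89581 D192494))
theorem Q53645 : ∀ i, i < 53645 → P i := stepQ 53644 Q53644 (allL N53644 (tt N28600 F289517) (tt N28604 F289518) (tt N55290 (iv2 F349161)) (tt N28459 (iv3 D100240)) (tt N53891 F349160) (tt N50848 (iv5 F292892)) (tt N89582 D192495) (tt N51104 (iv7 F294163)))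
theorem Q53646 : ∀ i, i < 53646 → P i := stepQ 53645 Q53645 (allL N53645 (tt N53193 F154227) (tt N50442 F154228) (tt N51018 (iv2 F293432)) (tt N89583 D192496) (tt N28459 (iv4 D100241)) (tt N50825 (iv5 F354458)) (tt N89584 D192497) (tt N51029 (iv7 F294167)))
theorem Q53647 : ∀ i, i < 53647 → P i := stepQ 53646 Q53646 (allL N53646 (tt N89076 F385057) (tt N89585 D192498) (tt N51112 (iv2 F293435)) (tt N89582 (iv3 F386819)) (tt N89584 (iv4 F386828)) (tt N28947 F154229) (tt N28459 (iv6 D100242)) (tt N89586 D192499))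
theorem Q53648 : ∀ i, i < 53648 → P i := stepQ 53647 Q53647 (allL N53647 (tt N89587 D192500) (tt N89588 D192501) (tt N89589 D192502) (tt N28460 (iv3 D100243)) (tt N89579 (iv4 F386806)) (tt N86073 (iv5 F375055)) (tt N89590 D192503) (tt N89028 (iv7 F384873)))
theorem Q53649 : ∀ i, i < 53649 → P i := stepQ 53648 Q53648 (allL N53648 (tt N89505 F386664) (tt N56745 (iv0 F350423)) (tt N55101 (iv2 F158759)) (tt N89590 (iv3 F386862)) (tt N28461 F154230) (tt N89591 D192504) (tt N28460 (iv6 D100244)) (tt N89592 D192505))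
theorem Q53650 : ∀ i, i < 53650 → P i := stepQ 53649 Q53649 (allL N53649 (tt N55104 (iv1 F158767)) (tt N28461 (iv0 D100245)) (tt N55102 F380076) (tt N89593 D192506) (tt N89594 D192507) (tt N89595 D192508) (tt N51182 F367188) (tt N55103 (iv7 F380077)))
theorem Q53651 : ∀ i, i < 53651 → P i := stepQ 53650 Q53650 (allL N53650 (tt N28461 (iv1 D100246)) (tt N55104 F158766) (tt N55103 (iv2 F380079)) (tt N72420 F380082) (tt N89596 D192509) (tt N87667 (iv5 F380045)) (tt N72418 (iv6 F380080)) (tt N55102 F380078))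
theorem Q53652 : ∀ i, i < 53652 → P i := stepQ 53651 Q53651 (allL N53651 (tt N55103 (iv1 F158761)) (tt N55102 F158765) (tt N55104 (iv2 F158762)) (tt N89581 (iv3 F386810)) (tt N89592 (iv4 F386871)) (tt N60651 (iv5 F352465)) (tt N89032 (iv6 F384882)) (tt N28461 (iv7 D100247)))
theorem Q53653 : ∀ i, i < 53653 → P i := stepQ 53652 Q53652 (allL N53652 (tt N86095 (iv1 F375108)) (tt N51295 (iv0 F365309)) (tt N89597 D192510) (tt N28462 (iv3 D100250)) (tt N50623 F154234) (tt N50824 F367180) (tt N51355 (iv6 F367177)) (tt N51026 (iv7 F292027)))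
theorem Q53654 : ∀ i, i < 53654 → P i := stepQ 53653 Q53653 (allL N53653 (tt N28549 F364354) (tt N28463 (iv0 D100254)) (tt N84770 F370557) (tt N89598 D192511) (tt N89599 D192512) (tt N50811 F364346) (tt N84732 F370401) (tt N51245 (iv7 F364347)))
theorem Q53655 : ∀ i, i < 53655 → P i := stepQ 53654 Q53654 (allL N53654 (tt N89600 D192513) (tt N89601 D192514) (tt N44112 F329943) (tt N28464 (iv3 D100262)) (tt N42344 F353038) (tt N86068 (iv5 F375047)) (tt N82052 F358743) (tt N44115 F329944))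
theorem Q53656 : ∀ i, i < 53656 → P i := stepQ 53655 Q53655 (allL N53655 (tt N82360 F358734) (tt N88505 (iv0 F386727)) (tt N89029 (iv2 F384874)) (tt N82052 (iv3 F358735)) (tt N28465 F154251) (tt N89602 D192515) (tt N28464 (iv6 D100263)) (tt N89603 D192516))
theorem Q53657 : ∀ i, i < 53657 → P i := stepQ 53656 Q53656 (allL N53656 (tt N89032 (iv1 F384888)) (tt N28465 (iv0 D100264)) (tt N89030 (iv2 F384886)) (tt N89604 D192517) (tt N89605 D192518) (tt N89606 D192519) (tt N89607 D192520) (tt N89031 F384887))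
theorem Q53658 : ∀ i, i < 53658 → P i := stepQ 53657 Q53657 (allL N53657 (tt N28465 (iv1 D100265)) (tt N89032 F384884) (tt N89031 (iv2 F384880)) (tt N89608 D192521) (tt N89609 D192522) (tt N89610 D192523) (tt N54386 (iv6 F156798)) (tt N89030 (iv7 F384885)))
theorem Q53659 : ∀ i, i < 53659 → P i := stepQ 53658 Q53658 (allL N53658 (tt N89611 D192524) (tt N89612 D192525) (tt N84288 (iv2 F368811)) (tt N51222 F154252) (tt N88482 (iv4 F383233)) (tt N28465 (iv5 D100266)) (tt N28466 F154253) (tt N89613 D192526))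
theorem Q53660 : ∀ i, i < 53660 → P i := stepQ 53659 Q53659 (allL N53659 (tt N89031 (iv1 F384877)) (tt N89030 F384883) (tt N89032 (iv2 F384881)) (tt N51223 F154254) (tt N89603 (iv4 F386932)) (tt N89613 (iv5 F386949)) (tt N55104 (iv6 F158764)) (tt N28465 (iv7 D100267)))
theorem Q53661 : ∀ i, i < 53661 → P i := stepQ 53660 Q53660 (allL N53660 (tt N83701 (iv1 F288594)) (tt N83699 (iv0 F288577)) (tt N84287 (iv2 F368807)) (tt N89614 D192527) (tt N28466 (iv4 D100269)) (tt N50199 F292380) (tt N88482 F383232) (tt N55417 F292381))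
theorem Q53662 : ∀ i, i < 53662 → P i := stepQ 53661 Q53661 (allL N53661 (tt N85953 (iv1 F374592)) (tt N50233 F349112) (tt N66657 (iv2 F204898)) (tt N56247 (iv3 F163262)) (tt N89615 D192528) (tt N28469 (iv5 D100341)) (tt N56244 (iv6 F163255)) (tt N70731 F349107))
theorem Q53663 : ∀ i, i < 53663 → P i := stepQ 53662 Q53662 (allL N53662 (tt N50193 F367260) (tt N75099 F371161) (tt N56050 (iv2 F162426)) (tt N66657 (iv3 F204899)) (tt N83964 F367641) (tt N28470 (iv5 D100345)) (tt N45212 F154326) (tt N85970 (iv7 F374669)))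
theorem Q53664 : ∀ i, i < 53664 → P i := stepQ 53663 Q53663 (allL N53663 (tt N86180 (iv1 F375300)) (tt N86179 F375291) (tt N28475 F154327) (tt N50221 F154328) (tt N85196 F371860) (tt N28471 (iv5 D100347)) (tt N45257 F154329) (tt N86178 (iv7 F375285)))
theorem Q53665 : ∀ i, i < 53665 → P i := stepQ 53664 Q53664 (allL N53664 (tt N45258 (iv1 F154333)) (tt N28472 (iv0 D100348)) (tt N42634 (iv2 F154332)) (tt N30077 F154330) (tt N35917 F154331) (tt N89616 D192529) (tt N30074 (iv6 F154335)) (tt N42635 F154334))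
theorem Q53666 : ∀ i, i < 53666 → P i := stepQ 53665 Q53665 (allL N53665 (tt N44985 F154339) (tt N44981 F154340) (tt N45257 F154336) (tt N28476 F154337) (tt N63320 (iv4 F186822)) (tt N28472 (iv5 D100349)) (tt N28475 F154338) (tt N61161 (iv7 F178130)))
theorem Q53667 : ∀ i, i < 53667 → P i := stepQ 53666 Q53666 (allL N53666 (tt N86191 (iv1 F375333)) (tt N85346 (iv0 F372317)) (tt N86177 (iv2 F375278)) (tt N84782 (iv3 F370615)) (tt N89617 D192530) (tt N28473 (iv5 D100352)) (tt N89618 D192531) (tt N86176 (iv7 F375275)))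
theorem Q53668 : ∀ i, i < 53668 → P i := stepQ 53667 Q53667 (allL N53667 (tt N85346 (iv1 F372316)) (tt N86191 F375334) (tt N86176 (iv2 F375273)) (tt N76183 (iv3 F335927)) (tt N89619 D192532) (tt N28474 (iv5 D100357)) (tt N89620 D192533) (tt N86177 (iv7 F375280)))
theorem Q53669 : ∀ i, i < 53669 → P i := stepQ 53668 Q53668 (allL N53668 (tt N53428 (iv1 F349287)) (tt N54758 F349288) (tt N54756 F349285) (tt N85434 (iv3 F372630)) (tt N89133 (iv4 F385296)) (tt N63057 F349286) (tt N28474 (iv6 D100358)) (tt N54757 (iv7 F349282)))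
theorem Q53670 : ∀ i, i < 53670 → P i := stepQ 53669 Q53669 (allL N53669 (tt N86178 (iv1 F375287)) (tt N28475 (iv0 D100359)) (tt N86180 F375304) (tt N89621 D192534) (tt N85519 F372923) (tt N85818 F375288) (tt N89622 D192535) (tt N86179 F375293))
theorem Q53671 : ∀ i, i < 53671 → P i := stepQ 53670 Q53670 (allL N53670 (tt N28475 (iv1 D100360)) (tt N86178 (iv0 F375286)) (tt N86179 F375292) (tt N85933 (iv3 F374500)) (tt N89623 D192536) (tt N85819 (iv5 F374097)) (tt N89624 D192537) (tt N86180 (iv7 F375301)))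
theorem Q53672 : ∀ i, i < 53672 → P i := stepQ 53671 Q53671 (allL N53671 (tt N85192 F371845) (tt N84824 (iv0 F370755)) (tt N85196 (iv2 F371861)) (tt N89625 D192538) (tt N28475 (iv4 D100361)) (tt N89626 D192539) (tt N63320 F186823) (tt N85195 F371858))
theorem Q53673 : ∀ i, i < 53673 → P i := stepQ 53672 Q53672 (allL N53672 (tt N50975 F154350) (tt N50977 F154351) (tt N61165 (iv2 F178141)) (tt N89627 D192540) (tt N28476 (iv4 D100362)) (tt N89628 D192541) (tt N28479 F154349) (tt N61162 (iv7 F178132)))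
theorem Q53674 : ∀ i, i < 53674 → P i := stepQ 53673 Q53673 (allL N53673 (tt N76708 (iv1 F239759)) (tt N48973 (iv0 F154353)) (tt N76706 F239754) (tt N28478 (iv3 D100364)) (tt N83229 F349151) (tt N49828 (iv5 F349150)) (tt N68326 F354420) (tt N76707 F239753))
theorem Q53675 : ∀ i, i < 53675 → P i := stepQ 53674 Q53674 (allL N53674 (tt N89629 D192542) (tt N89630 D192543) (tt N85935 (iv2 F374504)) (tt N68326 (iv3 F354418)) (tt N59393 F354415) (tt N85966 (iv5 F374653)) (tt N28478 (iv6 D100365)) (tt N59639 (iv7 F354419)))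
theorem Q53676 : ∀ i, i < 53676 → P i := stepQ 53675 Q53675 (allL N53675 (tt N89631 D192544) (tt N89632 D192545) (tt N89633 D192546) (tt N28479 (iv3 D100366)) (tt N89625 (iv4 F387004)) (tt N53965 F367191) (tt N89627 (iv6 F387008)) (tt N86181 (iv7 F375306)))
theorem Q53677 : ∀ i, i < 53677 → P i := stepQ 53676 Q53676 (allL N53676 (tt N86230 (iv1 F375483)) (tt N28481 (iv0 D100375)) (tt N52863 (iv2 F367141)) (tt N83842 (iv3 F367142)) (tt N86780 (iv4 F377155)) (tt N53593 (iv5 F367144)) (tt N49767 F367140) (tt N86229 (iv7 F375474)))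
theorem Q53678 : ∀ i, i < 53678 → P i := stepQ 53677 Q53677 (allL N53677 (tt N28481 (iv1 D100376)) (tt N86230 F375484) (tt N86229 F375472) (tt N82893 (iv3 F375505)) (tt N89634 D192547) (tt N53594 F362390) (tt N89635 D192548) (tt N52863 F367146))
theorem Q53679 : ∀ i, i < 53679 → P i := stepQ 53678 Q53678 (allL N53678 (tt N52863 F367128) (tt N86229 F375473) (tt N28481 (iv2 D100377)) (tt N53138 (iv3 F366979)) (tt N28559 F154387) (tt N89021 (iv5 F384840)) (tt N49343 F154388) (tt N86230 (iv7 F375482)))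
theorem Q53680 : ∀ i, i < 53680 → P i := stepQ 53679 Q53679 (allL N53679 (tt N29355 (iv1 F154394)) (tt N28482 (iv0 D100381)) (tt N48848 (iv2 F154398)) (tt N28964 F154402) (tt N47616 F331189) (tt N47549 F331190) (tt N87822 (iv6 F380675)) (tt N48849 (iv7 F154401)))
theorem Q53681 : ∀ i, i < 53681 → P i := stepQ 53680 Q53680 (allL N53680 (tt N28482 (iv1 D100382)) (tt N29355 F154395) (tt N48849 F154399) (tt N39783 (iv3 F331195)) (tt N47613 F331186) (tt N39777 F331187) (tt N51685 F350436) (tt N48848 F154397))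
theorem Q53682 : ∀ i, i < 53682 → P i := stepQ 53681 Q53681 (allL N53681 (tt N79245 F328700) (tt N80124 F328701) (tt N48850 F154403) (tt N28483 F154404) (tt N46476 F328702) (tt N28482 (iv5 D100383)) (tt N81824 F363864) (tt N81479 F328703))
theorem Q53683 : ∀ i, i < 53683 → P i := stepQ 53682 Q53682 (allL N53682 (tt N29021 (iv1 F154405)) (tt N28483 (iv0 D100384)) (tt N83885 (iv2 F367366)) (tt N65010 F367365) (tt N89636 D192549) (tt N83884 (iv5 F367364)) (tt N89637 D192550) (tt N84405 (iv7 F369186)))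
theorem Q53684 : ∀ i, i < 53684 → P i := stepQ 53683 Q53683 (allL N53683 (tt N89638 D192551) (tt N89639 D192552) (tt N85014 (iv2 F371380)) (tt N83285 (iv3 F356740)) (tt N28483 (iv4 D100385)) (tt N89640 D192553) (tt N88846 (iv6 F384327)) (tt N83282 F356745))
theorem Q53685 : ∀ i, i < 53685 → P i := stepQ 53684 Q53684 (allL N53684 (tt N49148 F287622) (tt N88420 F382973) (tt N29051 F154406) (tt N81840 F290089) (tt N89641 D192554) (tt N28484 (iv5 D100386)) (tt N89642 D192555) (tt N81878 (iv7 F290090)))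
theorem Q53686 : ∀ i, i < 53686 → P i := stepQ 53685 Q53685 (allL N53685 (tt N28485 (iv1 D100388)) (tt N88419 (iv0 F382966)) (tt N83877 (iv2 F367330)) (tt N80627 (iv3 F362125)) (tt N89643 D192556) (tt N80623 F362126) (tt N54628 (iv6 F362127)) (tt N81886 F362124))
theorem Q53687 : ∀ i, i < 53687 → P i := stepQ 53686 Q53686 (allL N53686 (tt N47857 (iv1 F387057)) (tt N83438 (iv0 F421385)) (tt N43855 F349319) (tt N89644 D192559) (tt N28485 (iv4 D100389)) (tt N43854 F349320) (tt N53176 F349321) (tt N89645 D192560))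
theorem Q53688 : ∀ i, i < 53688 → P i := stepQ 53687 Q53687 (allL N53687 (tt N83877 F367334) (tt N81886 F367335) (tt N88419 (iv2 F382962)) (tt N48834 F154409) (tt N89645 (iv4 F387070)) (tt N28486 F154410) (tt N89646 D192561) (tt N28485 (iv7 D100390)))
theorem Q53689 : ∀ i, i < 53689 → P i := stepQ 53688 Q53688 (allL N53688 (tt N89647 D192562) (tt N88995 F384723) (tt N28498 F154411) (tt N34482 F154412) (tt N28488 F154413) (tt N65360 F300552) (tt N28487 (iv6 D100391)) (tt N82270 F300553))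
theorem Q53690 : ∀ i, i < 53690 → P i := stepQ 53689 Q53689 (allL N53689 (tt N28502 (iv1 F154421)) (tt N28488 (iv0 D100392)) (tt N28499 F308563) (tt N29345 F238655) (tt N89648 D192563) (tt N81874 F338877) (tt N89649 D192564) (tt N28500 F308564))
theorem Q53691 : ∀ i, i < 53691 → P i := stepQ 53690 Q53690 (allL N53690 (tt N28488 (iv1 D100393)) (tt N28502 F154414) (tt N28500 F338848) (tt N76528 F338849) (tt N76530 F338850) (tt N88867 (iv5 F384390)) (tt N88991 (iv6 F384694)) (tt N28499 F338851))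
theorem Q53692 : ∀ i, i < 53692 → P i := stepQ 53691 Q53691 (allL N53691 (tt N65250 (iv1 F364538)) (tt N88849 (iv0 F384338)) (tt N28501 F154415) (tt N34800 F154416) (tt N89650 D192565) (tt N28488 (iv5 D100394)) (tt N28490 F154417) (tt N62284 (iv7 F364536)))
theorem Q53693 : ∀ i, i < 53693 → P i := stepQ 53692 Q53692 (allL N53692 (tt N28500 (iv1 F154422)) (tt N28499 F154423) (tt N28502 F154418) (tt N34566 F154419) (tt N82270 F338833) (tt N62284 (iv5 F364535)) (tt N46752 F154420) (tt N28488 (iv7 D100395)))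
theorem Q53694 : ∀ i, i < 53694 → P i := stepQ 53693 Q53693 (allL N53693 (tt N48847 (iv1 F177362)) (tt N48880 F154429) (tt N29197 F154424) (tt N28489 (iv3 D100396)) (tt N29201 F154425) (tt N89651 D192566) (tt N54798 (iv6 F157840)) (tt N28503 F154426))
theorem Q53695 : ∀ i, i < 53695 → P i := stepQ 53694 Q53694 (allL N53694 (tt N85127 (iv1 F371701)) (tt N84432 (iv0 F369254)) (tt N28505 F154430) (tt N89651 (iv3 F387099)) (tt N89652 D192567) (tt N28489 (iv5 D100397)) (tt N89653 D192568) (tt N28504 F154431))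
theorem Q53696 : ∀ i, i < 53696 → P i := stepQ 53695 Q53695 (allL N53695 (tt N28510 (iv1 F154438)) (tt N28490 (iv0 D100398)) (tt N28507 F154442) (tt N29350 (iv3 F154441)) (tt N82281 F351144) (tt N50464 (iv5 F292006)) (tt N89654 D192569) (tt N28508 F154440))
theorem Q53697 : ∀ i, i < 53697 → P i := stepQ 53696 Q53696 (allL N53696 (tt N28490 (iv1 D100399)) (tt N28510 F154432) (tt N28508 F154434) (tt N85473 (iv3 F372737)) (tt N50511 F351150) (tt N49499 (iv5 F154433)) (tt N50510 (iv6 F351151)) (tt N28507 (iv7 F154443)))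
theorem Q53698 : ∀ i, i < 53698 → P i := stepQ 53697 Q53697 (allL N53697 (tt N89655 D192570) (tt N89656 D192571) (tt N28509 F154435) (tt N89657 D192572) (tt N28490 (iv4 D100400)) (tt N89658 D192573) (tt N89650 (iv6 F387095)) (tt N72592 F365355))
theorem Q53699 : ∀ i, i < 53699 → P i := stepQ 53698 Q53698 (allL N53698 (tt N28493 (iv1 D100403)) (tt N28495 F154447) (tt N45288 (iv2 F154451)) (tt N49389 (iv3 F299882)) (tt N50925 F154450) (tt N45313 F154449) (tt N76483 F342639) (tt N45287 F154448))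
theorem Q53700 : ∀ i, i < 53700 → P i := stepQ 53699 Q53699 (allL N53699 (tt N89659 D192574) (tt N89660 D192575) (tt N53073 F154465) (tt N43513 F302016) (tt N28496 F154466) (tt N89661 D192576) (tt N28495 (iv6 D100410)) (tt N43508 F302017))
theorem Q53701 : ∀ i, i < 53701 → P i := stepQ 53700 Q53700 (allL N53700 (tt N89411 F386398) (tt N89662 D192577) (tt N53074 F154468) (tt N43564 (iv3 F304608)) (tt N83687 (iv4 F363126)) (tt N28496 (iv5 D100413)) (tt N49489 F154470) (tt N43550 F302020))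
theorem Q53702 : ∀ i, i < 53702 → P i := stepQ 53701 Q53701 (allL N53701 (tt N40279 F320400) (tt N40282 F320401) (tt N45265 F154479) (tt N81198 (iv3 F273607)) (tt N45253 F154480) (tt N89663 D192578) (tt N28497 (iv6 D100416)) (tt N63027 F320402))
theorem Q53703 : ∀ i, i < 53703 → P i := stepQ 53702 Q53702 (allL N53702 (tt N82270 (iv1 F338834)) (tt N28498 (iv0 D100417)) (tt N89647 F387080) (tt N76333 F342636) (tt N80605 F268814) (tt N53093 (iv5 F338885)) (tt N89664 D192579) (tt N88995 F384721))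
theorem Q53704 : ∀ i, i < 53704 → P i := stepQ 53703 Q53703 (allL N53703 (tt N28498 (iv1 D100418)) (tt N82270 (iv0 F338840)) (tt N88995 (iv2 F384717)) (tt N34546 (iv3 F191981)) (tt N76084 (iv4 F236258)) (tt N53094 F307381) (tt N46750 F307382) (tt N89647 (iv7 F387082)))
theorem Q53705 : ∀ i, i < 53705 → P i := stepQ 53704 Q53704 (allL N53704 (tt N81870 (iv1 F338831)) (tt N81867 (iv0 F338828)) (tt N65360 F338825) (tt N81199 (iv3 F273611)) (tt N88849 (iv4 F384337)) (tt N28498 (iv5 D100419)) (tt N89663 (iv6 F387150)) (tt N82269 (iv7 F338823)))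
theorem Q53706 : ∀ i, i < 53706 → P i := stepQ 53705 Q53705 (allL N53705 (tt N88995 F384722) (tt N89647 F387081) (tt N82270 (iv2 F338822)) (tt N81200 (iv3 F273613)) (tt N28502 F154481) (tt N82269 F338821) (tt N88992 (iv6 F384704)) (tt N28498 (iv7 D100420)))
theorem Q53707 : ∀ i, i < 53707 → P i := stepQ 53706 Q53706 (allL N53706 (tt N69187 F338852) (tt N69182 F338853) (tt N48872 F265230) (tt N28499 (iv3 D100422)) (tt N38903 F338854) (tt N86289 F375708) (tt N89665 D192580) (tt N76528 F338855))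
theorem Q53708 : ∀ i, i < 53708 → P i := stepQ 53707 Q53707 (allL N53707 (tt N89666 D192581) (tt N76483 F338837) (tt N89648 (iv2 F387084)) (tt N38904 F338838) (tt N28499 (iv4 D100423)) (tt N89667 D192582) (tt N89668 D192583) (tt N76530 F338839))
theorem Q53709 : ∀ i, i < 53709 → P i := stepQ 53708 Q53708 (allL N53708 (tt N88490 (iv1 F387172)) (tt N89669 D192585) (tt N89649 (iv2 F387089)) (tt N89665 (iv3 F387158)) (tt N89668 (iv4 F387168)) (tt N88897 (iv5 F384468)) (tt N28499 (iv6 D100425)) (tt N89670 D192586))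
theorem Q53710 : ∀ i, i < 53710 → P i := stepQ 53709 Q53709 (allL N53709 (tt N76483 F338845) (tt N89666 F387162) (tt N76530 (iv2 F338843)) (tt N76066 F338842) (tt N28500 (iv4 D100428)) (tt N88850 (iv5 F384340)) (tt N76064 (iv6 F338844)) (tt N89648 (iv7 F387086)))
theorem Q53711 : ∀ i, i < 53711 → P i := stepQ 53710 Q53710 (allL N53710 (tt N53085 F338841) (tt N82296 F338864) (tt N88867 (iv2 F384388)) (tt N48875 (iv3 F265227)) (tt N65354 (iv4 F338868)) (tt N28500 (iv5 D100429)) (tt N70372 F338920) (tt N81874 F338878))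
theorem Q53712 : ∀ i, i < 53712 → P i := stepQ 53711 Q53711 (allL N53711 (tt N88992 (iv1 F384706)) (tt N34851 F308571) (tt N88991 F384695) (tt N43456 F308572) (tt N76064 F308573) (tt N89671 D192587) (tt N28500 (iv6 D100430)) (tt N44579 F308574))
theorem Q53713 : ∀ i, i < 53713 → P i := stepQ 53712 Q53712 (allL N53712 (tt N62284 (iv1 F364537)) (tt N28501 (iv0 D100431)) (tt N65250 (iv2 F338895)) (tt N89672 D192588) (tt N82269 F338896) (tt N64530 F338897) (tt N89673 D192589) (tt N88849 (iv7 F384336)))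
theorem Q53714 : ∀ i, i < 53714 → P i := stepQ 53713 Q53713 (allL N53713 (tt N28501 (iv1 D100432)) (tt N62284 F364539) (tt N88849 (iv2 F384335)) (tt N48877 (iv3 F283417)) (tt N65360 F338883) (tt N64529 (iv5 F310661)) (tt N89674 D192590) (tt N65250 F338888))
theorem Q53715 : ∀ i, i < 53715 → P i := stepQ 53714 Q53714 (allL N53714 (tt N89675 D192591) (tt N72820 F366714) (tt N89650 (iv2 F387094)) (tt N65241 (iv3 F338890)) (tt N28501 (iv4 D100433)) (tt N65240 F338889) (tt N28509 F154485) (tt N89676 D192592))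
theorem Q53716 : ∀ i, i < 53716 → P i := stepQ 53715 Q53715 (allL N53715 (tt N88849 F384339) (tt N65250 (iv0 F338824)) (tt N62284 F364534) (tt N28522 F154486) (tt N89676 (iv4 F387186)) (tt N28502 F154487) (tt N62279 (iv6 F334425)) (tt N28501 (iv7 D100434)))
theorem Q53717 : ∀ i, i < 53717 → P i := stepQ 53716 Q53716 (allL N53716 (tt N29197 (iv1 F154488)) (tt N28503 (iv0 D100435)) (tt N48880 F154728) (tt N28527 F154729) (tt N85264 (iv4 F372059)) (tt N89677 D192593) (tt N48934 F177432) (tt N48847 (iv7 F177363)))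
theorem Q53718 : ∀ i, i < 53718 → P i := stepQ 53717 Q53717 (allL N53717 (tt N89678 D192594) (tt N89679 D192595) (tt N48881 F154490) (tt N28504 F154491) (tt N89680 D192596) (tt N28503 (iv5 D100437)) (tt N89681 D192597) (tt N89651 (iv7 F387100)))
theorem Q53719 : ∀ i, i < 53719 → P i := stepQ 53718 Q53718 (allL N53718 (tt N28505 (iv1 F154495)) (tt N28504 (iv0 D100439)) (tt N84432 (iv2 F369251)) (tt N85328 (iv3 F372254)) (tt N89682 D192598) (tt N83958 (iv5 F367614)) (tt N89683 D192599) (tt N85127 (iv7 F371702)))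
theorem Q53720 : ∀ i, i < 53720 → P i := stepQ 53719 Q53719 (allL N53719 (tt N89684 D192600) (tt N89685 D192601) (tt N85128 (iv2 F371705)) (tt N88969 (iv3 F384621)) (tt N28504 (iv4 D100441)) (tt N89686 D192602) (tt N88888 (iv6 F384435)) (tt N89652 (iv7 F387104)))
theorem Q53721 : ∀ i, i < 53721 → P i := stepQ 53720 Q53720 (allL N53720 (tt N88894 F384462) (tt N89687 D192603) (tt N85129 (iv2 F371707)) (tt N89681 (iv3 F387206)) (tt N88888 F384434) (tt N85420 (iv5 F372563)) (tt N28504 (iv6 D100442)) (tt N89688 D192604))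
theorem Q53722 : ∀ i, i < 53722 → P i := stepQ 53721 Q53721 (allL N53721 (tt N89685 (iv1 F387212)) (tt N89684 F387211) (tt N89652 (iv2 F387103)) (tt N89689 D192605) (tt N28505 (iv4 D100445)) (tt N89690 D192606) (tt N76174 F360920) (tt N85128 (iv7 F371706)))
theorem Q53723 : ∀ i, i < 53723 → P i := stepQ 53722 Q53722 (allL N53722 (tt N89691 D192607) (tt N89692 D192608) (tt N89653 (iv2 F387105)) (tt N48887 F154507) (tt N76174 (iv4 F360919)) (tt N75666 F360918) (tt N28505 (iv6 D100446)) (tt N89693 D192609))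
theorem Q53724 : ∀ i, i < 53724 → P i := stepQ 53723 Q53723 (allL N53723 (tt N89677 (iv1 F387192)) (tt N87050 (iv0 F378182)) (tt N48889 F154509) (tt N28507 (iv3 D100448)) (tt N85476 (iv4 F372753)) (tt N89694 D192610) (tt N89695 D192611) (tt N85473 (iv7 F372742)))
theorem Q53725 : ∀ i, i < 53725 → P i := stepQ 53724 Q53724 (allL N53724 (tt N89696 D192612) (tt N88860 F384367) (tt N82281 (iv2 F351145)) (tt N50518 F351146) (tt N28507 (iv4 D100449)) (tt N89697 D192613) (tt N85841 (iv6 F374184)) (tt N50511 (iv7 F351147)))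
theorem Q53726 : ∀ i, i < 53726 → P i := stepQ 53725 Q53725 (allL N53725 (tt N50465 (iv1 F292010)) (tt N49838 F283725) (tt N50464 (iv2 F292003)) (tt N89694 (iv3 F387238)) (tt N85193 (iv4 F371850)) (tt N28507 (iv5 D100450)) (tt N86232 (iv6 F375491)) (tt N49499 F154510))
theorem Q53727 : ∀ i, i < 53727 → P i := stepQ 53726 Q53726 (allL N53726 (tt N89698 D192614) (tt N89699 D192615) (tt N89654 (iv2 F387107)) (tt N89695 (iv3 F387246)) (tt N85841 (iv4 F374183)) (tt N89700 D192616) (tt N28507 (iv6 D100451)) (tt N85838 (iv7 F374180)))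
theorem Q53728 : ∀ i, i < 53728 → P i := stepQ 53727 Q53727 (allL N53727 (tt N88860 F384366) (tt N89696 F387249) (tt N50511 F351149) (tt N82248 F351135) (tt N28508 (iv4 D100452)) (tt N88834 (iv5 F384295)) (tt N50508 F351154) (tt N82281 (iv7 F351140)))
theorem Q53729 : ∀ i, i < 53729 → P i := stepQ 53728 Q53728 (allL N53728 (tt N85836 (iv1 F374175)) (tt N85835 F374174) (tt N50510 F351152) (tt N48893 F154511) (tt N50508 (iv4 F351153)) (tt N82983 (iv5 F285221)) (tt N28508 (iv6 D100453)) (tt N85833 (iv7 F374168)))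
theorem Q53730 : ∀ i, i < 53730 → P i := stepQ 53729 Q53729 (allL N53729 (tt N72592 (iv1 F365356)) (tt N28509 (iv0 D100454)) (tt N89655 F387116) (tt N85011 (iv3 F371372)) (tt N89134 (iv4 F385299)) (tt N89701 D192617) (tt N89702 D192618) (tt N89656 (iv7 F387119)))
theorem Q53731 : ∀ i, i < 53731 → P i := stepQ 53730 Q53730 (allL N53730 (tt N28509 (iv1 D100455)) (tt N72592 F365357) (tt N89656 F387123) (tt N89703 D192619) (tt N89135 F385309) (tt N89704 D192620) (tt N89705 D192621) (tt N89655 F387117))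
theorem Q53732 : ∀ i, i < 53732 → P i := stepQ 53731 Q53731 (allL N53731 (tt N89706 D192622) (tt N50554 (iv0 F338893)) (tt N89707 D192623) (tt N28509 (iv3 D100456)) (tt N28542 F154512) (tt N89708 D192624) (tt N65241 F338892) (tt N89709 D192625))
theorem Q53733 : ∀ i, i < 53733 → P i := stepQ 53732 Q53732 (allL N53732 (tt N89710 D192626) (tt N89711 D192627) (tt N89658 (iv2 F387126)) (tt N89708 (iv3 F387270)) (tt N89712 D192628) (tt N28509 (iv5 D100457)) (tt N89713 D192629) (tt N89714 D192630))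
theorem Q53734 : ∀ i, i < 53734 → P i := stepQ 53733 Q53733 (allL N53733 (tt N89656 (iv1 F387118)) (tt N89655 F387111) (tt N72592 (iv2 F365354)) (tt N89709 (iv3 F387272)) (tt N28510 F154513) (tt N89714 (iv5 F387276)) (tt N72584 F365353) (tt N28509 (iv7 D100458)))
theorem Q53735 : ∀ i, i < 53735 → P i := stepQ 53734 Q53734 (allL N53734 (tt N34119 F307752) (tt N29343 F272858) (tt N28511 (iv2 D100468)) (tt N89040 (iv3 F384925)) (tt N61345 F307753) (tt N89715 D192631) (tt N89716 D192632) (tt N34117 F307754))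
theorem Q53736 : ∀ i, i < 53736 → P i := stepQ 53735 Q53735 (allL N53735 (tt N44504 F311794) (tt N68393 F311795) (tt N89715 (iv2 F387277)) (tt N28513 F154525) (tt N79903 F311796) (tt N28511 (iv5 D100470)) (tt N89717 D192633) (tt N68522 F311797))
theorem Q53737 : ∀ i, i < 53737 → P i := stepQ 53736 Q53736 (allL N53736 (tt N89718 D192634) (tt N89719 D192635) (tt N89716 (iv2 F387281)) (tt N28514 F154526) (tt N66826 F311798) (tt N52975 (iv5 F154527)) (tt N28511 (iv6 D100471)) (tt N89720 D192636))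
theorem Q53738 : ∀ i, i < 53738 → P i := stepQ 53737 Q53737 (allL N53737 (tt N89721 D192637) (tt N89722 D192638) (tt N47098 F272826) (tt N68487 (iv3 F314836)) (tt N89723 D192639) (tt N28512 (iv5 D100475)) (tt N89724 D192640) (tt N47100 F272827))
theorem Q53739 : ∀ i, i < 53739 → P i := stepQ 53738 Q53738 (allL N53738 (tt N76762 (iv1 F311779)) (tt N89725 D192641) (tt N47099 F272828) (tt N68488 (iv3 F314837)) (tt N28514 F154530) (tt N78553 (iv5 F298231)) (tt N28512 (iv6 D100476)) (tt N80766 F272829))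
theorem Q53740 : ∀ i, i < 53740 → P i := stepQ 53739 Q53739 (allL N53739 (tt N28517 (iv1 F154547)) (tt N28513 (iv0 D100478)) (tt N89043 F384937) (tt N35189 F312630) (tt N89726 D192642) (tt N35188 F312631) (tt N89727 D192643) (tt N79391 F312632))
theorem Q53741 : ∀ i, i < 53741 → P i := stepQ 53740 Q53740 (allL N53740 (tt N28513 (iv1 D100479)) (tt N28517 F154543) (tt N79391 F310429) (tt N53085 F310430) (tt N89728 D192644) (tt N47429 F310431) (tt N89056 F384989) (tt N89043 (iv7 F384939)))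
theorem Q53742 : ∀ i, i < 53742 → P i := stepQ 53741 Q53741 (allL N53741 (tt N89729 D192645) (tt N72627 F357956) (tt N89044 (iv2 F384941)) (tt N89730 D192646) (tt N28513 (iv4 D100480)) (tt N30718 F357957) (tt N89731 D192647) (tt N89046 (iv7 F384949)))
theorem Q53743 : ∀ i, i < 53743 → P i := stepQ 53742 Q53742 (allL N53742 (tt N88710 (iv1 F383945)) (tt N88709 (iv0 F383941)) (tt N89045 (iv2 F384945)) (tt N89717 (iv3 F387285)) (tt N89731 (iv4 F387342)) (tt N52977 F154544) (tt N28513 (iv6 D100481)) (tt N89732 D192648))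
theorem Q53744 : ∀ i, i < 53744 → P i := stepQ 53743 Q53743 (allL N53743 (tt N28514 (iv1 D100484)) (tt N52973 F154548) (tt N88649 (iv2 F383702)) (tt N89669 (iv3 F387170)) (tt N81218 (iv4 F273721)) (tt N83977 F367689) (tt N81406 (iv6 F274975)) (tt N52891 F274644))
theorem Q53745 : ∀ i, i < 53745 → P i := stepQ 53744 Q53744 (allL N53744 (tt N88649 (iv1 F383706)) (tt N52891 F274645) (tt N52973 F154549) (tt N89720 (iv3 F387295)) (tt N80766 F272840) (tt N49510 (iv5 F272842)) (tt N80296 (iv6 F333412)) (tt N28514 (iv7 D100485)))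
theorem Q53746 : ∀ i, i < 53746 → P i := stepQ 53745 Q53745 (allL N53745 (tt N28515 (iv1 D100488)) (tt N89040 F384929) (tt N89039 F384921) (tt N69187 (iv3 F316608)) (tt N89733 D192649) (tt N89734 D192650) (tt N89003 (iv6 F384777)) (tt N52856 F363116))
theorem Q53747 : ∀ i, i < 53747 → P i := stepQ 53746 Q53746 (allL N53746 (tt N52856 F364882) (tt N89039 F384922) (tt N28515 (iv2 D100489)) (tt N34117 F332307) (tt N79991 (iv4 F332305)) (tt N89735 D192651) (tt N89736 D192652) (tt N89040 (iv7 F384927)))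
theorem Q53748 : ∀ i, i < 53748 → P i := stepQ 53747 Q53747 (allL N53747 (tt N46739 F154553) (tt N83232 F286415) (tt N79991 (iv2 F332304)) (tt N89737 D192653) (tt N28515 (iv4 D100490)) (tt N43255 F332301) (tt N89738 D192654) (tt N83231 F286405))
theorem Q53749 : ∀ i, i < 53749 → P i := stepQ 53748 Q53748 (allL N53748 (tt N89739 D192655) (tt N89740 D192656) (tt N89735 (iv2 F387356)) (tt N28517 F154554) (tt N89741 D192657) (tt N28515 (iv5 D100491)) (tt N89742 D192658) (tt N89041 (iv7 F384931)))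
theorem Q53750 : ∀ i, i < 53750 → P i := stepQ 53749 Q53749 (allL N53749 (tt N38909 F363859) (tt N80697 (iv0 F347431)) (tt N89736 (iv2 F387358)) (tt N28518 F154555) (tt N89738 (iv4 F387372)) (tt N89743 D192659) (tt N28515 (iv6 D100492)) (tt N89744 D192660))
theorem Q53751 : ∀ i, i < 53751 → P i := stepQ 53750 Q53750 (allL N53750 (tt N68508 F316727) (tt N68507 F316728) (tt N42517 F316729) (tt N28516 (iv3 D100493)) (tt N89737 (iv4 F387365)) (tt N89745 D192661) (tt N47184 F343508) (tt N47097 F272820))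
theorem Q53752 : ∀ i, i < 53752 → P i := stepQ 53751 Q53751 (allL N53751 (tt N89722 (iv1 F387306)) (tt N89721 F387301) (tt N47100 F272821) (tt N89745 (iv3 F387393)) (tt N89746 D192662) (tt N28516 (iv5 D100494)) (tt N89747 D192663) (tt N47098 F272822))
theorem Q53753 : ∀ i, i < 53753 → P i := stepQ 53752 Q53752 (allL N53752 (tt N54396 (iv1 F272863)) (tt N54403 F272862) (tt N47101 F272823) (tt N47184 F305516) (tt N28518 F154556) (tt N71610 (iv5 F337639)) (tt N28516 (iv6 D100495)) (tt N84139 (iv7 F368274)))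
theorem Q53754 : ∀ i, i < 53754 → P i := stepQ 53753 Q53753 (allL N53753 (tt N72627 F357935) (tt N89729 F387340) (tt N89046 (iv2 F384948)) (tt N89748 D192664) (tt N28517 (iv4 D100496)) (tt N30719 F364111) (tt N89749 D192665) (tt N89044 (iv7 F384942)))
theorem Q53755 : ∀ i, i < 53755 → P i := stepQ 53754 Q53754 (allL N53754 (tt N85376 (iv1 F391927)) (tt N84388 (iv0 F369114)) (tt N85374 F372393) (tt N89742 (iv3 F387384)) (tt N89749 (iv4 F387416)) (tt N89750 D192667) (tt N28517 (iv6 D100497)) (tt N85375 (iv7 F372394)))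
theorem Q53756 : ∀ i, i < 53756 → P i := stepQ 53755 Q53755 (allL N53755 (tt N80296 F333416) (tt N28518 (iv0 D100498)) (tt N79166 F338816) (tt N88992 (iv3 F384702)) (tt N80298 (iv4 F304820)) (tt N83918 (iv5 F367488)) (tt N81200 (iv6 F338819)) (tt N52867 (iv7 F287002)))
theorem Q53757 : ∀ i, i < 53757 → P i := stepQ 53756 Q53756 (allL N53756 (tt N52943 (iv1 F275131)) (tt N52941 (iv0 F154557)) (tt N89047 (iv2 F384952)) (tt N89743 (iv3 F387385)) (tt N89197 (iv4 F385535)) (tt N28518 (iv5 D100500)) (tt N89750 (iv6 F387418)) (tt N54791 F157830))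
theorem Q53758 : ∀ i, i < 53758 → P i := stepQ 53757 Q53757 (allL N53757 (tt N52867 F154559) (tt N79166 F338817) (tt N80296 F333418) (tt N89744 (iv3 F387387)) (tt N84139 F368275) (tt N54791 (iv5 F157829)) (tt N52973 F154558) (tt N28518 (iv7 D100501)))
theorem Q53759 : ∀ i, i < 53759 → P i := stepQ 53758 Q53758 (allL N53758 (tt N44539 F357927) (tt N34118 F357928) (tt N78299 F357929) (tt N28519 (iv3 D100503)) (tt N89751 D192668) (tt N57426 F357930) (tt N89752 D192669) (tt N68478 F357931))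
theorem Q53760 : ∀ i, i < 53760 → P i := stepQ 53759 Q53759 (allL N53759 (tt N54052 F205702) (tt N30721 F332983) (tt N54049 F272732) (tt N89753 D192670) (tt N28519 (iv4 D100504)) (tt N72197 (iv5 F357940)) (tt N89754 D192671) (tt N54050 F272726))
theorem Q53761 : ∀ i, i < 53761 → P i := stepQ 53760 Q53760 (allL N53760 (tt N89755 D192672) (tt N89756 D192673) (tt N89048 (iv2 F384957)) (tt N89752 (iv3 F387432)) (tt N89754 (iv4 F387440)) (tt N89757 D192674) (tt N28519 (iv6 D100506)) (tt N89758 D192675))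
theorem Q53762 : ∀ i, i < 53762 → P i := stepQ 53761 Q53761 (allL N53761 (tt N89329 F386138) (tt N89734 F387355) (tt N80865 F366727) (tt N28520 (iv3 D100508)) (tt N76670 (iv4 F387474)) (tt N80856 (iv5 F366728)) (tt N76669 (iv6 F387471)) (tt N80872 F366729))
theorem Q53763 : ∀ i, i < 53763 → P i := stepQ 53762 Q53762 (allL N53762 (tt N30721 F332984) (tt N54052 F205701) (tt N54050 (iv2 F272731)) (tt N85225 (iv3 F377631)) (tt N28520 (iv4 D100509)) (tt N72198 (iv5 F357944)) (tt N89759 D192678) (tt N54049 (iv7 F272734)))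
theorem Q53764 : ∀ i, i < 53764 → P i := stepQ 53763 Q53763 (allL N53763 (tt N88978 F384997) (tt N88980 (iv0 F387564)) (tt N88906 (iv2 F384499)) (tt N76669 (iv3 F387470)) (tt N89759 (iv4 F387453)) (tt N83922 (iv5 F367506)) (tt N28520 (iv6 D100510)) (tt N89760 D192680))
theorem Q53765 : ∀ i, i < 53765 → P i := stepQ 53764 Q53764 (allL N53764 (tt N89051 (iv1 F384974)) (tt N28521 (iv0 D100511)) (tt N89049 F384960) (tt N58344 F332978) (tt N28672 F274947) (tt N89761 D192681) (tt N89762 D192682) (tt N89050 (iv7 F384964)))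
theorem Q53766 : ∀ i, i < 53766 → P i := stepQ 53765 Q53765 (allL N53765 (tt N28521 (iv1 D100512)) (tt N89051 F384973) (tt N89050 F384968) (tt N89763 D192683) (tt N28673 (iv4 F155366)) (tt N89764 D192684) (tt N89765 D192685) (tt N89049 F384961))
theorem Q53767 : ∀ i, i < 53767 → P i := stepQ 53766 Q53766 (allL N53766 (tt N82257 F368321) (tt N82258 (iv0 F338894)) (tt N89766 D192686) (tt N28521 (iv3 D100513)) (tt N65241 F338891) (tt N89767 D192687) (tt N28542 F154563) (tt N89768 D192688))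
theorem Q53768 : ∀ i, i < 53768 → P i := stepQ 53767 Q53767 (allL N53767 (tt N81984 F345258) (tt N89769 D192689) (tt N65262 F333017) (tt N89767 (iv3 F387484)) (tt N89770 D192690) (tt N28521 (iv5 D100514)) (tt N85236 (iv6 F371988)) (tt N89771 D192691))
theorem Q53769 : ∀ i, i < 53769 → P i := stepQ 53768 Q53768 (allL N53768 (tt N89050 (iv1 F384963)) (tt N89049 F384962) (tt N89051 (iv2 F384969)) (tt N89768 (iv3 F387489)) (tt N28522 F154564) (tt N89771 (iv5 F387503)) (tt N72870 F350397) (tt N28521 (iv7 D100515)))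
theorem Q53770 : ∀ i, i < 53770 → P i := stepQ 53769 Q53769 (allL N53769 (tt N72451 F350415) (tt N72450 F350410) (tt N59044 (iv2 F350399)) (tt N62279 F350398) (tt N72870 F350395) (tt N59467 (iv5 F350400)) (tt N28522 (iv6 D100516)) (tt N28544 F154565))
theorem Q53771 : ∀ i, i < 53771 → P i := stepQ 53770 Q53770 (allL N53770 (tt N88547 (iv1 F383481)) (tt N55307 F352752) (tt N28524 F154566) (tt N89053 (iv3 F384980)) (tt N32828 F325482) (tt N28523 (iv5 D100517)) (tt N89772 D192692) (tt N43188 F325483))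
theorem Q53772 : ∀ i, i < 53772 → P i := stepQ 53771 Q53771 (allL N53771 (tt N43188 F325478) (tt N28524 (iv0 D100519)) (tt N88547 (iv2 F383476)) (tt N48618 (iv3 F154573)) (tt N43241 F325479) (tt N48614 F154572) (tt N89773 D192693) (tt N55307 F352763))
theorem Q53773 : ∀ i, i < 53773 → P i := stepQ 53772 Q53772 (allL N53772 (tt N28524 (iv1 D100520)) (tt N43188 F325480) (tt N55307 F352759) (tt N70881 (iv3 F343923)) (tt N43240 F325481) (tt N55306 (iv5 F352758)) (tt N70880 F362779) (tt N88547 (iv7 F383479)))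
theorem Q53774 : ∀ i, i < 53774 → P i := stepQ 53773 Q53773 (allL N53773 (tt N89774 D192694) (tt N89775 D192695) (tt N89772 (iv2 F387506)) (tt N28526 F154574) (tt N42939 F325485) (tt N83942 (iv5 F367566)) (tt N28524 (iv6 D100522)) (tt N89776 D192696))
theorem Q53775 : ∀ i, i < 53775 → P i := stepQ 53774 Q53774 (allL N53774 (tt N28531 (iv1 F154597)) (tt N28525 (iv0 D100531)) (tt N50356 (iv2 F293921)) (tt N89777 D192697) (tt N29326 F154596) (tt N50118 (iv5 F344198)) (tt N89778 D192698) (tt N50335 (iv7 F293914)))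
theorem Q53776 : ∀ i, i < 53776 → P i := stepQ 53775 Q53775 (allL N53775 (tt N28525 (iv1 D100532)) (tt N28531 F154598) (tt N50335 (iv2 F293913)) (tt N89779 D192699) (tt N29325 F154599) (tt N50112 (iv5 F357541)) (tt N54524 (iv6 F157070)) (tt N50356 (iv7 F293922)))
theorem Q53777 : ∀ i, i < 53777 → P i := stepQ 53776 Q53776 (allL N53776 (tt N89780 D192700) (tt N89781 D192701) (tt N88983 (iv2 F384652)) (tt N42944 F327162) (tt N28526 F154602) (tt N89782 D192702) (tt N28525 (iv6 D100535)) (tt N89783 D192703))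
theorem Q53778 : ∀ i, i < 53778 → P i := stepQ 53777 Q53777 (allL N53777 (tt N88984 (iv1 F384662)) (tt N28526 (iv0 D100536)) (tt N88981 F384640) (tt N89784 D192704) (tt N85398 (iv4 F378247)) (tt N89785 D192705) (tt N88710 F383946) (tt N88982 (iv7 F384645)))
theorem Q53779 : ∀ i, i < 53779 → P i := stepQ 53778 Q53778 (allL N53778 (tt N28526 (iv1 D100537)) (tt N88984 F384661) (tt N88982 F384650) (tt N89687 F387214) (tt N85399 (iv4 F384643)) (tt N89786 D192706) (tt N89787 D192707) (tt N88981 F384642))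
theorem Q53780 : ∀ i, i < 53780 → P i := stepQ 53779 Q53779 (allL N53779 (tt N88982 (iv1 F384644)) (tt N88981 F384641) (tt N88984 (iv2 F384658)) (tt N89776 (iv3 F387512)) (tt N89783 (iv4 F387540)) (tt N83945 (iv5 F367570)) (tt N89057 (iv6 F384994)) (tt N28526 (iv7 D100538)))
theorem Q53781 : ∀ i, i < 53781 → P i := stepQ 53780 Q53780 (allL N53780 (tt N48987 F154612) (tt N48983 (iv0 F154731)) (tt N84779 F370601) (tt N45161 (iv3 F177337)) (tt N28527 (iv4 D100543)) (tt N89788 D192708) (tt N75989 (iv6 F235266)) (tt N45156 (iv7 F177336)))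
theorem Q53782 : ∀ i, i < 53782 → P i := stepQ 53781 Q53781 (allL N53781 (tt N28537 F239752) (tt N76705 (iv0 F360967)) (tt N89052 (iv2 F384975)) (tt N89677 (iv3 F387189)) (tt N84788 (iv4 F370630)) (tt N28527 (iv5 D100544)) (tt N89789 D192709) (tt N84984 (iv7 F371260)))
theorem Q53783 : ∀ i, i < 53783 → P i := stepQ 53782 Q53782 (allL N53782 (tt N88701 (iv1 F383917)) (tt N88699 (iv0 F383906)) (tt N28529 F154625) (tt N43188 F365305) (tt N51079 (iv4 F340055)) (tt N28528 (iv5 D100546)) (tt N89790 D192710) (tt N89053 (iv7 F384982)))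
theorem Q53784 : ∀ i, i < 53784 → P i := stepQ 53783 Q53783 (allL N53783 (tt N54725 (iv1 F157475)) (tt N54724 F157471) (tt N28530 F154626) (tt N54730 (iv3 F157488)) (tt N51078 F154627) (tt N84352 (iv5 F369029)) (tt N28528 (iv6 D100547)) (tt N54726 (iv7 F157473)))
theorem Q53785 : ∀ i, i < 53785 → P i := stepQ 53784 Q53784 (allL N53784 (tt N89053 (iv1 F384983)) (tt N28529 (iv0 D100548)) (tt N88701 (iv2 F383913)) (tt N71292 (iv3 F427861)) (tt N83239 F340058) (tt N85325 (iv5 F372242)) (tt N71290 (iv6 F427863)) (tt N88699 (iv7 F383905)))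
theorem Q53786 : ∀ i, i < 53786 → P i := stepQ 53785 Q53785 (allL N53785 (tt N28529 (iv1 D100549)) (tt N89053 (iv0 F384984)) (tt N88699 (iv2 F383904)) (tt N89678 F387195) (tt N83246 (iv4 F364372)) (tt N83901 (iv5 F368969)) (tt N89791 D192713) (tt N88701 (iv7 F383914)))
theorem Q53787 : ∀ i, i < 53787 → P i := stepQ 53786 Q53786 (allL N53786 (tt N89792 D192714) (tt N89793 D192715) (tt N89790 (iv2 F387581)) (tt N28532 F154628) (tt N85304 (iv4 F372221)) (tt N84354 (iv5 F369039)) (tt N28529 (iv6 D100551)) (tt N89794 D192716))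
theorem Q53788 : ∀ i, i < 53788 → P i := stepQ 53787 Q53787 (allL N53787 (tt N54726 (iv1 F157474)) (tt N28530 (iv0 D100552)) (tt N54725 (iv2 F251234)) (tt N89795 D192717) (tt N61410 F339758) (tt N52864 (iv5 F363720)) (tt N87841 F380801) (tt N54724 F251235))
theorem Q53789 : ∀ i, i < 53789 → P i := stepQ 53788 Q53788 (allL N53788 (tt N28530 (iv1 D100553)) (tt N54726 F157476) (tt N54724 F251233) (tt N87822 F380673) (tt N45138 F161656) (tt N52865 F161657) (tt N28964 F161658) (tt N54725 (iv7 F251232)))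
theorem Q53790 : ∀ i, i < 53790 → P i := stepQ 53789 Q53789 (allL N53789 (tt N57128 (iv1 F388935)) (tt N89796 D192719) (tt N89054 (iv2 F384985)) (tt N85305 (iv3 F372224)) (tt N28532 F154631) (tt N89797 D192720) (tt N28531 (iv6 D100556)) (tt N89798 D192721))
theorem Q53791 : ∀ i, i < 53791 → P i := stepQ 53790 Q53790 (allL N53790 (tt N89057 (iv1 F385001)) (tt N28532 (iv0 D100557)) (tt N89055 (iv2 F384999)) (tt N89691 (iv3 F387229)) (tt N85252 (iv4 F400454)) (tt N89799 D192723) (tt N89800 D192724) (tt N89056 F385000))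
theorem Q53792 : ∀ i, i < 53792 → P i := stepQ 53791 Q53791 (allL N53791 (tt N28532 (iv1 D100558)) (tt N89057 F384996) (tt N89056 (iv2 F384991)) (tt N79392 F366786) (tt N85253 (iv4 F372227)) (tt N79390 F366787) (tt N79391 (iv6 F366785)) (tt N89055 (iv7 F384998)))
theorem Q53793 : ∀ i, i < 53793 → P i := stepQ 53792 Q53792 (allL N53792 (tt N89056 (iv1 F384988)) (tt N89055 F384995) (tt N89057 (iv2 F384993)) (tt N89794 (iv3 F387588)) (tt N89798 (iv4 F387597)) (tt N84358 (iv5 F369045)) (tt N88984 (iv6 F384660)) (tt N28532 (iv7 D100559)))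
theorem Q53794 : ∀ i, i < 53794 → P i := stepQ 53793 Q53793 (allL N53793 (tt N34136 F329999) (tt N29344 F154632) (tt N28533 (iv2 D100561)) (tt N76705 (iv3 F349162)) (tt N32829 F330000) (tt N82735 (iv5 F283713)) (tt N76703 F349163) (tt N82964 (iv7 F285127)))
theorem Q53795 : ∀ i, i < 53795 → P i := stepQ 53794 Q53794 (allL N53794 (tt N29317 F294888) (tt N52883 F283715) (tt N82735 F283712) (tt N28535 F154633) (tt N50627 (iv4 F291422)) (tt N28533 (iv5 D100563)) (tt N49790 (iv6 F154636)) (tt N49515 F154634))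
theorem Q53796 : ∀ i, i < 53796 → P i := stepQ 53795 Q53795 (allL N53795 (tt N89801 D192725) (tt N71257 (iv0 F367395)) (tt N76703 (iv2 F361004)) (tt N28536 F154640) (tt N74521 (iv4 F361013)) (tt N89802 D192726) (tt N28533 (iv6 D100564)) (tt N89803 D192727))
theorem Q53797 : ∀ i, i < 53797 → P i := stepQ 53796 Q53796 (allL N53796 (tt N89804 D192728) (tt N89805 D192729) (tt N54063 (iv2 F155863)) (tt N56931 F339961) (tt N28536 F154642) (tt N56930 (iv5 F363665)) (tt N28534 (iv6 D100567)) (tt N89806 D192730))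
theorem Q53798 : ∀ i, i < 53798 → P i := stepQ 53797 Q53797 (allL N53797 (tt N76696 (iv1 F361024)) (tt N28536 (iv0 D100568)) (tt N89058 F385006) (tt N89807 D192731) (tt N67089 F349174) (tt N89808 D192732) (tt N88980 F384636) (tt N89059 (iv7 F385005)))
theorem Q53799 : ∀ i, i < 53799 → P i := stepQ 53798 Q53798 (allL N53798 (tt N28536 (iv1 D100569)) (tt N76696 F361020) (tt N89059 (iv2 F385007)) (tt N89699 (iv3 F439631)) (tt N89809 D192734) (tt N89810 D192735) (tt N89811 D192736) (tt N89058 F385008))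
theorem Q53800 : ∀ i, i < 53800 → P i := stepQ 53799 Q53799 (allL N53799 (tt N81400 F274941) (tt N89812 D192737) (tt N84741 (iv2 F370439)) (tt N89802 (iv3 F387604)) (tt N71490 (iv4 F368481)) (tt N28536 (iv5 D100570)) (tt N29047 F154643) (tt N89813 D192738))
theorem Q53801 : ∀ i, i < 53801 → P i := stepQ 53800 Q53800 (allL N53800 (tt N89059 (iv1 F385003)) (tt N89058 F385002) (tt N76696 F361018) (tt N89803 (iv3 F387606)) (tt N89806 (iv4 F387611)) (tt N89813 (iv5 F387619)) (tt N89062 (iv6 F385020)) (tt N28536 (iv7 D100571)))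
theorem Q53802 : ∀ i, i < 53802 → P i := stepQ 53801 Q53801 (allL N53801 (tt N84984 (iv1 F371262)) (tt N89052 (iv0 F384977)) (tt N28537 (iv2 D100574)) (tt N82964 (iv3 F285126)) (tt N76708 (iv4 F345124)) (tt N52984 F154644) (tt N89814 D192739) (tt N76705 F349164))
theorem Q53803 : ∀ i, i < 53803 → P i := stepQ 53802 Q53802 (allL N53802 (tt N89815 D192740) (tt N89816 D192741) (tt N89814 (iv2 F387621)) (tt N28539 F154645) (tt N76701 (iv4 F361023)) (tt N52988 F154646) (tt N28537 (iv6 D100576)) (tt N76698 F361022))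
theorem Q53804 : ∀ i, i < 53804 → P i := stepQ 53803 Q53803 (allL N53803 (tt N78469 (iv1 F354679)) (tt N78476 (iv0 F354688)) (tt N54064 (iv2 F155869)) (tt N80580 (iv3 F354678)) (tt N28539 F154648) (tt N80579 F354674) (tt N28538 (iv6 D100579)) (tt N89817 D192742))
theorem Q53805 : ∀ i, i < 53805 → P i := stepQ 53804 Q53804 (allL N53804 (tt N89062 (iv1 F385022)) (tt N28539 (iv0 D100580)) (tt N69946 (iv2 F354686)) (tt N85836 F374176) (tt N80275 F354687) (tt N69940 F354689) (tt N89818 D192743) (tt N89061 (iv7 F385013)))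
theorem Q53806 : ∀ i, i < 53806 → P i := stepQ 53805 Q53805 (allL N53805 (tt N28539 (iv1 D100581)) (tt N89062 F385021) (tt N89061 (iv2 F385017)) (tt N69953 F354682) (tt N82415 (iv4 F354680)) (tt N69947 F354681) (tt N89755 (iv6 F387441)) (tt N69946 (iv7 F354684)))
theorem Q53807 : ∀ i, i < 53807 → P i := stepQ 53806 Q53806 (allL N53806 (tt N89061 (iv1 F385012)) (tt N69946 (iv0 F377962)) (tt N89062 (iv2 F385018)) (tt N76698 (iv3 F361021)) (tt N89817 (iv4 F387623)) (tt N52995 F154649) (tt N76696 F361019) (tt N28539 (iv7 D100582)))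
theorem Q53808 : ∀ i, i < 53808 → P i := stepQ 53807 Q53807 (allL N53807 (tt N32782 F351129) (tt N73023 F351128) (tt N73022 (iv2 F351125)) (tt N28540 (iv3 D100583)) (tt N58347 (iv4 F351130)) (tt N89819 D192744) (tt N82516 F345220) (tt N48336 F345221))
theorem Q53809 : ∀ i, i < 53809 → P i := stepQ 53808 Q53808 (allL N53808 (tt N50135 (iv1 F362671)) (tt N50138 F362672) (tt N50330 (iv2 F293725)) (tt N89819 (iv3 F387627)) (tt N28550 F154650) (tt N28540 (iv5 D100584)) (tt N89820 D192745) (tt N50328 F362673))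
theorem Q53810 : ∀ i, i < 53810 → P i := stepQ 53809 Q53809 (allL N53809 (tt N67089 F351180) (tt N89809 (iv0 F387616)) (tt N55262 F351132) (tt N82516 F345217) (tt N28676 F154651) (tt N55261 (iv5 F351157)) (tt N28540 (iv6 D100585)) (tt N82514 (iv7 F345216)))
theorem Q53811 : ∀ i, i < 53811 → P i := stepQ 53810 Q53810 (allL N53810 (tt N50384 F362363) (tt N73001 F372007) (tt N89821 D192746) (tt N28541 (iv3 D100586)) (tt N76714 (iv4 F351174)) (tt N89822 D192747) (tt N89823 D192748) (tt N55264 (iv7 F351161)))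
theorem Q53812 : ∀ i, i < 53812 → P i := stepQ 53811 Q53811 (allL N53811 (tt N50138 F293424) (tt N50135 F293425) (tt N50328 F293426) (tt N89822 (iv3 F387637)) (tt N28548 F154652) (tt N28541 (iv5 D100587)) (tt N89824 D192749) (tt N50330 (iv7 F293727)))
theorem Q53813 : ∀ i, i < 53813 → P i := stepQ 53812 Q53812 (allL N53812 (tt N80275 F345209) (tt N82415 F345210) (tt N48333 F345211) (tt N89823 (iv3 F387647)) (tt N28678 F154653) (tt N48332 F345212) (tt N28541 (iv6 D100588)) (tt N82512 F345213))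
theorem Q53814 : ∀ i, i < 53814 → P i := stepQ 53813 Q53813 (allL N53813 (tt N89825 D192750) (tt N28542 (iv0 D100589)) (tt N61214 (iv2 F365261)) (tt N89826 D192751) (tt N82261 F371868) (tt N89827 D192752) (tt N89828 D192753) (tt N89829 D192754))
theorem Q53815 : ∀ i, i < 53815 → P i := stepQ 53814 Q53814 (allL N53814 (tt N28542 (iv1 D100590)) (tt N89825 F387658) (tt N89829 (iv2 F387670)) (tt N32780 F365257) (tt N82262 F365258) (tt N66798 F365259) (tt N89830 D192755) (tt N61214 F365260))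
theorem Q53816 : ∀ i, i < 53816 → P i := stepQ 53815 Q53815 (allL N53815 (tt N61214 F372032) (tt N89829 F387673) (tt N28542 (iv2 D100591)) (tt N50388 F362365) (tt N89707 (iv4 F387265)) (tt N85233 (iv5 F371981)) (tt N89766 (iv6 F387481)) (tt N89825 (iv7 F387657)))
theorem Q53817 : ∀ i, i < 53817 → P i := stepQ 53816 Q53816 (allL N53816 (tt N89829 (iv1 F387674)) (tt N61214 (iv0 F365246)) (tt N89825 F387654) (tt N28543 F154655) (tt N89709 (iv4 F387273)) (tt N84833 (iv5 F370790)) (tt N89831 D192756) (tt N28542 (iv7 D100593)))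
theorem Q53818 : ∀ i, i < 53818 → P i := stepQ 53817 Q53817 (allL N53817 (tt N56738 (iv1 F350413)) (tt N72868 F372466) (tt N72452 F350371) (tt N89831 (iv3 F387680)) (tt N28544 F154662) (tt N56742 (iv5 F350393)) (tt N28543 (iv6 D100597)) (tt N72870 (iv7 F350394)))
theorem Q53819 : ∀ i, i < 53819 → P i := stepQ 53818 Q53818 (allL N53818 (tt N59044 (iv1 F350411)) (tt N28544 (iv0 D100598)) (tt N72450 F361314) (tt N89832 D192757) (tt N89833 D192758) (tt N59021 F350412) (tt N89834 D192759) (tt N72451 (iv7 F361313)))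
theorem Q53820 : ∀ i, i < 53820 → P i := stepQ 53819 Q53819 (allL N53819 (tt N28544 (iv1 D100599)) (tt N59044 (iv0 F354331)) (tt N72451 (iv2 F361315)) (tt N68328 F350406) (tt N89835 D192760) (tt N59020 (iv5 F350405)) (tt N89836 D192761) (tt N72450 (iv7 F361317)))
theorem Q53821 : ∀ i, i < 53821 → P i := stepQ 53820 Q53820 (allL N53820 (tt N48897 (iv1 F154735)) (tt N28545 (iv0 D100639)) (tt N84853 (iv2 F370855)) (tt N76224 F366025) (tt N89837 D192762) (tt N55147 (iv5 F364434)) (tt N89184 (iv6 F385484)) (tt N84852 F370851))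
theorem Q53822 : ∀ i, i < 53822 → P i := stepQ 53821 Q53821 (allL N53821 (tt N28545 (iv1 D100640)) (tt N48897 F154736) (tt N84852 F370850) (tt N89838 D192763) (tt N89839 D192764) (tt N55146 (iv5 F335413)) (tt N89840 D192765) (tt N84853 (iv7 F370853)))
theorem Q53823 : ∀ i, i < 53823 → P i := stepQ 53822 Q53822 (allL N53822 (tt N89841 D192766) (tt N89842 D192767) (tt N85633 (iv2 F373291)) (tt N85246 (iv3 F372036)) (tt N28545 (iv4 D100641)) (tt N89843 D192768) (tt N89844 D192769) (tt N84854 (iv7 F370857)))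
theorem Q53824 : ∀ i, i < 53824 → P i := stepQ 53823 Q53823 (allL N53823 (tt N89845 D192770) (tt N89846 D192771) (tt N85634 (iv2 F373293)) (tt N28547 F154737) (tt N89844 (iv4 F387707)) (tt N84197 (iv5 F368492)) (tt N28545 (iv6 D100642)) (tt N89847 D192772))
theorem Q53825 : ∀ i, i < 53825 → P i := stepQ 53824 Q53824 (allL N53824 (tt N55331 (iv1 F159484)) (tt N28547 (iv0 D100647)) (tt N55329 F289428) (tt N89848 D192773) (tt N89849 D192774) (tt N87261 (iv5 F378930)) (tt N89850 D192775) (tt N55330 F289426))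
theorem Q53826 : ∀ i, i < 53826 → P i := stepQ 53825 Q53825 (allL N53825 (tt N28547 (iv1 D100648)) (tt N55331 F159483) (tt N55330 (iv2 F289425)) (tt N89851 D192776) (tt N89852 D192777) (tt N49653 (iv5 F154739)) (tt N77285 (iv6 F357954)) (tt N55329 (iv7 F289427)))
theorem Q53827 : ∀ i, i < 53827 → P i := stepQ 53826 Q53826 (allL N53826 (tt N55330 (iv1 F159478)) (tt N55329 F159482) (tt N55331 (iv2 F159479)) (tt N89847 (iv3 F387714)) (tt N85254 (iv4 F372047)) (tt N84202 (iv5 F368494)) (tt N84860 (iv6 F370881)) (tt N28547 (iv7 D100649)))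
theorem Q53828 : ∀ i, i < 53828 → P i := stepQ 53827 Q53827 (allL N53827 (tt N89853 D192778) (tt N89854 D192779) (tt N50329 F293427) (tt N55106 F367114) (tt N89824 (iv4 F387652)) (tt N32758 F293428) (tt N28548 (iv6 D100658)) (tt N89855 D192780))
theorem Q53829 : ∀ i, i < 53829 → P i := stepQ 53828 Q53828 (allL N53828 (tt N50097 F364359) (tt N50100 F364363) (tt N85851 (iv2 F374214)) (tt N28550 F154769) (tt N89856 D192781) (tt N28549 (iv5 D100667)) (tt N89857 D192782) (tt N50327 F364364))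
theorem Q53830 : ∀ i, i < 53830 → P i := stepQ 53829 Q53829 (allL N53829 (tt N84732 (iv1 F370399)) (tt N51249 (iv0 F364358)) (tt N50765 F364356) (tt N28551 F154770) (tt N53829 F154771) (tt N50261 (iv5 F364355)) (tt N28549 (iv6 D100668)) (tt N50761 F364357))
theorem Q53831 : ∀ i, i < 53831 → P i := stepQ 53830 Q53830 (allL N53830 (tt N50306 F367158) (tt N89858 D192783) (tt N50331 (iv2 F293728)) (tt N89857 (iv3 F387746)) (tt N89820 (iv4 F387630)) (tt N50262 F367157) (tt N28550 (iv6 D100669)) (tt N89859 D192784))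
theorem Q53832 : ∀ i, i < 53832 → P i := stepQ 53831 Q53831 (allL N53831 (tt N28552 (iv1 D100672)) (tt N84411 F369196) (tt N51100 (iv2 F345031)) (tt N41176 F345032) (tt N52984 (iv4 F345033)) (tt N48992 F345134) (tt N49355 F345030) (tt N84412 (iv7 F369202)))
theorem Q53833 : ∀ i, i < 53833 → P i := stepQ 53832 Q53832 (allL N53832 (tt N84412 (iv1 F369203)) (tt N51100 (iv0 F340070)) (tt N28552 (iv2 D100673)) (tt N76193 F340071) (tt N55312 (iv4 F159398)) (tt N85897 (iv5 F374350)) (tt N50752 (iv6 F340069)) (tt N84411 (iv7 F369197)))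
theorem Q53834 : ∀ i, i < 53834 → P i := stepQ 53833 Q53833 (allL N53833 (tt N89860 D192785) (tt N89861 D192786) (tt N50420 F291193) (tt N43266 F291194) (tt N85151 (iv4 F371753)) (tt N43264 F291195) (tt N28553 (iv6 D100679)) (tt N89862 D192787))
theorem Q53835 : ∀ i, i < 53835 → P i := stepQ 53834 Q53834 (allL N53834 (tt N28554 (iv1 D100683)) (tt N76193 F349215) (tt N84392 F369128) (tt N85344 F372309) (tt N76179 (iv4 F349212)) (tt N56101 F349213) (tt N84395 F369136) (tt N84393 (iv7 F369131)))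
theorem Q53836 : ∀ i, i < 53836 → P i := stepQ 53835 Q53835 (allL N53835 (tt N84393 (iv1 F369130)) (tt N84392 F369127) (tt N28554 (iv2 D100684)) (tt N84411 (iv3 F369193)) (tt N51097 F154796) (tt N43029 F329546) (tt N86912 (iv6 F377681)) (tt N76193 F329547))
theorem Q53837 : ∀ i, i < 53837 → P i := stepQ 53836 Q53836 (allL N53836 (tt N89863 D192788) (tt N83949 (iv0 F376697)) (tt N86912 (iv2 F377679)) (tt N28556 F154798) (tt N51098 F154799) (tt N50193 (iv5 F367259)) (tt N28554 (iv6 D100686)) (tt N50750 F367258))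
theorem Q53838 : ∀ i, i < 53838 → P i := stepQ 53837 Q53837 (allL N53837 (tt N89864 D192789) (tt N89865 D192790) (tt N50423 F367265) (tt N76184 (iv3 F365333)) (tt N85152 (iv4 F371757)) (tt N50195 (iv5 F367264)) (tt N28555 (iv6 D100687)) (tt N89866 D192791))
theorem Q53839 : ∀ i, i < 53839 → P i := stepQ 53838 Q53838 (allL N53838 (tt N28558 (iv1 F154804)) (tt N28557 (iv0 D100689)) (tt N28561 (iv2 F154802)) (tt N85378 (iv3 F372402)) (tt N86230 (iv4 F375479)) (tt N84991 (iv5 F371300)) (tt N84767 (iv6 F370546)) (tt N28559 F154803))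
theorem Q53840 : ∀ i, i < 53840 → P i := stepQ 53839 Q53839 (allL N53839 (tt N85344 (iv1 F372313)) (tt N83947 F367582) (tt N50779 (iv2 F362402)) (tt N28557 (iv3 D100691)) (tt N83958 (iv4 F367612)) (tt N86191 (iv5 F375331)) (tt N50777 F362394) (tt N85345 (iv7 F372312)))
theorem Q53841 : ∀ i, i < 53841 → P i := stepQ 53840 Q53840 (allL N53840 (tt N89867 D192792) (tt N84105 F368125) (tt N51113 (iv2 F362387)) (tt N59251 F345048) (tt N28557 (iv4 D100692)) (tt N59249 (iv5 F362388)) (tt N84100 F368106) (tt N89868 D192793))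
theorem Q53842 : ∀ i, i < 53842 → P i := stepQ 53841 Q53841 (allL N53841 (tt N50447 (iv1 F362392)) (tt N50134 F362389) (tt N50450 (iv2 F362391)) (tt N86191 (iv3 F375330)) (tt N89869 D192794) (tt N28557 (iv5 D100693)) (tt N74499 F362395) (tt N50449 F362401))
theorem Q53843 : ∀ i, i < 53843 → P i := stepQ 53842 Q53842 (allL N53842 (tt N28559 F362397) (tt N28561 F362398) (tt N28558 F154806) (tt N85345 (iv3 F372310)) (tt N89868 (iv4 F387806)) (tt N50449 (iv5 F362399)) (tt N51431 F362396) (tt N28557 (iv7 D100695)))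
theorem Q53844 : ∀ i, i < 53844 → P i := stepQ 53843 Q53843 (allL N53843 (tt N84105 F368124) (tt N89867 F387803) (tt N89868 (iv2 F387804)) (tt N48746 F293945) (tt N28558 (iv4 D100697)) (tt N51214 F293946) (tt N49099 F293947) (tt N51113 F293948))
theorem Q53845 : ∀ i, i < 53845 → P i := stepQ 53844 Q53844 (allL N53844 (tt N50870 F362400) (tt N84839 (iv0 F370811)) (tt N28560 F154811) (tt N79047 F367243) (tt N71257 (iv4 F367393)) (tt N28559 (iv5 D100702)) (tt N71256 F367394) (tt N84991 (iv7 F371303)))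
theorem Q53846 : ∀ i, i < 53846 → P i := stepQ 53845 Q53845 (allL N53845 (tt N76703 F361014) (tt N89803 F387607) (tt N71257 F367392) (tt N85240 (iv3 F372010)) (tt N28560 (iv4 D100705)) (tt N89870 D192795) (tt N71252 (iv6 F367391)) (tt N89801 F387602))
theorem Q53847 : ∀ i, i < 53847 → P i := stepQ 53846 Q53846 (allL N53846 (tt N76433 F350374) (tt N89871 D192796) (tt N71256 (iv2 F367390)) (tt N28562 F154812) (tt N71252 F367389) (tt N49366 F154813) (tt N28560 (iv6 D100706)) (tt N89872 D192797))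
theorem Q53848 : ∀ i, i < 53848 → P i := stepQ 53847 Q53847 (allL N53847 (tt N84839 F370812) (tt N50870 (iv0 F367250)) (tt N84991 F371301) (tt N28563 F154814) (tt N89801 (iv4 F387601)) (tt N28561 F154815) (tt N89873 D192798) (tt N28560 (iv7 D100707)))
theorem Q53849 : ∀ i, i < 53849 → P i := stepQ 53848 Q53848 (allL N53848 (tt N86900 (iv1 F377639)) (tt N28562 (iv0 D100715)) (tt N86898 (iv2 F387763)) (tt N89874 D192799) (tt N89875 D192800) (tt N89876 D192801) (tt N89877 D192802) (tt N86899 F387762))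
theorem Q53850 : ∀ i, i < 53850 → P i := stepQ 53849 Q53849 (allL N53849 (tt N28562 (iv1 D100716)) (tt N86900 F377637) (tt N86899 F387759) (tt N75542 F387760) (tt N89878 D192803) (tt N89879 D192804) (tt N75540 (iv6 F387758)) (tt N86898 (iv7 F387761)))
theorem Q53851 : ∀ i, i < 53851 → P i := stepQ 53850 Q53850 (allL N53850 (tt N86899 (iv1 F377629)) (tt N86898 F377636) (tt N86900 (iv2 F377634)) (tt N89872 (iv3 F387814)) (tt N85242 (iv4 F372019)) (tt N49375 F154821) (tt N89880 D192805) (tt N28562 (iv7 D100717)))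
theorem Q53852 : ∀ i, i < 53852 → P i := stepQ 53851 Q53851 (allL N53851 (tt N89881 D192806) (tt N89882 D192807) (tt N84910 (iv2 F371063)) (tt N89873 (iv3 F387816)) (tt N84832 (iv4 F370787)) (tt N54749 (iv5 F367267)) (tt N28563 (iv6 D100718)) (tt N89880 (iv7 F387840)))
theorem Q53853 : ∀ i, i < 53853 → P i := stepQ 53852 Q53852 (allL N53852 (tt N55113 F177340) (tt N85379 (iv0 F372410)) (tt N55149 (iv2 F159043)) (tt N29130 F154823) (tt N48847 F154824) (tt N28930 F309544) (tt N28564 (iv6 D100720)) (tt N85264 (iv7 F372061)))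
theorem Q53854 : ∀ i, i < 53854 → P i := stepQ 53853 Q53853 (allL N53853 (tt N28599 F157782) (tt N28603 F157783) (tt N55161 (iv2 F159073)) (tt N29121 F154825) (tt N48846 F154826) (tt N53922 (iv5 F365283)) (tt N28565 (iv6 D100721)) (tt N89511 (iv7 F386689)))
theorem Q53855 : ∀ i, i < 53855 → P i := stepQ 53854 Q53854 (allL N53854 (tt N87451 F379370) (tt N58243 (iv0 F353328)) (tt N87087 (iv2 F378326)) (tt N59761 (iv3 F353326)) (tt N64374 (iv4 F196499)) (tt N59760 F353327) (tt N28566 (iv6 D100722)) (tt N89883 D192808))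
theorem Q53856 : ∀ i, i < 53856 → P i := stepQ 53855 Q53855 (allL N53855 (tt N55521 F289689) (tt N28567 (iv0 D100723)) (tt N87053 (iv2 F378196)) (tt N29133 F289690) (tt N49131 F289691) (tt N89884 D192809) (tt N89885 D192810) (tt N55528 F289692))
theorem Q53857 : ∀ i, i < 53857 → P i := stepQ 53856 Q53856 (allL N53856 (tt N28567 (iv1 D100724)) (tt N55521 F289697) (tt N55528 F289698) (tt N29124 F289699) (tt N49130 F289700) (tt N89886 D192811) (tt N84686 (iv6 F370223)) (tt N87053 (iv7 F378198)))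
theorem Q53858 : ∀ i, i < 53858 → P i := stepQ 53857 Q53857 (allL N53857 (tt N89887 D192812) (tt N89888 D192813) (tt N89085 (iv2 F385101)) (tt N59762 F359239) (tt N81853 (iv4 F359241)) (tt N28567 (iv5 D100725)) (tt N59760 (iv6 F359238)) (tt N81010 F359240))
theorem Q53859 : ∀ i, i < 53859 → P i := stepQ 53858 Q53858 (allL N53858 (tt N55528 F289677) (tt N87053 (iv0 F378199)) (tt N55521 F289678) (tt N28860 F289679) (tt N28571 F154827) (tt N81010 (iv5 F359242)) (tt N28860 F289623) (tt N28567 (iv7 D100726)))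
theorem Q53860 : ∀ i, i < 53860 → P i := stepQ 53859 Q53859 (allL N53859 (tt N81378 F312000) (tt N28568 (iv0 D100727)) (tt N28849 F312001) (tt N42523 F154828) (tt N63536 (iv4 F187924)) (tt N86785 (iv5 F377190)) (tt N34905 F309794) (tt N42563 (iv7 F155238)))
theorem Q53861 : ∀ i, i < 53861 → P i := stepQ 53860 Q53860 (allL N53860 (tt N89889 D192814) (tt N81386 (iv0 F368399)) (tt N84048 (iv2 F367917)) (tt N35182 F303653) (tt N89890 D192815) (tt N28568 (iv5 D100729)) (tt N28570 F154830) (tt N89891 D192816))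
theorem Q53862 : ∀ i, i < 53862 → P i := stepQ 53861 Q53861 (allL N53861 (tt N42563 F154834) (tt N28849 F310886) (tt N81378 (iv2 F348278)) (tt N34827 F302304) (tt N45658 F302305) (tt N89891 (iv5 F387886)) (tt N28807 F324288) (tt N28568 (iv7 D100730)))
theorem Q53863 : ∀ i, i < 53863 → P i := stepQ 53862 Q53862 (allL N53862 (tt N85479 (iv1 F372767)) (tt N85478 F372762) (tt N28935 F289668) (tt N88403 (iv3 F382890)) (tt N89892 D192817) (tt N28569 (iv5 D100734)) (tt N89893 D192818) (tt N85462 (iv7 F372706)))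
theorem Q53864 : ∀ i, i < 53864 → P i := stepQ 53863 Q53863 (allL N53863 (tt N28605 F363041) (tt N84876 F370964) (tt N28936 F289669) (tt N85504 (iv3 F372877)) (tt N51716 F289670) (tt N89894 D192819) (tt N28569 (iv6 D100735)) (tt N84873 (iv7 F370952)))
theorem Q53865 : ∀ i, i < 53865 → P i := stepQ 53864 Q53864 (allL N53864 (tt N84195 (iv1 F368474)) (tt N28570 (iv0 D100741)) (tt N28945 F367277) (tt N88410 (iv3 F382924)) (tt N88413 (iv4 F382936)) (tt N84181 (iv5 F368446)) (tt N89895 D192820) (tt N84180 (iv7 F368442)))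
theorem Q53866 : ∀ i, i < 53866 → P i := stepQ 53865 Q53865 (allL N53865 (tt N89896 D192821) (tt N53500 (iv0 F378898)) (tt N89086 (iv2 F385103)) (tt N89897 D192822) (tt N28570 (iv4 D100743)) (tt N89898 D192823) (tt N89890 (iv6 F387884)) (tt N89899 D192824))
theorem Q53867 : ∀ i, i < 53867 → P i := stepQ 53866 Q53866 (allL N53866 (tt N84180 (iv1 F368440)) (tt N28945 F357248) (tt N84195 F368478) (tt N49081 F289680) (tt N89899 (iv4 F387910)) (tt N28571 F154840) (tt N89900 D192825) (tt N28570 (iv7 D100744)))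
theorem Q53868 : ∀ i, i < 53868 → P i := stepQ 53867 Q53867 (allL N53867 (tt N89163 (iv1 F385406)) (tt N89148 F385345) (tt N46680 F154841) (tt N28576 F154842) (tt N43147 F303706) (tt N89901 D192826) (tt N28572 (iv6 D100745)) (tt N78366 F303707))
theorem Q53869 : ∀ i, i < 53869 → P i := stepQ 53868 Q53868 (allL N53868 (tt N89181 (iv1 F385478)) (tt N89154 (iv0 F385371)) (tt N89113 (iv2 F385205)) (tt N28577 F154844) (tt N89902 D192827) (tt N28573 (iv5 D100748)) (tt N89901 (iv6 F387919)) (tt N89170 (iv7 F385430)))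
theorem Q53870 : ∀ i, i < 53870 → P i := stepQ 53869 Q53869 (allL N53869 (tt N59957 F321612) (tt N89903 D192828) (tt N59761 F321613) (tt N36330 F321614) (tt N40981 F321615) (tt N31103 F321616) (tt N28574 (iv6 D100750)) (tt N59758 F321617))
theorem Q53871 : ∀ i, i < 53871 → P i := stepQ 53870 Q53870 (allL N53870 (tt N28860 F289594) (tt N28575 (iv0 D100751)) (tt N47616 F331174) (tt N29393 F289596) (tt N48848 F289597) (tt N46220 F331175) (tt N89904 D192829) (tt N47613 F331176))
theorem Q53872 : ∀ i, i < 53872 → P i := stepQ 53871 Q53871 (allL N53871 (tt N28575 (iv1 D100752)) (tt N28860 F289599) (tt N47613 (iv2 F331172)) (tt N55163 F289601) (tt N48849 F289602) (tt N46221 F331171) (tt N83712 F350443) (tt N47616 (iv7 F331173)))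
theorem Q53873 : ∀ i, i < 53873 → P i := stepQ 53872 Q53872 (allL N53872 (tt N28834 F345505) (tt N72137 F356076) (tt N47268 F154850) (tt N89901 (iv3 F387918)) (tt N81478 (iv4 F339170)) (tt N28576 (iv5 D100757)) (tt N28577 F154851) (tt N81823 (iv7 F339178)))
theorem Q53874 : ∀ i, i < 53874 → P i := stepQ 53873 Q53873 (allL N53873 (tt N28597 (iv1 F154870)) (tt N28579 (iv0 D100774)) (tt N28594 F155520) (tt N73984 (iv3 F318431)) (tt N37233 (iv4 F312371)) (tt N89905 D192830) (tt N63972 (iv6 F366673)) (tt N28595 F155521))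
theorem Q53875 : ∀ i, i < 53875 → P i := stepQ 53874 Q53874 (allL N53874 (tt N89906 D192831) (tt N62290 (iv0 F329505)) (tt N28596 F154865) (tt N42509 F154866) (tt N45751 F310107) (tt N28579 (iv5 D100776)) (tt N28582 F154867) (tt N72465 (iv7 F357493)))
theorem Q53876 : ∀ i, i < 53876 → P i := stepQ 53875 Q53875 (allL N53875 (tt N28595 (iv1 F154871)) (tt N28594 F154872) (tt N28597 F154868) (tt N42510 F154869) (tt N46820 F310108) (tt N72465 F357491) (tt N69328 (iv6 F314246)) (tt N28579 (iv7 D100777)))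
theorem Q53877 : ∀ i, i < 53877 → P i := stepQ 53876 Q53876 (allL N53876 (tt N89511 F386691) (tt N55161 (iv0 F159080)) (tt N28599 F154967) (tt N29101 F154877) (tt N28580 (iv4 D100780)) (tt N89907 D192832) (tt N84664 (iv6 F370098)) (tt N28603 F154968))
theorem Q53878 : ∀ i, i < 53878 → P i := stepQ 53877 Q53877 (allL N53877 (tt N51104 (iv1 F335722)) (tt N55290 F354455) (tt N28600 F154969) (tt N76294 (iv3 F349220)) (tt N89908 D192833) (tt N28580 (iv5 D100781)) (tt N73297 F365249) (tt N28604 F154970))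
theorem Q53879 : ∀ i, i < 53879 → P i := stepQ 53878 Q53878 (allL N53878 (tt N55161 F159077) (tt N89511 (iv0 F386690)) (tt N28603 F154976) (tt N85379 (iv3 F372407)) (tt N28581 (iv4 D100784)) (tt N89909 D192834) (tt N89910 D192835) (tt N28599 F154977))
theorem Q53880 : ∀ i, i < 53880 → P i := stepQ 53879 Q53879 (allL N53879 (tt N55290 F354454) (tt N51104 (iv0 F335721)) (tt N28604 F154978) (tt N44392 F329910) (tt N89911 D192836) (tt N28581 (iv5 D100785)) (tt N89912 D192837) (tt N28600 F154979))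
theorem Q53881 : ∀ i, i < 53881 → P i := stepQ 53880 Q53880 (allL N53880 (tt N84873 F370954) (tt N28936 F357141) (tt N28605 F154980) (tt N49015 F154880) (tt N89910 (iv4 F387973)) (tt N84283 (iv5 F368794)) (tt N28581 (iv6 D100786)) (tt N84876 (iv7 F370965)))
theorem Q53882 : ∀ i, i < 53882 → P i := stepQ 53881 Q53881 (allL N53881 (tt N28609 (iv1 F154886)) (tt N28582 (iv0 D100787)) (tt N28606 F270479) (tt N72616 (iv3 F365060)) (tt N74189 F365273) (tt N85908 (iv5 F374412)) (tt N54330 F357399) (tt N28607 F270480))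
theorem Q53883 : ∀ i, i < 53883 → P i := stepQ 53882 Q53882 (allL N53882 (tt N87789 (iv1 F380510)) (tt N28588 F329987) (tt N28608 F154883) (tt N48914 F329988) (tt N28582 (iv4 D100789)) (tt N50661 (iv5 F357428)) (tt N45751 F357425) (tt N85625 (iv7 F373259)))
theorem Q53884 : ∀ i, i < 53884 → P i := stepQ 53883 Q53883 (allL N53883 (tt N28607 (iv1 F154887)) (tt N28606 F154888) (tt N28609 F154884) (tt N86255 (iv3 F375601)) (tt N85625 (iv4 F373260)) (tt N28583 F154885) (tt N62255 (iv6 F357522)) (tt N28582 (iv7 D100790)))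
theorem Q53885 : ∀ i, i < 53885 → P i := stepQ 53884 Q53884 (allL N53884 (tt N65170 (iv1 F199432)) (tt N64424 (iv0 F196844)) (tt N75986 (iv2 F235195)) (tt N28584 (iv3 D100791)) (tt N45296 F154889) (tt N53553 (iv5 F301798)) (tt N89913 D192838) (tt N53552 (iv7 F302986)))
theorem Q53886 : ∀ i, i < 53886 → P i := stepQ 53885 Q53885 (allL N53885 (tt N64408 F356535) (tt N84345 (iv0 F369003)) (tt N84346 (iv2 F369004)) (tt N89913 (iv3 F387982)) (tt N28585 F154890) (tt N88569 (iv5 F383513)) (tt N28584 (iv6 D100792)) (tt N54719 F353232))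
theorem Q53887 : ∀ i, i < 53887 → P i := stepQ 53886 Q53886 (allL N53886 (tt N84344 (iv1 F369001)) (tt N28585 (iv0 D100793)) (tt N87259 F378922) (tt N47711 F357197) (tt N49738 F357198) (tt N89914 D192839) (tt N89915 D192840) (tt N87195 (iv7 F378670)))
theorem Q53888 : ∀ i, i < 53888 → P i := stepQ 53887 Q53887 (allL N53887 (tt N28585 (iv1 D100794)) (tt N84344 F368999) (tt N87195 (iv2 F378669)) (tt N79970 (iv3 F346748)) (tt N49737 F357192) (tt N89916 D192841) (tt N89917 D192842) (tt N87259 (iv7 F378924)))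
theorem Q53889 : ∀ i, i < 53889 → P i := stepQ 53888 Q53888 (allL N53888 (tt N89918 D192843) (tt N89919 D192844) (tt N87260 (iv2 F378925)) (tt N51625 F154891) (tt N83207 F361894) (tt N28585 (iv5 D100795)) (tt N28588 F154892) (tt N89920 D192845))
theorem Q53890 : ∀ i, i < 53890 → P i := stepQ 53889 Q53889 (allL N53889 (tt N87195 F378673) (tt N87259 F378923) (tt N84344 (iv2 F368996)) (tt N51626 F154893) (tt N54719 (iv4 F353230)) (tt N89920 (iv5 F387994)) (tt N49718 F353229) (tt N28585 (iv7 D100796)))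
theorem Q53891 : ∀ i, i < 53891 → P i := stepQ 53890 Q53890 (allL N53890 (tt N89921 D192846) (tt N55065 (iv0 F356263)) (tt N86238 (iv2 F375515)) (tt N29231 F154894) (tt N53908 (iv4 F349153)) (tt N28586 (iv5 D100797)) (tt N89922 D192847) (tt N29307 F154895))
theorem Q53892 : ∀ i, i < 53892 → P i := stepQ 53891 Q53891 (allL N53891 (tt N55065 F287722) (tt N89921 F387999) (tt N29307 F154896) (tt N86089 (iv3 F375082)) (tt N53644 (iv4 F349160)) (tt N28587 (iv5 D100798)) (tt N89923 D192848) (tt N86238 (iv7 F375519)))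
theorem Q53893 : ∀ i, i < 53893 → P i := stepQ 53892 Q53892 (allL N53892 (tt N55098 (iv1 F159341)) (tt N51716 F158655) (tt N29308 F154897) (tt N55506 (iv3 F160407)) (tt N83197 (iv4 F286255)) (tt N87992 (iv5 F381414)) (tt N28587 (iv6 D100799)) (tt N55509 (iv7 F160419)))
theorem Q53894 : ∀ i, i < 53894 → P i := stepQ 53893 Q53893 (allL N53893 (tt N28588 (iv1 D100801)) (tt N87789 F380509) (tt N85625 (iv2 F373257)) (tt N87619 (iv3 F379902)) (tt N28609 F329989) (tt N83218 F357432) (tt N72466 F357563) (tt N28608 F329990))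
theorem Q53895 : ∀ i, i < 53895 → P i := stepQ 53894 Q53894 (allL N53894 (tt N85625 (iv1 F373262)) (tt N28608 F329992) (tt N87789 (iv2 F380505)) (tt N51627 F154898) (tt N55346 F329993) (tt N28589 F154899) (tt N89924 D192849) (tt N28588 (iv7 D100803)))
theorem Q53896 : ∀ i, i < 53896 → P i := stepQ 53895 Q53895 (allL N53895 (tt N88478 (iv1 F383217)) (tt N88481 (iv0 F383227)) (tt N88822 (iv2 F384256)) (tt N42897 F302464) (tt N48684 F154905) (tt N80983 F353952) (tt N28592 (iv6 D100809)) (tt N43532 F302465))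
theorem Q53897 : ∀ i, i < 53897 → P i := stepQ 53896 Q53896 (allL N53896 (tt N33943 F303100) (tt N43158 F305115) (tt N43156 F306771) (tt N28593 (iv3 D100810)) (tt N34469 F154907) (tt N34712 F154908) (tt N43439 F302429) (tt N43157 F306772))
theorem Q53898 : ∀ i, i < 53898 → P i := stepQ 53897 Q53897 (allL N53897 (tt N89925 D192850) (tt N89926 D192851) (tt N89905 (iv2 F387935)) (tt N62424 (iv3 F336659)) (tt N78648 (iv4 F356159)) (tt N28594 (iv5 D100822)) (tt N62422 F364234) (tt N80597 (iv7 F268750)))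
theorem Q53899 : ∀ i, i < 53899 → P i := stepQ 53898 Q53898 (allL N53898 (tt N80595 (iv1 F335236)) (tt N69568 (iv0 F309756)) (tt N64308 (iv2 F195794)) (tt N28595 (iv3 D100825)) (tt N43165 F307748) (tt N89927 D192852) (tt N89928 D192853) (tt N73984 (iv7 F318432)))
theorem Q53900 : ∀ i, i < 53900 → P i := stepQ 53899 Q53899 (allL N53899 (tt N89926 (iv1 F388019)) (tt N89925 F388016) (tt N80597 (iv2 F268748)) (tt N89927 (iv3 F388026)) (tt N78647 (iv4 F356160)) (tt N28595 (iv5 D100827)) (tt N89929 D192854) (tt N89905 (iv7 F387937)))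
theorem Q53901 : ∀ i, i < 53901 → P i := stepQ 53900 Q53900 (allL N53900 (tt N89930 D192855) (tt N88480 (iv0 F388025)) (tt N80598 (iv2 F268751)) (tt N89928 (iv3 F388027)) (tt N69340 (iv4 F353802)) (tt N89931 D192856) (tt N28595 (iv6 D100828)) (tt N89932 D192857))
theorem Q53902 : ∀ i, i < 53902 → P i := stepQ 53901 Q53901 (allL N53901 (tt N72465 (iv1 F357492)) (tt N28596 (iv0 D100829)) (tt N89906 F387942) (tt N31711 F356132) (tt N60549 (iv4 F356138)) (tt N34908 F356133) (tt N44328 F356134) (tt N62290 F356135))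
theorem Q53903 : ∀ i, i < 53903 → P i := stepQ 53902 Q53902 (allL N53902 (tt N28596 (iv1 D100830)) (tt N72465 (iv0 F357489)) (tt N62290 F356152) (tt N89933 D192858) (tt N78653 F356153) (tt N78620 (iv5 F356151)) (tt N89934 D192859) (tt N89906 (iv7 F387944)))
theorem Q53904 : ∀ i, i < 53904 → P i := stepQ 53903 Q53903 (allL N53903 (tt N79502 F356140) (tt N79500 F356141) (tt N45751 F356142) (tt N89935 D192860) (tt N28596 (iv4 D100831)) (tt N45749 F356143) (tt N28608 F154928) (tt N80928 F356144))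
theorem Q53905 : ∀ i, i < 53905 → P i := stepQ 53904 Q53904 (allL N53904 (tt N62290 (iv1 F329506)) (tt N89906 F387943) (tt N72465 F357494) (tt N28625 F154929) (tt N80928 F356174) (tt N28597 F154930) (tt N62256 (iv6 F357517)) (tt N28596 (iv7 D100832)))
theorem Q53906 : ∀ i, i < 53906 → P i := stepQ 53905 Q53905 (allL N53905 (tt N28603 F154946) (tt N28599 (iv0 D100843)) (tt N89511 (iv2 F386685)) (tt N41172 F295947) (tt N48934 F154944) (tt N41171 F295948) (tt N85264 (iv6 F372060)) (tt N55161 F159076))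
theorem Q53907 : ∀ i, i < 53907 → P i := stepQ 53906 Q53906 (allL N53906 (tt N89911 (iv1 F387978)) (tt N89908 (iv0 F387961)) (tt N89907 (iv2 F387946)) (tt N89089 (iv3 F385116)) (tt N89936 D192861) (tt N28599 (iv5 D100845)) (tt N32197 F368785) (tt N89909 (iv7 F387966)))
theorem Q53908 : ∀ i, i < 53908 → P i := stepQ 53907 Q53907 (allL N53907 (tt N83712 F367057) (tt N87836 (iv0 F380768)) (tt N84664 F370101) (tt N84870 (iv3 F370930)) (tt N28601 F154950) (tt N89937 D192862) (tt N28599 (iv6 D100846)) (tt N85454 (iv7 F372677)))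
theorem Q53909 : ∀ i, i < 53909 → P i := stepQ 53908 Q53908 (allL N53908 (tt N28604 (iv1 F154956)) (tt N28600 (iv0 D100848)) (tt N51104 (iv2 F294162)) (tt N84225 (iv3 F368588)) (tt N53890 F349153) (tt N51103 (iv5 F294160)) (tt N59259 (iv6 F347692)) (tt N55290 (iv7 F349154)))
theorem Q53910 : ∀ i, i < 53910 → P i := stepQ 53909 Q53909 (allL N53909 (tt N89907 (iv1 F387949)) (tt N89909 (iv0 F387968)) (tt N89908 (iv2 F387958)) (tt N55239 (iv3 F349156)) (tt N28600 (iv4 D100850)) (tt N74191 F349157) (tt N73293 F349158) (tt N89911 (iv7 F387976)))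
theorem Q53911 : ∀ i, i < 53911 → P i := stepQ 53910 Q53910 (allL N53910 (tt N80679 F270427) (tt N51149 (iv0 F294222)) (tt N80687 (iv2 F270494)) (tt N38787 F361231) (tt N70035 F361232) (tt N28601 (iv5 D100855)) (tt N73298 (iv6 F361233)) (tt N80686 (iv7 F361753)))
theorem Q53912 : ∀ i, i < 53912 → P i := stepQ 53911 Q53911 (allL N53911 (tt N48906 F154962) (tt N29298 (iv0 F154963)) (tt N48910 F154961) (tt N55116 (iv3 F158935)) (tt N28602 (iv4 D100861)) (tt N59818 F358515) (tt N83527 F363038) (tt N48909 (iv7 F154964)))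
theorem Q53913 : ∀ i, i < 53913 → P i := stepQ 53912 Q53912 (allL N53912 (tt N74873 (iv1 F365254)) (tt N76295 F365256) (tt N76293 F349222) (tt N28604 F155002) (tt N89938 D192863) (tt N28602 (iv5 D100862)) (tt N89939 D192864) (tt N76294 (iv7 F349221)))
theorem Q53914 : ∀ i, i < 53914 → P i := stepQ 53913 Q53913 (allL N53913 (tt N89940 D192865) (tt N88384 (iv0 F388065)) (tt N89115 (iv2 F385215)) (tt N28605 F155003) (tt N83527 (iv4 F343085)) (tt N89941 D192867) (tt N28602 (iv6 D100863)) (tt N89942 D192868))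
theorem Q53915 : ∀ i, i < 53915 → P i := stepQ 53914 Q53914 (allL N53914 (tt N89908 (iv1 F387963)) (tt N89911 (iv0 F387977)) (tt N89909 (iv2 F387965)) (tt N55117 (iv3 F158938)) (tt N89490 F386636) (tt N28603 (iv5 D100864)) (tt N89943 D192869) (tt N89907 (iv7 F387948)))
theorem Q53916 : ∀ i, i < 53916 → P i := stepQ 53915 Q53915 (allL N53915 (tt N89944 D192870) (tt N89885 (iv0 F387868)) (tt N89910 (iv2 F387971)) (tt N55118 (iv3 F158941)) (tt N28605 F155004) (tt N89945 D192871) (tt N28603 (iv6 D100865)) (tt N89946 D192872))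
theorem Q53917 : ∀ i, i < 53917 → P i := stepQ 53916 Q53916 (allL N53916 (tt N89909 (iv1 F387969)) (tt N89907 (iv0 F387951)) (tt N89911 (iv2 F387974)) (tt N87372 (iv3 F379148)) (tt N28604 (iv4 D100866)) (tt N87369 F379146) (tt N89947 D192873) (tt N89908 (iv7 F387960)))
theorem Q53918 : ∀ i, i < 53918 → P i := stepQ 53917 Q53917 (allL N53917 (tt N89604 (iv1 F411652)) (tt N89948 D192875) (tt N89912 (iv2 F387979)) (tt N89939 (iv3 F388058)) (tt N89947 (iv4 F388076)) (tt N89949 D192876) (tt N28604 (iv6 D100867)) (tt N89950 D192877))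
theorem Q53919 : ∀ i, i < 53919 → P i := stepQ 53918 Q53918 (allL N53918 (tt N83693 F368821) (tt N84034 (iv0 F367878)) (tt N84283 F368795) (tt N89941 (iv3 F388061)) (tt N89951 D192878) (tt N28605 (iv5 D100870)) (tt N89949 (iv6 F388079)) (tt N84284 (iv7 F368797)))
theorem Q53920 : ∀ i, i < 53920 → P i := stepQ 53919 Q53919 (allL N53919 (tt N28936 F357142) (tt N84873 (iv0 F370953)) (tt N84876 F370963) (tt N89942 (iv3 F388062)) (tt N89946 (iv4 F388074)) (tt N84284 F368798) (tt N87674 F380110) (tt N28605 (iv7 D100871)))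
theorem Q53921 : ∀ i, i < 53921 → P i := stepQ 53920 Q53920 (allL N53920 (tt N70937 F357161) (tt N89952 D192879) (tt N54330 F335334) (tt N72459 (iv3 F357157)) (tt N54421 F335335) (tt N47489 F335336) (tt N28606 (iv6 D100876)) (tt N54419 F335337))
theorem Q53922 : ∀ i, i < 53922 → P i := stepQ 53921 Q53921 (allL N53921 (tt N72615 (iv1 F365063)) (tt N72500 (iv0 F365347)) (tt N72457 (iv2 F365062)) (tt N28607 (iv3 D100878)) (tt N89953 D192880) (tt N86236 (iv5 F375506)) (tt N89954 D192881) (tt N72616 F365061))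
theorem Q53923 : ∀ i, i < 53923 → P i := stepQ 53922 Q53922 (allL N53922 (tt N74188 (iv1 F365279)) (tt N74139 (iv0 F368779)) (tt N72604 (iv2 F365281)) (tt N54939 F365282) (tt N28607 (iv4 D100879)) (tt N53853 F365283) (tt N54551 F368777) (tt N74189 F365280))
theorem Q53924 : ∀ i, i < 53924 → P i := stepQ 53923 Q53923 (allL N53923 (tt N86265 (iv1 F390215)) (tt N89955 D192883) (tt N72178 (iv2 F365301)) (tt N89954 (iv3 F388097)) (tt N54551 F368775) (tt N85469 (iv5 F372727)) (tt N28607 (iv6 D100881)) (tt N89956 D192884))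
theorem Q53925 : ∀ i, i < 53925 → P i := stepQ 53924 Q53924 (allL N53924 (tt N85281 F372165) (tt N41181 F365240) (tt N85623 (iv2 F373246)) (tt N28608 (iv3 D100884)) (tt N28630 F155009) (tt N85622 F373245) (tt N89935 (iv6 F388045)) (tt N87619 (iv7 F379904)))
theorem Q53926 : ∀ i, i < 53926 → P i := stepQ 53925 Q53925 (allL N53925 (tt N52699 F356185) (tt N83219 F367118) (tt N50661 (iv2 F357427)) (tt N85622 (iv3 F373240)) (tt N84398 (iv4 F369149)) (tt N28608 (iv5 D100885)) (tt N80130 (iv6 F356183)) (tt N83218 (iv7 F357431)))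
theorem Q53927 : ∀ i, i < 53927 → P i := stepQ 53926 Q53926 (allL N53926 (tt N48994 (iv1 F155021)) (tt N28610 (iv0 D100889)) (tt N46721 F155023) (tt N45301 F155020) (tt N34783 F155019) (tt N45300 F155018) (tt N72373 (iv6 F359367)) (tt N46719 (iv7 F155022)))
theorem Q53928 : ∀ i, i < 53928 → P i := stepQ 53927 Q53927 (allL N53927 (tt N28610 (iv1 D100890)) (tt N48994 F155024) (tt N46719 (iv2 F155027)) (tt N38275 F306152) (tt N34784 F155026) (tt N55180 (iv5 F159138)) (tt N38273 F306153) (tt N46721 F155025))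
theorem Q53929 : ∀ i, i < 53929 → P i := stepQ 53928 Q53928 (allL N53928 (tt N51992 F155035) (tt N42402 F310168) (tt N78932 (iv2 F251427)) (tt N32803 F155033) (tt N63018 (iv4 F307858)) (tt N28610 (iv5 D100891)) (tt N89957 D192885) (tt N49387 F155034))
theorem Q53930 : ∀ i, i < 53930 → P i := stepQ 53929 Q53929 (allL N53929 (tt N76449 F337181) (tt N76448 F337186) (tt N76160 (iv2 F304002)) (tt N44781 F155037) (tt N28611 F155038) (tt N33780 F332502) (tt N28610 (iv6 D100892)) (tt N63326 F337187))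
theorem Q53931 : ∀ i, i < 53931 → P i := stepQ 53930 Q53930 (allL N53930 (tt N63933 (iv1 F304526)) (tt N28611 (iv0 D100893)) (tt N80435 F340966) (tt N80501 F340969) (tt N64364 (iv4 F340965)) (tt N89958 D192886) (tt N76487 F340967) (tt N80437 F340968))
theorem Q53932 : ∀ i, i < 53932 → P i := stepQ 53931 Q53931 (allL N53931 (tt N28611 (iv1 D100894)) (tt N63933 (iv0 F304525)) (tt N80437 (iv2 F340970)) (tt N89659 (iv3 F387127)) (tt N64363 (iv4 F340978)) (tt N83446 F346093) (tt N72800 (iv6 F340975)) (tt N80435 (iv7 F340971)))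
theorem Q53933 : ∀ i, i < 53933 → P i := stepQ 53932 Q53932 (allL N53932 (tt N89959 D192887) (tt N89960 D192888) (tt N82611 (iv2 F283232)) (tt N28614 F155039) (tt N89961 D192889) (tt N28611 (iv5 D100895)) (tt N49282 F155040) (tt N89962 D192890))
theorem Q53934 : ∀ i, i < 53934 → P i := stepQ 53933 Q53933 (allL N53933 (tt N80437 (iv1 F337197)) (tt N80435 (iv0 F340972)) (tt N63933 (iv2 F304527)) (tt N28615 F155041) (tt N63326 (iv4 F337188)) (tt N89962 (iv5 F388113)) (tt N49390 F155042) (tt N28611 (iv7 D100896)))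
theorem Q53935 : ∀ i, i < 53935 → P i := stepQ 53934 Q53934 (allL N53934 (tt N84073 (iv1 F368017)) (tt N89202 (iv0 F385566)) (tt N49660 F366762) (tt N63138 F366765) (tt N89963 D192891) (tt N28612 (iv5 D100900)) (tt N89964 D192892) (tt N49662 (iv7 F366763)))
theorem Q53936 : ∀ i, i < 53936 → P i := stepQ 53935 Q53935 (allL N53935 (tt N28621 F338067) (tt N76484 F338068) (tt N49661 F338110) (tt N63139 (iv3 F338071)) (tt N80953 (iv4 F272670)) (tt N28858 F155044) (tt N28612 (iv6 D100901)) (tt N81384 F338073))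
theorem Q53937 : ∀ i, i < 53937 → P i := stepQ 53936 Q53936 (allL N53936 (tt N89202 (iv1 F385565)) (tt N84073 (iv0 F368018)) (tt N49662 F366706) (tt N88482 (iv3 F383229)) (tt N89965 D192893) (tt N28613 (iv5 D100905)) (tt N89614 (iv6 F386952)) (tt N49660 (iv7 F366705)))
theorem Q53938 : ∀ i, i < 53938 → P i := stepQ 53937 Q53937 (allL N53937 (tt N54264 F338117) (tt N28668 F338118) (tt N49663 F338119) (tt N88483 (iv3 F383235)) (tt N80956 (iv4 F272673)) (tt N84089 (iv5 F368058)) (tt N28613 (iv6 D100906)) (tt N89107 (iv7 F385181)))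
theorem Q53939 : ∀ i, i < 53939 → P i := stepQ 53938 Q53938 (allL N53938 (tt N49658 (iv1 F155050)) (tt N28614 (iv0 D100907)) (tt N49664 (iv2 F156663)) (tt N82320 (iv3 F362740)) (tt N88565 (iv4 F383502)) (tt N53372 (iv5 F156677)) (tt N89610 (iv6 F386946)) (tt N49665 (iv7 F156667)))
theorem Q53940 : ∀ i, i < 53940 → P i := stepQ 53939 Q53939 (allL N53939 (tt N89412 (iv1 F386403)) (tt N89414 (iv0 F386409)) (tt N49666 F155046) (tt N89966 D192894) (tt N28614 (iv4 D100908)) (tt N89967 D192895) (tt N49288 F155047) (tt N89968 D192896))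
theorem Q53941 : ∀ i, i < 53941 → P i := stepQ 53940 Q53940 (allL N53940 (tt N49665 (iv1 F155051)) (tt N49664 F155052) (tt N49658 F155048) (tt N89962 (iv3 F388112)) (tt N89968 (iv4 F388133)) (tt N28615 F155049) (tt N89969 D192897) (tt N28614 (iv7 D100909)))
theorem Q53942 : ∀ i, i < 53942 → P i := stepQ 53941 Q53941 (allL N53941 (tt N77317 F363858) (tt N77315 (iv0 F361933)) (tt N76495 F365561) (tt N28617 F155061) (tt N77679 F365564) (tt N28616 (iv5 D100920)) (tt N89271 (iv6 F385869)) (tt N89074 (iv7 F385052)))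
theorem Q53943 : ∀ i, i < 53943 → P i := stepQ 53942 Q53942 (allL N53942 (tt N28617 (iv1 D100929)) (tt N28620 F155069) (tt N54386 (iv2 F156794)) (tt N89926 F388023) (tt N74621 F366171) (tt N53383 (iv5 F156730)) (tt N89031 F384878) (tt N53382 (iv7 F156726)))
theorem Q53944 : ∀ i, i < 53944 → P i := stepQ 53943 Q53943 (allL N53943 (tt N89436 (iv1 F386514)) (tt N89438 (iv0 F386518)) (tt N89072 (iv2 F385042)) (tt N89970 D192898) (tt N28617 (iv4 D100930)) (tt N89482 (iv5 F386623)) (tt N73438 F385874) (tt N89075 (iv7 F385054)))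
theorem Q53945 : ∀ i, i < 53945 → P i := stepQ 53944 Q53944 (allL N53944 (tt N51182 F367187) (tt N51178 (iv0 F366980)) (tt N89073 (iv2 F385044)) (tt N89271 F385872) (tt N73438 (iv4 F385873)) (tt N54294 (iv5 F156492)) (tt N28617 (iv6 D100931)) (tt N89971 D192899))
theorem Q53946 : ∀ i, i < 53946 → P i := stepQ 53945 Q53945 (allL N53945 (tt N28618 (iv1 D100934)) (tt N49649 F156399) (tt N49651 F156394) (tt N63971 F344940) (tt N81079 (iv4 F273362)) (tt N84069 (iv5 F367983)) (tt N28836 (iv6 F155073)) (tt N49402 (iv7 F156393)))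
theorem Q53947 : ∀ i, i < 53947 → P i := stepQ 53946 Q53946 (allL N53946 (tt N64688 (iv1 F332023)) (tt N54160 F156901) (tt N49019 F156898) (tt N28620 F155075) (tt N81060 F332012) (tt N28619 (iv5 D100941)) (tt N77395 (iv6 F353858)) (tt N49016 (iv7 F156900)))
theorem Q53948 : ∀ i, i < 53948 → P i := stepQ 53947 Q53947 (allL N53947 (tt N89438 (iv1 F386519)) (tt N89436 (iv0 F386513)) (tt N89075 (iv2 F385053)) (tt N89972 D192900) (tt N28620 (iv4 D100946)) (tt N89483 (iv5 F386624)) (tt N89973 D192901) (tt N89072 (iv7 F385043)))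
theorem Q53949 : ∀ i, i < 53949 → P i := stepQ 53948 Q53948 (allL N53948 (tt N89586 (iv1 F386841)) (tt N51112 (iv0 F293434)) (tt N89076 (iv2 F385055)) (tt N77395 F353859) (tt N89973 (iv4 F388155)) (tt N77390 (iv5 F353860)) (tt N28620 (iv6 D100947)) (tt N89585 (iv7 F386832)))
theorem Q53950 : ∀ i, i < 53950 → P i := stepQ 53949 Q53949 (allL N53949 (tt N76484 (iv1 F338090)) (tt N28621 (iv0 D100948)) (tt N81384 (iv2 F338109)) (tt N89930 (iv3 F388029)) (tt N81087 F338091) (tt N28857 F155078) (tt N89107 F385183) (tt N49661 (iv7 F338112)))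
theorem Q53951 : ∀ i, i < 53951 → P i := stepQ 53950 Q53950 (allL N53950 (tt N49661 F156400) (tt N81384 (iv0 F274900)) (tt N76484 (iv2 F338063)) (tt N63944 (iv3 F304536)) (tt N61581 (iv4 F334796)) (tt N54428 F156852) (tt N49649 F156398) (tt N28621 (iv7 D100951)))
theorem Q53952 : ∀ i, i < 53952 → P i := stepQ 53951 Q53951 (allL N53951 (tt N89121 (iv1 F385244)) (tt N88381 (iv0 F382827)) (tt N43753 F366825) (tt N28622 (iv3 D100953)) (tt N73249 F366826) (tt N43748 F366827) (tt N76370 F366828) (tt N89078 (iv7 F385075)))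
theorem Q53953 : ∀ i, i < 53953 → P i := stepQ 53952 Q53952 (allL N53952 (tt N86271 F385621) (tt N89974 D192902) (tt N89077 (iv2 F385060)) (tt N76370 (iv3 F366824)) (tt N57804 (iv4 F385070)) (tt N49711 F155573) (tt N28622 (iv6 D100955)) (tt N89975 D192903))
theorem Q53954 : ∀ i, i < 53954 → P i := stepQ 53953 Q53953 (allL N53953 (tt N28693 F184733) (tt N43759 F306425) (tt N43761 F306426) (tt N28623 (iv3 D100957)) (tt N89976 D192904) (tt N35083 F306427) (tt N89977 D192905) (tt N35082 F306428))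
theorem Q53955 : ∀ i, i < 53955 → P i := stepQ 53954 Q53954 (allL N53954 (tt N89978 D192906) (tt N71644 F352527) (tt N89079 (iv2 F385079)) (tt N89977 (iv3 F388170)) (tt N89481 (iv4 F386622)) (tt N60634 (iv5 F352526)) (tt N28623 (iv6 D100958)) (tt N89979 D192907))
theorem Q53956 : ∀ i, i < 53956 → P i := stepQ 53955 Q53955 (allL N53955 (tt N89082 (iv1 F385092)) (tt N28624 (iv0 D100959)) (tt N53582 (iv2 F268286)) (tt N89980 D192908) (tt N53189 F268287) (tt N89981 D192909) (tt N89982 D192910) (tt N53585 F268288))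
theorem Q53957 : ∀ i, i < 53957 → P i := stepQ 53956 Q53956 (allL N53956 (tt N28624 (iv1 D100960)) (tt N89082 F385091) (tt N53585 F268285) (tt N89983 D192911) (tt N52960 F155575) (tt N89984 D192912) (tt N89985 D192913) (tt N53582 (iv7 F268281)))
theorem Q53958 : ∀ i, i < 53958 → P i := stepQ 53957 Q53957 (allL N53957 (tt N41503 F331777) (tt N30389 F331778) (tt N41500 F331779) (tt N28624 (iv3 D100961)) (tt N89935 (iv4 F388043)) (tt N89986 D192914) (tt N28630 F155576) (tt N41501 F331780))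
theorem Q53959 : ∀ i, i < 53959 → P i := stepQ 53958 Q53958 (allL N53958 (tt N89987 D192915) (tt N89988 D192916) (tt N89081 (iv2 F385086)) (tt N89986 (iv3 F388200)) (tt N89989 D192917) (tt N28624 (iv5 D100962)) (tt N86105 (iv6 F375132)) (tt N89990 D192918))
theorem Q53960 : ∀ i, i < 53960 → P i := stepQ 53959 Q53959 (allL N53959 (tt N53585 (iv1 F155578)) (tt N53582 (iv0 F155579)) (tt N89082 (iv2 F385087)) (tt N41501 F331781) (tt N28625 F155577) (tt N89990 (iv5 F388216)) (tt N89991 D192919) (tt N28624 (iv7 D100963)))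
theorem Q53961 : ∀ i, i < 53961 → P i := stepQ 53960 Q53960 (allL N53960 (tt N72861 F357565) (tt N72865 F357566) (tt N86256 (iv2 F375608)) (tt N62256 (iv3 F357516)) (tt N89991 (iv4 F388224)) (tt N85388 (iv5 F372462)) (tt N28625 (iv6 D100964)) (tt N28632 F155580))
theorem Q53962 : ∀ i, i < 53962 → P i := stepQ 53961 Q53961 (allL N53961 (tt N89992 D192920) (tt N89993 D192921) (tt N89122 (iv2 F385249)) (tt N86162 (iv3 F375251)) (tt N28626 (iv4 D100968)) (tt N89994 D192922) (tt N89995 D192923) (tt N54760 F356753))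
theorem Q53963 : ∀ i, i < 53963 → P i := stepQ 53962 Q53962 (allL N53962 (tt N89996 D192924) (tt N89997 D192925) (tt N89123 (iv2 F385253)) (tt N28627 F155585) (tt N89995 (iv4 F388241)) (tt N73887 (iv5 F364512)) (tt N28626 (iv6 D100969)) (tt N89998 D192926))
theorem Q53964 : ∀ i, i < 53964 → P i := stepQ 53963 Q53963 (allL N53963 (tt N28627 (iv1 D100971)) (tt N71652 F346651) (tt N71654 F346636) (tt N89952 F388092) (tt N89999 D192927) (tt N54581 (iv5 F157101)) (tt N90000 D192928) (tt N71636 (iv7 F346635)))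
theorem Q53965 : ∀ i, i < 53965 → P i := stepQ 53964 Q53964 (allL N53964 (tt N71654 (iv1 F361949)) (tt N71636 F361951) (tt N71652 F346638) (tt N89998 (iv3 F388248)) (tt N86166 (iv4 F375258)) (tt N89211 (iv5 F385611)) (tt N85918 (iv6 F374460)) (tt N28627 (iv7 D100972)))
theorem Q53966 : ∀ i, i < 53966 → P i := stepQ 53965 Q53965 (allL N53965 (tt N90001 D192929) (tt N90002 D192930) (tt N90003 D192931) (tt N28628 (iv3 D100976)) (tt N90004 D192932) (tt N53675 (iv5 F367191)) (tt N90005 D192933) (tt N53635 F155587))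
theorem Q53967 : ∀ i, i < 53967 → P i := stepQ 53966 Q53966 (allL N53966 (tt N71653 (iv1 F391234)) (tt N89999 (iv0 F391231)) (tt N53628 F155591) (tt N90005 (iv3 F388270)) (tt N53195 F155592) (tt N90006 D192936) (tt N28628 (iv6 D100978)) (tt N90007 D192937))
theorem Q53968 : ∀ i, i < 53968 → P i := stepQ 53967 Q53967 (allL N53967 (tt N90008 D192938) (tt N66895 (iv0 F365476)) (tt N90009 D192939) (tt N28629 (iv3 D100979)) (tt N90010 D192940) (tt N86116 (iv5 F375162)) (tt N90011 D192941) (tt N53627 F155593))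
theorem Q53969 : ∀ i, i < 53969 → P i := stepQ 53968 Q53968 (allL N53968 (tt N86266 (iv1 F386784)) (tt N86270 (iv0 F375631)) (tt N53636 F155597) (tt N90011 (iv3 F388290)) (tt N53197 F155598) (tt N90012 D192942) (tt N28629 (iv6 D100981)) (tt N90013 D192943))
theorem Q53970 : ∀ i, i < 53970 → P i := stepQ 53969 Q53969 (allL N53969 (tt N87622 F379915) (tt N28630 (iv0 D100982)) (tt N90014 D192944) (tt N63183 (iv3 F365238)) (tt N55011 F365237) (tt N77534 F365241) (tt N90015 D192945) (tt N66858 (iv7 F365239)))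
theorem Q53971 : ∀ i, i < 53971 → P i := stepQ 53970 Q53970 (allL N53970 (tt N28630 (iv1 D100983)) (tt N87622 (iv0 F379913)) (tt N66858 (iv2 F365235)) (tt N54232 F365233) (tt N54573 (iv4 F365232)) (tt N86137 (iv5 F379914)) (tt N54230 F365234) (tt N90014 (iv7 F388298)))
theorem Q53972 : ∀ i, i < 53972 → P i := stepQ 53971 Q53971 (allL N53971 (tt N90014 (iv1 F388299)) (tt N66858 F365477) (tt N28630 (iv2 D100984)) (tt N86045 (iv3 F374994)) (tt N85623 (iv4 F373250)) (tt N86044 (iv5 F374991)) (tt N41500 F364960) (tt N87622 (iv7 F379912)))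
theorem Q53973 : ∀ i, i < 53973 → P i := stepQ 53972 Q53972 (allL N53972 (tt N66858 F365475) (tt N90014 F388300) (tt N87622 (iv2 F379909)) (tt N28631 F155600) (tt N87619 (iv4 F379905)) (tt N85867 (iv5 F374268)) (tt N90016 D192946) (tt N28630 (iv7 D100986)))
theorem Q53974 : ∀ i, i < 53974 → P i := stepQ 53973 Q53973 (allL N53973 (tt N90017 D192947) (tt N90018 D192948) (tt N86077 (iv2 F375058)) (tt N90016 (iv3 F388302)) (tt N28632 F155613) (tt N89833 (iv5 F387684)) (tt N28631 (iv6 D100991)) (tt N89991 (iv7 F388225)))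
theorem Q53975 : ∀ i, i < 53975 → P i := stepQ 53974 Q53974 (allL N53974 (tt N86256 (iv1 F375613)) (tt N28632 (iv0 D100992)) (tt N72865 (iv2 F357502)) (tt N90019 D192949) (tt N56735 F357501) (tt N90020 D192950) (tt N90021 D192951) (tt N72861 (iv7 F357503)))
theorem Q53976 : ∀ i, i < 53976 → P i := stepQ 53975 Q53975 (allL N53975 (tt N28632 (iv1 D100993)) (tt N86256 F375612) (tt N72861 F357506) (tt N66344 F357509) (tt N56736 (iv4 F357507)) (tt N73436 (iv5 F357505)) (tt N90022 D192952) (tt N72865 F357504))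
theorem Q53977 : ∀ i, i < 53977 → P i := stepQ 53976 Q53976 (allL N53976 (tt N89153 F385369) (tt N89185 (iv0 F385489)) (tt N89128 (iv2 F385272)) (tt N28634 F155614) (tt N90023 D192953) (tt N28633 (iv5 D100996)) (tt N77251 (iv6 F242115)) (tt N89179 (iv7 F385468)))
theorem Q53978 : ∀ i, i < 53978 → P i := stepQ 53977 Q53977 (allL N53977 (tt N30578 F328164) (tt N65451 F328165) (tt N44455 F328166) (tt N69725 F328167) (tt N28634 (iv4 D101010)) (tt N57523 F328168) (tt N77253 (iv6 F242128)) (tt N65450 F328169))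
theorem Q53979 : ∀ i, i < 53979 → P i := stepQ 53978 Q53978 (allL N53978 (tt N50955 F290190) (tt N50936 F290191) (tt N48968 F155619) (tt N48965 F155620) (tt N28637 F155621) (tt N32517 F155622) (tt N28635 (iv6 D101012)) (tt N49057 F290192))
theorem Q53980 : ∀ i, i < 53980 → P i := stepQ 53979 Q53979 (allL N53979 (tt N34826 F302300) (tt N43606 (iv0 F304762)) (tt N43604 F306758) (tt N28638 F155624) (tt N36563 F155625) (tt N90024 D192954) (tt N28636 (iv6 D101013)) (tt N43603 F306759))
theorem Q53981 : ∀ i, i < 53981 → P i := stepQ 53980 Q53980 (allL N53980 (tt N49097 F290193) (tt N48827 F290194) (tt N48969 F155627) (tt N28640 F155628) (tt N44213 F339550) (tt N28637 (iv5 D101016)) (tt N90024 (iv6 F388321)) (tt N49058 F290195))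
theorem Q53982 : ∀ i, i < 53982 → P i := stepQ 53981 Q53981 (allL N53981 (tt N81382 F338057) (tt N90025 D192955) (tt N65192 (iv2 F199506)) (tt N90024 (iv3 F388320)) (tt N90026 D192956) (tt N28638 (iv5 D101020)) (tt N28640 F155635) (tt N90027 D192957))
theorem Q53983 : ∀ i, i < 53983 → P i := stepQ 53982 Q53982 (allL N53982 (tt N28853 F314165) (tt N42523 F191123) (tt N42554 F190895) (tt N43603 F306756) (tt N65190 (iv4 F199497)) (tt N90027 (iv5 F388334)) (tt N28823 F321058) (tt N28638 (iv7 D101021)))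
theorem Q53984 : ∀ i, i < 53984 → P i := stepQ 53983 Q53983 (allL N53983 (tt N88405 (iv1 F382901)) (tt N88404 F382897) (tt N28942 F290186) (tt N85462 (iv3 F372705)) (tt N90028 D192958) (tt N28639 (iv5 D101030)) (tt N90029 D192959) (tt N88403 (iv7 F382892)))
theorem Q53985 : ∀ i, i < 53985 → P i := stepQ 53984 Q53984 (allL N53984 (tt N28640 (iv1 D101033)) (tt N88402 (iv0 F382887)) (tt N28948 F356795) (tt N84180 (iv3 F368438)) (tt N61794 F356796) (tt N83848 F356797) (tt N88412 (iv6 F382933)) (tt N88410 (iv7 F382926)))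
theorem Q53986 : ∀ i, i < 53986 → P i := stepQ 53985 Q53985 (allL N53985 (tt N90030 D192960) (tt N33151 F346056) (tt N71878 F346057) (tt N90031 D192961) (tt N28640 (iv4 D101034)) (tt N44200 F346058) (tt N90026 (iv6 F388331)) (tt N71876 F346059))
theorem Q53987 : ∀ i, i < 53987 → P i := stepQ 53986 Q53986 (allL N53986 (tt N28948 F346062) (tt N88410 F382928) (tt N88402 (iv2 F382883)) (tt N49058 F290198) (tt N71876 (iv4 F346060)) (tt N28641 F155638) (tt N39479 F329015) (tt N28640 (iv7 D101035)))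
theorem Q53988 : ∀ i, i < 53988 → P i := stepQ 53987 Q53987 (allL N53987 (tt N72600 (iv1 F364424)) (tt N72454 (iv0 F328891)) (tt N28650 F155639) (tt N48918 F155640) (tt N90032 D192962) (tt N28642 (iv5 D101036)) (tt N42787 F155641) (tt N72549 (iv7 F338300)))
theorem Q53989 : ∀ i, i < 53989 → P i := stepQ 53988 Q53988 (allL N53988 (tt N55323 F344193) (tt N39276 F344194) (tt N28659 (iv2 F155697)) (tt N48984 F155643) (tt N90033 D192963) (tt N28643 (iv5 D101038)) (tt N90034 D192964) (tt N28661 F155696))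
theorem Q53990 : ∀ i, i < 53990 → P i := stepQ 53989 Q53989 (allL N53989 (tt N39276 F344195) (tt N55323 F344196) (tt N28661 F155699) (tt N89132 (iv3 F385292)) (tt N90035 D192965) (tt N28644 (iv5 D101041)) (tt N90036 D192966) (tt N28659 F155700))
theorem Q53991 : ∀ i, i < 53991 → P i := stepQ 53990 Q53990 (allL N53990 (tt N28666 (iv1 F155707)) (tt N28645 (iv0 D101043)) (tt N28663 F362663) (tt N48990 F362664) (tt N90037 D192967) (tt N86243 (iv5 F375545)) (tt N90038 D192968) (tt N28664 F362665))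
theorem Q53992 : ∀ i, i < 53992 → P i := stepQ 53991 Q53991 (allL N53991 (tt N28645 (iv1 D101044)) (tt N28666 F155702) (tt N28664 F344249) (tt N89135 F385308) (tt N90039 D192969) (tt N49582 (iv5 F155703)) (tt N90040 D192970) (tt N28663 F344250))
theorem Q53993 : ∀ i, i < 53993 → P i := stepQ 53992 Q53992 (allL N53992 (tt N83091 (iv1 F285884)) (tt N83094 (iv0 F285882)) (tt N28665 F155704) (tt N90041 D192971) (tt N28645 (iv4 D101045)) (tt N90042 D192972) (tt N76089 (iv6 F236269)) (tt N90043 D192973))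
theorem Q53994 : ∀ i, i < 53994 → P i := stepQ 53993 Q53993 (allL N53993 (tt N28664 (iv1 F155708)) (tt N28663 F155709) (tt N28666 F155705) (tt N85383 (iv3 F372430)) (tt N90043 (iv4 F388394)) (tt N28646 F155706) (tt N90044 D192974) (tt N28645 (iv7 D101046)))
theorem Q53995 : ∀ i, i < 53995 → P i := stepQ 53994 Q53994 (allL N53994 (tt N62289 (iv1 F364471)) (tt N90045 D192975) (tt N42787 F155719) (tt N29335 F155720) (tt N90046 D192976) (tt N28648 (iv5 D101053)) (tt N28650 F155721) (tt N72551 F331761))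
theorem Q53996 : ∀ i, i < 53996 → P i := stepQ 53995 Q53995 (allL N53995 (tt N42771 (iv1 F232731)) (tt N42769 (iv0 F232740)) (tt N42788 F155722) (tt N29336 F155723) (tt N42506 F155724) (tt N72551 F331760) (tt N42790 F155725) (tt N28648 (iv7 D101054)))
theorem Q53997 : ∀ i, i < 53997 → P i := stepQ 53996 Q53996 (allL N53996 (tt N89380 (iv1 F386291)) (tt N89379 F386287) (tt N83088 (iv2 F285867)) (tt N89383 (iv3 F386313)) (tt N90047 D192977) (tt N28649 (iv5 D101055)) (tt N90048 D192978) (tt N83082 (iv7 F285853)))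
theorem Q53998 : ∀ i, i < 53998 → P i := stepQ 53997 Q53997 (allL N53997 (tt N28650 (iv1 D101058)) (tt N72549 F338297) (tt N72454 (iv2 F328893)) (tt N72597 F365565) (tt N90049 D192979) (tt N55073 (iv5 F343899)) (tt N90050 D192980) (tt N72600 (iv7 F364425)))
theorem Q53999 : ∀ i, i < 53999 → P i := stepQ 53998 Q53998 (allL N53998 (tt N89067 (iv1 F385033)) (tt N89068 (iv0 F385035)) (tt N90032 (iv2 F388351)) (tt N90051 D192981) (tt N28650 (iv4 D101059)) (tt N90052 D192982) (tt N90046 (iv6 F388407)) (tt N86352 (iv7 F375897)))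
theorem Q54000 : ∀ i, i < 54000 → P i := stepQ 53999 Q53999 (allL N53999 (tt N82320 (iv1 F280236)) (tt N82321 (iv0 F280243)) (tt N43512 F155735) (tt N80604 (iv3 F268812)) (tt N90053 D192983) (tt N28653 (iv5 D101067)) (tt N49573 F155736) (tt N90054 D192984))
theorem Q54001 : ∀ i, i < 54001 → P i := stepQ 54000 Q54000 (allL N54000 (tt N43511 (iv1 F155740)) (tt N43510 F155741) (tt N43513 F155737) (tt N63890 (iv3 F302433)) (tt N43503 F155738) (tt N90054 (iv5 F388425)) (tt N49645 (iv6 F286788)) (tt N28653 (iv7 D101068)))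
theorem Q54002 : ∀ i, i < 54002 → P i := stepQ 54001 Q54001 (allL N54001 (tt N89130 (iv1 F385285)) (tt N69565 (iv0 F366760)) (tt N80605 (iv2 F268813)) (tt N28654 (iv3 D101070)) (tt N89647 (iv4 F387078)) (tt N90055 D192985) (tt N90056 D192986) (tt N76084 (iv7 F236259)))
theorem Q54003 : ∀ i, i < 54003 → P i := stepQ 54002 Q54002 (allL N54002 (tt N75909 (iv1 F234566)) (tt N90057 D192987) (tt N76082 (iv2 F236254)) (tt N90055 (iv3 F388428)) (tt N90058 D192988) (tt N28654 (iv5 D101072)) (tt N90059 D192989) (tt N76085 (iv7 F236261)))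
theorem Q54004 : ∀ i, i < 54004 → P i := stepQ 54003 Q54003 (allL N54003 (tt N63145 F242722) (tt N90060 D192990) (tt N76083 (iv2 F236256)) (tt N90056 (iv3 F388434)) (tt N42171 F155745) (tt N70490 (iv5 F332699)) (tt N28654 (iv6 D101073)) (tt N90061 D192991))
theorem Q54005 : ∀ i, i < 54005 → P i := stepQ 54004 Q54004 (allL N54004 (tt N90057 (iv1 F388437)) (tt N75909 F236262) (tt N76085 (iv2 F236260)) (tt N64487 F344175) (tt N55847 F344176) (tt N28655 (iv5 D101077)) (tt N39274 F344177) (tt N76082 (iv7 F236255)))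
theorem Q54006 : ∀ i, i < 54006 → P i := stepQ 54005 Q54005 (allL N54005 (tt N72143 F325447) (tt N72138 F325448) (tt N76086 (iv2 F236263)) (tt N76914 (iv3 F351816)) (tt N77255 F242141) (tt N39292 F325449) (tt N28655 (iv6 D101078)) (tt N39618 F325450))
theorem Q54007 : ∀ i, i < 54007 → P i := stepQ 54006 Q54006 (allL N54006 (tt N76090 (iv1 F236275)) (tt N28656 (iv0 D101079)) (tt N76087 (iv2 F280316)) (tt N88857 (iv3 F384355)) (tt N90062 D192992) (tt N82329 (iv5 F280309)) (tt N90063 D192993) (tt N76088 F280314))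
theorem Q54008 : ∀ i, i < 54008 → P i := stepQ 54007 Q54007 (allL N54007 (tt N28656 (iv1 D101080)) (tt N76090 F236273) (tt N76088 F280318) (tt N80609 F280328) (tt N90064 D192994) (tt N82330 (iv5 F280324)) (tt N90065 D192995) (tt N76087 F280317))
theorem Q54009 : ∀ i, i < 54009 → P i := stepQ 54008 Q54008 (allL N54008 (tt N67875 (iv1 F347624)) (tt N82297 (iv0 F280132)) (tt N76089 (iv2 F236268)) (tt N90066 D192996) (tt N28656 (iv4 D101081)) (tt N67857 F347623) (tt N28665 F155750) (tt N90067 D192997))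
theorem Q54010 : ∀ i, i < 54010 → P i := stepQ 54009 Q54009 (allL N54009 (tt N76088 (iv1 F236266)) (tt N76087 F236272) (tt N76090 (iv2 F236270)) (tt N28675 F155751) (tt N90067 (iv4 F388472)) (tt N28657 F155752) (tt N90068 D192998) (tt N28656 (iv7 D101082)))
theorem Q54011 : ∀ i, i < 54011 → P i := stepQ 54010 Q54010 (allL N54010 (tt N89838 F387694) (tt N90069 D192999) (tt N89131 (iv2 F385286)) (tt N28659 F155757) (tt N90070 D193000) (tt N28658 (iv5 D101084)) (tt N90071 D193001) (tt N89132 (iv7 F385293)))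
theorem Q54012 : ∀ i, i < 54012 → P i := stepQ 54011 Q54011 (allL N54011 (tt N28661 (iv1 F155759)) (tt N28659 (iv0 D101086)) (tt N55323 F362666) (tt N85389 (iv3 F372467)) (tt N67723 F362667) (tt N84077 (iv5 F368030)) (tt N90072 D193002) (tt N39276 F362668))
theorem Q54013 : ∀ i, i < 54013 → P i := stepQ 54012 Q54012 (allL N54012 (tt N78792 (iv1 F362782)) (tt N69809 (iv0 F338291)) (tt N90033 (iv2 F388355)) (tt N90073 D193003) (tt N28659 (iv4 D101088)) (tt N90074 D193004) (tt N90075 D193005) (tt N90035 (iv7 F388365)))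
theorem Q54014 : ∀ i, i < 54014 → P i := stepQ 54013 Q54013 (allL N54013 (tt N90076 D193006) (tt N85404 (iv0 F411155)) (tt N90034 (iv2 F388359)) (tt N90071 (iv3 F388483)) (tt N90075 (iv4 F388500)) (tt N85493 (iv5 F372823)) (tt N28659 (iv6 D101089)) (tt N90077 D193008))
theorem Q54015 : ∀ i, i < 54015 → P i := stepQ 54014 Q54014 (allL N54014 (tt N45156 (iv1 F177335)) (tt N84779 F370602) (tt N48987 F155761) (tt N75988 F235261) (tt N28660 (iv4 D101094)) (tt N90078 D193009) (tt N90079 D193010) (tt N48983 F155762))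
theorem Q54016 : ∀ i, i < 54016 → P i := stepQ 54015 Q54015 (allL N54015 (tt N85641 (iv1 F373332)) (tt N50612 F362361) (tt N48988 F155764) (tt N28661 F155765) (tt N86093 (iv4 F375100)) (tt N28660 (iv5 D101095)) (tt N90080 D193011) (tt N48984 F155766))
theorem Q54017 : ∀ i, i < 54017 → P i := stepQ 54016 Q54016 (allL N54016 (tt N85666 (iv1 F373441)) (tt N28737 F344235) (tt N48989 F155767) (tt N28662 F155768) (tt N90079 (iv4 F388511)) (tt N84120 (iv5 F368184)) (tt N28660 (iv6 D101096)) (tt N85496 (iv7 F372838)))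
theorem Q54018 : ∀ i, i < 54018 → P i := stepQ 54017 Q54017 (allL N54017 (tt N69809 F362362) (tt N78792 (iv0 F343921)) (tt N90035 (iv2 F388364)) (tt N86094 (iv3 F375102)) (tt N28661 (iv4 D101097)) (tt N90081 D193012) (tt N90082 D193013) (tt N90033 (iv7 F388357)))
theorem Q54019 : ∀ i, i < 54019 → P i := stepQ 54018 Q54018 (allL N54018 (tt N89848 (iv1 F456046)) (tt N90083 D193015) (tt N90036 (iv2 F388367)) (tt N90080 (iv3 F388516)) (tt N90082 (iv4 F388519)) (tt N84229 (iv5 F368609)) (tt N28661 (iv6 D101098)) (tt N90084 D193016))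
theorem Q54020 : ∀ i, i < 54020 → P i := stepQ 54019 Q54019 (allL N54019 (tt N89136 (iv1 F387114)) (tt N85994 F387112) (tt N89134 (iv2 F385301)) (tt N28663 (iv3 D101104)) (tt N89655 (iv4 F387110)) (tt N90085 D193017) (tt N90086 D193018) (tt N89135 (iv7 F385306)))
theorem Q54021 : ∀ i, i < 54021 → P i := stepQ 54020 Q54020 (allL N54020 (tt N67119 (iv1 F361002)) (tt N48870 F344248) (tt N90037 (iv2 F388368)) (tt N90087 D193019) (tt N28663 (iv4 D101105)) (tt N90088 D193020) (tt N90089 D193021) (tt N90039 (iv7 F388384)))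
theorem Q54022 : ∀ i, i < 54022 → P i := stepQ 54021 Q54021 (allL N54021 (tt N71135 F344180) (tt N49747 (iv0 F338298)) (tt N86243 (iv2 F375542)) (tt N90085 (iv3 F388522)) (tt N49705 (iv4 F344245)) (tt N28663 (iv5 D101106)) (tt N71859 F344246) (tt N49582 F344247))
theorem Q54023 : ∀ i, i < 54023 → P i := stepQ 54022 Q54022 (allL N54022 (tt N90090 D193022) (tt N39315 F344181) (tt N90038 (iv2 F388374)) (tt N90086 (iv3 F388528)) (tt N90089 (iv4 F388532)) (tt N90091 D193023) (tt N28663 (iv6 D101107)) (tt N90092 D193024))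
theorem Q54024 : ∀ i, i < 54024 → P i := stepQ 54023 Q54023 (allL N54023 (tt N48971 (iv1 F155773)) (tt N48993 (iv0 F155772)) (tt N48991 F361027) (tt N28664 (iv3 D101109)) (tt N89788 (iv4 F387580)) (tt N82646 (iv5 F283461)) (tt N90093 D193025) (tt N48990 F361028))
theorem Q54025 : ∀ i, i < 54025 → P i := stepQ 54024 Q54024 (allL N54024 (tt N48870 F155771) (tt N67119 (iv0 F349165)) (tt N90039 (iv2 F388383)) (tt N90094 D193026) (tt N28664 (iv4 D101110)) (tt N90095 D193027) (tt N90096 D193028) (tt N90037 (iv7 F388370)))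
theorem Q54026 : ∀ i, i < 54026 → P i := stepQ 54025 Q54025 (allL N54025 (tt N49747 F344203) (tt N71135 (iv0 F338485)) (tt N49582 (iv2 F344251)) (tt N82646 (iv3 F283460)) (tt N49706 F349306) (tt N28664 (iv5 D101111)) (tt N49575 (iv6 F155774)) (tt N86243 (iv7 F375544)))
theorem Q54027 : ∀ i, i < 54027 → P i := stepQ 54026 Q54026 (allL N54026 (tt N90097 D193029) (tt N90098 D193030) (tt N90040 (iv2 F388387)) (tt N90093 (iv3 F388544)) (tt N90096 (iv4 F388551)) (tt N71853 (iv5 F338484)) (tt N28664 (iv6 D101112)) (tt N90099 D193031))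
theorem Q54028 : ∀ i, i < 54028 → P i := stepQ 54027 Q54027 (allL N54027 (tt N90043 (iv1 F388396)) (tt N28665 (iv0 D101113)) (tt N83091 (iv2 F285876)) (tt N90100 D193032) (tt N83080 F285877) (tt N90101 D193033) (tt N90100 (iv6 F441479)) (tt N83094 (iv7 F285881)))
theorem Q54029 : ∀ i, i < 54029 → P i := stepQ 54028 Q54028 (allL N54028 (tt N28665 (iv1 D101114)) (tt N90043 F388395) (tt N83094 (iv2 F285880)) (tt N90102 D193035) (tt N83081 (iv4 F285841)) (tt N90103 D193036) (tt N90104 D193037) (tt N83091 (iv7 F285874)))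
theorem Q54030 : ∀ i, i < 54030 → P i := stepQ 54029 Q54029 (allL N54029 (tt N90105 D193038) (tt N90106 D193039) (tt N90107 D193040) (tt N28665 (iv3 D101115)) (tt N28681 F155776) (tt N90108 D193041) (tt N90066 (iv6 F388470)) (tt N90109 D193042))
theorem Q54031 : ∀ i, i < 54031 → P i := stepQ 54030 Q54030 (allL N54030 (tt N90110 D193043) (tt N90111 D193044) (tt N90042 (iv2 F388392)) (tt N90108 (iv3 F388577)) (tt N90112 D193045) (tt N28665 (iv5 D101116)) (tt N90113 D193046) (tt N90114 D193047))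
theorem Q54032 : ∀ i, i < 54032 → P i := stepQ 54031 Q54031 (allL N54031 (tt N83094 (iv1 F285883)) (tt N83091 (iv0 F285875)) (tt N90043 (iv2 F388393)) (tt N90109 (iv3 F388578)) (tt N28666 F155777) (tt N90114 (iv5 F388583)) (tt N90115 D193048) (tt N28665 (iv7 D101117)))
theorem Q54033 : ∀ i, i < 54033 → P i := stepQ 54032 Q54032 (allL N54032 (tt N71120 F344197) (tt N90116 D193049) (tt N90044 (iv2 F388397)) (tt N28683 F155778) (tt N90115 (iv4 F388584)) (tt N72755 F357570) (tt N28666 (iv6 D101118)) (tt N90068 (iv7 F388477)))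
theorem Q54034 : ∀ i, i < 54034 → P i := stepQ 54033 Q54033 (allL N54033 (tt N28670 (iv1 F155789)) (tt N28667 (iv0 D101124)) (tt N54436 F274808) (tt N64831 (iv3 F357947)) (tt N72200 F357946) (tt N47457 F155785) (tt N90117 D193050) (tt N77285 (iv7 F357948)))
theorem Q54035 : ∀ i, i < 54035 → P i := stepQ 54034 Q54034 (allL N54034 (tt N28667 (iv1 D101125)) (tt N28670 F155786) (tt N77285 F357953) (tt N90057 F388441) (tt N90118 D193051) (tt N54288 (iv5 F274810)) (tt N55330 F274859) (tt N54436 F274809))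
theorem Q54036 : ∀ i, i < 54036 → P i := stepQ 54035 Q54035 (allL N54035 (tt N89726 (iv1 F387330)) (tt N89728 (iv0 F387335)) (tt N89105 (iv2 F385171)) (tt N44670 F345255) (tt N28667 (iv4 D101126)) (tt N81984 F345256) (tt N44667 F345257) (tt N89108 (iv7 F385187)))
theorem Q54037 : ∀ i, i < 54037 → P i := stepQ 54036 Q54036 (allL N54036 (tt N85403 F372502) (tt N88795 (iv0 F384172)) (tt N89106 (iv2 F385175)) (tt N64736 F362331) (tt N44667 F345253) (tt N54265 (iv5 F156342)) (tt N28667 (iv6 D101127)) (tt N82420 F345254))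
theorem Q54038 : ∀ i, i < 54038 → P i := stepQ 54037 Q54037 (allL N54037 (tt N28668 (iv1 D101130)) (tt N54264 F156330) (tt N89107 (iv2 F385184)) (tt N90060 F388453) (tt N80964 (iv4 F272789)) (tt N84090 (iv5 F368064)) (tt N81384 (iv6 F274867)) (tt N49663 F338108))
theorem Q54039 : ∀ i, i < 54039 → P i := stepQ 54038 Q54038 (allL N54038 (tt N89107 (iv1 F385180)) (tt N49663 F274660) (tt N54264 (iv2 F156327)) (tt N76874 (iv3 F307566)) (tt N80300 (iv4 F361267)) (tt N49593 (iv5 F155795)) (tt N49644 F155794) (tt N28668 (iv7 D101131)))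
theorem Q54040 : ∀ i, i < 54040 → P i := stepQ 54039 Q54039 (allL N54039 (tt N72373 F359364) (tt N68357 F352966) (tt N76519 (iv2 F342621)) (tt N46570 F155840) (tt N28669 (iv4 D101135)) (tt N72393 F352967) (tt N41007 F352968) (tt N89102 (iv7 F385156)))
theorem Q54041 : ∀ i, i < 54041 → P i := stepQ 54040 Q54040 (allL N54040 (tt N77309 F342617) (tt N90119 D193052) (tt N64737 (iv2 F351898)) (tt N28670 F155841) (tt N72357 F352965) (tt N28669 (iv5 D101136)) (tt N82583 (iv6 F352963)) (tt N89103 (iv7 F385164)))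
theorem Q54042 : ∀ i, i < 54042 → P i := stepQ 54041 Q54041 (allL N54041 (tt N76482 (iv1 F339118)) (tt N78330 F339111) (tt N76518 F339112) (tt N28671 F155842) (tt N41007 F339113) (tt N54355 (iv5 F156640)) (tt N28669 (iv6 D101137)) (tt N76516 F339114))
theorem Q54043 : ∀ i, i < 54043 → P i := stepQ 54042 Q54042 (allL N54042 (tt N89728 (iv1 F387336)) (tt N89726 (iv0 F387329)) (tt N89108 (iv2 F385185)) (tt N90120 D193053) (tt N28670 (iv4 D101138)) (tt N89769 (iv5 F387493)) (tt N90121 D193054) (tt N89105 (iv7 F385172)))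
theorem Q54044 : ∀ i, i < 54044 → P i := stepQ 54043 Q54043 (allL N54043 (tt N39281 F352961) (tt N28908 (iv0 F155843)) (tt N85395 F372480) (tt N82583 F352962) (tt N90121 (iv4 F388607)) (tt N39311 F346672) (tt N28670 (iv6 D101139)) (tt N85396 (iv7 F372484)))
theorem Q54045 : ∀ i, i < 54045 → P i := stepQ 54044 Q54044 (allL N54044 (tt N28840 F156331) (tt N28836 (iv0 F156337)) (tt N49644 F155844) (tt N76516 F339101) (tt N80297 (iv4 F304815)) (tt N39672 F329873) (tt N54264 F156329) (tt N28671 (iv7 D101140)))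
theorem Q54046 : ∀ i, i < 54046 → P i := stepQ 54045 Q54045 (allL N54045 (tt N43729 F311761) (tt N28856 (iv0 F156909)) (tt N81358 (iv2 F308581)) (tt N35092 F306694) (tt N45554 (iv4 F308584)) (tt N28672 (iv5 D101144)) (tt N28820 F155847) (tt N28783 F156420))
theorem Q54047 : ∀ i, i < 54047 → P i := stepQ 54046 Q54046 (allL N54046 (tt N90122 D193055) (tt N90123 D193056) (tt N89110 (iv2 F385195)) (tt N89317 (iv3 F386064)) (tt N89762 (iv4 F387457)) (tt N90124 D193057) (tt N28672 (iv6 D101145)) (tt N90125 D193058))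
theorem Q54048 : ∀ i, i < 54048 → P i := stepQ 54047 Q54047 (allL N54047 (tt N88378 (iv1 F382814)) (tt N89141 F385330) (tt N76479 (iv2 F357803)) (tt N28673 (iv3 D101147)) (tt N72365 (iv4 F357804)) (tt N76331 F357802) (tt N90126 D193059) (tt N89109 (iv7 F385191)))
theorem Q54049 : ∀ i, i < 54049 → P i := stepQ 54048 Q54048 (allL N54048 (tt N84905 F371046) (tt N84908 (iv0 F371059)) (tt N85586 (iv2 F373147)) (tt N90126 (iv3 F388618)) (tt N89765 (iv4 F387466)) (tt N84071 (iv5 F368007)) (tt N28673 (iv6 D101148)) (tt N85585 F373137))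
theorem Q54050 : ∀ i, i < 54050 → P i := stepQ 54049 Q54049 (allL N54049 (tt N57771 (iv1 F333007)) (tt N28674 (iv0 D101149)) (tt N53759 (iv2 F272732)) (tt N89875 (iv3 F387825)) (tt N53211 F272733) (tt N72625 F357938) (tt N90127 D193060) (tt N53762 F272734))
theorem Q54051 : ∀ i, i < 54051 → P i := stepQ 54050 Q54050 (allL N54050 (tt N28674 (iv1 D101150)) (tt N57771 F333008) (tt N53762 F272731) (tt N90128 D193061) (tt N53118 F195698) (tt N72624 (iv5 F357933)) (tt N90129 D193062) (tt N53759 (iv7 F272726)))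
theorem Q54052 : ∀ i, i < 54052 → P i := stepQ 54051 Q54051 (allL N54051 (tt N90130 D193063) (tt N58100 (iv0 F361295)) (tt N30766 F332987) (tt N28674 (iv3 D101151)) (tt N90066 (iv4 F388469)) (tt N30765 F332988) (tt N28681 F155849) (tt N90131 D193064))
theorem Q54053 : ∀ i, i < 54053 → P i := stepQ 54052 Q54052 (allL N54052 (tt N53762 (iv1 F205701)) (tt N53759 (iv0 F205702)) (tt N57771 (iv2 F332981)) (tt N90131 (iv3 F388639)) (tt N28675 F155850) (tt N57762 F337621) (tt N90132 D193065) (tt N28674 (iv7 D101153)))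
theorem Q54054 : ∀ i, i < 54054 → P i := stepQ 54053 Q54053 (allL N54053 (tt N72871 (iv1 F372458)) (tt N85387 F372459) (tt N85388 (iv2 F372460)) (tt N90068 (iv3 F388476)) (tt N90132 (iv4 F388643)) (tt N86256 (iv5 F375610)) (tt N28675 (iv6 D101154)) (tt N28683 F155851))
theorem Q54055 : ∀ i, i < 54055 → P i := stepQ 54054 Q54054 (allL N54054 (tt N89112 (iv1 F385204)) (tt N28676 (iv0 D101155)) (tt N85597 (iv2 F373174)) (tt N90133 D193066) (tt N90134 D193067) (tt N90135 D193068) (tt N84908 F371060) (tt N89111 (iv7 F385198)))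
theorem Q54056 : ∀ i, i < 54056 → P i := stepQ 54055 Q54055 (allL N54055 (tt N28676 (iv1 D101156)) (tt N89112 F385203) (tt N89111 (iv2 F385200)) (tt N39315 F361946) (tt N90136 D193069) (tt N90137 D193070) (tt N39313 F361947) (tt N85597 (iv7 F373176)))
theorem Q54057 : ∀ i, i < 54057 → P i := stepQ 54056 Q54056 (allL N54056 (tt N81381 F274852) (tt N90138 D193071) (tt N84739 (iv2 F370432)) (tt N49074 F155852) (tt N90139 D193072) (tt N28676 (iv5 D101157)) (tt N28938 F155853) (tt N90140 D193073))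
theorem Q54058 : ∀ i, i < 54058 → P i := stepQ 54057 Q54057 (allL N54057 (tt N89111 (iv1 F385197)) (tt N85597 (iv0 F373177)) (tt N89112 (iv2 F385201)) (tt N89323 (iv3 F386098)) (tt N82514 F345218) (tt N90140 (iv5 F388664)) (tt N82513 (iv6 F345219)) (tt N28676 (iv7 D101158)))
theorem Q54059 : ∀ i, i < 54059 → P i := stepQ 54058 Q54058 (allL N54058 (tt N72383 F382806) (tt N90141 D193074) (tt N89142 (iv2 F385332)) (tt N76714 (iv3 F351173)) (tt N28677 (iv4 D101161)) (tt N90142 D193075) (tt N90143 D193076) (tt N83265 (iv7 F351176)))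
theorem Q54060 : ∀ i, i < 54060 → P i := stepQ 54059 Q54059 (allL N54059 (tt N90144 D193077) (tt N90145 D193078) (tt N88786 (iv2 F384141)) (tt N28678 F155856) (tt N90143 (iv4 F388671)) (tt N53038 F155857) (tt N28677 (iv6 D101162)) (tt N90146 D193079))
theorem Q54061 : ∀ i, i < 54061 → P i := stepQ 54060 Q54060 (allL N54060 (tt N82513 (iv1 F362338)) (tt N28678 (iv0 D101163)) (tt N87671 (iv2 F380095)) (tt N90097 (iv3 F388554)) (tt N82432 F362339) (tt N90147 D193080) (tt N90148 D193081) (tt N87672 (iv7 F380097)))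
theorem Q54062 : ∀ i, i < 54062 → P i := stepQ 54061 Q54061 (allL N54061 (tt N28678 (iv1 D101164)) (tt N82513 F345224) (tt N87672 F380099) (tt N84056 (iv3 F367956)) (tt N82428 (iv4 F362334)) (tt N90149 D193082) (tt N90122 (iv6 F388696)) (tt N87671 (iv7 F380094)))
theorem Q54063 : ∀ i, i < 54063 → P i := stepQ 54062 Q54062 (allL N54062 (tt N87672 (iv1 F380096)) (tt N87671 F380092) (tt N82513 (iv2 F345222)) (tt N90146 (iv3 F388679)) (tt N82512 F345228) (tt N53045 F155858) (tt N89112 (iv6 F385202)) (tt N28678 (iv7 D101165)))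
theorem Q54064 : ∀ i, i < 54064 → P i := stepQ 54063 Q54063 (allL N54063 (tt N90134 F388649) (tt N90136 (iv0 F388656)) (tt N53796 F155863) (tt N61299 (iv3 F361016)) (tt N53222 F155864) (tt N90150 D193083) (tt N28679 (iv6 D101168)) (tt N90151 D193084))
theorem Q54065 : ∀ i, i < 54065 → P i := stepQ 54064 Q54064 (allL N54064 (tt N82432 F354718) (tt N82428 F354719) (tt N53803 F155869) (tt N61218 F365245) (tt N53224 F155870) (tt N65442 (iv5 F354677)) (tt N28680 (iv6 D101171)) (tt N90152 D193085))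
theorem Q54066 : ∀ i, i < 54066 → P i := stepQ 54065 Q54065 (allL N54065 (tt N90153 D193086) (tt N28681 (iv0 D101172)) (tt N90154 D193087) (tt N61220 F372026) (tt N90155 D193088) (tt N90156 D193089) (tt N90157 D193090) (tt N90158 D193091))
theorem Q54067 : ∀ i, i < 54067 → P i := stepQ 54066 Q54066 (allL N54066 (tt N28681 (iv1 D101173)) (tt N90153 F388717) (tt N90158 (iv2 F388722)) (tt N56789 (iv3 F360791)) (tt N90159 D193092) (tt N90160 D193093) (tt N90161 D193094) (tt N90154 F388718))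
theorem Q54068 : ∀ i, i < 54068 → P i := stepQ 54067 Q54067 (allL N54067 (tt N90154 (iv1 F420147)) (tt N90158 (iv0 F420144)) (tt N28681 (iv2 D101174)) (tt N30771 F364312) (tt N90107 (iv4 F388575)) (tt N70140 F364313) (tt N30766 F364314) (tt N90153 (iv7 F388716)))
theorem Q54069 : ∀ i, i < 54069 → P i := stepQ 54068 Q54068 (allL N54068 (tt N90158 (iv1 F420145)) (tt N90154 (iv0 F420146)) (tt N90153 F388713) (tt N28682 F155872) (tt N90109 (iv4 F388579)) (tt N84826 (iv5 F370765)) (tt N90162 D193097) (tt N28681 (iv7 D101176)))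
theorem Q54070 : ∀ i, i < 54070 → P i := stepQ 54069 Q54069 (allL N54069 (tt N90163 D193098) (tt N90164 D193099) (tt N85223 (iv2 F371956)) (tt N90162 (iv3 F388730)) (tt N28683 F155885) (tt N73215 F388738) (tt N28682 (iv6 D101181)) (tt N90132 (iv7 F388644)))
theorem Q54071 : ∀ i, i < 54071 → P i := stepQ 54070 Q54070 (allL N54070 (tt N85388 (iv1 F372465)) (tt N28683 (iv0 D101182)) (tt N85387 F372449) (tt N58331 F364781) (tt N56738 (iv4 F364780)) (tt N73430 F364783) (tt N54521 F157068) (tt N72871 F364782))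
theorem Q54072 : ∀ i, i < 54072 → P i := stepQ 54071 Q54071 (allL N54071 (tt N28683 (iv1 D101183)) (tt N85388 F372464) (tt N72871 (iv2 F372457)) (tt N90165 D193100) (tt N72868 F372453) (tt N73428 (iv5 F372452)) (tt N90166 D193101) (tt N85387 F372451))
theorem Q54073 : ∀ i, i < 54073 → P i := stepQ 54072 Q54072 (allL N54072 (tt N36560 F155889) (tt N36559 F155890) (tt N36510 F155886) (tt N36569 F155887) (tt N28684 (iv4 D101184)) (tt N63089 (iv5 F185439)) (tt N70108 (iv6 F330188)) (tt N36561 F155888))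
theorem Q54074 : ∀ i, i < 54074 → P i := stepQ 54073 Q54073 (allL N54073 (tt N28723 F351628) (tt N35263 F242108) (tt N46694 F155891) (tt N77248 (iv3 F242112)) (tt N70108 (iv4 F330187)) (tt N90167 D193102) (tt N28684 (iv6 D101185)) (tt N90168 D193103))
theorem Q54075 : ∀ i, i < 54075 → P i := stepQ 54074 Q54074 (allL N54074 (tt N28685 (iv1 D101187)) (tt N28734 F290172) (tt N28703 F290173) (tt N28744 F290174) (tt N49250 F290175) (tt N71755 (iv5 F362209)) (tt N48637 F292333) (tt N28735 F290176))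
theorem Q54076 : ∀ i, i < 54076 → P i := stepQ 54075 Q54075 (allL N54075 (tt N28748 F290179) (tt N90169 D193104) (tt N48966 F155893) (tt N89128 (iv3 F385273)) (tt N90170 D193105) (tt N28685 (iv5 D101188)) (tt N90167 (iv6 F388752)) (tt N90171 D193106))
theorem Q54077 : ∀ i, i < 54077 → P i := stepQ 54076 Q54076 (allL N54076 (tt N28703 F290167) (tt N28735 F290168) (tt N28734 F290169) (tt N85948 (iv3 F374562)) (tt N83646 F290170) (tt N90171 (iv5 F388768)) (tt N48819 F290223) (tt N28685 (iv7 D101189)))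
theorem Q54078 : ∀ i, i < 54078 → P i := stepQ 54077 Q54077 (allL N54077 (tt N72824 (iv1 F339913)) (tt N86363 F375952) (tt N28691 F155899) (tt N49012 F155900) (tt N72827 (iv4 F339888)) (tt N28686 (iv5 D101190)) (tt N64306 (iv6 F195773)) (tt N72462 (iv7 F339892)))
theorem Q54079 : ∀ i, i < 54079 → P i := stepQ 54078 Q54078 (allL N54078 (tt N53557 F155902) (tt N90172 D193107) (tt N64303 (iv2 F195721)) (tt N43978 F300633) (tt N28688 F155901) (tt N59983 F340647) (tt N28687 (iv6 D101191)) (tt N90173 D193108))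
theorem Q54080 : ∀ i, i < 54080 → P i := stepQ 54079 Q54079 (allL N54079 (tt N64307 (iv1 F195779)) (tt N28688 (iv0 D101192)) (tt N64304 F232863) (tt N42507 (iv3 F232736)) (tt N38902 F316141) (tt N90174 D193109) (tt N38901 F316142) (tt N64305 (iv7 F232861)))
theorem Q54081 : ∀ i, i < 54081 → P i := stepQ 54080 Q54080 (allL N54080 (tt N28688 (iv1 D101193)) (tt N64307 F195778) (tt N64305 (iv2 F232864)) (tt N90175 D193110) (tt N76534 F351955) (tt N90176 D193111) (tt N90177 D193112) (tt N64304 F232865))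
theorem Q54082 : ∀ i, i < 54082 → P i := stepQ 54081 Q54081 (allL N54081 (tt N90178 D193113) (tt N90179 D193114) (tt N64306 (iv2 F195771)) (tt N28693 F155903) (tt N90180 D193115) (tt N28688 (iv5 D101194)) (tt N28691 F155904) (tt N90181 D193116))
theorem Q54083 : ∀ i, i < 54083 → P i := stepQ 54082 Q54082 (allL N54082 (tt N64305 (iv1 F195770)) (tt N64304 F195777) (tt N64307 (iv2 F195774)) (tt N28694 F155905) (tt N90173 (iv4 F388778)) (tt N90181 (iv5 F388808)) (tt N48982 F155906) (tt N28688 (iv7 D101195)))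
theorem Q54084 : ∀ i, i < 54084 → P i := stepQ 54083 Q54083 (allL N54083 (tt N75989 (iv1 F235268)) (tt N50928 (iv0 F157718)) (tt N50805 F155907) (tt N48983 F155908) (tt N28689 (iv4 D101196)) (tt N90182 D193117) (tt N88428 (iv6 F383008)) (tt N75988 (iv7 F235259)))
theorem Q54085 : ∀ i, i < 54085 → P i := stepQ 54084 Q54084 (allL N54084 (tt N59249 (iv1 F359970)) (tt N51214 (iv0 F348535)) (tt N76190 (iv2 F349189)) (tt N84235 F368633) (tt N90183 D193118) (tt N28689 (iv5 D101197)) (tt N90184 D193119) (tt N86362 (iv7 F375948)))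
theorem Q54086 : ∀ i, i < 54086 → P i := stepQ 54085 Q54085 (allL N54085 (tt N48637 F348531) (tt N29469 F348532) (tt N48636 F361046) (tt N28896 F289988) (tt N88428 (iv4 F383007)) (tt N82799 F348533) (tt N28689 (iv6 D101198)) (tt N48635 F361047))
theorem Q54087 : ∀ i, i < 54087 → P i := stepQ 54086 Q54086 (allL N54086 (tt N50239 F157804) (tt N79105 F335925) (tt N76188 (iv2 F335921)) (tt N28690 (iv3 D101199)) (tt N50402 F155910) (tt N57453 (iv5 F335920)) (tt N90185 D193120) (tt N76191 F335924))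
theorem Q54088 : ∀ i, i < 54088 → P i := stepQ 54087 Q54087 (allL N54087 (tt N51214 (iv1 F349149)) (tt N59249 (iv0 F349187)) (tt N86362 (iv2 F375946)) (tt N57453 (iv3 F349183)) (tt N63679 F349185) (tt N28690 (iv5 D101200)) (tt N90186 D193121) (tt N76190 F349186))
theorem Q54089 : ∀ i, i < 54089 → P i := stepQ 54088 Q54088 (allL N54088 (tt N49069 F361042) (tt N49060 F361043) (tt N49066 F344231) (tt N90185 (iv3 F388815)) (tt N84784 (iv4 F370621)) (tt N90187 D193122) (tt N28690 (iv6 D101201)) (tt N49067 F344232))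
theorem Q54090 : ∀ i, i < 54090 → P i := stepQ 54089 Q54089 (allL N54089 (tt N72462 (iv1 F363690)) (tt N28691 (iv0 D101202)) (tt N72824 (iv2 F363687)) (tt N71685 F363688) (tt N90188 D193123) (tt N86242 (iv5 F375539)) (tt N71683 (iv6 F363689)) (tt N86363 (iv7 F375953)))
theorem Q54091 : ∀ i, i < 54091 → P i := stepQ 54090 Q54090 (allL N54090 (tt N28691 (iv1 D101203)) (tt N72462 F339895) (tt N86363 F375951) (tt N29779 F339896) (tt N90189 D193124) (tt N86252 (iv5 F375586)) (tt N90190 D193125) (tt N72824 (iv7 F339897)))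
theorem Q54092 : ∀ i, i < 54092 → P i := stepQ 54091 Q54091 (allL N54091 (tt N53625 F155911) (tt N90191 D193126) (tt N72827 F339889) (tt N90192 D193127) (tt N28691 (iv4 D101204)) (tt N90193 D193128) (tt N90180 (iv6 F388799)) (tt N86364 (iv7 F375956)))
theorem Q54093 : ∀ i, i < 54093 → P i := stepQ 54092 Q54092 (allL N54092 (tt N54160 F156120) (tt N64688 F332022) (tt N49016 (iv2 F156890)) (tt N76495 (iv3 F365558)) (tt N75951 (iv4 F340232)) (tt N28692 (iv5 D101210)) (tt N75950 (iv6 F362980)) (tt N49019 (iv7 F156887)))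
theorem Q54094 : ∀ i, i < 54094 → P i := stepQ 54093 Q54093 (allL N54093 (tt N43711 (iv1 F306640)) (tt N66362 (iv0 F329826)) (tt N49021 F155925) (tt N90194 D193129) (tt N28693 (iv4 D101214)) (tt N77613 F331980) (tt N28696 F155926) (tt N66359 (iv7 F334193)))
theorem Q54095 : ∀ i, i < 54095 → P i := stepQ 54094 Q54094 (allL N54094 (tt N43761 F306429) (tt N35082 F306430) (tt N43759 F306431) (tt N90181 (iv3 F388806)) (tt N66359 (iv4 F331983)) (tt N28694 F155928) (tt N66346 (iv6 F355066)) (tt N28693 (iv7 D101215)))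
theorem Q54096 : ∀ i, i < 54096 → P i := stepQ 54095 Q54095 (allL N54095 (tt N48947 F155935) (tt N29342 F155936) (tt N48944 F155932) (tt N90195 D193130) (tt N28695 (iv4 D101216)) (tt N51226 F155934) (tt N90196 D193131) (tt N48945 F155933))
theorem Q54097 : ∀ i, i < 54097 → P i := stepQ 54096 Q54096 (allL N54096 (tt N90197 D193132) (tt N90198 D193133) (tt N49022 F155937) (tt N89123 (iv3 F385254)) (tt N90196 (iv4 F388850)) (tt N88030 (iv5 F381527)) (tt N28695 (iv6 D101217)) (tt N90199 D193134))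
theorem Q54098 : ∀ i, i < 54098 → P i := stepQ 54097 Q54097 (allL N54097 (tt N66315 (iv1 F364583)) (tt N66314 F365525) (tt N66317 F329042) (tt N28696 (iv3 D101218)) (tt N90192 (iv4 F388832)) (tt N90200 D193135) (tt N90194 (iv6 F388841)) (tt N66309 F364582))
theorem Q54099 : ∀ i, i < 54099 → P i := stepQ 54098 Q54098 (allL N54098 (tt N34356 F329849) (tt N44066 (iv0 F329892)) (tt N29169 F293989) (tt N90200 (iv3 F388867)) (tt N29111 F293990) (tt N28696 (iv5 D101219)) (tt N90201 D193136) (tt N29172 F293991))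
theorem Q54100 : ∀ i, i < 54100 → P i := stepQ 54099 Q54099 (allL N54099 (tt N44567 F307575) (tt N44569 F307576) (tt N28725 F310306) (tt N35260 F307577) (tt N90202 D193137) (tt N28697 (iv5 D101223)) (tt N90203 D193138) (tt N28729 F310307))
theorem Q54101 : ∀ i, i < 54101 → P i := stepQ 54100 Q54100 (allL N54100 (tt N46694 F351602) (tt N90168 F388759) (tt N35263 F351603) (tt N28698 (iv3 D101226)) (tt N80945 F351604) (tt N71760 F351625) (tt N43717 F306901) (tt N28723 F308447))
theorem Q54102 : ∀ i, i < 54102 → P i := stepQ 54101 Q54101 (allL N54101 (tt N44569 F306903) (tt N44567 F306904) (tt N28729 F308448) (tt N71760 (iv3 F351627)) (tt N90204 D193139) (tt N28698 (iv5 D101228)) (tt N90205 D193140) (tt N28725 F308449))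
theorem Q54103 : ∀ i, i < 54103 → P i := stepQ 54102 Q54102 (allL N54102 (tt N90206 D193141) (tt N90207 D193142) (tt N28732 F155945) (tt N90208 D193143) (tt N28699 (iv4 D101232)) (tt N90208 F388903) (tt N28707 F155946) (tt N78348 (iv7 F360586)))
theorem Q54104 : ∀ i, i < 54104 → P i := stepQ 54103 Q54103 (allL N54103 (tt N90209 D193144) (tt N47551 F356397) (tt N81880 F290101) (tt N28702 F155959) (tt N90210 D193145) (tt N28701 (iv5 D101236)) (tt N90211 D193146) (tt N28745 F155960))
theorem Q54105 : ∀ i, i < 54105 → P i := stepQ 54104 Q54104 (allL N54104 (tt N89238 F385728) (tt N73847 (iv0 F357253)) (tt N28741 F155967) (tt N90211 (iv3 F388915)) (tt N88149 (iv4 F381935)) (tt N49633 F155968) (tt N28702 (iv6 D101239)) (tt N90212 D193147))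
theorem Q54106 : ∀ i, i < 54106 → P i := stepQ 54105 Q54105 (allL N54105 (tt N70970 F365614) (tt N71861 F365615) (tt N71755 (iv2 F362206)) (tt N28704 F155975) (tt N90213 D193148) (tt N28703 (iv5 D101242)) (tt N58898 F345452) (tt N28736 F155976))
theorem Q54107 : ∀ i, i < 54107 → P i := stepQ 54106 Q54106 (allL N54106 (tt N55374 (iv1 F159845)) (tt N55372 (iv0 F159839)) (tt N28746 F155977) (tt N90214 D193149) (tt N28704 (iv4 D101243)) (tt N51969 F292272) (tt N71889 (iv6 F357298)) (tt N28740 F155978))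
theorem Q54108 : ∀ i, i < 54108 → P i := stepQ 54107 Q54107 (allL N54107 (tt N71834 (iv1 F345445)) (tt N70955 (iv0 F345442)) (tt N28747 F155979) (tt N58898 (iv3 F345448)) (tt N71889 (iv4 F345447)) (tt N48640 F293822) (tt N28704 (iv6 D101244)) (tt N71756 F345453))
theorem Q54109 : ∀ i, i < 54109 → P i := stepQ 54108 Q54108 (allL N54108 (tt N89311 (iv1 F386043)) (tt N49010 F343853) (tt N89309 F386033) (tt N28705 (iv3 D101245)) (tt N90215 D193150) (tt N55316 F343854) (tt N90216 D193151) (tt N28751 F155981))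
theorem Q54110 : ∀ i, i < 54110 → P i := stepQ 54109 Q54109 (allL N54109 (tt N55365 (iv1 F159824)) (tt N55334 (iv0 F159600)) (tt N28749 F155982) (tt N90217 D193152) (tt N28705 (iv4 D101246)) (tt N84523 (iv5 F369607)) (tt N90218 D193153) (tt N28752 F155983))
theorem Q54111 : ∀ i, i < 54111 → P i := stepQ 54110 Q54110 (allL N54110 (tt N89240 F388954) (tt N90219 D193154) (tt N28750 F155984) (tt N90216 (iv3 F388948)) (tt N90218 (iv4 F388960)) (tt N50617 F155985) (tt N28705 (iv6 D101247)) (tt N90220 D193155))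
theorem Q54112 : ∀ i, i < 54112 → P i := stepQ 54111 Q54111 (allL N54111 (tt N48966 F352685) (tt N90171 F388769) (tt N90169 (iv2 F388764)) (tt N28706 (iv3 D101248)) (tt N90221 D193156) (tt N48574 F155986) (tt N90222 D193157) (tt N28748 F155987))
theorem Q54113 : ∀ i, i < 54113 → P i := stepQ 54112 Q54112 (allL N54112 (tt N55334 (iv1 F159601)) (tt N55365 (iv0 F159823)) (tt N28752 F155988) (tt N90223 D193158) (tt N28706 (iv4 D101249)) (tt N84526 (iv5 F369617)) (tt N90224 D193159) (tt N28749 F155989))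
theorem Q54114 : ∀ i, i < 54114 → P i := stepQ 54113 Q54113 (allL N54113 (tt N90225 D193160) (tt N89250 F388985) (tt N28753 F155990) (tt N90222 (iv3 F388974)) (tt N90224 (iv4 F388980)) (tt N48577 F155991) (tt N28706 (iv6 D101250)) (tt N90226 D193161))
theorem Q54115 : ∀ i, i < 54115 → P i := stepQ 54114 Q54114 (allL N54114 (tt N28758 (iv1 F155995)) (tt N28707 (iv0 D101251)) (tt N28754 (iv2 F155993)) (tt N90227 D193162) (tt N48851 F155992) (tt N84528 (iv5 F369623)) (tt N90228 D193163) (tt N28755 (iv7 F155994)))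
theorem Q54116 : ∀ i, i < 54116 → P i := stepQ 54115 Q54115 (allL N54115 (tt N28707 (iv1 D101252)) (tt N28758 F155997) (tt N28755 (iv2 F155999)) (tt N72938 F352706) (tt N48606 (iv4 F156000)) (tt N84529 (iv5 F369630)) (tt N72937 (iv6 F352704)) (tt N28754 F155998))
theorem Q54117 : ∀ i, i < 54117 → P i := stepQ 54116 Q54116 (allL N54116 (tt N77035 F352707) (tt N77033 F352708) (tt N80383 F352709) (tt N28707 (iv3 D101253)) (tt N36495 F352710) (tt N88013 (iv5 F381478)) (tt N90208 (iv6 F388901)) (tt N36494 F352711))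
theorem Q54118 : ∀ i, i < 54118 → P i := stepQ 54117 Q54117 (allL N54117 (tt N28755 (iv1 F156007)) (tt N28754 F156008) (tt N28758 F156004) (tt N36494 F352712) (tt N28708 F156005) (tt N29372 F156006) (tt N36501 F352713) (tt N28707 (iv7 D101255)))
theorem Q54119 : ∀ i, i < 54119 → P i := stepQ 54118 Q54118 (allL N54118 (tt N90229 D193164) (tt N90230 D193165) (tt N28759 F156009) (tt N36476 F352719) (tt N36501 F352720) (tt N48833 F156010) (tt N28708 (iv6 D101256)) (tt N78349 F352721))
theorem Q54120 : ∀ i, i < 54120 → P i := stepQ 54119 Q54119 (allL N54119 (tt N28709 (iv1 D101257)) (tt N34778 F156011) (tt N46685 (iv2 F156015)) (tt N81352 (iv3 F332281)) (tt N49456 F156013) (tt N42660 F156014) (tt N90231 D193166) (tt N46684 F156012))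
theorem Q54121 : ∀ i, i < 54121 → P i := stepQ 54120 Q54120 (allL N54120 (tt N46975 F317286) (tt N46763 F317287) (tt N46687 F156016) (tt N34183 (iv3 F300688)) (tt N28710 F156017) (tt N71359 F332362) (tt N28709 (iv6 D101258)) (tt N46973 F317275))
theorem Q54122 : ∀ i, i < 54122 → P i := stepQ 54121 Q54121 (allL N54121 (tt N35019 F304185) (tt N28710 (iv0 D101259)) (tt N46696 F184641) (tt N42535 (iv3 F184637)) (tt N36583 F184638) (tt N90232 D193167) (tt N90233 D193168) (tt N34924 F306328))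
theorem Q54123 : ∀ i, i < 54123 → P i := stepQ 54122 Q54122 (allL N54122 (tt N28710 (iv1 D101260)) (tt N35019 F304186) (tt N34924 F306324) (tt N77453 (iv3 F242740)) (tt N80292 F306325) (tt N90234 D193169) (tt N34824 F306326) (tt N46696 (iv7 F184642)))
theorem Q54124 : ∀ i, i < 54124 → P i := stepQ 54123 Q54123 (allL N54123 (tt N71494 F362232) (tt N90235 D193170) (tt N46697 F156020) (tt N28712 F156021) (tt N66181 (iv4 F344985)) (tt N28710 (iv5 D101261)) (tt N48565 F156022) (tt N90236 D193171))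
theorem Q54125 : ∀ i, i < 54125 → P i := stepQ 54124 Q54124 (allL N54124 (tt N34924 F306323) (tt N46696 F156028) (tt N35019 F304187) (tt N28713 F156024) (tt N46973 F317278) (tt N90236 (iv5 F389031)) (tt N48166 F156025) (tt N28710 (iv7 D101262)))
theorem Q54126 : ∀ i, i < 54126 → P i := stepQ 54125 Q54125 (allL N54125 (tt N43742 (iv1 F308317)) (tt N43741 F306910) (tt N43744 F306911) (tt N89159 (iv3 F385392)) (tt N90237 D193172) (tt N28711 (iv5 D101266)) (tt N90238 D193173) (tt N35089 F306912))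
theorem Q54127 : ∀ i, i < 54127 → P i := stepQ 54126 Q54126 (allL N54126 (tt N38769 F328260) (tt N28712 (iv0 D101272)) (tt N49035 F156043) (tt N73826 F349689) (tt N90239 D193174) (tt N44570 F306915) (tt N73824 (iv6 F349688)) (tt N49036 F156042))
theorem Q54128 : ∀ i, i < 54128 → P i := stepQ 54127 Q54127 (allL N54127 (tt N28712 (iv1 D101273)) (tt N38769 F328259) (tt N49036 F156034) (tt N28774 F156035) (tt N90240 D193175) (tt N53473 (iv5 F156033)) (tt N90241 D193176) (tt N49035 (iv7 F156044)))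
theorem Q54129 : ∀ i, i < 54129 → P i := stepQ 54128 Q54128 (allL N54128 (tt N82975 F360826) (tt N82977 (iv0 F285209)) (tt N49037 F156036) (tt N67325 F339641) (tt N28712 (iv4 D101274)) (tt N67324 (iv5 F339640)) (tt N44625 F295126) (tt N90242 D193177))
theorem Q54130 : ∀ i, i < 54130 → P i := stepQ 54129 Q54129 (allL N54129 (tt N49036 (iv1 F156041)) (tt N49035 F156046) (tt N38769 F328261) (tt N90236 (iv3 F389030)) (tt N90242 (iv4 F389066)) (tt N28713 F156039) (tt N38767 (iv6 F328659)) (tt N28712 (iv7 D101275)))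
theorem Q54131 : ∀ i, i < 54131 → P i := stepQ 54130 Q54130 (allL N54130 (tt N66571 (iv1 F315739)) (tt N40463 F339629) (tt N42325 F314922) (tt N63264 (iv3 F186628)) (tt N80488 F299888) (tt N28714 (iv5 D101278)) (tt N34836 F156049) (tt N66572 (iv7 F315748)))
theorem Q54132 : ∀ i, i < 54132 → P i := stepQ 54131 Q54131 (allL N54131 (tt N64060 F192606) (tt N63262 (iv0 F186622)) (tt N53549 F156067) (tt N28716 (iv3 D101286)) (tt N52501 F156068) (tt N48767 F156069) (tt N67822 F348723) (tt N49039 F156070))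
theorem Q54133 : ∀ i, i < 54133 → P i := stepQ 54132 Q54132 (allL N54132 (tt N81360 F348715) (tt N80034 F348717) (tt N49038 F156071) (tt N67822 (iv3 F348716)) (tt N64217 (iv4 F193649)) (tt N87702 (iv5 F380189)) (tt N28716 (iv6 D101287)) (tt N82120 F348718))
theorem Q54134 : ∀ i, i < 54134 → P i := stepQ 54133 Q54133 (allL N54133 (tt N79380 F350955) (tt N77603 F350956) (tt N28718 F156072) (tt N48461 F156073) (tt N28794 F156074) (tt N68524 (iv5 F339376)) (tt N28717 (iv6 D101288)) (tt N79549 F350957))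
theorem Q54135 : ∀ i, i < 54135 → P i := stepQ 54134 Q54134 (allL N54134 (tt N79549 F350946) (tt N28718 (iv0 D101289)) (tt N79380 (iv2 F350951)) (tt N48228 F350947) (tt N63749 F350948) (tt N88621 (iv5 F383619)) (tt N48226 F350949) (tt N77603 F350950))
theorem Q54136 : ∀ i, i < 54136 → P i := stepQ 54135 Q54135 (allL N54135 (tt N28718 (iv1 D101290)) (tt N79549 F332044) (tt N77603 F332040) (tt N82042 F332045) (tt N63748 (iv4 F332039)) (tt N88617 (iv5 F383602)) (tt N77581 F332041) (tt N79380 F332042))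
theorem Q54137 : ∀ i, i < 54137 → P i := stepQ 54136 Q54136 (allL N54136 (tt N68526 F309063) (tt N66827 F309064) (tt N68524 F309065) (tt N28721 F156075) (tt N76742 F309066) (tt N28718 (iv5 D101291)) (tt N44523 (iv6 F309904)) (tt N68525 F309067))
theorem Q54138 : ∀ i, i < 54138 → P i := stepQ 54137 Q54137 (allL N54137 (tt N77603 F310338) (tt N79380 (iv0 F350954)) (tt N79549 F310339) (tt N28722 F156077) (tt N28798 F156078) (tt N68525 F310340) (tt N43786 F310341) (tt N28718 (iv7 D101292)))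
theorem Q54139 : ∀ i, i < 54139 → P i := stepQ 54138 Q54138 (allL N54138 (tt N75797 F310908) (tt N68418 F310909) (tt N48473 F310902) (tt N42711 F310910) (tt N47746 F310911) (tt N28719 (iv5 D101296)) (tt N68413 F310912) (tt N48459 F310913))
theorem Q54140 : ∀ i, i < 54140 → P i := stepQ 54139 Q54139 (allL N54139 (tt N87926 F381166) (tt N72227 F360592) (tt N48474 F310903) (tt N63726 F330122) (tt N65254 F330120) (tt N77089 (iv5 F306652)) (tt N28719 (iv6 D101297)) (tt N77266 (iv7 F330121)))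
theorem Q54141 : ∀ i, i < 54141 → P i := stepQ 54140 Q54140 (allL N54140 (tt N38365 F309043) (tt N28721 (iv0 D101303)) (tt N38366 F309044) (tt N68574 F309045) (tt N44521 F309046) (tt N66830 F309047) (tt N66856 F309048) (tt N38362 F309049))
theorem Q54142 : ∀ i, i < 54142 → P i := stepQ 54141 Q54141 (allL N54141 (tt N38362 F309037) (tt N38366 F309038) (tt N38365 F309039) (tt N68525 F309040) (tt N69643 F309041) (tt N28722 F156086) (tt N68593 F309042) (tt N28721 (iv7 D101306)))
theorem Q54143 : ∀ i, i < 54143 → P i := stepQ 54142 Q54142 (allL N54142 (tt N35263 F351741) (tt N28723 (iv0 D101313)) (tt N90168 (iv2 F388756)) (tt N28823 F351742) (tt N70106 F351743) (tt N90243 D193178) (tt N43603 F351744) (tt N46694 F351745))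
theorem Q54144 : ∀ i, i < 54144 → P i := stepQ 54143 Q54143 (allL N54143 (tt N90168 (iv1 F388760)) (tt N46694 F351618) (tt N28723 (iv2 D101315)) (tt N35248 F351619) (tt N47053 F351620) (tt N71759 F351621) (tt N48210 F351622) (tt N35263 F351623))
theorem Q54145 : ∀ i, i < 54145 → P i := stepQ 54144 Q54144 (allL N54144 (tt N90244 D193179) (tt N90231 (iv0 F389006)) (tt N47053 F351605) (tt N66959 F351606) (tt N28723 (iv4 D101316)) (tt N80943 F351607) (tt N80753 F351608) (tt N80945 F351609))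
theorem Q54146 : ∀ i, i < 54146 → P i := stepQ 54145 Q54145 (allL N54145 (tt N71162 F351804) (tt N71758 F351826) (tt N71759 (iv2 F351617)) (tt N28725 F156098) (tt N90245 D193180) (tt N28723 (iv5 D101317)) (tt N90246 D193181) (tt N71760 (iv7 F351624)))
theorem Q54147 : ∀ i, i < 54147 → P i := stepQ 54146 Q54146 (allL N54146 (tt N90247 D193182) (tt N90248 D193183) (tt N48210 F351629) (tt N28726 F156099) (tt N80753 (iv4 F351630)) (tt N90249 D193184) (tt N28723 (iv6 D101318)) (tt N90250 D193185))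
theorem Q54148 : ∀ i, i < 54148 → P i := stepQ 54147 Q54147 (allL N54147 (tt N34166 F308427) (tt N34251 F308428) (tt N34249 F308429) (tt N28724 (iv3 D101322)) (tt N66959 F308430) (tt N90251 D193186) (tt N47959 F308431) (tt N34200 F308432))
theorem Q54149 : ∀ i, i < 54149 → P i := stepQ 54148 Q54148 (allL N54148 (tt N43457 F308433) (tt N43459 F308434) (tt N43839 F308435) (tt N90251 (iv3 F389111)) (tt N73340 F344019) (tt N28724 (iv5 D101323)) (tt N44516 F308436) (tt N43720 F308437))
theorem Q54150 : ∀ i, i < 54150 → P i := stepQ 54149 Q54149 (allL N54149 (tt N28729 (iv1 F156110)) (tt N28725 (iv0 D101326)) (tt N44567 (iv2 F305551)) (tt N72358 (iv3 F339060)) (tt N73575 (iv4 F351572)) (tt N43452 F304670) (tt N72356 (iv6 F351887)) (tt N44569 F304671))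
theorem Q54151 : ∀ i, i < 54151 → P i := stepQ 54150 Q54150 (allL N54150 (tt N28725 (iv1 D101327)) (tt N28729 F156107) (tt N44569 F307563) (tt N28817 F286540) (tt N90252 D193187) (tt N43453 F307564) (tt N70955 F345441) (tt N44567 F307565))
theorem Q54152 : ∀ i, i < 54152 → P i := stepQ 54151 Q54151 (allL N54151 (tt N73480 (iv1 F338946)) (tt N71893 (iv0 F350156)) (tt N90202 (iv2 F388874)) (tt N90253 D193188) (tt N28725 (iv4 D101328)) (tt N77471 (iv5 F344022)) (tt N90254 D193189) (tt N90204 (iv7 F388884)))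
theorem Q54153 : ∀ i, i < 54153 → P i := stepQ 54152 Q54152 (allL N54152 (tt N90255 D193190) (tt N90256 D193191) (tt N90203 (iv2 F388880)) (tt N90246 (iv3 F389086)) (tt N90254 (iv4 F389123)) (tt N90257 D193192) (tt N28725 (iv6 D101329)) (tt N90258 D193193))
theorem Q54154 : ∀ i, i < 54154 → P i := stepQ 54153 Q54153 (allL N54153 (tt N28726 (iv1 D101332)) (tt N43714 F306695) (tt N35110 F306696) (tt N28820 (iv3 F156464)) (tt N72227 (iv4 F360593)) (tt N76870 (iv5 F308304)) (tt N35092 F306697) (tt N49030 F156463))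
theorem Q54155 : ∀ i, i < 54155 → P i := stepQ 54154 Q54154 (allL N54154 (tt N48537 F156112) (tt N44557 F307553) (tt N48569 F308318) (tt N90249 (iv3 F389099)) (tt N90259 D193194) (tt N28726 (iv5 D101333)) (tt N90257 (iv6 F389129)) (tt N48568 F308319))
theorem Q54156 : ∀ i, i < 54156 → P i := stepQ 54155 Q54155 (allL N54155 (tt N35110 F308443) (tt N49030 F309030) (tt N43714 F308444) (tt N90250 (iv3 F389103)) (tt N35348 F308445) (tt N48568 F309031) (tt N35081 F308446) (tt N28726 (iv7 D101334)))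
theorem Q54157 : ∀ i, i < 54157 → P i := stepQ 54156 Q54156 (allL N54156 (tt N79143 F310312) (tt N79142 F310313) (tt N35264 F310314) (tt N28729 F156115) (tt N90260 D193195) (tt N28727 (iv5 D101340)) (tt N90261 D193196) (tt N35260 F310315))
theorem Q54158 : ∀ i, i < 54158 → P i := stepQ 54157 Q54157 (allL N54157 (tt N43459 F310319) (tt N43457 F310320) (tt N43720 F310321) (tt N34324 F310322) (tt N73577 (iv4 F350149)) (tt N28728 (iv5 D101343)) (tt N43441 F310324) (tt N43839 F310325))
theorem Q54159 : ∀ i, i < 54159 → P i := stepQ 54158 Q54158 (allL N54158 (tt N71893 F351571) (tt N73480 (iv0 F338945)) (tt N90204 (iv2 F388883)) (tt N73472 F351883) (tt N28729 (iv4 D101345)) (tt N77470 (iv5 F344021)) (tt N90262 D193197) (tt N90202 (iv7 F388875)))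
theorem Q54160 : ∀ i, i < 54160 → P i := stepQ 54159 Q54159 (allL N54159 (tt N90263 D193198) (tt N88030 (iv0 F381528)) (tt N90205 (iv2 F388887)) (tt N90261 (iv3 F389140)) (tt N90262 (iv4 F389144)) (tt N90264 D193199) (tt N28729 (iv6 D101346)) (tt N90265 D193200))
theorem Q54161 : ∀ i, i < 54161 → P i := stepQ 54160 Q54160 (allL N54160 (tt N53946 (iv1 F156901)) (tt N54092 (iv0 F156120)) (tt N43718 F310329) (tt N34986 F310330) (tt N90266 D193201) (tt N28730 (iv5 D101349)) (tt N90264 (iv6 F389151)) (tt N43713 F310331))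
theorem Q54162 : ∀ i, i < 54162 → P i := stepQ 54161 Q54161 (allL N54161 (tt N90243 (iv1 F389073)) (tt N90167 (iv0 F388755)) (tt N90267 D193202) (tt N28731 (iv3 D101352)) (tt N90268 D193203) (tt N76917 F366847) (tt N90269 D193204) (tt N76916 (iv7 F366846)))
theorem Q54163 : ∀ i, i < 54163 → P i := stepQ 54162 Q54162 (allL N54162 (tt N77472 (iv1 F360575)) (tt N78350 (iv0 F360574)) (tt N78351 (iv2 F360572)) (tt N90270 D193205) (tt N28731 (iv4 D101353)) (tt N78320 F360571) (tt N90271 D193206) (tt N76921 (iv7 F360573)))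
theorem Q54164 : ∀ i, i < 54164 → P i := stepQ 54163 Q54163 (allL N54163 (tt N90272 D193207) (tt N90273 D193208) (tt N78352 (iv2 F366848)) (tt N90269 (iv3 F389171)) (tt N90271 (iv4 F389176)) (tt N86734 F377022) (tt N28731 (iv6 D101355)) (tt N86746 (iv7 F377052)))
theorem Q54165 : ∀ i, i < 54165 → P i := stepQ 54164 Q54164 (allL N54164 (tt N78348 (iv1 F366815)) (tt N28732 (iv0 D101361)) (tt N90206 F388893) (tt N72951 (iv3 F407419)) (tt N77437 F366816) (tt N90274 D193210) (tt N72949 (iv6 F407421)) (tt N90207 (iv7 F388896)))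
theorem Q54166 : ∀ i, i < 54166 → P i := stepQ 54165 Q54165 (allL N54165 (tt N28732 (iv1 D101362)) (tt N78348 F309584) (tt N90207 F388899) (tt N90275 D193212) (tt N43466 F309585) (tt N90276 D193213) (tt N90277 D193214) (tt N90206 F388894))
theorem Q54167 : ∀ i, i < 54167 → P i := stepQ 54166 Q54166 (allL N54166 (tt N90278 D193215) (tt N90279 D193216) (tt N90280 D193217) (tt N28732 (iv3 D101363)) (tt N28844 F156125) (tt N90280 F389202) (tt N28756 F156126) (tt N90281 D193218))
theorem Q54168 : ∀ i, i < 54168 → P i := stepQ 54167 Q54167 (allL N54167 (tt N90282 D193219) (tt N79615 (iv0 F366553)) (tt N90208 (iv2 F388904)) (tt N90280 (iv3 F389199)) (tt N78319 F366551) (tt N28732 (iv5 D101364)) (tt N80383 (iv6 F366552)) (tt N90283 D193220))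
theorem Q54169 : ∀ i, i < 54169 → P i := stepQ 54168 Q54168 (allL N54168 (tt N90207 (iv1 F388895)) (tt N90206 F388891) (tt N78348 F308453) (tt N90281 (iv3 F389203)) (tt N28733 F156127) (tt N90283 (iv5 F389220)) (tt N90284 D193221) (tt N28732 (iv7 D101365)))
theorem Q54170 : ∀ i, i < 54170 → P i := stepQ 54169 Q54169 (allL N54169 (tt N90230 (iv1 F389002)) (tt N90229 F389001) (tt N78349 F308454) (tt N28847 F156128) (tt N90284 (iv4 F389226)) (tt N43791 (iv5 F308731)) (tt N28733 (iv6 D101366)) (tt N28759 F156130))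
theorem Q54171 : ∀ i, i < 54171 → P i := stepQ 54170 Q54170 (allL N54170 (tt N83656 F288309) (tt N84773 F370575) (tt N83646 (iv2 F288270)) (tt N49057 F156132) (tt N28734 (iv4 D101368)) (tt N69356 (iv5 F363895)) (tt N49057 F290224) (tt N48965 F290180))
theorem Q54172 : ∀ i, i < 54172 → P i := stepQ 54171 Q54171 (allL N54171 (tt N90169 (iv1 F388761)) (tt N28748 F364411) (tt N90171 (iv2 F388767)) (tt N28890 F156133) (tt N90285 D193222) (tt N28734 (iv5 D101369)) (tt N39478 F328172) (tt N48966 F290181))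
theorem Q54173 : ∀ i, i < 54173 → P i := stepQ 54172 Q54172 (allL N54172 (tt N71861 (iv1 F365617)) (tt N70970 F365616) (tt N28736 F156171) (tt N81880 (iv3 F290116)) (tt N90286 D193223) (tt N28735 (iv5 D101375)) (tt N71806 (iv6 F360691)) (tt N71755 F362210))
theorem Q54174 : ∀ i, i < 54174 → P i := stepQ 54173 Q54173 (allL N54173 (tt N48989 F349312) (tt N85496 (iv0 F372839)) (tt N28737 F156172) (tt N64761 (iv3 F356441)) (tt N50223 F156173) (tt N64760 F356989) (tt N28735 (iv6 D101376)) (tt N85666 (iv7 F373440)))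
theorem Q54175 : ∀ i, i < 54175 → P i := stepQ 54174 Q54174 (allL N54174 (tt N28736 (iv1 D101378)) (tt N71755 F362211) (tt N70970 (iv2 F362212)) (tt N71855 F362213) (tt N90287 D193224) (tt N82667 (iv5 F283609)) (tt N90288 D193225) (tt N71861 F362214))
theorem Q54176 : ∀ i, i < 54176 → P i := stepQ 54175 Q54175 (allL N54175 (tt N54686 F157418) (tt N90289 D193226) (tt N90286 (iv2 F389235)) (tt N90290 D193227) (tt N28736 (iv4 D101379)) (tt N90291 D193228) (tt N90292 D193229) (tt N90213 (iv7 F388924)))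
theorem Q54177 : ∀ i, i < 54177 → P i := stepQ 54176 Q54176 (allL N54176 (tt N70961 (iv1 F365536)) (tt N71807 (iv0 F365535)) (tt N71806 F360690) (tt N28741 F156174) (tt N90292 (iv4 F389249)) (tt N80018 F383422) (tt N28736 (iv6 D101380)) (tt N71757 (iv7 F357301)))
theorem Q54178 : ∀ i, i < 54178 → P i := stepQ 54177 Q54177 (allL N54177 (tt N28737 (iv1 D101382)) (tt N85666 F373442) (tt N85496 (iv2 F372836)) (tt N75626 F360955) (tt N88426 (iv4 F382993)) (tt N84121 (iv5 F368195)) (tt N85494 (iv6 F372831)) (tt N48989 F344236))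
theorem Q54179 : ∀ i, i < 54179 → P i := stepQ 54178 Q54178 (allL N54178 (tt N64475 F348705) (tt N81317 (iv0 F363839)) (tt N64760 F356990) (tt N28742 F156175) (tt N88529 (iv4 F383415)) (tt N28737 (iv5 D101383)) (tt N80018 (iv6 F383420)) (tt N49628 F156176))
theorem Q54180 : ∀ i, i < 54180 → P i := stepQ 54179 Q54179 (allL N54179 (tt N29366 F156180) (tt N29362 F156181) (tt N51462 F156179) (tt N40755 F360804) (tt N28738 (iv4 D101385)) (tt N49902 F360803) (tt N90293 D193230) (tt N84608 (iv7 F369854)))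
theorem Q54181 : ∀ i, i < 54181 → P i := stepQ 54180 Q54180 (allL N54180 (tt N90294 D193231) (tt N90295 D193232) (tt N51459 F156182) (tt N72369 F363444) (tt N90293 (iv4 F389254)) (tt N51449 F156183) (tt N28738 (iv6 D101386)) (tt N90296 D193233))
theorem Q54182 : ∀ i, i < 54182 → P i := stepQ 54181 Q54181 (allL N54181 (tt N29362 F156185) (tt N29366 F156186) (tt N84608 (iv2 F369851)) (tt N90297 D193234) (tt N28739 (iv4 D101387)) (tt N51893 F360808) (tt N90298 D193235) (tt N51462 F156184))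
theorem Q54183 : ∀ i, i < 54183 → P i := stepQ 54182 Q54182 (allL N54182 (tt N90205 F388889) (tt N90265 F389156) (tt N88030 (iv2 F381526)) (tt N28880 F156188) (tt N90298 (iv4 F389268)) (tt N49022 F156189) (tt N28739 (iv6 D101388)) (tt N90263 F389148))
theorem Q54184 : ∀ i, i < 54184 → P i := stepQ 54183 Q54183 (allL N54183 (tt N28746 (iv1 F156191)) (tt N28740 (iv0 D101389)) (tt N55372 (iv2 F159837)) (tt N90299 D193236) (tt N48731 F156190) (tt N52429 F360812) (tt N90300 D193237) (tt N55374 (iv7 F159843)))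
theorem Q54185 : ∀ i, i < 54185 → P i := stepQ 54184 Q54184 (allL N54184 (tt N28740 (iv1 D101390)) (tt N28746 F156192) (tt N55374 (iv2 F159842)) (tt N88464 (iv3 F383156)) (tt N52452 (iv4 F291804)) (tt N52433 F360810) (tt N90301 D193238) (tt N55372 (iv7 F159838)))
theorem Q54186 : ∀ i, i < 54186 → P i := stepQ 54185 Q54185 (allL N54185 (tt N90302 D193239) (tt N90303 D193240) (tt N90304 D193241) (tt N28740 (iv3 D101391)) (tt N90290 (iv4 F389239)) (tt N51968 (iv5 F367261)) (tt N90305 D193242) (tt N90214 (iv7 F388930)))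
theorem Q54187 : ∀ i, i < 54187 → P i := stepQ 54186 Q54186 (allL N54186 (tt N71921 (iv1 F357289)) (tt N71918 (iv0 F365537)) (tt N88149 (iv2 F381934)) (tt N90305 (iv3 F389289)) (tt N28741 F156194) (tt N75358 F357281) (tt N28740 (iv6 D101393)) (tt N75357 (iv7 F357294)))
theorem Q54188 : ∀ i, i < 54188 → P i := stepQ 54187 Q54187 (allL N54187 (tt N90212 (iv1 F388921)) (tt N28741 (iv0 D101394)) (tt N89238 (iv2 F385724)) (tt N73800 F357286) (tt N90306 D193243) (tt N44563 F357287) (tt N90255 (iv6 F389124)) (tt N73847 F357288))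
theorem Q54189 : ∀ i, i < 54189 → P i := stepQ 54188 Q54188 (allL N54188 (tt N28741 (iv1 D101395)) (tt N90212 F388920) (tt N73847 F357282) (tt N28886 F357283) (tt N90307 D193244) (tt N44562 F357284) (tt N90308 D193245) (tt N89238 (iv7 F385726)))
theorem Q54190 : ∀ i, i < 54190 → P i := stepQ 54189 Q54189 (allL N54189 (tt N90309 D193246) (tt N64718 F357285) (tt N49633 F156195) (tt N80018 F383421) (tt N75277 (iv4 F357252)) (tt N28741 (iv5 D101396)) (tt N28742 F156196) (tt N90310 D193247))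
theorem Q54191 : ∀ i, i < 54191 → P i := stepQ 54190 Q54190 (allL N54190 (tt N73847 (iv1 F357279)) (tt N89238 F385729) (tt N90212 (iv2 F388917)) (tt N71757 F357299) (tt N75357 F357295) (tt N90310 (iv5 F389314)) (tt N71756 (iv6 F345467)) (tt N28741 (iv7 D101397)))
theorem Q54192 : ∀ i, i < 54192 → P i := stepQ 54191 Q54191 (allL N54191 (tt N48692 F156199) (tt N66995 F348703) (tt N49632 F156197) (tt N79274 (iv3 F332153)) (tt N28742 (iv4 D101398)) (tt N29255 F292332) (tt N75277 F357280) (tt N49629 F156198))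
theorem Q54193 : ∀ i, i < 54193 → P i := stepQ 54192 Q54192 (allL N54192 (tt N28751 F356385) (tt N89309 F386036) (tt N89311 (iv2 F386040)) (tt N28861 F156241) (tt N90311 D193248) (tt N28743 (iv5 D101402)) (tt N90312 D193249) (tt N49010 F289622))
theorem Q54194 : ∀ i, i < 54194 → P i := stepQ 54193 Q54193 (allL N54193 (tt N47551 F356394) (tt N90209 F388910) (tt N28745 F156244) (tt N71755 F362207) (tt N61806 F362202) (tt N28744 (iv5 D101404)) (tt N61804 (iv6 F336763)) (tt N81880 (iv7 F290100)))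
theorem Q54195 : ∀ i, i < 54195 → P i := stepQ 54194 Q54194 (allL N54194 (tt N81880 (iv1 F290117)) (tt N28745 (iv0 D101406)) (tt N47551 F356221) (tt N89174 F385976) (tt N89298 (iv4 F385975)) (tt N72620 (iv5 F356407)) (tt N72622 F356408) (tt N90209 (iv7 F388911)))
theorem Q54196 : ∀ i, i < 54196 → P i := stepQ 54195 Q54195 (allL N54195 (tt N28745 (iv1 D101407)) (tt N81880 F290102) (tt N90209 F388909) (tt N28866 F356193) (tt N89299 (iv4 F385983)) (tt N52764 F290103) (tt N90313 D193250) (tt N47551 F356194))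
theorem Q54197 : ∀ i, i < 54197 → P i := stepQ 54196 Q54196 (allL N54196 (tt N54669 (iv1 F356197)) (tt N54666 (iv0 F157404)) (tt N61806 (iv2 F362201)) (tt N90314 D193251) (tt N28745 (iv4 D101408)) (tt N90315 D193252) (tt N61802 F345480) (tt N90210 (iv7 F388912)))
theorem Q54198 : ∀ i, i < 54198 → P i := stepQ 54197 Q54197 (allL N54197 (tt N69836 F345483) (tt N69835 (iv0 F345484)) (tt N61804 F345449) (tt N28747 F156246) (tt N61802 (iv4 F345479)) (tt N68347 F345482) (tt N28745 (iv6 D101409)) (tt N61799 F345481))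
theorem Q54199 : ∀ i, i < 54199 → P i := stepQ 54198 Q54198 (allL N54198 (tt N40705 F360794) (tt N81987 F360795) (tt N90316 D193253) (tt N28746 (iv3 D101412)) (tt N90314 (iv4 F389324)) (tt N88148 (iv5 F381931)) (tt N40678 F345475) (tt N88147 F381923))
theorem Q54200 : ∀ i, i < 54200 → P i := stepQ 54199 Q54199 (allL N54199 (tt N70987 F345471) (tt N70988 F345472) (tt N71889 F349721) (tt N40678 F345473) (tt N28747 F156248) (tt N90317 D193254) (tt N28746 (iv6 D101414)) (tt N71890 (iv7 F349720)))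
theorem Q54201 : ∀ i, i < 54201 → P i := stepQ 54200 Q54200 (allL N54200 (tt N70955 (iv1 F345444)) (tt N71834 F345468) (tt N71756 (iv2 F345464)) (tt N61799 F349706) (tt N71890 F349707) (tt N69734 (iv5 F349705)) (tt N90212 (iv6 F388919)) (tt N28747 (iv7 D101417)))
theorem Q54202 : ∀ i, i < 54202 → P i := stepQ 54201 Q54201 (allL N54201 (tt N90171 (iv1 F388770)) (tt N48966 F352687) (tt N28748 (iv2 D101419)) (tt N89309 (iv3 F386034)) (tt N90318 D193255) (tt N86754 (iv5 F377065)) (tt N90319 D193256) (tt N90169 (iv7 F388762)))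
theorem Q54203 : ∀ i, i < 54203 → P i := stepQ 54202 Q54202 (allL N54202 (tt N54655 (iv1 F157330)) (tt N90320 D193257) (tt N90318 (iv2 F389333)) (tt N90321 D193258) (tt N28748 (iv4 D101420)) (tt N90322 D193259) (tt N90323 D193260) (tt N90221 (iv7 F388972)))
theorem Q54204 : ∀ i, i < 54204 → P i := stepQ 54203 Q54203 (allL N54203 (tt N39266 F389354) (tt N90324 D193262) (tt N90319 (iv2 F389335)) (tt N28750 F156249) (tt N90323 (iv4 F389340)) (tt N85643 (iv5 F373344)) (tt N28748 (iv6 D101421)) (tt N90325 D193263))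
theorem Q54205 : ∀ i, i < 54205 → P i := stepQ 54204 Q54204 (allL N54204 (tt N28752 (iv1 F156250)) (tt N28749 (iv0 D101422)) (tt N55365 (iv2 F159821)) (tt N85915 F374445) (tt N52451 (iv4 F292404)) (tt N51966 F367195) (tt N85914 (iv6 F374446)) (tt N55334 (iv7 F159599)))
theorem Q54206 : ∀ i, i < 54206 → P i := stepQ 54205 Q54205 (allL N54205 (tt N90326 D193264) (tt N90327 D193265) (tt N90328 D193266) (tt N28749 (iv3 D101423)) (tt N90321 (iv4 F389338)) (tt N90329 D193267) (tt N90330 D193268) (tt N90223 (iv7 F388977)))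
theorem Q54207 : ∀ i, i < 54207 → P i := stepQ 54206 Q54206 (allL N54206 (tt N51881 F290800) (tt N51875 F290801) (tt N84523 (iv2 F369605)) (tt N90329 (iv3 F389346)) (tt N29167 F290802) (tt N28749 (iv5 D101424)) (tt N90331 D193269) (tt N84526 (iv7 F369618)))
theorem Q54208 : ∀ i, i < 54208 → P i := stepQ 54207 Q54207 (allL N54207 (tt N90332 D193270) (tt N90333 D193271) (tt N90218 (iv2 F388958)) (tt N90330 (iv3 F389347)) (tt N28750 F156252) (tt N90334 D193272) (tt N28749 (iv6 D101425)) (tt N90335 D193273))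
theorem Q54209 : ∀ i, i < 54209 → P i := stepQ 54208 Q54208 (allL N54208 (tt N90220 (iv1 F388971)) (tt N28750 (iv0 D101426)) (tt N89240 (iv2 F385736)) (tt N48496 F368246) (tt N72229 F368247) (tt N90336 D193274) (tt N78341 F368248) (tt N90219 (iv7 F388962)))
theorem Q54210 : ∀ i, i < 54210 → P i := stepQ 54209 Q54209 (allL N54209 (tt N28750 (iv1 D101427)) (tt N90220 F388970) (tt N90219 (iv2 F388965)) (tt N28907 F385740) (tt N90337 D193275) (tt N90338 D193276) (tt N90339 D193277) (tt N89240 F385741))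
theorem Q54211 : ∀ i, i < 54211 → P i := stepQ 54210 Q54210 (allL N54210 (tt N90219 (iv1 F388961)) (tt N89240 F388966) (tt N90220 (iv2 F388967)) (tt N90325 (iv3 F389341)) (tt N90335 (iv4 F389372)) (tt N85646 (iv5 F373354)) (tt N90226 (iv6 F388989)) (tt N28750 (iv7 D101428)))
theorem Q54212 : ∀ i, i < 54212 → P i := stepQ 54211 Q54211 (allL N54211 (tt N49010 F356435) (tt N89311 F386042) (tt N28751 (iv2 D101431)) (tt N90169 (iv3 F388765)) (tt N90340 D193278) (tt N80625 F356436) (tt N90341 D193279) (tt N89309 (iv7 F386035)))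
theorem Q54213 : ∀ i, i < 54213 → P i := stepQ 54212 Q54212 (allL N54212 (tt N53514 F356386) (tt N54662 (iv0 F352686)) (tt N90340 (iv2 F389386)) (tt N90342 D193280) (tt N28751 (iv4 D101432)) (tt N90343 D193281) (tt N90344 D193282) (tt N90215 (iv7 F388945)))
theorem Q54214 : ∀ i, i < 54214 → P i := stepQ 54213 Q54213 (allL N54213 (tt N90345 D193283) (tt N90346 D193284) (tt N90341 (iv2 F389390)) (tt N28753 F156253) (tt N90344 (iv4 F389393)) (tt N84329 (iv5 F368922)) (tt N28751 (iv6 D101433)) (tt N90347 D193285))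
theorem Q54215 : ∀ i, i < 54215 → P i := stepQ 54214 Q54214 (allL N54214 (tt N90348 D193286) (tt N90349 D193287) (tt N90350 D193288) (tt N28752 (iv3 D101434)) (tt N90342 (iv4 F389392)) (tt N90351 D193289) (tt N72916 F377745) (tt N90217 (iv7 F388955)))
theorem Q54216 : ∀ i, i < 54216 → P i := stepQ 54215 Q54215 (allL N54215 (tt N51875 F360814) (tt N51881 F360815) (tt N84526 (iv2 F369616)) (tt N90351 (iv3 F389404)) (tt N29371 F156254) (tt N28752 (iv5 D101435)) (tt N87560 (iv6 F379754)) (tt N84523 (iv7 F369606)))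
theorem Q54217 : ∀ i, i < 54217 → P i := stepQ 54216 Q54216 (allL N54216 (tt N90352 D193290) (tt N90353 D193291) (tt N90224 (iv2 F388979)) (tt N72916 (iv3 F377743)) (tt N28753 F156255) (tt N72913 (iv5 F377744)) (tt N28752 (iv6 D101436)) (tt N72912 F377742))
theorem Q54218 : ∀ i, i < 54218 → P i := stepQ 54217 Q54217 (allL N54217 (tt N90226 (iv1 F388991)) (tt N28753 (iv0 D101437)) (tt N90225 F388982) (tt N28916 F365507) (tt N90354 D193292) (tt N90355 D193293) (tt N39542 F360829) (tt N89250 (iv7 F385787)))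
theorem Q54219 : ∀ i, i < 54219 → P i := stepQ 54218 Q54218 (allL N54218 (tt N28753 (iv1 D101438)) (tt N90226 F388990) (tt N89250 (iv2 F385786)) (tt N89190 (iv3 F385508)) (tt N90356 D193294) (tt N90357 D193295) (tt N90272 (iv6 F389413)) (tt N90225 (iv7 F388984)))
theorem Q54220 : ∀ i, i < 54220 → P i := stepQ 54219 Q54219 (allL N54219 (tt N89250 (iv1 F388986)) (tt N90225 (iv0 F388983)) (tt N90226 (iv2 F388987)) (tt N90347 (iv3 F389398)) (tt N72912 (iv4 F377741)) (tt N84335 (iv5 F368947)) (tt N90220 (iv6 F388969)) (tt N28753 (iv7 D101439)))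
theorem Q54221 : ∀ i, i < 54221 → P i := stepQ 54220 Q54220 (allL N54220 (tt N44311 F352677) (tt N44312 F352678) (tt N38693 F352679) (tt N28754 (iv3 D101440)) (tt N31434 F352680) (tt N73553 F352681) (tt N36721 F352682) (tt N72938 F352683))
theorem Q54222 : ∀ i, i < 54222 → P i := stepQ 54221 Q54221 (allL N54221 (tt N49945 F292810) (tt N52447 F292811) (tt N84528 F369626) (tt N73553 (iv3 F359656)) (tt N29207 F292812) (tt N28754 (iv5 D101441)) (tt N90358 D193296) (tt N84529 (iv7 F369629)))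
theorem Q54223 : ∀ i, i < 54223 → P i := stepQ 54222 Q54222 (allL N54222 (tt N72229 F352689) (tt N90337 (iv0 F389379)) (tt N90228 (iv2 F388995)) (tt N36721 F352690) (tt N65448 F352691) (tt N57850 F352692) (tt N28754 (iv6 D101442)) (tt N38698 F352693))
theorem Q54224 : ∀ i, i < 54224 → P i := stepQ 54223 Q54223 (allL N54223 (tt N90359 D193297) (tt N89568 (iv0 F389419)) (tt N90360 D193299) (tt N28755 (iv3 D101443)) (tt N90361 D193300) (tt N90362 D193301) (tt N90363 D193302) (tt N90227 (iv7 F388993)))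
theorem Q54225 : ∀ i, i < 54225 → P i := stepQ 54224 Q54224 (allL N54224 (tt N52447 F360809) (tt N49945 F360816) (tt N84529 F369632) (tt N90362 (iv3 F389420)) (tt N29369 F156257) (tt N28755 (iv5 D101444)) (tt N90364 D193303) (tt N84528 F369627))
theorem Q54226 : ∀ i, i < 54226 → P i := stepQ 54225 Q54225 (allL N54225 (tt N90354 (iv1 F389430)) (tt N90356 F389411) (tt N72937 F352705) (tt N90363 (iv3 F389421)) (tt N86757 (iv4 F377076)) (tt N90365 D193305) (tt N28755 (iv6 D101445)) (tt N90366 D193306))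
theorem Q54227 : ∀ i, i < 54227 → P i := stepQ 54226 Q54226 (allL N54226 (tt N90367 D193307) (tt N28756 (iv0 D101446)) (tt N90368 D193308) (tt N89570 F386780) (tt N90369 D193309) (tt N90370 D193310) (tt N90371 D193311) (tt N90372 D193312))
theorem Q54228 : ∀ i, i < 54228 → P i := stepQ 54227 Q54227 (allL N54227 (tt N28756 (iv1 D101447)) (tt N90367 F389436) (tt N90372 (iv2 F389439)) (tt N90373 D193313) (tt N90374 D193314) (tt N90375 D193315) (tt N90376 D193316) (tt N90368 F389437))
theorem Q54229 : ∀ i, i < 54229 → P i := stepQ 54228 Q54228 (allL N54228 (tt N90368 (iv1 F389443)) (tt N90372 (iv0 F389441)) (tt N28756 (iv2 D101448)) (tt N80383 (iv3 F352732)) (tt N28926 F156258) (tt N90377 D193317) (tt N90280 (iv6 F389201)) (tt N90367 (iv7 F389435)))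
theorem Q54230 : ∀ i, i < 54230 → P i := stepQ 54229 Q54229 (allL N54229 (tt N90378 D193318) (tt N90379 D193319) (tt N90377 (iv2 F389448)) (tt N28757 F156259) (tt N90380 D193320) (tt N28756 (iv5 D101449)) (tt N90377 (iv6 F389450)) (tt N88011 (iv7 F381474)))
theorem Q54231 : ∀ i, i < 54231 → P i := stepQ 54230 Q54230 (allL N54230 (tt N90372 (iv1 F389442)) (tt N90368 F389444) (tt N90367 F389431) (tt N28758 F156260) (tt N28928 F156261) (tt N88011 (iv5 F381473)) (tt N53970 (iv6 F365234)) (tt N28756 (iv7 D101450)))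
theorem Q54232 : ∀ i, i < 54232 → P i := stepQ 54231 Q54231 (allL N54231 (tt N90381 D193321) (tt N90382 D193322) (tt N88013 (iv2 F381480)) (tt N90377 (iv3 F389449)) (tt N51965 (iv4 F366555)) (tt N80383 F366554) (tt N28757 (iv6 D101454)) (tt N90383 D193323))
theorem Q54233 : ∀ i, i < 54233 → P i := stepQ 54232 Q54232 (allL N54232 (tt N90384 D193324) (tt N90385 D193325) (tt N36501 F352718) (tt N53970 (iv3 F365233)) (tt N28759 F156276) (tt N90386 D193326) (tt N28758 (iv6 D101456)) (tt N90284 (iv7 F389228)))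
theorem Q54234 : ∀ i, i < 54234 → P i := stepQ 54233 Q54233 (allL N54233 (tt N78349 F357265) (tt N28759 (iv0 D101457)) (tt N90229 (iv2 F422578)) (tt N90387 D193328) (tt N86161 (iv4 F375248)) (tt N77410 F357264) (tt N90388 D193329) (tt N90230 (iv7 F422576)))
theorem Q54235 : ∀ i, i < 54235 → P i := stepQ 54234 Q54234 (allL N54234 (tt N28759 (iv1 D101458)) (tt N78349 F352725) (tt N90230 (iv2 F422575)) (tt N90389 D193331) (tt N86160 (iv4 F375247)) (tt N90390 D193332) (tt N90391 D193333) (tt N90229 (iv7 F422579)))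
theorem Q54236 : ∀ i, i < 54236 → P i := stepQ 54235 Q54235 (allL N54235 (tt N28768 (iv1 F156283)) (tt N28760 (iv0 D101459)) (tt N28765 F184745) (tt N80037 (iv3 F364920)) (tt N47259 F331913) (tt N90392 D193334) (tt N78620 (iv6 F356149)) (tt N28766 F184746))
theorem Q54237 : ∀ i, i < 54237 → P i := stepQ 54236 Q54236 (allL N54236 (tt N71479 F365870) (tt N90393 D193335) (tt N28767 F156278) (tt N42536 F156279) (tt N90394 D193336) (tt N28760 (iv5 D101461)) (tt N80679 (iv6 F270426)) (tt N90395 D193337))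
theorem Q54238 : ∀ i, i < 54238 → P i := stepQ 54237 Q54237 (allL N54237 (tt N28766 (iv1 F156284)) (tt N28765 F156285) (tt N28768 F156280) (tt N36640 (iv3 F184580)) (tt N63634 (iv4 F188538)) (tt N90395 (iv5 F389502)) (tt N47494 F156282) (tt N28760 (iv7 D101462)))
theorem Q54239 : ∀ i, i < 54239 → P i := stepQ 54238 Q54238 (allL N54238 (tt N28809 F351755) (tt N63560 F351754) (tt N79497 (iv2 F334394)) (tt N64458 (iv3 F197266)) (tt N53080 F156288) (tt N90396 D193338) (tt N28762 (iv6 D101464)) (tt N79498 F351753))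
theorem Q54240 : ∀ i, i < 54240 → P i := stepQ 54239 Q54239 (allL N54239 (tt N52968 F308086) (tt N28763 (iv0 D101465)) (tt N43730 (iv2 F156292)) (tt N43419 F303520) (tt N28852 F308087) (tt N43417 F303521) (tt N28850 F308088) (tt N43728 F156293))
theorem Q54241 : ∀ i, i < 54241 → P i := stepQ 54240 Q54240 (allL N54240 (tt N80763 F308345) (tt N28828 F308346) (tt N79404 (iv2 F255691)) (tt N77586 (iv3 F243892)) (tt N52961 F308347) (tt N80797 F308348) (tt N28763 (iv6 D101466)) (tt N52955 F308349))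
theorem Q54242 : ∀ i, i < 54242 → P i := stepQ 54241 Q54241 (allL N54241 (tt N63634 (iv1 F188543)) (tt N28764 (iv0 D101467)) (tt N79495 (iv2 F334418)) (tt N43638 F306242) (tt N43658 (iv4 F308241)) (tt N79450 F343422) (tt N44839 F317253) (tt N43634 F306244))
theorem Q54243 : ∀ i, i < 54243 → P i := stepQ 54242 Q54242 (allL N54242 (tt N28764 (iv1 D101468)) (tt N63634 F188542) (tt N43634 F306404) (tt N66975 (iv3 F306760)) (tt N43653 F306405) (tt N90397 D193339) (tt N43632 F306406) (tt N79495 (iv7 F334420)))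
theorem Q54244 : ∀ i, i < 54244 → P i := stepQ 54243 Q54243 (allL N54243 (tt N90398 D193340) (tt N90399 D193341) (tt N81091 (iv2 F343417)) (tt N80756 (iv3 F271057)) (tt N90400 D193342) (tt N28764 (iv5 D101469)) (tt N80797 F343421) (tt N90401 D193343))
theorem Q54245 : ∀ i, i < 54245 → P i := stepQ 54244 Q54244 (allL N54244 (tt N43634 F306724) (tt N79495 (iv0 F334416)) (tt N63634 F188541) (tt N80647 (iv3 F270132)) (tt N28768 F156294) (tt N90401 (iv5 F389519)) (tt N80905 (iv6 F272218)) (tt N28764 (iv7 D101470)))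
theorem Q54246 : ∀ i, i < 54246 → P i := stepQ 54245 Q54245 (allL N54245 (tt N85988 (iv1 F374767)) (tt N90402 D193344) (tt N90392 (iv2 F389488)) (tt N35074 F304179) (tt N85981 F374733) (tt N28765 (iv5 D101474)) (tt N70316 (iv6 F365362)) (tt N35068 F304180))
theorem Q54247 : ∀ i, i < 54247 → P i := stepQ 54246 Q54246 (allL N54246 (tt N79484 (iv1 F346708)) (tt N64093 F346709) (tt N78620 F356145) (tt N34910 F303604) (tt N45675 F303605) (tt N62290 (iv5 F329507)) (tt N28765 (iv6 D101475)) (tt N34908 F303606))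
theorem Q54248 : ∀ i, i < 54248 → P i := stepQ 54247 Q54247 (allL N54247 (tt N82540 F366715) (tt N89158 F385389) (tt N34915 F304182) (tt N28766 (iv3 D101477)) (tt N77670 F304183) (tt N90403 D193345) (tt N34913 F304184) (tt N80037 (iv7 F364922)))
theorem Q54249 : ∀ i, i < 54249 → P i := stepQ 54248 Q54248 (allL N54248 (tt N46950 (iv1 F331862)) (tt N47261 F331855) (tt N35064 F302338) (tt N47302 F311071) (tt N28766 (iv4 D101478)) (tt N76147 (iv5 F345589)) (tt N35061 F302339) (tt N47259 F331916))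
theorem Q54250 : ∀ i, i < 54250 → P i := stepQ 54249 Q54249 (allL N54249 (tt N90402 (iv1 F389520)) (tt N85988 (iv0 F374766)) (tt N35068 F304602) (tt N90403 (iv3 F389526)) (tt N85980 (iv4 F374727)) (tt N28766 (iv5 D101479)) (tt N90404 D193346) (tt N90392 (iv7 F389489)))
theorem Q54251 : ∀ i, i < 54251 → P i := stepQ 54250 Q54250 (allL N54250 (tt N90395 (iv1 F389505)) (tt N28767 (iv0 D101481)) (tt N71479 (iv2 F345492)) (tt N38773 F328114) (tt N70635 F328115) (tt N79159 F304190) (tt N70933 F345491) (tt N90393 (iv7 F389494)))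
theorem Q54252 : ∀ i, i < 54252 → P i := stepQ 54251 Q54251 (allL N54251 (tt N28767 (iv1 D101482)) (tt N90395 F389504) (tt N90393 (iv2 F389497)) (tt N68282 F366669) (tt N90405 D193347) (tt N68038 (iv5 F366668)) (tt N90406 D193348) (tt N71479 F362200))
theorem Q54253 : ∀ i, i < 54253 → P i := stepQ 54252 Q54252 (allL N54252 (tt N55737 (iv1 F396025)) (tt N90407 D193350) (tt N90394 (iv2 F389499)) (tt N70808 F361248) (tt N28767 (iv4 D101483)) (tt N90408 D193351) (tt N80688 (iv6 F270495)) (tt N70798 (iv7 F361250)))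
theorem Q54254 : ∀ i, i < 54254 → P i := stepQ 54253 Q54253 (allL N54253 (tt N90393 (iv1 F389493)) (tt N71479 (iv0 F347384)) (tt N90395 (iv2 F389500)) (tt N28776 F156297) (tt N70798 F347387) (tt N28768 F156298) (tt N70797 (iv6 F347385)) (tt N28767 (iv7 D101484)))
theorem Q54255 : ∀ i, i < 54255 → P i := stepQ 54254 Q54254 (allL N54254 (tt N68403 (iv1 F307797)) (tt N68406 (iv0 F307617)) (tt N68405 (iv2 F307621)) (tt N80402 F267241) (tt N28769 (iv4 D101494)) (tt N90409 D193352) (tt N76447 F304752) (tt N43909 F304753))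
theorem Q54256 : ∀ i, i < 54256 → P i := stepQ 54255 Q54255 (allL N54255 (tt N90410 D193353) (tt N90411 D193354) (tt N89159 (iv2 F385391)) (tt N28770 F156307) (tt N73838 (iv4 F352522)) (tt N28769 (iv5 D101495)) (tt N73837 F352521) (tt N84091 (iv7 F368071)))
theorem Q54257 : ∀ i, i < 54257 → P i := stepQ 54256 Q54256 (allL N54256 (tt N43752 F342352) (tt N43751 F342353) (tt N43754 F342354) (tt N28771 F156308) (tt N76447 F342355) (tt N89078 (iv5 F385074)) (tt N28769 (iv6 D101496)) (tt N43748 F342356))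
theorem Q54258 : ∀ i, i < 54258 → P i := stepQ 54257 Q54257 (allL N54257 (tt N28772 (iv1 F156319)) (tt N28770 (iv0 D101504)) (tt N84089 F368060) (tt N77456 F352203) (tt N65130 (iv4 F352184)) (tt N49663 F156315) (tt N90412 D193355) (tt N84090 (iv7 F368063)))
theorem Q54259 : ∀ i, i < 54259 → P i := stepQ 54258 Q54258 (allL N54258 (tt N28770 (iv1 D101505)) (tt N28772 F156316) (tt N84090 F368066) (tt N90402 F389523) (tt N90413 D193356) (tt N89107 (iv5 F385182)) (tt N84029 (iv6 F368067)) (tt N84089 F368061))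
theorem Q54260 : ∀ i, i < 54260 → P i := stepQ 54259 Q54259 (allL N54259 (tt N88646 (iv1 F383694)) (tt N88648 (iv0 F383697)) (tt N60635 F352516) (tt N90414 D193357) (tt N28770 (iv4 D101506)) (tt N88683 (iv5 F383876)) (tt N60626 (iv6 F352515)) (tt N68633 F352514))
theorem Q54261 : ∀ i, i < 54261 → P i := stepQ 54260 Q54260 (allL N54260 (tt N88796 F384175) (tt N90415 D193358) (tt N60634 (iv2 F352518)) (tt N73837 (iv3 F352519)) (tt N60626 F352517) (tt N89079 (iv5 F385080)) (tt N28770 (iv6 D101507)) (tt N60644 (iv7 F352520)))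
theorem Q54262 : ∀ i, i < 54262 → P i := stepQ 54261 Q54261 (allL N54261 (tt N88648 F383699) (tt N88646 (iv0 F383693)) (tt N68633 F352513) (tt N90416 D193359) (tt N28772 (iv4 D101522)) (tt N88684 (iv5 F383883)) (tt N56496 (iv6 F352530)) (tt N60635 F352528))
theorem Q54263 : ∀ i, i < 54263 → P i := stepQ 54262 Q54262 (allL N54262 (tt N84263 F368733) (tt N52154 (iv0 F156325)) (tt N68631 (iv2 F352502)) (tt N38448 F336390) (tt N56496 F336391) (tt N43734 F308420) (tt N28772 (iv6 D101523)) (tt N68634 (iv7 F352500)))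
theorem Q54264 : ∀ i, i < 54264 → P i := stepQ 54263 Q54263 (allL N54263 (tt N89160 (iv1 F385397)) (tt N81367 (iv0 F349703)) (tt N73826 (iv2 F349693)) (tt N28773 (iv3 D101527)) (tt N90417 D193360) (tt N90418 D193361) (tt N71639 F349702) (tt N84092 (iv7 F368073)))
theorem Q54265 : ∀ i, i < 54265 → P i := stepQ 54264 Q54264 (allL N54264 (tt N54037 (iv1 F156330)) (tt N53937 (iv0 F338117)) (tt N54038 F156327) (tt N90418 (iv3 F389573)) (tt N78606 F249714) (tt N28773 (iv5 D101529)) (tt N54044 (iv6 F156329)) (tt N53271 F156328))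
theorem Q54266 : ∀ i, i < 54266 → P i := stepQ 54265 Q54265 (allL N54265 (tt N90419 D193362) (tt N90420 D193363) (tt N78404 F345250) (tt N90241 (iv3 F389061)) (tt N78401 (iv4 F345251)) (tt N54036 F156342) (tt N28774 (iv6 D101532)) (tt N71638 F345435))
theorem Q54267 : ∀ i, i < 54267 → P i := stepQ 54266 Q54266 (allL N54266 (tt N84093 (iv1 F368081)) (tt N28775 (iv0 D101533)) (tt N52972 (iv2 F272845)) (tt N65579 (iv3 F352190)) (tt N49510 F272844) (tt N65577 F352189) (tt N71641 (iv6 F367712)) (tt N52976 (iv7 F272846)))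
theorem Q54268 : ∀ i, i < 54268 → P i := stepQ 54267 Q54267 (allL N54267 (tt N28775 (iv1 D101534)) (tt N84093 F368080) (tt N52976 F272849) (tt N90421 D193364) (tt N49511 (iv4 F184768)) (tt N90422 D193365) (tt N90423 D193366) (tt N52972 F272848))
theorem Q54269 : ∀ i, i < 54269 → P i := stepQ 54268 Q54268 (allL N54268 (tt N90424 D193367) (tt N90425 D193368) (tt N90426 D193369) (tt N28775 (iv3 D101535)) (tt N70808 (iv4 F361247)) (tt N67442 (iv5 F361242)) (tt N67444 (iv6 F361244)) (tt N70802 F361245))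
theorem Q54270 : ∀ i, i < 54270 → P i := stepQ 54269 Q54269 (allL N54269 (tt N90427 D193370) (tt N90428 D193371) (tt N79742 (iv2 F361240)) (tt N67442 F361238) (tt N81363 F361239) (tt N28775 (iv5 D101536)) (tt N60660 (iv6 F361237)) (tt N88509 (iv7 F383325)))
theorem Q54271 : ∀ i, i < 54271 → P i := stepQ 54270 Q54270 (allL N54270 (tt N52976 (iv1 F184677)) (tt N52972 F184681) (tt N84093 (iv2 F368075)) (tt N70802 (iv3 F361246)) (tt N28776 F156343) (tt N88509 (iv5 F383324)) (tt N70801 F361251) (tt N28775 (iv7 D101537)))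
theorem Q54272 : ∀ i, i < 54272 → P i := stepQ 54271 Q54271 (allL N54271 (tt N67327 F332689) (tt N67330 F332690) (tt N38873 F332691) (tt N70797 F332692) (tt N70801 F332693) (tt N51153 F352557) (tt N28776 (iv6 D101538)) (tt N51152 (iv7 F294227)))
theorem Q54273 : ∀ i, i < 54273 → P i := stepQ 54272 Q54272 (allL N54272 (tt N28781 (iv1 F156345)) (tt N28777 (iv0 D101539)) (tt N28778 F190877) (tt N38878 (iv3 F317529)) (tt N42747 (iv4 F232357)) (tt N90429 D193372) (tt N82330 (iv6 F280323)) (tt N28779 F190878))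
theorem Q54274 : ∀ i, i < 54274 → P i := stepQ 54273 Q54273 (allL N54273 (tt N90430 D193373) (tt N90431 D193374) (tt N28780 F156346) (tt N84042 (iv3 F367895)) (tt N90432 D193375) (tt N28777 (iv5 D101540)) (tt N51156 (iv6 F295438)) (tt N48212 F156347))
theorem Q54275 : ∀ i, i < 54275 → P i := stepQ 54274 Q54274 (allL N54274 (tt N57449 F354641) (tt N77247 (iv0 F342011)) (tt N88848 (iv2 F384330)) (tt N28778 (iv3 D101542)) (tt N64529 (iv4 F197498)) (tt N89676 (iv5 F387187)) (tt N81866 (iv6 F363202)) (tt N65240 (iv7 F200481)))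
theorem Q54276 : ∀ i, i < 54276 → P i := stepQ 54275 Q54275 (allL N54275 (tt N76108 (iv1 F236436)) (tt N90433 D193376) (tt N90429 (iv2 F389617)) (tt N89676 (iv3 F387185)) (tt N89768 (iv4 F387490)) (tt N28778 (iv5 D101543)) (tt N90434 D193377) (tt N65241 (iv7 F200483)))
theorem Q54277 : ∀ i, i < 54277 → P i := stepQ 54276 Q54276 (allL N54276 (tt N42565 (iv1 F201291)) (tt N65392 (iv0 F201290)) (tt N82330 (iv2 F280322)) (tt N81866 F342033) (tt N65210 (iv4 F199605)) (tt N76088 (iv5 F236267)) (tt N28778 (iv6 D101544)) (tt N82329 F280313))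
theorem Q54278 : ∀ i, i < 54278 → P i := stepQ 54277 Q54277 (allL N54277 (tt N34780 F199581) (tt N48166 F199582) (tt N38893 F319764) (tt N28779 (iv3 D101546)) (tt N38880 F319765) (tt N90435 D193378) (tt N90247 F389089) (tt N38878 F319766))
theorem Q54279 : ∀ i, i < 54279 → P i := stepQ 54278 Q54278 (allL N54278 (tt N90433 (iv1 F389635)) (tt N76108 F236437) (tt N65241 (iv2 F200482)) (tt N90435 (iv3 F389643)) (tt N89766 (iv4 F387480)) (tt N28779 (iv5 D101548)) (tt N89707 (iv6 F387266)) (tt N90429 (iv7 F389619)))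
theorem Q54280 : ∀ i, i < 54280 → P i := stepQ 54279 Q54279 (allL N54279 (tt N48227 F242145) (tt N48230 (iv0 F279496)) (tt N65242 (iv2 F200484)) (tt N90247 (iv3 F389088)) (tt N65239 (iv4 F200479)) (tt N90436 D193379) (tt N28779 (iv6 D101549)) (tt N89195 (iv7 F385527)))
theorem Q54281 : ∀ i, i < 54281 → P i := stepQ 54280 Q54280 (allL N54280 (tt N48212 (iv1 F156354)) (tt N28780 (iv0 D101550)) (tt N90430 F389623) (tt N90437 D193380) (tt N90438 D193381) (tt N84144 (iv5 F368312)) (tt N90439 D193382) (tt N90431 (iv7 F389627)))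
theorem Q54282 : ∀ i, i < 54282 → P i := stepQ 54281 Q54281 (allL N54281 (tt N28780 (iv1 D101551)) (tt N48212 F156350) (tt N90431 F389630) (tt N70526 F366744) (tt N90440 D193383) (tt N70525 (iv5 F312670)) (tt N90441 D193384) (tt N90430 F389625))
theorem Q54283 : ∀ i, i < 54283 → P i := stepQ 54282 Q54282 (allL N54282 (tt N90442 D193385) (tt N90443 D193386) (tt N90432 (iv2 F389631)) (tt N30713 F343122) (tt N28780 (iv4 D101552)) (tt N30712 F343123) (tt N51159 (iv6 F295442)) (tt N57833 F343124))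
theorem Q54284 : ∀ i, i < 54284 → P i := stepQ 54283 Q54283 (allL N54283 (tt N90431 (iv1 F389626)) (tt N90430 F389622) (tt N48212 F156351) (tt N28788 F156352) (tt N57833 (iv4 F343144)) (tt N28781 F156353) (tt N38874 F347397) (tt N28780 (iv7 D101553)))
theorem Q54285 : ∀ i, i < 54285 → P i := stepQ 54284 Q54284 (allL N54284 (tt N28784 (iv1 F156417)) (tt N28782 (iv0 D101559)) (tt N49650 (iv2 F156368)) (tt N90444 D193387) (tt N90445 D193388) (tt N49402 F156361) (tt N90446 D193389) (tt N84069 (iv7 F367982)))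
theorem Q54286 : ∀ i, i < 54286 → P i := stepQ 54285 Q54285 (allL N54285 (tt N28782 (iv1 D101560)) (tt N28784 F156362) (tt N84069 F367985) (tt N90433 F389639) (tt N38820 F317327) (tt N49651 F156363) (tt N51186 (iv6 F295176)) (tt N49650 (iv7 F156366)))
theorem Q54287 : ∀ i, i < 54287 → P i := stepQ 54286 Q54286 (allL N54286 (tt N82275 (iv1 F287083)) (tt N85931 (iv0 F380072)) (tt N84070 (iv2 F367988)) (tt N90447 D193390) (tt N28782 (iv4 D101561)) (tt N70486 F352564) (tt N90448 D193391) (tt N84072 (iv7 F368010)))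
theorem Q54288 : ∀ i, i < 54288 → P i := stepQ 54287 Q54287 (allL N54287 (tt N51179 F366981) (tt N90449 D193392) (tt N84071 (iv2 F368006)) (tt N88453 (iv3 F383106)) (tt N90448 (iv4 F389680)) (tt N85586 F373145) (tt N28782 (iv6 D101562)) (tt N90450 D193393))
theorem Q54289 : ∀ i, i < 54289 → P i := stepQ 54288 Q54288 (allL N54288 (tt N28783 (iv1 D101564)) (tt N81358 F310375) (tt N43729 (iv2 F309559)) (tt N65392 F342026) (tt N79377 (iv4 F311736)) (tt N54034 F274810) (tt N35075 F309541) (tt N28856 F274803))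
theorem Q54290 : ∀ i, i < 54290 → P i := stepQ 54289 Q54289 (allL N54289 (tt N85931 (iv1 F380073)) (tt N82275 (iv0 F287073)) (tt N84072 (iv2 F368008)) (tt N70278 (iv3 F332712)) (tt N28784 (iv4 D101572)) (tt N70330 (iv5 F332709)) (tt N84867 (iv6 F370910)) (tt N84070 (iv7 F367989)))
theorem Q54291 : ∀ i, i < 54291 → P i := stepQ 54290 Q54290 (allL N54290 (tt N50562 F370914) (tt N50154 (iv0 F293825)) (tt N50559 F367121) (tt N76462 (iv3 F366585)) (tt N84867 F370913) (tt N90451 D193394) (tt N28784 (iv6 D101573)) (tt N50560 (iv7 F367123)))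
theorem Q54292 : ∀ i, i < 54292 → P i := stepQ 54291 Q54291 (allL N54291 (tt N49662 F274661) (tt N49660 (iv0 F156485)) (tt N84073 (iv2 F368014)) (tt N76465 (iv3 F366583)) (tt N90452 D193395) (tt N28785 (iv5 D101575)) (tt N90451 (iv6 F389696)) (tt N89202 (iv7 F385564)))
theorem Q54293 : ∀ i, i < 54293 → P i := stepQ 54292 Q54292 (allL N54292 (tt N84909 F371062) (tt N85600 F373183) (tt N84074 (iv2 F368019)) (tt N88456 (iv3 F383124)) (tt N86297 (iv4 F375737)) (tt N85486 F372785) (tt N28786 (iv6 D101580)) (tt N85598 F373181))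
theorem Q54294 : ∀ i, i < 54294 → P i := stepQ 54293 Q54293 (allL N54293 (tt N57439 F320823) (tt N57450 F320824) (tt N43127 F320825) (tt N28787 (iv3 D101582)) (tt N90453 D193396) (tt N43015 F320826) (tt N90454 D193397) (tt N43123 F320827))
theorem Q54295 : ∀ i, i < 54295 → P i := stepQ 54294 Q54294 (allL N54294 (tt N90455 D193398) (tt N85603 (iv0 F374456)) (tt N84075 (iv2 F368022)) (tt N90454 (iv3 F389704)) (tt N86298 (iv4 F375740)) (tt N53944 F156492) (tt N28787 (iv6 D101583)) (tt N90456 D193399))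
theorem Q54296 : ∀ i, i < 54296 → P i := stepQ 54295 Q54295 (allL N54295 (tt N28789 (iv1 D101590)) (tt N76106 (iv0 F303977)) (tt N45551 F156501) (tt N29791 (iv3 F156500)) (tt N29793 F156499) (tt N63583 (iv5 F188195)) (tt N90457 D193400) (tt N43177 F156498))
theorem Q54297 : ∀ i, i < 54297 → P i := stepQ 54296 Q54296 (allL N54296 (tt N33932 F304058) (tt N33950 F304059) (tt N33948 F304060) (tt N30507 F304061) (tt N45418 F156517) (tt N28790 (iv5 D101594)) (tt N73973 (iv6 F308968)) (tt N33947 F304062))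
theorem Q54298 : ∀ i, i < 54298 → P i := stepQ 54297 Q54297 (allL N54297 (tt N34287 F308146) (tt N28791 (iv0 D101596)) (tt N78572 (iv2 F343955)) (tt N63595 F343398) (tt N42550 F308147) (tt N75408 F346278) (tt N43972 F308148) (tt N43178 F308149))
theorem Q54299 : ∀ i, i < 54299 → P i := stepQ 54298 Q54298 (allL N54298 (tt N75915 F304863) (tt N81366 (iv0 F348529)) (tt N34291 (iv2 F306801)) (tt N81284 F334555) (tt N34275 F304864) (tt N28791 (iv5 D101598)) (tt N34582 F304865) (tt N81316 F339391))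
theorem Q54300 : ∀ i, i < 54300 → P i := stepQ 54299 Q54299 (allL N54299 (tt N33950 F304064) (tt N33932 F304065) (tt N33947 F304066) (tt N43422 (iv3 F304553)) (tt N45419 F156529) (tt N28792 (iv5 D101600)) (tt N45569 F297879) (tt N33948 F304067))
theorem Q54301 : ∀ i, i < 54301 → P i := stepQ 54300 Q54300 (allL N54300 (tt N28793 (iv1 D101603)) (tt N48049 F308155) (tt N78580 (iv2 F342049)) (tt N37541 F342041) (tt N80034 F308156) (tt N68544 (iv5 F342045)) (tt N90458 D193401) (tt N74525 F342042))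
theorem Q54302 : ∀ i, i < 54302 → P i := stepQ 54301 Q54301 (allL N54301 (tt N80004 F308158) (tt N80006 F308159) (tt N80859 (iv2 F271921)) (tt N79755 (iv3 F341921)) (tt N90459 D193402) (tt N28793 (iv5 D101604)) (tt N78545 (iv6 F249095)) (tt N90460 D193403))
theorem Q54303 : ∀ i, i < 54303 → P i := stepQ 54302 Q54302 (allL N54302 (tt N78580 (iv1 F342055)) (tt N74525 (iv0 F342057)) (tt N48049 F308160) (tt N79726 (iv3 F323683)) (tt N34289 F308161) (tt N90460 (iv5 F389730)) (tt N34287 F308162) (tt N28793 (iv7 D101605)))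
theorem Q54304 : ∀ i, i < 54304 → P i := stepQ 54303 Q54303 (allL N54303 (tt N28798 (iv1 F156535)) (tt N28794 (iv0 D101606)) (tt N28795 F344076) (tt N80769 (iv3 F344079)) (tt N34342 F344077) (tt N90461 D193404) (tt N90462 D193405) (tt N28796 F344078))
theorem Q54305 : ∀ i, i < 54305 → P i := stepQ 54304 Q54304 (allL N54304 (tt N28794 (iv1 D101607)) (tt N28798 F156532) (tt N28796 F344058) (tt N63604 F344059) (tt N34341 F344060) (tt N90463 D193406) (tt N43951 F344061) (tt N28795 F344062))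
theorem Q54306 : ∀ i, i < 54306 → P i := stepQ 54305 Q54305 (allL N54305 (tt N76740 F339372) (tt N46086 F339373) (tt N28797 F156533) (tt N63507 (iv3 F187754)) (tt N90464 D193407) (tt N28794 (iv5 D101608)) (tt N63504 (iv6 F187744)) (tt N76738 (iv7 F366368)))
theorem Q54307 : ∀ i, i < 54307 → P i := stepQ 54306 Q54306 (allL N54306 (tt N28796 (iv1 F156536)) (tt N28795 F156537) (tt N28798 F156534) (tt N63508 (iv3 F187757)) (tt N79549 F312017) (tt N76738 F312018) (tt N43181 F312019) (tt N28794 (iv7 D101609)))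
theorem Q54308 : ∀ i, i < 54308 → P i := stepQ 54307 Q54307 (allL N54307 (tt N81305 F359262) (tt N90457 F389718) (tt N75838 F344063) (tt N28795 (iv3 D101611)) (tt N42772 F344064) (tt N90465 D193408) (tt N68473 F344065) (tt N63604 F344066))
theorem Q54309 : ∀ i, i < 54309 → P i := stepQ 54308 Q54308 (allL N54308 (tt N34334 F344067) (tt N34343 F344068) (tt N34342 F344069) (tt N42820 F344070) (tt N28795 (iv4 D101612)) (tt N44588 F344071) (tt N35438 F344072) (tt N34341 F344073))
theorem Q54310 : ∀ i, i < 54310 → P i := stepQ 54309 Q54309 (allL N54309 (tt N79997 (iv1 F362743)) (tt N79998 (iv0 F362742)) (tt N90461 (iv2 F389734)) (tt N90465 (iv3 F389752)) (tt N90466 D193409) (tt N28795 (iv5 D101613)) (tt N90467 D193410) (tt N90463 (iv7 F389747)))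
theorem Q54311 : ∀ i, i < 54311 → P i := stepQ 54310 Q54310 (allL N54310 (tt N90458 F389724) (tt N90468 D193411) (tt N90462 (iv2 F389738)) (tt N68473 (iv3 F344084)) (tt N35438 F344074) (tt N90469 D193412) (tt N28795 (iv6 D101614)) (tt N43974 F344075))
theorem Q54312 : ∀ i, i < 54312 → P i := stepQ 54311 Q54311 (allL N54311 (tt N80768 F334217) (tt N45613 F334218) (tt N80770 F334219) (tt N28796 (iv3 D101616)) (tt N81262 F334220) (tt N55032 (iv5 F331981)) (tt N43977 F316743) (tt N80769 F334221))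
theorem Q54313 : ∀ i, i < 54313 → P i := stepQ 54312 Q54312 (allL N54312 (tt N79998 F316745) (tt N79997 F316746) (tt N90463 (iv2 F389745)) (tt N55032 (iv3 F358427)) (tt N90470 D193413) (tt N28796 (iv5 D101618)) (tt N55031 F358428) (tt N90461 (iv7 F389735)))
theorem Q54314 : ∀ i, i < 54314 → P i := stepQ 54313 Q54313 (allL N54313 (tt N76738 F321171) (tt N28797 (iv0 D101620)) (tt N76740 F321172) (tt N81276 F321173) (tt N90471 D193414) (tt N46087 F321174) (tt N90472 D193415) (tt N46086 F321175))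
theorem Q54315 : ∀ i, i < 54315 → P i := stepQ 54314 Q54314 (allL N54314 (tt N90473 D193416) (tt N90474 D193417) (tt N90464 (iv2 F389750)) (tt N90475 D193418) (tt N28797 (iv4 D101622)) (tt N90476 D193419) (tt N80643 (iv6 F270080)) (tt N90477 D193420))
theorem Q54316 : ∀ i, i < 54316 → P i := stepQ 54315 Q54315 (allL N54315 (tt N46086 F339374) (tt N76740 F339375) (tt N76738 F366369) (tt N28806 F156540) (tt N90477 (iv4 F389787)) (tt N28798 F156541) (tt N90478 D193421) (tt N28797 (iv7 D101623)))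
theorem Q54317 : ∀ i, i < 54317 → P i := stepQ 54316 Q54316 (allL N54316 (tt N28802 (iv1 F156562)) (tt N28799 (iv0 D101643)) (tt N81417 F275104) (tt N60059 F362016) (tt N90479 D193422) (tt N46380 F304825) (tt N60058 (iv6 F345513)) (tt N81418 (iv7 F275107)))
theorem Q54318 : ∀ i, i < 54318 → P i := stepQ 54317 Q54317 (allL N54317 (tt N28799 (iv1 D101644)) (tt N28802 F156559) (tt N81418 F275109) (tt N79998 F346472) (tt N90480 D193423) (tt N46381 F346473) (tt N81489 F346474) (tt N81417 F275105))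
theorem Q54319 : ∀ i, i < 54319 → P i := stepQ 54318 Q54318 (allL N54318 (tt N90481 D193424) (tt N90482 D193425) (tt N81419 (iv2 F275110)) (tt N62329 F353386) (tt N28799 (iv4 D101645)) (tt N90483 D193426) (tt N71400 (iv6 F353387)) (tt N81421 (iv7 F275139)))
theorem Q54320 : ∀ i, i < 54320 → P i := stepQ 54319 Q54319 (allL N54319 (tt N39458 F322561) (tt N39454 F322562) (tt N81420 (iv2 F275112)) (tt N40657 F312971) (tt N71400 F322563) (tt N40656 F312972) (tt N28799 (iv6 D101646)) (tt N72746 F322564))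
theorem Q54321 : ∀ i, i < 54321 → P i := stepQ 54320 Q54320 (allL N54320 (tt N28800 (iv1 D101649)) (tt N78609 F249725) (tt N80323 (iv2 F307527)) (tt N90468 F389767) (tt N28820 F156563) (tt N68257 (iv5 F331833)) (tt N45554 F310669) (tt N78582 F249608))
theorem Q54322 : ∀ i, i < 54322 → P i := stepQ 54321 Q54321 (allL N54321 (tt N47313 F312796) (tt N47311 F312797) (tt N45622 F312798) (tt N28802 F156565) (tt N90484 D193427) (tt N28801 (iv5 D101656)) (tt N77684 F337554) (tt N73192 (iv7 F331848)))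
theorem Q54323 : ∀ i, i < 54323 → P i := stepQ 54322 Q54322 (allL N54322 (tt N90482 (iv1 F389804)) (tt N90481 F389803) (tt N81421 (iv2 F275138)) (tt N90485 D193428) (tt N28802 (iv4 D101661)) (tt N90486 D193429) (tt N90487 D193430) (tt N81419 (iv7 F275111)))
theorem Q54324 : ∀ i, i < 54324 → P i := stepQ 54323 Q54323 (allL N54323 (tt N67111 (iv1 F339199)) (tt N67108 (iv0 F339207)) (tt N42883 F326896) (tt N77684 F326897) (tt N90487 (iv4 F389813)) (tt N77684 F326898) (tt N28802 (iv6 D101662)) (tt N75981 F326899))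
theorem Q54325 : ∀ i, i < 54325 → P i := stepQ 54324 Q54324 (allL N54324 (tt N90488 D193431) (tt N88466 (iv0 F383167)) (tt N81422 F286995) (tt N72065 (iv3 F361965)) (tt N28803 (iv4 D101669)) (tt N90489 D193432) (tt N72062 F346596) (tt N80301 (iv7 F304831)))
theorem Q54326 : ∀ i, i < 54326 → P i := stepQ 54325 Q54325 (allL N54325 (tt N81808 F341715) (tt N81799 (iv0 F346575)) (tt N81423 F286996) (tt N45754 F333802) (tt N72062 (iv4 F346593)) (tt N47778 (iv5 F333804)) (tt N28803 (iv6 D101671)) (tt N79517 F333803))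
theorem Q54327 : ∀ i, i < 54327 → P i := stepQ 54326 Q54326 (allL N54326 (tt N88466 (iv1 F383168)) (tt N90488 F389815) (tt N80301 (iv2 F304830)) (tt N90490 D193433) (tt N28804 (iv4 D101674)) (tt N90491 D193434) (tt N80829 F366841) (tt N81422 F286955))
theorem Q54328 : ∀ i, i < 54328 → P i := stepQ 54327 Q54327 (allL N54327 (tt N81414 (iv1 F275070)) (tt N28805 (iv0 D101677)) (tt N81424 (iv2 F357418)) (tt N53380 (iv3 F357419)) (tt N80706 F273769) (tt N72427 F357395) (tt N53375 F357394) (tt N81425 (iv7 F357423)))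
theorem Q54329 : ∀ i, i < 54329 → P i := stepQ 54328 Q54328 (allL N54328 (tt N28805 (iv1 D101678)) (tt N81414 F275071) (tt N81425 F357422) (tt N58607 F354545) (tt N77607 (iv4 F287016)) (tt N72426 (iv5 F357630)) (tt N90492 D193435) (tt N81424 F357421))
theorem Q54330 : ∀ i, i < 54330 → P i := stepQ 54329 Q54329 (allL N54329 (tt N90493 D193436) (tt N90494 D193437) (tt N90495 D193438) (tt N28805 (iv3 D101679)) (tt N90475 (iv4 F389786)) (tt N90496 D193439) (tt N54453 (iv6 F328322)) (tt N90497 D193440))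
theorem Q54331 : ∀ i, i < 54331 → P i := stepQ 54330 Q54330 (allL N54330 (tt N90498 D193441) (tt N90499 D193442) (tt N53920 (iv2 F335334)) (tt N90496 (iv3 F389826)) (tt N89236 (iv4 F385715)) (tt N28805 (iv5 D101680)) (tt N53881 (iv6 F357399)) (tt N89235 F385712))
theorem Q54332 : ∀ i, i < 54332 → P i := stepQ 54331 Q54331 (allL N54331 (tt N81425 (iv1 F275149)) (tt N81424 F275148) (tt N81414 (iv2 F275067)) (tt N90497 (iv3 F389828)) (tt N28806 F156579) (tt N89235 (iv5 F385711)) (tt N90500 D193443) (tt N28805 (iv7 D101681)))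
theorem Q54333 : ∀ i, i < 54333 → P i := stepQ 54332 Q54332 (allL N54332 (tt N81473 (iv1 F275353)) (tt N81472 F275352) (tt N81413 (iv2 F275064)) (tt N90478 (iv3 F389789)) (tt N90500 (iv4 F389842)) (tt N80887 (iv5 F272043)) (tt N28806 (iv6 D101682)) (tt N80646 (iv7 F270131)))
theorem Q54334 : ∀ i, i < 54334 → P i := stepQ 54333 Q54333 (allL N54333 (tt N72137 (iv1 F356077)) (tt N28834 F347430) (tt N81823 F339194) (tt N45350 F324286) (tt N81818 (iv4 F342326)) (tt N28807 (iv5 D101715)) (tt N39467 F362159) (tt N47268 F324287))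
theorem Q54335 : ∀ i, i < 54335 → P i := stepQ 54334 Q54334 (allL N54334 (tt N84050 F367929) (tt N35160 F355390) (tt N28811 F156618) (tt N48230 F324280) (tt N82040 F324281) (tt N90501 D193444) (tt N28808 (iv6 D101726)) (tt N90502 D193445))
theorem Q54336 : ∀ i, i < 54336 → P i := stepQ 54335 Q54335 (allL N54335 (tt N63560 F351747) (tt N28809 (iv0 D101727)) (tt N79498 F351752) (tt N43813 F351748) (tt N43823 F351749) (tt N90503 D193446) (tt N43811 F351750) (tt N79497 (iv7 F351751)))
theorem Q54337 : ∀ i, i < 54337 → P i := stepQ 54336 Q54336 (allL N54336 (tt N90504 D193447) (tt N60388 F355867) (tt N45895 F334388) (tt N80773 F345768) (tt N60637 (iv4 F355858)) (tt N28809 (iv5 D101730)) (tt N45892 F334390) (tt N46859 F334391))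
theorem Q54338 : ∀ i, i < 54338 → P i := stepQ 54337 Q54337 (allL N54337 (tt N90505 D193448) (tt N70504 F357879) (tt N82040 (iv2 F355378)) (tt N80774 F355377) (tt N28811 F156620) (tt N90506 D193449) (tt N28809 (iv6 D101731)) (tt N64094 (iv7 F355379)))
theorem Q54339 : ∀ i, i < 54339 → P i := stepQ 54338 Q54338 (allL N54338 (tt N71025 (iv1 F354502)) (tt N28810 (iv0 D101733)) (tt N71167 F354491) (tt N79142 F354492) (tt N47797 F354493) (tt N79141 F354494) (tt N61911 F354495) (tt N70966 F354496))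
theorem Q54340 : ∀ i, i < 54340 → P i := stepQ 54339 Q54339 (allL N54339 (tt N79597 (iv1 F354484)) (tt N71740 (iv0 F357887)) (tt N72131 (iv2 F357888)) (tt N77416 F357885) (tt N28810 (iv4 D101735)) (tt N80375 F357891) (tt N77413 (iv6 F357884)) (tt N89203 (iv7 F385569)))
theorem Q54341 : ∀ i, i < 54341 → P i := stepQ 54340 Q54340 (allL N54340 (tt N71787 (iv1 F409613)) (tt N90507 D193451) (tt N72134 (iv2 F365730)) (tt N28819 F156622) (tt N77413 F357886) (tt N90508 D193452) (tt N28810 (iv6 D101736)) (tt N90509 D193453))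
theorem Q54342 : ∀ i, i < 54342 → P i := stepQ 54341 Q54341 (allL N54341 (tt N90502 (iv1 F389858)) (tt N28811 (iv0 D101738)) (tt N84050 (iv2 F367925)) (tt N35165 F355380) (tt N47010 F355381) (tt N80508 F355382) (tt N46681 F355383) (tt N35160 F355384))
theorem Q54343 : ∀ i, i < 54343 → P i := stepQ 54342 Q54342 (allL N54342 (tt N28811 (iv1 D101739)) (tt N90502 F389857) (tt N35160 F355372) (tt N37471 F355373) (tt N37167 F355374) (tt N90510 D193454) (tt N35157 F355375) (tt N84050 (iv7 F367928)))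
theorem Q54344 : ∀ i, i < 54344 → P i := stepQ 54343 Q54343 (allL N54343 (tt N52804 F355376) (tt N90511 D193455) (tt N90501 (iv2 F389847)) (tt N28821 F156625) (tt N90512 D193456) (tt N28811 (iv5 D101740)) (tt N90508 (iv6 F389883)) (tt N84166 (iv7 F368402)))
theorem Q54345 : ∀ i, i < 54345 → P i := stepQ 54344 Q54344 (allL N54344 (tt N35160 F355389) (tt N84050 F367930) (tt N90502 (iv2 F389852)) (tt N28822 F156626) (tt N64094 F355387) (tt N84166 (iv5 F368401)) (tt N64093 (iv6 F355388)) (tt N28811 (iv7 D101741)))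
theorem Q54346 : ∀ i, i < 54346 → P i := stepQ 54345 Q54345 (allL N54345 (tt N77607 (iv1 F287015)) (tt N80706 F270637) (tt N80708 (iv2 F270635)) (tt N79409 F362749) (tt N90513 D193457) (tt N28812 (iv5 D101746)) (tt N90514 D193458) (tt N52781 (iv7 F156786)))
theorem Q54347 : ∀ i, i < 54347 → P i := stepQ 54346 Q54346 (allL N54346 (tt N77580 F350945) (tt N28813 (iv0 D101753)) (tt N77598 (iv2 F360164)) (tt N52955 F350940) (tt N79337 F345802) (tt N81092 (iv5 F350942)) (tt N52953 (iv6 F350943)) (tt N77586 (iv7 F350944)))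
theorem Q54348 : ∀ i, i < 54348 → P i := stepQ 54347 Q54347 (allL N54347 (tt N89431 (iv1 F386472)) (tt N90515 D193459) (tt N70928 (iv2 F351796)) (tt N28814 F156630) (tt N90516 D193460) (tt N28813 (iv5 D101756)) (tt N70927 F351795) (tt N89204 (iv7 F385575)))
theorem Q54349 : ∀ i, i < 54349 → P i := stepQ 54348 Q54348 (allL N54348 (tt N90517 D193461) (tt N69290 (iv0 F366647)) (tt N77599 F344099) (tt N28815 F156631) (tt N80774 (iv4 F346980)) (tt N90518 D193462) (tt N28813 (iv6 D101757)) (tt N81525 F360167))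
theorem Q54350 : ∀ i, i < 54350 → P i := stepQ 54349 Q54349 (allL N54349 (tt N28827 (iv1 F156636)) (tt N28814 (iv0 D101759)) (tt N71610 F337640) (tt N68527 (iv3 F342406)) (tt N90519 D193463) (tt N47101 F156788) (tt N90520 D193464) (tt N71611 (iv7 F337647)))
theorem Q54351 : ∀ i, i < 54351 → P i := stepQ 54350 Q54350 (allL N54350 (tt N28814 (iv1 D101760)) (tt N28827 F156633) (tt N71611 (iv2 F337648)) (tt N43760 F337644) (tt N90521 D193465) (tt N84139 (iv5 F368279)) (tt N81544 F337645) (tt N71610 F337646))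
theorem Q54352 : ∀ i, i < 54352 → P i := stepQ 54351 Q54351 (allL N54351 (tt N90479 (iv1 F389794)) (tt N90480 (iv0 F389799)) (tt N39140 F325767) (tt N39550 F325768) (tt N28814 (iv4 D101761)) (tt N90498 (iv5 F389829)) (tt N39138 F325769) (tt N89205 (iv7 F385580)))
theorem Q54353 : ∀ i, i < 54353 → P i := stepQ 54352 Q54352 (allL N54352 (tt N28815 (iv1 D101765)) (tt N80720 F272685) (tt N80722 (iv2 F272686)) (tt N90517 (iv3 F389924)) (tt N53131 F272736) (tt N90522 D193466) (tt N80718 (iv6 F272688)) (tt N53127 (iv7 F272711)))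
theorem Q54354 : ∀ i, i < 54354 → P i := stepQ 54353 Q54353 (allL N54353 (tt N47095 F156787) (tt N80695 F270520) (tt N66485 (iv2 F344102)) (tt N90518 (iv3 F389929)) (tt N78612 (iv4 F272667)) (tt N28815 (iv5 D101766)) (tt N60783 F339463) (tt N80694 (iv7 F271104)))
theorem Q54355 : ∀ i, i < 54355 → P i := stepQ 54354 Q54354 (allL N54354 (tt N80722 (iv1 F272752)) (tt N53127 F272750) (tt N80720 F272679) (tt N81525 (iv3 F344112)) (tt N28822 F156637) (tt N80694 F271103) (tt N80763 F271110) (tt N28815 (iv7 D101767)))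
theorem Q54356 : ∀ i, i < 54356 → P i := stepQ 54355 Q54355 (allL N54355 (tt N72403 F339120) (tt N72405 F339125) (tt N72358 F361935) (tt N28816 (iv3 D101769)) (tt N48509 F339121) (tt N54041 F156640) (tt N48508 F339122) (tt N71838 F339115))
theorem Q54357 : ∀ i, i < 54357 → P i := stepQ 54356 Q54356 (allL N54356 (tt N88630 (iv1 F383650)) (tt N88627 (iv0 F383644)) (tt N89196 (iv2 F385531)) (tt N72318 F346676) (tt N28816 (iv4 D101770)) (tt N90523 D193467) (tt N71202 (iv6 F346675)) (tt N71840 (iv7 F359926)))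
theorem Q54358 : ∀ i, i < 54358 → P i := stepQ 54357 Q54357 (allL N54357 (tt N88627 (iv1 F383645)) (tt N88630 (iv0 F383649)) (tt N71840 F365320) (tt N60313 (iv3 F365321)) (tt N28817 (iv4 D101773)) (tt N60309 F365323) (tt N70956 (iv6 F365322)) (tt N89196 (iv7 F385532)))
theorem Q54359 : ∀ i, i < 54359 → P i := stepQ 54358 Q54358 (allL N54358 (tt N28829 (iv1 F156646)) (tt N28818 (iv0 D101774)) (tt N89197 F385537) (tt N73635 (iv3 F361828)) (tt N89047 (iv4 F384956)) (tt N73628 F361827) (tt N56942 (iv6 F361826)) (tt N71818 F361825))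
theorem Q54360 : ∀ i, i < 54360 → P i := stepQ 54359 Q54359 (allL N54359 (tt N28818 (iv1 D101775)) (tt N28829 F156642) (tt N71818 (iv2 F361824)) (tt N90524 D193468) (tt N54791 F275127) (tt N90525 D193469) (tt N54790 (iv6 F275129)) (tt N89197 (iv7 F385539)))
theorem Q54361 : ∀ i, i < 54361 → P i := stepQ 54360 Q54360 (allL N54360 (tt N90526 D193470) (tt N79579 (iv0 F357910)) (tt N90527 D193471) (tt N28818 (iv3 D101776)) (tt N77416 (iv4 F357909)) (tt N90528 D193472) (tt N77415 F357908) (tt N89208 (iv7 F385601)))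
theorem Q54362 : ∀ i, i < 54362 → P i := stepQ 54361 Q54361 (allL N54361 (tt N90529 D193473) (tt N90530 D193474) (tt N89198 (iv2 F385543)) (tt N90528 (iv3 F389973)) (tt N90499 F389840) (tt N28818 (iv5 D101777)) (tt N90531 D193475) (tt N89209 (iv7 F385604)))
theorem Q54363 : ∀ i, i < 54363 → P i := stepQ 54362 Q54362 (allL N54362 (tt N58445 (iv1 F365780)) (tt N90532 D193476) (tt N88046 (iv2 F381567)) (tt N77415 (iv3 F357907)) (tt N28819 F156643) (tt N88035 (iv5 F381543)) (tt N28818 (iv6 D101778)) (tt N90533 D193477))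
theorem Q54364 : ∀ i, i < 54364 → P i := stepQ 54363 Q54363 (allL N54363 (tt N89201 (iv1 F385561)) (tt N28819 (iv0 D101780)) (tt N89199 F385549) (tt N73848 F360852) (tt N90534 D193478) (tt N54542 F157086) (tt N28885 F156982) (tt N89200 (iv7 F385553)))
theorem Q54365 : ∀ i, i < 54365 → P i := stepQ 54364 Q54364 (allL N54364 (tt N28819 (iv1 D101781)) (tt N89201 F385560) (tt N89200 F385555) (tt N90256 (iv3 F389131)) (tt N90535 D193479) (tt N54541 (iv5 F157085)) (tt N71208 (iv6 F368834)) (tt N89199 F385550))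
theorem Q54366 : ∀ i, i < 54366 → P i := stepQ 54365 Q54365 (allL N54365 (tt N89249 F385785) (tt N84302 (iv0 F368850)) (tt N84170 (iv2 F368408)) (tt N90508 (iv3 F389882)) (tt N82707 F368851) (tt N28819 (iv5 D101782)) (tt N28821 F156647) (tt N82835 (iv7 F368853)))
theorem Q54367 : ∀ i, i < 54367 → P i := stepQ 54366 Q54366 (allL N54366 (tt N89200 (iv1 F385552)) (tt N89199 (iv0 F385551)) (tt N89201 (iv2 F385556)) (tt N90509 (iv3 F389886)) (tt N90533 (iv4 F389990)) (tt N82835 F368854) (tt N89213 (iv6 F385624)) (tt N28819 (iv7 D101783)))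
theorem Q54368 : ∀ i, i < 54368 → P i := stepQ 54367 Q54367 (allL N54367 (tt N49660 F156905) (tt N49662 (iv0 F274864)) (tt N89202 (iv2 F385562)) (tt N76870 (iv3 F308303)) (tt N90536 D193480) (tt N28820 (iv5 D101785)) (tt N90124 (iv6 F388609)) (tt N84073 (iv7 F368016)))
theorem Q54369 : ∀ i, i < 54369 → P i := stepQ 54368 Q54368 (allL N54368 (tt N52894 F272668) (tt N89418 F386423) (tt N84169 (iv2 F368406)) (tt N82709 F368855) (tt N28821 (iv4 D101786)) (tt N90537 D193481) (tt N82707 (iv6 F368852)) (tt N84167 (iv7 F368404)))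
theorem Q54370 : ∀ i, i < 54370 → P i := stepQ 54369 Q54369 (allL N54369 (tt N28838 F321054) (tt N71027 F327132) (tt N39483 F327133) (tt N90243 (iv3 F389071)) (tt N57203 F327134) (tt N28823 (iv5 D101799)) (tt N39128 F327135) (tt N72136 F327136))
theorem Q54371 : ∀ i, i < 54371 → P i := stepQ 54370 Q54370 (allL N54370 (tt N90538 D193482) (tt N77167 F321066) (tt N28826 F156770) (tt N79484 (iv3 F334409)) (tt N33854 F321067) (tt N90539 D193483) (tt N28824 (iv6 D101803)) (tt N90540 D193484))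
theorem Q54372 : ∀ i, i < 54372 → P i := stepQ 54371 Q54371 (allL N54371 (tt N68528 F321071) (tt N29815 F321072) (tt N33854 F321073) (tt N77603 F321074) (tt N28826 F156772) (tt N75803 F321075) (tt N28825 (iv6 D101808)) (tt N48228 F321076))
theorem Q54373 : ∀ i, i < 54373 → P i := stepQ 54372 Q54372 (allL N54372 (tt N90540 (iv1 F390019)) (tt N28826 (iv0 D101813)) (tt N90538 F390003) (tt N81864 F351781) (tt N77170 (iv4 F351782)) (tt N76069 (iv5 F351783)) (tt N75590 (iv6 F351784)) (tt N77167 F351785))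
theorem Q54374 : ∀ i, i < 54374 → P i := stepQ 54373 Q54373 (allL N54373 (tt N28826 (iv1 D101814)) (tt N90540 F390018) (tt N77167 F350958) (tt N90233 (iv3 F389015)) (tt N52369 F350959) (tt N76070 F350960) (tt N42535 F350961) (tt N90538 (iv7 F390005)))
theorem Q54375 : ∀ i, i < 54375 → P i := stepQ 54374 Q54374 (allL N54374 (tt N75830 (iv1 F350965)) (tt N75828 F350966) (tt N90539 (iv2 F390007)) (tt N28832 F156774) (tt N90541 D193485) (tt N28826 (iv5 D101815)) (tt N72142 (iv6 F357624)) (tt N90542 D193486))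
theorem Q54376 : ∀ i, i < 54376 → P i := stepQ 54375 Q54375 (allL N54375 (tt N77167 F321080) (tt N90538 F390006) (tt N90540 (iv2 F390014)) (tt N28833 F156775) (tt N48228 F321081) (tt N90542 (iv5 F390023)) (tt N48227 F321082) (tt N28826 (iv7 D101816)))
theorem Q54377 : ∀ i, i < 54377 → P i := stepQ 54376 Q54376 (allL N54376 (tt N90480 (iv1 F389800)) (tt N90479 (iv0 F389793)) (tt N89205 (iv2 F385579)) (tt N39145 F323244) (tt N28827 (iv4 D101822)) (tt N90499 (iv5 F389837)) (tt N39469 F323245) (tt N39140 F323246))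
theorem Q54378 : ∀ i, i < 54378 → P i := stepQ 54377 Q54377 (allL N54377 (tt N90195 F388848) (tt N81126 (iv0 F273428)) (tt N89206 (iv2 F385585)) (tt N39381 F323247) (tt N39469 F323248) (tt N77775 (iv5 F365294)) (tt N28827 (iv6 D101823)) (tt N39377 F323249))
theorem Q54379 : ∀ i, i < 54379 → P i := stepQ 54378 Q54378 (allL N54378 (tt N47202 (iv1 F273360)) (tt N47199 F156778) (tt N89207 (iv2 F385592)) (tt N77604 (iv3 F365296)) (tt N90543 D193487) (tt N28828 (iv5 D101826)) (tt N77775 F365295) (tt N89432 (iv7 F386476)))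
theorem Q54380 : ∀ i, i < 54380 → P i := stepQ 54379 Q54379 (allL N54379 (tt N52955 F184679) (tt N79404 (iv0 F310443)) (tt N80763 F271112) (tt N63749 F343496) (tt N28833 F156790) (tt N89432 (iv5 F386477)) (tt N80720 (iv6 F272682)) (tt N28828 (iv7 D101827)))
theorem Q54381 : ∀ i, i < 54381 → P i := stepQ 54380 Q54380 (allL N54380 (tt N90530 (iv1 F389980)) (tt N90529 F389976) (tt N89209 (iv2 F385603)) (tt N72139 F365681) (tt N90498 (iv4 F389830)) (tt N28829 (iv5 D101829)) (tt N90544 D193488) (tt N89198 (iv7 F385545)))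
theorem Q54382 : ∀ i, i < 54382 → P i := stepQ 54381 Q54381 (allL N54381 (tt N90545 D193489) (tt N54698 (iv0 F389985)) (tt N89210 (iv2 F385607)) (tt N72140 F365682) (tt N28830 F156791) (tt N90546 D193490) (tt N28829 (iv6 D101830)) (tt N90547 D193491))
theorem Q54383 : ∀ i, i < 54383 → P i := stepQ 54382 Q54382 (allL N54382 (tt N89213 (iv1 F385626)) (tt N28830 (iv0 D101831)) (tt N89211 F385612) (tt N90263 F389146) (tt N90548 D193492) (tt N71652 F346652) (tt N86346 (iv6 F375878)) (tt N28880 F346653))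
theorem Q54384 : ∀ i, i < 54384 → P i := stepQ 54383 Q54383 (allL N54383 (tt N90549 D193493) (tt N90550 D193494) (tt N89212 (iv2 F385615)) (tt N72142 F357625) (tt N90551 D193495) (tt N28830 (iv5 D101832)) (tt N28832 F156792) (tt N90552 D193496))
theorem Q54385 : ∀ i, i < 54385 → P i := stepQ 54384 Q54384 (allL N54384 (tt N28880 (iv1 F156793)) (tt N89211 F385614) (tt N89213 (iv2 F385622)) (tt N71860 (iv3 F365729)) (tt N90547 (iv4 F390034)) (tt N90552 (iv5 F390066)) (tt N89201 (iv6 F385559)) (tt N28830 (iv7 D101833)))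
theorem Q54386 : ∀ i, i < 54386 → P i := stepQ 54385 Q54385 (allL N54385 (tt N89008 (iv1 F384795)) (tt N89001 (iv0 F384768)) (tt N89214 (iv2 F385627)) (tt N90553 D193497) (tt N28832 (iv4 D101836)) (tt N90554 D193498) (tt N90551 (iv6 F390063)) (tt N89439 (iv7 F386521)))
theorem Q54387 : ∀ i, i < 54387 → P i := stepQ 54386 Q54386 (allL N54386 (tt N53240 (iv1 F156796)) (tt N53243 (iv0 F156797)) (tt N53942 F156794) (tt N90542 (iv3 F390022)) (tt N89439 (iv4 F386522)) (tt N28833 F156795) (tt N53657 F156798) (tt N28832 (iv7 D101837)))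
theorem Q54388 : ∀ i, i < 54388 → P i := stepQ 54387 Q54387 (allL N54387 (tt N81823 (iv1 F356080)) (tt N47268 F287096) (tt N28834 (iv2 D101840)) (tt N71027 (iv3 F326317)) (tt N90555 D193499) (tt N90556 D193500) (tt N90557 D193501) (tt N72137 (iv7 F356078)))
theorem Q54389 : ∀ i, i < 54389 → P i := stepQ 54388 Q54388 (allL N54388 (tt N90558 D193502) (tt N80377 (iv0 F363867)) (tt N90555 (iv2 F390083)) (tt N90559 D193503) (tt N28834 (iv4 D101841)) (tt N90560 D193504) (tt N90561 D193505) (tt N89218 (iv7 F385648)))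
theorem Q54390 : ∀ i, i < 54390 → P i := stepQ 54389 Q54389 (allL N54389 (tt N45346 F305528) (tt N69329 (iv0 F333414)) (tt N90556 (iv2 F390087)) (tt N28836 F156800) (tt N90562 D193506) (tt N28834 (iv5 D101842)) (tt N63971 (iv6 F362434)) (tt N49641 F156801))
theorem Q54391 : ∀ i, i < 54391 → P i := stepQ 54390 Q54390 (allL N54390 (tt N90563 D193507) (tt N39456 F345508) (tt N90557 (iv2 F390092)) (tt N28837 F156802) (tt N90561 (iv4 F390109)) (tt N86328 (iv5 F375844)) (tt N28834 (iv6 D101843)) (tt N90564 D193508))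
theorem Q54392 : ∀ i, i < 54392 → P i := stepQ 54391 Q54391 (allL N54391 (tt N28839 (iv1 F156804)) (tt N28835 (iv0 D101844)) (tt N89215 F385634) (tt N90565 D193509) (tt N52948 F156803) (tt N90529 (iv5 F389975)) (tt N87058 (iv6 F378226)) (tt N52947 (iv7 F156805)))
theorem Q54393 : ∀ i, i < 54393 → P i := stepQ 54392 Q54392 (allL N54392 (tt N28835 (iv1 D101845)) (tt N28839 F156806) (tt N52947 (iv2 F156807)) (tt N90566 D193510) (tt N49458 (iv4 F156808)) (tt N90530 (iv5 F389982)) (tt N28903 F156809) (tt N89215 (iv7 F385636)))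
theorem Q54394 : ∀ i, i < 54394 → P i := stepQ 54393 Q54393 (allL N54393 (tt N86966 (iv1 F390103)) (tt N81831 (iv0 F390102)) (tt N90567 D193511) (tt N28835 (iv3 D101846)) (tt N90559 (iv4 F390101)) (tt N90568 D193512) (tt N90569 D193513) (tt N89220 (iv7 F385654)))
theorem Q54395 : ∀ i, i < 54395 → P i := stepQ 54394 Q54394 (allL N54394 (tt N90570 D193514) (tt N90571 D193515) (tt N89216 (iv2 F385639)) (tt N90568 (iv3 F390131)) (tt N72426 F357631) (tt N28835 (iv5 D101847)) (tt N90572 D193516) (tt N89221 (iv7 F385657)))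
theorem Q54396 : ∀ i, i < 54396 → P i := stepQ 54395 Q54395 (allL N54395 (tt N90573 D193517) (tt N90574 D193518) (tt N74068 (iv2 F357417)) (tt N90569 (iv3 F390132)) (tt N28837 F156810) (tt N90575 D193519) (tt N28835 (iv6 D101848)) (tt N90576 D193520))
theorem Q54397 : ∀ i, i < 54397 → P i := stepQ 54396 Q54396 (allL N54396 (tt N80969 (iv1 F272861)) (tt N53752 F272863) (tt N80968 F272799) (tt N81081 F363231) (tt N28836 (iv4 D101849)) (tt N80706 (iv5 F270613)) (tt N81079 F273363) (tt N49642 F156811))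
theorem Q54398 : ∀ i, i < 54398 → P i := stepQ 54397 Q54397 (allL N54397 (tt N86326 (iv1 F375840)) (tt N28837 (iv0 D101850)) (tt N89217 F385645) (tt N90577 D193521) (tt N90578 D193522) (tt N90579 D193523) (tt N28917 F368864) (tt N39548 F368865))
theorem Q54399 : ∀ i, i < 54399 → P i := stepQ 54398 Q54398 (allL N54398 (tt N28837 (iv1 D101851)) (tt N86326 (iv0 F375838)) (tt N39548 F365270) (tt N90273 (iv3 F389178)) (tt N90580 D193524) (tt N86298 (iv5 F375741)) (tt N39121 F365271) (tt N89217 (iv7 F385647)))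
theorem Q54400 : ∀ i, i < 54400 → P i := stepQ 54399 Q54399 (allL N54399 (tt N39548 F352560) (tt N89217 F385646) (tt N86326 (iv2 F375835)) (tt N90564 (iv3 F390122)) (tt N90576 (iv4 F390150)) (tt N51185 (iv5 F295174)) (tt N89223 (iv6 F385667)) (tt N28837 (iv7 D101852)))
theorem Q54401 : ∀ i, i < 54401 → P i := stepQ 54400 Q54400 (allL N54400 (tt N68116 F357414) (tt N74052 (iv0 F357410)) (tt N74207 F357412) (tt N28839 (iv3 D101859)) (tt N60350 (iv4 F357411)) (tt N74032 F357409) (tt N68075 F349527) (tt N72141 F357413))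
theorem Q54402 : ∀ i, i < 54402 → P i := stepQ 54401 Q54401 (allL N54401 (tt N90571 (iv1 F390139)) (tt N90570 F390134) (tt N89221 (iv2 F385655)) (tt N74032 (iv3 F357408)) (tt N72427 (iv4 F357397)) (tt N28839 (iv5 D101860)) (tt N80934 F357407) (tt N89216 (iv7 F385641)))
theorem Q54403 : ∀ i, i < 54403 → P i := stepQ 54402 Q54402 (allL N54402 (tt N58576 F321242) (tt N31930 F321243) (tt N58578 F321244) (tt N68075 (iv3 F349525)) (tt N28841 F156816) (tt N31046 F321245) (tt N28839 (iv6 D101861)) (tt N58577 F321246))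
theorem Q54404 : ∀ i, i < 54404 → P i := stepQ 54403 Q54403 (allL N54403 (tt N53752 (iv1 F272862)) (tt N80969 (iv0 F272860)) (tt N49642 F156817) (tt N46359 (iv3 F304768)) (tt N28840 (iv4 D101862)) (tt N77607 (iv5 F287017)) (tt N46357 F304280) (tt N80968 (iv7 F272801)))
theorem Q54405 : ∀ i, i < 54405 → P i := stepQ 54404 Q54404 (allL N54404 (tt N89223 (iv1 F385669)) (tt N28841 (iv0 D101863)) (tt N89222 F385660) (tt N78340 F368239) (tt N81616 F349520) (tt N49725 F156994) (tt N39555 F346654) (tt N81615 (iv7 F349522)))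
theorem Q54406 : ∀ i, i < 54406 → P i := stepQ 54405 Q54405 (allL N54405 (tt N28841 (iv1 D101864)) (tt N89223 F385668) (tt N81615 F352816) (tt N90581 D193525) (tt N58704 (iv4 F344520)) (tt N49726 F344547) (tt N28906 F344548) (tt N89222 (iv7 F385662)))
theorem Q54407 : ∀ i, i < 54407 → P i := stepQ 54406 Q54406 (allL N54406 (tt N81615 (iv1 F352822)) (tt N89222 F385663) (tt N89223 (iv2 F385664)) (tt N62896 F359478) (tt N58577 F359479) (tt N62895 (iv5 F359477)) (tt N86326 (iv6 F375839)) (tt N28841 (iv7 D101866)))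
theorem Q54408 : ∀ i, i < 54408 → P i := stepQ 54407 Q54407 (allL N54407 (tt N90582 D193526) (tt N90583 D193527) (tt N90584 D193528) (tt N28842 (iv3 D101868)) (tt N78055 F385680) (tt N90585 D193529) (tt N90586 D193530) (tt N89227 (iv7 F385679)))
theorem Q54409 : ∀ i, i < 54409 → P i := stepQ 54408 Q54408 (allL N54408 (tt N90587 D193531) (tt N66525 (iv0 F363875)) (tt N89225 (iv2 F385673)) (tt N90585 (iv3 F390171)) (tt N90491 (iv4 F389819)) (tt N28842 (iv5 D101869)) (tt N90588 D193532) (tt N89228 (iv7 F385683)))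
theorem Q54410 : ∀ i, i < 54410 → P i := stepQ 54409 Q54409 (allL N54409 (tt N90578 (iv1 F408232)) (tt N90580 (iv0 F390164)) (tt N89226 (iv2 F385676)) (tt N90586 (iv3 F390172)) (tt N86343 F375871) (tt N90589 D193534) (tt N28842 (iv6 D101870)) (tt N90590 D193535))
theorem Q54411 : ∀ i, i < 54411 → P i := stepQ 54410 Q54410 (allL N54410 (tt N28845 F385541) (tt N89236 F385718) (tt N89234 F385707) (tt N28843 (iv3 D101872)) (tt N90483 (iv4 F389806)) (tt N88630 F385542) (tt N90591 D193536) (tt N89224 (iv7 F385670)))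
theorem Q54412 : ∀ i, i < 54412 → P i := stepQ 54411 Q54411 (allL N54411 (tt N66525 (iv1 F357632)) (tt N90587 F390175) (tt N89228 (iv2 F385681)) (tt N88630 (iv3 F385536)) (tt N90489 (iv4 F389817)) (tt N28843 (iv5 D101874)) (tt N90592 D193537) (tt N89225 (iv7 F385674)))
theorem Q54413 : ∀ i, i < 54413 → P i := stepQ 54412 Q54412 (allL N54412 (tt N81616 F349500) (tt N58704 F349501) (tt N58480 F349502) (tt N90591 (iv3 F390183)) (tt N73902 F349503) (tt N31877 F349504) (tt N28843 (iv6 D101875)) (tt N58482 F349505))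
theorem Q54414 : ∀ i, i < 54414 → P i := stepQ 54413 Q54413 (allL N54413 (tt N90593 D193538) (tt N28844 (iv0 D101876)) (tt N74035 (iv2 F357179)) (tt N73982 F357181) (tt N90594 D193539) (tt N56032 F357182) (tt N90595 D193540) (tt N66576 (iv7 F357180)))
theorem Q54415 : ∀ i, i < 54415 → P i := stepQ 54414 Q54414 (allL N54414 (tt N28844 (iv1 D101877)) (tt N90593 F390194) (tt N66576 F357177) (tt N90596 D193541) (tt N90597 D193542) (tt N60160 (iv5 F357176)) (tt N90598 D193543) (tt N74035 F357178))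
theorem Q54416 : ∀ i, i < 54416 → P i := stepQ 54415 Q54415 (allL N54415 (tt N74035 F357173) (tt N66576 F357171) (tt N28844 (iv2 D101878)) (tt N89231 (iv3 F385693)) (tt N90280 (iv4 F389200)) (tt N68122 (iv5 F357172)) (tt N28926 F156823) (tt N90593 (iv7 F390195)))
theorem Q54417 : ∀ i, i < 54417 → P i := stepQ 54416 Q54416 (allL N54416 (tt N66577 F357162) (tt N74037 F357163) (tt N68122 F357164) (tt N28845 F156824) (tt N60164 F357165) (tt N28844 (iv5 D101879)) (tt N57640 F357166) (tt N41173 F357167))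
theorem Q54418 : ∀ i, i < 54418 → P i := stepQ 54417 Q54417 (allL N54417 (tt N66576 F357168) (tt N74035 F357169) (tt N90593 F390193) (tt N28846 F156825) (tt N90281 (iv4 F389204)) (tt N41173 F357170) (tt N85265 (iv6 F372072)) (tt N28844 (iv7 D101880)))
theorem Q54419 : ∀ i, i < 54419 → P i := stepQ 54418 Q54418 (allL N54418 (tt N89236 (iv1 F385719)) (tt N28845 (iv0 D101881)) (tt N89224 (iv2 F385672)) (tt N90584 (iv3 F390169)) (tt N90486 (iv4 F389811)) (tt N88627 (iv5 F383643)) (tt N90599 D193544) (tt N89234 (iv7 F385708)))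
theorem Q54420 : ∀ i, i < 54420 → P i := stepQ 54419 Q54419 (allL N54419 (tt N90499 (iv1 F389835)) (tt N90498 F389831) (tt N89235 (iv2 F385710)) (tt N73998 F357160) (tt N28845 (iv4 D101883)) (tt N81414 (iv5 F275069)) (tt N90600 D193545) (tt N53920 (iv7 F335337)))
theorem Q54421 : ∀ i, i < 54421 → P i := stepQ 54420 Q54420 (allL N54420 (tt N89252 (iv1 F385797)) (tt N28922 F357220) (tt N84274 (iv2 F368770)) (tt N57640 (iv3 F357174)) (tt N90600 (iv4 F390209)) (tt N28929 F156826) (tt N28845 (iv6 D101884)) (tt N68119 (iv7 F357205)))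
theorem Q54422 : ∀ i, i < 54422 → P i := stepQ 54421 Q54421 (allL N54421 (tt N89234 (iv1 F385706)) (tt N89224 (iv0 F385671)) (tt N89236 (iv2 F385714)) (tt N41173 F357158) (tt N53920 (iv4 F335335)) (tt N28846 F156827) (tt N41171 F357159) (tt N28845 (iv7 D101885)))
theorem Q54423 : ∀ i, i < 54423 → P i := stepQ 54422 Q54422 (allL N54422 (tt N84272 (iv1 F368759)) (tt N84271 F368765) (tt N84273 (iv2 F368760)) (tt N85265 (iv3 F372071)) (tt N28847 F156828) (tt N85264 F372064) (tt N28846 (iv6 D101886)) (tt N28930 F156829))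
theorem Q54424 : ∀ i, i < 54424 → P i := stepQ 54423 Q54423 (allL N54423 (tt N88418 (iv1 F382958)) (tt N71210 F346671) (tt N81393 (iv2 F274879)) (tt N43791 F310857) (tt N90601 D193546) (tt N28847 (iv5 D101887)) (tt N28848 F156831) (tt N28933 F156832))
theorem Q54425 : ∀ i, i < 54425 → P i := stepQ 54424 Q54424 (allL N54424 (tt N81390 (iv1 F274870)) (tt N81389 F274875) (tt N81392 (iv2 F274873)) (tt N90602 D193547) (tt N28848 (iv4 D101888)) (tt N81410 (iv5 F275057)) (tt N90601 (iv6 F390216)) (tt N28859 F156833))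
theorem Q54426 : ∀ i, i < 54426 → P i := stepQ 54425 Q54425 (allL N54425 (tt N90603 D193548) (tt N90604 D193549) (tt N86785 (iv2 F377187)) (tt N28851 F156842) (tt N28940 F314162) (tt N28849 (iv5 D101899)) (tt N28939 F314163) (tt N81379 (iv7 F274847)))
theorem Q54427 : ∀ i, i < 54427 → P i := stepQ 54426 Q54426 (allL N54426 (tt N89460 (iv1 F386581)) (tt N75185 (iv0 F343357)) (tt N78886 F346731) (tt N43418 F346732) (tt N32739 F346733) (tt N28850 (iv5 D101905)) (tt N32738 F346734) (tt N80710 F274828))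
theorem Q54428 : ∀ i, i < 54428 → P i := stepQ 54427 Q54427 (allL N54427 (tt N28855 (iv1 F156908)) (tt N28851 (iv0 D101908)) (tt N43797 F312615) (tt N90605 D193550) (tt N83487 (iv4 F364810)) (tt N53244 F156850) (tt N83486 F364812) (tt N81375 (iv7 F274762)))
theorem Q54429 : ∀ i, i < 54429 → P i := stepQ 54428 Q54428 (allL N54428 (tt N28851 (iv1 D101909)) (tt N28855 F156851) (tt N81375 F274763) (tt N43614 F308376) (tt N90606 D193551) (tt N53950 (iv5 F156852)) (tt N85486 F372784) (tt N43797 (iv7 F310409)))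
theorem Q54430 : ∀ i, i < 54430 → P i := stepQ 54429 Q54429 (allL N54429 (tt N89467 (iv1 F386597)) (tt N90607 D193552) (tt N81376 F274830) (tt N90608 D193553) (tt N28851 (iv4 D101910)) (tt N90609 D193554) (tt N90610 D193555) (tt N81380 (iv7 F274850)))
theorem Q54431 : ∀ i, i < 54431 → P i := stepQ 54430 Q54430 (allL N54430 (tt N90611 D193556) (tt N90612 D193557) (tt N81377 F274831) (tt N28939 F346077) (tt N90610 (iv4 F390263)) (tt N51300 (iv5 F307501)) (tt N28851 (iv6 D101911)) (tt N85489 (iv7 F372804)))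
theorem Q54432 : ∀ i, i < 54432 → P i := stepQ 54431 Q54431 (allL N54431 (tt N90613 D193558) (tt N90614 D193559) (tt N42564 F314168) (tt N28855 F156911) (tt N90615 D193560) (tt N28853 (iv5 D101919)) (tt N90616 D193561) (tt N42555 F314169))
theorem Q54433 : ∀ i, i < 54433 → P i := stepQ 54432 Q54432 (allL N54432 (tt N75185 (iv1 F343358)) (tt N89460 (iv0 F386579)) (tt N80710 (iv2 F274818)) (tt N63700 F353460) (tt N32935 F346727) (tt N28854 (iv5 D101922)) (tt N81508 (iv6 F275660)) (tt N78886 (iv7 F346730)))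
theorem Q54434 : ∀ i, i < 54434 → P i := stepQ 54433 Q54433 (allL N54433 (tt N80718 (iv1 F272692)) (tt N37559 F342037) (tt N80711 (iv2 F274807)) (tt N63701 (iv3 F337628)) (tt N28856 F156913) (tt N89721 (iv5 F387300)) (tt N28854 (iv6 D101923)) (tt N79377 (iv7 F311738)))
theorem Q54435 : ∀ i, i < 54435 → P i := stepQ 54434 Q54434 (allL N54434 (tt N90607 (iv1 F390244)) (tt N89467 (iv0 F386596)) (tt N81380 (iv2 F274849)) (tt N39476 F354882) (tt N28855 (iv4 D101924)) (tt N39465 F354883) (tt N39468 F354884) (tt N81376 (iv7 F274815)))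
theorem Q54436 : ∀ i, i < 54436 → P i := stepQ 54435 Q54435 (allL N54435 (tt N90140 F388666) (tt N84739 (iv0 F370434)) (tt N81381 (iv2 F274851)) (tt N90616 (iv3 F390286)) (tt N39468 F354887) (tt N90617 D193562) (tt N28855 (iv6 D101925)) (tt N90138 (iv7 F388659)))
theorem Q54437 : ∀ i, i < 54437 → P i := stepQ 54436 Q54436 (allL N54436 (tt N53272 F156914) (tt N53270 (iv0 F156915)) (tt N54033 (iv2 F274808)) (tt N82331 F366710) (tt N89729 (iv4 F387338)) (tt N28856 (iv5 D101927)) (tt N90617 (iv6 F390289)) (tt N54034 (iv7 F274809)))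
theorem Q54438 : ∀ i, i < 54438 → P i := stepQ 54437 Q54437 (allL N54437 (tt N89891 F387888) (tt N84048 (iv0 F368372)) (tt N89889 F387880) (tt N28857 (iv3 D101930)) (tt N81388 (iv4 F368370)) (tt N89930 (iv5 F388030)) (tt N81387 F368369) (tt N81386 (iv7 F338124)))
theorem Q54439 : ∀ i, i < 54439 → P i := stepQ 54438 Q54438 (allL N54438 (tt N90618 D193563) (tt N52931 (iv0 F338093)) (tt N81383 (iv2 F338126)) (tt N87687 (iv3 F380147)) (tt N28857 (iv4 D101931)) (tt N85990 F374771) (tt N90619 D193564) (tt N81387 (iv7 F338125)))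
theorem Q54440 : ∀ i, i < 54440 → P i := stepQ 54439 Q54439 (allL N54439 (tt N83038 F368367) (tt N90620 D193565) (tt N81385 (iv2 F338127)) (tt N81387 (iv3 F368368)) (tt N90619 (iv4 F390297)) (tt N84029 F367859) (tt N28857 (iv6 D101932)) (tt N87687 (iv7 F380148)))
theorem Q54441 : ∀ i, i < 54441 → P i := stepQ 54440 Q54440 (allL N54440 (tt N65192 F338132) (tt N90027 F388336) (tt N90025 (iv2 F388329)) (tt N28858 (iv3 D101934)) (tt N90621 D193566) (tt N63139 F338072) (tt N90622 D193567) (tt N81382 F338130))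
theorem Q54442 : ∀ i, i < 54442 → P i := stepQ 54441 Q54441 (allL N54441 (tt N52931 F272646) (tt N90618 F390294) (tt N81387 F338129) (tt N90623 D193568) (tt N28858 (iv4 D101935)) (tt N90624 D193569) (tt N89889 (iv6 F387882)) (tt N81383 F338128))
theorem Q54443 : ∀ i, i < 54443 → P i := stepQ 54442 Q54442 (allL N54442 (tt N83396 F387883) (tt N90625 D193570) (tt N81388 F338131) (tt N90622 (iv3 F390302)) (tt N89889 (iv4 F387881)) (tt N89964 (iv5 F388119)) (tt N28858 (iv6 D101936)) (tt N90626 D193571))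
theorem Q54444 : ∀ i, i < 54444 → P i := stepQ 54443 Q54443 (allL N54443 (tt N81392 (iv1 F274878)) (tt N28859 (iv0 D101937)) (tt N81389 F338096) (tt N90627 D193572) (tt N81845 F338083) (tt N84958 F371182) (tt N83058 (iv6 F450203)) (tt N81390 F338094))
theorem Q54445 : ∀ i, i < 54445 → P i := stepQ 54444 Q54444 (allL N54444 (tt N28859 (iv1 D101938)) (tt N81392 F274876) (tt N81390 (iv2 F338089)) (tt N88396 (iv3 F382873)) (tt N81920 F338088) (tt N90628 D193574) (tt N90629 D193575) (tt N81389 (iv7 F338095)))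
theorem Q54446 : ∀ i, i < 54446 → P i := stepQ 54445 Q54445 (allL N54445 (tt N83442 (iv1 F450808)) (tt N90630 D193577) (tt N90631 D193578) (tt N28859 (iv3 D101939)) (tt N49055 F156918) (tt N90632 D193579) (tt N28953 F156919) (tt N90602 (iv7 F390219)))
theorem Q54447 : ∀ i, i < 54447 → P i := stepQ 54446 Q54446 (allL N54446 (tt N90633 D193580) (tt N90634 D193581) (tt N81391 (iv2 F274872)) (tt N90632 (iv3 F390325)) (tt N81411 (iv4 F275060)) (tt N28859 (iv5 D101940)) (tt N90635 D193582) (tt N81410 F275058))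
theorem Q54448 : ∀ i, i < 54448 → P i := stepQ 54447 Q54447 (allL N54447 (tt N39469 F347040) (tt N39462 F347041) (tt N39466 F362169) (tt N90312 (iv3 F389319)) (tt N67108 F347042) (tt N89900 (iv5 F387915)) (tt N28861 (iv6 D101949)) (tt N39467 F362170))
theorem Q54449 : ∀ i, i < 54449 → P i := stepQ 54448 Q54448 (allL N54448 (tt N49545 (iv1 F289946)) (tt N49668 (iv0 F289948)) (tt N28872 F156935) (tt N49724 F156936) (tt N61507 F363409) (tt N28863 (iv5 D101968)) (tt N71791 (iv6 F349942)) (tt N49715 (iv7 F156937)))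
theorem Q54450 : ∀ i, i < 54450 → P i := stepQ 54449 Q54449 (allL N54449 (tt N28871 (iv1 F156943)) (tt N28870 F156944) (tt N28873 F156940) (tt N83461 (iv3 F287565)) (tt N55089 (iv4 F158634)) (tt N49715 F156941) (tt N83573 (iv6 F356259)) (tt N28863 (iv7 D101969)))
theorem Q54451 : ∀ i, i < 54451 → P i := stepQ 54450 Q54450 (allL N54450 (tt N28865 (iv1 D101973)) (tt N55089 F158638) (tt N55091 (iv2 F158642)) (tt N55385 F367239) (tt N85832 (iv4 F374164)) (tt N84182 (iv5 F368449)) (tt N82593 (iv6 F367062)) (tt N55084 F158631))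
theorem Q54452 : ∀ i, i < 54452 → P i := stepQ 54451 Q54451 (allL N54451 (tt N55091 (iv1 F158646)) (tt N55084 (iv0 F158630)) (tt N55089 F158633) (tt N29311 F156946) (tt N28873 F156947) (tt N52481 F156948) (tt N49975 (iv6 F294076)) (tt N28865 (iv7 D101974)))
theorem Q54453 : ∀ i, i < 54453 → P i := stepQ 54452 Q54452 (allL N54452 (tt N71178 (iv1 F389846)) (tt N71170 (iv0 F357406)) (tt N71175 F354520) (tt N90313 (iv3 F389322)) (tt N47540 F328319) (tt N85466 (iv5 F372720)) (tt N28866 (iv6 D101979)) (tt N71176 (iv7 F354522)))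
theorem Q54454 : ∀ i, i < 54454 → P i := stepQ 54453 Q54453 (allL N54453 (tt N89171 (iv1 F385436)) (tt N73835 (iv0 F363136)) (tt N89174 (iv2 F385978)) (tt N28867 (iv3 D101981)) (tt N90636 D193583) (tt N90637 D193584) (tt N54329 F328322) (tt N89173 F385445))
theorem Q54455 : ∀ i, i < 54455 → P i := stepQ 54454 Q54454 (allL N54454 (tt N49742 (iv1 F159836)) (tt N54505 F356187) (tt N47552 F328324) (tt N90637 (iv3 F390346)) (tt N47599 F328325) (tt N28867 (iv5 D101983)) (tt N85908 F374414) (tt N47622 F328326))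
theorem Q54456 : ∀ i, i < 54456 → P i := stepQ 54455 Q54455 (allL N54455 (tt N90638 D193585) (tt N47176 F339824) (tt N90639 D193586) (tt N28868 (iv3 D101987)) (tt N28883 F156951) (tt N80379 F339823) (tt N90640 D193587) (tt N80134 (iv7 F365695)))
theorem Q54457 : ∀ i, i < 54457 → P i := stepQ 54456 Q54456 (allL N54456 (tt N71744 (iv1 F365457)) (tt N71743 F365458) (tt N71746 (iv2 F365456)) (tt N90640 (iv3 F390364)) (tt N28869 F156952) (tt N90641 D193588) (tt N28868 (iv6 D101989)) (tt N71741 F365455))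
theorem Q54458 : ∀ i, i < 54458 → P i := stepQ 54457 Q54457 (allL N54457 (tt N71789 F356506) (tt N71788 F360703) (tt N71791 F349943) (tt N28887 F156953) (tt N90642 D193589) (tt N28869 (iv5 D101992)) (tt N28872 F156954) (tt N71777 F356507))
theorem Q54459 : ∀ i, i < 54459 → P i := stepQ 54458 Q54458 (allL N54458 (tt N90643 D193590) (tt N89904 F387931) (tt N89094 (iv2 F385141)) (tt N89910 (iv3 F387972)) (tt N28870 (iv4 D101996)) (tt N90644 D193591) (tt N85379 (iv6 F372408)) (tt N85456 (iv7 F372683)))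
theorem Q54460 : ∀ i, i < 54460 → P i := stepQ 54459 Q54459 (allL N54459 (tt N89172 F385441) (tt N89178 F385466) (tt N89176 (iv2 F385451)) (tt N28871 (iv3 D102000)) (tt N87762 (iv4 F380411)) (tt N42241 F347746) (tt N84871 (iv6 F370938)) (tt N89092 (iv7 F385137)))
theorem Q54461 : ∀ i, i < 54461 → P i := stepQ 54460 Q54460 (allL N54460 (tt N89904 F387930) (tt N90643 F390381) (tt N85456 (iv2 F372681)) (tt N55437 (iv3 F160292)) (tt N28871 (iv4 D102001)) (tt N90645 D193592) (tt N84662 (iv6 F370088)) (tt N89094 (iv7 F385144)))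
theorem Q54462 : ∀ i, i < 54462 → P i := stepQ 54461 Q54461 (allL N54461 (tt N28872 (iv1 D102005)) (tt N49715 F156959) (tt N49668 (iv2 F335752)) (tt N90646 D193593) (tt N61047 F335755) (tt N49411 F335751) (tt N90647 D193594) (tt N49545 (iv7 F335753)))
theorem Q54463 : ∀ i, i < 54463 → P i := stepQ 54462 Q54462 (allL N54462 (tt N61267 (iv1 F335754)) (tt N90648 D193595) (tt N61507 (iv2 F363410)) (tt N64199 F357121) (tt N28872 (iv4 D102006)) (tt N85263 (iv5 F372056)) (tt N90642 (iv6 F390376)) (tt N49716 F156960))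
theorem Q54464 : ∀ i, i < 54464 → P i := stepQ 54463 Q54463 (allL N54463 (tt N39779 F334893) (tt N63330 F334894) (tt N40754 F334895) (tt N90649 D193596) (tt N28876 (iv4 D102009)) (tt N76017 F334896) (tt N78836 F334897) (tt N73886 (iv7 F342523)))
theorem Q54465 : ∀ i, i < 54465 → P i := stepQ 54464 Q54464 (allL N54464 (tt N72372 (iv1 F363433)) (tt N72346 (iv0 F341572)) (tt N72369 F363417) (tt N28878 F156961) (tt N78836 (iv4 F334898)) (tt N51172 (iv5 F295024)) (tt N28876 (iv6 D102010)) (tt N72370 (iv7 F363442)))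
theorem Q54466 : ∀ i, i < 54466 → P i := stepQ 54465 Q54465 (allL N54465 (tt N55198 F356236) (tt N43399 F356237) (tt N62490 (iv2 F356241)) (tt N28877 (iv3 D102011)) (tt N90649 (iv4 F390401)) (tt N88206 (iv5 F382173)) (tt N72325 (iv6 F366598)) (tt N62489 (iv7 F356235)))
theorem Q54467 : ∀ i, i < 54467 → P i := stepQ 54466 Q54466 (allL N54466 (tt N49431 F156966) (tt N49425 F156967) (tt N49682 F156963) (tt N88206 F382174) (tt N28999 F156965) (tt N28877 (iv5 D102012)) (tt N90650 D193597) (tt N49684 F156964))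
theorem Q54468 : ∀ i, i < 54468 → P i := stepQ 54467 Q54467 (allL N54467 (tt N90651 D193598) (tt N90652 D193599) (tt N86350 (iv2 F375892)) (tt N72325 F366599) (tt N28878 F156968) (tt N90653 D193600) (tt N28877 (iv6 D102013)) (tt N90654 D193601))
theorem Q54469 : ∀ i, i < 54469 → P i := stepQ 54468 Q54468 (allL N54468 (tt N86346 F375881) (tt N28878 (iv0 D102014)) (tt N86349 F375885) (tt N70849 (iv3 F359417)) (tt N90655 D193602) (tt N90656 D193603) (tt N71211 F359416) (tt N70844 (iv7 F359418)))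
theorem Q54470 : ∀ i, i < 54470 → P i := stepQ 54469 Q54469 (allL N54469 (tt N28878 (iv1 D102015)) (tt N86346 (iv0 F375880)) (tt N70844 (iv2 F371050)) (tt N71170 F371051) (tt N90657 D193604) (tt N50604 (iv5 F366997)) (tt N70842 F371052) (tt N86349 (iv7 F375887)))
theorem Q54471 : ∀ i, i < 54471 → P i := stepQ 54470 Q54470 (allL N54470 (tt N70844 (iv1 F359431)) (tt N86349 F375886) (tt N86346 (iv2 F375877)) (tt N72370 (iv3 F363443)) (tt N90654 (iv4 F390413)) (tt N51175 (iv5 F295030)) (tt N89211 (iv6 F385610)) (tt N28878 (iv7 D102016)))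
theorem Q54472 : ∀ i, i < 54472 → P i := stepQ 54471 Q54471 (allL N54471 (tt N71058 F382004) (tt N90658 D193605) (tt N90659 D193606) (tt N28879 (iv3 D102017)) (tt N90297 (iv4 F389265)) (tt N90660 D193607) (tt N90661 D193608) (tt N86351 (iv7 F375895)))
theorem Q54473 : ∀ i, i < 54473 → P i := stepQ 54472 Q54472 (allL N54472 (tt N49425 F156973) (tt N49431 F156974) (tt N49684 F156970) (tt N90660 (iv3 F390445)) (tt N28998 F156971) (tt N28879 (iv5 D102018)) (tt N85575 (iv6 F373096)) (tt N49682 F156972))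
theorem Q54474 : ∀ i, i < 54474 → P i := stepQ 54473 Q54473 (allL N54473 (tt N90662 D193609) (tt N90663 D193610) (tt N89237 (iv2 F385720)) (tt N90661 (iv3 F390449)) (tt N28880 F156975) (tt N90664 D193611) (tt N28879 (iv6 D102019)) (tt N90548 (iv7 F390050)))
theorem Q54475 : ∀ i, i < 54475 → P i := stepQ 54474 Q54474 (allL N54474 (tt N90665 D193612) (tt N58449 (iv0 F391447)) (tt N90666 D193614) (tt N28881 (iv3 D102021)) (tt N90667 D193615) (tt N84355 (iv5 F369040)) (tt N90668 D193616) (tt N54697 (iv7 F157433)))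
theorem Q54476 : ∀ i, i < 54476 → P i := stepQ 54475 Q54475 (allL N54475 (tt N90655 F390418) (tt N90657 (iv0 F390430)) (tt N54689 (iv2 F157422)) (tt N90668 (iv3 F390460)) (tt N53441 F156976) (tt N90669 D193617) (tt N28881 (iv6 D102022)) (tt N90670 D193618))
theorem Q54477 : ∀ i, i < 54477 → P i := stepQ 54476 Q54476 (allL N54476 (tt N81705 (iv1 F348026)) (tt N81703 (iv0 F348025)) (tt N87797 (iv2 F380543)) (tt N28882 (iv3 D102023)) (tt N90671 D193619) (tt N51656 F348024) (tt N90672 D193620) (tt N54688 (iv7 F157421)))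
theorem Q54478 : ∀ i, i < 54478 → P i := stepQ 54477 Q54477 (allL N54477 (tt N89210 F385609) (tt N90547 F390035) (tt N54698 (iv2 F157434)) (tt N90672 (iv3 F390471)) (tt N53443 F156977) (tt N90673 D193621) (tt N28882 (iv6 D102024)) (tt N90545 (iv7 F391236)))
theorem Q54479 : ∀ i, i < 54479 → P i := stepQ 54478 Q54478 (allL N54478 (tt N67132 F360231) (tt N28883 (iv0 D102025)) (tt N89239 F385735) (tt N90674 D193623) (tt N90675 D193624) (tt N75226 F346002) (tt N90676 D193625) (tt N87754 (iv7 F380379)))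
theorem Q54480 : ∀ i, i < 54480 → P i := stepQ 54479 Q54479 (allL N54479 (tt N28883 (iv1 D102026)) (tt N67132 F339833) (tt N87754 (iv2 F380378)) (tt N48018 F339835) (tt N90677 D193626) (tt N51724 (iv5 F339838)) (tt N90678 D193627) (tt N89239 (iv7 F385731)))
theorem Q54481 : ∀ i, i < 54481 → P i := stepQ 54480 Q54480 (allL N54480 (tt N89239 (iv1 F385730)) (tt N87754 (iv0 F380380)) (tt N28883 (iv2 D102027)) (tt N67135 F339831) (tt N90639 (iv4 F390358)) (tt N51806 F339832) (tt N90679 D193628) (tt N67132 (iv7 F339829)))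
theorem Q54482 : ∀ i, i < 54482 → P i := stepQ 54481 Q54481 (allL N54481 (tt N90680 D193629) (tt N77710 (iv0 F362588)) (tt N90679 (iv2 F390493)) (tt N28884 F156978) (tt N90640 (iv4 F390365)) (tt N58575 F362587) (tt N28883 (iv6 D102028)) (tt N90681 D193630))
theorem Q54483 : ∀ i, i < 54483 → P i := stepQ 54482 Q54482 (allL N54482 (tt N28884 (iv1 D102030)) (tt N58444 F344538) (tt N31864 F344539) (tt N55282 F352906) (tt N53447 (iv4 F344557)) (tt N31863 F344540) (tt N55280 (iv6 F352905)) (tt N54708 (iv7 F344553)))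
theorem Q54484 : ∀ i, i < 54484 → P i := stepQ 54483 Q54483 (allL N54483 (tt N31864 F344533) (tt N54708 (iv0 F344549)) (tt N58444 F344535) (tt N90681 (iv3 F390504)) (tt N28888 F156979) (tt N31928 F344536) (tt N67125 (iv6 F352922)) (tt N28884 (iv7 D102032)))
theorem Q54485 : ∀ i, i < 54485 → P i := stepQ 54484 Q54484 (allL N54484 (tt N59933 (iv1 F349494)) (tt N28989 F349493) (tt N79636 F344509) (tt N73651 F344510) (tt N28885 (iv4 D102035)) (tt N45460 F344511) (tt N90534 (iv6 F389992)) (tt N73684 F344512))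
theorem Q54486 : ∀ i, i < 54486 → P i := stepQ 54485 Q54485 (allL N54485 (tt N33723 F319202) (tt N84143 F368310) (tt N84142 (iv2 F368306)) (tt N43054 F360851) (tt N89903 (iv4 F387924)) (tt N28885 (iv5 D102036)) (tt N90682 D193631) (tt N84141 (iv7 F368292)))
theorem Q54487 : ∀ i, i < 54487 → P i := stepQ 54486 Q54486 (allL N54486 (tt N28989 F344564) (tt N59933 (iv0 F344519)) (tt N73684 (iv2 F344515)) (tt N71057 (iv3 F353196)) (tt N28886 (iv4 D102039)) (tt N59826 F344518) (tt N90683 D193632) (tt N79636 (iv7 F344516)))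
theorem Q54488 : ∀ i, i < 54488 → P i := stepQ 54487 Q54487 (allL N54487 (tt N84143 (iv1 F368311)) (tt N33723 F319200) (tt N84141 F368289) (tt N44562 F350723) (tt N59957 F319201) (tt N28886 (iv5 D102040)) (tt N83856 (iv6 F289484)) (tt N84142 (iv7 F368303)))
theorem Q54489 : ∀ i, i < 54489 → P i := stepQ 54488 Q54488 (allL N54488 (tt N71204 F352862) (tt N71211 F352864) (tt N71209 F352875) (tt N90308 (iv3 F389304)) (tt N90683 (iv4 F390513)) (tt N90684 D193633) (tt N28886 (iv6 D102041)) (tt N71208 (iv7 F352878)))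
theorem Q54490 : ∀ i, i < 54490 → P i := stepQ 54489 Q54489 (allL N54489 (tt N49727 (iv1 F156991)) (tt N28887 (iv0 D102042)) (tt N49725 F359230) (tt N73850 (iv3 F353336)) (tt N54851 (iv4 F353333)) (tt N89222 (iv5 F385659)) (tt N90685 D193634) (tt N49726 (iv7 F359237)))
theorem Q54491 : ∀ i, i < 54491 → P i := stepQ 54490 Q54490 (allL N54490 (tt N28887 (iv1 D102043)) (tt N49727 F156985) (tt N49726 F352819) (tt N64718 F355151) (tt N90686 D193635) (tt N81615 (iv5 F352818)) (tt N64715 (iv6 F355152)) (tt N49725 F352820))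
theorem Q54492 : ∀ i, i < 54492 → P i := stepQ 54491 Q54491 (allL N54491 (tt N59717 F329859) (tt N31089 F329860) (tt N36296 F329861) (tt N90687 D193636) (tt N28887 (iv4 D102044)) (tt N31163 F329862) (tt N28889 F156987) (tt N59718 F329863))
theorem Q54493 : ∀ i, i < 54493 → P i := stepQ 54492 Q54492 (allL N54492 (tt N49726 (iv1 F156992)) (tt N49725 F156993) (tt N49727 F156988) (tt N71777 (iv3 F356508)) (tt N59718 (iv4 F344532)) (tt N28888 F156989) (tt N49723 F156990) (tt N28887 (iv7 D102045)))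
theorem Q54494 : ∀ i, i < 54494 → P i := stepQ 54493 Q54493 (allL N54493 (tt N51629 F346745) (tt N78841 (iv0 F357127)) (tt N78840 (iv2 F350553)) (tt N28889 (iv3 D102046)) (tt N64199 (iv4 F357125)) (tt N39666 F329744) (tt N90687 (iv6 F390527)) (tt N39665 (iv7 F329769)))
theorem Q54495 : ∀ i, i < 54495 → P i := stepQ 54494 Q54494 (allL N54494 (tt N65451 F328173) (tt N30578 F328174) (tt N65450 F328175) (tt N31454 F328176) (tt N28890 (iv4 D102062)) (tt N57524 F328177) (tt N31477 F328178) (tt N44455 F328179))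
theorem Q54496 : ∀ i, i < 54496 → P i := stepQ 54495 Q54495 (allL N54495 (tt N49141 (iv1 F157011)) (tt N49140 F157012) (tt N28894 F157008) (tt N49177 F157009) (tt N71886 (iv4 F357613)) (tt N28891 (iv5 D102068)) (tt N90688 D193637) (tt N49138 F157010))
theorem Q54497 : ∀ i, i < 54497 → P i := stepQ 54496 Q54496 (allL N54496 (tt N28896 (iv1 F157022)) (tt N28895 F157023) (tt N28897 F157020) (tt N83573 F295366) (tt N83511 (iv4 F287701)) (tt N70969 F338476) (tt N83461 (iv6 F287567)) (tt N28892 (iv7 D102075)))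
theorem Q54498 : ∀ i, i < 54498 → P i := stepQ 54497 Q54497 (allL N54497 (tt N52724 F157026) (tt N52721 (iv0 F157377)) (tt N54660 (iv2 F157373)) (tt N28893 (iv3 D102080)) (tt N54660 (iv4 F157374)) (tt N63368 (iv5 F343276)) (tt N53349 F290129) (tt N48855 F289778))
theorem Q54499 : ∀ i, i < 54499 → P i := stepQ 54498 Q54498 (allL N54498 (tt N75867 F289780) (tt N75866 F289781) (tt N49137 F157368) (tt N63368 F363004) (tt N71873 F346029) (tt N28893 (iv5 D102081)) (tt N62247 (iv6 F363006)) (tt N48856 F289782))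
theorem Q54500 : ∀ i, i < 54500 → P i := stepQ 54499 Q54499 (allL N54499 (tt N49138 (iv1 F157027)) (tt N28894 (iv0 D102083)) (tt N49141 F290015) (tt N81881 F290016) (tt N62029 (iv4 F346047)) (tt N71867 F346041) (tt N90689 D193638) (tt N49140 F290017))
theorem Q54501 : ∀ i, i < 54501 → P i := stepQ 54500 Q54500 (allL N54500 (tt N28894 (iv1 D102084)) (tt N49138 F157028) (tt N49140 F290012) (tt N90690 D193639) (tt N62027 (iv4 F357614)) (tt N71871 (iv5 F329309)) (tt N72076 F362120) (tt N49141 F290013))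
theorem Q54502 : ∀ i, i < 54502 → P i := stepQ 54501 Q54501 (allL N54501 (tt N62022 F328981) (tt N62019 F328982) (tt N71886 F328983) (tt N90691 D193640) (tt N28894 (iv4 D102085)) (tt N44202 F328984) (tt N90692 D193641) (tt N44201 (iv7 F329341)))
theorem Q54503 : ∀ i, i < 54503 → P i := stepQ 54502 Q54502 (allL N54502 (tt N90693 D193642) (tt N90694 D193643) (tt N90688 (iv2 F390532)) (tt N48843 F157030) (tt N90692 (iv4 F390544)) (tt N85700 (iv5 F373574)) (tt N28894 (iv6 D102086)) (tt N90695 D193644))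
theorem Q54504 : ∀ i, i < 54504 → P i := stepQ 54503 Q54503 (allL N54503 (tt N54867 F367156) (tt N54865 F369299) (tt N89180 F385474) (tt N28895 (iv3 D102110)) (tt N85431 (iv4 F372606)) (tt N84086 (iv5 F368048)) (tt N85515 (iv6 F372909)) (tt N85491 (iv7 F372813)))
theorem Q54505 : ∀ i, i < 54505 → P i := stepQ 54504 Q54504 (allL N54504 (tt N68649 F365319) (tt N90696 D193645) (tt N90697 D193646) (tt N28898 (iv3 D102140)) (tt N66458 (iv4 F365318)) (tt N87658 (iv5 F380016)) (tt N66457 F365317) (tt N87659 (iv7 F380017)))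
theorem Q54506 : ∀ i, i < 54506 → P i := stepQ 54505 Q54505 (allL N54505 (tt N54454 (iv1 F356187)) (tt N51135 (iv0 F356188)) (tt N28900 F157048) (tt N39277 F328527) (tt N52142 (iv4 F157049)) (tt N28899 (iv5 D102152)) (tt N88800 (iv6 F384190)) (tt N81495 (iv7 F335756)))
theorem Q54507 : ∀ i, i < 54507 → P i := stepQ 54506 Q54506 (allL N54506 (tt N39090 F328530) (tt N28901 (iv0 D102161)) (tt N39271 F346477) (tt N90698 D193647) (tt N81488 (iv4 F336419)) (tt N71172 F354517) (tt N90699 D193648) (tt N39272 F346478))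
theorem Q54508 : ∀ i, i < 54508 → P i := stepQ 54507 Q54507 (allL N54507 (tt N28901 (iv1 D102162)) (tt N39090 F328531) (tt N39272 F354508) (tt N90700 D193649) (tt N81489 F354509) (tt N71171 (iv5 F354511)) (tt N90480 (iv6 F389797)) (tt N39271 F354510))
theorem Q54509 : ∀ i, i < 54509 → P i := stepQ 54508 Q54508 (allL N54508 (tt N64854 F354507) (tt N90701 D193650) (tt N39273 F328532) (tt N28908 F157058) (tt N84051 (iv4 F367932)) (tt N28901 (iv5 D102163)) (tt N55322 (iv6 F159455)) (tt N90702 D193651))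
theorem Q54510 : ∀ i, i < 54510 → P i := stepQ 54509 Q54509 (allL N54509 (tt N39272 F328533) (tt N39271 F328534) (tt N39090 F328535) (tt N28909 F157059) (tt N81545 (iv4 F354146)) (tt N90702 (iv5 F390567)) (tt N89242 (iv6 F385750)) (tt N28901 (iv7 D102164)))
theorem Q54511 : ∀ i, i < 54511 → P i := stepQ 54510 Q54510 (allL N54510 (tt N90703 D193652) (tt N90704 D193653) (tt N83152 F359404) (tt N28902 (iv3 D102165)) (tt N90705 D193654) (tt N52869 F157060) (tt N83150 (iv6 F359405)) (tt N53510 F157061))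
theorem Q54512 : ∀ i, i < 54512 → P i := stepQ 54511 Q54511 (allL N54511 (tt N83159 F353236) (tt N83158 F353237) (tt N83161 F353235) (tt N28903 (iv3 D102167)) (tt N90706 D193655) (tt N51812 (iv5 F353228)) (tt N90566 (iv6 F390129)) (tt N51811 (iv7 F352896)))
theorem Q54513 : ∀ i, i < 54513 → P i := stepQ 54512 Q54512 (allL N54512 (tt N28904 (iv1 D102169)) (tt N68109 (iv0 F346766)) (tt N68107 F361892) (tt N63492 (iv3 F346763)) (tt N77686 F346764) (tt N51808 F346767) (tt N81831 (iv6 F361897)) (tt N51807 F339716))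
theorem Q54514 : ∀ i, i < 54514 → P i := stepQ 54513 Q54513 (allL N54513 (tt N32164 F329288) (tt N28905 (iv0 D102172)) (tt N60161 F352934) (tt N31932 F352908) (tt N90707 D193656) (tt N47635 (iv5 F352910)) (tt N31930 F352909) (tt N60162 F352928))
theorem Q54515 : ∀ i, i < 54515 → P i := stepQ 54514 Q54514 (allL N54514 (tt N28905 (iv1 D102173)) (tt N32164 F329289) (tt N60162 (iv2 F352933)) (tt N90708 D193657) (tt N90709 D193658) (tt N69593 F352861) (tt N90710 D193659) (tt N60161 (iv7 F352937)))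
theorem Q54516 : ∀ i, i < 54516 → P i := stepQ 54515 Q54515 (allL N54515 (tt N68152 F329291) (tt N68151 F329292) (tt N38211 F329293) (tt N68102 F329294) (tt N86893 F377602) (tt N28905 (iv5 D102174)) (tt N84239 (iv6 F368646)) (tt N68153 F329295))
theorem Q54517 : ∀ i, i < 54517 → P i := stepQ 54516 Q54516 (allL N54516 (tt N60162 F329296) (tt N60161 F329297) (tt N32164 F329298) (tt N38182 F329299) (tt N28909 F157064) (tt N68153 F329300) (tt N89247 (iv6 F385773)) (tt N28905 (iv7 D102175)))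
theorem Q54518 : ∀ i, i < 54518 → P i := stepQ 54517 Q54517 (allL N54517 (tt N69562 F329269) (tt N69563 F329270) (tt N48496 F329271) (tt N28906 (iv3 D102177)) (tt N48135 F329272) (tt N72366 F329273) (tt N90581 (iv6 F390166)) (tt N48504 F329274))
theorem Q54519 : ∀ i, i < 54519 → P i := stepQ 54518 Q54518 (allL N54518 (tt N89255 (iv1 F385811)) (tt N28921 F353347) (tt N81613 F353348) (tt N57636 F329275) (tt N28906 (iv4 D102178)) (tt N51566 F353349) (tt N58704 F353350) (tt N78255 F329276))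
theorem Q54520 : ∀ i, i < 54520 → P i := stepQ 54519 Q54519 (allL N54519 (tt N70843 F352851) (tt N71203 F352860) (tt N71205 F352826) (tt N72366 F329277) (tt N90711 D193660) (tt N28906 (iv5 D102179)) (tt N90712 D193661) (tt N71206 (iv7 F352828)))
theorem Q54521 : ∀ i, i < 54521 → P i := stepQ 54520 Q54520 (allL N54520 (tt N28921 F343228) (tt N89255 F385810) (tt N78255 F329279) (tt N90713 D193662) (tt N28907 (iv4 D102183)) (tt N81614 (iv5 F353357)) (tt N90714 D193663) (tt N81613 F353358))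
theorem Q54522 : ∀ i, i < 54522 → P i := stepQ 54521 Q54521 (allL N54521 (tt N71203 (iv1 F352855)) (tt N70843 F352854) (tt N71206 (iv2 F352829)) (tt N90338 (iv3 F389381)) (tt N58341 F364779) (tt N28907 (iv5 D102184)) (tt N54070 (iv6 F157068)) (tt N71205 F352827))
theorem Q54523 : ∀ i, i < 54523 → P i := stepQ 54522 Q54522 (allL N54522 (tt N39550 F352856) (tt N39558 F352857) (tt N39556 F352812) (tt N90339 (iv3 F389384)) (tt N90714 (iv4 F390611)) (tt N90549 (iv5 F390051)) (tt N28907 (iv6 D102185)) (tt N39555 F352813))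
theorem Q54524 : ∀ i, i < 54524 → P i := stepQ 54523 Q54523 (allL N54523 (tt N28908 (iv1 D102186)) (tt N39281 F362583) (tt N85396 F372487) (tt N85645 (iv3 F373351)) (tt N82421 F345432) (tt N39310 F329869) (tt N82420 (iv6 F345433)) (tt N85395 F372482))
theorem Q54525 : ∀ i, i < 54525 → P i := stepQ 54524 Q54524 (allL N54524 (tt N90715 D193664) (tt N90716 D193665) (tt N85158 (iv2 F371761)) (tt N81875 (iv3 F367935)) (tt N28908 (iv4 D102187)) (tt N86078 F375378) (tt N53775 F157070) (tt N90717 D193666))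
theorem Q54526 : ∀ i, i < 54526 → P i := stepQ 54525 Q54525 (allL N54525 (tt N85396 (iv1 F372483)) (tt N85395 F372479) (tt N39281 F329301) (tt N90702 (iv3 F390565)) (tt N90717 (iv4 F390625)) (tt N28909 F157071) (tt N85394 (iv6 F372475)) (tt N28908 (iv7 D102188)))
theorem Q54527 : ∀ i, i < 54527 → P i := stepQ 54526 Q54526 (allL N54526 (tt N39685 F328962) (tt N39682 F328963) (tt N28912 F157075) (tt N81495 F335750) (tt N76101 (iv4 F346039)) (tt N28910 (iv5 D102200)) (tt N76099 (iv6 F335683)) (tt N39277 F328964))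
theorem Q54528 : ∀ i, i < 54528 → P i := stepQ 54527 Q54527 (allL N54527 (tt N39120 F328965) (tt N39283 F328966) (tt N28913 F157076) (tt N81539 (iv3 F357916)) (tt N38977 F328967) (tt N90718 D193667) (tt N28910 (iv6 D102201)) (tt N39091 F328968))
theorem Q54529 : ∀ i, i < 54529 → P i := stepQ 54528 Q54528 (allL N54528 (tt N39277 F357596) (tt N28912 (iv0 D102207)) (tt N39685 F357597) (tt N88810 (iv3 F384222)) (tt N83852 F357598) (tt N39173 F357599) (tt N50488 F357600) (tt N39682 F357601))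
theorem Q54530 : ∀ i, i < 54530 → P i := stepQ 54529 Q54529 (allL N54529 (tt N28912 (iv1 D102208)) (tt N39277 F357591) (tt N39682 F357592) (tt N86753 (iv3 F377059)) (tt N83853 (iv4 F357615)) (tt N39172 F357593) (tt N51107 F357594) (tt N39685 F357595))
theorem Q54531 : ∀ i, i < 54531 → P i := stepQ 54530 Q54530 (allL N54530 (tt N28913 (iv1 D102210)) (tt N39091 F329001) (tt N39283 F329002) (tt N90719 D193668) (tt N57184 F329003) (tt N90720 D193669) (tt N39444 F329004) (tt N39120 F329005))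
theorem Q54532 : ∀ i, i < 54532 → P i := stepQ 54531 Q54531 (allL N54531 (tt N90721 D193670) (tt N90722 D193671) (tt N90718 (iv2 F390628)) (tt N28918 F157079) (tt N90723 D193672) (tt N28913 (iv5 D102211)) (tt N83691 (iv6 F288531)) (tt N39284 F329006))
theorem Q54533 : ∀ i, i < 54533 → P i := stepQ 54532 Q54532 (allL N54532 (tt N89247 (iv1 F385775)) (tt N28915 (iv0 D102217)) (tt N89244 F385761) (tt N90724 D193673) (tt N90725 D193674) (tt N88044 (iv5 F383642)) (tt N39517 F365459) (tt N89245 (iv7 F385764)))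
theorem Q54534 : ∀ i, i < 54534 → P i := stepQ 54533 Q54533 (allL N54533 (tt N28915 (iv1 D102218)) (tt N89247 F385774) (tt N89245 F385765) (tt N90726 D193675) (tt N90727 D193676) (tt N88045 (iv5 F381566)) (tt N90573 (iv6 F390145)) (tt N89244 F385762))
theorem Q54535 : ∀ i, i < 54535 → P i := stepQ 54534 Q54534 (allL N54534 (tt N87994 F381553) (tt N79324 (iv0 F365779)) (tt N89246 (iv2 F385767)) (tt N74104 F365374) (tt N55293 F365781) (tt N28915 (iv5 D102219)) (tt N84210 (iv6 F368523)) (tt N90728 D193677))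
theorem Q54536 : ∀ i, i < 54536 → P i := stepQ 54535 Q54535 (allL N54535 (tt N89245 (iv1 F385763)) (tt N89244 F385766) (tt N89247 (iv2 F385770)) (tt N32165 F329598) (tt N28919 F157082) (tt N90728 (iv5 F390664)) (tt N32164 F329599) (tt N28915 (iv7 D102220)))
theorem Q54537 : ∀ i, i < 54537 → P i := stepQ 54536 Q54536 (allL N54536 (tt N89259 (iv1 F385819)) (tt N28923 F381561) (tt N89248 (iv2 F385776)) (tt N90729 D193678) (tt N28916 (iv4 D102223)) (tt N88042 (iv5 F381560)) (tt N39543 F365508) (tt N89251 (iv7 F385789)))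
theorem Q54538 : ∀ i, i < 54538 → P i := stepQ 54537 Q54537 (allL N54537 (tt N82835 F365542) (tt N84170 (iv0 F368411)) (tt N89249 (iv2 F385782)) (tt N90355 (iv3 F389407)) (tt N54592 F365541) (tt N28916 (iv5 D102224)) (tt N84320 (iv6 F368891)) (tt N84302 (iv7 F368847)))
theorem Q54539 : ∀ i, i < 54539 → P i := stepQ 54538 Q54538 (allL N54538 (tt N89155 (iv1 F390673)) (tt N89192 (iv0 F390675)) (tt N89190 F385509) (tt N28917 (iv3 D102227)) (tt N90730 D193681) (tt N90731 D193682) (tt N90577 (iv6 F390153)) (tt N89189 (iv7 F385504)))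
theorem Q54540 : ∀ i, i < 54540 → P i := stepQ 54539 Q54539 (allL N54539 (tt N28923 F385781) (tt N89259 F385818) (tt N89251 (iv2 F385788)) (tt N78263 (iv3 F365375)) (tt N28917 (iv4 D102228)) (tt N88006 (iv5 F381454)) (tt N90578 (iv6 F390155)) (tt N89248 (iv7 F385779)))
theorem Q54541 : ∀ i, i < 54541 → P i := stepQ 54540 Q54540 (allL N54540 (tt N84170 (iv1 F368862)) (tt N82835 F368861) (tt N84302 F368849) (tt N90731 (iv3 F390676)) (tt N84035 (iv4 F368860)) (tt N28917 (iv5 D102229)) (tt N84306 (iv6 F368868)) (tt N89249 (iv7 F385783)))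
theorem Q54542 : ∀ i, i < 54542 → P i := stepQ 54541 Q54541 (allL N54541 (tt N84292 F368828) (tt N28918 (iv0 D102231)) (tt N84290 F368829) (tt N84333 F368939) (tt N49741 F368830) (tt N54364 F157085) (tt N90732 D193683) (tt N84291 F368831))
theorem Q54543 : ∀ i, i < 54543 → P i := stepQ 54542 Q54542 (allL N54542 (tt N28918 (iv1 D102232)) (tt N84292 F368826) (tt N84291 (iv2 F368832)) (tt N90733 D193684) (tt N90734 D193685) (tt N54363 (iv5 F157086)) (tt N90735 D193686) (tt N84290 F368833))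
theorem Q54544 : ∀ i, i < 54544 → P i := stepQ 54543 Q54543 (allL N54543 (tt N88824 (iv1 F384268)) (tt N88825 (iv0 F384272)) (tt N83503 (iv2 F365782)) (tt N84429 (iv3 F369247)) (tt N28918 (iv4 D102233)) (tt N83502 (iv5 F365783)) (tt N83692 (iv6 F288534)) (tt N90736 D193687))
theorem Q54545 : ∀ i, i < 54545 → P i := stepQ 54544 Q54544 (allL N54544 (tt N84291 (iv1 F368818)) (tt N84290 F368825) (tt N84292 (iv2 F368822)) (tt N39284 F329600) (tt N90736 (iv4 F390692)) (tt N28919 F157087) (tt N84301 (iv6 F368846)) (tt N28918 (iv7 D102234)))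
theorem Q54546 : ∀ i, i < 54546 → P i := stepQ 54545 Q54545 (allL N54545 (tt N28920 (iv1 D102236)) (tt N75931 F337142) (tt N75933 (iv2 F337143)) (tt N55132 F337144) (tt N75885 F337146) (tt N55112 F337145) (tt N90583 (iv6 F422927)) (tt N55111 F337138))
theorem Q54547 : ∀ i, i < 54547 → P i := stepQ 54546 Q54546 (allL N54546 (tt N55111 (iv1 F359294)) (tt N75933 F359293) (tt N28920 (iv2 D102237)) (tt N89252 (iv3 F385795)) (tt N90737 D193689) (tt N84400 (iv5 F369159)) (tt N90738 D193690) (tt N75931 (iv7 F337141)))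
theorem Q54548 : ∀ i, i < 54548 → P i := stepQ 54547 Q54547 (allL N54547 (tt N90739 D193691) (tt N71877 (iv0 F365376)) (tt N90737 (iv2 F390696)) (tt N84384 (iv3 F369104)) (tt N28920 (iv4 D102238)) (tt N75872 F346246) (tt N90740 D193692) (tt N89256 (iv7 F385812)))
theorem Q54549 : ∀ i, i < 54549 → P i := stepQ 54548 Q54548 (allL N54548 (tt N90741 D193693) (tt N90742 D193694) (tt N90738 (iv2 F390697)) (tt N28921 F157088) (tt N90740 (iv4 F390703)) (tt N90743 D193695) (tt N28920 (iv6 D102239)) (tt N90744 D193696))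
theorem Q54550 : ∀ i, i < 54550 → P i := stepQ 54549 Q54549 (allL N54549 (tt N90745 D193697) (tt N90746 D193698) (tt N89254 (iv2 F385804)) (tt N90743 (iv3 F390708)) (tt N86793 (iv4 F377223)) (tt N28921 (iv5 D102242)) (tt N81649 F353343) (tt N90747 D193699))
theorem Q54551 : ∀ i, i < 54551 → P i := stepQ 54550 Q54550 (allL N54550 (tt N78255 (iv1 F362572)) (tt N81613 F362573) (tt N89255 (iv2 F385807)) (tt N90744 (iv3 F390710)) (tt N84389 (iv4 F369115)) (tt N90747 (iv5 F390721)) (tt N89259 (iv6 F385817)) (tt N28921 (iv7 D102243)))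
theorem Q54552 : ∀ i, i < 54552 → P i := stepQ 54551 Q54551 (allL N54551 (tt N28922 (iv1 D102245)) (tt N89252 F385798) (tt N68119 F368773) (tt N88092 (iv3 F381775)) (tt N53923 (iv4 F368775)) (tt N84157 (iv5 F368776)) (tt N53922 (iv6 F368777)) (tt N84274 F368772))
theorem Q54553 : ∀ i, i < 54553 → P i := stepQ 54552 Q54552 (allL N54552 (tt N84274 (iv1 F368774)) (tt N68119 F365461) (tt N28922 (iv2 D102246)) (tt N75931 (iv3 F337140)) (tt N90748 D193700) (tt N84361 (iv5 F369050)) (tt N90749 D193701) (tt N89252 (iv7 F385796)))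
theorem Q54554 : ∀ i, i < 54554 → P i := stepQ 54553 Q54553 (allL N54553 (tt N90750 D193702) (tt N83207 (iv0 F361895)) (tt N90748 (iv2 F390722)) (tt N84406 (iv3 F369189)) (tt N28922 (iv4 D102247)) (tt N90751 D193703) (tt N90752 D193704) (tt N89253 (iv7 F385800)))
theorem Q54555 : ∀ i, i < 54555 → P i := stepQ 54554 Q54554 (allL N54554 (tt N41144 F385935) (tt N90753 D193705) (tt N90749 (iv2 F390723)) (tt N28923 F157089) (tt N90752 (iv4 F390724)) (tt N90754 D193706) (tt N28922 (iv6 D102248)) (tt N90755 D193707))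
theorem Q54556 : ∀ i, i < 54556 → P i := stepQ 54555 Q54555 (allL N54555 (tt N90756 D193708) (tt N79305 (iv0 F369053)) (tt N89258 (iv2 F385814)) (tt N90754 (iv3 F390730)) (tt N90757 D193709) (tt N28923 (iv5 D102251)) (tt N84363 (iv6 F369052)) (tt N90758 D193710))
theorem Q54557 : ∀ i, i < 54557 → P i := stepQ 54556 Q54556 (allL N54556 (tt N89251 (iv1 F385791)) (tt N89248 F385794) (tt N89259 (iv2 F385816)) (tt N90755 (iv3 F390732)) (tt N84410 (iv4 F369192)) (tt N90758 (iv5 F390746)) (tt N89255 (iv6 F385809)) (tt N28923 (iv7 D102252)))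
theorem Q54558 : ∀ i, i < 54558 → P i := stepQ 54557 Q54557 (allL N54557 (tt N28925 (iv1 F157092)) (tt N28924 (iv0 D102253)) (tt N28928 (iv2 F157090)) (tt N84270 (iv3 F368753)) (tt N90367 (iv4 F389433)) (tt N51943 (iv5 F366707)) (tt N55162 F366708) (tt N28926 F157091))
theorem Q54559 : ∀ i, i < 54559 → P i := stepQ 54558 Q54558 (allL N54558 (tt N28928 F378397) (tt N28926 F378398) (tt N28924 (iv2 D102254)) (tt N29151 F378400) (tt N90759 D193711) (tt N87118 F378399) (tt N90760 D193712) (tt N28925 (iv7 F157093)))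
theorem Q54560 : ∀ i, i < 54560 → P i := stepQ 54559 Q54559 (allL N54559 (tt N88092 F381777) (tt N68121 (iv0 F379440)) (tt N87474 (iv2 F379459)) (tt N28924 (iv3 D102255)) (tt N90761 D193713) (tt N87468 F379439) (tt N68077 (iv6 F379507)) (tt N90762 D193714))
theorem Q54561 : ∀ i, i < 54561 → P i := stepQ 54560 Q54560 (allL N54560 (tt N90763 D193715) (tt N90764 D193716) (tt N90759 (iv2 F390749)) (tt N90765 D193717) (tt N28924 (iv4 D102256)) (tt N90766 D193718) (tt N72209 (iv6 F379511)) (tt N90767 D193719))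
theorem Q54562 : ∀ i, i < 54562 → P i := stepQ 54561 Q54561 (allL N54561 (tt N87452 F390443) (tt N84198 F378434) (tt N87118 (iv2 F378393)) (tt N87468 (iv3 F379437)) (tt N90768 D193720) (tt N28924 (iv5 D102257)) (tt N80027 (iv6 F366709)) (tt N90769 D193721))
theorem Q54563 : ∀ i, i < 54563 → P i := stepQ 54562 Q54562 (allL N54562 (tt N78257 (iv1 F404163)) (tt N90713 (iv0 F390609)) (tt N90760 (iv2 F390752)) (tt N68077 F379509) (tt N72209 F379510) (tt N74176 (iv5 F379763)) (tt N28924 (iv6 D102258)) (tt N90770 D193723))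
theorem Q54564 : ∀ i, i < 54564 → P i := stepQ 54563 Q54563 (allL N54563 (tt N28926 F378409) (tt N28928 F378410) (tt N28925 F157094) (tt N90762 (iv3 F390763)) (tt N90767 (iv4 F390776)) (tt N90769 (iv5 F390786)) (tt N90771 D193724) (tt N28924 (iv7 D102259)))
theorem Q54565 : ∀ i, i < 54565 → P i := stepQ 54564 Q54564 (allL N54564 (tt N29153 F378402) (tt N29107 F378403) (tt N29150 F378404) (tt N28925 (iv3 D102260)) (tt N90772 D193725) (tt N87123 (iv5 F378429)) (tt N84638 F378405) (tt N29151 F378406))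
theorem Q54566 : ∀ i, i < 54566 → P i := stepQ 54565 Q54565 (allL N54565 (tt N90764 (iv1 F390773)) (tt N90763 (iv0 F390770)) (tt N90767 (iv2 F390775)) (tt N90773 D193726) (tt N28925 (iv4 D102261)) (tt N90774 D193727) (tt N90775 D193728) (tt N90759 (iv7 F390750)))
theorem Q54567 : ∀ i, i < 54567 → P i := stepQ 54566 Q54566 (allL N54566 (tt N84198 F378433) (tt N87452 F390788) (tt N90769 (iv2 F390784)) (tt N87123 (iv3 F378427)) (tt N90776 D193729) (tt N28925 (iv5 D102262)) (tt N87494 (iv6 F379546)) (tt N87118 F378401))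
theorem Q54568 : ∀ i, i < 54568 → P i := stepQ 54567 Q54567 (allL N54567 (tt N90729 (iv1 F443604)) (tt N90777 D193731) (tt N90771 (iv2 F390792)) (tt N84638 (iv3 F378407)) (tt N90775 (iv4 F390798)) (tt N84636 F378408) (tt N28925 (iv6 D102263)) (tt N90778 D193732))
theorem Q54569 : ∀ i, i < 54569 → P i := stepQ 54568 Q54568 (allL N54568 (tt N29148 F314184) (tt N79973 F314185) (tt N28927 F157097) (tt N55196 (iv3 F352737)) (tt N75993 F314186) (tt N28926 (iv5 D102266)) (tt N55207 (iv6 F350574)) (tt N51943 F314188))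
theorem Q54570 : ∀ i, i < 54570 → P i := stepQ 54569 Q54569 (allL N54569 (tt N51943 F314179) (tt N28927 (iv0 D102267)) (tt N29148 F325805) (tt N44155 F325806) (tt N29841 F314180) (tt N71058 F325807) (tt N44153 F325808) (tt N79973 F325809))
theorem Q54571 : ∀ i, i < 54571 → P i := stepQ 54570 Q54570 (allL N54570 (tt N28927 (iv1 D102268)) (tt N51943 F314181) (tt N79973 F319839) (tt N29105 F314182) (tt N29840 F314183) (tt N90658 F390435) (tt N88240 (iv6 F382313)) (tt N29148 F319840))
theorem Q54572 : ∀ i, i < 54572 → P i := stepQ 54571 Q54571 (allL N54571 (tt N75992 F311506) (tt N55813 (iv0 F340923)) (tt N75993 F311508) (tt N43031 F311509) (tt N28927 (iv4 D102269)) (tt N90779 D193733) (tt N90780 D193734) (tt N34699 F311510))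
theorem Q54573 : ∀ i, i < 54573 → P i := stepQ 54572 Q54572 (allL N54572 (tt N55208 F357185) (tt N55123 F357186) (tt N55207 F357183) (tt N28929 F157098) (tt N90780 (iv4 F390812)) (tt N57640 (iv5 F357175)) (tt N28927 (iv6 D102270)) (tt N51942 F357184))
theorem Q54574 : ∀ i, i < 54574 → P i := stepQ 54573 Q54573 (allL N54573 (tt N90781 D193735) (tt N29171 F314176) (tt N55162 F314177) (tt N28930 F157099) (tt N53970 F365232) (tt N29130 F314178) (tt N28928 (iv6 D102271)) (tt N85265 (iv7 F372073)))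
theorem Q54575 : ∀ i, i < 54575 → P i := stepQ 54574 Q54574 (allL N54574 (tt N84157 (iv1 F368390)) (tt N28929 (iv0 D102272)) (tt N54720 (iv2 F357211)) (tt N55110 F357212) (tt N84345 (iv4 F369002)) (tt N89288 (iv5 F385926)) (tt N90782 D193736) (tt N75928 F357213))
theorem Q54576 : ∀ i, i < 54576 → P i := stepQ 54575 Q54575 (allL N54575 (tt N75928 (iv1 F357203)) (tt N54720 (iv0 F357191)) (tt N84157 (iv2 F368385)) (tt N51942 (iv3 F357187)) (tt N83846 (iv4 F289454)) (tt N68119 F357189) (tt N51941 (iv6 F306780)) (tt N28929 (iv7 D102274)))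
theorem Q54577 : ∀ i, i < 54577 → P i := stepQ 54576 Q54576 (allL N54576 (tt N84273 (iv1 F368769)) (tt N28930 (iv0 D102275)) (tt N84271 F385849) (tt N55119 (iv3 F385845)) (tt N89266 (iv4 F385844)) (tt N90783 D193737) (tt N90784 D193738) (tt N84272 F385846))
theorem Q54578 : ∀ i, i < 54578 → P i := stepQ 54577 Q54577 (allL N54577 (tt N28930 (iv1 D102276)) (tt N84273 F368766) (tt N84272 (iv2 F385848)) (tt N90785 D193739) (tt N89267 (iv4 F385854)) (tt N90786 D193740) (tt N90787 D193741) (tt N84271 (iv7 F385851)))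
theorem Q54579 : ∀ i, i < 54579 → P i := stepQ 54578 Q54578 (allL N54578 (tt N39467 F346665) (tt N39466 F346666) (tt N39469 F346667) (tt N28931 (iv3 D102279)) (tt N89206 (iv4 F385587)) (tt N90788 D193742) (tt N89205 F385584) (tt N39462 F346668))
theorem Q54580 : ∀ i, i < 54580 → P i := stepQ 54579 Q54579 (allL N54579 (tt N87058 (iv1 F378228)) (tt N52190 F352900) (tt N74197 (iv2 F346655)) (tt N48964 F352901) (tt N28931 (iv4 D102280)) (tt N48962 F352902) (tt N90789 D193743) (tt N48961 F352903))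
theorem Q54581 : ∀ i, i < 54581 → P i := stepQ 54580 Q54580 (allL N54580 (tt N90790 D193744) (tt N90791 D193745) (tt N89260 (iv2 F385820)) (tt N90788 (iv3 F390869)) (tt N85475 (iv4 F372750)) (tt N28931 (iv5 D102281)) (tt N85480 (iv6 F372771)) (tt N89261 (iv7 F385825)))
theorem Q54582 : ∀ i, i < 54582 → P i := stepQ 54581 Q54581 (allL N54581 (tt N39556 F346631) (tt N39555 F346632) (tt N39558 F346633) (tt N89205 F385583) (tt N90789 (iv4 F390875)) (tt N53963 F157101) (tt N28931 (iv6 D102282)) (tt N39550 F346634))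
theorem Q54583 : ∀ i, i < 54583 → P i := stepQ 54582 Q54582 (allL N54582 (tt N52190 F346620) (tt N87058 F378227) (tt N48961 F346621) (tt N39114 F346622) (tt N28932 (iv4 D102285)) (tt N48960 F346623) (tt N39113 F346624) (tt N74197 F346625))
theorem Q54584 : ∀ i, i < 54584 → P i := stepQ 54583 Q54583 (allL N54583 (tt N90791 (iv1 F390884)) (tt N90790 F390880) (tt N89261 (iv2 F385823)) (tt N39129 F346626) (tt N90792 D193746) (tt N28932 (iv5 D102286)) (tt N90793 D193747) (tt N89260 (iv7 F385822)))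
theorem Q54585 : ∀ i, i < 54585 → P i := stepQ 54584 Q54584 (allL N54584 (tt N81393 (iv1 F274883)) (tt N28933 (iv0 D102288)) (tt N71210 F352865) (tt N90794 D193748) (tt N90795 D193749) (tt N71204 (iv5 F352863)) (tt N90796 D193750) (tt N88418 (iv7 F382959)))
theorem Q54586 : ∀ i, i < 54586 → P i := stepQ 54585 Q54585 (allL N54585 (tt N28933 (iv1 D102289)) (tt N81393 F274882) (tt N88418 (iv2 F382961)) (tt N71219 (iv3 F359414)) (tt N90797 D193751) (tt N71211 (iv5 F359415)) (tt N90798 D193752) (tt N71210 F359413))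
theorem Q54587 : ∀ i, i < 54587 → P i := stepQ 54586 Q54586 (allL N54586 (tt N90799 D193753) (tt N90800 D193754) (tt N88417 (iv2 F382956)) (tt N90801 D193755) (tt N28933 (iv4 D102290)) (tt N90802 D193756) (tt N28934 F157103) (tt N90601 (iv7 F390217)))
theorem Q54588 : ∀ i, i < 54588 → P i := stepQ 54587 Q54587 (allL N54587 (tt N90803 D193757) (tt N90804 D193758) (tt N90805 D193759) (tt N28934 (iv3 D102291)) (tt N49124 F157104) (tt N73365 (iv5 F346092)) (tt N90801 (iv6 F390909)) (tt N28953 F157105))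
theorem Q54589 : ∀ i, i < 54589 → P i := stepQ 54588 Q54588 (allL N54588 (tt N85462 (iv1 F372707)) (tt N28935 (iv0 D102300)) (tt N85479 (iv2 F372770)) (tt N49085 F356203) (tt N89465 (iv4 F386591)) (tt N49677 F356204) (tt N89467 (iv6 F386595)) (tt N85478 F372766))
theorem Q54590 : ∀ i, i < 54590 → P i := stepQ 54589 Q54589 (allL N54589 (tt N28935 (iv1 D102301)) (tt N85462 (iv0 F372708)) (tt N85478 F372764) (tt N90806 D193760) (tt N90807 D193761) (tt N49678 (iv5 F287610)) (tt N90808 D193762) (tt N85479 (iv7 F372768)))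
theorem Q54591 : ∀ i, i < 54591 → P i := stepQ 54590 Q54590 (allL N54590 (tt N83486 F287609) (tt N77403 F364815) (tt N89892 (iv2 F387889)) (tt N90610 (iv3 F390262)) (tt N28935 (iv4 D102302)) (tt N90809 D193763) (tt N90608 F390256) (tt N85480 (iv7 F372772)))
theorem Q54592 : ∀ i, i < 54592 → P i := stepQ 54591 Q54591 (allL N54591 (tt N88734 F383983) (tt N90810 D193764) (tt N89893 (iv2 F387891)) (tt N28940 F157119) (tt N90608 (iv4 F390246)) (tt N90811 D193765) (tt N28935 (iv6 D102303)) (tt N90812 D193766))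
theorem Q54593 : ∀ i, i < 54593 → P i := stepQ 54592 Q54592 (allL N54592 (tt N49540 F289696) (tt N90813 D193767) (tt N89894 (iv2 F387892)) (tt N28941 F157120) (tt N54537 (iv4 F365541)) (tt N28936 (iv5 D102306)) (tt N90811 (iv6 F390941)) (tt N49750 F157121))
theorem Q54594 : ∀ i, i < 54594 → P i := stepQ 54593 Q54593 (allL N54593 (tt N48814 (iv1 F160580)) (tt N48810 (iv0 F157644)) (tt N49070 F157122) (tt N28937 (iv3 D102307)) (tt N83340 F358598) (tt N49534 F157123) (tt N83339 (iv6 F358603)) (tt N84738 (iv7 F370429)))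
theorem Q54595 : ∀ i, i < 54595 → P i := stepQ 54594 Q54594 (allL N54594 (tt N29052 F157125) (tt N29048 F157126) (tt N52175 F157124) (tt N83342 (iv3 F358594)) (tt N28937 (iv4 D102308)) (tt N49880 F347711) (tt N83341 F358599) (tt N84491 (iv7 F369525)))
theorem Q54596 : ∀ i, i < 54596 → P i := stepQ 54595 Q54595 (allL N54595 (tt N90793 F390894) (tt N90608 (iv0 F390248)) (tt N52173 F157127) (tt N83339 F358601) (tt N83341 (iv4 F358600)) (tt N49536 F157128) (tt N28937 (iv6 D102309)) (tt N90814 D193768))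
theorem Q54597 : ∀ i, i < 54597 → P i := stepQ 54596 Q54596 (allL N54596 (tt N29048 F157130) (tt N29052 F157131) (tt N84491 (iv2 F369523)) (tt N90815 D193769) (tt N28938 (iv4 D102310)) (tt N50789 F347712) (tt N90139 (iv6 F388662)) (tt N52175 F157129))
theorem Q54598 : ∀ i, i < 54598 → P i := stepQ 54597 Q54597 (allL N54597 (tt N28939 (iv1 D102311)) (tt N28943 F157132) (tt N54813 (iv2 F157914)) (tt N90816 D193770) (tt N50048 (iv4 F291161)) (tt N50028 F347714) (tt N90817 D193771) (tt N54810 (iv7 F157906)))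
theorem Q54599 : ∀ i, i < 54599 → P i := stepQ 54598 Q54598 (allL N54598 (tt N88409 (iv1 F382923)) (tt N28940 (iv0 D102315)) (tt N83348 (iv2 F390253)) (tt N90818 D193772) (tt N90819 D193773) (tt N90820 D193774) (tt N90611 F390267) (tt N88408 (iv7 F390254)))
theorem Q54600 : ∀ i, i < 54600 → P i := stepQ 54599 Q54599 (allL N54599 (tt N28940 (iv1 D102316)) (tt N88409 F382921) (tt N88408 F390249) (tt N49079 F390250) (tt N90821 D193775) (tt N90732 (iv5 F390680)) (tt N90791 F390888) (tt N83348 F390251))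
theorem Q54601 : ∀ i, i < 54601 → P i := stepQ 54600 Q54600 (allL N54600 (tt N90822 D193776) (tt N90823 D193777) (tt N49755 F157137) (tt N90811 (iv3 F390940)) (tt N86028 (iv4 F374949)) (tt N28940 (iv5 D102317)) (tt N28941 F157138) (tt N90824 D193778))
theorem Q54602 : ∀ i, i < 54602 → P i := stepQ 54601 Q54601 (allL N54601 (tt N88408 (iv1 F382915)) (tt N83348 F382920) (tt N88409 (iv2 F382916)) (tt N90812 (iv3 F390943)) (tt N81379 F366712) (tt N90824 (iv5 F390990)) (tt N85488 (iv6 F372800)) (tt N28940 (iv7 D102318)))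
theorem Q54603 : ∀ i, i < 54603 → P i := stepQ 54602 Q54602 (allL N54602 (tt N88403 (iv1 F382894)) (tt N28942 (iv0 D102322)) (tt N88405 F382905) (tt N90825 D193779) (tt N62022 F357611) (tt N71859 (iv5 F357612)) (tt N90091 (iv6 F388538)) (tt N88404 F382899))
theorem Q54604 : ∀ i, i < 54604 → P i := stepQ 54603 Q54603 (allL N54603 (tt N28942 (iv1 D102323)) (tt N88403 (iv0 F382893)) (tt N88404 F382898) (tt N49062 F357605) (tt N62019 F357602) (tt N49584 (iv5 F338454)) (tt N90826 D193780) (tt N88405 (iv7 F382902)))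
theorem Q54605 : ∀ i, i < 54605 → P i := stepQ 54604 Q54604 (allL N54604 (tt N40765 F357603) (tt N83475 (iv0 F287599)) (tt N90028 (iv2 F388337)) (tt N90827 D193781) (tt N28942 (iv4 D102324)) (tt N77886 F357604) (tt N90828 D193782) (tt N88406 (iv7 F382908)))
theorem Q54606 : ∀ i, i < 54606 → P i := stepQ 54605 Q54605 (allL N54605 (tt N90829 D193783) (tt N90830 D193784) (tt N90029 (iv2 F388342)) (tt N28944 F157143) (tt N90828 (iv4 F391002)) (tt N84866 (iv5 F370909)) (tt N28942 (iv6 D102325)) (tt N90831 D193785))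
theorem Q54607 : ∀ i, i < 54607 → P i := stepQ 54606 Q54606 (allL N54606 (tt N62907 (iv1 F346080)) (tt N62963 F346081) (tt N62961 F346079) (tt N28943 (iv3 D102328)) (tt N90827 (iv4 F391001)) (tt N77631 F346082) (tt N90832 D193786) (tt N62960 (iv7 F346078)))
theorem Q54608 : ∀ i, i < 54608 → P i := stepQ 54607 Q54607 (allL N54607 (tt N90808 F390936) (tt N90833 D193787) (tt N85487 (iv2 F372796)) (tt N90832 (iv3 F391005)) (tt N28944 F157146) (tt N90834 D193788) (tt N28943 (iv6 D102330)) (tt N90835 D193789))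
theorem Q54609 : ∀ i, i < 54609 → P i := stepQ 54608 Q54608 (allL N54608 (tt N85488 (iv1 F372802)) (tt N28944 (iv0 D102331)) (tt N85485 F372791) (tt N49093 F372792) (tt N90836 D193790) (tt N85598 (iv5 F373179)) (tt N77403 F372793) (tt N85486 F372794))
theorem Q54610 : ∀ i, i < 54610 → P i := stepQ 54609 Q54609 (allL N54609 (tt N28944 (iv1 D102332)) (tt N85488 F372801) (tt N85486 (iv2 F372786)) (tt N90837 D193791) (tt N90838 D193792) (tt N84074 (iv5 F368021)) (tt N81375 (iv6 F338092)) (tt N85485 F372790))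
theorem Q54611 : ∀ i, i < 54611 → P i := stepQ 54610 Q54610 (allL N54610 (tt N85486 (iv1 F372783)) (tt N85485 F372795) (tt N85488 (iv2 F372798)) (tt N90831 (iv3 F391004)) (tt N90835 (iv4 F391009)) (tt N84869 (iv5 F370925)) (tt N88409 (iv6 F382919)) (tt N28944 (iv7 D102333)))
theorem Q54612 : ∀ i, i < 54612 → P i := stepQ 54611 Q54611 (allL N54611 (tt N83467 (iv1 F287575)) (tt N77461 F368567) (tt N88413 (iv2 F382935)) (tt N84219 (iv3 F368553)) (tt N28945 (iv4 D102337)) (tt N89586 (iv5 F386838)) (tt N84220 (iv6 F368560)) (tt N28947 F361675))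
theorem Q54613 : ∀ i, i < 54613 → P i := stepQ 54612 Q54612 (allL N54612 (tt N90839 D193793) (tt N90840 D193794) (tt N89895 (iv2 F387898)) (tt N28947 F157147) (tt N84220 (iv4 F368558)) (tt N89582 (iv5 F386820)) (tt N28945 (iv6 D102338)) (tt N84219 F368555))
theorem Q54614 : ∀ i, i < 54614 → P i := stepQ 54613 Q54613 (allL N54613 (tt N28949 (iv1 F157150)) (tt N28946 (iv0 D102339)) (tt N53502 (iv2 F157149)) (tt N64771 F358615) (tt N49791 F157148) (tt N50032 F347705) (tt N90841 D193795) (tt N53175 F157151))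
theorem Q54615 : ∀ i, i < 54615 → P i := stepQ 54614 Q54614 (allL N54614 (tt N88413 (iv1 F382940)) (tt N28947 (iv0 D102343)) (tt N77461 (iv2 F368565)) (tt N90842 D193796) (tt N51703 F361676) (tt N90843 D193797) (tt N90625 (iv6 F390315)) (tt N83467 (iv7 F361677)))
theorem Q54616 : ∀ i, i < 54616 → P i := stepQ 54615 Q54615 (allL N54615 (tt N28947 (iv1 D102344)) (tt N88413 F382939) (tt N83467 F368566) (tt N49105 F368563) (tt N83464 (iv4 F368568)) (tt N90844 D193798) (tt N90845 D193799) (tt N77461 F368564))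
theorem Q54617 : ∀ i, i < 54617 → P i := stepQ 54616 Q54616 (allL N54616 (tt N77632 F346064) (tt N90846 D193800) (tt N88412 (iv2 F382931)) (tt N28950 F157154) (tt N62066 F360180) (tt N33735 F346065) (tt N28948 (iv6 D102350)) (tt N90847 D193801))
theorem Q54618 : ∀ i, i < 54618 → P i := stepQ 54617 Q54617 (allL N54617 (tt N90846 (iv1 F391041)) (tt N77632 (iv0 F352987)) (tt N90847 (iv2 F391043)) (tt N28949 (iv3 D102351)) (tt N62062 (iv4 F352986)) (tt N33734 F352985) (tt N90848 D193802) (tt N88412 (iv7 F382934)))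
theorem Q54619 : ∀ i, i < 54619 → P i := stepQ 54618 Q54618 (allL N54618 (tt N50774 F352989) (tt N50780 (iv0 F347713)) (tt N84191 (iv2 F368468)) (tt N33734 F352984) (tt N29058 F157155) (tt N28949 (iv5 D102352)) (tt N59257 F352980) (tt N84178 (iv7 F368432)))
theorem Q54620 : ∀ i, i < 54620 → P i := stepQ 54619 Q54619 (allL N54619 (tt N90840 (iv1 F391018)) (tt N90839 F391017) (tt N84219 (iv2 F368552)) (tt N90848 (iv3 F391046)) (tt N28950 F157156) (tt N59258 (iv5 F352988)) (tt N28949 (iv6 D102353)) (tt N89895 (iv7 F387900)))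
theorem Q54621 : ∀ i, i < 54621 → P i := stepQ 54620 Q54620 (allL N54620 (tt N84220 (iv1 F368562)) (tt N28950 (iv0 D102354)) (tt N84217 F368544) (tt N43776 F368545) (tt N90849 D193803) (tt N43774 F368546) (tt N85483 F372780) (tt N84218 (iv7 F368548)))
theorem Q54622 : ∀ i, i < 54622 → P i := stepQ 54621 Q54621 (allL N54621 (tt N28950 (iv1 D102355)) (tt N84220 F368561) (tt N84218 (iv2 F368550)) (tt N77387 F368364) (tt N77388 (iv4 F368365)) (tt N84154 (iv5 F368363)) (tt N83038 (iv6 F368366)) (tt N84217 F368542))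
theorem Q54623 : ∀ i, i < 54623 → P i := stepQ 54622 Q54622 (allL N54622 (tt N84218 (iv1 F368547)) (tt N84217 (iv0 F368543)) (tt N84220 (iv2 F368556)) (tt N90847 (iv3 F391044)) (tt N89895 (iv4 F387899)) (tt N83858 (iv5 F289487)) (tt N88413 (iv6 F382938)) (tt N28950 (iv7 D102356)))
theorem Q54624 : ∀ i, i < 54624 → P i := stepQ 54623 Q54623 (allL N54623 (tt N90850 D193804) (tt N90851 D193805) (tt N90852 D193806) (tt N28951 (iv3 D102357)) (tt N90853 D193807) (tt N85371 (iv5 F372386)) (tt N53496 (iv6 F372389)) (tt N84377 (iv7 F369072)))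
theorem Q54625 : ∀ i, i < 54625 → P i := stepQ 54624 Q54624 (allL N54624 (tt N51703 F370380) (tt N83464 F378194) (tt N83465 (iv2 F378896)) (tt N53496 F372390) (tt N84379 (iv4 F369080)) (tt N82994 (iv5 F378214)) (tt N28951 (iv6 D102359)) (tt N83466 (iv7 F378900)))
theorem Q54626 : ∀ i, i < 54626 → P i := stepQ 54625 Q54625 (allL N54625 (tt N90854 D193808) (tt N90855 D193809) (tt N90856 D193810) (tt N28952 (iv3 D102360)) (tt N81373 F382951) (tt N90857 D193811) (tt N90858 D193812) (tt N88414 (iv7 F382941)))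
theorem Q54627 : ∀ i, i < 54627 → P i := stepQ 54626 Q54626 (allL N54626 (tt N50044 F347708) (tt N49882 F347710) (tt N84378 (iv2 F369073)) (tt N90857 (iv3 F391062)) (tt N29056 F157158) (tt N28952 (iv5 D102361)) (tt N90859 D193813) (tt N84390 (iv7 F369118)))
theorem Q54628 : ∀ i, i < 54628 → P i := stepQ 54627 Q54627 (allL N54627 (tt N90849 F391047) (tt N77388 (iv0 F390923)) (tt N84373 (iv2 F369061)) (tt N90858 (iv3 F391065)) (tt N83881 F367350) (tt N90860 D193814) (tt N28952 (iv6 D102362)) (tt N90861 D193815))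
theorem Q54629 : ∀ i, i < 54629 → P i := stepQ 54628 Q54628 (allL N54628 (tt N90805 (iv1 F390927)) (tt N28953 (iv0 D102363)) (tt N90804 (iv2 F390919)) (tt N90862 D193816) (tt N90863 D193817) (tt N63036 F356857) (tt N53685 F362127) (tt N90803 F390916))
theorem Q54630 : ∀ i, i < 54630 → P i := stepQ 54629 Q54629 (allL N54629 (tt N28953 (iv1 D102364)) (tt N90805 F390928) (tt N90803 F390913) (tt N90864 D193818) (tt N90865 D193819) (tt N63033 F366939) (tt N83313 (iv6 F366938)) (tt N90804 (iv7 F390917)))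
theorem Q54631 : ∀ i, i < 54631 → P i := stepQ 54630 Q54630 (allL N54630 (tt N90804 F390922) (tt N90803 F390912) (tt N28953 (iv2 D102365)) (tt N88415 (iv3 F382944)) (tt N49122 F157159) (tt N90866 D193820) (tt N90631 (iv6 F390324)) (tt N90805 (iv7 F390926)))
theorem Q54632 : ∀ i, i < 54632 → P i := stepQ 54631 Q54631 (allL N54631 (tt N45275 F346087) (tt N90867 D193821) (tt N90866 (iv2 F391084)) (tt N28954 F157160) (tt N73367 (iv4 F346088)) (tt N28953 (iv5 D102366)) (tt N90868 D193822) (tt N73365 F346090))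
theorem Q54633 : ∀ i, i < 54633 → P i := stepQ 54632 Q54632 (allL N54632 (tt N90869 D193823) (tt N90870 D193824) (tt N84727 (iv2 F370372)) (tt N90868 (iv3 F391097)) (tt N51299 F367268) (tt N90635 (iv5 F390333)) (tt N28954 (iv6 D102369)) (tt N90871 D193825))
theorem Q54634 : ∀ i, i < 54634 → P i := stepQ 54633 Q54633 (allL N54633 (tt N48812 F157169) (tt N54943 (iv0 F158383)) (tt N85477 (iv2 F372755)) (tt N28955 (iv3 D102370)) (tt N49166 F157168) (tt N90872 D193826) (tt N87803 (iv6 F380573)) (tt N49008 F289652))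
theorem Q54635 : ∀ i, i < 54635 → P i := stepQ 54634 Q54634 (allL N54634 (tt N49108 F336766) (tt N48824 F336767) (tt N49081 F157171) (tt N90872 (iv3 F391115)) (tt N90873 D193827) (tt N28955 (iv5 D102371)) (tt N90874 D193828) (tt N49009 F289653))
theorem Q54636 : ∀ i, i < 54636 → P i := stepQ 54635 Q54635 (allL N54635 (tt N49085 (iv1 F157180)) (tt N49084 F157181) (tt N28957 F157177) (tt N49059 F157178) (tt N90875 D193829) (tt N28956 (iv5 D102375)) (tt N83353 (iv6 F364067)) (tt N49082 F157179))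
theorem Q54637 : ∀ i, i < 54637 → P i := stepQ 54636 Q54636 (allL N54636 (tt N49015 F356413) (tt N54645 F157206) (tt N28958 F157182) (tt N49060 F157183) (tt N28973 F157184) (tt N82694 (iv5 F283645)) (tt N28956 (iv6 D102376)) (tt N54646 (iv7 F157209)))
theorem Q54638 : ∀ i, i < 54638 → P i := stepQ 54637 Q54637 (allL N54637 (tt N49082 (iv1 F157185)) (tt N28957 (iv0 D102377)) (tt N49085 F290111) (tt N90876 D193830) (tt N90877 D193831) (tt N80550 F290112) (tt N90878 D193832) (tt N49084 F290113))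
theorem Q54639 : ∀ i, i < 54639 → P i := stepQ 54638 Q54638 (allL N54638 (tt N28957 (iv1 D102378)) (tt N49082 F157186) (tt N49084 F290114) (tt N85478 F372765) (tt N90879 D193833) (tt N83412 F356392) (tt N90880 D193834) (tt N49085 F290115))
theorem Q54640 : ∀ i, i < 54640 → P i := stepQ 54639 Q54639 (allL N54639 (tt N88605 (iv1 F383576)) (tt N90881 D193835) (tt N90875 (iv2 F391123)) (tt N83329 F364069) (tt N28957 (iv4 D102379)) (tt N90882 D193836) (tt N83328 (iv6 F364068)) (tt N49086 F157187))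
theorem Q54641 : ∀ i, i < 54641 → P i := stepQ 54640 Q54640 (allL N54640 (tt N54646 (iv1 F157210)) (tt N28958 (iv0 D102381)) (tt N49015 F352768) (tt N89115 (iv3 F385216)) (tt N80613 F352769) (tt N84326 (iv5 F368911)) (tt N49011 F352770) (tt N54645 (iv7 F356418)))
theorem Q54642 : ∀ i, i < 54642 → P i := stepQ 54641 Q54641 (allL N54641 (tt N28958 (iv1 D102382)) (tt N54646 F157212) (tt N54645 F356419) (tt N84876 F370966) (tt N85452 (iv4 F372663)) (tt N84327 (iv5 F368917)) (tt N48642 F352773) (tt N49015 F352772))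
theorem Q54643 : ∀ i, i < 54643 → P i := stepQ 54642 Q54642 (allL N54642 (tt N48810 (iv1 F157645)) (tt N48814 F160578) (tt N84738 (iv2 F370427)) (tt N28959 (iv3 D102383)) (tt N90883 D193837) (tt N82729 (iv5 F283700)) (tt N90884 D193838) (tt N49070 F157189))
theorem Q54644 : ∀ i, i < 54644 → P i := stepQ 54643 Q54643 (allL N54643 (tt N48840 F157192) (tt N48842 F157193) (tt N49073 F157190) (tt N90885 D193839) (tt N28959 (iv4 D102384)) (tt N55606 (iv5 F294288)) (tt N90886 D193840) (tt N49071 F157191))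
theorem Q54645 : ∀ i, i < 54645 → P i := stepQ 54644 Q54644 (allL N54644 (tt N43810 F310887) (tt N90887 D193841) (tt N49074 F157194) (tt N90884 (iv3 F391151)) (tt N90886 (iv4 F391157)) (tt N49002 F157195) (tt N28959 (iv6 D102385)) (tt N90888 D193842))
theorem Q54646 : ∀ i, i < 54646 → P i := stepQ 54645 Q54645 (allL N54645 (tt N54636 (iv1 F157206)) (tt N28961 (iv0 D102391)) (tt N54641 (iv2 F356419)) (tt N90889 D193843) (tt N82774 (iv4 F356511)) (tt N82680 (iv5 F356423)) (tt N50004 (iv6 F356421)) (tt N54640 F356418))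
theorem Q54647 : ∀ i, i < 54647 → P i := stepQ 54646 Q54646 (allL N54646 (tt N54641 (iv1 F157212)) (tt N54640 F157210) (tt N28961 (iv2 D102393)) (tt N83321 (iv3 F287414)) (tt N29006 F157208) (tt N88442 (iv5 F383066)) (tt N50571 (iv6 F295077)) (tt N54636 F157209))
theorem Q54648 : ∀ i, i < 54648 → P i := stepQ 54647 Q54647 (allL N54647 (tt N84325 (iv1 F368910)) (tt N52805 (iv0 F363077)) (tt N88442 F383067) (tt N28962 F157213) (tt N90890 D193844) (tt N28961 (iv5 D102394)) (tt N90891 D193845) (tt N48587 F157214))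
theorem Q54649 : ∀ i, i < 54649 → P i := stepQ 54648 Q54648 (allL N54648 (tt N82708 (iv1 F283669)) (tt N82627 (iv0 F283294)) (tt N48585 F157215) (tt N90892 D193846) (tt N28962 (iv4 D102395)) (tt N48822 F157216) (tt N90893 D193847) (tt N48588 F157217))
theorem Q54650 : ∀ i, i < 54650 → P i := stepQ 54649 Q54649 (allL N54649 (tt N90894 D193848) (tt N90895 D193849) (tt N48586 F157218) (tt N90891 (iv3 F391188)) (tt N90893 (iv4 F391193)) (tt N50574 (iv5 F295287)) (tt N28962 (iv6 D102396)) (tt N90893 (iv7 F391195)))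
theorem Q54651 : ∀ i, i < 54651 → P i := stepQ 54650 Q54650 (allL N54650 (tt N89282 (iv1 F385910)) (tt N28981 F342515) (tt N84987 (iv2 F371278)) (tt N39773 F331212) (tt N58904 F331213) (tt N28963 (iv5 D102397)) (tt N39760 F331214) (tt N84986 (iv7 F371274)))
theorem Q54652 : ∀ i, i < 54652 → P i := stepQ 54651 Q54651 (allL N54651 (tt N28981 F157222) (tt N89282 F385911) (tt N84986 (iv2 F371272)) (tt N47549 F365115) (tt N90896 D193850) (tt N28964 (iv5 D102399)) (tt N90897 D193851) (tt N84987 (iv7 F371280)))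
theorem Q54653 : ∀ i, i < 54653 → P i := stepQ 54652 Q54652 (allL N54652 (tt N81480 F368974) (tt N84989 F371296) (tt N28966 F157329) (tt N89262 (iv3 F385829)) (tt N90898 D193852) (tt N28965 (iv5 D102401)) (tt N90899 D193853) (tt N84985 (iv7 F371265)))
theorem Q54654 : ∀ i, i < 54654 → P i := stepQ 54653 Q54653 (allL N54653 (tt N84985 (iv1 F371266)) (tt N28966 (iv0 D102402)) (tt N81480 (iv2 F363852)) (tt N63338 F363851) (tt N77088 (iv4 F363853)) (tt N83899 F367443) (tt N90900 D193854) (tt N84989 (iv7 F371297)))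
theorem Q54655 : ∀ i, i < 54655 → P i := stepQ 54654 Q54654 (allL N54654 (tt N28966 (iv1 D102403)) (tt N84985 F371267) (tt N84989 F371295) (tt N79245 (iv3 F363857)) (tt N90901 D193855) (tt N84381 F369091) (tt N90902 D193856) (tt N81480 F363856))
theorem Q54656 : ∀ i, i < 54656 → P i := stepQ 54655 Q54655 (allL N54655 (tt N90903 D193857) (tt N54202 F157330) (tt N90898 (iv2 F391210)) (tt N87200 (iv3 F378737)) (tt N28966 (iv4 D102404)) (tt N90904 D193858) (tt N87705 (iv6 F380202)) (tt N84990 (iv7 F371299)))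
theorem Q54657 : ∀ i, i < 54657 → P i := stepQ 54656 Q54656 (allL N54656 (tt N63360 F359407) (tt N90905 D193859) (tt N90899 (iv2 F391214)) (tt N28968 F157331) (tt N87705 (iv4 F380200)) (tt N89348 (iv5 F386212)) (tt N28966 (iv6 D102405)) (tt N90906 D193860))
theorem Q54658 : ∀ i, i < 54658 → P i := stepQ 54657 Q54657 (allL N54657 (tt N88634 F383661) (tt N28968 (iv0 D102408)) (tt N89266 F385850) (tt N89118 (iv3 F385226)) (tt N84271 F368768) (tt N90907 D193861) (tt N90908 D193862) (tt N89267 (iv7 F385853)))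
theorem Q54659 : ∀ i, i < 54659 → P i := stepQ 54658 Q54658 (allL N54658 (tt N28968 (iv1 D102409)) (tt N88634 F383660) (tt N89267 F385855) (tt N71386 F372066) (tt N84272 F372065) (tt N90909 D193863) (tt N71384 (iv6 F372068)) (tt N89266 F385847))
theorem Q54660 : ∀ i, i < 54660 → P i := stepQ 54659 Q54659 (allL N54659 (tt N89267 (iv1 F385852)) (tt N89266 F385843) (tt N88634 (iv2 F383657)) (tt N90906 (iv3 F391222)) (tt N55082 F359406) (tt N88616 (iv5 F383596)) (tt N83919 (iv6 F367495)) (tt N28968 (iv7 D102410)))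
theorem Q54661 : ∀ i, i < 54661 → P i := stepQ 54660 Q54660 (allL N54660 (tt N48813 F157376) (tt N48809 (iv0 F157379)) (tt N54497 F157373) (tt N28970 (iv3 D102416)) (tt N54497 F157374) (tt N90910 D193864) (tt N53450 (iv6 F289734)) (tt N47818 F289759))
theorem Q54662 : ∀ i, i < 54662 → P i := stepQ 54661 Q54661 (allL N54661 (tt N47847 F289760) (tt N47846 F289761) (tt N47849 (iv2 F289772)) (tt N90910 (iv3 F391239)) (tt N90911 D193865) (tt N28970 (iv5 D102417)) (tt N90912 D193866) (tt N47822 F289762))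
theorem Q54663 : ∀ i, i < 54663 → P i := stepQ 54662 Q54662 (allL N54662 (tt N54212 F352686) (tt N89375 F386274) (tt N76598 (iv2 F357234)) (tt N44203 F327686) (tt N28971 (iv4 D102421)) (tt N90913 D193867) (tt N61898 F327687) (tt N65012 (iv7 F357237)))
theorem Q54664 : ∀ i, i < 54664 → P i := stepQ 54663 Q54663 (allL N54663 (tt N89299 (iv1 F385981)) (tt N89298 F385977) (tt N28976 F157397) (tt N90914 D193868) (tt N28972 (iv4 D102438)) (tt N90915 D193869) (tt N90916 D193870) (tt N89294 (iv7 F385960)))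
theorem Q54665 : ∀ i, i < 54665 → P i := stepQ 54664 Q54664 (allL N54664 (tt N90917 D193871) (tt N39651 F343225) (tt N28977 F157398) (tt N40966 F343221) (tt N90916 (iv4 F391259)) (tt N40965 F343222) (tt N28972 (iv6 D102439)) (tt N39193 F343223))
theorem Q54666 : ∀ i, i < 54666 → P i := stepQ 54665 Q54665 (allL N54665 (tt N34485 F304013) (tt N34886 (iv0 F304455)) (tt N28980 F157399) (tt N40967 F316952) (tt N34868 F356494) (tt N28973 (iv5 D102440)) (tt N40965 F316953) (tt N34885 F306487))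
theorem Q54667 : ∀ i, i < 54667 → P i := stepQ 54666 Q54666 (allL N54666 (tt N54196 F157404) (tt N90918 D193872) (tt N89296 (iv2 F385967)) (tt N33155 F329302) (tt N28974 (iv4 D102443)) (tt N90919 D193873) (tt N77932 F329303) (tt N89295 (iv7 F385965)))
theorem Q54668 : ∀ i, i < 54668 → P i := stepQ 54667 Q54667 (allL N54667 (tt N90920 D193874) (tt N90921 D193875) (tt N89297 (iv2 F385971)) (tt N39306 F329305) (tt N77932 F329306) (tt N84756 (iv5 F370513)) (tt N28974 (iv6 D102445)) (tt N90922 D193876))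
theorem Q54669 : ∀ i, i < 54669 → P i := stepQ 54668 Q54668 (allL N54668 (tt N39784 F356207) (tt N39773 F356208) (tt N39686 F356209) (tt N28975 (iv3 D102447)) (tt N40762 F356210) (tt N90923 D193877) (tt N90924 D193878) (tt N39782 F356211))
theorem Q54670 : ∀ i, i < 54670 → P i := stepQ 54669 Q54669 (allL N54669 (tt N90918 (iv1 F391269)) (tt N54196 F356197) (tt N89295 (iv2 F385963)) (tt N76774 (iv3 F356220)) (tt N28975 (iv4 D102448)) (tt N90925 D193879) (tt N90926 D193880) (tt N89296 (iv7 F385969)))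
theorem Q54671 : ∀ i, i < 54671 → P i := stepQ 54670 Q54670 (allL N54670 (tt N49433 (iv1 F335698)) (tt N49797 F357223) (tt N49796 (iv2 F343258)) (tt N90923 (iv3 F391279)) (tt N80626 (iv4 F290006)) (tt N28975 (iv5 D102449)) (tt N72455 F343863) (tt N49452 F290005))
theorem Q54672 : ∀ i, i < 54672 → P i := stepQ 54671 Q54671 (allL N54671 (tt N65020 F343869) (tt N41059 F343870) (tt N72603 F343871) (tt N90924 (iv3 F391285)) (tt N90926 (iv4 F391288)) (tt N72456 F343872) (tt N28975 (iv6 D102450)) (tt N90927 D193881))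
theorem Q54673 : ∀ i, i < 54673 → P i := stepQ 54672 Q54672 (allL N54672 (tt N89294 (iv1 F385962)) (tt N28976 (iv0 D102451)) (tt N89299 F385985) (tt N90928 D193882) (tt N90209 (iv4 F388908)) (tt N90929 D193883) (tt N90930 D193884) (tt N89298 F385980))
theorem Q54674 : ∀ i, i < 54674 → P i := stepQ 54673 Q54673 (allL N54673 (tt N28976 (iv1 D102452)) (tt N89294 (iv0 F385961)) (tt N89298 F385979) (tt N34234 F356395) (tt N47551 F356396) (tt N90931 D193885) (tt N90932 D193886) (tt N89299 (iv7 F385982)))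
theorem Q54675 : ∀ i, i < 54675 → P i := stepQ 54674 Q54674 (allL N54674 (tt N90933 D193887) (tt N90934 D193888) (tt N90935 D193889) (tt N28976 (iv3 D102453)) (tt N28988 F157406) (tt N75877 F353163) (tt N33432 F360848) (tt N89300 (iv7 F385988)))
theorem Q54676 : ∀ i, i < 54676 → P i := stepQ 54675 Q54675 (allL N54675 (tt N90936 D193890) (tt N90937 D193891) (tt N90915 (iv2 F391256)) (tt N75877 (iv3 F353164)) (tt N90938 D193892) (tt N28976 (iv5 D102454)) (tt N90939 D193893) (tt N89301 (iv7 F385991)))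
theorem Q54677 : ∀ i, i < 54677 → P i := stepQ 54676 Q54676 (allL N54676 (tt N90940 D193894) (tt N61859 F360845) (tt N90916 (iv2 F391258)) (tt N33432 F360846) (tt N28977 F157407) (tt N33431 F360847) (tt N28976 (iv6 D102455)) (tt N90941 D193895))
theorem Q54678 : ∀ i, i < 54678 → P i := stepQ 54677 Q54677 (allL N54677 (tt N39193 F343219) (tt N28977 (iv0 D102456)) (tt N90917 F391266) (tt N39162 F353565) (tt N90942 D193896) (tt N64382 F343220) (tt N90943 D193897) (tt N39651 F353566))
theorem Q54679 : ∀ i, i < 54679 → P i := stepQ 54678 Q54678 (allL N54678 (tt N28977 (iv1 D102457)) (tt N39193 F343224) (tt N39651 F353567) (tt N39770 F349498) (tt N90944 D193898) (tt N64381 (iv5 F301782)) (tt N78827 F349499) (tt N90917 (iv7 F391268)))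
theorem Q54680 : ∀ i, i < 54680 → P i := stepQ 54679 Q54679 (allL N54679 (tt N78113 (iv1 F360245)) (tt N90945 D193899) (tt N40965 F343199) (tt N28992 F157408) (tt N38561 F343200) (tt N28977 (iv5 D102458)) (tt N28980 F157409) (tt N38557 F343201))
theorem Q54681 : ∀ i, i < 54681 → P i := stepQ 54680 Q54680 (allL N54680 (tt N39651 F343229) (tt N90917 F391267) (tt N39193 F343203) (tt N28993 F157410) (tt N90941 (iv4 F391314)) (tt N38557 F343204) (tt N39189 F343205) (tt N28977 (iv7 D102459)))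
theorem Q54682 : ∀ i, i < 54682 → P i := stepQ 54681 Q54681 (allL N54681 (tt N51682 F345093) (tt N29359 (iv0 F157413)) (tt N48867 F289857) (tt N28978 (iv3 D102461)) (tt N49161 F157412) (tt N84347 (iv5 F369007)) (tt N48858 F289858) (tt N51681 (iv7 F293412)))
theorem Q54683 : ∀ i, i < 54683 → P i := stepQ 54682 Q54682 (allL N54682 (tt N53350 (iv1 F290048)) (tt N89795 (iv0 F387594)) (tt N90946 D193900) (tt N28979 (iv3 D102466)) (tt N90946 F391336) (tt N84349 (iv5 F369021)) (tt N51229 (iv6 F367073)) (tt N54734 F290043))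
theorem Q54684 : ∀ i, i < 54684 → P i := stepQ 54683 Q54683 (allL N54683 (tt N28980 (iv1 D102471)) (tt N34885 (iv0 F304453)) (tt N34886 (iv2 F304457)) (tt N76300 F304014) (tt N63930 F304015) (tt N46725 F289826) (tt N34870 F304016) (tt N34485 F304017))
theorem Q54685 : ∀ i, i < 54685 → P i := stepQ 54684 Q54684 (allL N54684 (tt N34490 F340884) (tt N34870 F340885) (tt N34868 (iv2 F356487)) (tt N90947 D193901) (tt N28980 (iv4 D102472)) (tt N90948 D193902) (tt N38561 F343198) (tt N34867 F356486))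
theorem Q54686 : ∀ i, i < 54686 → P i := stepQ 54685 Q54685 (allL N54685 (tt N84987 (iv1 F371287)) (tt N84986 (iv0 F371275)) (tt N28981 (iv2 D102474)) (tt N39742 F365467) (tt N90949 D193903) (tt N53149 F157417) (tt N90950 D193904) (tt N89282 (iv7 F385909)))
theorem Q54687 : ∀ i, i < 54687 → P i := stepQ 54686 Q54686 (allL N54686 (tt N90951 D193905) (tt N54175 (iv0 F157418)) (tt N90949 (iv2 F391349)) (tt N57090 (iv3 F356928)) (tt N28981 (iv4 D102475)) (tt N90952 D193906) (tt N90953 D193907) (tt N89283 (iv7 F385912)))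
theorem Q54688 : ∀ i, i < 54688 → P i := stepQ 54687 Q54687 (allL N54687 (tt N90954 D193908) (tt N90955 D193909) (tt N90950 (iv2 F391353)) (tt N28983 F157419) (tt N90953 (iv4 F391361)) (tt N53153 F157420) (tt N28981 (iv6 D102476)) (tt N90956 D193910))
theorem Q54689 : ∀ i, i < 54689 → P i := stepQ 54688 Q54688 (allL N54688 (tt N87193 (iv1 F378704)) (tt N87196 (iv0 F378703)) (tt N90957 D193911) (tt N28982 (iv3 D102477)) (tt N57090 F356929) (tt N84203 (iv5 F368496)) (tt N90958 D193912) (tt N54476 F157421))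
theorem Q54690 : ∀ i, i < 54690 → P i := stepQ 54689 Q54689 (allL N54689 (tt N55088 F359409) (tt N60139 (iv0 F352921)) (tt N54475 F157422) (tt N90958 (iv3 F391373)) (tt N28983 F157423) (tt N90959 D193913) (tt N28982 (iv6 D102478)) (tt N90960 D193914))
theorem Q54691 : ∀ i, i < 54691 → P i := stepQ 54690 Q54690 (allL N54690 (tt N89281 (iv1 F385906)) (tt N28983 (iv0 D102479)) (tt N89279 (iv2 F391395)) (tt N90961 D193916) (tt N90651 (iv4 F391390)) (tt N90962 D193918) (tt N90963 D193919) (tt N89280 F391393))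
theorem Q54692 : ∀ i, i < 54692 → P i := stepQ 54691 Q54691 (allL N54691 (tt N28983 (iv1 D102480)) (tt N89281 F385904) (tt N89280 (iv2 F391394)) (tt N90921 (iv3 F447578)) (tt N90652 (iv4 F390408)) (tt N90964 D193921) (tt N90965 D193922) (tt N89279 (iv7 F391396)))
theorem Q54693 : ∀ i, i < 54693 → P i := stepQ 54692 Q54692 (allL N54692 (tt N89280 (iv1 F385898)) (tt N89279 F385903) (tt N89281 (iv2 F385900)) (tt N90956 (iv3 F391364)) (tt N90960 (iv4 F391381)) (tt N53156 F157424) (tt N89286 (iv6 F385922)) (tt N28983 (iv7 D102481)))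
theorem Q54694 : ∀ i, i < 54694 → P i := stepQ 54693 Q54693 (allL N54693 (tt N39743 F329324) (tt N29365 F157425) (tt N28984 (iv2 D102484)) (tt N89282 (iv3 F385907)) (tt N90966 D193923) (tt N90967 D193924) (tt N90968 D193925) (tt N39742 F329332))
theorem Q54695 : ∀ i, i < 54695 → P i := stepQ 54694 Q54694 (allL N54694 (tt N90969 D193926) (tt N90970 D193927) (tt N90966 (iv2 F391401)) (tt N90971 D193928) (tt N28984 (iv4 D102485)) (tt N90972 D193929) (tt N90973 D193930) (tt N89277 (iv7 F385893)))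
theorem Q54696 : ∀ i, i < 54696 → P i := stepQ 54695 Q54695 (allL N54695 (tt N51465 F157431) (tt N90974 D193931) (tt N90967 (iv2 F391404)) (tt N28986 F157426) (tt N49922 (iv4 F157428)) (tt N28984 (iv5 D102486)) (tt N49821 (iv6 F157429)) (tt N49473 F157427))
theorem Q54697 : ∀ i, i < 54697 → P i := stepQ 54696 Q54696 (allL N54696 (tt N90975 D193932) (tt N90976 D193933) (tt N90968 (iv2 F391411)) (tt N28987 F157432) (tt N90973 (iv4 F391429)) (tt N89017 (iv5 F384831)) (tt N28984 (iv6 D102487)) (tt N90977 D193934))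
theorem Q54698 : ∀ i, i < 54698 → P i := stepQ 54697 Q54697 (allL N54697 (tt N59812 F367642) (tt N90978 D193935) (tt N90979 D193936) (tt N28985 (iv3 D102488)) (tt N90971 (iv4 F391424)) (tt N84205 (iv5 F368504)) (tt N90980 D193937) (tt N54474 F157433))
theorem Q54699 : ∀ i, i < 54699 → P i := stepQ 54698 Q54698 (allL N54698 (tt N54381 F389985) (tt N90981 D193938) (tt N54477 F157434) (tt N90980 (iv3 F391454)) (tt N28987 F157435) (tt N90982 D193939) (tt N28985 (iv6 D102489)) (tt N90983 D193940))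
theorem Q54700 : ∀ i, i < 54700 → P i := stepQ 54699 Q54699 (allL N54699 (tt N89286 (iv1 F385924)) (tt N28987 (iv0 D102490)) (tt N88631 (iv2 F383652)) (tt N65020 F366767) (tt N90662 (iv4 F405136)) (tt N90984 D193942) (tt N65018 (iv6 F311713)) (tt N89285 (iv7 F385916)))
theorem Q54701 : ∀ i, i < 54701 → P i := stepQ 54700 Q54700 (allL N54700 (tt N28987 (iv1 D102491)) (tt N89286 F385923) (tt N89285 F385919) (tt N90985 D193943) (tt N90663 (iv4 F431686)) (tt N90986 D193945) (tt N90987 D193946) (tt N88631 F383654))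
theorem Q54702 : ∀ i, i < 54702 → P i := stepQ 54701 Q54701 (allL N54701 (tt N89285 (iv1 F385915)) (tt N88631 (iv0 F385905)) (tt N89286 (iv2 F385920)) (tt N90977 (iv3 F391441)) (tt N90983 (iv4 F391463)) (tt N89020 (iv5 F384834)) (tt N89281 (iv6 F385902)) (tt N28987 (iv7 D102492)))
theorem Q54703 : ∀ i, i < 54703 → P i := stepQ 54702 Q54702 (allL N54702 (tt N75929 (iv1 F353167)) (tt N28988 (iv0 D102493)) (tt N89303 F386000) (tt N90988 D193947) (tt N90989 D193948) (tt N80103 F353168) (tt N90990 D193949) (tt N89302 F385996))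
theorem Q54704 : ∀ i, i < 54704 → P i := stepQ 54703 Q54703 (allL N54703 (tt N28988 (iv1 D102494)) (tt N75929 F353159) (tt N89302 F385995) (tt N55202 F353158) (tt N90991 D193950) (tt N56031 (iv5 F353157)) (tt N90992 D193951) (tt N89303 (iv7 F385998)))
theorem Q54705 : ∀ i, i < 54705 → P i := stepQ 54704 Q54704 (allL N54704 (tt N89303 (iv1 F385997)) (tt N89302 F385994) (tt N28988 (iv2 D102495)) (tt N89288 (iv3 F385925)) (tt N90935 (iv4 F391302)) (tt N55110 F353162) (tt N90993 D193952) (tt N75929 (iv7 F353160)))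
theorem Q54706 : ∀ i, i < 54706 → P i := stepQ 54705 Q54705 (allL N54705 (tt N72648 F344565) (tt N90994 D193953) (tt N90993 (iv2 F391494)) (tt N28989 F157436) (tt N33432 F344566) (tt N59931 F344567) (tt N28988 (iv6 D102496)) (tt N90995 D193954))
theorem Q54707 : ∀ i, i < 54707 → P i := stepQ 54706 Q54706 (allL N54706 (tt N73684 (iv1 F344575)) (tt N79636 (iv0 F344561)) (tt N59933 F344569) (tt N90995 (iv3 F391503)) (tt N28993 F157437) (tt N31145 F344570) (tt N71835 (iv6 F362579)) (tt N28989 (iv7 D102500)))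
theorem Q54708 : ∀ i, i < 54708 → P i := stepQ 54707 Q54707 (allL N54707 (tt N39759 F362568) (tt N90897 F391207) (tt N90996 D193955) (tt N28990 (iv3 D102502)) (tt N90997 D193956) (tt N90998 D193957) (tt N90999 D193958) (tt N89292 (iv7 F385953)))
theorem Q54709 : ∀ i, i < 54709 → P i := stepQ 54708 Q54708 (allL N54708 (tt N54483 F344549) (tt N53401 F344550) (tt N31049 F344551) (tt N91000 D193959) (tt N28990 (iv4 D102503)) (tt N31048 F344552) (tt N91001 D193960) (tt N54482 F344553))
theorem Q54710 : ∀ i, i < 54710 → P i := stepQ 54709 Q54709 (allL N54709 (tt N40981 F349495) (tt N91002 D193961) (tt N87752 (iv2 F380370)) (tt N90998 (iv3 F391513)) (tt N31892 F349496) (tt N28990 (iv5 D102504)) (tt N91003 D193962) (tt N58644 F349497))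
theorem Q54711 : ∀ i, i < 54711 → P i := stepQ 54710 Q54710 (allL N54710 (tt N90987 (iv1 F411805)) (tt N88628 (iv0 F383647)) (tt N89291 (iv2 F385950)) (tt N90999 (iv3 F391517)) (tt N91001 (iv4 F391524)) (tt N91004 D193964) (tt N28990 (iv6 D102505)) (tt N91005 D193965))
theorem Q54712 : ∀ i, i < 54712 → P i := stepQ 54711 Q54711 (allL N54711 (tt N89362 (iv1 F386248)) (tt N39181 F349488) (tt N91006 D193966) (tt N28991 (iv3 D102507)) (tt N59815 F349489) (tt N63007 F349490) (tt N91007 D193967) (tt N89290 (iv7 F385946)))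
theorem Q54713 : ∀ i, i < 54713 → P i := stepQ 54712 Q54712 (allL N54712 (tt N91002 (iv1 F391530)) (tt N40981 F326379) (tt N58644 F326380) (tt N63007 (iv3 F349449)) (tt N51719 (iv4 F349485)) (tt N28991 (iv5 D102509)) (tt N83879 (iv6 F367341)) (tt N87752 (iv7 F380373)))
theorem Q54714 : ∀ i, i < 54714 → P i := stepQ 54713 Q54713 (allL N54713 (tt N91008 D193968) (tt N90963 (iv0 F488252)) (tt N89293 (iv2 F385956)) (tt N91007 (iv3 F391549)) (tt N55085 F363549) (tt N91009 D193970) (tt N28991 (iv6 D102510)) (tt N91010 D193971))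
theorem Q54715 : ∀ i, i < 54715 → P i := stepQ 54714 Q54714 (allL N54714 (tt N40935 F324386) (tt N28992 (iv0 D102511)) (tt N54802 (iv2 F359449)) (tt N82096 (iv3 F348479)) (tt N31814 F324387) (tt N91011 D193972) (tt N82095 F348480) (tt N54803 F324388))
theorem Q54716 : ∀ i, i < 54716 → P i := stepQ 54715 Q54715 (allL N54715 (tt N28992 (iv1 D102512)) (tt N40935 F324382) (tt N54803 F324383) (tt N77653 (iv3 F353337)) (tt N58506 F324384) (tt N59912 F324385) (tt N77651 F353338) (tt N54802 (iv7 F359450)))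
theorem Q54717 : ∀ i, i < 54717 → P i := stepQ 54716 Q54716 (allL N54716 (tt N54851 F353332) (tt N90686 (iv0 F390523)) (tt N49730 F157440) (tt N91012 D193973) (tt N28992 (iv4 D102513)) (tt N31911 F324380) (tt N28996 F157441) (tt N58667 F324381))
theorem Q54718 : ∀ i, i < 54718 → P i := stepQ 54717 Q54717 (allL N54717 (tt N54803 (iv1 F157857)) (tt N54802 F157860) (tt N40935 F324389) (tt N38557 F328712) (tt N58667 F324390) (tt N28993 F157442) (tt N38556 F328713) (tt N28992 (iv7 D102514)))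
theorem Q54719 : ∀ i, i < 54719 → P i := stepQ 54718 Q54718 (allL N54718 (tt N82839 F284557) (tt N78691 (iv0 F347303)) (tt N82953 (iv2 F285098)) (tt N28995 (iv3 D102517)) (tt N62770 F346817) (tt N49422 F157444) (tt N62768 F353233) (tt N49446 F157445))
theorem Q54720 : ∀ i, i < 54720 → P i := stepQ 54719 Q54719 (allL N54719 (tt N90947 F391340) (tt N91013 D193974) (tt N49772 F157446) (tt N62768 (iv3 F353231)) (tt N53889 F353230) (tt N52900 F157447) (tt N28995 (iv6 D102518)) (tt N53885 (iv7 F353232)))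
theorem Q54721 : ∀ i, i < 54721 → P i := stepQ 54720 Q54720 (allL N54720 (tt N54575 F357191) (tt N49736 F357214) (tt N54574 F357211) (tt N28996 (iv3 D102519)) (tt N90947 (iv4 F391337)) (tt N53444 F157448) (tt N91012 (iv6 F391561)) (tt N49728 F157449))
theorem Q54722 : ∀ i, i < 54722 → P i := stepQ 54721 Q54721 (allL N54721 (tt N28997 (iv1 D102521)) (tt N50636 F157455) (tt N53352 (iv2 F161654)) (tt N77561 F357321) (tt N89795 (iv4 F387590)) (tt N76301 (iv5 F356343)) (tt N52297 (iv6 F294403)) (tt N53315 F161653))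
theorem Q54723 : ∀ i, i < 54723 → P i := stepQ 54722 Q54722 (allL N54722 (tt N49393 (iv1 F289292)) (tt N49397 (iv0 F288508)) (tt N87031 (iv2 F378111)) (tt N28998 F157458) (tt N63307 (iv4 F361659)) (tt N28997 (iv5 D102523)) (tt N63305 (iv6 F361656)) (tt N49681 F157459))
theorem Q54724 : ∀ i, i < 54724 → P i := stepQ 54723 Q54723 (allL N54723 (tt N91014 D193975) (tt N91015 D193976) (tt N49683 F157468) (tt N50656 F157469) (tt N90650 (iv4 F390406)) (tt N29328 F157470) (tt N28999 (iv6 D102526)) (tt N91016 D193977))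
theorem Q54725 : ∀ i, i < 54725 → P i := stepQ 54724 Q54724 (allL N54724 (tt N53783 (iv1 F157471)) (tt N29000 (iv0 D102527)) (tt N53788 (iv2 F251233)) (tt N89152 (iv3 F385363)) (tt N79005 (iv4 F251789)) (tt N84339 (iv5 F368971)) (tt N50218 F251236) (tt N53787 (iv7 F251235)))
theorem Q54726 : ∀ i, i < 54726 → P i := stepQ 54725 Q54725 (allL N54725 (tt N29000 (iv1 D102528)) (tt N53783 F157475) (tt N53787 F251234) (tt N87032 (iv3 F378132)) (tt N74801 (iv4 F319718)) (tt N84340 (iv5 F368980)) (tt N53598 (iv6 F367759)) (tt N53788 F251232))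
theorem Q54727 : ∀ i, i < 54727 → P i := stepQ 54726 Q54726 (allL N54726 (tt N53788 (iv1 F157476)) (tt N53787 F157474) (tt N29000 (iv2 D102529)) (tt N52290 (iv3 F293551)) (tt N54856 (iv4 F291622)) (tt N81323 (iv5 F354875)) (tt N50055 (iv6 F291612)) (tt N53783 F157473))
theorem Q54728 : ∀ i, i < 54728 → P i := stepQ 54727 Q54727 (allL N54727 (tt N52860 F368188) (tt N52862 (iv0 F344373)) (tt N81323 F357755) (tt N29001 F157477) (tt N91017 D193978) (tt N29000 (iv5 D102530)) (tt N91018 D193979) (tt N49780 F157478))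
theorem Q54729 : ∀ i, i < 54729 → P i := stepQ 54728 Q54728 (allL N54728 (tt N81198 F366935) (tt N91019 D193980) (tt N41865 F346310) (tt N91018 (iv3 F391584)) (tt N84206 (iv4 F368506)) (tt N49476 F157483) (tt N29001 (iv6 D102532)) (tt N87062 (iv7 F378241)))
theorem Q54730 : ∀ i, i < 54730 → P i := stepQ 54729 Q54729 (allL N54729 (tt N29002 (iv1 D102534)) (tt N52290 (iv0 F293549)) (tt N50665 (iv2 F157493)) (tt N55367 (iv3 F159829)) (tt N87007 (iv4 F378035)) (tt N62864 F360605) (tt N53429 F157494) (tt N52291 (iv7 F293558)))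
theorem Q54731 : ∀ i, i < 54731 → P i := stepQ 54730 Q54730 (allL N54730 (tt N52291 (iv1 F293557)) (tt N50665 F157491) (tt N29002 (iv2 D102535)) (tt N53783 F157488) (tt N55491 (iv4 F160376)) (tt N72332 F346826) (tt N50630 F157489) (tt N52290 (iv7 F293554)))
theorem Q54732 : ∀ i, i < 54732 → P i := stepQ 54731 Q54731 (allL N54731 (tt N49873 F286184) (tt N82952 (iv0 F285097)) (tt N72332 (iv2 F346827)) (tt N29003 F157498) (tt N41868 F346305) (tt N29002 (iv5 D102536)) (tt N42305 F346306) (tt N41867 F346307))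
theorem Q54733 : ∀ i, i < 54733 → P i := stepQ 54732 Q54732 (allL N54732 (tt N91020 D193981) (tt N91021 D193982) (tt N49782 F157500) (tt N42305 F355599) (tt N84204 (iv4 F368503)) (tt N53220 F157501) (tt N29003 (iv6 D102537)) (tt N91022 D193983))
theorem Q54734 : ∀ i, i < 54734 → P i := stepQ 54733 Q54733 (allL N54733 (tt N46757 F289879) (tt N46759 F289880) (tt N49774 (iv2 F335631)) (tt N87034 (iv3 F378121)) (tt N69865 (iv4 F364379)) (tt N29004 (iv5 D102541)) (tt N64560 F341410) (tt N49773 (iv7 F335629)))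
theorem Q54735 : ∀ i, i < 54735 → P i := stepQ 54734 Q54734 (allL N54734 (tt N61547 F356346) (tt N89152 (iv0 F385366)) (tt N83087 F289919) (tt N29005 (iv3 D102544)) (tt N83087 F289916) (tt N91023 D193984) (tt N53203 (iv6 F289917)) (tt N54682 (iv7 F290043)))
theorem Q54736 : ∀ i, i < 54736 → P i := stepQ 54735 Q54735 (allL N54735 (tt N46759 F289891) (tt N46757 F289892) (tt N49773 (iv2 F335627)) (tt N91023 (iv3 F391622)) (tt N69866 (iv4 F364376)) (tt N29005 (iv5 D102546)) (tt N91024 D193985) (tt N49774 (iv7 F335634)))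
theorem Q54737 : ∀ i, i < 54737 → P i := stepQ 54736 Q54736 (allL N54736 (tt N51228 (iv1 F294607)) (tt N51230 (iv0 F294616)) (tt N29008 F157513) (tt N52301 (iv3 F293577)) (tt N50571 (iv4 F295076)) (tt N58941 (iv5 F336764)) (tt N29006 (iv6 D102549)) (tt N53453 F157514))
theorem Q54738 : ∀ i, i < 54738 → P i := stepQ 54737 Q54737 (allL N54737 (tt N69983 (iv1 F354716)) (tt N29009 (iv0 D102556)) (tt N69937 (iv2 F354733)) (tt N91025 D193986) (tt N91026 D193987) (tt N68684 (iv5 F354715)) (tt N91027 D193988) (tt N69935 (iv7 F354724)))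
theorem Q54739 : ∀ i, i < 54739 → P i := stepQ 54738 Q54738 (allL N54738 (tt N29009 (iv1 D102557)) (tt N69983 F333149) (tt N69935 (iv2 F354723)) (tt N41907 F354737) (tt N91028 D193989) (tt N68685 (iv5 F354692)) (tt N41905 F354738) (tt N69937 (iv7 F354734)))
theorem Q54740 : ∀ i, i < 54740 → P i := stepQ 54739 Q54739 (allL N54739 (tt N50233 F157526) (tt N85953 F374593) (tt N70731 F349109) (tt N85970 (iv3 F374667)) (tt N91029 D193990) (tt N29011 (iv5 D102562)) (tt N38950 F349110) (tt N66657 (iv7 F349111)))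
theorem Q54741 : ∀ i, i < 54741 → P i := stepQ 54740 Q54740 (allL N54740 (tt N85950 (iv1 F374573)) (tt N85949 F374569) (tt N29013 F157527) (tt N61691 (iv3 F359553)) (tt N70628 F349129) (tt N29012 (iv5 D102564)) (tt N91030 D193991) (tt N61688 F349115))
theorem Q54742 : ∀ i, i < 54742 → P i := stepQ 54741 Q54741 (allL N54741 (tt N85431 F372609) (tt N85932 F374494) (tt N29014 F157528) (tt N49295 F294481) (tt N29023 F157529) (tt N83792 (iv5 F366992)) (tt N29012 (iv6 D102565)) (tt N54853 F294482))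
theorem Q54743 : ∀ i, i < 54743 → P i := stepQ 54742 Q54742 (allL N54742 (tt N61688 F349119) (tt N29013 (iv0 D102566)) (tt N85950 (iv2 F374578)) (tt N91031 D193992) (tt N32542 F349120) (tt N91032 D193993) (tt N32541 F349121) (tt N85949 F374572))
theorem Q54744 : ∀ i, i < 54744 → P i := stepQ 54743 Q54743 (allL N54743 (tt N29013 (iv1 D102567)) (tt N61688 F361066) (tt N85949 F374570) (tt N85973 (iv3 F374685)) (tt N91033 D193994) (tt N53055 F361067) (tt N91034 D193995) (tt N85950 (iv7 F374574)))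
theorem Q54745 : ∀ i, i < 54745 → P i := stepQ 54744 Q54744 (allL N54744 (tt N70626 (iv1 F361065)) (tt N70625 F349131) (tt N70628 (iv2 F349128)) (tt N91035 D193996) (tt N29013 (iv4 D102568)) (tt N91036 D193997) (tt N91037 D193998) (tt N70621 F349130))
theorem Q54746 : ∀ i, i < 54746 → P i := stepQ 54745 Q54745 (allL N54745 (tt N91038 D193999) (tt N74857 (iv0 F367269)) (tt N91030 (iv2 F391660)) (tt N29018 F157530) (tt N91037 (iv4 F391708)) (tt N86684 (iv5 F376792)) (tt N29013 (iv6 D102569)) (tt N91039 D194000))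
theorem Q54747 : ∀ i, i < 54747 → P i := stepQ 54746 Q54746 (allL N54746 (tt N54853 F367216) (tt N29014 (iv0 D102570)) (tt N85431 (iv2 F372605)) (tt N83704 F367215) (tt N89180 (iv4 F385472)) (tt N83950 (iv5 F367586)) (tt N85433 (iv6 F372622)) (tt N85932 (iv7 F374492)))
theorem Q54748 : ∀ i, i < 54748 → P i := stepQ 54747 Q54747 (allL N54747 (tt N29014 (iv1 D102571)) (tt N54853 F360978) (tt N85932 (iv2 F374489)) (tt N49311 F360979) (tt N85491 (iv4 F372811)) (tt N83951 (iv5 F367588)) (tt N50403 F360980) (tt N85431 (iv7 F372607)))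
theorem Q54749 : ∀ i, i < 54749 → P i := stepQ 54748 Q54748 (allL N54748 (tt N50222 (iv1 F159977)) (tt N50190 (iv0 F159976)) (tt N85961 (iv2 F374633)) (tt N29015 (iv3 D102572)) (tt N91040 D194001) (tt N51094 F157531) (tt N75068 F230244) (tt N51591 F157532))
theorem Q54750 : ∀ i, i < 54750 → P i := stepQ 54749 Q54749 (allL N54749 (tt N60782 F176876) (tt N74879 (iv0 F364114)) (tt N85951 (iv2 F374580)) (tt N75068 (iv3 F230245)) (tt N83637 (iv4 F288117)) (tt N53851 F367267) (tt N29015 (iv6 D102573)) (tt N91041 D194002))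
theorem Q54751 : ∀ i, i < 54751 → P i := stepQ 54750 Q54750 (allL N54750 (tt N60789 (iv1 F288022)) (tt N83612 (iv0 F288021)) (tt N85940 F374527) (tt N29016 (iv3 D102574)) (tt N91042 D194003) (tt N49846 (iv5 F290838)) (tt N91043 D194004) (tt N85941 (iv7 F374530)))
theorem Q54752 : ∀ i, i < 54752 → P i := stepQ 54751 Q54751 (allL N54751 (tt N67938 F366225) (tt N67949 F366226) (tt N51594 F157534) (tt N91043 (iv3 F391726)) (tt N83636 (iv4 F288116)) (tt N49847 (iv5 F291544)) (tt N29016 (iv6 D102575)) (tt N67947 (iv7 F369293)))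
theorem Q54753 : ∀ i, i < 54753 → P i := stepQ 54752 Q54752 (allL N54752 (tt N38010 F321693) (tt N38009 F321694) (tt N38012 F321695) (tt N29017 (iv3 D102576)) (tt N91035 (iv4 F391687)) (tt N80665 (iv5 F336064)) (tt N67941 F321696) (tt N38003 F321697))
theorem Q54754 : ∀ i, i < 54754 → P i := stepQ 54753 Q54753 (allL N54753 (tt N38028 F321698) (tt N38027 (iv0 F323386)) (tt N38030 F321699) (tt N67941 F321700) (tt N29018 F157536) (tt N79835 F334633) (tt N29017 (iv6 D102577)) (tt N38022 F321701))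
theorem Q54755 : ∀ i, i < 54755 → P i := stepQ 54754 Q54754 (allL N54754 (tt N38026 F324730) (tt N29018 (iv0 D102578)) (tt N60785 (iv2 F176885)) (tt N91044 D194005) (tt N70072 (iv4 F363987)) (tt N91045 D194006) (tt N91046 D194007) (tt N60777 F176884))
theorem Q54756 : ∀ i, i < 54756 → P i := stepQ 54755 Q54755 (allL N54755 (tt N60777 (iv1 F176868)) (tt N60785 F176887) (tt N38026 F324731) (tt N91039 (iv3 F391713)) (tt N38022 F324732) (tt N86689 (iv5 F376801)) (tt N38021 F324733) (tt N29018 (iv7 D102579)))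
theorem Q54757 : ∀ i, i < 54757 → P i := stepQ 54756 Q54756 (allL N54756 (tt N77627 F333308) (tt N29020 (iv0 D102580)) (tt N53668 (iv2 F349285)) (tt N85854 (iv3 F374224)) (tt N83245 (iv4 F349290)) (tt N33799 F333309) (tt N51053 F349289) (tt N42290 F333310))
theorem Q54758 : ∀ i, i < 54758 → P i := stepQ 54757 Q54757 (allL N54757 (tt N29020 (iv1 D102581)) (tt N77627 F333311) (tt N42290 F333312) (tt N84941 (iv3 F372619)) (tt N91047 D194008) (tt N42286 F333313) (tt N50504 (iv6 F349280)) (tt N53668 F349282))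
theorem Q54759 : ∀ i, i < 54759 → P i := stepQ 54758 Q54758 (allL N54758 (tt N53668 (iv1 F349288)) (tt N42290 F333314) (tt N29020 (iv2 D102582)) (tt N50898 F157537) (tt N29041 F157538) (tt N61012 (iv5 F177587)) (tt N50884 F157539) (tt N77627 F333315))
theorem Q54760 : ∀ i, i < 54760 → P i := stepQ 54759 Q54759 (allL N54759 (tt N89639 (iv1 F387040)) (tt N89638 F387038) (tt N83282 F356747) (tt N50854 F356754) (tt N29021 (iv4 D102584)) (tt N50860 F356755) (tt N50851 (iv6 F356752)) (tt N85014 (iv7 F371381)))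
theorem Q54761 : ∀ i, i < 54761 → P i := stepQ 54760 Q54760 (allL N54760 (tt N89118 (iv1 F385227)) (tt N91048 D194009) (tt N83281 (iv2 F356750)) (tt N88031 (iv3 F381530)) (tt N50851 F356751) (tt N89646 (iv5 F387076)) (tt N29021 (iv6 D102585)) (tt N53961 (iv7 F356753)))
theorem Q54762 : ∀ i, i < 54762 → P i := stepQ 54761 Q54761 (allL N54761 (tt N62413 F331223) (tt N89272 F385876) (tt N29026 F157546) (tt N91049 D194010) (tt N29022 (iv4 D102586)) (tt N91050 D194011) (tt N58965 (iv6 F364747)) (tt N89268 (iv7 F385858)))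
theorem Q54763 : ∀ i, i < 54763 → P i := stepQ 54762 Q54762 (allL N54762 (tt N39703 F333121) (tt N91051 D194012) (tt N29027 F157547) (tt N39194 F333122) (tt N58965 F333123) (tt N91052 D194013) (tt N29022 (iv6 D102587)) (tt N39190 F333124))
theorem Q54764 : ∀ i, i < 54764 → P i := stepQ 54763 Q54763 (allL N54763 (tt N49500 (iv1 F157820)) (tt N49498 (iv0 F157686)) (tt N29029 F157685) (tt N52914 (iv3 F290063)) (tt N91053 D194014) (tt N29023 (iv5 D102589)) (tt N91052 (iv6 F391766)) (tt N82981 (iv7 F285216)))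
theorem Q54765 : ∀ i, i < 54765 → P i := stepQ 54764 Q54764 (allL N54764 (tt N91054 D194015) (tt N91055 D194016) (tt N89271 (iv2 F385868)) (tt N75950 (iv3 F365501)) (tt N29024 (iv4 D102592)) (tt N76493 F365560) (tt N76495 (iv6 F365559)) (tt N89269 (iv7 F385863)))
theorem Q54766 : ∀ i, i < 54766 → P i := stepQ 54765 Q54765 (allL N54765 (tt N49825 (iv1 F157696)) (tt N49429 (iv0 F157695)) (tt N49824 F157693) (tt N80940 F331225) (tt N91056 D194017) (tt N29024 (iv5 D102593)) (tt N49813 (iv6 F286040)) (tt N49823 F157694))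
theorem Q54767 : ∀ i, i < 54767 → P i := stepQ 54766 Q54766 (allL N54766 (tt N91057 D194018) (tt N90985 (iv0 F391477)) (tt N77679 F365554) (tt N80707 (iv3 F365502)) (tt N76495 F365557) (tt N72594 (iv5 F365556)) (tt N29024 (iv6 D102594)) (tt N91058 D194019))
theorem Q54768 : ∀ i, i < 54768 → P i := stepQ 54767 Q54767 (allL N54767 (tt N91055 (iv1 F391780)) (tt N91054 F391777) (tt N89269 (iv2 F385861)) (tt N89971 (iv3 F388144)) (tt N29025 (iv4 D102595)) (tt N91059 D194020) (tt N91060 D194021) (tt N89271 (iv7 F385870)))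
theorem Q54769 : ∀ i, i < 54769 → P i := stepQ 54768 Q54768 (allL N54768 (tt N90961 (iv1 F484889)) (tt N91061 D194023) (tt N89270 (iv2 F385865)) (tt N82903 (iv3 F284745)) (tt N91060 (iv4 F391802)) (tt N53102 F157699) (tt N29025 (iv6 D102596)) (tt N91062 D194024))
theorem Q54770 : ∀ i, i < 54770 → P i := stepQ 54769 Q54769 (allL N54769 (tt N89268 (iv1 F385860)) (tt N29026 (iv0 D102597)) (tt N62413 (iv2 F362216)) (tt N91063 D194025) (tt N71855 F362215) (tt N57473 (iv5 F366725)) (tt N57476 F366724) (tt N89272 (iv7 F385877)))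
theorem Q54771 : ∀ i, i < 54771 → P i := stepQ 54770 Q54770 (allL N54770 (tt N29026 (iv1 D102598)) (tt N89268 (iv0 F385859)) (tt N89272 F385875) (tt N59016 (iv3 F362218)) (tt N70972 (iv4 F362219)) (tt N91064 D194026) (tt N72261 F362227) (tt N62413 F362217))
theorem Q54772 : ∀ i, i < 54772 → P i := stepQ 54771 Q54771 (allL N54771 (tt N91065 D194027) (tt N91066 D194028) (tt N91067 D194029) (tt N29026 (iv3 D102599)) (tt N29031 F157700) (tt N91068 D194030) (tt N73233 (iv6 F364748)) (tt N89273 (iv7 F385879)))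
theorem Q54773 : ∀ i, i < 54773 → P i := stepQ 54772 Q54772 (allL N54772 (tt N91069 D194031) (tt N91070 D194032) (tt N91050 (iv2 F391757)) (tt N91068 (iv3 F391813)) (tt N70627 F349116) (tt N29026 (iv5 D102600)) (tt N91071 D194033) (tt N89274 (iv7 F385880)))
theorem Q54774 : ∀ i, i < 54774 → P i := stepQ 54773 Q54773 (allL N54773 (tt N39190 F333115) (tt N29027 (iv0 D102602)) (tt N39703 F333116) (tt N39774 F333117) (tt N91072 D194034) (tt N91073 D194035) (tt N91074 D194036) (tt N91051 (iv7 F391759)))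
theorem Q54775 : ∀ i, i < 54775 → P i := stepQ 54774 Q54774 (allL N54774 (tt N29027 (iv1 D102603)) (tt N39190 F333118) (tt N91051 (iv2 F391761)) (tt N39184 F333119) (tt N91075 D194037) (tt N91076 D194038) (tt N78358 (iv6 F338924)) (tt N39703 F333120))
theorem Q54776 : ∀ i, i < 54776 → P i := stepQ 54775 Q54775 (allL N54775 (tt N91077 D194039) (tt N91078 D194040) (tt N91052 (iv2 F391764)) (tt N29035 F157702) (tt N91079 D194041) (tt N29027 (iv5 D102604)) (tt N29029 F157703) (tt N91080 D194042))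
theorem Q54777 : ∀ i, i < 54777 → P i := stepQ 54776 Q54776 (allL N54776 (tt N91051 (iv1 F391758)) (tt N39703 F333126) (tt N39190 F333127) (tt N29036 F157704) (tt N58964 F333128) (tt N91080 (iv5 F391851)) (tt N40936 F353581) (tt N29027 (iv7 D102605)))
theorem Q54778 : ∀ i, i < 54778 → P i := stepQ 54777 Q54777 (allL N54777 (tt N82981 (iv1 F285215)) (tt N29029 (iv0 D102609)) (tt N49500 (iv2 F157817)) (tt N82989 (iv3 F285235)) (tt N91081 D194043) (tt N49491 F157818) (tt N91082 D194044) (tt N49498 F157819))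
theorem Q54779 : ∀ i, i < 54779 → P i := stepQ 54778 Q54778 (allL N54778 (tt N91083 D194045) (tt N91084 D194046) (tt N91053 (iv2 F391770)) (tt N91085 D194047) (tt N29029 (iv4 D102610)) (tt N91086 D194048) (tt N91079 (iv6 F391847)) (tt N91087 D194049))
theorem Q54780 : ∀ i, i < 54780 → P i := stepQ 54779 Q54779 (allL N54779 (tt N49498 (iv1 F157823)) (tt N49500 F157824) (tt N82981 F285217) (tt N29038 F157821) (tt N91087 (iv4 F391870)) (tt N29030 F157822) (tt N91088 D194050) (tt N29029 (iv7 D102611)))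
theorem Q54781 : ∀ i, i < 54781 → P i := stepQ 54780 Q54780 (allL N54780 (tt N89288 (iv1 F385928)) (tt N29031 (iv0 D102612)) (tt N89287 F385930) (tt N57064 (iv3 F362229)) (tt N62422 F362228) (tt N91089 D194051) (tt N78648 F364235) (tt N66534 F362230))
theorem Q54782 : ∀ i, i < 54782 → P i := stepQ 54781 Q54781 (allL N54781 (tt N29031 (iv1 D102613)) (tt N89288 F385940) (tt N66534 (iv2 F385938)) (tt N71063 (iv3 F385939)) (tt N91090 D194052) (tt N91091 D194053) (tt N91092 D194054) (tt N89287 F385937))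
theorem Q54783 : ∀ i, i < 54783 → P i := stepQ 54782 Q54782 (allL N54782 (tt N89287 (iv1 F385929)) (tt N66534 F365367) (tt N29031 (iv2 D102614)) (tt N75929 (iv3 F353165)) (tt N91067 (iv4 F391812)) (tt N75928 F353238) (tt N66522 (iv6 F345462)) (tt N89288 (iv7 F385927)))
theorem Q54784 : ∀ i, i < 54784 → P i := stepQ 54783 Q54783 (allL N54783 (tt N32189 F333131) (tt N66524 F333132) (tt N66522 F345461) (tt N29032 F157825) (tt N73233 F333133) (tt N91093 D194055) (tt N29031 (iv6 D102615)) (tt N66523 F345459))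
theorem Q54785 : ∀ i, i < 54785 → P i := stepQ 54784 Q54784 (allL N54784 (tt N91094 D194056) (tt N73669 (iv0 F385793)) (tt N89305 (iv2 F386003)) (tt N91093 (iv3 F391895)) (tt N91095 D194057) (tt N29032 (iv5 D102618)) (tt N84268 (iv6 F368748)) (tt N91096 D194058))
theorem Q54786 : ∀ i, i < 54786 → P i := stepQ 54785 Q54785 (allL N54785 (tt N70956 F345454) (tt N62486 F345455) (tt N71835 (iv2 F345456)) (tt N66523 (iv3 F345458)) (tt N29036 F157826) (tt N91096 (iv5 F391903)) (tt N59933 (iv6 F362578)) (tt N29032 (iv7 D102619)))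
theorem Q54787 : ∀ i, i < 54787 → P i := stepQ 54786 Q54786 (allL N54786 (tt N36671 F333097) (tt N39660 F333098) (tt N39658 F333099) (tt N91097 D194059) (tt N29033 (iv4 D102622)) (tt N91098 D194060) (tt N60137 (iv6 F352940)) (tt N39659 F333100))
theorem Q54788 : ∀ i, i < 54788 → P i := stepQ 54787 Q54787 (allL N54787 (tt N88672 (iv1 F383811)) (tt N60655 F383837) (tt N88673 (iv2 F383834)) (tt N39727 F333101) (tt N91099 D194061) (tt N29033 (iv5 D102623)) (tt N88679 (iv6 F383859)) (tt N83982 F367710))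
theorem Q54789 : ∀ i, i < 54789 → P i := stepQ 54788 Q54788 (allL N54788 (tt N90965 (iv1 F447580)) (tt N91100 D194063) (tt N89306 (iv2 F386007)) (tt N39332 (iv3 F352943)) (tt N60137 F352942) (tt N91101 D194064) (tt N29033 (iv6 D102624)) (tt N91102 D194065))
theorem Q54790 : ∀ i, i < 54790 → P i := stepQ 54789 Q54789 (allL N54789 (tt N39760 F361819) (tt N39757 F361820) (tt N39728 F361821) (tt N29034 (iv3 D102626)) (tt N57084 F361822) (tt N88669 (iv5 F383801)) (tt N91103 D194066) (tt N39756 F361823))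
theorem Q54791 : ∀ i, i < 54791 → P i := stepQ 54790 Q54790 (allL N54790 (tt N39660 F361814) (tt N36671 F361815) (tt N39659 F361816) (tt N57085 F361817) (tt N29034 (iv4 D102627)) (tt N91104 D194067) (tt N54359 F275129) (tt N39658 F361818))
theorem Q54792 : ∀ i, i < 54792 → P i := stepQ 54791 Q54791 (allL N54791 (tt N81415 (iv1 F275130)) (tt N65018 (iv0 F311711)) (tt N88626 F383636) (tt N91103 (iv3 F391942)) (tt N54359 (iv4 F275127)) (tt N53757 F157829) (tt N29034 (iv6 D102628)) (tt N53756 (iv7 F157830)))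
theorem Q54793 : ∀ i, i < 54793 → P i := stepQ 54792 Q54792 (allL N54792 (tt N78093 (iv1 F333140)) (tt N29035 (iv0 D102629)) (tt N89307 F386016) (tt N39738 F347281) (tt N91105 D194068) (tt N71582 (iv5 F361813)) (tt N67228 (iv6 F333141)) (tt N89308 (iv7 F386019)))
theorem Q54794 : ∀ i, i < 54794 → P i := stepQ 54793 Q54793 (allL N54793 (tt N29035 (iv1 D102630)) (tt N78093 F364745) (tt N89308 F386020) (tt N91106 D194069) (tt N91107 D194070) (tt N71579 (iv5 F364746)) (tt N91108 D194071) (tt N89307 F386017))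
theorem Q54795 : ∀ i, i < 54795 → P i := stepQ 54794 Q54794 (allL N54794 (tt N67271 (iv1 F364751)) (tt N71844 F364750) (tt N87662 (iv2 F380028)) (tt N91109 D194072) (tt N29035 (iv4 D102631)) (tt N91110 D194073) (tt N29037 F157831) (tt N91111 D194074))
theorem Q54796 : ∀ i, i < 54796 → P i := stepQ 54795 Q54795 (allL N54795 (tt N89308 (iv1 F386018)) (tt N89307 F386015) (tt N78093 (iv2 F333138)) (tt N91080 (iv3 F391850)) (tt N91111 (iv4 F391973)) (tt N29036 F157832) (tt N78092 F333139) (tt N29035 (iv7 D102632)))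
theorem Q54797 : ∀ i, i < 54797 → P i := stepQ 54796 Q54796 (allL N54796 (tt N67368 F365691) (tt N67366 F365692) (tt N91112 D194075) (tt N29037 (iv3 D102635)) (tt N91085 (iv4 F391860)) (tt N37684 F365693) (tt N91109 (iv6 F391966)) (tt N37683 F365694))
theorem Q54798 : ∀ i, i < 54798 → P i := stepQ 54797 Q54797 (allL N54797 (tt N52970 F157839) (tt N78091 F327933) (tt N37655 F327934) (tt N91088 (iv3 F391873)) (tt N37677 F327935) (tt N52868 F157838) (tt N29038 (iv6 D102636)) (tt N78092 F327936))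
theorem Q54799 : ∀ i, i < 54799 → P i := stepQ 54798 Q54798 (allL N54798 (tt N87032 (iv1 F378116)) (tt N83072 (iv0 F285787)) (tt N52289 (iv2 F291574)) (tt N29039 (iv3 D102637)) (tt N55084 (iv4 F158629)) (tt N91113 D194076) (tt N53693 F157840) (tt N85832 (iv7 F374165)))
theorem Q54800 : ∀ i, i < 54800 → P i := stepQ 54799 Q54799 (allL N54799 (tt N54833 (iv1 F291705)) (tt N50249 F157851) (tt N50117 F157841) (tt N50345 (iv3 F157843)) (tt N29039 (iv4 D102638)) (tt N66720 F360908) (tt N50115 F157842) (tt N54834 (iv7 F291712)))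
theorem Q54801 : ∀ i, i < 54801 → P i := stepQ 54800 Q54800 (allL N54800 (tt N43922 F337103) (tt N43919 F337104) (tt N49811 (iv2 F286028)) (tt N91113 (iv3 F391987)) (tt N66568 F337105) (tt N29039 (iv5 D102639)) (tt N91114 D194077) (tt N49810 F286033))
theorem Q54802 : ∀ i, i < 54802 → P i := stepQ 54801 Q54801 (allL N54801 (tt N43919 (iv1 F337101)) (tt N43922 (iv0 F337102)) (tt N49810 F286032) (tt N49868 F157852) (tt N40283 F337099) (tt N29040 (iv5 D102641)) (tt N40282 F337100) (tt N49811 (iv7 F286031)))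
theorem Q54803 : ∀ i, i < 54803 → P i := stepQ 54802 Q54802 (allL N54802 (tt N54717 (iv1 F157860)) (tt N29043 (iv0 D102644)) (tt N54714 F359449) (tt N62860 (iv3 F359451)) (tt N59717 (iv4 F352824)) (tt N58579 (iv5 F344560)) (tt N91115 D194078) (tt N54715 F359450))
theorem Q54804 : ∀ i, i < 54804 → P i := stepQ 54803 Q54803 (allL N54803 (tt N29043 (iv1 D102645)) (tt N54717 F157857) (tt N54715 (iv2 F324383)) (tt N91116 D194079) (tt N31089 F322923) (tt N91117 D194080) (tt N87262 (iv6 F378935)) (tt N54714 (iv7 F324388)))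
theorem Q54805 : ∀ i, i < 54805 → P i := stepQ 54804 Q54804 (allL N54804 (tt N81840 F290051) (tt N29044 (iv0 D102662)) (tt N52921 (iv2 F289999)) (tt N49140 (iv3 F287493)) (tt N83366 (iv4 F287492)) (tt N49777 (iv5 F335638)) (tt N91118 D194081) (tt N81881 (iv7 F290001)))
theorem Q54806 : ∀ i, i < 54806 → P i := stepQ 54805 Q54805 (allL N54805 (tt N29044 (iv1 D102663)) (tt N81840 F290053) (tt N81881 F290019) (tt N91119 D194082) (tt N83365 F364220) (tt N49778 (iv5 F335643)) (tt N81911 F290057) (tt N52921 F290018))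
theorem Q54807 : ∀ i, i < 54807 → P i := stepQ 54806 Q54806 (allL N54806 (tt N90877 (iv1 F391132)) (tt N90879 (iv0 F391136)) (tt N81882 (iv2 F290123)) (tt N91120 D194083) (tt N29044 (iv4 D102664)) (tt N91121 D194084) (tt N91122 D194085) (tt N81884 (iv7 F290122)))
theorem Q54808 : ∀ i, i < 54808 → P i := stepQ 54807 Q54807 (allL N54807 (tt N91123 D194086) (tt N91124 D194087) (tt N81883 (iv2 F290124)) (tt N29049 F157901) (tt N91122 (iv4 F392018)) (tt N91125 D194088) (tt N29044 (iv6 D102665)) (tt N91126 D194089))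
theorem Q54809 : ∀ i, i < 54809 → P i := stepQ 54808 Q54808 (allL N54808 (tt N34803 F289787) (tt N52910 F289788) (tt N52908 F290031) (tt N29050 F157902) (tt N91127 D194090) (tt N29045 (iv5 D102666)) (tt N91125 (iv6 F392021)) (tt N50213 (iv7 F292672)))
theorem Q54810 : ∀ i, i < 54810 → P i := stepQ 54809 Q54809 (allL N54809 (tt N89334 (iv1 F386159)) (tt N89333 (iv0 F386152)) (tt N89338 F386179) (tt N29046 (iv3 D102667)) (tt N83327 (iv4 F287430)) (tt N49521 F157904) (tt N91128 D194091) (tt N84740 (iv7 F370437)))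
theorem Q54811 : ∀ i, i < 54811 → P i := stepQ 54810 Q54810 (allL N54810 (tt N50541 (iv1 F292342)) (tt N51496 (iv0 F292335)) (tt N53009 F157905) (tt N91129 D194092) (tt N29046 (iv4 D102668)) (tt N50774 F347706) (tt N91130 D194093) (tt N54597 F157906))
theorem Q54812 : ∀ i, i < 54812 → P i := stepQ 54811 Q54811 (allL N54811 (tt N91131 D194094) (tt N91132 D194095) (tt N53007 F157909) (tt N91128 (iv3 F392026)) (tt N91130 (iv4 F392032)) (tt N49523 F157910) (tt N29046 (iv6 D102669)) (tt N91133 D194096))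
theorem Q54813 : ∀ i, i < 54813 → P i := stepQ 54812 Q54812 (allL N54812 (tt N48837 F157918) (tt N49177 F285722) (tt N49179 F157913) (tt N29047 (iv3 D102670)) (tt N72672 F359514) (tt N49790 F157911) (tt N89802 (iv6 F387605)) (tt N49180 F157912))
theorem Q54814 : ∀ i, i < 54814 → P i := stepQ 54813 Q54813 (allL N54813 (tt N51496 (iv1 F292336)) (tt N50541 (iv0 F292341)) (tt N54597 F157914) (tt N64815 F358595) (tt N29047 (iv4 D102671)) (tt N50780 F347707) (tt N71490 F368480) (tt N53009 F157915))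
theorem Q54815 : ∀ i, i < 54815 → P i := stepQ 54814 Q54814 (allL N54814 (tt N91134 D194097) (tt N91135 D194098) (tt N91136 D194099) (tt N29048 (iv3 D102672)) (tt N91120 (iv4 F392017)) (tt N50785 (iv5 F367266)) (tt N91137 D194100) (tt N84742 (iv7 F370441)))
theorem Q54816 : ∀ i, i < 54816 → P i := stepQ 54815 Q54815 (allL N54815 (tt N90819 (iv1 F390969)) (tt N90821 F390976) (tt N84728 (iv2 F370376)) (tt N91137 (iv3 F392054)) (tt N29049 F157919) (tt N43652 F291517) (tt N29048 (iv6 D102673)) (tt N91138 D194101))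
theorem Q54817 : ∀ i, i < 54817 → P i := stepQ 54816 Q54816 (allL N54816 (tt N88425 (iv1 F382992)) (tt N29049 (iv0 D102674)) (tt N88423 F390235) (tt N91139 D194102) (tt N89931 F388034) (tt N91140 D194103) (tt N91141 D194104) (tt N88424 F390234))
theorem Q54818 : ∀ i, i < 54818 → P i := stepQ 54817 Q54817 (allL N54817 (tt N29049 (iv1 D102675)) (tt N88425 F382991) (tt N88424 F390233) (tt N91142 D194105) (tt N64885 F390227) (tt N91143 D194106) (tt N91144 D194107) (tt N88423 (iv7 F390237)))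
theorem Q54819 : ∀ i, i < 54819 → P i := stepQ 54818 Q54818 (allL N54818 (tt N91145 D194108) (tt N91146 D194109) (tt N52897 F157920) (tt N91125 (iv3 F392020)) (tt N71473 (iv4 F363625)) (tt N29049 (iv5 D102676)) (tt N29050 F157921) (tt N91147 D194110))
theorem Q54820 : ∀ i, i < 54820 → P i := stepQ 54819 Q54819 (allL N54819 (tt N88424 (iv1 F382986)) (tt N88423 F382990) (tt N88425 (iv2 F382987)) (tt N91126 (iv3 F392022)) (tt N91138 (iv4 F392059)) (tt N91147 (iv5 F392072)) (tt N84746 (iv6 F370449)) (tt N29049 (iv7 D102677)))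
theorem Q54821 : ∀ i, i < 54821 → P i := stepQ 54820 Q54820 (allL N54820 (tt N81878 (iv1 F290094)) (tt N29051 (iv0 D102698)) (tt N49148 (iv2 F157958)) (tt N91148 D194111) (tt N91149 D194112) (tt N86232 (iv5 F375492)) (tt N89700 (iv6 F387254)) (tt N88420 (iv7 F382974)))
theorem Q54822 : ∀ i, i < 54822 → P i := stepQ 54821 Q54821 (allL N54821 (tt N29051 (iv1 D102699)) (tt N81878 F290092) (tt N88420 F382972) (tt N48838 (iv3 F157955)) (tt N91150 D194113) (tt N49501 (iv5 F157956)) (tt N91151 D194114) (tt N49148 F157957))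
theorem Q54823 : ∀ i, i < 54823 → P i := stepQ 54822 Q54822 (allL N54822 (tt N91152 D194115) (tt N91153 D194116) (tt N89641 (iv2 F387048)) (tt N81371 F348228) (tt N29051 (iv4 D102700)) (tt N81369 (iv5 F348236)) (tt N91154 D194117) (tt N88421 (iv7 F382979)))
theorem Q54824 : ∀ i, i < 54824 → P i := stepQ 54823 Q54823 (allL N54823 (tt N91155 D194118) (tt N91156 D194119) (tt N89642 (iv2 F387049)) (tt N29053 F157959) (tt N91154 (iv4 F392103)) (tt N50799 F367244) (tt N29051 (iv6 D102701)) (tt N91157 D194120))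
theorem Q54825 : ∀ i, i < 54825 → P i := stepQ 54824 Q54824 (allL N54824 (tt N91158 D194121) (tt N91159 D194122) (tt N91160 D194123) (tt N29052 (iv3 D102703)) (tt N81371 (iv4 F348235)) (tt N64176 (iv5 F348244)) (tt N91161 D194124) (tt N64175 F348248))
theorem Q54826 : ∀ i, i < 54826 → P i := stepQ 54825 Q54825 (allL N54825 (tt N90836 F392108) (tt N90838 (iv0 F391015)) (tt N84743 (iv2 F370442)) (tt N91161 (iv3 F392114)) (tt N29053 F157965) (tt N91162 D194125) (tt N29052 (iv6 D102704)) (tt N91163 D194126))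
theorem Q54827 : ∀ i, i < 54827 → P i := stepQ 54826 Q54826 (allL N54826 (tt N84746 (iv1 F370455)) (tt N29053 (iv0 D102705)) (tt N84744 (iv2 F370453)) (tt N91164 D194127) (tt N91165 D194128) (tt N88926 (iv5 F384549)) (tt N91166 D194129) (tt N84745 F370454))
theorem Q54828 : ∀ i, i < 54828 → P i := stepQ 54827 Q54827 (allL N54827 (tt N29053 (iv1 D102706)) (tt N84746 F370451) (tt N84745 (iv2 F370446)) (tt N91167 D194130) (tt N91168 D194131) (tt N83926 (iv5 F367516)) (tt N81395 (iv6 F384814)) (tt N84744 (iv7 F370452)))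
theorem Q54829 : ∀ i, i < 54829 → P i := stepQ 54828 Q54828 (allL N54828 (tt N84745 (iv1 F370444)) (tt N84744 F370450) (tt N84746 (iv2 F370447)) (tt N91157 (iv3 F392110)) (tt N91163 (iv4 F392117)) (tt N50802 F367245) (tt N88425 (iv6 F382989)) (tt N29053 (iv7 D102708)))
theorem Q54830 : ∀ i, i < 54830 → P i := stepQ 54829 Q54829 (allL N54829 (tt N45140 F290544) (tt N45130 F290545) (tt N91169 D194132) (tt N29054 (iv3 D102717)) (tt N29055 F157980) (tt N84525 (iv5 F369612)) (tt N49213 F294018) (tt N29164 (iv7 F290573)))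
theorem Q54831 : ∀ i, i < 54831 → P i := stepQ 54830 Q54830 (allL N54830 (tt N55770 F290538) (tt N55767 F290539) (tt N29055 (iv2 D102725)) (tt N83322 F290540) (tt N91169 (iv4 F392139)) (tt N45070 F290541) (tt N51423 F290542) (tt N61015 F290543))
theorem Q54832 : ∀ i, i < 54832 → P i := stepQ 54831 Q54831 (allL N54831 (tt N50012 F290547) (tt N36389 F290548) (tt N45070 F290549) (tt N29056 F157992) (tt N45082 F290550) (tt N29055 (iv5 D102726)) (tt N32586 F290551) (tt N61178 F290552))
theorem Q54833 : ∀ i, i < 54833 → P i := stepQ 54832 Q54832 (allL N54832 (tt N32617 F290591) (tt N61142 F290592) (tt N61140 F290593) (tt N32586 F290594) (tt N90859 (iv4 F391067)) (tt N51425 F290595) (tt N29056 (iv6 D102730)) (tt N45065 F290596))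
theorem Q54834 : ∀ i, i < 54834 → P i := stepQ 54833 Q54833 (allL N54833 (tt N29057 (iv1 D102742)) (tt N54799 F291705) (tt N45127 F291706) (tt N61410 F339761) (tt N77561 (iv4 F333332)) (tt N45126 F291707) (tt N29079 F293772) (tt N77625 (iv7 F333322)))
theorem Q54835 : ∀ i, i < 54835 → P i := stepQ 54834 Q54834 (allL N54834 (tt N77625 (iv1 F333321)) (tt N45127 F291709) (tt N29057 (iv2 D102743)) (tt N85176 (iv3 F371811)) (tt N50796 (iv4 F293391)) (tt N91170 D194133) (tt N50795 (iv6 F293383)) (tt N54799 F291712))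
theorem Q54836 : ∀ i, i < 54836 → P i := stepQ 54835 Q54835 (allL N54835 (tt N42285 F314437) (tt N41737 (iv0 F316757)) (tt N91170 (iv2 F392144)) (tt N29058 F158008) (tt N76125 F314438) (tt N29057 (iv5 D102744)) (tt N42459 F291714) (tt N84484 (iv7 F369489)))
theorem Q54837 : ∀ i, i < 54837 → P i := stepQ 54836 Q54836 (allL N54836 (tt N91171 D194134) (tt N43485 F342781) (tt N91172 D194135) (tt N29059 (iv3 D102775)) (tt N43770 (iv4 F346102)) (tt N88416 (iv5 F382950)) (tt N91173 D194136) (tt N84726 (iv7 F370367)))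
theorem Q54838 : ∀ i, i < 54838 → P i := stepQ 54837 Q54837 (allL N54837 (tt N91174 D194137) (tt N91175 D194138) (tt N73363 (iv2 F346096)) (tt N91173 (iv3 F392166)) (tt N29060 F158028) (tt N91176 D194139) (tt N29059 (iv6 D102776)) (tt N91177 D194140))
theorem Q54839 : ∀ i, i < 54839 → P i := stepQ 54838 Q54838 (allL N54838 (tt N86783 (iv1 F377179)) (tt N29060 (iv0 D102777)) (tt N86781 F377169) (tt N55819 (iv3 F365209)) (tt N75134 F365208) (tt N91178 D194141) (tt N55816 F365210) (tt N86782 F377168))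
theorem Q54840 : ∀ i, i < 54840 → P i := stepQ 54839 Q54839 (allL N54839 (tt N29060 (iv1 D102778)) (tt N86783 F377178) (tt N86782 (iv2 F377171)) (tt N91179 D194142) (tt N75133 (iv4 F377180)) (tt N91180 D194143) (tt N91181 D194144) (tt N86781 F377170))
theorem Q54841 : ∀ i, i < 54841 → P i := stepQ 54840 Q54840 (allL N54840 (tt N86782 (iv1 F377157)) (tt N86781 F377172) (tt N86783 (iv2 F377173)) (tt N47591 F355650) (tt N91177 (iv4 F392179)) (tt N29098 F158029) (tt N47590 F355651) (tt N29060 (iv7 D102779)))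
theorem Q54842 : ∀ i, i < 54842 → P i := stepQ 54841 Q54841 (allL N54841 (tt N82431 F280853) (tt N91182 D194145) (tt N91183 D194146) (tt N29061 (iv3 D102780)) (tt N29063 F158030) (tt N80586 (iv5 F268483)) (tt N81958 (iv6 F277634)) (tt N79429 (iv7 F256259)))
theorem Q54843 : ∀ i, i < 54843 → P i := stepQ 54842 Q54842 (allL N54842 (tt N29062 (iv1 D102781)) (tt N31209 (iv0 F325720)) (tt N31879 F325337) (tt N52809 F299279) (tt N47830 (iv4 F158035)) (tt N46410 (iv5 F158033)) (tt N63870 F299280) (tt N47886 F158032))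
theorem Q54844 : ∀ i, i < 54844 → P i := stepQ 54843 Q54843 (allL N54843 (tt N79845 (iv1 F258603)) (tt N29063 (iv0 D102783)) (tt N79844 (iv2 F443830)) (tt N91184 D194148) (tt N91185 D194149) (tt N86874 (iv5 F443829)) (tt N91186 D194151) (tt N79843 (iv7 F443833)))
theorem Q54845 : ∀ i, i < 54845 → P i := stepQ 54844 Q54844 (allL N54844 (tt N29063 (iv1 D102784)) (tt N79845 F258605) (tt N79843 (iv2 F443832)) (tt N91187 D194153) (tt N91188 D194154) (tt N86875 (iv5 F443835)) (tt N79251 (iv6 F443836)) (tt N79844 (iv7 F443831)))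
theorem Q54846 : ∀ i, i < 54846 → P i := stepQ 54845 Q54845 (allL N54845 (tt N79844 (iv1 F258604)) (tt N79843 F258600) (tt N29063 (iv2 D102785)) (tt N49352 F158041) (tt N91183 (iv4 F392191)) (tt N81641 (iv5 F276269)) (tt N91189 D194157) (tt N79845 (iv7 F258602)))
theorem Q54847 : ∀ i, i < 54847 → P i := stepQ 54846 Q54846 (allL N54846 (tt N51734 F365880) (tt N91190 D194158) (tt N91189 (iv2 F392200)) (tt N29064 F158042) (tt N81958 (iv4 F277633)) (tt N91191 D194159) (tt N29063 (iv6 D102786)) (tt N79463 (iv7 F302204)))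
theorem Q54848 : ∀ i, i < 54848 → P i := stepQ 54847 Q54847 (allL N54847 (tt N80539 (iv1 F298772)) (tt N65146 (iv0 F199387)) (tt N49348 F158043) (tt N91191 (iv3 F392210)) (tt N81259 (iv4 F273946)) (tt N29064 (iv5 D102787)) (tt N81646 (iv6 F276272)) (tt N79464 (iv7 F302209)))
theorem Q54849 : ∀ i, i < 54849 → P i := stepQ 54848 Q54848 (allL N54848 (tt N49352 (iv1 F158076)) (tt N29066 (iv0 D102813)) (tt N49351 F364545) (tt N59689 F364546) (tt N65604 F364547) (tt N86868 (iv5 F377502)) (tt N79631 F365836) (tt N49350 F364548))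
theorem Q54850 : ∀ i, i < 54850 → P i := stepQ 54849 Q54849 (allL N54849 (tt N29066 (iv1 D102814)) (tt N49352 F158079) (tt N49350 F364549) (tt N91192 D194160) (tt N91193 D194161) (tt N86869 F377512) (tt N91194 D194162) (tt N49351 F364550))
theorem Q54851 : ∀ i, i < 54851 → P i := stepQ 54850 Q54850 (allL N54850 (tt N49351 (iv1 F158080)) (tt N49350 F158078) (tt N29066 (iv2 D102815)) (tt N79845 (iv3 F258601)) (tt N79678 (iv4 F257722)) (tt N62661 (iv5 F350530)) (tt N59702 (iv6 F356056)) (tt N49352 F158077))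
theorem Q54852 : ∀ i, i < 54852 → P i := stepQ 54851 Q54851 (allL N54851 (tt N59882 (iv1 F353335)) (tt N54716 (iv0 F353332)) (tt N79847 (iv2 F258607)) (tt N71735 (iv3 F359234)) (tt N54489 F353333) (tt N29067 (iv5 D102818)) (tt N81651 (iv6 F276278)) (tt N84266 (iv7 F368740)))
theorem Q54853 : ∀ i, i < 54853 → P i := stepQ 54852 Q54852 (allL N54852 (tt N31103 (iv1 F324537)) (tt N31105 (iv0 F325299)) (tt N59756 F324437) (tt N59703 F324438) (tt N29070 F158082) (tt N84266 (iv5 F368739)) (tt N49349 F158083) (tt N29067 (iv7 D102819)))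
theorem Q54854 : ∀ i, i < 54854 → P i := stepQ 54853 Q54853 (allL N54853 (tt N54747 (iv1 F360978)) (tt N54746 (iv0 F367216)) (tt N51421 (iv2 F292487)) (tt N29071 (iv3 D102856)) (tt N52301 F158167) (tt N86905 (iv5 F377654)) (tt N77627 F349315) (tt N54741 (iv7 F294482)))
theorem Q54855 : ∀ i, i < 54855 → P i := stepQ 54854 Q54854 (allL N54854 (tt N50564 (iv1 F158170)) (tt N50545 (iv0 F362646)) (tt N50567 F158168) (tt N50571 (iv3 F158171)) (tt N29071 (iv4 D102857)) (tt N86736 (iv5 F377033)) (tt N83321 (iv6 F362651)) (tt N50565 F158169))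
theorem Q54856 : ∀ i, i < 54856 → P i := stepQ 54855 Q54855 (allL N54855 (tt N51583 (iv1 F340449)) (tt N50068 (iv0 F362336)) (tt N29074 F158174) (tt N60253 (iv3 F292450)) (tt N91195 D194163) (tt N29073 (iv5 D102862)) (tt N91196 D194164) (tt N83707 (iv7 F288660)))
theorem Q54857 : ∀ i, i < 54857 → P i := stepQ 54856 Q54856 (allL N54856 (tt N50904 F291620) (tt N51083 F291621) (tt N29075 F158175) (tt N83638 (iv3 F292453)) (tt N54726 F291622) (tt N85805 (iv5 F374027)) (tt N29073 (iv6 D102863)) (tt N51078 F291623))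
theorem Q54858 : ∀ i, i < 54858 → P i := stepQ 54857 Q54857 (allL N54857 (tt N78535 (iv1 F468388)) (tt N91197 D194166) (tt N91195 (iv2 F392230)) (tt N81596 (iv3 F276208)) (tt N29074 (iv4 D102866)) (tt N91198 D194167) (tt N91199 D194168) (tt N83708 (iv7 F288665)))
theorem Q54859 : ∀ i, i < 54859 → P i := stepQ 54858 Q54858 (allL N54858 (tt N91200 D194169) (tt N91201 D194170) (tt N91196 (iv2 F392231)) (tt N29076 F158176) (tt N91199 (iv4 F392236)) (tt N63407 F367082) (tt N29074 (iv6 D102867)) (tt N91202 D194171))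
theorem Q54860 : ∀ i, i < 54860 → P i := stepQ 54859 Q54859 (allL N54859 (tt N50069 F344370) (tt N50026 F344372) (tt N85805 F374029) (tt N29077 F158177) (tt N80494 (iv4 F344374)) (tt N29075 (iv5 D102870)) (tt N63407 F291382) (tt N51084 F291383))
theorem Q54861 : ∀ i, i < 54861 → P i := stepQ 54860 Q54860 (allL N54860 (tt N83756 (iv1 F289016)) (tt N29076 (iv0 D102872)) (tt N83757 F377425) (tt N91203 D194172) (tt N86848 (iv4 F377424)) (tt N91204 D194173) (tt N91205 D194174) (tt N83758 F377426))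
theorem Q54862 : ∀ i, i < 54862 → P i := stepQ 54861 Q54861 (allL N54861 (tt N29076 (iv1 D102873)) (tt N83756 F289015) (tt N83758 (iv2 F377427)) (tt N69625 F377417) (tt N86849 (iv4 F377415)) (tt N91206 D194175) (tt N91207 D194176) (tt N83757 (iv7 F377419)))
theorem Q54863 : ∀ i, i < 54863 → P i := stepQ 54862 Q54862 (allL N54862 (tt N46000 F291388) (tt N80899 F355328) (tt N81450 (iv2 F326297)) (tt N63407 F291389) (tt N91208 D194177) (tt N29076 (iv5 D102874)) (tt N29077 F158180) (tt N81451 (iv7 F355322)))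
theorem Q54864 : ∀ i, i < 54864 → P i := stepQ 54863 Q54863 (allL N54863 (tt N83758 (iv1 F289018)) (tt N83757 F289017) (tt N83756 (iv2 F289013)) (tt N91202 (iv3 F392246)) (tt N81602 (iv4 F276213)) (tt N81451 F355323) (tt N83711 (iv6 F288669)) (tt N29076 (iv7 D102875)))
theorem Q54865 : ∀ i, i < 54865 → P i := stepQ 54864 Q54864 (allL N54864 (tt N48622 F291384) (tt N50083 F291385) (tt N82747 (iv2 F292115)) (tt N80497 F344375) (tt N29077 (iv4 D102883)) (tt N49267 F291386) (tt N91208 (iv6 F392262)) (tt N51092 F291387))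
theorem Q54866 : ∀ i, i < 54866 → P i := stepQ 54865 Q54865 (allL N54865 (tt N54503 (iv1 F369299)) (tt N82766 F367152) (tt N53355 (iv2 F367151)) (tt N91209 D194178) (tt N29078 (iv4 D102893)) (tt N91210 D194179) (tt N53354 F367150) (tt N84444 (iv7 F369298)))
theorem Q54867 : ∀ i, i < 54867 → P i := stepQ 54866 Q54866 (allL N54866 (tt N88428 (iv1 F383010)) (tt N83703 (iv0 F339781)) (tt N88427 (iv2 F383002)) (tt N29079 (iv3 D102897)) (tt N87841 F380799) (tt N74485 F339779) (tt N61410 (iv6 F339778)) (tt N84446 (iv7 F369311)))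
theorem Q54868 : ∀ i, i < 54868 → P i := stepQ 54867 Q54867 (allL N54867 (tt N82766 F361063) (tt N54503 (iv0 F367156)) (tt N84444 (iv2 F369296)) (tt N52297 F158202) (tt N29079 (iv4 D102898)) (tt N88782 (iv5 F384130)) (tt N77561 (iv6 F357336)) (tt N53355 (iv7 F367096)))
theorem Q54869 : ∀ i, i < 54869 → P i := stepQ 54868 Q54868 (allL N54868 (tt N51482 (iv1 F331370)) (tt N51521 F331369) (tt N29081 F158203) (tt N51555 (iv3 F331372)) (tt N91211 D194180) (tt N29080 (iv5 D102901)) (tt N91212 D194181) (tt N51546 F331371))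
theorem Q54870 : ∀ i, i < 54870 → P i := stepQ 54869 Q54869 (allL N54869 (tt N29081 (iv1 D102904)) (tt N51546 F331373) (tt N51521 (iv2 F331374)) (tt N88685 (iv3 F383886)) (tt N87576 (iv4 F379791)) (tt N50713 F331375) (tt N91213 D194182) (tt N51482 (iv7 F331376)))
theorem Q54871 : ∀ i, i < 54871 → P i := stepQ 54870 Q54870 (allL N54870 (tt N83952 (iv1 F367592)) (tt N91214 D194183) (tt N91211 (iv2 F392276)) (tt N59924 (iv3 F326848)) (tt N29081 (iv4 D102905)) (tt N91215 D194184) (tt N86540 (iv6 F392301)) (tt N51547 (iv7 F367209)))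
theorem Q54872 : ∀ i, i < 54872 → P i := stepQ 54871 Q54871 (allL N54871 (tt N91216 D194186) (tt N91217 D194187) (tt N91212 (iv2 F392280)) (tt N29082 F158205) (tt N86540 (iv4 F392300)) (tt N50986 F367189) (tt N29081 (iv6 D102906)) (tt N91218 D194188))
theorem Q54873 : ∀ i, i < 54873 → P i := stepQ 54872 Q54872 (allL N54872 (tt N51562 (iv1 F352919)) (tt N29082 (iv0 D102911)) (tt N51560 F385128) (tt N87480 F385129) (tt N81611 F385130) (tt N91219 D194189) (tt N91220 D194190) (tt N51561 F385131))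
theorem Q54874 : ∀ i, i < 54874 → P i := stepQ 54873 Q54873 (allL N54873 (tt N29082 (iv1 D102912)) (tt N51562 F367208) (tt N51561 F385124) (tt N85170 (iv3 F399773)) (tt N81612 F385126) (tt N91221 D194191) (tt N91222 D194192) (tt N51560 F385127))
theorem Q54875 : ∀ i, i < 54875 → P i := stepQ 54874 Q54874 (allL N54874 (tt N51561 (iv1 F367207)) (tt N51560 F352920) (tt N51562 F352917) (tt N91218 (iv3 F392303)) (tt N68388 (iv4 F352931)) (tt N50998 F367190) (tt N51554 (iv6 F352918)) (tt N29082 (iv7 D102914)))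
theorem Q54876 : ∀ i, i < 54876 → P i := stepQ 54875 Q54875 (allL N54875 (tt N83705 F288645) (tt N85495 (iv0 F372835)) (tt N84750 (iv2 F370469)) (tt N29083 (iv3 D102918)) (tt N50792 F158220) (tt N86831 (iv5 F377349)) (tt N85180 (iv6 F371829)) (tt N84448 (iv7 F369319)))
theorem Q54877 : ∀ i, i < 54877 → P i := stepQ 54876 Q54876 (allL N54876 (tt N55587 F350495) (tt N49213 (iv0 F158221)) (tt N55586 (iv2 F350517)) (tt N85453 F372674) (tt N29083 (iv4 D102919)) (tt N41166 F350496) (tt N55242 (iv6 F350499)) (tt N55530 (iv7 F350497)))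
theorem Q54878 : ∀ i, i < 54878 → P i := stepQ 54877 Q54877 (allL N54877 (tt N49213 F284060) (tt N55587 F350514) (tt N55530 F294015) (tt N49203 F158223) (tt N29084 (iv4 D102924)) (tt N41165 F350471) (tt N29134 F294016) (tt N55586 (iv7 F350518)))
theorem Q54879 : ∀ i, i < 54879 → P i := stepQ 54878 Q54878 (allL N54878 (tt N51533 F293783) (tt N38216 F293784) (tt N29086 F158224) (tt N51546 F293785) (tt N91223 D194193) (tt N29085 (iv5 D102927)) (tt N45998 F293786) (tt N51555 F293787))
theorem Q54880 : ∀ i, i < 54880 → P i := stepQ 54879 Q54879 (allL N54879 (tt N45035 F293792) (tt N45033 F293793) (tt N29087 F158225) (tt N83640 F293794) (tt N55495 F293795) (tt N45999 F293796) (tt N29085 (iv6 D102928)) (tt N45129 F293797))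
theorem Q54881 : ∀ i, i < 54881 → P i := stepQ 54880 Q54880 (allL N54880 (tt N51555 F293777) (tt N29086 (iv0 D102929)) (tt N51533 F293778) (tt N88947 (iv3 F384583)) (tt N91224 D194194) (tt N50716 F293779) (tt N69608 F293780) (tt N38216 F293781))
theorem Q54882 : ∀ i, i < 54882 → P i := stepQ 54881 Q54881 (allL N54881 (tt N83604 F358227) (tt N52663 (iv0 F348787)) (tt N91223 (iv2 F392328)) (tt N78512 (iv3 F249007)) (tt N29086 (iv4 D102931)) (tt N82567 (iv5 F282818)) (tt N63818 F367149) (tt N51556 (iv7 F367206)))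
theorem Q54883 : ∀ i, i < 54883 → P i := stepQ 54882 Q54882 (allL N54882 (tt N51554 (iv1 F367148)) (tt N29088 (iv0 D102937)) (tt N51551 F377446) (tt N86442 (iv3 F377533)) (tt N81599 F377531) (tt N91225 D194195) (tt N91226 D194196) (tt N51552 F377448))
theorem Q54884 : ∀ i, i < 54884 → P i := stepQ 54883 Q54883 (allL N54883 (tt N29088 (iv1 D102938)) (tt N51554 (iv0 F367182)) (tt N51552 F377445) (tt N91227 D194197) (tt N81600 (iv4 F377543)) (tt N61481 (iv5 F367181)) (tt N91228 D194198) (tt N51551 (iv7 F377444)))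
theorem Q54885 : ∀ i, i < 54885 → P i := stepQ 54884 Q54884 (allL N54884 (tt N51552 F293798) (tt N51551 F293799) (tt N51554 F293800) (tt N45996 F293801) (tt N78520 (iv4 F249016)) (tt N45995 F293802) (tt N51562 F293803) (tt N29088 (iv7 D102940)))
theorem Q54886 : ∀ i, i < 54886 → P i := stepQ 54885 Q54885 (allL N54885 (tt N47475 F321776) (tt N50753 F293278) (tt N82746 F293279) (tt N60355 F342191) (tt N29089 (iv4 D102943)) (tt N37139 F323376) (tt N47526 F323377) (tt N51013 F293282))
theorem Q54887 : ∀ i, i < 54887 → P i := stepQ 54886 Q54886 (allL N54886 (tt N75991 F293759) (tt N29090 (iv0 D102956)) (tt N45131 F293760) (tt N88427 F383000) (tt N49208 F158245) (tt N51349 F293761) (tt N45033 F293762) (tt N83658 F293763))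
theorem Q54888 : ∀ i, i < 54888 → P i := stepQ 54887 Q54887 (allL N54887 (tt N45131 F293643) (tt N83658 (iv0 F294544)) (tt N29090 (iv2 D102957)) (tt N50795 F158246) (tt N52131 F293644) (tt N37467 F293645) (tt N85176 (iv6 F371814)) (tt N75991 F293646))
theorem Q54889 : ∀ i, i < 54889 → P i := stepQ 54888 Q54888 (allL N54888 (tt N51271 (iv1 F367155)) (tt N51275 F367154) (tt N29092 F158249) (tt N91229 D194199) (tt N29091 (iv4 D102966)) (tt N29092 F158250) (tt N91230 D194200) (tt N51334 F367153))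
theorem Q54890 : ∀ i, i < 54890 → P i := stepQ 54889 Q54889 (allL N54889 (tt N51312 F363542) (tt N91231 D194201) (tt N29093 F158251) (tt N73963 F363540) (tt N91230 (iv4 F392360)) (tt N51288 (iv5 F363541)) (tt N29091 (iv6 D102967)) (tt N91232 D194202))
theorem Q54891 : ∀ i, i < 54891 → P i := stepQ 54890 Q54890 (allL N54890 (tt N91233 D194203) (tt N91234 D194204) (tt N91235 D194205) (tt N29092 (iv3 D102976)) (tt N29094 F158255) (tt N91229 (iv5 F392357)) (tt N91236 D194206) (tt N80661 (iv7 F270258)))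
theorem Q54892 : ∀ i, i < 54892 → P i := stepQ 54891 Q54891 (allL N54891 (tt N91237 D194207) (tt N91238 D194208) (tt N91230 (iv2 F392359)) (tt N91236 (iv3 F392375)) (tt N29093 F158256) (tt N91239 D194209) (tt N29092 (iv6 D102977)) (tt N91240 D194210))
theorem Q54893 : ∀ i, i < 54893 → P i := stepQ 54892 Q54892 (allL N54892 (tt N91232 (iv1 F392372)) (tt N29093 (iv0 D102978)) (tt N51312 F293755) (tt N43004 F293756) (tt N91241 D194211) (tt N42998 F293757) (tt N42999 F293758) (tt N91231 (iv7 F392362)))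
theorem Q54894 : ∀ i, i < 54894 → P i := stepQ 54893 Q54893 (allL N54893 (tt N29093 (iv1 D102979)) (tt N91232 F392371) (tt N91231 F392364) (tt N55792 (iv3 F364521)) (tt N91242 D194212) (tt N55785 F364520) (tt N91243 D194213) (tt N51312 (iv7 F364522)))
theorem Q54895 : ∀ i, i < 54895 → P i := stepQ 54894 Q54894 (allL N54894 (tt N91231 (iv1 F392361)) (tt N51312 (iv0 F355663)) (tt N91232 (iv2 F392367)) (tt N29098 F158257) (tt N91240 (iv4 F392380)) (tt N47591 F355836) (tt N83680 F355835) (tt N29093 (iv7 D102980)))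
theorem Q54896 : ∀ i, i < 54896 → P i := stepQ 54895 Q54895 (allL N54895 (tt N80658 (iv1 F270254)) (tt N29094 (iv0 D102999)) (tt N80660 (iv2 F413678)) (tt N91244 D194215) (tt N91245 D194216) (tt N79837 (iv5 F413684)) (tt N91246 D194218) (tt N80659 (iv7 F413688)))
theorem Q54897 : ∀ i, i < 54897 → P i := stepQ 54896 Q54896 (allL N54896 (tt N29094 (iv1 D103000)) (tt N80658 F270253) (tt N80659 (iv2 F413686)) (tt N91247 D194220) (tt N91248 D194221) (tt N79838 F380920) (tt N91249 D194222) (tt N80660 (iv7 F413679)))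
theorem Q54898 : ∀ i, i < 54898 → P i := stepQ 54897 Q54897 (allL N54897 (tt N80660 (iv1 F270256)) (tt N80659 F270255) (tt N29094 (iv2 D103001)) (tt N78671 (iv3 F250191)) (tt N91235 (iv4 F392374)) (tt N78487 (iv5 F248917)) (tt N91250 D194223) (tt N80658 (iv7 F270252)))
theorem Q54899 : ∀ i, i < 54899 → P i := stepQ 54898 Q54898 (allL N54898 (tt N71837 F390836) (tt N71839 (iv0 F396288)) (tt N91250 (iv2 F392405)) (tt N29095 F158264) (tt N91236 (iv4 F392376)) (tt N71622 (iv5 F390838)) (tt N29094 (iv6 D103002)) (tt N91251 D194225))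
theorem Q54900 : ∀ i, i < 54900 → P i := stepQ 54899 Q54899 (allL N54899 (tt N29095 (iv1 D103004)) (tt N74138 (iv0 F357462)) (tt N62659 (iv2 F355627)) (tt N74173 F355629) (tt N83727 (iv4 F355661)) (tt N66524 (iv5 F355628)) (tt N90745 F390715) (tt N74179 F355626))
theorem Q54901 : ∀ i, i < 54901 → P i := stepQ 54900 Q54900 (allL N54900 (tt N62659 (iv1 F355659)) (tt N74179 (iv0 F357481)) (tt N74138 (iv2 F357464)) (tt N91251 (iv3 F392406)) (tt N29098 F158265) (tt N62644 (iv5 F357475)) (tt N80664 (iv6 F270263)) (tt N29095 (iv7 D103006)))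
theorem Q54902 : ∀ i, i < 54902 → P i := stepQ 54901 Q54901 (allL N54901 (tt N61253 F355824) (tt N74484 F355634) (tt N55794 F355635) (tt N29096 (iv3 D103008)) (tt N43051 F355636) (tt N34065 F355637) (tt N34066 F355638) (tt N88436 (iv7 F383037)))
theorem Q54903 : ∀ i, i < 54903 → P i := stepQ 54902 Q54902 (allL N54902 (tt N91252 D194226) (tt N78501 (iv0 F355823)) (tt N86797 (iv2 F377235)) (tt N62475 (iv3 F355631)) (tt N29096 (iv4 D103009)) (tt N62474 F355630) (tt N86484 (iv6 F376359)) (tt N73627 (iv7 F355632)))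
theorem Q54904 : ∀ i, i < 54904 → P i := stepQ 54903 Q54903 (allL N54903 (tt N73962 F355642) (tt N91253 D194227) (tt N80022 F355643) (tt N34065 F355644) (tt N64666 F355645) (tt N29096 (iv5 D103010)) (tt N34063 F355646) (tt N88437 (iv7 F383043)))
theorem Q54905 : ∀ i, i < 54905 → P i := stepQ 54904 Q54904 (allL N54904 (tt N56584 F356097) (tt N56583 F356098) (tt N56585 F356099) (tt N29097 (iv3 D103013)) (tt N68824 F356100) (tt N80023 F356101) (tt N56599 F356102) (tt N29963 F356103))
theorem Q54906 : ∀ i, i < 54906 → P i := stepQ 54905 Q54905 (allL N54905 (tt N78501 (iv1 F356091)) (tt N91252 F392412) (tt N73627 (iv2 F355617)) (tt N82609 F355616) (tt N29097 (iv4 D103014)) (tt N73626 (iv5 F355618)) (tt N69494 (iv6 F356092)) (tt N86797 (iv7 F377238)))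
theorem Q54907 : ∀ i, i < 54907 → P i := stepQ 54906 Q54906 (allL N54906 (tt N91253 (iv1 F392415)) (tt N73962 (iv0 F355615)) (tt N88437 (iv2 F383041)) (tt N80023 (iv3 F356104)) (tt N91254 D194228) (tt N29097 (iv5 D103015)) (tt N85829 (iv6 F374146)) (tt N80022 F356105))
theorem Q54908 : ∀ i, i < 54908 → P i := stepQ 54907 Q54907 (allL N54907 (tt N86794 (iv1 F377225)) (tt N86793 F377221) (tt N86795 (iv2 F377230)) (tt N56599 F356096) (tt N69494 F356094) (tt N86060 (iv5 F375034)) (tt N29097 (iv6 D103016)) (tt N56596 (iv7 F356095)))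
theorem Q54909 : ∀ i, i < 54909 → P i := stepQ 54908 Q54908 (allL N54908 (tt N55420 F289643) (tt N51639 F289644) (tt N55107 (iv2 F158890)) (tt N48903 F158268) (tt N29100 F158269) (tt N59714 (iv5 F348563)) (tt N29099 (iv6 D103017)) (tt N55522 F289645))
theorem Q54910 : ∀ i, i < 54910 → P i := stepQ 54909 Q54909 (allL N54909 (tt N55158 (iv1 F350169)) (tt N55172 (iv0 F350167)) (tt N55108 (iv2 F158894)) (tt N89085 (iv3 F385102)) (tt N80043 (iv4 F343036)) (tt N29100 (iv5 D103020)) (tt N87088 (iv6 F378334)) (tt N55523 F289650))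
theorem Q54911 : ∀ i, i < 54911 → P i := stepQ 54910 Q54910 (allL N54910 (tt N85280 F372158) (tt N51628 (iv0 F176026)) (tt N55114 (iv2 F158918)) (tt N48909 F158270) (tt N29101 (iv4 D103022)) (tt N91255 D194229) (tt N84665 (iv6 F370106)) (tt N55116 (iv7 F158936)))
theorem Q54912 : ∀ i, i < 54912 → P i := stepQ 54911 Q54911 (allL N54911 (tt N55230 (iv1 F363043)) (tt N83216 (iv0 F363044)) (tt N55115 (iv2 F158926)) (tt N89907 (iv3 F387947)) (tt N91256 D194230) (tt N29101 (iv5 D103023)) (tt N91257 D194231) (tt N55117 (iv7 F158939)))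
theorem Q54913 : ∀ i, i < 54913 → P i := stepQ 54912 Q54912 (allL N54912 (tt N51628 (iv1 F176027)) (tt N85280 (iv0 F372157)) (tt N55116 (iv2 F158934)) (tt N55054 (iv3 F158519)) (tt N29102 (iv4 D103025)) (tt N91258 D194232) (tt N91259 D194233) (tt N55114 (iv7 F158919)))
theorem Q54914 : ∀ i, i < 54914 → P i := stepQ 54913 Q54913 (allL N54913 (tt N83216 (iv1 F363045)) (tt N55230 (iv0 F363042)) (tt N55117 (iv2 F158937)) (tt N89093 (iv3 F385139)) (tt N91260 D194234) (tt N29102 (iv5 D103026)) (tt N91261 D194235) (tt N55115 (iv7 F158927)))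
theorem Q54915 : ∀ i, i < 54915 → P i := stepQ 54914 Q54914 (allL N54914 (tt N29354 F343080) (tt N29390 F343081) (tt N55118 (iv2 F158940)) (tt N89094 (iv3 F385142)) (tt N91259 (iv4 F392436)) (tt N84502 (iv5 F369554)) (tt N29102 (iv6 D103027)) (tt N55437 F343068))
theorem Q54916 : ∀ i, i < 54916 → P i := stepQ 54915 Q54915 (allL N54915 (tt N55122 (iv1 F158950)) (tt N29103 (iv0 D103028)) (tt N55119 (iv2 F270492)) (tt N91262 D194236) (tt N91263 D194237) (tt N84588 (iv5 F369783)) (tt N91264 D194238) (tt N55120 F270491))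
theorem Q54917 : ∀ i, i < 54917 → P i := stepQ 54916 Q54916 (allL N54916 (tt N29103 (iv1 D103029)) (tt N55122 F158949) (tt N55120 F270489) (tt N84272 F372067) (tt N91265 D194239) (tt N51747 (iv5 F158272)) (tt N91266 D194240) (tt N55119 (iv7 F270490)))
theorem Q54918 : ∀ i, i < 54918 → P i := stepQ 54917 Q54917 (allL N54917 (tt N76839 (iv1 F392447)) (tt N76606 (iv0 F392446)) (tt N55121 (iv2 F158944)) (tt N91267 D194241) (tt N29103 (iv4 D103030)) (tt N91268 D194242) (tt N75932 (iv6 F234623)) (tt N76838 (iv7 F360760)))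
theorem Q54919 : ∀ i, i < 54919 → P i := stepQ 54918 Q54918 (allL N54918 (tt N55120 (iv1 F158942)) (tt N55119 F158948) (tt N55122 (iv2 F158945)) (tt N29113 F158273) (tt N76838 F360759) (tt N29104 F158274) (tt N90582 (iv6 F422925)) (tt N29103 (iv7 D103031)))
theorem Q54920 : ∀ i, i < 54920 → P i := stepQ 54919 Q54919 (allL N54919 (tt N88186 (iv1 F382085)) (tt N90988 F391488) (tt N29146 F319841) (tt N90658 (iv3 F390434)) (tt N69308 (iv4 F343373)) (tt N29105 (iv5 D103035)) (tt N88246 (iv6 F382332)) (tt N29149 F319842))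
theorem Q54921 : ∀ i, i < 54921 → P i := stepQ 54920 Q54920 (allL N54920 (tt N90988 F391487) (tt N88186 (iv0 F382084)) (tt N29149 F319859) (tt N39228 F319386) (tt N91269 D194244) (tt N29106 (iv5 D103039)) (tt N39225 F319387) (tt N29146 F319860))
theorem Q54922 : ∀ i, i < 54922 → P i := stepQ 54921 Q54921 (allL N54921 (tt N80648 (iv1 F337134)) (tt N68060 (iv0 F346774)) (tt N29152 F158277) (tt N63638 (iv3 F359352)) (tt N29107 (iv4 D103042)) (tt N91270 D194245) (tt N29112 F158278) (tt N81542 (iv7 F346769)))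
theorem Q54923 : ∀ i, i < 54923 → P i := stepQ 54922 Q54922 (allL N54922 (tt N29151 (iv1 F158282)) (tt N29150 F158283) (tt N29153 F158279) (tt N75933 (iv3 F234624)) (tt N81542 F346782) (tt N29108 F158280) (tt N91271 D194246) (tt N29107 (iv7 D103043)))
theorem Q54924 : ∀ i, i < 54924 → P i := stepQ 54923 Q54923 (allL N54923 (tt N44093 F328599) (tt N34369 F328600) (tt N29165 F158284) (tt N57384 F336624) (tt N29109 (iv4 D103044)) (tt N51216 (iv5 F336623)) (tt N91272 D194247) (tt N29159 F158285))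
theorem Q54925 : ∀ i, i < 54925 → P i := stepQ 54924 Q54924 (allL N54924 (tt N91273 D194248) (tt N91274 D194249) (tt N29166 F158286) (tt N89513 (iv3 F386694)) (tt N91272 (iv4 F392485)) (tt N84524 (iv5 F369611)) (tt N29109 (iv6 D103045)) (tt N91275 D194250))
theorem Q54926 : ∀ i, i < 54926 → P i := stepQ 54925 Q54925 (allL N54925 (tt N85265 (iv1 F372075)) (tt N55162 (iv0 F365263)) (tt N90781 F390820) (tt N29111 (iv3 D103046)) (tt N91276 D194251) (tt N51225 F365264) (tt N74626 (iv6 F376040)) (tt N29171 F158287))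
theorem Q54927 : ∀ i, i < 54927 → P i := stepQ 54926 Q54926 (allL N54926 (tt N91277 D194252) (tt N91278 D194253) (tt N29170 F158291) (tt N74626 F376045) (tt N90201 (iv4 F388871)) (tt N29407 F158292) (tt N29111 (iv6 D103048)) (tt N91279 D194254))
theorem Q54928 : ∀ i, i < 54928 → P i := stepQ 54927 Q54927 (allL N54927 (tt N29178 (iv1 F158296)) (tt N29112 (iv0 D103049)) (tt N29174 (iv2 F158294)) (tt N89206 (iv3 F385586)) (tt N48964 F293993) (tt N29342 F293994) (tt N89204 (iv6 F385574)) (tt N29175 F158295))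
theorem Q54929 : ∀ i, i < 54929 → P i := stepQ 54928 Q54928 (allL N54928 (tt N63765 F357004) (tt N76158 F357008) (tt N44113 (iv2 F349915)) (tt N29112 (iv3 D103050)) (tt N91267 (iv4 F392463)) (tt N42344 F353039) (tt N63638 F353040) (tt N44116 F349913))
theorem Q54930 : ∀ i, i < 54930 → P i := stepQ 54929 Q54929 (allL N54929 (tt N90596 (iv1 F392526)) (tt N91280 D194256) (tt N29179 F158305) (tt N90582 (iv3 F422923)) (tt N86367 (iv4 F375970)) (tt N55140 (iv5 F158997)) (tt N29113 (iv6 D103053)) (tt N91271 (iv7 F392481)))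
theorem Q54931 : ∀ i, i < 54931 → P i := stepQ 54930 Q54930 (allL N54930 (tt N83224 F340542) (tt N55280 (iv0 F159303)) (tt N56939 (iv2 F352867)) (tt N29115 F158306) (tt N71204 F352866) (tt N29114 (iv5 D103054)) (tt N56943 (iv6 F352868)) (tt N29202 F158307))
theorem Q54932 : ∀ i, i < 54932 → P i := stepQ 54931 Q54931 (allL N54931 (tt N49964 F158314) (tt N63798 (iv0 F347877)) (tt N29188 F158312) (tt N77733 F365595) (tt N29115 (iv4 D103056)) (tt N51217 F336626) (tt N75257 (iv6 F353851)) (tt N29204 F158313))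
theorem Q54933 : ∀ i, i < 54933 → P i := stepQ 54932 Q54932 (allL N54932 (tt N60223 F331334) (tt N60222 F331335) (tt N29189 F158315) (tt N56943 F331336) (tt N75257 (iv4 F350216)) (tt N52150 F158316) (tt N29115 (iv6 D103057)) (tt N60224 F331337))
theorem Q54934 : ∀ i, i < 54934 → P i := stepQ 54933 Q54933 (allL N54933 (tt N63798 (iv1 F347878)) (tt N49964 F158329) (tt N29204 F158327) (tt N63787 (iv3 F336642)) (tt N29116 (iv4 D103061)) (tt N51218 F336631) (tt N91281 D194257) (tt N29188 F158328))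
theorem Q54935 : ∀ i, i < 54935 → P i := stepQ 54934 Q54934 (allL N54934 (tt N91282 D194258) (tt N90676 (iv0 F390483)) (tt N29205 F158330) (tt N60227 (iv3 F331346)) (tt N91281 (iv4 F392529)) (tt N87302 (iv5 F379017)) (tt N29116 (iv6 D103062)) (tt N60225 F331344))
theorem Q54936 : ∀ i, i < 54936 → P i := stepQ 54935 Q54935 (allL N54935 (tt N48705 F343882) (tt N71868 (iv0 F343894)) (tt N88944 (iv2 F384570)) (tt N29118 (iv3 D103063)) (tt N52164 F294029) (tt N89380 (iv5 F386293)) (tt N48609 (iv6 F294174)) (tt N29195 F158331))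
theorem Q54937 : ∀ i, i < 54937 → P i := stepQ 54936 Q54936 (allL N54936 (tt N29338 F294030) (tt N29339 F294031) (tt N29210 F158332) (tt N89380 F386294) (tt N51217 F294032) (tt N29118 (iv5 D103064)) (tt N91283 D194259) (tt N29196 F158333))
theorem Q54938 : ∀ i, i < 54938 → P i := stepQ 54937 Q54937 (allL N54937 (tt N53467 F177437) (tt N53262 (iv0 F177440)) (tt N52713 F158365) (tt N50926 F158366) (tt N29120 F158367) (tt N91284 D194260) (tt N29119 (iv6 D103078)) (tt N55229 F177428))
theorem Q54939 : ∀ i, i < 54939 → P i := stepQ 54938 Q54938 (allL N54938 (tt N34053 F322243) (tt N34152 F322244) (tt N41156 F308757) (tt N55162 (iv3 F159085)) (tt N32820 (iv4 F322663)) (tt N29120 (iv5 D103081)) (tt N84270 (iv6 F368754)) (tt N41157 (iv7 F310918)))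
theorem Q54940 : ∀ i, i < 54940 → P i := stepQ 54939 Q54939 (allL N54939 (tt N29168 F158370) (tt N88263 (iv0 F382407)) (tt N41169 F296439) (tt N53922 (iv3 F365282)) (tt N91285 D194261) (tt N29121 (iv5 D103083)) (tt N88092 (iv6 F381776)) (tt N88277 (iv7 F382439)))
theorem Q54941 : ∀ i, i < 54941 → P i := stepQ 54940 Q54940 (allL N54940 (tt N29126 F158372) (tt N29122 (iv0 D103084)) (tt N29123 F160569) (tt N87053 (iv3 F378197)) (tt N52720 F158371) (tt N91286 D194262) (tt N88118 (iv6 F381837)) (tt N29124 F160570))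
theorem Q54942 : ∀ i, i < 54942 → P i := stepQ 54941 Q54941 (allL N54941 (tt N29122 (iv1 D103085)) (tt N29126 F158373) (tt N29124 F160554) (tt N29134 (iv3 F158374)) (tt N83026 (iv4 F285545)) (tt N91287 D194263) (tt N49203 F357383) (tt N29123 F160555))
theorem Q54943 : ∀ i, i < 54943 → P i := stepQ 54942 Q54942 (allL N54942 (tt N29124 (iv1 F158379)) (tt N29123 (iv0 F158380)) (tt N29126 F158376) (tt N55165 (iv3 F159103)) (tt N48835 F158377) (tt N59706 (iv5 F340584)) (tt N29394 F158378) (tt N29122 (iv7 D103087)))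
theorem Q54944 : ∀ i, i < 54944 → P i := stepQ 54943 Q54943 (allL N54943 (tt N54633 F158383) (tt N53253 (iv0 F289657)) (tt N52720 F160568) (tt N50934 F158382) (tt N29123 (iv4 D103089)) (tt N91288 D194264) (tt N91289 D194265) (tt N83026 (iv7 F285546)))
theorem Q54945 : ∀ i, i < 54945 → P i := stepQ 54944 Q54944 (allL N54944 (tt N72673 F340582) (tt N55542 (iv0 F346830)) (tt N91286 (iv2 F392552)) (tt N55531 (iv3 F160586)) (tt N91290 D194266) (tt N29123 (iv5 D103090)) (tt N91291 D194267) (tt N91287 (iv7 F392560)))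
theorem Q54946 : ∀ i, i < 54946 → P i := stepQ 54945 Q54945 (allL N54945 (tt N83562 (iv1 F367168)) (tt N29370 F367167) (tt N88118 (iv2 F381833)) (tt N55243 (iv3 F251666)) (tt N91289 (iv4 F392572)) (tt N88089 (iv5 F381759)) (tt N29123 (iv6 D103091)) (tt N84685 (iv7 F370214)))
theorem Q54947 : ∀ i, i < 54947 → P i := stepQ 54946 Q54946 (allL N54946 (tt N55542 F361886) (tt N72673 F361887) (tt N91287 (iv2 F392557)) (tt N89886 (iv3 F387869)) (tt N91292 D194268) (tt N29124 (iv5 D103094)) (tt N58372 F340589) (tt N91286 (iv7 F392554)))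
theorem Q54948 : ∀ i, i < 54948 → P i := stepQ 54947 Q54947 (allL N54947 (tt N29125 (iv1 D103097)) (tt N59706 F319034) (tt N59705 F319035) (tt N89888 F387879) (tt N60063 F319036) (tt N84511 (iv5 F369579)) (tt N91293 D194269) (tt N59704 F319037))
theorem Q54949 : ∀ i, i < 54949 → P i := stepQ 54948 Q54948 (allL N54948 (tt N55523 F343028) (tt N55108 F343032) (tt N55158 (iv2 F159069)) (tt N29127 (iv3 D103100)) (tt N81336 F343027) (tt N81554 (iv5 F343024)) (tt N91294 D194270) (tt N55172 (iv7 F159121)))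
theorem Q54950 : ∀ i, i < 54950 → P i := stepQ 54949 Q54949 (allL N54949 (tt N59780 F352012) (tt N31030 F352013) (tt N55171 (iv2 F159116)) (tt N91294 (iv3 F392592)) (tt N79663 F352006) (tt N83217 (iv5 F352011)) (tt N29127 (iv6 D103101)) (tt N59779 (iv7 F353516)))
theorem Q54951 : ∀ i, i < 54951 → P i := stepQ 54950 Q54950 (allL N54950 (tt N51672 (iv1 F158390)) (tt N51669 F158391) (tt N55175 (iv2 F159125)) (tt N34746 F327259) (tt N29129 F158389) (tt N82775 (iv5 F283991)) (tt N91295 D194271) (tt N29128 (iv7 D103104)))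
theorem Q54952 : ∀ i, i < 54952 → P i := stepQ 54951 Q54951 (allL N54951 (tt N91296 D194272) (tt N91297 D194273) (tt N55176 (iv2 F159129)) (tt N59697 F340604) (tt N91295 (iv4 F392597)) (tt N29397 F158392) (tt N29129 (iv6 D103105)) (tt N59693 (iv7 F340602)))
theorem Q54953 : ∀ i, i < 54953 → P i := stepQ 54952 Q54952 (allL N54952 (tt N55534 (iv1 F160602)) (tt N55533 F160600) (tt N29135 F158396) (tt N55150 (iv3 F159054)) (tt N87906 (iv4 F381072)) (tt N29132 (iv5 D103111)) (tt N71724 F357986) (tt N55532 (iv7 F160597)))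
theorem Q54954 : ∀ i, i < 54954 → P i := stepQ 54953 Q54953 (allL N54953 (tt N55558 F160664) (tt N29405 F160665) (tt N55531 (iv2 F160585)) (tt N89884 (iv3 F387863)) (tt N86937 (iv4 F377774)) (tt N29133 (iv5 D103114)) (tt N91298 D194274) (tt N55529 (iv7 F160583)))
theorem Q54955 : ∀ i, i < 54955 → P i := stepQ 54954 Q54954 (allL N54954 (tt N55238 F178369) (tt N29417 F178370) (tt N55243 (iv2 F251665)) (tt N89885 (iv3 F387866)) (tt N50957 F158401) (tt N84598 (iv5 F369827)) (tt N29133 (iv6 D103115)) (tt N55242 F251672))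
theorem Q54956 : ∀ i, i < 54956 → P i := stepQ 54955 Q54955 (allL N54955 (tt N29405 F160666) (tt N55558 F160667) (tt N55529 (iv2 F160582)) (tt N91287 (iv3 F392558)) (tt N86936 (iv4 F377769)) (tt N29134 (iv5 D103117)) (tt N91299 D194275) (tt N55531 (iv7 F160587)))
theorem Q54957 : ∀ i, i < 54957 → P i := stepQ 54956 Q54956 (allL N54956 (tt N55532 (iv1 F160599)) (tt N29135 (iv0 D103119)) (tt N55534 (iv2 F251824)) (tt N89887 (iv3 F387877)) (tt N65635 F355936) (tt N52648 (iv5 F288027)) (tt N65620 (iv6 F355935)) (tt N55533 F251823))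
theorem Q54958 : ∀ i, i < 54958 → P i := stepQ 54957 Q54957 (allL N54957 (tt N29135 (iv1 D103120)) (tt N55532 F160598) (tt N55533 F251821) (tt N59705 (iv3 F356019)) (tt N65643 (iv4 F356017)) (tt N52649 (iv5 F283805)) (tt N91300 D194276) (tt N55534 (iv7 F251822)))
theorem Q54959 : ∀ i, i < 54959 → P i := stepQ 54958 Q54958 (allL N54958 (tt N91301 D194277) (tt N91302 D194278) (tt N87906 F381074) (tt N91303 D194279) (tt N29135 (iv4 D103121)) (tt N67338 (iv5 F392621)) (tt N87453 (iv6 F379372)) (tt N55535 (iv7 F160603)))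
theorem Q54960 : ∀ i, i < 54960 → P i := stepQ 54959 Q54959 (allL N54959 (tt N55108 (iv1 F363048)) (tt N55523 (iv0 F343033)) (tt N55172 (iv2 F159119)) (tt N29136 (iv3 D103122)) (tt N91304 D194280) (tt N49938 F158405) (tt N80074 (iv6 F369680)) (tt N55158 (iv7 F159071)))
theorem Q54961 : ∀ i, i < 54961 → P i := stepQ 54960 Q54960 (allL N54960 (tt N81572 (iv1 F370056)) (tt N81576 F370055) (tt N49971 F158406) (tt N80074 F369679) (tt N84553 (iv4 F369676)) (tt N52448 F158407) (tt N29136 (iv6 D103123)) (tt N91305 D194281))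
theorem Q54962 : ∀ i, i < 54962 → P i := stepQ 54961 Q54961 (allL N54961 (tt N65650 F369671) (tt N91306 D194282) (tt N91307 D194283) (tt N29137 (iv3 D103124)) (tt N91303 (iv4 F392630)) (tt N84517 (iv5 F369599)) (tt N87459 (iv6 F379400)) (tt N55537 (iv7 F160606)))
theorem Q54963 : ∀ i, i < 54963 → P i := stepQ 54962 Q54962 (allL N54962 (tt N63921 F191802) (tt N63397 (iv0 F187313)) (tt N64747 F198256) (tt N29138 (iv3 D103125)) (tt N89421 (iv4 F386438)) (tt N46554 F158408) (tt N74817 (iv6 F337022)) (tt N55177 (iv7 F159132)))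
theorem Q54964 : ∀ i, i < 54964 → P i := stepQ 54963 Q54963 (allL N54963 (tt N46892 F298867) (tt N81698 (iv0 F276480)) (tt N77375 F345671) (tt N29139 (iv3 D103127)) (tt N64049 F192391) (tt N46556 F158409) (tt N56132 (iv6 F345670)) (tt N55179 (iv7 F159136)))
theorem Q54965 : ∀ i, i < 54965 → P i := stepQ 54964 Q54964 (allL N54964 (tt N74820 (iv1 F317776)) (tt N66722 (iv0 F360235)) (tt N62712 (iv2 F313266)) (tt N29142 F158410) (tt N91308 D194284) (tt N29140 (iv5 D103131)) (tt N65087 (iv6 F199148)) (tt N74819 (iv7 F317778)))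
theorem Q54966 : ∀ i, i < 54966 → P i := stepQ 54965 Q54965 (allL N54965 (tt N74823 (iv1 F332538)) (tt N62709 F332537) (tt N74818 F332534) (tt N29141 (iv3 D103134)) (tt N32907 F190342) (tt N56045 (iv5 F332535)) (tt N66664 (iv6 F358878)) (tt N56044 (iv7 F332536)))
theorem Q54967 : ∀ i, i < 54967 → P i := stepQ 54966 Q54966 (allL N54966 (tt N62711 F317935) (tt N66649 F317936) (tt N65097 F317937) (tt N56045 F317938) (tt N75000 F317939) (tt N29141 (iv5 D103136)) (tt N66667 F317940) (tt N42443 F317941))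
theorem Q54968 : ∀ i, i < 54968 → P i := stepQ 54967 Q54967 (allL N54967 (tt N62714 F315758) (tt N29142 (iv0 D103143)) (tt N65098 F315759) (tt N91309 D194285) (tt N75441 F315760) (tt N36348 F315761) (tt N75766 F315762) (tt N65099 F315763))
theorem Q54969 : ∀ i, i < 54969 → P i := stepQ 54968 Q54968 (allL N54968 (tt N29142 (iv1 D103144)) (tt N62714 (iv0 F313332)) (tt N65099 (iv2 F356805)) (tt N84232 (iv3 F368615)) (tt N75310 F345661) (tt N52388 (iv5 F158415)) (tt N75308 F345669) (tt N65098 F356804))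
theorem Q54970 : ∀ i, i < 54970 → P i := stepQ 54969 Q54969 (allL N54969 (tt N80759 (iv1 F356289)) (tt N42175 F315764) (tt N65100 (iv2 F199194)) (tt N63744 (iv3 F356286)) (tt N29142 (iv4 D103145)) (tt N91310 D194286) (tt N65091 (iv6 F199161)) (tt N77639 F356287))
theorem Q54971 : ∀ i, i < 54971 → P i := stepQ 54970 Q54970 (allL N54970 (tt N65099 (iv1 F199192)) (tt N65098 F199199) (tt N62714 (iv2 F313333)) (tt N74819 (iv3 F317777)) (tt N77639 (iv4 F356288)) (tt N29143 F158416) (tt N75378 F330081) (tt N29142 (iv7 D103146)))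
theorem Q54972 : ∀ i, i < 54972 → P i := stepQ 54971 Q54971 (allL N54971 (tt N44155 F319844) (tt N29144 (iv0 D103153)) (tt N77798 F357195) (tt N55207 (iv3 F350571)) (tt N74528 F335518) (tt N68121 (iv5 F335529)) (tt N55196 F357200) (tt N51906 (iv7 F335526)))
theorem Q54973 : ∀ i, i < 54973 → P i := stepQ 54972 Q54972 (allL N54972 (tt N77798 F319846) (tt N51906 (iv0 F339745)) (tt N29144 (iv2 D103155)) (tt N79973 F259127) (tt N91311 D194287) (tt N71064 F319848) (tt N91312 D194288) (tt N44155 F319849))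
theorem Q54974 : ∀ i, i < 54974 → P i := stepQ 54973 Q54973 (allL N54973 (tt N91313 D194289) (tt N88093 (iv0 F381782)) (tt N91311 (iv2 F392665)) (tt N41986 F319850) (tt N29144 (iv4 D103156)) (tt N91314 D194290) (tt N48124 F347959) (tt N41979 F319851))
theorem Q54975 : ∀ i, i < 54975 → P i := stepQ 54974 Q54974 (allL N54974 (tt N66531 (iv1 F382000)) (tt N71063 F319853) (tt N71064 F319854) (tt N29146 F158425) (tt N91315 D194291) (tt N29144 (iv5 D103157)) (tt N60324 F347198) (tt N39228 F319855))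
theorem Q54976 : ∀ i, i < 54976 → P i := stepQ 54975 Q54975 (allL N54975 (tt N91316 D194292) (tt N91317 D194293) (tt N91312 (iv2 F392672)) (tt N29147 F158426) (tt N48124 F347958) (tt N87897 (iv5 F381013)) (tt N29144 (iv6 D103158)) (tt N59681 (iv7 F347960)))
theorem Q54977 : ∀ i, i < 54977 → P i := stepQ 54976 Q54976 (allL N54976 (tt N29149 (iv1 F158438)) (tt N29146 (iv0 D103166)) (tt N88186 (iv2 F382080)) (tt N89302 (iv3 F385993)) (tt N47176 F339825) (tt N51986 F158434) (tt N91318 D194294) (tt N90988 (iv7 F391484)))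
theorem Q54978 : ∀ i, i < 54978 → P i := stepQ 54977 Q54977 (allL N54977 (tt N29146 (iv1 D103167)) (tt N29149 F158435) (tt N90988 F391486) (tt N55203 F366335) (tt N90638 (iv4 F390350)) (tt N52012 (iv5 F366334)) (tt N91274 F392490) (tt N88186 (iv7 F382082)))
theorem Q54979 : ∀ i, i < 54979 → P i := stepQ 54978 Q54978 (allL N54978 (tt N91319 D194295) (tt N91320 D194296) (tt N69308 F358084) (tt N80642 (iv3 F366651)) (tt N29146 (iv4 D103168)) (tt N37637 F358085) (tt N91321 D194297) (tt N91269 (iv7 F392471)))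
theorem Q54980 : ∀ i, i < 54980 → P i := stepQ 54979 Q54979 (allL N54979 (tt N91322 D194298) (tt N91323 D194299) (tt N88246 (iv2 F382330)) (tt N60324 (iv3 F347199)) (tt N91321 (iv4 F392723)) (tt N87898 (iv5 F381017)) (tt N29146 (iv6 D103169)) (tt N91324 D194300))
theorem Q54981 : ∀ i, i < 54981 → P i := stepQ 54980 Q54980 (allL N54980 (tt N29147 (iv1 D103172)) (tt N74812 F340412) (tt N62734 (iv2 F340413)) (tt N55206 F358019) (tt N62733 (iv4 F339493)) (tt N52595 (iv5 F340414)) (tt N55216 (iv6 F159190)) (tt N51926 (iv7 F360645)))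
theorem Q54982 : ∀ i, i < 54982 → P i := stepQ 54981 Q54981 (allL N54981 (tt N86351 F392712) (tt N90659 (iv0 F390442)) (tt N71058 (iv2 F366003)) (tt N29149 F158440) (tt N91325 D194301) (tt N29148 (iv5 D103179)) (tt N71055 F366004) (tt N90658 (iv7 F390432)))
theorem Q54983 : ∀ i, i < 54983 → P i := stepQ 54982 Q54982 (allL N54982 (tt N91320 (iv1 F392716)) (tt N91319 F392711) (tt N91269 (iv2 F392468)) (tt N91326 D194302) (tt N29149 (iv4 D103184)) (tt N69309 F358086) (tt N91327 D194303) (tt N69308 F358087))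
theorem Q54984 : ∀ i, i < 54984 → P i := stepQ 54983 Q54983 (allL N54983 (tt N86394 (iv1 F376079)) (tt N83217 F352015) (tt N39225 F322988) (tt N71055 F322989) (tt N91327 (iv4 F392751)) (tt N39224 F322990) (tt N29149 (iv6 D103185)) (tt N86393 (iv7 F376069)))
theorem Q54985 : ∀ i, i < 54985 → P i := stepQ 54984 Q54984 (allL N54984 (tt N68121 F340218) (tt N88092 F390764) (tt N90762 (iv2 F390762)) (tt N29150 (iv3 D103191)) (tt N91328 D194304) (tt N87475 (iv5 F379464)) (tt N91329 D194305) (tt N87474 F379462))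
theorem Q54986 : ∀ i, i < 54986 → P i := stepQ 54985 Q54985 (allL N54985 (tt N91330 D194306) (tt N44067 F346796) (tt N90772 (iv2 F390794)) (tt N91331 D194307) (tt N29150 (iv4 D103192)) (tt N80757 F334507) (tt N91332 D194308) (tt N87486 (iv7 F379524)))
theorem Q54987 : ∀ i, i < 54987 → P i := stepQ 54986 Q54986 (allL N54986 (tt N91333 D194309) (tt N36590 F369798) (tt N84638 (iv2 F369952)) (tt N91329 (iv3 F392758)) (tt N91332 (iv4 F392769)) (tt N84591 F369797) (tt N29150 (iv6 D103194)) (tt N84634 (iv7 F369942)))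
theorem Q54988 : ∀ i, i < 54988 → P i := stepQ 54987 Q54987 (allL N54987 (tt N44067 F343380) (tt N91330 F392762) (tt N87486 (iv2 F379522)) (tt N91334 D194310) (tt N29151 (iv4 D103197)) (tt N80758 (iv5 F334511)) (tt N48062 F355163) (tt N90772 (iv7 F390795)))
theorem Q54989 : ∀ i, i < 54989 → P i := stepQ 54988 Q54988 (allL N54988 (tt N75259 F355515) (tt N87573 (iv0 F379784)) (tt N87484 (iv2 F379495)) (tt N90760 (iv3 F390753)) (tt N48062 F355516) (tt N87121 (iv5 F378420)) (tt N29151 (iv6 D103198)) (tt N91335 D194311))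
theorem Q54990 : ∀ i, i < 54990 → P i := stepQ 54989 Q54989 (allL N54989 (tt N81542 (iv1 F346780)) (tt N29152 (iv0 D103199)) (tt N80648 (iv2 F346770)) (tt N68062 F346771) (tt N68109 (iv4 F346779)) (tt N77597 F346772) (tt N36588 F354121) (tt N68060 (iv7 F346778)))
theorem Q54991 : ∀ i, i < 54991 → P i := stepQ 54990 Q54990 (allL N54990 (tt N79450 F353018) (tt N90397 (iv0 F389511)) (tt N91336 D194312) (tt N29152 (iv3 D103201)) (tt N55225 (iv4 F159194)) (tt N91337 D194313) (tt N29176 F158447) (tt N91338 D194314))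
theorem Q54992 : ∀ i, i < 54992 → P i := stepQ 54991 Q54991 (allL N54991 (tt N91339 D194315) (tt N80379 (iv0 F339826)) (tt N91270 (iv2 F392474)) (tt N91337 (iv3 F392791)) (tt N91340 D194316) (tt N29152 (iv5 D103202)) (tt N81069 (iv6 F358745)) (tt N91341 D194317))
theorem Q54993 : ∀ i, i < 54993 → P i := stepQ 54992 Q54992 (allL N54992 (tt N68060 (iv1 F346775)) (tt N80648 F337148) (tt N81542 F346781) (tt N91338 (iv3 F392792)) (tt N29153 F158448) (tt N91341 (iv5 F392809)) (tt N91342 D194318) (tt N29152 (iv7 D103203)))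
theorem Q54994 : ∀ i, i < 54994 → P i := stepQ 54993 Q54993 (allL N54993 (tt N91280 (iv1 F392521)) (tt N90596 (iv0 F392525)) (tt N91271 (iv2 F392480)) (tt N55228 (iv3 F159197)) (tt N91342 (iv4 F392812)) (tt N55228 (iv5 F159198)) (tt N29153 (iv6 D103204)) (tt N29179 F158449))
theorem Q54995 : ∀ i, i < 54995 → P i := stepQ 54994 Q54994 (allL N54994 (tt N53282 (iv1 F158454)) (tt N53281 (iv0 F158453)) (tt N53284 F158450) (tt N50982 F158451) (tt N29154 (iv4 D103205)) (tt N77675 (iv5 F349994)) (tt N55229 (iv6 F177426)) (tt N53279 F158452))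
theorem Q54996 : ∀ i, i < 54996 → P i := stepQ 54995 Q54995 (allL N54995 (tt N88263 (iv1 F382406)) (tt N29168 F331237) (tt N88277 (iv2 F382442)) (tt N41094 F296435) (tt N91343 D194319) (tt N29154 (iv5 D103206)) (tt N91344 D194320) (tt N41169 F296436))
theorem Q54997 : ∀ i, i < 54997 → P i := stepQ 54996 Q54996 (allL N54996 (tt N87372 (iv1 F379151)) (tt N65621 F360497) (tt N29156 F158456) (tt N85266 (iv3 F372078)) (tt N91345 D194321) (tt N29155 (iv5 D103207)) (tt N60336 (iv6 F355180)) (tt N89508 (iv7 F386678)))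
theorem Q54998 : ∀ i, i < 54998 → P i := stepQ 54997 Q54997 (allL N54997 (tt N89508 (iv1 F386679)) (tt N29156 (iv0 D103209)) (tt N87372 (iv2 F379147)) (tt N55240 (iv3 F349230)) (tt N91346 D194322) (tt N52633 F349217) (tt N91347 D194323) (tt N65621 (iv7 F360498)))
theorem Q54999 : ∀ i, i < 54999 → P i := stepQ 54998 Q54998 (allL N54998 (tt N29156 (iv1 D103210)) (tt N89508 (iv0 F386680)) (tt N65621 F355197) (tt N89908 (iv3 F387964)) (tt N91348 D194324) (tt N52634 F367031) (tt N39227 F355198) (tt N87372 (iv7 F379149)))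
theorem Q55000 : ∀ i, i < 55000 → P i := stepQ 54999 Q54999 (allL N54999 (tt N91349 D194325) (tt N59816 (iv0 F358516)) (tt N91345 (iv2 F392820)) (tt N77726 (iv3 F365605)) (tt N29156 (iv4 D103211)) (tt N91350 D194326) (tt N60337 (iv6 F355181)) (tt N89512 (iv7 F386692)))
theorem Q55001 : ∀ i, i < 55001 → P i := stepQ 55000 Q55000 (allL N55000 (tt N55585 (iv1 F160707)) (tt N29157 (iv0 D103213)) (tt N55154 F251251) (tt N49209 F293464) (tt N91209 (iv4 F392269)) (tt N52042 F251253) (tt N29392 F251254) (tt N55584 F251760))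
theorem Q55002 : ∀ i, i < 55002 → P i := stepQ 55001 Q55001 (allL N55001 (tt N29157 (iv1 D103214)) (tt N55585 F160709) (tt N55584 (iv2 F251761)) (tt N87836 (iv3 F380765)) (tt N82750 F294012) (tt N52043 F360338) (tt N55498 (iv6 F251256)) (tt N55154 F251255))
theorem Q55003 : ∀ i, i < 55003 → P i := stepQ 55002 Q55002 (allL N55002 (tt N55117 F350174) (tt N55115 F350175) (tt N55230 (iv2 F159211)) (tt N29158 (iv3 D103215)) (tt N91351 D194327) (tt N49935 F158460) (tt N91352 D194328) (tt N83216 (iv7 F363046)))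
theorem Q55004 : ∀ i, i < 55004 → P i := stepQ 55003 Q55003 (allL N55003 (tt N29204 F158462) (tt N29188 F158463) (tt N49964 F158461) (tt N44120 F347885) (tt N29158 (iv4 D103216)) (tt N51115 F336635) (tt N77414 F361638) (tt N63798 (iv7 F347883)))
theorem Q55005 : ∀ i, i < 55005 → P i := stepQ 55004 Q55004 (allL N55004 (tt N91353 D194329) (tt N87220 (iv0 F378798)) (tt N49960 F158464) (tt N91352 (iv3 F392836)) (tt N77414 F340387) (tt N49937 F158465) (tt N29158 (iv6 D103217)) (tt N91354 D194330))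
theorem Q55006 : ∀ i, i < 55006 → P i := stepQ 55005 Q55005 (allL N55005 (tt N29165 (iv1 F158470)) (tt N29159 (iv0 D103220)) (tt N34369 F328601) (tt N44079 F328602) (tt N48956 F294885) (tt N48942 F294886) (tt N91355 D194331) (tt N44093 F328603))
theorem Q55007 : ∀ i, i < 55007 → P i := stepQ 55006 Q55006 (allL N55006 (tt N71368 (iv1 F354578)) (tt N71370 (iv0 F354576)) (tt N91356 D194332) (tt N29159 (iv3 D103222)) (tt N77726 F328604) (tt N57385 F354577) (tt N91357 D194333) (tt N57384 (iv7 F354579)))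
theorem Q55008 : ∀ i, i < 55008 → P i := stepQ 55007 Q55007 (allL N55007 (tt N48095 F355167) (tt N35451 F355168) (tt N48094 F350204) (tt N91357 (iv3 F392857)) (tt N29160 F158474) (tt N62838 F336315) (tt N29159 (iv6 D103224)) (tt N48093 F350205))
theorem Q55009 : ∀ i, i < 55009 → P i := stepQ 55008 Q55008 (allL N55008 (tt N85273 (iv1 F372127)) (tt N29160 (iv0 D103225)) (tt N85272 F372113) (tt N91358 D194334) (tt N82197 F355172) (tt N91359 D194335) (tt N91322 F392732) (tt N82211 (iv7 F355179)))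
theorem Q55010 : ∀ i, i < 55010 → P i := stepQ 55009 Q55009 (allL N55009 (tt N29160 (iv1 D103226)) (tt N85273 F372126) (tt N82211 (iv2 F354260)) (tt N55236 F354258) (tt N82210 F354257) (tt N91360 D194336) (tt N91361 D194337) (tt N85272 (iv7 F372114)))
theorem Q55011 : ∀ i, i < 55011 → P i := stepQ 55010 Q55010 (allL N55010 (tt N82211 F360549) (tt N85272 F372116) (tt N85273 (iv2 F372121)) (tt N60331 (iv3 F355246)) (tt N48093 F360550) (tt N87148 (iv5 F378548)) (tt N91275 (iv6 F392495)) (tt N29160 (iv7 D103227)))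
theorem Q55012 : ∀ i, i < 55012 → P i := stepQ 55011 Q55011 (allL N55011 (tt N29171 F177374) (tt N90781 F390821) (tt N85265 (iv2 F372070)) (tt N41157 F313128) (tt N53969 (iv4 F365237)) (tt N29161 (iv5 D103231)) (tt N90593 F390197) (tt N55162 F177375))
theorem Q55013 : ∀ i, i < 55013 → P i := stepQ 55012 Q55012 (allL N55012 (tt N85268 (iv1 F372093)) (tt N85267 F372087) (tt N29163 F158478) (tt N89508 (iv3 F386677)) (tt N91362 D194338) (tt N29162 (iv5 D103233)) (tt N91363 D194339) (tt N85266 (iv7 F372079)))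
theorem Q55014 : ∀ i, i < 55014 → P i := stepQ 55013 Q55013 (allL N55013 (tt N45130 (iv1 F161628)) (tt N45140 F161627) (tt N29164 F158479) (tt N83562 (iv3 F287791)) (tt N61015 F177595) (tt N87410 (iv5 F379260)) (tt N29162 (iv6 D103234)) (tt N91169 (iv7 F392141)))
theorem Q55015 : ∀ i, i < 55015 → P i := stepQ 55014 Q55014 (allL N55014 (tt N85266 (iv1 F372085)) (tt N29163 (iv0 D103235)) (tt N85268 F372098) (tt N90683 (iv3 F390512)) (tt N91364 D194340) (tt N86389 (iv5 F376037)) (tt N71057 F376039) (tt N85267 F372090))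
theorem Q55016 : ∀ i, i < 55016 → P i := stepQ 55015 Q55015 (allL N55015 (tt N29163 (iv1 D103236)) (tt N85266 (iv0 F372080)) (tt N85267 F372088) (tt N42950 F365600) (tt N43886 F365601) (tt N52541 F365602) (tt N91365 D194341) (tt N85268 (iv7 F372094)))
theorem Q55017 : ∀ i, i < 55017 → P i := stepQ 55016 Q55016 (allL N55016 (tt N91366 D194342) (tt N91367 D194343) (tt N91362 (iv2 F392870)) (tt N77736 (iv3 F365594)) (tt N29163 (iv4 D103237)) (tt N91368 D194344) (tt N91369 D194345) (tt N85269 (iv7 F372100)))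
theorem Q55018 : ∀ i, i < 55018 → P i := stepQ 55017 Q55017 (allL N55017 (tt N91370 D194346) (tt N91371 D194347) (tt N91363 (iv2 F392873)) (tt N29166 F158480) (tt N91369 (iv4 F392889)) (tt N91372 D194348) (tt N29163 (iv6 D103238)) (tt N91373 D194349))
theorem Q55019 : ∀ i, i < 55019 → P i := stepQ 55018 Q55018 (allL N55018 (tt N91169 (iv1 F392142)) (tt N29164 (iv0 D103239)) (tt N45130 (iv2 F158484)) (tt N90643 (iv3 F390380)) (tt N45033 F158486) (tt N51952 (iv5 F158487)) (tt N49208 F350446) (tt N45140 (iv7 F158485)))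
theorem Q55020 : ∀ i, i < 55020 → P i := stepQ 55019 Q55019 (allL N55019 (tt N29164 (iv1 D103240)) (tt N91169 F392143) (tt N45140 F158482) (tt N55153 (iv3 F159062)) (tt N45035 (iv4 F158481)) (tt N51953 F159061) (tt N55151 F159059) (tt N45130 F158483))
theorem Q55021 : ∀ i, i < 55021 → P i := stepQ 55020 Q55020 (allL N55020 (tt N79015 (iv1 F251840)) (tt N79010 (iv0 F251816)) (tt N87410 F379261) (tt N29167 F158488) (tt N91374 D194350) (tt N29164 (iv5 D103241)) (tt N91372 (iv6 F392892)) (tt N84525 (iv7 F369613)))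
theorem Q55022 : ∀ i, i < 55022 → P i := stepQ 55021 Q55021 (allL N55021 (tt N91375 D194351) (tt N67106 (iv0 F359964)) (tt N91376 D194352) (tt N29165 (iv3 D103243)) (tt N77736 F328605) (tt N77698 F359963) (tt N91377 D194353) (tt N85271 (iv7 F372109)))
theorem Q55023 : ∀ i, i < 55023 → P i := stepQ 55022 Q55022 (allL N55022 (tt N91378 D194354) (tt N75426 (iv0 F392932)) (tt N91272 (iv2 F392484)) (tt N91377 (iv3 F392912)) (tt N29166 F158493) (tt N91379 D194356) (tt N29165 (iv6 D103245)) (tt N91380 D194357))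
theorem Q55024 : ∀ i, i < 55024 → P i := stepQ 55023 Q55023 (allL N55023 (tt N91275 (iv1 F392501)) (tt N29166 (iv0 D103246)) (tt N91273 (iv2 F392499)) (tt N55246 (iv3 F392942)) (tt N91381 D194359) (tt N91382 D194360) (tt N91383 D194361) (tt N91274 F392500))
theorem Q55025 : ∀ i, i < 55025 → P i := stepQ 55024 Q55024 (allL N55024 (tt N29166 (iv1 D103247)) (tt N91275 F392497) (tt N91274 (iv2 F392492)) (tt N90990 (iv3 F391492)) (tt N91384 D194362) (tt N88131 (iv5 F381872)) (tt N90988 F391489) (tt N91273 (iv7 F392498)))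
theorem Q55026 : ∀ i, i < 55026 → P i := stepQ 55025 Q55025 (allL N55025 (tt N91385 D194363) (tt N91386 D194364) (tt N84524 (iv2 F369610)) (tt N91372 (iv3 F392891)) (tt N90331 (iv4 F389367)) (tt N29166 (iv5 D103248)) (tt N29167 F158494) (tt N91387 D194365))
theorem Q55027 : ∀ i, i < 55027 → P i := stepQ 55026 Q55026 (allL N55026 (tt N91274 (iv1 F392489)) (tt N91273 F392496) (tt N91275 (iv2 F392493)) (tt N91373 (iv3 F392893)) (tt N91380 (iv4 F392927)) (tt N91387 (iv5 F392950)) (tt N85273 (iv6 F372125)) (tt N29166 (iv7 D103249)))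
theorem Q55028 : ∀ i, i < 55028 → P i := stepQ 55027 Q55027 (allL N55027 (tt N88277 (iv1 F382438)) (tt N41169 F296437) (tt N29168 (iv2 D103252)) (tt N90781 F390823) (tt N91388 D194366) (tt N84640 (iv5 F369965)) (tt N91389 D194367) (tt N88263 (iv7 F382405)))
theorem Q55029 : ∀ i, i < 55029 → P i := stepQ 55028 Q55028 (allL N55028 (tt N91390 D194368) (tt N91391 D194369) (tt N91388 (iv2 F392951)) (tt N77761 (iv3 F365262)) (tt N29168 (iv4 D103253)) (tt N91392 D194370) (tt N91393 D194371) (tt N88278 (iv7 F382444)))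
theorem Q55030 : ∀ i, i < 55030 → P i := stepQ 55029 Q55029 (allL N55029 (tt N68081 (iv1 F392968)) (tt N71049 (iv0 F359251)) (tt N91389 (iv2 F392953)) (tt N29170 F158497) (tt N91393 (iv4 F392962)) (tt N55552 (iv5 F160648)) (tt N29168 (iv6 D103254)) (tt N91394 D194373))
theorem Q55031 : ∀ i, i < 55031 → P i := stepQ 55030 Q55030 (allL N55030 (tt N29172 (iv1 F158499)) (tt N29169 (iv0 D103255)) (tt N34356 F329846) (tt N44064 F329847) (tt N51627 F158498) (tt N55343 F293906) (tt N79557 F355173) (tt N44066 (iv7 F329894)))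
theorem Q55032 : ∀ i, i < 55032 → P i := stepQ 55031 Q55031 (allL N55031 (tt N66330 (iv1 F346517)) (tt N66329 F362007) (tt N66332 (iv2 F362006)) (tt N29169 (iv3 D103256)) (tt N77761 F329938) (tt N49025 F294115) (tt N54312 (iv6 F358428)) (tt N66223 F346518))
theorem Q55033 : ∀ i, i < 55033 → P i := stepQ 55032 Q55032 (allL N55032 (tt N91395 D194374) (tt N79424 F359866) (tt N90201 (iv2 F388870)) (tt N54312 F358427) (tt N29170 F158502) (tt N54311 F331981) (tt N29169 (iv6 D103258)) (tt N91396 D194375))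
theorem Q55034 : ∀ i, i < 55034 → P i := stepQ 55033 Q55033 (allL N55033 (tt N91279 (iv1 F392519)) (tt N29170 (iv0 D103259)) (tt N91277 F392506) (tt N91397 D194376) (tt N90515 F389916) (tt N91398 D194377) (tt N87573 F379785) (tt N91278 (iv7 F392509)))
theorem Q55035 : ∀ i, i < 55035 → P i := stepQ 55034 Q55034 (allL N55034 (tt N29170 (iv1 D103260)) (tt N91279 F392518) (tt N91278 F392513) (tt N55253 (iv3 F386474)) (tt N89431 F386473) (tt N91399 D194378) (tt N91400 D194379) (tt N91277 F392507))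
theorem Q55036 : ∀ i, i < 55036 → P i := stepQ 55035 Q55035 (allL N55035 (tt N91278 (iv1 F392508)) (tt N91277 F392514) (tt N91279 (iv2 F392515)) (tt N91394 (iv3 F392965)) (tt N91396 (iv4 F392976)) (tt N55557 (iv5 F160655)) (tt N88292 (iv6 F382476)) (tt N29170 (iv7 D103261)))
theorem Q55037 : ∀ i, i < 55037 → P i := stepQ 55036 Q55036 (allL N55036 (tt N55162 F369978) (tt N85265 (iv0 F372074)) (tt N29171 (iv2 D103263)) (tt N88263 (iv3 F382403)) (tt N72970 (iv4 F367026)) (tt N84642 (iv5 F369975)) (tt N72969 F367027) (tt N90781 (iv7 F390822)))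
theorem Q55038 : ∀ i, i < 55038 → P i := stepQ 55037 Q55037 (allL N55037 (tt N87707 (iv1 F380210)) (tt N62204 (iv0 F359401)) (tt N72970 F367025) (tt N86258 F375614) (tt N29171 (iv4 D103264)) (tt N91401 D194380) (tt N62188 (iv6 F367010)) (tt N91276 (iv7 F392503)))
theorem Q55039 : ∀ i, i < 55039 → P i := stepQ 55038 Q55038 (allL N55038 (tt N91402 D194381) (tt N41150 F367001) (tt N72969 F367002) (tt N29173 F158503) (tt N62188 F367003) (tt N60202 F367004) (tt N29171 (iv6 D103265)) (tt N72967 F367005))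
theorem Q55040 : ∀ i, i < 55040 → P i := stepQ 55039 Q55039 (allL N55039 (tt N66324 F365114) (tt N91403 D194382) (tt N66316 (iv2 F364584)) (tt N29172 (iv3 D103266)) (tt N86258 F375615) (tt N66309 F364581) (tt N66291 F367016) (tt N90200 (iv7 F388868)))
theorem Q55041 : ∀ i, i < 55041 → P i := stepQ 55040 Q55040 (allL N55040 (tt N69059 F367032) (tt N66354 (iv0 F355178)) (tt N88291 (iv2 F382470)) (tt N66291 (iv3 F367015)) (tt N29173 F158505) (tt N91404 D194383) (tt N29172 (iv6 D103268)) (tt N91405 D194384))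
theorem Q55042 : ∀ i, i < 55042 → P i := stepQ 55041 Q55041 (allL N55041 (tt N88292 (iv1 F382478)) (tt N29173 (iv0 D103269)) (tt N71361 F367011) (tt N41089 F367012) (tt N70926 F367013) (tt N88244 (iv5 F382479)) (tt N91406 D194385) (tt N71364 F367014))
theorem Q55043 : ∀ i, i < 55043 → P i := stepQ 55042 Q55042 (allL N55042 (tt N29173 (iv1 D103270)) (tt N88292 F382477) (tt N71364 F367018) (tt N91407 D194386) (tt N70925 (iv4 F367017)) (tt N88245 (iv5 F392781)) (tt N91333 (iv6 F392780)) (tt N71361 F367019))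
theorem Q55044 : ∀ i, i < 55044 → P i := stepQ 55043 Q55043 (allL N55043 (tt N71364 F367007) (tt N71361 F367020) (tt N88292 (iv2 F382473)) (tt N72967 (iv3 F367006)) (tt N91405 (iv4 F393006)) (tt N84695 (iv5 F370260)) (tt N91279 (iv6 F392517)) (tt N29173 (iv7 D103271)))
theorem Q55045 : ∀ i, i < 55045 → P i := stepQ 55044 Q55044 (allL N55044 (tt N90515 (iv1 F389910)) (tt N89431 (iv0 F386471)) (tt N89204 (iv2 F385572)) (tt N62696 F364899) (tt N84655 (iv4 F370065)) (tt N77580 (iv5 F332037)) (tt N29174 (iv6 D103274)) (tt N70928 F364900))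
theorem Q55046 : ∀ i, i < 55046 → P i := stepQ 55045 Q55045 (allL N55045 (tt N81126 F353019) (tt N90195 (iv0 F388847)) (tt N39377 F331263) (tt N29175 (iv3 D103275)) (tt N39462 F331264) (tt N86353 (iv5 F375903)) (tt N39375 F331265) (tt N89206 (iv7 F385588)))
theorem Q55047 : ∀ i, i < 55047 → P i := stepQ 55046 Q55046 (allL N55046 (tt N91408 D194387) (tt N29176 (iv0 D103278)) (tt N77775 F365287) (tt N29342 F365288) (tt N90051 (iv4 F388418)) (tt N89206 F385589) (tt N89207 (iv6 F385594)) (tt N86353 (iv7 F375904)))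
theorem Q55048 : ∀ i, i < 55048 → P i := stepQ 55047 Q55047 (allL N55047 (tt N29176 (iv1 D103279)) (tt N91408 F393019) (tt N86353 (iv2 F375901)) (tt N39380 F365290) (tt N57126 F365291) (tt N39377 F365292) (tt N57125 F365293) (tt N77775 F365289))
theorem Q55049 : ∀ i, i < 55049 → P i := stepQ 55048 Q55048 (allL N55048 (tt N77775 (iv1 F375908)) (tt N86353 (iv0 F375905)) (tt N29176 (iv2 D103280)) (tt N44113 F349916) (tt N55261 (iv4 F159249)) (tt N44111 F349917) (tt N91336 (iv6 F392788)) (tt N91408 (iv7 F393020)))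
theorem Q55050 : ∀ i, i < 55050 → P i := stepQ 55049 Q55049 (allL N55049 (tt N55092 (iv1 F353022)) (tt N57396 (iv0 F352786)) (tt N44111 F349918) (tt N29177 F158508) (tt N78829 F353002) (tt N29176 (iv5 D103281)) (tt N81068 (iv6 F358744)) (tt N86358 (iv7 F375929)))
theorem Q55051 : ∀ i, i < 55051 → P i := stepQ 55050 Q55050 (allL N55050 (tt N86353 F375906) (tt N77775 F375907) (tt N91408 F393018) (tt N29178 F158509) (tt N55263 (iv4 F159252)) (tt N86358 (iv5 F375928)) (tt N91409 D194388) (tt N29176 (iv7 D103282)))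
theorem Q55052 : ∀ i, i < 55052 → P i := stepQ 55051 Q55051 (allL N55051 (tt N82469 F355479) (tt N90559 (iv0 F406820)) (tt N86367 (iv2 F375968)) (tt N91409 (iv3 F393022)) (tt N29179 F158516) (tt N91410 D194390) (tt N29178 (iv6 D103286)) (tt N91342 (iv7 F392813)))
theorem Q55053 : ∀ i, i < 55053 → P i := stepQ 55052 Q55052 (allL N55052 (tt N91271 F392482) (tt N29179 (iv0 D103287)) (tt N90596 (iv2 F390198)) (tt N58408 (iv3 F352017)) (tt N79559 (iv4 F352018)) (tt N91411 D194391) (tt N58406 F352016) (tt N91280 (iv7 F392524)))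
theorem Q55054 : ∀ i, i < 55054 → P i := stepQ 55053 Q55053 (allL N55053 (tt N29179 (iv1 D103288)) (tt N91271 F392483) (tt N91280 (iv2 F392523)) (tt N74035 (iv3 F390201)) (tt N79560 (iv4 F390202)) (tt N74034 F390203) (tt N91412 D194392) (tt N90596 F390200))
theorem Q55055 : ∀ i, i < 55055 → P i := stepQ 55054 Q55054 (allL N55054 (tt N52187 (iv1 F158520)) (tt N29180 (iv0 D103290)) (tt N52189 F158922) (tt N54912 F158519) (tt N53262 F158518) (tt N63774 (iv5 F330004)) (tt N87012 (iv6 F381192)) (tt N52188 (iv7 F158921)))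
theorem Q55056 : ∀ i, i < 55056 → P i := stepQ 55055 Q55055 (allL N55055 (tt N29180 (iv1 D103291)) (tt N52187 (iv0 F158522)) (tt N52188 (iv2 F158923)) (tt N55268 (iv3 F159266)) (tt N53467 (iv4 F158521)) (tt N42746 F329965) (tt N83519 (iv6 F370985)) (tt N52189 F158924))
theorem Q55057 : ∀ i, i < 55057 → P i := stepQ 55056 Q55056 (allL N55056 (tt N52189 (iv1 F158528)) (tt N52188 F158527) (tt N29180 (iv2 D103292)) (tt N52259 F158523) (tt N50631 F158524) (tt N63190 (iv5 F329994)) (tt N53605 F158525) (tt N52187 F158526))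
theorem Q55058 : ∀ i, i < 55058 → P i := stepQ 55057 Q55057 (allL N55057 (tt N89220 F385686) (tt N90567 (iv0 F416497)) (tt N86966 (iv2 F377876)) (tt N63500 (iv3 F361900)) (tt N45746 F361898) (tt N55271 (iv5 F159273)) (tt N29181 (iv6 D103295)) (tt N81831 F361899))
theorem Q55059 : ∀ i, i < 55059 → P i := stepQ 55058 Q55058 (allL N55058 (tt N49323 F292563) (tt N49328 F292564) (tt N29185 F158539) (tt N50529 (iv3 F293403)) (tt N75991 (iv4 F235277)) (tt N37466 F331301) (tt N29183 (iv6 D103304)) (tt N52131 (iv7 F158541)))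
theorem Q55060 : ∀ i, i < 55060 → P i := stepQ 55059 Q55059 (allL N55059 (tt N56940 F331318) (tt N29184 (iv0 D103305)) (tt N56937 F331319) (tt N55274 F360295) (tt N30374 F331320) (tt N52687 (iv5 F350541)) (tt N91413 D194394) (tt N56938 F331321))
theorem Q55061 : ∀ i, i < 55061 → P i := stepQ 55060 Q55060 (allL N55060 (tt N29184 (iv1 D103306)) (tt N56940 F331322) (tt N56938 F331323) (tt N91414 D194395) (tt N30375 F331324) (tt N52688 F345183) (tt N59125 F331325) (tt N56937 F331326))
theorem Q55062 : ∀ i, i < 55062 → P i := stepQ 55061 Q55061 (allL N55061 (tt N52131 (iv1 F158545)) (tt N29185 (iv0 D103309)) (tt N49323 F292437) (tt N48519 (iv3 F293462)) (tt N49321 F292438) (tt N51573 (iv5 F292631)) (tt N29382 F251866) (tt N49328 F292439))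
theorem Q55063 : ∀ i, i < 55063 → P i := stepQ 55062 Q55062 (allL N55062 (tt N29185 (iv1 D103310)) (tt N52131 F158546) (tt N49328 F292567) (tt N91415 D194396) (tt N49326 F292568) (tt N52111 (iv5 F251775)) (tt N55494 (iv6 F251860)) (tt N49323 F292569))
theorem Q55064 : ∀ i, i < 55064 → P i := stepQ 55063 Q55063 (allL N55063 (tt N52398 F176043) (tt N83739 F365030) (tt N37466 F331355) (tt N29191 F158547) (tt N32125 F331356) (tt N29185 (iv5 D103311)) (tt N32109 F331357) (tt N52132 F158548))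
theorem Q55065 : ∀ i, i < 55065 → P i := stepQ 55064 Q55064 (allL N55064 (tt N77415 (iv1 F365671)) (tt N87386 (iv0 F379200)) (tt N83220 F364596) (tt N63775 (iv3 F365670)) (tt N63777 F365669) (tt N52480 F158554) (tt N29186 (iv6 D103314)) (tt N91416 D194397))
theorem Q55066 : ∀ i, i < 55066 → P i := stepQ 55065 Q55065 (allL N55065 (tt N53890 F356263) (tt N53891 (iv0 F287722)) (tt N55288 F159336) (tt N29187 (iv3 D103315)) (tt N55342 (iv4 F349155)) (tt N52699 F158555) (tt N91417 D194398) (tt N55289 (iv7 F159335)))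
theorem Q55067 : ∀ i, i < 55067 → P i := stepQ 55066 Q55066 (allL N55066 (tt N90679 F390497) (tt N90681 F390508) (tt N77710 F361850) (tt N91417 (iv3 F393048)) (tt N77715 (iv4 F361851)) (tt N52283 F158560) (tt N29187 (iv6 D103317)) (tt N90680 (iv7 F390501)))
theorem Q55068 : ∀ i, i < 55068 → P i := stepQ 55067 Q55067 (allL N55067 (tt N82197 (iv1 F354252)) (tt N82210 F354254) (tt N75257 (iv2 F350215)) (tt N30437 F331338) (tt N29189 F158561) (tt N75225 F353767) (tt N29188 (iv6 D103319)) (tt N30481 F331339))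
theorem Q55069 : ∀ i, i < 55069 → P i := stepQ 55068 Q55068 (allL N55068 (tt N29189 (iv1 D103321)) (tt N60224 F331331) (tt N60222 F331332) (tt N91418 D194399) (tt N65333 F354246) (tt N69450 F354256) (tt N90526 (iv6 F389960)) (tt N60223 F331333))
theorem Q55070 : ∀ i, i < 55070 → P i := stepQ 55069 Q55069 (allL N55069 (tt N68097 (iv1 F354248)) (tt N68100 F355458) (tt N52150 F158562) (tt N32109 F331340) (tt N56644 (iv4 F348077)) (tt N29189 (iv5 D103322)) (tt N29191 F158563) (tt N58743 F331342))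
theorem Q55071 : ∀ i, i < 55071 → P i := stepQ 55070 Q55070 (allL N55070 (tt N50850 (iv1 F292926)) (tt N50849 (iv0 F292921)) (tt N50852 (iv2 F292707)) (tt N29192 (iv3 D103325)) (tt N55070 F158569) (tt N53290 F293323) (tt N52449 F158570) (tt N48743 F293324))
theorem Q55072 : ∀ i, i < 55072 → P i := stepQ 55071 Q55071 (allL N55071 (tt N88869 (iv1 F384395)) (tt N87256 (iv0 F378912)) (tt N84398 (iv2 F369145)) (tt N29193 (iv3 D103328)) (tt N50661 F158577) (tt N55346 F292850) (tt N80140 (iv6 F357430)) (tt N48725 F292851))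
theorem Q55073 : ∀ i, i < 55073 → P i := stepQ 55072 Q55072 (allL N55072 (tt N88944 F384574) (tt N29195 (iv0 D103332)) (tt N71868 F335549) (tt N40136 F335545) (tt N86247 F375573) (tt N40135 F335546) (tt N70973 (iv6 F335548)) (tt N48705 F335547))
theorem Q55074 : ∀ i, i < 55074 → P i := stepQ 55073 Q55073 (allL N55073 (tt N29195 (iv1 D103333)) (tt N88944 F384575) (tt N48705 F343897) (tt N91419 D194400) (tt N52913 F343898) (tt N53997 F343899) (tt N48699 F343900) (tt N71868 F343901))
theorem Q55075 : ∀ i, i < 55075 → P i := stepQ 55074 Q55074 (allL N55074 (tt N71868 (iv1 F343891)) (tt N48705 F343890) (tt N29195 (iv2 D103334)) (tt N83909 (iv3 F367457)) (tt N84077 (iv4 F368028)) (tt N89379 (iv5 F386286)) (tt N48696 F364403) (tt N88944 (iv7 F384573)))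
theorem Q55076 : ∀ i, i < 55076 → P i := stepQ 55075 Q55075 (allL N55075 (tt N83088 (iv1 F343918)) (tt N83082 F362694) (tt N89379 (iv2 F386289)) (tt N29196 F158583) (tt N91420 D194401) (tt N29195 (iv5 D103335)) (tt N58975 F343902) (tt N89380 (iv7 F386292)))
theorem Q55077 : ∀ i, i < 55077 → P i := stepQ 55076 Q55076 (allL N55076 (tt N91421 D194402) (tt N48099 F361443) (tt N84483 (iv2 F369477)) (tt N58975 (iv3 F343903)) (tt N86366 (iv4 F375965)) (tt N43699 F361444) (tt N29196 (iv6 D103338)) (tt N91422 D194403))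
theorem Q55078 : ∀ i, i < 55078 → P i := stepQ 55077 Q55077 (allL N55077 (tt N89679 (iv1 F387198)) (tt N89678 F387194) (tt N89651 (iv2 F387098)) (tt N29198 F158596) (tt N91423 D194404) (tt N29197 (iv5 D103341)) (tt N91424 D194405) (tt N48881 F158597))
theorem Q55079 : ∀ i, i < 55079 → P i := stepQ 55078 Q55078 (allL N55078 (tt N50645 F158603) (tt N50648 F158604) (tt N48886 F158601) (tt N91425 D194406) (tt N29198 (iv4 D103343)) (tt N55232 (iv5 F294252)) (tt N91426 D194407) (tt N48884 F158602))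
theorem Q55080 : ∀ i, i < 55080 → P i := stepQ 55079 Q55079 (allL N55079 (tt N91427 D194408) (tt N91428 D194409) (tt N48887 F158605) (tt N91424 (iv3 F393072)) (tt N91426 (iv4 F393075)) (tt N84472 (iv5 F369434)) (tt N29198 (iv6 D103344)) (tt N91429 D194410))
theorem Q55081 : ∀ i, i < 55081 → P i := stepQ 55080 Q55080 (allL N55080 (tt N87931 F381202) (tt N91430 D194411) (tt N59819 (iv2 F340554)) (tt N29199 (iv3 D103345)) (tt N29209 F158606) (tt N59774 (iv5 F358496)) (tt N59775 F358521) (tt N51880 (iv7 F292163)))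
theorem Q55082 : ∀ i, i < 55082 → P i := stepQ 55081 Q55081 (allL N55081 (tt N29231 (iv1 F294085)) (tt N29232 (iv0 F294251)) (tt N29304 (iv2 F293423)) (tt N59774 F358495) (tt N55233 (iv4 F294256)) (tt N29199 (iv5 D103346)) (tt N59773 (iv6 F358493)) (tt N29303 F293232))
theorem Q55083 : ∀ i, i < 55083 → P i := stepQ 55082 Q55082 (allL N55082 (tt N48961 F359410) (tt N74197 F359412) (tt N87058 (iv2 F378224)) (tt N52129 F158625) (tt N54659 (iv4 F359406)) (tt N29200 (iv5 D103349)) (tt N89215 F385637) (tt N52190 F158626))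
theorem Q55084 : ∀ i, i < 55084 → P i := stepQ 55083 Q55083 (allL N55083 (tt N55280 (iv1 F335339)) (tt N83224 (iv0 F340541)) (tt N29202 F158627) (tt N56940 F352879) (tt N71211 (iv4 F352876)) (tt N29201 (iv5 D103350)) (tt N90655 (iv6 F390416)) (tt N56939 F352880))
theorem Q55085 : ∀ i, i < 55085 → P i := stepQ 55084 Q55084 (allL N55084 (tt N54451 F158630) (tt N52263 F158637) (tt N29203 F158628) (tt N85174 (iv3 F371799)) (tt N54798 F158629) (tt N87236 (iv5 F378846)) (tt N29201 (iv6 D103351)) (tt N54450 (iv7 F158631)))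
theorem Q55086 : ∀ i, i < 55086 → P i := stepQ 55085 Q55085 (allL N55085 (tt N56939 (iv1 F352883)) (tt N29202 (iv0 D103352)) (tt N55280 (iv2 F159298)) (tt N31869 F340545) (tt N54713 (iv4 F363549)) (tt N83225 F340546) (tt N31864 F340547) (tt N83224 (iv7 F340544)))
theorem Q55087 : ∀ i, i < 55087 → P i := stepQ 55086 Q55086 (allL N55086 (tt N29202 (iv1 D103353)) (tt N56939 F352882) (tt N83224 F340543) (tt N52435 (iv3 F159221)) (tt N91431 D194412) (tt N52432 F159223) (tt N90532 F389987) (tt N55280 (iv7 F159297)))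
theorem Q55088 : ∀ i, i < 55088 → P i := stepQ 55087 Q55087 (allL N55087 (tt N71209 (iv1 F352871)) (tt N71208 F352877) (tt N71211 F352870) (tt N91432 D194413) (tt N29202 (iv4 D103354)) (tt N88418 F382960) (tt N86349 F375889) (tt N71204 (iv7 F352869)))
theorem Q55089 : ∀ i, i < 55089 → P i := stepQ 55088 Q55088 (allL N55088 (tt N90670 (iv1 F390465)) (tt N54689 (iv0 F359409)) (tt N90655 (iv2 F390414)) (tt N29205 F158632) (tt N86349 (iv4 F375890)) (tt N91433 D194414) (tt N29202 (iv6 D103355)) (tt N90657 (iv7 F390429)))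
theorem Q55090 : ∀ i, i < 55090 → P i := stepQ 55089 Q55089 (allL N55089 (tt N54450 (iv1 F158638)) (tt N29203 (iv0 D103356)) (tt N54451 (iv2 F158633)) (tt N91434 D194415) (tt N54449 F158634) (tt N51858 F158635) (tt N49198 F356258) (tt N52263 F158636))
theorem Q55091 : ∀ i, i < 55091 → P i := stepQ 55090 Q55090 (allL N55090 (tt N87234 (iv1 F378837)) (tt N49671 (iv0 F158641)) (tt N87236 F378847) (tt N29207 F158640) (tt N91435 D194416) (tt N29203 (iv5 D103357)) (tt N91433 (iv6 F393109)) (tt N87235 F378843))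
theorem Q55092 : ∀ i, i < 55092 → P i := stepQ 55091 Q55091 (allL N55091 (tt N52263 (iv1 F158645)) (tt N54451 F158646) (tt N54450 F158642) (tt N29208 F158643) (tt N51679 F291918) (tt N87235 (iv5 F378840)) (tt N49278 F294694) (tt N29203 (iv7 D103358)))
theorem Q55093 : ∀ i, i < 55093 → P i := stepQ 55092 Q55092 (allL N55092 (tt N75682 F347873) (tt N55049 F353022) (tt N77732 (iv2 F336639)) (tt N29204 (iv3 D103359)) (tt N91432 (iv4 F393107)) (tt N81125 (iv5 F347871)) (tt N80137 (iv6 F347874)) (tt N77733 (iv7 F365598)))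
theorem Q55094 : ∀ i, i < 55094 → P i := stepQ 55093 Q55093 (allL N55093 (tt N91381 F392940) (tt N91384 F392947) (tt N91281 (iv2 F392527)) (tt N80137 F347875) (tt N29205 F158647) (tt N36579 F347138) (tt N29204 (iv6 D103360)) (tt N91436 D194417))
theorem Q55095 : ∀ i, i < 55095 → P i := stepQ 55094 Q55094 (allL N55094 (tt N60225 (iv1 F331351)) (tt N29205 (iv0 D103361)) (tt N91282 F392533) (tt N80936 (iv3 F370070)) (tt N91437 D194418) (tt N91438 D194419) (tt N80932 F370069) (tt N90676 F390485))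
theorem Q55096 : ∀ i, i < 55096 → P i := stepQ 55095 Q55095 (allL N55095 (tt N29205 (iv1 D103362)) (tt N60225 F331347) (tt N90676 (iv2 F390480)) (tt N75675 F331348) (tt N75676 F331349) (tt N87975 (iv5 F381344)) (tt N89239 (iv6 F385734)) (tt N91282 (iv7 F392535)))
theorem Q55097 : ∀ i, i < 55097 → P i := stepQ 55096 Q55096 (allL N55096 (tt N91439 D194420) (tt N91440 D194421) (tt N87302 (iv2 F379016)) (tt N91433 (iv3 F393108)) (tt N90358 (iv4 F389415)) (tt N29205 (iv5 D103363)) (tt N29207 F158648) (tt N91441 D194422))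
theorem Q55098 : ∀ i, i < 55098 → P i := stepQ 55097 Q55097 (allL N55097 (tt N90676 F390484) (tt N91282 F392534) (tt N60225 (iv2 F331345)) (tt N90657 F390431) (tt N91436 (iv4 F393121)) (tt N91441 (iv5 F393133)) (tt N60224 F331350) (tt N29205 (iv7 D103364)))
theorem Q55099 : ∀ i, i < 55099 → P i := stepQ 55098 Q55098 (allL N55098 (tt N29427 F158653) (tt N53892 F159341) (tt N55292 F159338) (tt N29206 (iv3 D103365)) (tt N50153 (iv4 F291781)) (tt N51883 F158650) (tt N48518 (iv6 F291787)) (tt N52273 F158652))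
theorem Q55100 : ∀ i, i < 55100 → P i := stepQ 55099 Q55099 (allL N55099 (tt N75439 F353756) (tt N75433 F353757) (tt N91283 (iv2 F392536)) (tt N89515 (iv3 F386696)) (tt N77445 F353758) (tt N49054 F353759) (tt N29210 (iv6 D103372)) (tt N91442 D194423))
theorem Q55101 : ∀ i, i < 55101 → P i := stepQ 55100 Q55100 (allL N55100 (tt N50840 (iv1 F291998)) (tt N50845 (iv0 F291994)) (tt N50990 (iv2 F292033)) (tt N77745 F365266) (tt N50816 (iv4 F292122)) (tt N29212 (iv5 D103451)) (tt N91443 D194424) (tt N50988 (iv7 F292038)))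
theorem Q55102 : ∀ i, i < 55102 → P i := stepQ 55101 Q55101 (allL N55101 (tt N91444 D194425) (tt N91445 D194426) (tt N53648 F158759) (tt N77746 (iv3 F365243)) (tt N29213 F158760) (tt N91446 D194427) (tt N29212 (iv6 D103452)) (tt N91447 D194428))
theorem Q55103 : ∀ i, i < 55103 → P i := stepQ 55102 Q55102 (allL N55102 (tt N53651 (iv1 F158765)) (tt N29213 (iv0 D103453)) (tt N53649 (iv2 F380076)) (tt N91448 D194429) (tt N89501 (iv4 F386879)) (tt N90415 F389565) (tt N85930 (iv6 F374488)) (tt N53650 (iv7 F380078)))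
theorem Q55104 : ∀ i, i < 55104 → P i := stepQ 55103 Q55103 (allL N55103 (tt N29213 (iv1 D103454)) (tt N53651 F158761) (tt N53650 F380079) (tt N59171 (iv3 F380083)) (tt N89502 (iv4 F386660)) (tt N88796 (iv5 F384174)) (tt N59169 F380081) (tt N53649 F380077))
theorem Q55105 : ∀ i, i < 55105 → P i := stepQ 55104 Q55104 (allL N55104 (tt N53650 (iv1 F158766)) (tt N53649 F158767) (tt N53651 F158762) (tt N51213 F158763) (tt N91447 (iv4 F393156)) (tt N82777 (iv5 F346646)) (tt N53659 F158764) (tt N29213 (iv7 D103455)))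
theorem Q55106 : ∀ i, i < 55106 → P i := stepQ 55105 Q55105 (allL N55105 (tt N50845 (iv1 F291995)) (tt N50840 (iv0 F291997)) (tt N50988 (iv2 F292036)) (tt N91449 D194430) (tt N29214 (iv4 D103464)) (tt N53199 F158788) (tt N91450 D194431) (tt N50990 (iv7 F292035)))
theorem Q55107 : ∀ i, i < 55107 → P i := stepQ 55106 Q55106 (allL N55106 (tt N91451 D194432) (tt N91452 D194433) (tt N50989 (iv2 F292121)) (tt N53827 (iv3 F367114)) (tt N91450 (iv4 F393181)) (tt N49883 F367115) (tt N29214 (iv6 D103465)) (tt N91453 D194434))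
theorem Q55108 : ∀ i, i < 55108 → P i := stepQ 55107 Q55107 (allL N55107 (tt N82374 (iv1 F348571)) (tt N52205 F289624) (tt N54908 F158890) (tt N52184 F158891) (tt N29216 F158892) (tt N91454 D194435) (tt N29215 (iv6 D103579)) (tt N55433 F289625))
theorem Q55109 : ∀ i, i < 55109 → P i := stepQ 55108 Q55108 (allL N55108 (tt N54948 (iv1 F343032)) (tt N54959 F363048) (tt N54909 F158894) (tt N47604 F331192) (tt N46146 F331193) (tt N29216 (iv5 D103582)) (tt N58538 F353242) (tt N55434 F289628))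
theorem Q55110 : ∀ i, i < 55110 → P i := stepQ 55109 Q55109 (allL N55109 (tt N42579 (iv1 F158910)) (tt N29217 (iv0 D103584)) (tt N42576 F199522) (tt N49419 (iv3 F353225)) (tt N43925 (iv4 F158912)) (tt N53458 F353166) (tt N91455 D194436) (tt N42577 (iv7 F199521)))
theorem Q55111 : ∀ i, i < 55111 → P i := stepQ 55110 Q55110 (allL N55110 (tt N29217 (iv1 D103585)) (tt N42579 F158902) (tt N42577 (iv2 F199523)) (tt N54574 (iv3 F357212)) (tt N77002 F241359) (tt N54704 (iv5 F353162)) (tt N73399 F346222) (tt N42576 F199524))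
theorem Q55112 : ∀ i, i < 55112 → P i := stepQ 55111 Q55111 (allL N55111 (tt N53421 F353152) (tt N54546 F359294) (tt N42578 F158903) (tt N29224 F158904) (tt N91456 D194437) (tt N29217 (iv5 D103586)) (tt N29220 F158905) (tt N54545 (iv7 F337138)))
theorem Q55113 : ∀ i, i < 55113 → P i := stepQ 55112 Q55112 (allL N55112 (tt N42577 (iv1 F158911)) (tt N42576 F158913) (tt N42579 F158906) (tt N29225 F158907) (tt N42529 F158908) (tt N54545 (iv5 F337145)) (tt N42579 F158909) (tt N29217 (iv7 D103587)))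
theorem Q55114 : ∀ i, i < 55114 → P i := stepQ 55113 Q55113 (allL N55113 (tt N83112 F286012) (tt N53852 (iv0 F177340)) (tt N53260 F158914) (tt N29218 (iv3 D103588)) (tt N50470 (iv4 F294866)) (tt N91457 D194438) (tt N50525 (iv6 F357553)) (tt N53263 F158915))
theorem Q55115 : ∀ i, i < 55115 → P i := stepQ 55114 Q55114 (allL N55114 (tt N74205 (iv1 F365048)) (tt N52192 (iv0 F176036)) (tt N54910 F158918) (tt N52188 F158920) (tt N29218 (iv4 D103589)) (tt N60237 (iv5 F366637)) (tt N82816 (iv6 F363047)) (tt N54912 F158919))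
theorem Q55116 : ∀ i, i < 55116 → P i := stepQ 55115 Q55115 (allL N55115 (tt N55002 (iv1 F350175)) (tt N85637 (iv0 F373306)) (tt N54911 F158926) (tt N91457 (iv3 F393217)) (tt N91458 D194439) (tt N29218 (iv5 D103590)) (tt N91459 D194440) (tt N54913 F158927))
theorem Q55117 : ∀ i, i < 55117 → P i := stepQ 55116 Q55116 (allL N55116 (tt N52192 (iv1 F176037)) (tt N74205 (iv0 F365047)) (tt N54912 F158934) (tt N53911 F158935) (tt N29219 (iv4 D103592)) (tt N91460 D194441) (tt N91461 D194442) (tt N54910 F158936))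
theorem Q55118 : ∀ i, i < 55118 → P i := stepQ 55117 Q55117 (allL N55117 (tt N85637 F373307) (tt N55002 (iv0 F350174)) (tt N54913 F158937) (tt N53914 F158938) (tt N91462 D194443) (tt N29219 (iv5 D103593)) (tt N91463 D194444) (tt N54911 F158939))
theorem Q55119 : ∀ i, i < 55119 → P i := stepQ 55118 Q55118 (allL N55118 (tt N29391 F343082) (tt N51675 F343083) (tt N54914 F158940) (tt N53915 F158941) (tt N91461 (iv4 F393234)) (tt N84585 F369779) (tt N29219 (iv6 D103594)) (tt N55363 (iv7 F343075)))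
theorem Q55120 : ∀ i, i < 55120 → P i := stepQ 55119 Q55119 (allL N55119 (tt N54918 (iv1 F158948)) (tt N29220 (iv0 D103595)) (tt N54915 F270492) (tt N54576 F385845) (tt N91464 D194445) (tt N83149 (iv5 F367108)) (tt N91465 D194446) (tt N54916 F270490))
theorem Q55121 : ∀ i, i < 55121 → P i := stepQ 55120 Q55120 (allL N55120 (tt N29220 (iv1 D103596)) (tt N54918 F158942) (tt N54916 (iv2 F270489)) (tt N74139 (iv3 F368781)) (tt N91466 D194447) (tt N52330 (iv5 F158943)) (tt N74137 F368784) (tt N54915 (iv7 F270491)))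
theorem Q55122 : ∀ i, i < 55122 → P i := stepQ 55121 Q55121 (allL N55121 (tt N43373 F366191) (tt N91467 D194448) (tt N54917 F158944) (tt N91468 D194449) (tt N29220 (iv4 D103597)) (tt N91469 D194450) (tt N91456 (iv6 F393213)) (tt N91470 D194451))
theorem Q55123 : ∀ i, i < 55123 → P i := stepQ 55122 Q55122 (allL N55122 (tt N54916 (iv1 F158949)) (tt N54915 F158950) (tt N54918 F158945) (tt N29230 F158946) (tt N91470 (iv4 F393260)) (tt N29221 F158947) (tt N91471 D194452) (tt N29220 (iv7 D103598)))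
theorem Q55124 : ∀ i, i < 55124 → P i := stepQ 55123 Q55123 (allL N55123 (tt N54572 (iv1 F357186)) (tt N46068 F350555) (tt N36197 F350556) (tt N29222 (iv3 D103600)) (tt N45002 (iv4 F190337)) (tt N36188 F350557) (tt N87504 (iv6 F379593)) (tt N29269 F335085))
theorem Q55125 : ∀ i, i < 55125 → P i := stepQ 55124 Q55124 (allL N55124 (tt N75008 F342449) (tt N46523 F342450) (tt N29266 F335086) (tt N91472 D194453) (tt N29222 (iv4 D103601)) (tt N40885 F342454) (tt N63995 (iv6 F335116)) (tt N29270 F335087))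
theorem Q55126 : ∀ i, i < 55126 → P i := stepQ 55125 Q55125 (allL N55125 (tt N87449 (iv1 F379357)) (tt N91473 D194454) (tt N29267 F335088) (tt N36188 F350558) (tt N30320 F350559) (tt N29222 (iv5 D103602)) (tt N30319 F350560) (tt N29271 F335089))
theorem Q55127 : ∀ i, i < 55127 → P i := stepQ 55126 Q55126 (allL N55126 (tt N49732 F342451) (tt N49734 F342452) (tt N49731 (iv2 F352745)) (tt N29223 (iv3 D103604)) (tt N78375 F340701) (tt N63489 (iv5 F352742)) (tt N78374 (iv6 F340700)) (tt N29265 F335078))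
theorem Q55128 : ∀ i, i < 55128 → P i := stepQ 55127 Q55127 (allL N55127 (tt N46523 F342447) (tt N75008 F342448) (tt N29270 F335075) (tt N75003 F335070) (tt N29223 (iv4 D103605)) (tt N63200 (iv5 F335074)) (tt N91474 D194455) (tt N29266 F335076))
theorem Q55129 : ∀ i, i < 55129 → P i := stepQ 55128 Q55128 (allL N55128 (tt N91473 (iv1 F393274)) (tt N87449 (iv0 F379356)) (tt N29271 F335079) (tt N63489 (iv3 F356930)) (tt N77084 F356926) (tt N29223 (iv5 D103606)) (tt N85671 (iv6 F373460)) (tt N29267 F335080))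
theorem Q55130 : ∀ i, i < 55130 → P i := stepQ 55129 Q55129 (allL N55129 (tt N62390 (iv1 F358021)) (tt N52545 F335112) (tt N29272 F335081) (tt N78374 F340699) (tt N91474 (iv4 F393282)) (tt N87454 (iv5 F379374)) (tt N29223 (iv6 D103607)) (tt N87380 (iv7 F379168)))
theorem Q55131 : ∀ i, i < 55131 → P i := stepQ 55130 Q55130 (allL N55130 (tt N29276 (iv1 F158957)) (tt N29224 (iv0 D103608)) (tt N29273 F288199) (tt N60126 (iv3 F361619)) (tt N91475 D194456) (tt N66710 (iv5 F334492)) (tt N74109 F361618) (tt N29274 F288200))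
theorem Q55132 : ∀ i, i < 55132 → P i := stepQ 55131 Q55131 (allL N55131 (tt N91476 D194457) (tt N91477 D194458) (tt N29275 F158953) (tt N91478 D194459) (tt N29224 (iv4 D103609)) (tt N91479 D194460) (tt N29229 F158954) (tt N91480 D194461))
theorem Q55133 : ∀ i, i < 55133 → P i := stepQ 55132 Q55132 (allL N55132 (tt N29274 (iv1 F158958)) (tt N29273 F158959) (tt N29276 F158955) (tt N54545 (iv3 F337144)) (tt N91480 (iv4 F393304)) (tt N29225 F158956) (tt N91481 D194462) (tt N29224 (iv7 D103610)))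
theorem Q55134 : ∀ i, i < 55134 → P i := stepQ 55133 Q55133 (allL N55133 (tt N29226 (iv1 D103612)) (tt N29278 F158967) (tt N29277 (iv2 F158968)) (tt N83112 (iv3 F286011)) (tt N61393 F335367) (tt N63380 (iv5 F335366)) (tt N53609 F177393) (tt N29238 F177394))
theorem Q55135 : ∀ i, i < 55135 → P i := stepQ 55134 Q55134 (allL N55134 (tt N91482 D194463) (tt N91483 D194464) (tt N29287 F158976) (tt N63494 F362353) (tt N77100 (iv4 F362352)) (tt N49906 F158977) (tt N29227 (iv6 D103616)) (tt N91484 D194465))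
theorem Q55136 : ∀ i, i < 55136 → P i := stepQ 55135 Q55135 (allL N55135 (tt N55270 (iv1 F159272)) (tt N52191 F158981) (tt N29289 F158979) (tt N31476 F302687) (tt N29228 (iv4 D103618)) (tt N50645 F345143) (tt N57231 F302688) (tt N29291 F158980))
theorem Q55137 : ∀ i, i < 55137 → P i := stepQ 55136 Q55136 (allL N55136 (tt N91485 D194466) (tt N91486 D194467) (tt N29290 F158982) (tt N57219 (iv3 F359498)) (tt N57231 (iv4 F359499)) (tt N55457 (iv5 F160346)) (tt N29228 (iv6 D103619)) (tt N57216 F359495))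
theorem Q55138 : ∀ i, i < 55138 → P i := stepQ 55137 Q55137 (allL N55137 (tt N29296 (iv1 F158986)) (tt N29229 (iv0 D103620)) (tt N29292 (iv2 F158984)) (tt N89064 (iv3 F385026)) (tt N48914 F158983) (tt N50650 (iv5 F345147)) (tt N91487 D194468) (tt N29293 F158985))
theorem Q55139 : ∀ i, i < 55139 → P i := stepQ 55138 Q55138 (allL N55138 (tt N77117 (iv1 F365890)) (tt N30225 F351316) (tt N91488 D194469) (tt N29229 (iv3 D103621)) (tt N91468 (iv4 F393257)) (tt N58347 (iv5 F351133)) (tt N91478 (iv6 F393300)) (tt N91489 D194470))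
theorem Q55140 : ∀ i, i < 55140 → P i := stepQ 55139 Q55139 (allL N55139 (tt N29293 (iv1 F158994)) (tt N29292 F158995) (tt N29296 F158991) (tt N91489 (iv3 F393345)) (tt N29230 F158992) (tt N29323 F158993) (tt N91490 D194471) (tt N29229 (iv7 D103623)))
theorem Q55141 : ∀ i, i < 55141 → P i := stepQ 55140 Q55140 (allL N55140 (tt N91491 D194472) (tt N91492 D194473) (tt N29297 F158996) (tt N91471 (iv3 F393264)) (tt N91490 (iv4 F393352)) (tt N54929 F158997) (tt N29230 (iv6 D103624)) (tt N91481 (iv7 F393310)))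
theorem Q55142 : ∀ i, i < 55142 → P i := stepQ 55141 Q55141 (allL N55141 (tt N50628 F294322) (tt N50620 F294323) (tt N29305 F159002) (tt N59087 F368593) (tt N29231 (iv4 D103626)) (tt N48895 F294324) (tt N59084 (iv6 F368597)) (tt N29309 F159003))
theorem Q55143 : ∀ i, i < 55143 → P i := stepQ 55142 Q55142 (allL N55142 (tt N91493 D194474) (tt N91494 D194475) (tt N29306 F159004) (tt N89922 (iv3 F388002)) (tt N59084 F368599) (tt N49978 F294901) (tt N29231 (iv6 D103627)) (tt N91495 D194476))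
theorem Q55144 : ∀ i, i < 55144 → P i := stepQ 55143 Q55143 (allL N55143 (tt N50620 F294315) (tt N50628 F294316) (tt N29309 F159009) (tt N85119 (iv3 F371687)) (tt N29232 (iv4 D103630)) (tt N29352 F294317) (tt N91496 D194477) (tt N29305 F159010))
theorem Q55145 : ∀ i, i < 55145 → P i := stepQ 55144 Q55144 (allL N55144 (tt N91497 D194478) (tt N90958 (iv0 F391375)) (tt N29310 F159011) (tt N86092 (iv3 F375097)) (tt N91496 (iv4 F393377)) (tt N55508 (iv5 F160417)) (tt N29232 (iv6 D103631)) (tt N91498 D194479))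
theorem Q55146 : ∀ i, i < 55146 → P i := stepQ 55145 Q55145 (allL N55145 (tt N82646 (iv1 F349305)) (tt N91499 D194480) (tt N91500 D194481) (tt N29233 (iv3 D103635)) (tt N51582 (iv4 F292094)) (tt N50644 F340060) (tt N51461 (iv6 F349307)) (tt N29320 F159019))
theorem Q55147 : ∀ i, i < 55147 → P i := stepQ 55146 Q55146 (allL N55146 (tt N50431 F335411) (tt N29234 (iv0 D103637)) (tt N53039 F335412) (tt N86474 (iv3 F376330)) (tt N88586 (iv4 F383535)) (tt N53821 F335413) (tt N49281 F335414) (tt N53040 F335415))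
theorem Q55148 : ∀ i, i < 55148 → P i := stepQ 55147 Q55147 (allL N55147 (tt N29234 (iv1 D103638)) (tt N50431 F364435) (tt N53040 (iv2 F364432)) (tt N87517 (iv3 F379629)) (tt N91501 D194482) (tt N53820 F364434) (tt N53171 (iv6 F364433)) (tt N53039 F364431))
theorem Q55149 : ∀ i, i < 55149 → P i := stepQ 55148 Q55148 (allL N55148 (tt N53040 F292862) (tt N53039 F292863) (tt N50431 (iv2 F291833)) (tt N29235 F159026) (tt N55148 F159027) (tt N49001 F292864) (tt N82729 F292865) (tt N29234 (iv7 D103641)))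
theorem Q55150 : ∀ i, i < 55150 → P i := stepQ 55149 Q55149 (allL N55149 (tt N53260 F177359) (tt N53263 F177360) (tt N53852 F159043) (tt N29238 F159044) (tt N51698 F159045) (tt N49735 (iv5 F359411)) (tt N29237 (iv6 D103646)) (tt N83112 (iv7 F286010)))
theorem Q55151 : ∀ i, i < 55151 → P i := stepQ 55150 Q55150 (allL N55150 (tt N55444 (iv1 F160327)) (tt N55443 F160324) (tt N29242 F159053) (tt N54952 F159054) (tt N91502 D194483) (tt N29239 (iv5 D103651)) (tt N88172 (iv6 F382009)) (tt N55442 (iv7 F160321)))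
theorem Q55152 : ∀ i, i < 55152 → P i := stepQ 55151 Q55151 (allL N55151 (tt N29252 F159057) (tt N29248 (iv0 F159060)) (tt N29249 F159058) (tt N29240 (iv3 D103652)) (tt N49260 F159055) (tt N81551 (iv5 F360320)) (tt N55019 (iv6 F159059)) (tt N29250 F159056))
theorem Q55153 : ∀ i, i < 55153 → P i := stepQ 55152 Q55152 (allL N55152 (tt N55464 (iv1 F160359)) (tt N29447 F160316) (tt N55440 (iv2 F160312)) (tt N81551 (iv3 F360319)) (tt N91503 D194484) (tt N29240 (iv5 D103653)) (tt N91504 D194485) (tt N55439 (iv7 F160308)))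
theorem Q55154 : ∀ i, i < 55154 → P i := stepQ 55153 Q55153 (allL N55153 (tt N55491 F161633) (tt N29420 F161634) (tt N55441 (iv2 F160317)) (tt N55019 F159062) (tt N89172 (iv4 F385439)) (tt N84513 (iv5 F369589)) (tt N29240 (iv6 D103654)) (tt N55490 F161647))
theorem Q55155 : ∀ i, i < 55155 → P i := stepQ 55154 Q55154 (allL N55154 (tt N29460 F251762) (tt N52310 (iv0 F293514)) (tt N55000 (iv2 F251251)) (tt N81548 (iv3 F360351)) (tt N87830 (iv4 F380739)) (tt N74168 (iv5 F360332)) (tt N29241 (iv6 D103657)) (tt N55001 (iv7 F251255)))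
theorem Q55156 : ∀ i, i < 55156 → P i := stepQ 55155 Q55155 (allL N55155 (tt N55442 (iv1 F160323)) (tt N29242 (iv0 D103658)) (tt N55444 (iv2 F353173)) (tt N91505 D194486) (tt N91506 D194487) (tt N84646 (iv5 F370012)) (tt N91507 D194488) (tt N55443 (iv7 F353174)))
theorem Q55157 : ∀ i, i < 55157 → P i := stepQ 55156 Q55156 (allL N55156 (tt N29242 (iv1 D103659)) (tt N55442 F160322) (tt N55443 F353169) (tt N45405 F353170) (tt N91508 D194489) (tt N84647 F370015) (tt N45407 F353171) (tt N55444 F353172))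
theorem Q55158 : ∀ i, i < 55158 → P i := stepQ 55157 Q55157 (allL N55157 (tt N87023 (iv1 F378069)) (tt N91509 D194490) (tt N91502 (iv2 F393402)) (tt N91510 D194491) (tt N29242 (iv4 D103660)) (tt N91511 D194492) (tt N88183 (iv6 F382069)) (tt N55445 (iv7 F160328)))
theorem Q55159 : ∀ i, i < 55159 → P i := stepQ 55158 Q55158 (allL N55158 (tt N55434 (iv1 F350170)) (tt N54909 F350169) (tt N54948 F159069) (tt N29243 (iv3 D103661)) (tt N91512 D194493) (tt N49893 F159070) (tt N91513 D194494) (tt N54959 F159071))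
theorem Q55160 : ∀ i, i < 55160 → P i := stepQ 55159 Q55159 (allL N55159 (tt N52226 F340378) (tt N87080 F378312) (tt N49924 F159072) (tt N91513 (iv3 F393436)) (tt N52565 (iv4 F340379)) (tt N85638 (iv5 F373310)) (tt N29243 (iv6 D103662)) (tt N87077 (iv7 F378301)))
theorem Q55161 : ∀ i, i < 55161 → P i := stepQ 55160 Q55160 (allL N55160 (tt N91514 D194495) (tt N91515 D194496) (tt N91516 D194497) (tt N29244 (iv3 D103663)) (tt N91510 (iv4 F393426)) (tt N84602 (iv5 F369837)) (tt N88187 (iv6 F382086)) (tt N55447 (iv7 F160331)))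
theorem Q55162 : ∀ i, i < 55162 → P i := stepQ 55161 Q55161 (allL N55161 (tt N53876 F159080) (tt N53878 (iv0 F159077)) (tt N53853 F159073) (tt N29246 F159074) (tt N51699 F159075) (tt N72604 (iv5 F357204)) (tt N29245 (iv6 D103664)) (tt N53905 (iv7 F159076)))
theorem Q55163 : ∀ i, i < 55163 → P i := stepQ 55162 Q55162 (allL N55162 (tt N54925 F365263) (tt N55036 (iv0 F369978)) (tt N54573 (iv2 F314177)) (tt N54938 F159085) (tt N66858 F365236) (tt N29247 (iv5 D103668)) (tt N54557 (iv6 F366708)) (tt N55011 (iv7 F177375)))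
theorem Q55164 : ∀ i, i < 55164 → P i := stepQ 55163 Q55163 (allL N55163 (tt N29248 (iv1 D103670)) (tt N29252 F159095) (tt N29250 F159099) (tt N53871 (iv3 F289601)) (tt N49259 (iv4 F159097)) (tt N80138 F331169) (tt N49300 F350445) (tt N29249 F159096))
theorem Q55165 : ∀ i, i < 55165 → P i := stepQ 55164 Q55164 (allL N55164 (tt N91505 F393411) (tt N79309 (iv0 F353182)) (tt N29251 F159100) (tt N31804 F321135) (tt N60514 F321136) (tt N29248 (iv5 D103671)) (tt N31802 F321137) (tt N91517 D194498))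
theorem Q55166 : ∀ i, i < 55166 → P i := stepQ 55165 Q55165 (allL N55165 (tt N29250 (iv1 F159106)) (tt N29249 F159107) (tt N29252 F159102) (tt N54942 F159103) (tt N50172 F159104) (tt N91517 (iv5 F393446)) (tt N29440 F159105) (tt N29248 (iv7 D103672)))
theorem Q55167 : ∀ i, i < 55167 → P i := stepQ 55166 Q55166 (allL N55166 (tt N55455 F350465) (tt N81550 (iv0 F360312)) (tt N80138 (iv2 F331170)) (tt N55439 (iv3 F160307)) (tt N91518 D194499) (tt N29250 (iv5 D103675)) (tt N91519 D194500) (tt N81551 F360318))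
theorem Q55168 : ∀ i, i < 55168 → P i := stepQ 55167 Q55167 (allL N55167 (tt N91517 (iv1 F393449)) (tt N29251 (iv0 D103677)) (tt N91505 (iv2 F393406)) (tt N46211 F353189) (tt N82561 F353190) (tt N52061 F353191) (tt N58417 (iv6 F353193)) (tt N79309 F353192))
theorem Q55169 : ∀ i, i < 55169 → P i := stepQ 55168 Q55168 (allL N55168 (tt N29251 (iv1 D103678)) (tt N91517 F393448) (tt N79309 (iv2 F353175)) (tt N55443 F350457) (tt N87732 F380277) (tt N52062 (iv5 F350456)) (tt N79307 F353177) (tt N91505 (iv7 F393408)))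
theorem Q55170 : ∀ i, i < 55170 → P i := stepQ 55169 Q55169 (allL N55169 (tt N91520 D194501) (tt N91521 D194502) (tt N60514 (iv2 F359833)) (tt N65128 F352209) (tt N29251 (iv4 D103679)) (tt N88670 (iv5 F383805)) (tt N88189 (iv6 F382093)) (tt N91522 D194503))
theorem Q55171 : ∀ i, i < 55171 → P i := stepQ 55170 Q55170 (allL N55170 (tt N79309 (iv1 F353181)) (tt N91505 F393410) (tt N91517 (iv2 F393443)) (tt N29256 F159114) (tt N91522 (iv4 F393464)) (tt N29252 F159115) (tt N91523 D194504) (tt N29251 (iv7 D103680)))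
theorem Q55172 : ∀ i, i < 55172 → P i := stepQ 55171 Q55171 (allL N55171 (tt N31849 F352007) (tt N58405 F352008) (tt N54949 F159116) (tt N49924 F159117) (tt N82014 F352009) (tt N51227 (iv5 F291980)) (tt N29253 (iv6 D103681)) (tt N58404 (iv7 F352014)))
theorem Q55173 : ∀ i, i < 55173 → P i := stepQ 55172 Q55172 (allL N55172 (tt N54909 F350167) (tt N55434 F350168) (tt N54959 F159119) (tt N29254 (iv3 D103682)) (tt N91524 D194505) (tt N49889 F159120) (tt N85717 (iv6 F373641)) (tt N54948 F159121))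
theorem Q55174 : ∀ i, i < 55174 → P i := stepQ 55173 Q55173 (allL N55173 (tt N91525 D194506) (tt N58466 (iv0 F363499)) (tt N45805 (iv2 F340621)) (tt N85717 (iv3 F373640)) (tt N34659 F340619) (tt N49891 F159123) (tt N29254 (iv6 D103683)) (tt N45808 F340620))
theorem Q55175 : ∀ i, i < 55175 → P i := stepQ 55174 Q55174 (allL N55174 (tt N91526 D194507) (tt N79878 (iv0 F352212)) (tt N58877 F352208) (tt N29255 (iv3 D103684)) (tt N65128 (iv4 F352207)) (tt N79274 F352210) (tt N58875 F352211) (tt N80669 (iv7 F353942)))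
theorem Q55176 : ∀ i, i < 55176 → P i := stepQ 55175 Q55175 (allL N55175 (tt N52285 (iv1 F159127)) (tt N52282 F159128) (tt N54950 F159125) (tt N80669 F353935) (tt N29256 F159126) (tt N49629 (iv5 F353921)) (tt N75366 F340606) (tt N29255 (iv7 D103686)))
theorem Q55177 : ∀ i, i < 55177 → P i := stepQ 55176 Q55176 (allL N55176 (tt N91527 D194508) (tt N91528 D194509) (tt N54951 F159129) (tt N91523 (iv3 F393469)) (tt N75366 (iv4 F340605)) (tt N29443 F159130) (tt N29256 (iv6 D103687)) (tt N66690 F340603))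
theorem Q55178 : ∀ i, i < 55178 → P i := stepQ 55177 Q55177 (allL N55177 (tt N35116 F159133) (tt N61407 (iv0 F178796)) (tt N76953 (iv2 F240931)) (tt N29257 (iv3 D103688)) (tt N64424 (iv4 F196842)) (tt N52320 F159131) (tt N91529 D194510) (tt N54962 F159132))
theorem Q55179 : ∀ i, i < 55179 → P i := stepQ 55178 Q55178 (allL N55178 (tt N36639 F321842) (tt N80458 (iv0 F360667)) (tt N29806 (iv2 F323531)) (tt N91529 (iv3 F393502)) (tt N74930 F317131) (tt N29782 F321843) (tt N29257 (iv6 D103689)) (tt N29810 F321844))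
theorem Q55180 : ∀ i, i < 55180 → P i := stepQ 55179 Q55179 (allL N55179 (tt N79271 (iv1 F253863)) (tt N76621 (iv0 F239569)) (tt N80760 F350142) (tt N29258 (iv3 D103690)) (tt N81300 (iv4 F274195)) (tt N36454 F306823) (tt N35299 F312110) (tt N54963 F159136))
theorem Q55181 : ∀ i, i < 55181 → P i := stepQ 55180 Q55180 (allL N55180 (tt N32837 F159140) (tt N53308 F159141) (tt N53331 F159137) (tt N69579 (iv3 F306155)) (tt N29258 (iv4 D103691)) (tt N53927 F159138) (tt N63627 (iv6 F337025)) (tt N53332 F159139))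
theorem Q55182 : ∀ i, i < 55182 → P i := stepQ 55181 Q55181 (allL N55181 (tt N41664 F337015) (tt N41667 F337016) (tt N41666 (iv2 F337020)) (tt N35299 F337017) (tt N63627 F337023) (tt N29803 F337018) (tt N29258 (iv6 D103692)) (tt N29802 F337019))
theorem Q55183 : ∀ i, i < 55183 → P i := stepQ 55182 Q55182 (allL N55182 (tt N74418 F313335) (tt N62852 F315421) (tt N29260 F159143) (tt N33828 F159144) (tt N33575 F315422) (tt N74254 (iv5 F322412)) (tt N29259 (iv6 D103693)) (tt N41672 (iv7 F317661)))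
theorem Q55184 : ∀ i, i < 55184 → P i := stepQ 55183 Q55183 (allL N55183 (tt N41672 F319866) (tt N29260 (iv0 D103694)) (tt N74418 F319870) (tt N91530 D194511) (tt N62855 F319867) (tt N78836 F319871) (tt N74406 F319872) (tt N62852 F319868))
theorem Q55185 : ∀ i, i < 55185 → P i := stepQ 55184 Q55184 (allL N55184 (tt N91531 D194512) (tt N40447 F334899) (tt N74254 (iv2 F364507)) (tt N29263 F159146) (tt N91532 D194513) (tt N29260 (iv5 D103696)) (tt N47676 F159147) (tt N91533 D194514))
theorem Q55186 : ∀ i, i < 55186 → P i := stepQ 55185 Q55185 (allL N55185 (tt N62852 F319861) (tt N74418 F319864) (tt N41672 F319862) (tt N29264 F159148) (tt N41671 F319863) (tt N91533 (iv5 F393521)) (tt N41671 F319865) (tt N29260 (iv7 D103697)))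
theorem Q55187 : ∀ i, i < 55187 → P i := stepQ 55186 Q55186 (allL N55186 (tt N91534 D194515) (tt N74257 (iv0 F353424)) (tt N91535 D194516) (tt N29261 (iv3 D103699)) (tt N29596 F192430) (tt N39947 F353416) (tt N42830 F353417) (tt N47713 F311191))
theorem Q55188 : ∀ i, i < 55188 → P i := stepQ 55187 Q55187 (allL N55187 (tt N36352 F350188) (tt N91536 D194517) (tt N47712 F311194) (tt N39947 F353412) (tt N73767 (iv4 F353401)) (tt N29261 (iv5 D103701)) (tt N66564 F330088) (tt N47715 F311195))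
theorem Q55189 : ∀ i, i < 55189 → P i := stepQ 55188 Q55188 (allL N55188 (tt N41661 F307160) (tt N36293 F307161) (tt N41659 F307162) (tt N42830 F307163) (tt N87194 (iv4 F378665)) (tt N52390 F159152) (tt N29261 (iv6 D103702)) (tt N41660 F307164))
theorem Q55190 : ∀ i, i < 55190 → P i := stepQ 55189 Q55189 (allL N55189 (tt N80451 F348684) (tt N91537 D194518) (tt N91538 D194519) (tt N29262 (iv3 D103704)) (tt N91539 D194520) (tt N91540 D194521) (tt N91541 D194522) (tt N47710 F315971))
theorem Q55191 : ∀ i, i < 55191 → P i := stepQ 55190 Q55190 (allL N55190 (tt N91536 (iv1 F393537)) (tt N36352 F350187) (tt N47715 F315974) (tt N91540 (iv3 F393558)) (tt N91542 D194523) (tt N29262 (iv5 D103706)) (tt N40473 F341027) (tt N47712 F315975))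
theorem Q55192 : ∀ i, i < 55192 → P i := stepQ 55191 Q55191 (allL N55191 (tt N62379 F341059) (tt N62391 F341060) (tt N47716 F315976) (tt N91541 (iv3 F393565)) (tt N87197 (iv4 F378706)) (tt N40474 F341061) (tt N29262 (iv6 D103707)) (tt N62389 (iv7 F341072)))
theorem Q55193 : ∀ i, i < 55193 → P i := stepQ 55192 Q55192 (allL N55192 (tt N47719 (iv1 F159160)) (tt N29263 (iv0 D103708)) (tt N47717 F341049) (tt N40263 F341050) (tt N74603 F341051) (tt N66635 F341052) (tt N78129 (iv6 F363150)) (tt N40253 F341053))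
theorem Q55194 : ∀ i, i < 55194 → P i := stepQ 55193 Q55193 (allL N55193 (tt N29263 (iv1 D103709)) (tt N47719 F159154) (tt N40253 F336841) (tt N91543 D194524) (tt N57193 F336842) (tt N46614 (iv5 F159155)) (tt N40251 F336843) (tt N47717 F336844))
theorem Q55195 : ∀ i, i < 55195 → P i := stepQ 55194 Q55194 (allL N55194 (tt N91544 D194525) (tt N41544 F363401) (tt N47718 F159156) (tt N91545 D194526) (tt N29263 (iv4 D103710)) (tt N91546 D194527) (tt N47679 F159157) (tt N91547 D194528))
theorem Q55196 : ∀ i, i < 55196 → P i := stepQ 55195 Q55195 (allL N55195 (tt N40253 F330068) (tt N47717 F159162) (tt N47719 F159158) (tt N91533 (iv3 F393520)) (tt N91547 (iv4 F393591)) (tt N29264 F159159) (tt N82234 (iv6 F330080)) (tt N29263 (iv7 D103711)))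
theorem Q55197 : ∀ i, i < 55197 → P i := stepQ 55196 Q55196 (allL N55196 (tt N49731 (iv1 F352744)) (tt N29265 (iv0 D103718)) (tt N49734 F352736) (tt N54568 F352737) (tt N91548 D194529) (tt N53425 (iv5 F352735)) (tt N54971 (iv6 F357200)) (tt N49732 F357202))
theorem Q55198 : ∀ i, i < 55198 → P i := stepQ 55197 Q55197 (allL N55197 (tt N49734 F346746) (tt N49732 F342453) (tt N29265 (iv2 D103720)) (tt N36197 F346741) (tt N80187 (iv4 F346918)) (tt N33403 F346742) (tt N81505 F346721) (tt N49731 (iv7 F352749)))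
theorem Q55199 : ∀ i, i < 55199 → P i := stepQ 55198 Q55198 (allL N55198 (tt N73600 F337682) (tt N54465 (iv0 F356236)) (tt N33403 F337684) (tt N29267 F159171) (tt N33399 F337685) (tt N29265 (iv5 D103722)) (tt N33397 F337686) (tt N63489 F337687))
theorem Q55200 : ∀ i, i < 55200 → P i := stepQ 55199 Q55199 (allL N55199 (tt N91549 D194530) (tt N77806 (iv0 F346911)) (tt N81505 (iv2 F346722)) (tt N29268 F159172) (tt N80194 F346912) (tt N87129 (iv5 F378465)) (tt N29265 (iv6 D103723)) (tt N87500 (iv7 F379569)))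
theorem Q55201 : ∀ i, i < 55201 → P i := stepQ 55200 Q55200 (allL N55200 (tt N29270 (iv1 F159178)) (tt N29266 (iv0 D103725)) (tt N75008 F313059) (tt N62770 F313060) (tt N51812 F317105) (tt N41547 F324915) (tt N41964 F313062) (tt N46523 F317106))
theorem Q55202 : ∀ i, i < 55202 → P i := stepQ 55201 Q55201 (allL N55201 (tt N74999 F308697) (tt N64055 (iv0 F192423)) (tt N75004 F308698) (tt N29266 (iv3 D103727)) (tt N80192 (iv4 F346916)) (tt N65284 F308699) (tt N41322 F308700) (tt N75003 F308701))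
theorem Q55203 : ∀ i, i < 55203 → P i := stepQ 55202 Q55202 (allL N55202 (tt N29271 (iv1 F159183)) (tt N29267 (iv0 D103731)) (tt N87449 (iv2 F379353)) (tt N54703 (iv3 F353158)) (tt N91550 D194531) (tt N36341 F320990) (tt N91551 D194532) (tt N91473 (iv7 F393275)))
theorem Q55204 : ∀ i, i < 55204 → P i := stepQ 55203 Q55203 (allL N55203 (tt N29267 (iv1 D103732)) (tt N29271 F159180) (tt N91473 F393277) (tt N54977 (iv3 F366335)) (tt N91552 D194533) (tt N52598 F334498) (tt N91483 F393314) (tt N87449 (iv7 F379355)))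
theorem Q55205 : ∀ i, i < 55205 → P i := stepQ 55204 Q55204 (allL N55204 (tt N90671 (iv1 F390470)) (tt N91553 D194534) (tt N30320 F356920) (tt N40860 F356921) (tt N29267 (iv4 D103733)) (tt N77109 F356922) (tt N30318 F356923) (tt N77084 (iv7 F356924)))
theorem Q55206 : ∀ i, i < 55206 → P i := stepQ 55205 Q55205 (allL N55205 (tt N59118 F356913) (tt N59117 F356914) (tt N30319 F356915) (tt N33397 F356916) (tt N30318 F356917) (tt N73965 F356918) (tt N29267 (iv6 D103734)) (tt N40782 F356919))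
theorem Q55207 : ∀ i, i < 55207 → P i := stepQ 55206 Q55206 (allL N55206 (tt N29268 (iv1 D103737)) (tt N64005 F317726) (tt N41658 F317727) (tt N54980 (iv3 F358019)) (tt N36293 F317728) (tt N52009 F290443) (tt N36292 (iv6 F319929)) (tt N52521 (iv7 F363398)))
theorem Q55208 : ∀ i, i < 55208 → P i := stepQ 55207 Q55207 (allL N55207 (tt N29269 (iv1 D103741)) (tt N36197 F350570) (tt N54572 (iv2 F357183)) (tt N54971 F350571) (tt N64200 F350572) (tt N37276 F350573) (tt N54568 F350574) (tt N46068 F350575))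
theorem Q55209 : ∀ i, i < 55209 → P i := stepQ 55208 Q55208 (allL N55208 (tt N46068 F350564) (tt N54572 (iv0 F357185)) (tt N29269 (iv2 D103742)) (tt N49731 (iv3 F352746)) (tt N45003 F350565) (tt N36198 F350566) (tt N91554 D194535) (tt N36197 F350567))
theorem Q55210 : ∀ i, i < 55210 → P i := stepQ 55209 Q55209 (allL N55209 (tt N32649 F234602) (tt N45004 F234603) (tt N45003 F350579) (tt N91555 D194536) (tt N29269 (iv4 D103743)) (tt N78242 F350576) (tt N91556 D194537) (tt N45002 F350580))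
theorem Q55211 : ∀ i, i < 55211 → P i := stepQ 55210 Q55210 (allL N55210 (tt N36196 F339731) (tt N36195 F339732) (tt N36198 F339733) (tt N29271 F159186) (tt N36191 F339734) (tt N29269 (iv5 D103744)) (tt N59124 F339735) (tt N36188 F339736))
theorem Q55212 : ∀ i, i < 55212 → P i := stepQ 55211 Q55211 (allL N55211 (tt N91557 D194538) (tt N60755 (iv0 F340727)) (tt N91554 (iv2 F393620)) (tt N29272 F159187) (tt N91556 (iv4 F393632)) (tt N60609 (iv5 F347820)) (tt N29269 (iv6 D103745)) (tt N91558 D194539))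
theorem Q55213 : ∀ i, i < 55213 → P i := stepQ 55212 Q55212 (allL N55212 (tt N32869 F192428) (tt N91559 D194540) (tt N91560 D194541) (tt N29270 (iv3 D103746)) (tt N91555 (iv4 F393627)) (tt N77011 (iv5 F340737)) (tt N73821 (iv6 F340736)) (tt N91472 (iv7 F393271)))
theorem Q55214 : ∀ i, i < 55214 → P i := stepQ 55213 Q55213 (allL N55213 (tt N78716 (iv1 F335117)) (tt N77417 F335118) (tt N91474 (iv2 F393280)) (tt N73821 F340735) (tt N29272 F159188) (tt N91561 D194542) (tt N29270 (iv6 D103748)) (tt N64006 F335113))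
theorem Q55215 : ∀ i, i < 55215 → P i := stepQ 55214 Q55214 (allL N55214 (tt N91553 (iv1 F393615)) (tt N90671 (iv0 F390469)) (tt N77084 F356931) (tt N30322 F356932) (tt N29271 (iv4 D103749)) (tt N91562 D194543) (tt N59139 F356933) (tt N30320 F356934))
theorem Q55216 : ∀ i, i < 55216 → P i := stepQ 55215 Q55215 (allL N55215 (tt N85672 (iv1 F373467)) (tt N85638 (iv0 F373311)) (tt N85671 F373461) (tt N59124 F356937) (tt N59139 (iv4 F356936)) (tt N91563 D194544) (tt N29271 (iv6 D103750)) (tt N59120 F356938))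
theorem Q55217 : ∀ i, i < 55217 → P i := stepQ 55216 Q55216 (allL N55216 (tt N87380 (iv1 F379167)) (tt N29272 (iv0 D103751)) (tt N62390 F358012) (tt N36292 F350021) (tt N62379 F350022) (tt N51987 F159189) (tt N54980 F159190) (tt N52545 F350023))
theorem Q55218 : ∀ i, i < 55218 → P i := stepQ 55217 Q55217 (allL N55217 (tt N42132 F321385) (tt N52561 (iv0 F159191)) (tt N87454 F379375) (tt N60609 F321386) (tt N58555 F321387) (tt N29272 (iv5 D103753)) (tt N91563 (iv6 F393667)) (tt N55579 F358435))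
theorem Q55219 : ∀ i, i < 55219 → P i := stepQ 55218 Q55218 (allL N55218 (tt N52545 F335108) (tt N62390 F358013) (tt N87380 (iv2 F379172)) (tt N91558 (iv3 F393639)) (tt N64006 (iv4 F335109)) (tt N55579 F335107) (tt N64005 (iv6 F335095)) (tt N29272 (iv7 D103754)))
theorem Q55220 : ∀ i, i < 55220 → P i := stepQ 55219 Q55219 (allL N55219 (tt N53425 (iv1 F346761)) (tt N49733 F346760) (tt N53424 F346757) (tt N29273 (iv3 D103756)) (tt N63379 (iv4 F346762)) (tt N88207 (iv5 F382179)) (tt N74163 (iv6 F348140)) (tt N53423 (iv7 F337160)))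
theorem Q55221 : ∀ i, i < 55221 → P i := stepQ 55220 Q55220 (allL N55220 (tt N90706 (iv1 F390578)) (tt N83160 F365228) (tt N91475 (iv2 F393287)) (tt N76883 F361901) (tt N29273 (iv4 D103757)) (tt N91564 D194545) (tt N91565 D194546) (tt N77086 (iv7 F361902)))
theorem Q55222 : ∀ i, i < 55222 → P i := stepQ 55221 Q55221 (allL N55221 (tt N74042 F379358) (tt N67029 (iv0 F361617)) (tt N74109 (iv2 F361616)) (tt N74163 F361615) (tt N91565 (iv4 F393672)) (tt N87343 F379076) (tt N29273 (iv6 D103759)) (tt N91566 D194547))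
theorem Q55223 : ∀ i, i < 55223 → P i := stepQ 55222 Q55222 (allL N55222 (tt N83160 F366332) (tt N90706 (iv0 F390577)) (tt N77086 F364177) (tt N31453 F337154) (tt N29274 (iv4 D103762)) (tt N91567 D194548) (tt N31451 F337155) (tt N91475 (iv7 F393289)))
theorem Q55224 : ∀ i, i < 55224 → P i := stepQ 55223 Q55223 (allL N55223 (tt N91480 (iv1 F393306)) (tt N29275 (iv0 D103764)) (tt N91476 F393292) (tt N91568 D194549) (tt N87198 F378730) (tt N91569 D194550) (tt N91570 D194551) (tt N91477 (iv7 F393297)))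
theorem Q55225 : ∀ i, i < 55225 → P i := stepQ 55224 Q55224 (allL N55224 (tt N29275 (iv1 D103765)) (tt N91480 F393305) (tt N91477 F393299) (tt N91571 D194552) (tt N87199 F378735) (tt N91572 D194553) (tt N91573 D194554) (tt N91476 F393293))
theorem Q55226 : ∀ i, i < 55226 → P i := stepQ 55225 Q55225 (allL N55225 (tt N81476 F346768) (tt N77090 (iv0 F361896)) (tt N91574 D194555) (tt N29275 (iv3 D103766)) (tt N54990 F159194) (tt N85150 (iv5 F371752)) (tt N29294 F159195) (tt N91575 D194556))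
theorem Q55227 : ∀ i, i < 55227 → P i := stepQ 55226 Q55226 (allL N55226 (tt N77116 F372009) (tt N91576 D194557) (tt N91479 (iv2 F393302)) (tt N85150 (iv3 F371750)) (tt N91577 D194558) (tt N29275 (iv5 D103767)) (tt N85149 F371749) (tt N91578 D194559))
theorem Q55228 : ∀ i, i < 55228 → P i := stepQ 55227 Q55227 (allL N55227 (tt N91477 (iv1 F393296)) (tt N91476 F393294) (tt N91480 (iv2 F393303)) (tt N91575 (iv3 F393683)) (tt N29276 F159196) (tt N91578 (iv5 F393691)) (tt N91579 D194560) (tt N29275 (iv7 D103768)))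
theorem Q55229 : ∀ i, i < 55229 → P i := stepQ 55228 Q55228 (allL N55228 (tt N91492 (iv1 F393355)) (tt N91491 F393354) (tt N91481 (iv2 F393307)) (tt N54993 F159197) (tt N91579 (iv4 F393692)) (tt N54993 F159198) (tt N29276 (iv6 D103769)) (tt N29297 F159199))
theorem Q55230 : ∀ i, i < 55230 → P i := stepQ 55229 Q55229 (allL N55229 (tt N80612 F268831) (tt N85381 (iv0 F372421)) (tt N61393 (iv2 F335353)) (tt N50315 F159200) (tt N29277 (iv4 D103770)) (tt N61364 F335351) (tt N54994 F177426) (tt N54937 (iv7 F177428)))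
theorem Q55231 : ∀ i, i < 55231 → P i := stepQ 55230 Q55230 (allL N55230 (tt N54913 F363042) (tt N54911 F363043) (tt N55002 F159211) (tt N29279 (iv3 D103784)) (tt N91580 D194561) (tt N48900 F292221) (tt N91581 D194562) (tt N85637 (iv7 F373305)))
theorem Q55232 : ∀ i, i < 55232 → P i := stepQ 55231 Q55231 (allL N55231 (tt N91582 D194563) (tt N91583 D194564) (tt N50629 F292228) (tt N91581 (iv3 F393696)) (tt N85657 (iv4 F373423)) (tt N51894 F159215) (tt N29279 (iv6 D103786)) (tt N91584 D194565))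
theorem Q55233 : ∀ i, i < 55233 → P i := stepQ 55232 Q55232 (allL N55232 (tt N29286 (iv1 F159222)) (tt N29280 (iv0 D103789)) (tt N55278 (iv2 F159291)) (tt N91585 D194566) (tt N52435 F159220) (tt N55078 F294252) (tt N91586 D194567) (tt N55281 (iv7 F159300)))
theorem Q55234 : ∀ i, i < 55234 → P i := stepQ 55233 Q55233 (allL N55233 (tt N29280 (iv1 D103790)) (tt N29286 F159224) (tt N55281 (iv2 F159299)) (tt N91587 D194568) (tt N55081 F294256) (tt N55357 F294257) (tt N59136 (iv6 F345149)) (tt N55278 (iv7 F159292)))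
theorem Q55235 : ∀ i, i < 55235 → P i := stepQ 55234 Q55234 (allL N55234 (tt N59067 F295619) (tt N59066 F295620) (tt N30195 F295621) (tt N39995 F295622) (tt N29281 F159227) (tt N91588 D194569) (tt N29280 (iv6 D103793)) (tt N59068 F295623))
theorem Q55236 : ∀ i, i < 55236 → P i := stepQ 55235 Q55235 (allL N55235 (tt N32102 F295616) (tt N29281 (iv0 D103794)) (tt N59115 (iv2 F363574)) (tt N91589 D194570) (tt N73745 (iv4 F363563)) (tt N91590 D194571) (tt N59118 F363564) (tt N59116 (iv7 F363576)))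
theorem Q55237 : ∀ i, i < 55237 → P i := stepQ 55236 Q55236 (allL N55236 (tt N29281 (iv1 D103795)) (tt N32102 F295617) (tt N59116 F363577) (tt N55009 (iv3 F354258)) (tt N91591 D194572) (tt N91592 D194573) (tt N91593 D194574) (tt N59115 F363575))
theorem Q55238 : ∀ i, i < 55238 → P i := stepQ 55237 Q55237 (allL N55237 (tt N59116 F295624) (tt N59115 F295625) (tt N32102 F295626) (tt N39980 F295627) (tt N59068 F295628) (tt N83586 F348758) (tt N91484 (iv6 F393325)) (tt N29281 (iv7 D103796)))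
theorem Q55239 : ∀ i, i < 55239 → P i := stepQ 55238 Q55238 (allL N55238 (tt N55492 (iv1 F160381)) (tt N54954 (iv0 F178369)) (tt N29285 F159232) (tt N55491 (iv3 F160375)) (tt N83642 (iv4 F288211)) (tt N84618 (iv5 F369884)) (tt N29283 (iv6 D103799)) (tt N55493 (iv7 F160379)))
theorem Q55240 : ∀ i, i < 55240 → P i := stepQ 55239 Q55239 (allL N55239 (tt N30376 F295846) (tt N29284 (iv0 D103800)) (tt N59114 F295847) (tt N53909 F349156) (tt N30235 F295848) (tt N41175 F295849) (tt N40560 F295850) (tt N59113 F295851))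
theorem Q55241 : ∀ i, i < 55241 → P i := stepQ 55240 Q55240 (allL N55240 (tt N29284 (iv1 D103801)) (tt N30376 F295852) (tt N59113 F295853) (tt N54997 F349230) (tt N30234 F295854) (tt N41174 F295855) (tt N91594 D194575) (tt N59114 F295856))
theorem Q55242 : ∀ i, i < 55242 → P i := stepQ 55241 Q55241 (allL N55241 (tt N57659 F295864) (tt N57658 F295865) (tt N57661 F295866) (tt N29287 F159233) (tt N32106 F295867) (tt N74134 F295868) (tt N29284 (iv6 D103803)) (tt N32103 F295869))
theorem Q55243 : ∀ i, i < 55243 → P i := stepQ 55242 Q55242 (allL N55242 (tt N55493 (iv1 F160380)) (tt N29285 (iv0 D103804)) (tt N55492 (iv2 F251671)) (tt N91595 D194576) (tt N50351 F251680) (tt N52542 (iv5 F251681)) (tt N54876 F350499) (tt N54954 (iv7 F251672)))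
theorem Q55244 : ∀ i, i < 55244 → P i := stepQ 55243 Q55243 (allL N55243 (tt N29285 (iv1 D103805)) (tt N55493 F160382) (tt N54954 F251665) (tt N54945 F251666) (tt N50352 (iv4 F367164)) (tt N52543 F251668) (tt N29439 F251669) (tt N55492 F251670))
theorem Q55245 : ∀ i, i < 55245 → P i := stepQ 55244 Q55244 (allL N55244 (tt N41195 F345171) (tt N41194 F345172) (tt N41197 F345173) (tt N29286 (iv3 D103806)) (tt N35553 F345174) (tt N49005 F294312) (tt N59075 F345175) (tt N30197 F345176))
theorem Q55246 : ∀ i, i < 55246 → P i := stepQ 55245 Q55245 (allL N55245 (tt N91596 D194577) (tt N91597 D194578) (tt N77100 F362347) (tt N59075 (iv3 F362346)) (tt N29287 F159235) (tt N91598 D194579) (tt N29286 (iv6 D103808)) (tt N59070 F362348))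
theorem Q55247 : ∀ i, i < 55247 → P i := stepQ 55246 Q55246 (allL N55246 (tt N91484 (iv1 F393327)) (tt N29287 (iv0 D103809)) (tt N91482 F393319) (tt N55023 F392942) (tt N91599 D194580) (tt N91600 D194581) (tt N91601 D194582) (tt N91483 F393318))
theorem Q55248 : ∀ i, i < 55248 → P i := stepQ 55247 Q55247 (allL N55247 (tt N29287 (iv1 D103810)) (tt N91484 F393326) (tt N91483 (iv2 F393316)) (tt N91602 D194583) (tt N91603 D194584) (tt N87383 (iv5 F379183)) (tt N91473 F393279) (tt N91482 (iv7 F393320)))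
theorem Q55249 : ∀ i, i < 55249 → P i := stepQ 55248 Q55248 (allL N55248 (tt N91483 (iv1 F393313)) (tt N91482 F393321) (tt N91484 (iv2 F393322)) (tt N32103 F362349) (tt N59070 F362350) (tt N84623 (iv5 F369897)) (tt N32102 F362351) (tt N29287 (iv7 D103811)))
theorem Q55250 : ∀ i, i < 55250 → P i := stepQ 55249 Q55249 (allL N55249 (tt N62658 (iv1 F352794)) (tt N62657 (iv0 F352793)) (tt N59877 (iv2 F352789)) (tt N29290 F159237) (tt N62686 (iv4 F352792)) (tt N59841 F352750) (tt N29288 (iv6 D103816)) (tt N59871 (iv7 F352791)))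
theorem Q55251 : ∀ i, i < 55251 → P i := stepQ 55250 Q55250 (allL N55250 (tt N29291 (iv1 F159239)) (tt N29289 (iv0 D103817)) (tt N55270 (iv2 F159269)) (tt N91604 D194585) (tt N52129 F159238) (tt N49004 F294758) (tt N91605 D194586) (tt N52191 F159240))
theorem Q55252 : ∀ i, i < 55252 → P i := stepQ 55251 Q55251 (allL N55251 (tt N57229 (iv1 F359489)) (tt N57228 F359501) (tt N57231 (iv2 F359485)) (tt N73176 F359484) (tt N29290 F159242) (tt N73175 (iv5 F359486)) (tt N29289 (iv6 D103820)) (tt N57227 (iv7 F359487)))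
theorem Q55253 : ∀ i, i < 55253 → P i := stepQ 55252 Q55252 (allL N55252 (tt N57216 (iv1 F359496)) (tt N29290 (iv0 D103821)) (tt N91485 F393331) (tt N91606 D194587) (tt N91607 D194588) (tt N79526 (iv5 F359598)) (tt N60123 F358272) (tt N91486 (iv7 F393334)))
theorem Q55254 : ∀ i, i < 55254 → P i := stepQ 55253 Q55253 (allL N55253 (tt N29290 (iv1 D103822)) (tt N57216 F359500) (tt N91486 F393335) (tt N55034 F386474) (tt N91608 D194589) (tt N79523 F392988) (tt N91609 D194590) (tt N91485 F393332))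
theorem Q55255 : ∀ i, i < 55255 → P i := stepQ 55254 Q55254 (allL N55254 (tt N66705 F359596) (tt N75417 F359597) (tt N55457 (iv2 F160345)) (tt N59841 (iv3 F352790)) (tt N65848 F359595) (tt N29290 (iv5 D103823)) (tt N29444 F159243) (tt N59870 (iv7 F359494)))
theorem Q55256 : ∀ i, i < 55256 → P i := stepQ 55255 Q55255 (allL N55255 (tt N91486 (iv1 F393333)) (tt N91485 F393330) (tt N57216 (iv2 F359490)) (tt N59871 (iv3 F359491)) (tt N57227 F359488) (tt N59870 F359493) (tt N57215 (iv6 F359492)) (tt N29290 (iv7 D103824)))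
theorem Q55257 : ∀ i, i < 55257 → P i := stepQ 55256 Q55256 (allL N55256 (tt N76208 F366085) (tt N76979 F373214) (tt N76977 F335347) (tt N29292 (iv3 D103834)) (tt N86045 (iv4 F374996)) (tt N85615 (iv5 F373213)) (tt N89478 F386617) (tt N76978 (iv7 F335346)))
theorem Q55258 : ∀ i, i < 55258 → P i := stepQ 55257 Q55257 (allL N55257 (tt N91607 F393768) (tt N91608 (iv0 F393770)) (tt N91487 (iv2 F393336)) (tt N89478 F386616) (tt N85624 (iv4 F373255)) (tt N89477 (iv5 F386618)) (tt N29292 (iv6 D103836)) (tt N91610 D194591))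
theorem Q55259 : ∀ i, i < 55259 → P i := stepQ 55258 Q55258 (allL N55258 (tt N57201 F366905) (tt N89070 F385039) (tt N74535 F363579) (tt N29293 (iv3 D103837)) (tt N86255 (iv4 F375602)) (tt N85614 (iv5 F373211)) (tt N57175 (iv6 F363578)) (tt N89064 (iv7 F385028)))
theorem Q55260 : ∀ i, i < 55260 → P i := stepQ 55259 Q55259 (allL N55259 (tt N62579 F363552) (tt N60026 F363553) (tt N66559 F363554) (tt N57175 F363555) (tt N85626 (iv4 F373266)) (tt N40844 F363556) (tt N29293 (iv6 D103839)) (tt N74536 F363557))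
theorem Q55261 : ∀ i, i < 55261 → P i := stepQ 55260 Q55260 (allL N55260 (tt N77113 (iv1 F353012)) (tt N29294 (iv0 D103840)) (tt N76974 (iv2 F346522)) (tt N77111 F362003) (tt N77684 F346521) (tt N91611 D194592) (tt N90484 (iv6 F389808)) (tt N77114 (iv7 F346523)))
theorem Q55262 : ∀ i, i < 55262 → P i := stepQ 55261 Q55261 (allL N55261 (tt N76974 (iv1 F349907)) (tt N77114 F349906) (tt N29294 (iv2 D103842)) (tt N91488 (iv3 F393339)) (tt N55048 F159249) (tt N53809 F351157) (tt N91574 (iv6 F393682)) (tt N77113 (iv7 F353005)))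
theorem Q55263 : ∀ i, i < 55263 → P i := stepQ 55262 Q55262 (allL N55262 (tt N91612 D194593) (tt N77126 F353014) (tt N53809 (iv2 F351132)) (tt N29295 F159250) (tt N53277 F351156) (tt N29294 (iv5 D103843)) (tt N53225 F351158) (tt N89324 (iv7 F386106)))
theorem Q55264 : ∀ i, i < 55264 → P i := stepQ 55263 Q55263 (allL N55263 (tt N77114 F349904) (tt N76974 F349905) (tt N77113 F353006) (tt N29296 F159251) (tt N55050 F159252) (tt N89324 (iv5 F386105)) (tt N81725 (iv6 F353010)) (tt N29294 (iv7 D103844)))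
theorem Q55265 : ∀ i, i < 55265 → P i := stepQ 55264 Q55264 (allL N55264 (tt N84831 F370782) (tt N85239 F372008) (tt N85238 F372000) (tt N53225 (iv3 F351159)) (tt N49002 F294749) (tt N85149 (iv5 F371748)) (tt N29295 (iv6 D103847)) (tt N53810 F351161))
theorem Q55266 : ∀ i, i < 55266 → P i := stepQ 55265 Q55265 (allL N55265 (tt N91613 D194594) (tt N91614 D194595) (tt N91490 (iv2 F393350)) (tt N81725 F353011) (tt N29297 F159259) (tt N91615 D194596) (tt N29296 (iv6 D103848)) (tt N91579 (iv7 F393693)))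
theorem Q55267 : ∀ i, i < 55267 → P i := stepQ 55266 Q55266 (allL N55266 (tt N91481 (iv1 F393312)) (tt N29297 (iv0 D103849)) (tt N91491 (iv2 F406827)) (tt N91616 D194598) (tt N91617 D194599) (tt N91618 D194600) (tt N91619 D194601) (tt N91492 (iv7 F406826)))
theorem Q55268 : ∀ i, i < 55268 → P i := stepQ 55267 Q55267 (allL N55267 (tt N29297 (iv1 D103850)) (tt N91481 F393311) (tt N91492 (iv2 F406825)) (tt N74077 (iv3 F406830)) (tt N91620 D194604) (tt N91621 D194605) (tt N74075 (iv6 F406832)) (tt N91491 (iv7 F406828)))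
theorem Q55269 : ∀ i, i < 55269 → P i := stepQ 55268 Q55268 (allL N55268 (tt N29298 (iv1 D103852)) (tt N48906 F159262) (tt N48909 F159265) (tt N55055 F159266) (tt N49014 (iv4 F159264)) (tt N59817 (iv5 F358508)) (tt N82591 F367091) (tt N48910 F159263))
theorem Q55270 : ∀ i, i < 55270 → P i := stepQ 55269 Q55269 (allL N55269 (tt N91622 D194607) (tt N91623 D194608) (tt N89506 (iv2 F386666)) (tt N29299 F159267) (tt N91390 (iv4 F392956)) (tt N29298 (iv5 D103853)) (tt N91624 D194609) (tt N48911 F159268))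
theorem Q55271 : ∀ i, i < 55271 → P i := stepQ 55270 Q55270 (allL N55270 (tt N43582 F325008) (tt N55135 F159272) (tt N55250 F159269) (tt N91625 D194610) (tt N29299 (iv4 D103854)) (tt N48892 F294998) (tt N91626 D194611) (tt N48915 F159270))
theorem Q55272 : ∀ i, i < 55272 → P i := stepQ 55271 Q55271 (allL N55271 (tt N91627 D194612) (tt N91628 D194613) (tt N87631 (iv2 F379946)) (tt N91624 (iv3 F393809)) (tt N91626 (iv4 F393818)) (tt N55057 F159273) (tt N29299 (iv6 D103855)) (tt N91629 D194614))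
theorem Q55273 : ∀ i, i < 55273 → P i := stepQ 55272 Q55272 (allL N55272 (tt N87619 (iv1 F379907)) (tt N85623 (iv0 F373251)) (tt N85281 (iv2 F372160)) (tt N41098 F331286) (tt N62204 F331287) (tt N29300 (iv5 D103857)) (tt N91630 D194615) (tt N41181 F331288))
theorem Q55274 : ∀ i, i < 55274 → P i := stepQ 55273 Q55273 (allL N55273 (tt N86091 (iv1 F375093)) (tt N86090 F375090) (tt N29302 F159283) (tt N86238 (iv3 F375516)) (tt N77511 F375024) (tt N29301 (iv5 D103863)) (tt N60148 (iv6 F357653)) (tt N86089 (iv7 F375083)))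
theorem Q55275 : ∀ i, i < 55275 → P i := stepQ 55274 Q55274 (allL N55274 (tt N86089 (iv1 F375085)) (tt N29302 (iv0 D103865)) (tt N86091 F375096) (tt N55059 (iv3 F360295)) (tt N91367 (iv4 F392887)) (tt N52114 F360294) (tt N91631 D194616) (tt N86090 F375091))
theorem Q55276 : ∀ i, i < 55276 → P i := stepQ 55275 Q55275 (allL N55275 (tt N29302 (iv1 D103866)) (tt N86089 (iv0 F375084)) (tt N86090 (iv2 F375092)) (tt N91632 D194617) (tt N91366 (iv4 F392882)) (tt N52115 (iv5 F370150)) (tt N91633 D194618) (tt N86091 (iv7 F375094)))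
theorem Q55277 : ∀ i, i < 55277 → P i := stepQ 55276 Q55276 (allL N55276 (tt N77512 (iv1 F372091)) (tt N75519 F372092) (tt N77511 (iv2 F375023)) (tt N86056 (iv3 F375026)) (tt N29302 (iv4 D103867)) (tt N86055 F375022) (tt N60149 (iv6 F357663)) (tt N77510 F365604))
theorem Q55278 : ∀ i, i < 55278 → P i := stepQ 55277 Q55277 (allL N55277 (tt N59818 (iv1 F358520)) (tt N59817 (iv0 F358504)) (tt N59820 (iv2 F340549)) (tt N29303 (iv3 D103872)) (tt N91349 (iv4 F392833)) (tt N51880 F159290) (tt N91634 D194619) (tt N59774 (iv7 F358497)))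
theorem Q55279 : ∀ i, i < 55279 → P i := stepQ 55278 Q55278 (allL N55278 (tt N43576 F325475) (tt N51052 F159294) (tt N55232 F159291) (tt N91635 D194620) (tt N29303 (iv4 D103873)) (tt N48886 F293231) (tt N91636 D194621) (tt N55233 F159292))
theorem Q55280 : ∀ i, i < 55280 → P i := stepQ 55279 Q55279 (allL N55279 (tt N91637 D194622) (tt N91638 D194623) (tt N87999 (iv2 F381428)) (tt N91634 (iv3 F393846)) (tt N91636 (iv4 F393854)) (tt N51882 F159295) (tt N29303 (iv6 D103874)) (tt N91639 D194624))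
theorem Q55281 : ∀ i, i < 55281 → P i := stepQ 55280 Q55280 (allL N55280 (tt N54930 F159303) (tt N55083 F335339) (tt N55085 F159298) (tt N29304 (iv3 D103875)) (tt N89293 (iv4 F385957)) (tt N48959 F295210) (tt N54482 F352905) (tt N55086 F159297))
theorem Q55282 : ∀ i, i < 55282 → P i := stepQ 55281 Q55281 (allL N55281 (tt N51052 F159301) (tt N43576 F325474) (tt N55233 F159299) (tt N91640 D194625) (tt N29304 (iv4 D103876)) (tt N48884 F293322) (tt N91641 D194626) (tt N55232 F159300))
theorem Q55283 : ∀ i, i < 55283 → P i := stepQ 55282 Q55282 (allL N55282 (tt N91642 D194627) (tt N91643 D194628) (tt N59773 F358494) (tt N54482 (iv3 F352906)) (tt N91641 (iv4 F393863)) (tt N51730 F159304) (tt N29304 (iv6 D103877)) (tt N91000 (iv7 F391520)))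
theorem Q55284 : ∀ i, i < 55284 → P i := stepQ 55283 Q55283 (allL N55283 (tt N76212 F365231) (tt N91644 D194629) (tt N85117 (iv2 F371680)) (tt N29305 (iv3 D103878)) (tt N86056 (iv4 F375027)) (tt N84800 (iv5 F370662)) (tt N91645 D194630) (tt N85119 (iv7 F371688)))
theorem Q55285 : ∀ i, i < 55285 → P i := stepQ 55284 Q55284 (allL N55284 (tt N73745 F363562) (tt N91591 (iv0 F393721)) (tt N59084 F368598) (tt N91645 (iv3 F393873)) (tt N29306 F159305) (tt N58270 (iv5 F352255)) (tt N29305 (iv6 D103879)) (tt N91646 D194631))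
theorem Q55286 : ∀ i, i < 55286 → P i := stepQ 55285 Q55285 (allL N55285 (tt N91495 (iv1 F393375)) (tt N29306 (iv0 D103880)) (tt N91493 F393359) (tt N91647 D194632) (tt N56857 F357666) (tt N91648 D194633) (tt N57083 (iv6 F366088)) (tt N91494 (iv7 F393365)))
theorem Q55287 : ∀ i, i < 55287 → P i := stepQ 55286 Q55286 (allL N55286 (tt N29306 (iv1 D103881)) (tt N91495 F393374) (tt N91494 (iv2 F393368)) (tt N60136 (iv3 F393362)) (tt N56858 (iv4 F393363)) (tt N91649 D194634) (tt N91650 D194635) (tt N91493 F393361))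
theorem Q55288 : ∀ i, i < 55288 → P i := stepQ 55287 Q55287 (allL N55287 (tt N91494 (iv1 F393364)) (tt N91493 F393369) (tt N91495 (iv2 F393370)) (tt N60143 (iv3 F357660)) (tt N91646 (iv4 F393879)) (tt N82601 F294975) (tt N91498 (iv6 F393379)) (tt N29306 (iv7 D103883)))
theorem Q55289 : ∀ i, i < 55289 → P i := stepQ 55288 Q55288 (allL N55288 (tt N86238 F375521) (tt N29307 (iv0 D103903)) (tt N55065 (iv2 F159336)) (tt N42948 F354451) (tt N76192 F354452) (tt N85668 (iv5 F373445)) (tt N73705 (iv6 F354456)) (tt N89921 (iv7 F388000)))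
theorem Q55290 : ∀ i, i < 55290 → P i := stepQ 55289 Q55289 (allL N55289 (tt N29307 (iv1 D103904)) (tt N86238 (iv0 F375520)) (tt N89921 F387998) (tt N48956 F294883) (tt N48936 F349159) (tt N48955 F294884) (tt N91651 D194636) (tt N55065 F159335))
theorem Q55291 : ∀ i, i < 55291 → P i := stepQ 55290 Q55290 (allL N55290 (tt N53877 (iv1 F354455)) (tt N53879 (iv0 F354454)) (tt N53644 F349161) (tt N86245 (iv3 F375560)) (tt N29307 (iv4 D103905)) (tt N85909 (iv5 F374419)) (tt N91652 D194637) (tt N53908 F349154))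
theorem Q55292 : ∀ i, i < 55292 → P i := stepQ 55291 Q55291 (allL N55291 (tt N91653 D194638) (tt N91654 D194639) (tt N89923 (iv2 F388007)) (tt N29310 F159337) (tt N91652 (iv4 F393903)) (tt N91655 D194640) (tt N29307 (iv6 D103906)) (tt N91656 D194641))
theorem Q55293 : ∀ i, i < 55293 → P i := stepQ 55292 Q55292 (allL N55292 (tt N55509 (iv1 F160420)) (tt N29308 (iv0 D103907)) (tt N55098 (iv2 F159338)) (tt N87763 (iv3 F380415)) (tt N84873 (iv4 F370951)) (tt N52461 F159339) (tt N82594 F352884) (tt N51716 F159340))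
theorem Q55294 : ∀ i, i < 55294 → P i := stepQ 55293 Q55293 (allL N55293 (tt N84571 F369735) (tt N51871 (iv0 F159343)) (tt N87992 F381415) (tt N29312 F159342) (tt N54534 (iv4 F365781)) (tt N29308 (iv5 D103908)) (tt N91655 (iv6 F393918)) (tt N55510 (iv7 F160423)))
theorem Q55295 : ∀ i, i < 55295 → P i := stepQ 55294 Q55294 (allL N55294 (tt N89381 (iv1 F386299)) (tt N90047 (iv0 F388411)) (tt N86248 (iv2 F375580)) (tt N29309 (iv3 D103909)) (tt N86245 (iv4 F375562)) (tt N48894 F294318) (tt N91657 D194642) (tt N59087 F368596))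
theorem Q55296 : ∀ i, i < 55296 → P i := stepQ 55295 Q55295 (allL N55295 (tt N91599 (iv1 F393752)) (tt N91603 (iv0 F393913)) (tt N91496 (iv2 F393376)) (tt N91657 (iv3 F393923)) (tt N29310 F159344) (tt N91658 D194643) (tt N29309 (iv6 D103910)) (tt N91659 D194644))
theorem Q55297 : ∀ i, i < 55297 → P i := stepQ 55296 Q55296 (allL N55296 (tt N91498 (iv1 F393386)) (tt N29310 (iv0 D103911)) (tt N91497 (iv2 F393383)) (tt N90960 (iv3 F393385)) (tt N91660 D194645) (tt N91661 D194646) (tt N91662 D194647) (tt N90958 F393384))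
theorem Q55298 : ∀ i, i < 55298 → P i := stepQ 55297 Q55297 (allL N55297 (tt N29310 (iv1 D103912)) (tt N91498 F393381) (tt N90958 (iv2 F391372)) (tt N91663 D194648) (tt N91664 D194649) (tt N87214 (iv5 F378778)) (tt N90957 F391371) (tt N91497 (iv7 F393382)))
theorem Q55299 : ∀ i, i < 55299 → P i := stepQ 55298 Q55298 (allL N55298 (tt N91665 D194650) (tt N91666 D194651) (tt N55508 (iv2 F160416)) (tt N91655 (iv3 F393917)) (tt N84626 (iv4 F369909)) (tt N29310 (iv5 D103913)) (tt N29312 F159345) (tt N91667 D194652))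
theorem Q55300 : ∀ i, i < 55300 → P i := stepQ 55299 Q55299 (allL N55299 (tt N90958 (iv1 F391376)) (tt N91497 F393380) (tt N91498 (iv2 F393378)) (tt N91656 (iv3 F393920)) (tt N91659 (iv4 F393926)) (tt N91667 (iv5 F393954)) (tt N91495 (iv6 F393373)) (tt N29310 (iv7 D103914)))
theorem Q55301 : ∀ i, i < 55301 → P i := stepQ 55300 Q55300 (allL N55300 (tt N91668 D194653) (tt N82832 F387244) (tt N89694 (iv2 F387237)) (tt N29313 (iv3 D103921)) (tt N48962 F159353) (tt N48889 F293841) (tt N82730 F293842) (tt N48916 F159354))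
theorem Q55302 : ∀ i, i < 55302 → P i := stepQ 55301 Q55301 (allL N55301 (tt N86244 (iv1 F375554)) (tt N29314 (iv0 D103924)) (tt N86247 (iv2 F375579)) (tt N50433 F343862) (tt N71868 F343895) (tt N48868 F343867) (tt N71867 F346042) (tt N52913 F343868))
theorem Q55303 : ∀ i, i < 55303 → P i := stepQ 55302 Q55302 (allL N55302 (tt N29314 (iv1 D103925)) (tt N86244 (iv0 F375553)) (tt N52913 F343878) (tt N91669 D194654) (tt N48705 F343879) (tt N48869 F343880) (tt N48662 F343881) (tt N86247 (iv7 F375572)))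
theorem Q55304 : ∀ i, i < 55304 → P i := stepQ 55303 Q55303 (allL N55303 (tt N86247 (iv1 F375571)) (tt N52913 (iv0 F343917)) (tt N29314 (iv2 D103926)) (tt N52883 (iv3 F362780)) (tt N49698 (iv4 F362781)) (tt N83083 (iv5 F343915)) (tt N49696 F343916) (tt N86244 (iv7 F375551)))
theorem Q55305 : ∀ i, i < 55305 → P i := stepQ 55304 Q55304 (allL N55304 (tt N83079 F345092) (tt N83078 F345094) (tt N83083 F343912) (tt N29315 F159362) (tt N91670 D194655) (tt N29314 (iv5 D103927)) (tt N91671 D194656) (tt N39357 F343913))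
theorem Q55306 : ∀ i, i < 55306 → P i := stepQ 55305 Q55305 (allL N55305 (tt N91672 D194657) (tt N91673 D194658) (tt N82739 (iv2 F338041)) (tt N91671 (iv3 F393976)) (tt N77094 F364624) (tt N77068 F338040) (tt N29315 (iv6 D103931)) (tt N91674 D194659))
theorem Q55307 : ∀ i, i < 55307 → P i := stepQ 55306 Q55306 (allL N55306 (tt N49515 (iv1 F352760)) (tt N82735 F352756) (tt N29317 (iv2 D103939)) (tt N86244 (iv3 F375550)) (tt N76246 (iv4 F326521)) (tt N53772 F352758) (tt N90974 F391434) (tt N52883 F352761))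
theorem Q55308 : ∀ i, i < 55308 → P i := stepQ 55307 Q55307 (allL N55307 (tt N53770 (iv1 F352752)) (tt N53218 (iv0 F352764)) (tt N53772 (iv2 F352759)) (tt N29318 F159386) (tt N61090 F352762) (tt N29317 (iv5 D103940)) (tt N91675 D194660) (tt N53771 (iv7 F352763)))
theorem Q55309 : ∀ i, i < 55309 → P i := stepQ 55308 Q55308 (allL N55308 (tt N90967 F391409) (tt N49473 (iv0 F352787)) (tt N90974 (iv2 F391435)) (tt N29319 F159387) (tt N77713 (iv4 F326524)) (tt N53507 F361849) (tt N29317 (iv6 D103941)) (tt N51465 (iv7 F292843)))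
theorem Q55310 : ∀ i, i < 55310 → P i := stepQ 55309 Q55309 (allL N55309 (tt N83103 F359642) (tt N91676 D194661) (tt N39356 F359640) (tt N91675 (iv3 F393989)) (tt N85616 (iv4 F373216)) (tt N83073 F359641) (tt N29318 (iv6 D103942)) (tt N91677 D194662))
theorem Q55311 : ∀ i, i < 55311 → P i := stepQ 55310 Q55310 (allL N55310 (tt N91500 (iv1 F393397)) (tt N29320 (iv0 D103945)) (tt N91499 (iv2 F393390)) (tt N86243 F375548) (tt N91678 D194663) (tt N48990 F349152) (tt N83391 (iv6 F361025)) (tt N82646 F361026))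
theorem Q55312 : ∀ i, i < 55312 → P i := stepQ 55311 Q55311 (allL N55311 (tt N29320 (iv1 D103946)) (tt N91500 F393398) (tt N82646 F361033) (tt N91679 D194664) (tt N86759 (iv4 F377081)) (tt N48991 F361034) (tt N48665 F361035) (tt N91499 (iv7 F393387)))
theorem Q55313 : ∀ i, i < 55313 → P i := stepQ 55312 Q55312 (allL N55312 (tt N91499 (iv1 F393391)) (tt N82646 (iv0 F349304)) (tt N29320 (iv2 D103947)) (tt N78171 (iv3 F340074)) (tt N53832 F159398) (tt N51081 F340061) (tt N82621 F340067) (tt N91500 (iv7 F393396)))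
theorem Q55314 : ∀ i, i < 55314 → P i := stepQ 55313 Q55313 (allL N55313 (tt N78171 F343859) (tt N29321 (iv0 D103955)) (tt N72606 (iv2 F343850)) (tt N91680 D194665) (tt N52762 (iv4 F343851)) (tt N80615 F343848) (tt N48669 F343849) (tt N72619 F343857))
theorem Q55315 : ∀ i, i < 55315 → P i := stepQ 55314 Q55314 (allL N55314 (tt N29321 (iv1 D103956)) (tt N78171 F345047) (tt N72619 F345042) (tt N87673 (iv3 F380101)) (tt N72458 (iv4 F345041)) (tt N80614 F345044) (tt N83412 (iv6 F356389)) (tt N72606 F345043))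
theorem Q55316 : ∀ i, i < 55316 → P i := stepQ 55315 Q55315 (allL N55315 (tt N72606 (iv1 F357136)) (tt N72619 F357135) (tt N29321 (iv2 D103957)) (tt N91500 (iv3 F393392)) (tt N72599 (iv4 F357137)) (tt N85609 (iv5 F373195)) (tt N91681 D194666) (tt N78171 F357140))
theorem Q55317 : ∀ i, i < 55317 → P i := stepQ 55316 Q55316 (allL N55316 (tt N72620 F356406) (tt N52764 (iv0 F356196)) (tt N91681 (iv2 F394017)) (tt N29322 F159416) (tt N49779 F343856) (tt N54108 (iv5 F343854)) (tt N29321 (iv6 D103959)) (tt N49762 F343855))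
theorem Q55318 : ∀ i, i < 55318 → P i := stepQ 55317 Q55317 (allL N55317 (tt N58346 (iv1 F345419)) (tt N56788 (iv0 F345201)) (tt N48400 F345202) (tt N29323 (iv3 D103984)) (tt N48336 F345203) (tt N91489 (iv5 F393346)) (tt N48335 F345204) (tt N58347 (iv7 F345414)))
theorem Q55319 : ∀ i, i < 55319 → P i := stepQ 55318 Q55318 (allL N55318 (tt N91682 D194667) (tt N91683 D194668) (tt N89325 (iv2 F386109)) (tt N48335 F332728) (tt N29324 F159434) (tt N48394 F332729) (tt N29323 (iv6 D103985)) (tt N80564 F332730))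
theorem Q55320 : ∀ i, i < 55320 → P i := stepQ 55319 Q55319 (allL N55319 (tt N89328 (iv1 F386134)) (tt N29324 (iv0 D103986)) (tt N89326 (iv2 F394038)) (tt N91684 D194670) (tt N91685 D194671) (tt N91686 D194672) (tt N91687 D194673) (tt N89327 F394041))
theorem Q55321 : ∀ i, i < 55321 → P i := stepQ 55320 Q55320 (allL N55320 (tt N29324 (iv1 D103987)) (tt N89328 F386133) (tt N89327 F394040) (tt N91688 D194674) (tt N91689 D194675) (tt N91690 D194676) (tt N91691 D194677) (tt N89326 (iv7 F394039)))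
theorem Q55322 : ∀ i, i < 55322 → P i := stepQ 55321 Q55321 (allL N55321 (tt N89327 (iv1 F386129)) (tt N89326 (iv0 F386128)) (tt N89328 (iv2 F386130)) (tt N82513 F332737) (tt N80564 (iv4 F332736)) (tt N48675 F159435) (tt N89323 (iv6 F386100)) (tt N29324 (iv7 D103988)))
theorem Q55323 : ∀ i, i < 55323 → P i := stepQ 55322 Q55322 (allL N55322 (tt N53261 F357540) (tt N53264 (iv0 F335338)) (tt N71131 (iv2 F344189)) (tt N29325 (iv3 D104006)) (tt N91692 D194678) (tt N53046 F159454) (tt N54508 F159455) (tt N50474 (iv7 F293918)))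
theorem Q55324 : ∀ i, i < 55324 → P i := stepQ 55323 Q55323 (allL N55323 (tt N53989 (iv1 F344196)) (tt N53988 (iv0 F344193)) (tt N54011 (iv2 F362666)) (tt N29326 (iv3 D104007)) (tt N91693 D194679) (tt N49747 F159457) (tt N71143 (iv6 F344186)) (tt N50476 (iv7 F293910)))
theorem Q55325 : ∀ i, i < 55325 → P i := stepQ 55324 Q55324 (allL N55324 (tt N91694 D194680) (tt N91695 D194681) (tt N50475 (iv2 F293923)) (tt N71143 F344187) (tt N89778 (iv4 F387518)) (tt N49749 F159460) (tt N29326 (iv6 D104008)) (tt N71139 (iv7 F344188)))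
theorem Q55326 : ∀ i, i < 55326 → P i := stepQ 55325 Q55325 (allL N55325 (tt N50142 (iv1 F293980)) (tt N29327 (iv0 D104009)) (tt N50391 (iv2 F293359)) (tt N91696 D194682) (tt N49801 F159461) (tt N50135 F362669) (tt N91697 D194683) (tt N50392 (iv7 F293926)))
theorem Q55327 : ∀ i, i < 55327 → P i := stepQ 55326 Q55326 (allL N55326 (tt N29327 (iv1 D104010)) (tt N50142 (iv0 F293979)) (tt N50392 (iv2 F293925)) (tt N91698 D194684) (tt N49841 F159467) (tt N50138 F362670) (tt N91699 D194685) (tt N50391 (iv7 F293360)))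
theorem Q55328 : ∀ i, i < 55328 → P i := stepQ 55327 Q55327 (allL N55327 (tt N58282 F360004) (tt N58281 F365131) (tt N58284 F331131) (tt N29327 (iv3 D104011)) (tt N50652 F159469) (tt N50128 F342493) (tt N58259 (iv6 F331079)) (tt N50478 (iv7 F295009)))
theorem Q55329 : ∀ i, i < 55329 → P i := stepQ 55328 Q55328 (allL N55328 (tt N91700 D194686) (tt N91701 D194687) (tt N50393 (iv2 F295004)) (tt N58259 F331080) (tt N29328 F159477) (tt N91702 D194688) (tt N29327 (iv6 D104013)) (tt N58247 (iv7 F331082)))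
theorem Q55330 : ∀ i, i < 55330 → P i := stepQ 55329 Q55329 (allL N55329 (tt N53826 (iv1 F159482)) (tt N29328 (iv0 D104014)) (tt N53824 (iv2 F289428)) (tt N91703 D194689) (tt N57128 (iv4 F388937)) (tt N84153 (iv5 F368352)) (tt N91704 D194690) (tt N53825 F289427))
theorem Q55331 : ∀ i, i < 55331 → P i := stepQ 55330 Q55330 (allL N55330 (tt N29328 (iv1 D104015)) (tt N53826 F159478) (tt N53825 F289425) (tt N91705 D194691) (tt N89796 F387718) (tt N51852 (iv5 F307497)) (tt N54034 (iv6 F274859)) (tt N53824 (iv7 F289426)))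
theorem Q55332 : ∀ i, i < 55332 → P i := stepQ 55331 Q55331 (allL N55331 (tt N53825 (iv1 F159483)) (tt N53824 F159484) (tt N53826 F159479) (tt N50657 F159480) (tt N58247 F331083) (tt N91016 (iv5 F391573)) (tt N50482 (iv6 F295011)) (tt N29328 (iv7 D104016)))
theorem Q55333 : ∀ i, i < 55333 → P i := stepQ 55332 Q55332 (allL N55332 (tt N74192 F345038) (tt N51503 (iv0 F345196)) (tt N79016 F345186) (tt N29329 (iv3 D104040)) (tt N49972 (iv4 F294335)) (tt N50120 (iv5 F345187)) (tt N51542 (iv6 F360349)) (tt N50374 (iv7 F293289)))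
theorem Q55334 : ∀ i, i < 55334 → P i := stepQ 55333 Q55333 (allL N55333 (tt N77437 F308293) (tt N43466 F308294) (tt N48714 F159591) (tt N81865 (iv3 F277322)) (tt N91706 D194692) (tt N29330 (iv5 D104118)) (tt N29331 F159592) (tt N77176 F308295))
theorem Q55335 : ∀ i, i < 55335 → P i := stepQ 55334 Q55334 (allL N55334 (tt N54109 F159600) (tt N54112 F159601) (tt N48852 F159598) (tt N91707 D194693) (tt N29331 (iv4 D104120)) (tt N51887 (iv5 F367197)) (tt N91706 (iv6 F394111)) (tt N54204 F159599))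
theorem Q55336 : ∀ i, i < 55336 → P i := stepQ 55335 Q55335 (allL N55335 (tt N78619 F335242) (tt N78483 F357443) (tt N47051 F310297) (tt N29333 (iv3 D104126)) (tt N47037 F310298) (tt N91708 D194694) (tt N76334 (iv6 F361349)) (tt N48928 F307375))
theorem Q55337 : ∀ i, i < 55337 → P i := stepQ 55336 Q55336 (allL N55336 (tt N43708 F307356) (tt N43705 F307357) (tt N48927 F307376) (tt N91708 (iv3 F394124)) (tt N91709 D194695) (tt N29333 (iv5 D104128)) (tt N91710 D194696) (tt N48929 F307377))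
theorem Q55338 : ∀ i, i < 55338 → P i := stepQ 55337 Q55337 (allL N55337 (tt N42688 F307358) (tt N43470 F307359) (tt N34546 F307360) (tt N76334 F344786) (tt N34539 F307361) (tt N82633 F283426) (tt N29333 (iv6 D104129)) (tt N34543 F307362))
theorem Q55339 : ∀ i, i < 55339 → P i := stepQ 55338 Q55338 (allL N55338 (tt N43705 F307363) (tt N43708 F307364) (tt N48929 F307388) (tt N73197 (iv3 F348380)) (tt N73200 (iv4 F336289)) (tt N29334 (iv5 D104133)) (tt N75439 (iv6 F358562)) (tt N48927 F307389))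
theorem Q55340 : ∀ i, i < 55340 → P i := stepQ 55339 Q55339 (allL N55339 (tt N77430 F307365) (tt N43560 F307366) (tt N42163 F307367) (tt N88997 (iv3 F384733)) (tt N42057 F307368) (tt N77394 (iv5 F353741)) (tt N29334 (iv6 D104134)) (tt N42176 F307369))
theorem Q55341 : ∀ i, i < 55341 → P i := stepQ 55340 Q55340 (allL N55340 (tt N43760 F307370) (tt N89976 (iv0 F388167)) (tt N48931 F159617) (tt N89207 (iv3 F385593)) (tt N29335 (iv4 D104137)) (tt N79489 F307371) (tt N29342 F159618) (tt N77273 F307372))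
theorem Q55342 : ∀ i, i < 55342 → P i := stepQ 55341 Q55341 (allL N55341 (tt N48935 (iv1 F159626)) (tt N29337 (iv0 D104139)) (tt N48934 (iv2 F159625)) (tt N53287 F159624) (tt N89511 (iv4 F386686)) (tt N91711 D194697) (tt N48880 F177433) (tt N48846 F159627))
theorem Q55343 : ∀ i, i < 55343 → P i := stepQ 55342 Q55342 (allL N55342 (tt N89936 (iv1 F388053)) (tt N89490 (iv0 F386637)) (tt N76192 (iv2 F354447)) (tt N29338 F159628) (tt N55065 F349155) (tt N29337 (iv5 D104140)) (tt N91712 D194698) (tt N48936 F159629))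
theorem Q55344 : ∀ i, i < 55344 → P i := stepQ 55343 Q55343 (allL N55343 (tt N44078 (iv1 F329795)) (tt N44077 (iv0 F329794)) (tt N34376 F329731) (tt N44093 F329732) (tt N29338 (iv4 D104143)) (tt N55030 (iv5 F293906)) (tt N91713 D194699) (tt N44079 (iv7 F329793)))
theorem Q55345 : ∀ i, i < 55345 → P i := stepQ 55344 Q55344 (allL N55344 (tt N91714 D194700) (tt N91715 D194701) (tt N48933 F159642) (tt N91712 (iv3 F394141)) (tt N91713 (iv4 F394146)) (tt N48802 F159643) (tt N29338 (iv6 D104144)) (tt N91716 D194702))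
theorem Q55346 : ∀ i, i < 55346 → P i := stepQ 55345 Q55345 (allL N55345 (tt N81075 F358471) (tt N81056 F358773) (tt N48938 F159648) (tt N44073 F329673) (tt N44080 F329674) (tt N83507 (iv5 F287692)) (tt N29339 (iv6 D104146)) (tt N81072 (iv7 F358784)))
theorem Q55347 : ∀ i, i < 55347 → P i := stepQ 55346 Q55346 (allL N55346 (tt N91711 (iv1 F394140)) (tt N87051 (iv0 F378187)) (tt N72593 (iv2 F357434)) (tt N29340 (iv3 D104147)) (tt N53894 (iv4 F329993)) (tt N55071 (iv5 F292850)) (tt N91717 D194703) (tt N48941 F159649))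
theorem Q55348 : ∀ i, i < 55348 → P i := stepQ 55347 Q55347 (allL N55347 (tt N91718 D194704) (tt N91719 D194705) (tt N48940 F159651) (tt N91717 (iv3 F394157)) (tt N75420 (iv4 F336607)) (tt N88032 (iv5 F381535)) (tt N29340 (iv6 D104148)) (tt N91720 D194706))
theorem Q55349 : ∀ i, i < 55349 → P i := stepQ 55348 Q55348 (allL N55348 (tt N91721 D194707) (tt N66987 (iv0 F339294)) (tt N48943 F159652) (tt N63768 (iv3 F362975)) (tt N63771 (iv4 F329044)) (tt N82637 (iv5 F283439)) (tt N29341 (iv6 D104149)) (tt N91722 D194708))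
theorem Q55350 : ∀ i, i < 55350 → P i := stepQ 55349 Q55349 (allL N55349 (tt N78299 F307756) (tt N68478 F307757) (tt N34118 F307758) (tt N29347 F159692) (tt N91723 D194709) (tt N29343 (iv5 D104167)) (tt N29344 F159693) (tt N44539 F307759))
theorem Q55351 : ∀ i, i < 55351 → P i := stepQ 55350 Q55350 (allL N55350 (tt N34135 F335354) (tt N34134 F335355) (tt N32974 F335356) (tt N78800 F335357) (tt N29344 (iv4 D104169)) (tt N32652 F335358) (tt N91723 (iv6 F394180)) (tt N34094 F335359))
theorem Q55352 : ∀ i, i < 55352 → P i := stepQ 55351 Q55351 (allL N55351 (tt N91724 D194710) (tt N43647 F366781) (tt N48873 F308565) (tt N81874 (iv3 F338875)) (tt N81877 F338871) (tt N29345 (iv5 D104178)) (tt N88841 (iv6 F384305)) (tt N48875 F308566))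
theorem Q55353 : ∀ i, i < 55353 → P i := stepQ 55352 Q55352 (allL N55352 (tt N43557 F308499) (tt N77229 F308500) (tt N48874 F308567) (tt N89649 (iv3 F387090)) (tt N43393 F308501) (tt N82629 F283313) (tt N29345 (iv6 D104179)) (tt N44581 F308502))
theorem Q55354 : ∀ i, i < 55354 → P i := stepQ 55353 Q55353 (allL N55353 (tt N69182 (iv1 F316605)) (tt N69187 (iv0 F316607)) (tt N76528 (iv2 F338856)) (tt N29346 (iv3 D104181)) (tt N76527 (iv4 F311929)) (tt N91725 D194711) (tt N44575 F307397) (tt N48872 F308568))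
theorem Q55355 : ∀ i, i < 55355 → P i := stepQ 55354 Q55354 (allL N55354 (tt N43647 F307398) (tt N91724 F394188) (tt N48875 F308569) (tt N91725 (iv3 F394191)) (tt N91726 D194712) (tt N29346 (iv5 D104183)) (tt N71226 F338908) (tt N48873 F308570))
theorem Q55356 : ∀ i, i < 55356 → P i := stepQ 55355 Q55355 (allL N55355 (tt N58343 F357934) (tt N89318 (iv0 F386071)) (tt N48878 F159711) (tt N85120 (iv3 F371690)) (tt N29347 (iv4 D104187)) (tt N91727 D194713) (tt N29352 F159712) (tt N91728 D194714))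
theorem Q55357 : ∀ i, i < 55357 → P i := stepQ 55356 Q55356 (allL N55356 (tt N48877 (iv1 F159716)) (tt N48876 F159717) (tt N48879 F159713) (tt N44539 F309286) (tt N91728 (iv4 F394211)) (tt N29348 F159714) (tt N85632 (iv6 F373288)) (tt N29347 (iv7 D104188)))
theorem Q55358 : ∀ i, i < 55358 → P i := stepQ 55357 Q55357 (allL N55357 (tt N50648 F159720) (tt N50645 F159721) (tt N48884 F159718) (tt N91729 D194715) (tt N29349 (iv4 D104189)) (tt N55233 (iv5 F294257)) (tt N73567 F358482) (tt N48886 F159719))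
theorem Q55359 : ∀ i, i < 55359 → P i := stepQ 55358 Q55358 (allL N55358 (tt N72983 F358483) (tt N72990 F358484) (tt N48885 F159722) (tt N85129 (iv3 F371708)) (tt N73567 (iv4 F358476)) (tt N48736 F159723) (tt N29349 (iv6 D104190)) (tt N91730 D194716))
theorem Q55360 : ∀ i, i < 55360 → P i := stepQ 55359 Q55359 (allL N55359 (tt N91731 D194717) (tt N85240 (iv0 F372011)) (tt N48891 F159724) (tt N89654 (iv3 F387108)) (tt N83266 (iv4 F286567)) (tt N49150 F159725) (tt N29350 (iv6 D104191)) (tt N91732 D194718))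
theorem Q55361 : ∀ i, i < 55361 → P i := stepQ 55360 Q55360 (allL N55360 (tt N87050 F378183) (tt N89677 (iv0 F387191)) (tt N85473 (iv2 F372736)) (tt N29351 (iv3 D104192)) (tt N85461 (iv4 F372701)) (tt N48916 F293880) (tt N85460 (iv6 F372699)) (tt N48889 F159726))
theorem Q55362 : ∀ i, i < 55362 → P i := stepQ 55361 Q55361 (allL N55361 (tt N91733 D194719) (tt N72099 (iv0 F380785)) (tt N48893 F159727) (tt N85460 F372698) (tt N83268 (iv4 F286573)) (tt N51693 (iv5 F294759)) (tt N29351 (iv6 D104193)) (tt N91734 D194720))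
theorem Q55363 : ∀ i, i < 55363 → P i := stepQ 55362 Q55362 (allL N55362 (tt N39718 F329315) (tt N39717 F329316) (tt N29363 F159760) (tt N89362 (iv3 F386244)) (tt N88019 (iv4 F381490)) (tt N75381 (iv5 F350038)) (tt N29353 (iv6 D104206)) (tt N39708 F329317))
theorem Q55364 : ∀ i, i < 55364 → P i := stepQ 55363 Q55363 (allL N55363 (tt N29390 F290791) (tt N29354 (iv0 D104220)) (tt N55437 F343067) (tt N89946 (iv3 F388073)) (tt N91735 D194721) (tt N84503 F369557) (tt N48677 F343048) (tt N55118 F343075))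
theorem Q55365 : ∀ i, i < 55365 → P i := stepQ 55364 Q55364 (allL N55364 (tt N80124 F328696) (tt N79245 F328697) (tt N81479 F328698) (tt N29356 F159813) (tt N47601 F328699) (tt N29355 (iv5 D104229)) (tt N91736 D194722) (tt N48850 F159814))
theorem Q55366 : ∀ i, i < 55366 → P i := stepQ 55365 Q55365 (allL N55365 (tt N54112 F159823) (tt N54109 F159824) (tt N54204 F159821) (tt N91737 D194723) (tt N29356 (iv4 D104230)) (tt N51884 (iv5 F367196)) (tt N91738 D194724) (tt N48852 F159822))
theorem Q55367 : ∀ i, i < 55367 → P i := stepQ 55366 Q55366 (allL N55366 (tt N91739 D194725) (tt N66275 (iv0 F365464)) (tt N88031 (iv2 F381529)) (tt N91736 (iv3 F394249)) (tt N91738 (iv4 F394261)) (tt N49135 F159825) (tt N29356 (iv6 D104231)) (tt N77436 F359652))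
theorem Q55368 : ∀ i, i < 55368 → P i := stepQ 55367 Q55367 (allL N55367 (tt N48867 F289909) (tt N51681 (iv0 F293407)) (tt N29359 F159828) (tt N54729 F159829) (tt N85504 (iv4 F372878)) (tt N33678 F321343) (tt N29357 (iv6 D104235)) (tt N51682 (iv7 F362385)))
theorem Q55369 : ∀ i, i < 55369 → P i := stepQ 55368 Q55368 (allL N55368 (tt N39745 F328540) (tt N39744 F328541) (tt N39746 F328542) (tt N67124 F328543) (tt N29358 (iv4 D104237)) (tt N57525 F328544) (tt N39720 F328545) (tt N39186 F328546))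
theorem Q55370 : ∀ i, i < 55370 → P i := stepQ 55369 Q55369 (allL N55369 (tt N29359 (iv1 D104239)) (tt N51682 F362384) (tt N51681 (iv2 F293408)) (tt N90946 (iv3 F391331)) (tt N49160 (iv4 F159832)) (tt N84469 F369424) (tt N82749 (iv6 F294919)) (tt N48867 F289869))
theorem Q55371 : ∀ i, i < 55371 → P i := stepQ 55370 Q55370 (allL N55370 (tt N34884 F306475) (tt N74808 F321339) (tt N33678 F321340) (tt N29364 F159833) (tt N33615 F321341) (tt N29359 (iv5 D104240)) (tt N33617 F321342) (tt N51683 (iv7 F293417)))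
theorem Q55372 : ∀ i, i < 55372 → P i := stepQ 55371 Q55371 (allL N55371 (tt N39777 F328707) (tt N47549 F328708) (tt N46218 F328709) (tt N29360 (iv3 D104241)) (tt N46213 F328710) (tt N52136 F159834) (tt N91740 D194726) (tt N52782 F328711))
theorem Q55373 : ∀ i, i < 55373 → P i := stepQ 55372 Q55372 (allL N55372 (tt N54106 F159839) (tt N52530 (iv0 F292267)) (tt N54183 F159837) (tt N91741 D194727) (tt N29360 (iv4 D104242)) (tt N51875 (iv5 F360813)) (tt N91742 D194728) (tt N54184 F159838))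
theorem Q55374 : ∀ i, i < 55374 → P i := stepQ 55373 Q55373 (allL N55373 (tt N91743 D194729) (tt N39327 F358540) (tt N82903 (iv2 F284744)) (tt N91740 (iv3 F394270)) (tt N91742 (iv4 F394277)) (tt N52138 F159841) (tt N29360 (iv6 D104243)) (tt N91744 D194730))
theorem Q55375 : ∀ i, i < 55375 → P i := stepQ 55374 Q55374 (allL N55374 (tt N52530 (iv1 F292268)) (tt N54106 F159845) (tt N54184 F159842) (tt N73438 (iv3 F360817)) (tt N29361 (iv4 D104244)) (tt N51881 (iv5 F360811)) (tt N89970 (iv6 F388142)) (tt N54183 F159843))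
theorem Q55376 : ∀ i, i < 55376 → P i := stepQ 55375 Q55375 (allL N55375 (tt N91745 D194731) (tt N91746 D194732) (tt N88032 (iv2 F381534)) (tt N77679 F365555) (tt N89970 (iv4 F388141)) (tt N48940 F159846) (tt N29361 (iv6 D104245)) (tt N91747 D194733))
theorem Q55377 : ∀ i, i < 55377 → P i := stepQ 55376 Q55376 (allL N55376 (tt N40676 F360797) (tt N40675 F360798) (tt N40717 F360799) (tt N29362 (iv3 D104246)) (tt N67124 F360800) (tt N51889 F365369) (tt N70123 F360801) (tt N30151 F360802))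
theorem Q55378 : ∀ i, i < 55378 → P i := stepQ 55377 Q55377 (allL N55377 (tt N90306 (iv1 F389296)) (tt N90307 (iv0 F389300)) (tt N88019 (iv2 F381489)) (tt N70123 F329318) (tt N29363 F159847) (tt N91748 D194734) (tt N29362 (iv6 D104247)) (tt N39712 F329319))
theorem Q55379 : ∀ i, i < 55379 → P i := stepQ 55378 Q55378 (allL N55378 (tt N39708 F329313) (tt N29363 (iv0 D104248)) (tt N39718 F355536) (tt N91749 D194735) (tt N91750 D194736) (tt N76929 F350768) (tt N91751 D194737) (tt N39717 F355537))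
theorem Q55380 : ∀ i, i < 55380 → P i := stepQ 55379 Q55379 (allL N55379 (tt N29363 (iv1 D104249)) (tt N39708 F329314) (tt N39717 F355539) (tt N89276 (iv3 F385891)) (tt N89590 (iv4 F386863)) (tt N76928 F355540) (tt N89579 (iv6 F386807)) (tt N39718 F355541))
theorem Q55381 : ∀ i, i < 55381 → P i := stepQ 55380 Q55380 (allL N55380 (tt N91752 D194738) (tt N91753 D194739) (tt N75381 (iv2 F350037)) (tt N33617 F329320) (tt N33626 F329321) (tt N29363 (iv5 D104250)) (tt N29364 F159848) (tt N33685 F329322))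
theorem Q55382 : ∀ i, i < 55382 → P i := stepQ 55381 Q55381 (allL N55381 (tt N90636 F390345) (tt N91754 D194740) (tt N39737 F329326) (tt N91755 D194741) (tt N29365 (iv4 D104276)) (tt N91756 D194742) (tt N39732 F329327) (tt N89361 (iv7 F386240)))
theorem Q55383 : ∀ i, i < 55383 → P i := stepQ 55382 Q55382 (allL N55382 (tt N91757 D194743) (tt N91758 D194744) (tt N70128 F365463) (tt N29366 (iv3 D104279)) (tt N91755 (iv4 F394319)) (tt N88018 (iv5 F381488)) (tt N70126 (iv6 F365462)) (tt N88017 F381486))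
theorem Q55384 : ∀ i, i < 55384 → P i := stepQ 55383 Q55383 (allL N55383 (tt N39710 F329344) (tt N39709 F329345) (tt N30149 F329346) (tt N70126 F329347) (tt N29367 F159902) (tt N91759 D194745) (tt N29366 (iv6 D104280)) (tt N39706 F329348))
theorem Q55385 : ∀ i, i < 55385 → P i := stepQ 55384 Q55384 (allL N55384 (tt N29368 (iv1 D104297)) (tt N85174 (iv0 F371802)) (tt N84675 (iv2 F370163)) (tt N91760 D194746) (tt N83641 F367170) (tt N87938 (iv5 F381235)) (tt N48520 F367171) (tt N85177 (iv7 F371819)))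
theorem Q55386 : ∀ i, i < 55386 → P i := stepQ 55385 Q55385 (allL N55385 (tt N85177 (iv1 F371818)) (tt N84675 (iv0 F370167)) (tt N29368 (iv2 D104298)) (tt N54450 (iv3 F367239)) (tt N85176 (iv4 F371812)) (tt N91761 D194747) (tt N52131 F367238) (tt N85174 (iv7 F371801)))
theorem Q55387 : ∀ i, i < 55387 → P i := stepQ 55386 Q55386 (allL N55386 (tt N52407 F370149) (tt N52410 (iv0 F367232)) (tt N91761 (iv2 F394336)) (tt N29369 F159919) (tt N91762 D194748) (tt N29368 (iv5 D104299)) (tt N91763 D194749) (tt N85178 (iv7 F371825)))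
theorem Q55388 : ∀ i, i < 55388 → P i := stepQ 55387 Q55387 (allL N55387 (tt N87286 F378980) (tt N91764 D194750) (tt N87303 (iv2 F379018)) (tt N91763 (iv3 F394343)) (tt N90364 (iv4 F389423)) (tt N52133 F367256) (tt N29369 (iv6 D104303)) (tt N91765 D194751))
theorem Q55389 : ∀ i, i < 55389 → P i := stepQ 55388 Q55388 (allL N55388 (tt N29370 (iv1 D104315)) (tt N83562 F366989) (tt N84685 F370217) (tt N89944 F388067) (tt N91766 D194752) (tt N88088 (iv5 F381753)) (tt N49204 F370218) (tt N88118 (iv7 F381834)))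
theorem Q55390 : ∀ i, i < 55390 → P i := stepQ 55389 Q55389 (allL N55389 (tt N88118 (iv1 F381835)) (tt N84685 F370220) (tt N29370 (iv2 D104316)) (tt N91169 (iv3 F392138)) (tt N82792 (iv4 F366986)) (tt N91767 D194753) (tt N55585 F366987) (tt N83562 F366988))
theorem Q55391 : ∀ i, i < 55391 → P i := stepQ 55390 Q55390 (allL N55390 (tt N52508 F370026) (tt N52512 (iv0 F365315)) (tt N91767 (iv2 F394354)) (tt N29371 F159944) (tt N91768 D194754) (tt N29370 (iv5 D104317)) (tt N87542 (iv6 F379707)) (tt N84522 (iv7 F369604)))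
theorem Q55392 : ∀ i, i < 55392 → P i := stepQ 55391 Q55391 (allL N55391 (tt N90382 (iv1 F389455)) (tt N90381 F389454) (tt N90383 (iv2 F389461)) (tt N29372 (iv3 D104350)) (tt N55500 F352715) (tt N36494 F352716) (tt N91769 D194755) (tt N88013 (iv7 F381479)))
theorem Q55393 : ∀ i, i < 55393 → P i := stepQ 55392 Q55392 (allL N55392 (tt N91770 D194756) (tt N91771 D194757) (tt N88012 (iv2 F381475)) (tt N91769 (iv3 F394359)) (tt N29373 F159970) (tt N91772 D194758) (tt N29372 (iv6 D104351)) (tt N91769 (iv7 F394362)))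
theorem Q55394 : ∀ i, i < 55394 → P i := stepQ 55393 Q55393 (allL N55393 (tt N88141 (iv1 F381906)) (tt N29373 (iv0 D104352)) (tt N88139 (iv2 F394385)) (tt N91773 D194760) (tt N91774 D194761) (tt N91775 D194762) (tt N91776 D194763) (tt N88140 (iv7 F394383)))
theorem Q55395 : ∀ i, i < 55395 → P i := stepQ 55394 Q55394 (allL N55394 (tt N29373 (iv1 D104353)) (tt N88141 F381905) (tt N88140 (iv2 F394382)) (tt N91777 D194765) (tt N91778 D194766) (tt N91779 D194767) (tt N91780 D194768) (tt N88139 (iv7 F394386)))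
theorem Q55396 : ∀ i, i < 55396 → P i := stepQ 55395 Q55395 (allL N55395 (tt N88140 (iv1 F381899)) (tt N88139 F381904) (tt N88141 (iv2 F381901)) (tt N55501 F363594) (tt N91769 (iv4 F394360)) (tt N49221 F159971) (tt N55500 (iv6 F363593)) (tt N29373 (iv7 D104354)))
theorem Q55397 : ∀ i, i < 55397 → P i := stepQ 55396 Q55396 (allL N55396 (tt N85013 F371379) (tt N85012 (iv0 F371375)) (tt N85015 F371383) (tt N29374 (iv3 D104356)) (tt N70625 F349132) (tt N51260 F159972) (tt N91781 D194769) (tt N55409 (iv7 F160055)))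
theorem Q55398 : ∀ i, i < 55398 → P i := stepQ 55397 Q55397 (allL N55397 (tt N50191 F159974) (tt N50188 F159975) (tt N51362 F159973) (tt N83972 (iv3 F367668)) (tt N29374 (iv4 D104357)) (tt N83692 (iv5 F365788)) (tt N83970 F367663) (tt N55410 (iv7 F160057)))
theorem Q55399 : ∀ i, i < 55399 → P i := stepQ 55398 Q55398 (allL N55398 (tt N86295 (iv1 F375733)) (tt N91782 D194770) (tt N51360 F159979) (tt N91781 (iv3 F394387)) (tt N83970 (iv4 F367665)) (tt N51262 F159980) (tt N29374 (iv6 D104358)) (tt N91783 D194771))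
theorem Q55400 : ∀ i, i < 55400 → P i := stepQ 55399 Q55399 (allL N55399 (tt N50956 F364725) (tt N50958 (iv0 F367179)) (tt N91784 D194772) (tt N29375 (iv3 D104359)) (tt N66014 (iv4 F377844)) (tt N51355 F159981) (tt N32571 F251769) (tt N51354 F159982))
theorem Q55401 : ∀ i, i < 55401 → P i := stepQ 55400 Q55400 (allL N55400 (tt N50188 F159984) (tt N50191 F159985) (tt N55410 (iv2 F160056)) (tt N87840 (iv3 F380793)) (tt N29375 (iv4 D104360)) (tt N83694 (iv5 F365790)) (tt N91785 D194773) (tt N51362 F159983))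
theorem Q55402 : ∀ i, i < 55402 → P i := stepQ 55401 Q55401 (allL N55401 (tt N85030 F371420) (tt N91786 D194774) (tt N51022 F159986) (tt N32571 F251770) (tt N91785 (iv4 F394409)) (tt N50826 F159987) (tt N29375 (iv6 D104361)) (tt N91787 D194775))
theorem Q55403 : ∀ i, i < 55403 → P i := stepQ 55402 Q55402 (allL N55402 (tt N50923 (iv1 F159989)) (tt N29376 (iv0 D104362)) (tt N51440 (iv2 F159990)) (tt N91788 D194776) (tt N50905 F159988) (tt N83699 (iv5 F365796)) (tt N86294 F375727) (tt N55411 (iv7 F160063)))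
theorem Q55404 : ∀ i, i < 55404 → P i := stepQ 55403 Q55403 (allL N55403 (tt N29376 (iv1 D104363)) (tt N50923 F159991) (tt N55411 F160061) (tt N38498 F349135) (tt N50906 F159993) (tt N83701 (iv5 F365793)) (tt N91789 D194777) (tt N51440 F159992))
theorem Q55405 : ∀ i, i < 55405 → P i := stepQ 55404 Q55404 (allL N55404 (tt N91790 D194778) (tt N91791 D194779) (tt N38609 F328607) (tt N29376 (iv3 D104364)) (tt N38601 F328608) (tt N83696 F367184) (tt N38600 F328609) (tt N55412 (iv7 F160065)))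
theorem Q55406 : ∀ i, i < 55406 → P i := stepQ 55405 Q55405 (allL N55405 (tt N91792 D194780) (tt N31391 F364200) (tt N84323 (iv2 F368893)) (tt N38600 F364201) (tt N29377 F159998) (tt N64668 F364202) (tt N29376 (iv6 D104366)) (tt N38621 F364203))
theorem Q55407 : ∀ i, i < 55407 → P i := stepQ 55406 Q55406 (allL N55406 (tt N84972 (iv1 F371225)) (tt N29377 (iv0 D104367)) (tt N84970 F371208) (tt N70616 F355337) (tt N90635 (iv4 F390332)) (tt N78939 F355334) (tt N81411 (iv6 F355336)) (tt N84971 (iv7 F371213)))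
theorem Q55408 : ∀ i, i < 55408 → P i := stepQ 55407 Q55407 (allL N55407 (tt N29377 (iv1 D104368)) (tt N84972 F371224) (tt N84971 (iv2 F371217)) (tt N61696 F364192) (tt N91793 D194781) (tt N80030 (iv5 F364191)) (tt N69180 F364193) (tt N84970 F371210))
theorem Q55409 : ∀ i, i < 55409 → P i := stepQ 55408 Q55408 (allL N55408 (tt N84971 (iv1 F371212)) (tt N84970 F371211) (tt N84972 (iv2 F371219)) (tt N38619 F326535) (tt N38621 F326536) (tt N47590 F326537) (tt N55416 (iv6 F160076)) (tt N29377 (iv7 D104369)))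
theorem Q55410 : ∀ i, i < 55410 → P i := stepQ 55409 Q55409 (allL N55409 (tt N50248 F363810) (tt N50251 (iv0 F359589)) (tt N91794 D194782) (tt N29378 (iv3 D104407)) (tt N79059 (iv4 F335959)) (tt N84404 (iv5 F369181)) (tt N74894 F335958) (tt N55396 F160055))
theorem Q55411 : ∀ i, i < 55411 → P i := stepQ 55410 Q55410 (allL N55410 (tt N50907 F160058) (tt N50912 F160059) (tt N55400 F160056) (tt N69923 (iv3 F359590)) (tt N29378 (iv4 D104408)) (tt N49748 F365789) (tt N86128 (iv6 F375184)) (tt N55397 F160057))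
theorem Q55412 : ∀ i, i < 55412 → P i := stepQ 55411 Q55411 (allL N55411 (tt N49759 (iv1 F291718)) (tt N29379 (iv0 D104409)) (tt N55403 (iv2 F160061)) (tt N91795 D194783) (tt N49836 (iv4 F290705)) (tt N49839 F365794) (tt N91796 D194784) (tt N55402 F160063))
theorem Q55413 : ∀ i, i < 55413 → P i := stepQ 55412 Q55412 (allL N55412 (tt N70062 (iv1 F365593)) (tt N70061 F365520) (tt N70064 F365519) (tt N29379 (iv3 D104410)) (tt N49269 F160064) (tt N91797 D194785) (tt N70080 (iv6 F364207)) (tt N55404 F160065))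
theorem Q55414 : ∀ i, i < 55414 → P i := stepQ 55413 Q55413 (allL N55413 (tt N49757 F292345) (tt N49756 (iv0 F292673)) (tt N49740 (iv2 F293261)) (tt N91797 (iv3 F394466)) (tt N49289 F292346) (tt N29379 (iv5 D104411)) (tt N91798 D194786) (tt N49288 (iv7 F293258)))
theorem Q55415 : ∀ i, i < 55415 → P i := stepQ 55414 Q55414 (allL N55414 (tt N90406 F389542) (tt N69903 (iv0 F364208)) (tt N85993 (iv2 F374780)) (tt N70080 F364205) (tt N29380 F160071) (tt N85468 (iv5 F372725)) (tt N29379 (iv6 D104412)) (tt N70075 (iv7 F364204)))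
theorem Q55416 : ∀ i, i < 55416 → P i := stepQ 55415 Q55415 (allL N55415 (tt N60929 (iv1 F177280)) (tt N29380 (iv0 D104413)) (tt N60930 (iv2 F177282)) (tt N91799 D194787) (tt N86288 F375702) (tt N86802 (iv5 F377250)) (tt N90407 F394475) (tt N60924 F177281))
theorem Q55417 : ∀ i, i < 55417 → P i := stepQ 55416 Q55416 (allL N55416 (tt N60924 (iv1 F177214)) (tt N60930 F177284) (tt N60929 F177279) (tt N49274 F160075) (tt N70075 F364206) (tt N49860 F355648) (tt N55408 F160076) (tt N29380 (iv7 D104415)))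
theorem Q55418 : ∀ i, i < 55418 → P i := stepQ 55417 Q55417 (allL N55417 (tt N49833 (iv1 F365799)) (tt N49839 F365800) (tt N84962 (iv2 F371184)) (tt N91800 D194788) (tt N29381 (iv4 D104445)) (tt N50918 F160121) (tt N91801 D194789) (tt N53660 (iv7 F292381)))
theorem Q55419 : ∀ i, i < 55419 → P i := stepQ 55418 Q55418 (allL N55418 (tt N89614 F386954) (tt N91802 D194790) (tt N84974 (iv2 F371231)) (tt N55604 (iv3 F367110)) (tt N91801 (iv4 F394480)) (tt N49597 F367111) (tt N29381 (iv6 D104446)) (tt N91803 D194791))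
theorem Q55420 : ∀ i, i < 55420 → P i := stepQ 55419 Q55419 (allL N55419 (tt N91804 D194792) (tt N83522 F287726) (tt N52206 (iv2 F160274)) (tt N85946 (iv3 F374550)) (tt N91805 D194793) (tt N29382 (iv5 D104582)) (tt N91806 D194794) (tt N52203 (iv7 F160273)))
theorem Q55421 : ∀ i, i < 55421 → P i := stepQ 55420 Q55420 (allL N55420 (tt N55433 F160255) (tt N54908 (iv0 F289643)) (tt N82374 F348567) (tt N29383 (iv3 D104585)) (tt N82374 F348570) (tt N82339 (iv5 F348565)) (tt N91807 D194795) (tt N52205 F160256))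
theorem Q55422 : ∀ i, i < 55422 → P i := stepQ 55421 Q55421 (allL N55421 (tt N83522 F287725) (tt N91804 F394490) (tt N52203 (iv2 F160277)) (tt N82339 F348568) (tt N91808 D194796) (tt N29383 (iv5 D104586)) (tt N91809 D194797) (tt N52206 F160276))
theorem Q55423 : ∀ i, i < 55423 → P i := stepQ 55422 Q55422 (allL N55422 (tt N29425 F161692) (tt N55495 F161693) (tt N52204 F160278) (tt N91807 (iv3 F394502)) (tt N32608 F160238) (tt N51800 F160239) (tt N29383 (iv6 D104587)) (tt N55494 (iv7 F161659)))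
theorem Q55424 : ∀ i, i < 55424 → P i := stepQ 55423 Q55423 (allL N55423 (tt N52208 (iv1 F160242)) (tt N52207 F160243) (tt N29385 F160240) (tt N55513 (iv3 F160468)) (tt N91810 D194798) (tt N29384 (iv5 D104588)) (tt N91811 D194799) (tt N52195 F160241))
theorem Q55425 : ∀ i, i < 55425 → P i := stepQ 55424 Q55424 (allL N55424 (tt N52195 (iv1 F160244)) (tt N29385 (iv0 D104589)) (tt N52208 F369989) (tt N86970 F377898) (tt N91521 (iv4 F393460)) (tt N52408 (iv5 F160245)) (tt N91812 D194800) (tt N52207 (iv7 F369988)))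
theorem Q55426 : ∀ i, i < 55426 → P i := stepQ 55425 Q55425 (allL N55425 (tt N29385 (iv1 D104590)) (tt N52195 F160246) (tt N52207 (iv2 F369990)) (tt N91813 D194801) (tt N91520 (iv4 F393453)) (tt N84561 F369999) (tt N91814 D194802) (tt N52208 F369991))
theorem Q55427 : ∀ i, i < 55427 → P i := stepQ 55426 Q55426 (allL N55426 (tt N87695 F380158) (tt N91815 D194803) (tt N91810 (iv2 F394512)) (tt N91816 D194804) (tt N29385 (iv4 D104591)) (tt N91817 D194805) (tt N91818 D194806) (tt N52209 F160247))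
theorem Q55428 : ∀ i, i < 55428 → P i := stepQ 55427 Q55427 (allL N55427 (tt N91819 D194807) (tt N91820 D194808) (tt N91811 (iv2 F394516)) (tt N29387 F160248) (tt N91818 (iv4 F394542)) (tt N86986 (iv5 F377951)) (tt N29385 (iv6 D104592)) (tt N91821 D194809))
theorem Q55429 : ∀ i, i < 55429 → P i := stepQ 55428 Q55428 (allL N55428 (tt N91822 D194810) (tt N60756 (iv0 F365881)) (tt N91823 D194811) (tt N29386 (iv3 D104593)) (tt N91816 (iv4 F394534)) (tt N52484 F160249) (tt N91824 D194812) (tt N52237 F160250))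
theorem Q55430 : ∀ i, i < 55430 → P i := stepQ 55429 Q55429 (allL N55429 (tt N91399 (iv1 F392985)) (tt N91398 F392983) (tt N55517 (iv2 F160482)) (tt N91824 (iv3 F394562)) (tt N29387 F160251) (tt N91825 D194813) (tt N29386 (iv6 D104594)) (tt N91826 D194814))
theorem Q55431 : ∀ i, i < 55431 → P i := stepQ 55430 Q55430 (allL N55430 (tt N55520 (iv1 F160489)) (tt N29387 (iv0 D104595)) (tt N55518 F358403) (tt N39580 F358393) (tt N91827 D194815) (tt N79297 F362532) (tt N91827 (iv6 F394570)) (tt N55519 (iv7 F358410)))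
theorem Q55432 : ∀ i, i < 55432 → P i := stepQ 55431 Q55431 (allL N55431 (tt N29387 (iv1 D104596)) (tt N55520 F160488) (tt N55519 F358409) (tt N47131 F358396) (tt N79501 F358397) (tt N79296 (iv5 F358415)) (tt N91828 D194816) (tt N55518 F358406))
theorem Q55433 : ∀ i, i < 55433 → P i := stepQ 55432 Q55432 (allL N55432 (tt N55519 (iv1 F160484)) (tt N55518 F160487) (tt N55520 (iv2 F160485)) (tt N91821 (iv3 F394549)) (tt N91826 (iv4 F394565)) (tt N87004 (iv5 F378024)) (tt N52227 F160252) (tt N29387 (iv7 D104597)))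
theorem Q55434 : ∀ i, i < 55434 → P i := stepQ 55433 Q55433 (allL N55433 (tt N51639 F160254) (tt N55420 (iv0 F160255)) (tt N55522 (iv2 F160504)) (tt N51659 F160253) (tt N29388 (iv4 D104598)) (tt N91829 D194817) (tt N55522 (iv6 F289687)) (tt N55107 (iv7 F289625)))
theorem Q55435 : ∀ i, i < 55435 → P i := stepQ 55434 Q55434 (allL N55434 (tt N55172 (iv1 F350168)) (tt N55158 F350170) (tt N55523 (iv2 F160508)) (tt N46676 F331197) (tt N46677 F331198) (tt N29388 (iv5 D104599)) (tt N65060 F331199) (tt N55108 (iv7 F289628)))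
theorem Q55436 : ∀ i, i < 55436 → P i := stepQ 55435 Q55435 (allL N55435 (tt N29389 (iv1 D104605)) (tt N47617 F335297) (tt N47598 F335298) (tt N91830 D194818) (tt N48247 F335299) (tt N84593 (iv5 F369806)) (tt N91831 D194819) (tt N47618 F335300))
theorem Q55437 : ∀ i, i < 55437 → P i := stepQ 55436 Q55436 (allL N55436 (tt N82519 F348553) (tt N82376 F335309) (tt N87027 (iv2 F378084)) (tt N55460 F335310) (tt N29389 (iv4 D104606)) (tt N66842 F335311) (tt N55459 F352029) (tt N55524 (iv7 F160513)))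
theorem Q55438 : ∀ i, i < 55438 → P i := stepQ 55437 Q55437 (allL N55437 (tt N51675 (iv1 F160293)) (tt N29391 (iv0 D104615)) (tt N55363 (iv2 F343067)) (tt N54460 F160292) (tt N91832 D194820) (tt N84584 (iv5 F369772)) (tt N49979 (iv6 F343078)) (tt N54914 (iv7 F343068)))
theorem Q55439 : ∀ i, i < 55439 → P i := stepQ 55438 Q55438 (allL N55438 (tt N53278 (iv1 F289589)) (tt N53345 (iv0 F160305)) (tt N53316 F160301) (tt N53354 F160302) (tt N29392 (iv4 D104618)) (tt N91833 D194821) (tt N91209 (iv6 F392270)) (tt N53346 F160303))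
theorem Q55440 : ∀ i, i < 55440 → P i := stepQ 55439 Q55439 (allL N55439 (tt N55550 (iv1 F160644)) (tt N29402 F160315) (tt N47612 F331202) (tt N55166 F160307) (tt N91834 D194822) (tt N29392 (iv5 D104619)) (tt N91835 D194823) (tt N55152 F160308))
theorem Q55441 : ∀ i, i < 55441 → P i := stepQ 55440 Q55440 (allL N55440 (tt N29402 F160314) (tt N55550 F160645) (tt N55152 F160312) (tt N46220 F331203) (tt N91836 D194824) (tt N29393 (iv5 D104621)) (tt N91837 D194825) (tt N47612 F331204))
theorem Q55442 : ∀ i, i < 55442 → P i := stepQ 55441 Q55441 (allL N55441 (tt N29416 F161649) (tt N55499 F161650) (tt N55153 F160317) (tt N89904 (iv3 F387928)) (tt N53348 F160318) (tt N51920 F160319) (tt N29393 (iv6 D104622)) (tt N55498 (iv7 F161637)))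
theorem Q55443 : ∀ i, i < 55443 → P i := stepQ 55442 Q55442 (allL N55442 (tt N55156 (iv1 F160322)) (tt N55155 F160323) (tt N29395 F160320) (tt N55532 (iv3 F160596)) (tt N91838 D194826) (tt N29394 (iv5 D104623)) (tt N71716 F340585) (tt N55150 F160321))
theorem Q55444 : ∀ i, i < 55444 → P i := stepQ 55443 Q55443 (allL N55443 (tt N55150 (iv1 F160324)) (tt N29395 (iv0 D104624)) (tt N55156 (iv2 F353169)) (tt N55168 (iv3 F350457)) (tt N91839 D194827) (tt N52509 (iv5 F160325)) (tt N79252 F331244) (tt N55155 F353174))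
theorem Q55445 : ∀ i, i < 55445 → P i := stepQ 55444 Q55444 (allL N55444 (tt N29395 (iv1 D104625)) (tt N55150 F160327) (tt N55155 F353173) (tt N64233 (iv3 F331239)) (tt N82009 F331240) (tt N81556 F331238) (tt N73686 (iv6 F344500)) (tt N55156 (iv7 F353172)))
theorem Q55446 : ∀ i, i < 55446 → P i := stepQ 55445 Q55445 (allL N55445 (tt N87817 (iv1 F380644)) (tt N91840 D194828) (tt N91838 (iv2 F394628)) (tt N91841 D194829) (tt N29395 (iv4 D104626)) (tt N91842 D194830) (tt N71689 (iv6 F340597)) (tt N55157 F160328))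
theorem Q55447 : ∀ i, i < 55447 → P i := stepQ 55446 Q55446 (allL N55446 (tt N71031 (iv1 F340598)) (tt N71713 F340595) (tt N71716 (iv2 F340592)) (tt N29397 F160329) (tt N71689 F340596) (tt N59697 F340593) (tt N29395 (iv6 D104627)) (tt N59696 F340594))
theorem Q55448 : ∀ i, i < 55448 → P i := stepQ 55447 Q55447 (allL N55447 (tt N91843 D194831) (tt N91844 D194832) (tt N91845 D194833) (tt N29396 (iv3 D104628)) (tt N91841 (iv4 F394643)) (tt N52552 F160330) (tt N91846 D194834) (tt N55160 F160331))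
theorem Q55449 : ∀ i, i < 55449 → P i := stepQ 55448 Q55448 (allL N55448 (tt N78641 F358407) (tt N91847 D194835) (tt N55538 (iv2 F160607)) (tt N91846 (iv3 F394662)) (tt N29397 F160332) (tt N91848 D194836) (tt N29396 (iv6 D104629)) (tt N91849 D194837))
theorem Q55450 : ∀ i, i < 55450 → P i := stepQ 55449 Q55449 (allL N55449 (tt N55541 (iv1 F160614)) (tt N29397 (iv0 D104630)) (tt N55539 F358142) (tt N81013 (iv3 F358140)) (tt N91399 (iv4 F392984)) (tt N71038 (iv5 F340607)) (tt N91850 D194838) (tt N55540 F358126))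
theorem Q55451 : ∀ i, i < 55451 → P i := stepQ 55450 Q55450 (allL N55450 (tt N29397 (iv1 D104631)) (tt N55541 F160613) (tt N55540 (iv2 F358141)) (tt N91297 (iv3 F392606)) (tt N91398 (iv4 F392982)) (tt N79333 (iv5 F364241)) (tt N91851 D194839) (tt N55539 (iv7 F358143)))
theorem Q55452 : ∀ i, i < 55452 → P i := stepQ 55451 Q55451 (allL N55451 (tt N55540 (iv1 F160609)) (tt N55539 F160612) (tt N55541 (iv2 F160610)) (tt N59696 (iv3 F340599)) (tt N91849 (iv4 F394672)) (tt N59693 F340600) (tt N52567 F160333) (tt N29397 (iv7 D104632)))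
theorem Q55453 : ∀ i, i < 55453 → P i := stepQ 55452 Q55452 (allL N55452 (tt N91287 (iv1 F392562)) (tt N91286 (iv0 F392555)) (tt N72673 F346834) (tt N29398 (iv3 D104633)) (tt N31939 F346835) (tt N49918 F160334) (tt N31938 F346836) (tt N55542 (iv7 F160615)))
theorem Q55454 : ∀ i, i < 55454 → P i := stepQ 55453 Q55453 (allL N55453 (tt N51666 F160336) (tt N51663 F160337) (tt N52070 F160335) (tt N80104 (iv3 F361885)) (tt N29398 (iv4 D104634)) (tt N84114 (iv5 F368155)) (tt N91852 D194840) (tt N55543 (iv7 F160617)))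
theorem Q55455 : ∀ i, i < 55455 → P i := stepQ 55454 Q55454 (allL N55454 (tt N47651 F346842) (tt N71042 (iv0 F359855)) (tt N52068 F160338) (tt N31938 F346837) (tt N91852 (iv4 F394687)) (tt N51767 F160339) (tt N29398 (iv6 D104635)) (tt N91853 D194841))
theorem Q55456 : ∀ i, i < 55456 → P i := stepQ 55455 Q55455 (allL N55455 (tt N47615 F360317) (tt N55166 (iv0 F350465)) (tt N91854 D194842) (tt N29399 (iv3 D104636)) (tt N91855 D194843) (tt N49919 F160340) (tt N91856 D194844) (tt N52063 F160341))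
theorem Q55457 : ∀ i, i < 55457 → P i := stepQ 55456 Q55456 (allL N55456 (tt N51663 F160343) (tt N51666 F160344) (tt N55543 (iv2 F160616)) (tt N91857 D194845) (tt N29399 (iv4 D104637)) (tt N84116 (iv5 F368163)) (tt N91858 D194846) (tt N52070 F160342))
theorem Q55458 : ∀ i, i < 55458 → P i := stepQ 55457 Q55457 (allL N55457 (tt N42133 F364599) (tt N79349 F359603) (tt N55254 F160345) (tt N91856 (iv3 F394718)) (tt N91858 (iv4 F394734)) (tt N55136 F160346) (tt N29399 (iv6 D104638)) (tt N91859 D194847))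
theorem Q55459 : ∀ i, i < 55459 → P i := stepQ 55458 Q55458 (allL N55458 (tt N46236 (iv1 F328691)) (tt N29400 (iv0 D104639)) (tt N34736 F328292) (tt N46207 F328293) (tt N49926 F160347) (tt N75452 (iv5 F337753)) (tt N46161 F328295) (tt N46237 (iv7 F328690)))
theorem Q55460 : ∀ i, i < 55460 → P i := stepQ 55459 Q55459 (allL N55459 (tt N91860 D194848) (tt N91861 D194849) (tt N76541 F352037) (tt N29400 (iv3 D104641)) (tt N29410 F160353) (tt N61005 (iv5 F352036)) (tt N55436 (iv6 F352029)) (tt N55544 (iv7 F160625)))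
theorem Q55461 : ∀ i, i < 55461 → P i := stepQ 55460 Q55460 (allL N55460 (tt N45672 F335287) (tt N45674 F335288) (tt N36488 F333906) (tt N55436 (iv3 F335310)) (tt N29401 F160357) (tt N36451 F333907) (tt N29400 (iv6 D104643)) (tt N45671 F333991))
theorem Q55462 : ∀ i, i < 55462 → P i := stepQ 55461 Q55461 (allL N55461 (tt N87030 (iv1 F378110)) (tt N29401 (iv0 D104644)) (tt N87028 F378093) (tt N58662 F340614) (tt N45909 F340615) (tt N84548 F369666) (tt N45907 F340616) (tt N87029 (iv7 F378101)))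
theorem Q55463 : ∀ i, i < 55463 → P i := stepQ 55462 Q55462 (allL N55462 (tt N29401 (iv1 D104645)) (tt N87030 F378109) (tt N87029 (iv2 F378105)) (tt N91862 D194850) (tt N46857 F348566) (tt N84549 F369919) (tt N91863 D194851) (tt N87028 F378096))
theorem Q55464 : ∀ i, i < 55464 → P i := stepQ 55463 Q55463 (allL N55463 (tt N87029 (iv1 F378100)) (tt N87028 (iv0 F378094)) (tt N87030 (iv2 F378106)) (tt N29415 F160358) (tt N45671 F340309) (tt N55500 F340350) (tt N55549 (iv6 F160636)) (tt N29401 (iv7 D104646)))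
theorem Q55465 : ∀ i, i < 55465 → P i := stepQ 55464 Q55464 (allL N55464 (tt N47612 F331201) (tt N55152 F160359) (tt N29402 (iv2 D104647)) (tt N55558 (iv3 F160660)) (tt N91864 D194852) (tt N84648 (iv5 F370021)) (tt N47637 F362558) (tt N55550 (iv7 F160643)))
theorem Q55466 : ∀ i, i < 55466 → P i := stepQ 55465 Q55465 (allL N55465 (tt N87807 (iv1 F380595)) (tt N91865 D194853) (tt N91864 (iv2 F394753)) (tt N91866 D194854) (tt N29402 (iv4 D104648)) (tt N91867 D194855) (tt N91868 D194856) (tt N55551 (iv7 F160646)))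
theorem Q55467 : ∀ i, i < 55467 → P i := stepQ 55466 Q55466 (allL N55466 (tt N47638 F361132) (tt N44849 F361133) (tt N47637 F362546) (tt N29404 F160361) (tt N91868 (iv4 F394764)) (tt N83811 F341814) (tt N29402 (iv6 D104649)) (tt N47636 F362547))
theorem Q55468 : ∀ i, i < 55468 → P i := stepQ 55467 Q55467 (allL N55467 (tt N91869 D194857) (tt N87801 (iv0 F380565)) (tt N91870 D194858) (tt N29403 (iv3 D104650)) (tt N91866 (iv4 F394760)) (tt N79329 F348745) (tt N91871 D194859) (tt N55553 (iv7 F160649)))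
theorem Q55469 : ∀ i, i < 55469 → P i := stepQ 55468 Q55468 (allL N55468 (tt N44687 F361129) (tt N58626 F361130) (tt N55562 (iv2 F160672)) (tt N91871 (iv3 F394772)) (tt N29404 F160362) (tt N87307 (iv5 F379024)) (tt N29403 (iv6 D104651)) (tt N80256 (iv7 F362524)))
theorem Q55470 : ∀ i, i < 55470 → P i := stepQ 55469 Q55469 (allL N55469 (tt N55564 (iv1 F160680)) (tt N29404 (iv0 D104652)) (tt N55563 (iv2 F362543)) (tt N44853 F361134) (tt N80270 F361135) (tt N91872 D194860) (tt N91873 D194861) (tt N47655 F361136))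
theorem Q55471 : ∀ i, i < 55471 → P i := stepQ 55470 Q55470 (allL N55470 (tt N29404 (iv1 D104653)) (tt N55564 F160679) (tt N47655 F361137) (tt N71042 F361138) (tt N88185 (iv4 F382077)) (tt N88321 (iv5 F382582)) (tt N71039 F361139) (tt N55563 (iv7 F362544)))
theorem Q55472 : ∀ i, i < 55472 → P i := stepQ 55471 Q55471 (allL N55471 (tt N47655 F362518) (tt N55563 F160678) (tt N55564 (iv2 F160675)) (tt N47636 F362519) (tt N80256 (iv4 F362522)) (tt N84692 (iv5 F370253)) (tt N55557 (iv6 F160656)) (tt N29404 (iv7 D104654)))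
theorem Q55473 : ∀ i, i < 55473 → P i := stepQ 55472 Q55472 (allL N55472 (tt N55531 (iv1 F160591)) (tt N55529 F160590) (tt N29405 (iv2 D104657)) (tt N55550 (iv3 F160642)) (tt N80738 (iv4 F361713)) (tt N84650 (iv5 F370035)) (tt N91874 D194862) (tt N55558 (iv7 F160662)))
theorem Q55474 : ∀ i, i < 55474 → P i := stepQ 55473 Q55473 (allL N55473 (tt N67339 (iv1 F347474)) (tt N80739 F374555) (tt N80738 F361714) (tt N91875 D194863) (tt N29405 (iv4 D104658)) (tt N91876 D194864) (tt N74648 F376048) (tt N55559 (iv7 F160668)))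
theorem Q55475 : ∀ i, i < 55475 → P i := stepQ 55474 Q55474 (allL N55474 (tt N91877 D194865) (tt N91878 D194866) (tt N91874 (iv2 F394785)) (tt N29407 F160363) (tt N74648 (iv4 F376047)) (tt N74626 F376046) (tt N29405 (iv6 D104659)) (tt N91879 D194867))
theorem Q55476 : ∀ i, i < 55476 → P i := stepQ 55475 Q55475 (allL N55475 (tt N87724 F380264) (tt N91880 D194868) (tt N91881 D194869) (tt N29406 (iv3 D104660)) (tt N91875 (iv4 F394788)) (tt N84615 (iv5 F369870)) (tt N81027 (iv6 F362849)) (tt N55561 (iv7 F160671)))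
theorem Q55477 : ∀ i, i < 55477 → P i := stepQ 55476 Q55476 (allL N55476 (tt N55557 (iv1 F160659)) (tt N29407 (iv0 D104662)) (tt N55555 F290447) (tt N42133 F321389) (tt N91882 D194870) (tt N91883 D194871) (tt N42132 F321390) (tt N55556 (iv7 F290450)))
theorem Q55478 : ∀ i, i < 55478 → P i := stepQ 55477 Q55477 (allL N55477 (tt N29407 (iv1 D104663)) (tt N55557 F160658) (tt N55556 (iv2 F290452)) (tt N91884 D194872) (tt N91885 D194873) (tt N91886 D194874) (tt N91887 D194875) (tt N55555 F290451))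
theorem Q55479 : ∀ i, i < 55479 → P i := stepQ 55478 Q55478 (allL N55478 (tt N55556 (iv1 F160653)) (tt N55555 F160657) (tt N55557 (iv2 F160654)) (tt N91879 (iv3 F394805)) (tt N81028 F361143) (tt N91279 (iv5 F392516)) (tt N55564 (iv6 F160677)) (tt N29407 (iv7 D104664)))
theorem Q55480 : ∀ i, i < 55480 → P i := stepQ 55479 Q55479 (allL N55479 (tt N91888 D194876) (tt N67402 F363903) (tt N91889 D194877) (tt N29408 (iv3 D104665)) (tt N69470 (iv4 F363901)) (tt N84625 (iv5 F369906)) (tt N91890 D194878) (tt N55488 (iv7 F340355)))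
theorem Q55481 : ∀ i, i < 55481 → P i := stepQ 55480 Q55480 (allL N55480 (tt N80270 F358442) (tt N88185 (iv0 F382079)) (tt N55487 (iv2 F340365)) (tt N91890 (iv3 F394843)) (tt N78507 (iv4 F358091)) (tt N84532 F369636) (tt N29408 (iv6 D104666)) (tt N78504 (iv7 F358422)))
theorem Q55482 : ∀ i, i < 55482 → P i := stepQ 55481 Q55481 (allL N55481 (tt N91504 F393405) (tt N79465 (iv0 F365703)) (tt N91891 D194879) (tt N29409 (iv3 D104667)) (tt N91892 D194880) (tt N84624 (iv5 F369902)) (tt N58605 (iv6 F354535)) (tt N55486 (iv7 F340362)))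
theorem Q55483 : ∀ i, i < 55483 → P i := stepQ 55482 Q55482 (allL N55482 (tt N91882 (iv1 F394816)) (tt N91885 (iv0 F394829)) (tt N55489 (iv2 F340358)) (tt N58605 (iv3 F354534)) (tt N83521 (iv4 F287723)) (tt N58604 F354536) (tt N29409 (iv6 D104668)) (tt N91893 D194881))
theorem Q55484 : ∀ i, i < 55484 → P i := stepQ 55483 Q55483 (allL N55483 (tt N29410 (iv1 D104670)) (tt N55567 F160690) (tt N55565 (iv2 F352058)) (tt N81015 F353296) (tt N65149 F352059) (tt N91894 D194882) (tt N79594 (iv6 F352060)) (tt N55566 (iv7 F352061)))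
theorem Q55485 : ∀ i, i < 55485 → P i := stepQ 55484 Q55484 (allL N55484 (tt N55566 (iv1 F160689)) (tt N55565 F160686) (tt N29410 (iv2 D104671)) (tt N51676 (iv3 F352051)) (tt N76541 (iv4 F352038)) (tt N87436 (iv5 F379326)) (tt N51674 F352050) (tt N55567 (iv7 F160687)))
theorem Q55486 : ∀ i, i < 55486 → P i := stepQ 55485 Q55485 (allL N55485 (tt N91895 D194883) (tt N91896 D194884) (tt N87436 (iv2 F379324)) (tt N29411 F160366) (tt N91897 D194885) (tt N29410 (iv5 D104672)) (tt N52551 F363599) (tt N55568 (iv7 F160692)))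
theorem Q55487 : ∀ i, i < 55487 → P i := stepQ 55486 Q55486 (allL N55486 (tt N91898 D194886) (tt N91837 (iv0 F394627)) (tt N91899 D194887) (tt N29412 (iv3 D104680)) (tt N91900 D194888) (tt N84545 (iv5 F369660)) (tt N79311 (iv6 F358421)) (tt N55481 F340362))
theorem Q55488 : ∀ i, i < 55488 → P i := stepQ 55487 Q55487 (allL N55487 (tt N91887 F394839) (tt N79343 F358094) (tt N55480 F340365) (tt N79311 F358095) (tt N44693 F358096) (tt N88028 (iv5 F381517)) (tt N29412 (iv6 D104683)) (tt N91901 D194889))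
theorem Q55489 : ∀ i, i < 55489 → P i := stepQ 55488 Q55488 (allL N55488 (tt N91298 F392609) (tt N91902 D194890) (tt N91903 D194891) (tt N29413 (iv3 D104685)) (tt N67347 F363902) (tt N84547 (iv5 F369662)) (tt N91904 D194892) (tt N55479 F340355))
theorem Q55490 : ∀ i, i < 55490 → P i := stepQ 55489 Q55489 (allL N55489 (tt N91905 D194893) (tt N91873 F394784) (tt N55482 F340358) (tt N91904 (iv3 F394894)) (tt N80929 F340359) (tt N91906 D194894) (tt N29413 (iv6 D104688)) (tt N91907 D194895))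
theorem Q55491 : ∀ i, i < 55491 → P i := stepQ 55490 Q55490 (allL N55490 (tt N55499 (iv1 F160393)) (tt N29416 (iv0 D104693)) (tt N55498 F161648) (tt N45130 F161646) (tt N91908 D194896) (tt N51919 (iv5 F369586)) (tt N55584 F251759) (tt N55153 (iv7 F161647)))
theorem Q55492 : ∀ i, i < 55492 → P i := stepQ 55491 Q55491 (allL N55491 (tt N55498 (iv1 F160394)) (tt N55153 (iv0 F161633)) (tt N29416 (iv2 D104695)) (tt N55238 F160375) (tt N54730 F160376) (tt N84534 (iv5 F369638)) (tt N42952 F323339) (tt N55499 (iv7 F160392)))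
theorem Q55493 : ∀ i, i < 55493 → P i := stepQ 55492 Q55492 (allL N55492 (tt N29417 (iv1 D104697)) (tt N55238 F160381) (tt N55242 F251671) (tt N84685 (iv3 F370213)) (tt N84451 (iv4 F369335)) (tt N84599 (iv5 F369833)) (tt N55586 F350515) (tt N55243 (iv7 F251670)))
theorem Q55494 : ∀ i, i < 55494 → P i := stepQ 55493 Q55493 (allL N55493 (tt N55243 (iv1 F160382)) (tt N55242 F160380) (tt N29417 (iv2 D104698)) (tt N55499 (iv3 F160390)) (tt N83638 (iv4 F288133)) (tt N84541 (iv5 F369651)) (tt N49210 F293471) (tt N55238 F160379))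
theorem Q55495 : ∀ i, i < 55495 → P i := stepQ 55494 Q55494 (allL N55494 (tt N29418 (iv1 D104702)) (tt N55506 F160413) (tt N55505 F161696) (tt N91909 D194897) (tt N55767 F161623) (tt N79021 (iv5 F251859)) (tt N55062 F251860) (tt N55422 F161659))
theorem Q55496 : ∀ i, i < 55496 → P i := stepQ 55495 Q55495 (allL N55495 (tt N55422 (iv1 F161693)) (tt N55505 F160406) (tt N29418 (iv2 D104703)) (tt N55509 (iv3 F160418)) (tt N54879 (iv4 F293795)) (tt N91910 D194898) (tt N49989 (iv6 F367051)) (tt N55506 (iv7 F160410)))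
theorem Q55497 : ∀ i, i < 55497 → P i := stepQ 55496 Q55496 (allL N55496 (tt N51794 F251424) (tt N51797 F177781) (tt N91910 (iv2 F394924)) (tt N29419 F160388) (tt N91911 D194899) (tt N29418 (iv5 D104704)) (tt N91912 D194900) (tt N55507 (iv7 F160415)))
theorem Q55498 : ∀ i, i < 55498 → P i := stepQ 55497 Q55497 (allL N55497 (tt N88051 F381593) (tt N87232 (iv0 F378828)) (tt N55511 (iv2 F160427)) (tt N91912 (iv3 F394934)) (tt N49915 (iv4 F358139)) (tt N49991 F358962) (tt N29419 (iv6 D104705)) (tt N91913 D194901))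
theorem Q55499 : ∀ i, i < 55499 → P i := stepQ 55498 Q55498 (allL N55498 (tt N29420 (iv1 D104707)) (tt N55491 F160394) (tt N55490 (iv2 F161648)) (tt N91914 D194902) (tt N89178 (iv4 F385463)) (tt N84514 (iv5 F369595)) (tt N55001 F251256) (tt N55441 F161637))
theorem Q55500 : ∀ i, i < 55500 → P i := stepQ 55499 Q55499 (allL N55499 (tt N55441 (iv1 F161650)) (tt N55490 F160393) (tt N29420 (iv2 D104708)) (tt N55493 F160390) (tt N52290 (iv4 F293552)) (tt N84613 (iv5 F369863)) (tt N49994 (iv6 F291954)) (tt N55491 F160392))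
theorem Q55501 : ∀ i, i < 55501 → P i := stepQ 55500 Q55500 (allL N55500 (tt N73504 (iv1 F359854)) (tt N87437 F379330) (tt N87438 (iv2 F379331)) (tt N29422 (iv3 D104710)) (tt N55391 (iv4 F352715)) (tt N55463 (iv5 F340350)) (tt N55395 F363593) (tt N52528 (iv7 F340374)))
theorem Q55502 : ∀ i, i < 55502 → P i := stepQ 55501 Q55501 (allL N55501 (tt N87391 (iv1 F379213)) (tt N87390 F379207) (tt N55570 (iv2 F160694)) (tt N55395 (iv3 F363594)) (tt N29423 F160400) (tt N83600 F363595) (tt N29422 (iv6 D104711)) (tt N29423 F340369))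
theorem Q55503 : ∀ i, i < 55503 → P i := stepQ 55502 Q55502 (allL N55502 (tt N55570 (iv1 F363602)) (tt N29423 (iv0 D104712)) (tt N87390 F379208) (tt N91915 D194903) (tt N87244 (iv4 F378863)) (tt N86417 (iv5 F376156)) (tt N91916 D194904) (tt N87391 (iv7 F379214)))
theorem Q55504 : ∀ i, i < 55504 → P i := stepQ 55503 Q55503 (allL N55503 (tt N29423 (iv1 D104713)) (tt N55570 F363601) (tt N87391 F379215) (tt N91917 D194905) (tt N79647 (iv4 F381667)) (tt N86411 (iv5 F379210)) (tt N79646 F381668) (tt N87390 F379209))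
theorem Q55505 : ∀ i, i < 55505 → P i := stepQ 55504 Q55504 (allL N55504 (tt N91918 D194906) (tt N83155 (iv0 F381204)) (tt N91434 (iv2 F393110)) (tt N29424 (iv3 D104715)) (tt N48841 F160402) (tt N51836 F160403) (tt N50689 (iv6 F294096)) (tt N49175 F160405))
theorem Q55506 : ∀ i, i < 55506 → P i := stepQ 55505 Q55505 (allL N55505 (tt N55495 (iv1 F160406)) (tt N29425 (iv0 D104716)) (tt N55494 (iv2 F161696)) (tt N84675 (iv3 F370164)) (tt N32605 F161630) (tt N51799 (iv5 F161631)) (tt N49328 F292575) (tt N52204 F161690))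
theorem Q55507 : ∀ i, i < 55507 → P i := stepQ 55506 Q55506 (allL N55506 (tt N55494 (iv1 F160413)) (tt N52204 (iv0 F161613)) (tt N29425 (iv2 D104718)) (tt N53892 F160407) (tt N45129 (iv4 F161621)) (tt N87180 (iv5 F378629)) (tt N51000 F160409) (tt N55495 F160410))
theorem Q55508 : ∀ i, i < 55508 → P i := stepQ 55507 Q55507 (allL N55507 (tt N79020 (iv1 F251855)) (tt N79018 (iv0 F251849)) (tt N87180 F378630) (tt N29426 F160414) (tt N91919 D194907) (tt N29425 (iv5 D104719)) (tt N91920 D194908) (tt N55496 F160415))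
theorem Q55509 : ∀ i, i < 55509 → P i := stepQ 55508 Q55508 (allL N55508 (tt N91921 D194909) (tt N91922 D194910) (tt N55298 F160416) (tt N91920 (iv3 F394964)) (tt N84546 (iv4 F369661)) (tt N55144 F160417) (tt N29426 (iv6 D104720)) (tt N91923 D194911))
theorem Q55510 : ∀ i, i < 55510 → P i := stepQ 55509 Q55509 (allL N55509 (tt N52273 (iv1 F160421)) (tt N55292 F160420) (tt N29427 (iv2 D104721)) (tt N55495 F160418) (tt N83502 (iv4 F287653)) (tt N87301 (iv5 F379014)) (tt N49200 F294699) (tt N53892 F160419))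
theorem Q55511 : ∀ i, i < 55511 → P i := stepQ 55510 Q55510 (allL N55510 (tt N52460 F356251) (tt N52431 F356255) (tt N87301 F379015) (tt N29428 F160422) (tt N90728 (iv4 F390663)) (tt N29427 (iv5 D104722)) (tt N91924 D194912) (tt N55293 F160423))
theorem Q55512 : ∀ i, i < 55512 → P i := stepQ 55511 Q55511 (allL N55511 (tt N87210 F378773) (tt N88058 (iv0 F381620)) (tt N55497 F160427) (tt N91924 (iv3 F394973)) (tt N84508 (iv4 F369569)) (tt N49202 F294263) (tt N29428 (iv6 D104724)) (tt N84557 (iv7 F369688)))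
theorem Q55513 : ∀ i, i < 55513 → P i := stepQ 55512 Q55512 (allL N55512 (tt N87799 (iv1 F380553)) (tt N52708 F160466) (tt N51665 F160464) (tt N87804 (iv3 F380578)) (tt N91925 D194913) (tt N29429 (iv5 D104756)) (tt N91926 D194914) (tt N51715 F160465))
theorem Q55514 : ∀ i, i < 55514 → P i := stepQ 55513 Q55513 (allL N55513 (tt N51671 (iv1 F160471)) (tt N51717 (iv0 F160470)) (tt N29431 F160467) (tt N55423 F160468) (tt N91927 D194915) (tt N29430 (iv5 D104757)) (tt N80789 (iv6 F358399)) (tt N51709 F160469))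
theorem Q55515 : ∀ i, i < 55515 → P i := stepQ 55514 Q55514 (allL N55514 (tt N51709 (iv1 F160475)) (tt N29431 (iv0 D104758)) (tt N51671 (iv2 F160474)) (tt N87816 (iv3 F380637)) (tt N81965 (iv4 F378077)) (tt N51857 (iv5 F160477)) (tt N91928 D194916) (tt N51717 F160476))
theorem Q55516 : ∀ i, i < 55516 → P i := stepQ 55515 Q55515 (allL N55515 (tt N91929 D194917) (tt N91930 D194918) (tt N91927 (iv2 F394980)) (tt N91931 D194919) (tt N29431 (iv4 D104759)) (tt N91932 D194920) (tt N80981 (iv6 F358400)) (tt N51718 F160478))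
theorem Q55517 : ∀ i, i < 55517 → P i := stepQ 55516 Q55516 (allL N55516 (tt N91189 (iv1 F392203)) (tt N79463 (iv0 F365997)) (tt N91190 F392208) (tt N29432 (iv3 D104761)) (tt N91931 (iv4 F395006)) (tt N51842 F160480) (tt N91933 D194921) (tt N51734 F160481))
theorem Q55518 : ∀ i, i < 55518 → P i := stepQ 55517 Q55517 (allL N55517 (tt N91850 F394680) (tt N91934 D194922) (tt N55429 F160482) (tt N91933 (iv3 F395009)) (tt N29433 F160483) (tt N91935 D194923) (tt N29432 (iv6 D104762)) (tt N91936 D194924))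
theorem Q55519 : ∀ i, i < 55519 → P i := stepQ 55518 Q55518 (allL N55518 (tt N55432 (iv1 F160487)) (tt N29433 (iv0 D104763)) (tt N55430 (iv2 F358403)) (tt N65058 F358402) (tt N78641 (iv4 F358404)) (tt N81016 (iv5 F362536)) (tt N78641 (iv6 F358405)) (tt N55431 (iv7 F358406)))
theorem Q55520 : ∀ i, i < 55520 → P i := stepQ 55519 Q55519 (allL N55519 (tt N29433 (iv1 D104764)) (tt N55432 F160484) (tt N55431 (iv2 F358409)) (tt N59698 (iv3 F358401)) (tt N91847 (iv4 F394665)) (tt N81017 F362525) (tt N91937 D194925) (tt N55430 F358410))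
theorem Q55521 : ∀ i, i < 55521 → P i := stepQ 55520 Q55520 (allL N55520 (tt N55431 (iv1 F160488)) (tt N55430 F160489) (tt N55432 F160485) (tt N80790 (iv3 F358391)) (tt N91936 (iv4 F395022)) (tt N66685 F358116) (tt N51727 F160486) (tt N29433 (iv7 D104765)))
theorem Q55522 : ∀ i, i < 55522 → P i := stepQ 55521 Q55521 (allL N55521 (tt N53856 (iv1 F289697)) (tt N53855 (iv0 F289689)) (tt N53858 (iv2 F289678)) (tt N29434 (iv3 D104769)) (tt N50535 (iv4 F292387)) (tt N91938 D194926) (tt N53404 F289688) (tt N53254 (iv7 F289649)))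
theorem Q55523 : ∀ i, i < 55523 → P i := stepQ 55522 Q55522 (allL N55522 (tt N52205 F160506) (tt N82374 F348573) (tt N55433 F160504) (tt N52228 F160507) (tt N29434 (iv4 D104770)) (tt N91939 D194927) (tt N55433 F289687) (tt N54908 (iv7 F289645)))
theorem Q55524 : ∀ i, i < 55524 → P i := stepQ 55523 Q55523 (allL N55523 (tt N54959 F343033) (tt N54948 (iv0 F343028)) (tt N55434 F160508) (tt N91938 (iv3 F395028)) (tt N46827 F343034) (tt N29434 (iv5 D104771)) (tt N91940 D194928) (tt N54909 (iv7 F289650)))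
theorem Q55525 : ∀ i, i < 55525 → P i := stepQ 55524 Q55524 (allL N55524 (tt N82362 F362436) (tt N91941 D194929) (tt N78589 F335306) (tt N45671 F343041) (tt N29435 (iv4 D104775)) (tt N43191 F335307) (tt N43194 F335308) (tt N55436 F160513))
theorem Q55526 : ∀ i, i < 55526 → P i := stepQ 55525 Q55525 (allL N55525 (tt N91942 D194930) (tt N91943 D194931) (tt N81553 F352048) (tt N29437 F160514) (tt N43194 F340346) (tt N72323 F348069) (tt N29435 (iv6 D104776)) (tt N55569 F352046))
theorem Q55527 : ∀ i, i < 55527 → P i := stepQ 55526 Q55526 (allL N55526 (tt N29459 (iv1 F160523)) (tt N29437 (iv0 D104781)) (tt N29456 F356900) (tt N91944 D194932) (tt N83526 F363525) (tt N91945 D194933) (tt N91946 D194934) (tt N29457 F356901))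
theorem Q55528 : ∀ i, i < 55528 → P i := stepQ 55527 Q55527 (allL N55527 (tt N29437 (iv1 D104782)) (tt N29459 F160519) (tt N29457 F356898) (tt N91947 D194935) (tt N83525 (iv4 F363515)) (tt N52029 (iv5 F160520)) (tt N75415 (iv6 F358439)) (tt N29456 F356899))
theorem Q55529 : ∀ i, i < 55529 → P i := stepQ 55528 Q55528 (allL N55528 (tt N53254 (iv1 F289648)) (tt N53858 (iv0 F289677)) (tt N53856 (iv2 F289698)) (tt N29438 (iv3 D104785)) (tt N51702 F160529) (tt N80650 (iv5 F387874)) (tt N81661 F364455) (tt N53855 (iv7 F289692)))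
theorem Q55530 : ∀ i, i < 55530 → P i := stepQ 55529 Q55529 (allL N55529 (tt N55472 (iv1 F160590)) (tt N29450 F160589) (tt N54955 F160582) (tt N80650 F387876) (tt N91948 D194936) (tt N29438 (iv5 D104786)) (tt N91949 D194937) (tt N54953 F160583))
theorem Q55531 : ∀ i, i < 55531 → P i := stepQ 55530 Q55530 (allL N55530 (tt N83593 (iv1 F350523)) (tt N29461 F350522) (tt N54877 (iv2 F294015)) (tt N81661 (iv3 F364452)) (tt N49851 (iv4 F350504)) (tt N74046 (iv5 F350525)) (tt N29438 (iv6 D104787)) (tt N54876 F350497))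
theorem Q55532 : ∀ i, i < 55532 → P i := stepQ 55531 Q55531 (allL N55531 (tt N29450 F160588) (tt N55472 F160591) (tt N54953 F160585) (tt N54944 F160586) (tt N67398 (iv4 F362282)) (tt N29439 (iv5 D104788)) (tt N67402 F362284) (tt N54955 F160587))
theorem Q55533 : ∀ i, i < 55533 → P i := stepQ 55532 Q55532 (allL N55532 (tt N54957 (iv1 F160598)) (tt N54956 F160599) (tt N29441 F160595) (tt N55442 F160596) (tt N91950 D194938) (tt N29440 (iv5 D104790)) (tt N91951 D194939) (tt N54952 F160597))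
theorem Q55534 : ∀ i, i < 55534 → P i := stepQ 55533 Q55533 (allL N55533 (tt N54952 (iv1 F160600)) (tt N29441 (iv0 D104791)) (tt N54957 (iv2 F251821)) (tt N91952 D194940) (tt N91953 D194941) (tt N51950 (iv5 F160601)) (tt N91954 D194942) (tt N54956 (iv7 F251823)))
theorem Q55535 : ∀ i, i < 55535 → P i := stepQ 55534 Q55534 (allL N55534 (tt N29441 (iv1 D104792)) (tt N54952 F160602) (tt N54956 F251824) (tt N35636 F355931) (tt N35647 F355932) (tt N84649 (iv5 F370032)) (tt N35634 F355933) (tt N54957 F251822))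
theorem Q55536 : ∀ i, i < 55536 → P i := stepQ 55535 Q55535 (allL N55535 (tt N86984 (iv1 F377942)) (tt N86981 (iv0 F377934)) (tt N91950 (iv2 F395091)) (tt N91955 D194943) (tt N29441 (iv4 D104793)) (tt N91956 D194944) (tt N91957 D194945) (tt N54958 F160603))
theorem Q55537 : ∀ i, i < 55537 → P i := stepQ 55536 Q55536 (allL N55536 (tt N91958 D194946) (tt N91959 D194947) (tt N91951 (iv2 F395097)) (tt N29443 F160604) (tt N91957 (iv4 F395129)) (tt N91523 (iv5 F393470)) (tt N29441 (iv6 D104794)) (tt N91960 D194948))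
theorem Q55538 : ∀ i, i < 55538 → P i := stepQ 55537 Q55537 (allL N55537 (tt N91961 D194949) (tt N91962 D194950) (tt N91963 D194951) (tt N29442 (iv3 D104795)) (tt N91955 (iv4 F395117)) (tt N51934 F160605) (tt N91964 D194952) (tt N54961 F160606))
theorem Q55539 : ∀ i, i < 55539 → P i := stepQ 55538 Q55538 (allL N55538 (tt N91827 F394569) (tt N79501 (iv0 F358398)) (tt N55448 F160607) (tt N91964 (iv3 F395158)) (tt N29443 F160608) (tt N91965 D194953) (tt N29442 (iv6 D104796)) (tt N91966 D194954))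
theorem Q55540 : ∀ i, i < 55540 → P i := stepQ 55539 Q55539 (allL N55539 (tt N55451 (iv1 F160612)) (tt N29443 (iv0 D104797)) (tt N55449 (iv2 F358142)) (tt N91527 F393492) (tt N91850 (iv4 F394677)) (tt N91967 D194955) (tt N91399 (iv6 F392986)) (tt N55450 F358143))
theorem Q55541 : ∀ i, i < 55541 → P i := stepQ 55540 Q55540 (allL N55540 (tt N29443 (iv1 D104798)) (tt N55451 F160609) (tt N55450 F358141) (tt N81621 (iv3 F358125)) (tt N91934 (iv4 F395012)) (tt N81618 F358124) (tt N91968 D194956) (tt N55449 (iv7 F358126)))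
theorem Q55542 : ∀ i, i < 55542 → P i := stepQ 55541 Q55541 (allL N55541 (tt N55450 (iv1 F160613)) (tt N55449 F160614) (tt N55451 F160610) (tt N91960 (iv3 F395138)) (tt N91966 (iv4 F395164)) (tt N66690 (iv5 F340601)) (tt N51990 F160611) (tt N29443 (iv7 D104799)))
theorem Q55543 : ∀ i, i < 55543 → P i := stepQ 55542 Q55542 (allL N55542 (tt N54944 F346830) (tt N54946 (iv0 F361886)) (tt N59878 F346831) (tt N29444 (iv3 D104800)) (tt N40170 F346832) (tt N84375 (iv5 F369067)) (tt N59841 F346833) (tt N55452 F160615))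
theorem Q55544 : ∀ i, i < 55544 → P i := stepQ 55543 Q55543 (allL N55543 (tt N52274 F160618) (tt N52279 F160619) (tt N55456 F160616) (tt N65849 F332159) (tt N29444 (iv4 D104801)) (tt N49627 F333969) (tt N65848 (iv6 F359599)) (tt N55453 F160617))
theorem Q55545 : ∀ i, i < 55545 → P i := stepQ 55544 Q55544 (allL N55544 (tt N91969 D194957) (tt N91970 D194958) (tt N82114 (iv2 F352027)) (tt N29445 (iv3 D104803)) (tt N29453 F160624) (tt N77634 (iv5 F352028)) (tt N65306 F352026) (tt N55459 F160625))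
theorem Q55546 : ∀ i, i < 55546 → P i := stepQ 55545 Q55545 (allL N55545 (tt N49634 (iv1 F292806)) (tt N46253 (iv0 F324807)) (tt N49637 (iv2 F293377)) (tt N77634 F352032) (tt N49615 (iv4 F291551)) (tt N29445 (iv5 D104804)) (tt N66847 F342716) (tt N49614 (iv7 F293375)))
theorem Q55547 : ∀ i, i < 55547 → P i := stepQ 55546 Q55546 (allL N55546 (tt N68540 F342752) (tt N68537 F340290) (tt N75411 (iv2 F340284)) (tt N65306 (iv3 F352024)) (tt N29446 F160631) (tt N65305 (iv5 F334262)) (tt N29445 (iv6 D104805)) (tt N75412 (iv7 F340289)))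
theorem Q55548 : ∀ i, i < 55548 → P i := stepQ 55547 Q55547 (allL N55547 (tt N87820 (iv1 F380663)) (tt N29446 (iv0 D104806)) (tt N87819 F380654) (tt N31013 F352020) (tt N65872 F352021) (tt N88238 (iv5 F382305)) (tt N31012 F352022) (tt N59680 F352023))
theorem Q55549 : ∀ i, i < 55549 → P i := stepQ 55548 Q55548 (allL N55548 (tt N29446 (iv1 D104807)) (tt N87820 F380662) (tt N59680 F366590) (tt N91971 D194959) (tt N68581 F366591) (tt N87896 (iv5 F381009)) (tt N59679 (iv6 F366589)) (tt N87819 (iv7 F380655)))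
theorem Q55550 : ∀ i, i < 55550 → P i := stepQ 55549 Q55549 (allL N55549 (tt N59680 F361257) (tt N87819 F380656) (tt N87820 (iv2 F380657)) (tt N29459 F160635) (tt N75412 (iv4 F340307)) (tt N50003 (iv5 F340303)) (tt N55463 F160636) (tt N29446 (iv7 D104809)))
theorem Q55551 : ∀ i, i < 55551 → P i := stepQ 55550 Q55550 (allL N55550 (tt N55440 (iv1 F160645)) (tt N55439 F160644) (tt N29447 (iv2 D104811)) (tt N55472 F160642) (tt N91972 D194960) (tt N84564 (iv5 F369704)) (tt N91973 D194961) (tt N55464 F160643))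
theorem Q55552 : ∀ i, i < 55552 → P i := stepQ 55551 Q55551 (allL N55551 (tt N87010 (iv1 F378038)) (tt N91974 D194962) (tt N91972 (iv2 F395188)) (tt N91975 D194963) (tt N29447 (iv4 D104812)) (tt N91976 D194964) (tt N91977 D194965) (tt N55465 F160646))
theorem Q55553 : ∀ i, i < 55553 → P i := stepQ 55552 Q55552 (allL N55552 (tt N91978 D194966) (tt N78646 (iv0 F362850)) (tt N91973 (iv2 F395192)) (tt N29449 F160647) (tt N91977 (iv4 F395205)) (tt N55029 F160648) (tt N29447 (iv6 D104813)) (tt N81588 (iv7 F362549)))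
theorem Q55554 : ∀ i, i < 55554 → P i := stepQ 55553 Q55553 (allL N55553 (tt N87068 F378270) (tt N91979 D194967) (tt N81026 (iv2 F348746)) (tt N29448 (iv3 D104814)) (tt N91975 (iv4 F395200)) (tt N45476 F348742) (tt N45457 F348743) (tt N55467 F160649))
theorem Q55555 : ∀ i, i < 55555 → P i := stepQ 55554 Q55554 (allL N55554 (tt N47151 F343695) (tt N47149 F343696) (tt N47147 (iv2 F343701)) (tt N45457 F343698) (tt N29449 F160651) (tt N45456 F343699) (tt N29448 (iv6 D104815)) (tt N47148 F343700))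
theorem Q55556 : ∀ i, i < 55556 → P i := stepQ 55555 Q55555 (allL N55555 (tt N55478 (iv1 F160657)) (tt N29449 (iv0 D104816)) (tt N55476 (iv2 F290447)) (tt N78650 (iv3 F379385)) (tt N91905 (iv4 F394895)) (tt N91318 (iv5 F392708)) (tt N51985 F160652) (tt N55477 (iv7 F290451)))
theorem Q55557 : ∀ i, i < 55557 → P i := stepQ 55556 Q55556 (allL N55556 (tt N29449 (iv1 D104817)) (tt N55478 F160653) (tt N55477 F290452) (tt N75417 F358426) (tt N91873 (iv4 F394782)) (tt N91383 (iv5 F392936)) (tt N80270 (iv6 F358425)) (tt N55476 F290450))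
theorem Q55558 : ∀ i, i < 55558 → P i := stepQ 55557 Q55557 (allL N55557 (tt N55477 (iv1 F160658)) (tt N55476 F160659) (tt N55478 F160654) (tt N81588 (iv3 F362545)) (tt N47148 F361144) (tt N55035 F160655) (tt N55471 F160656) (tt N29449 (iv7 D104818)))
theorem Q55559 : ∀ i, i < 55559 → P i := stepQ 55558 Q55558 (allL N55558 (tt N54955 (iv1 F160667)) (tt N54953 (iv0 F160664)) (tt N29450 (iv2 D104819)) (tt N55464 F160660) (tt N91980 D194968) (tt N52645 F160661) (tt N81589 (iv6 F362559)) (tt N55472 F160662))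
theorem Q55560 : ∀ i, i < 55560 → P i := stepQ 55559 Q55559 (allL N55559 (tt N46863 F347481) (tt N86977 (iv0 F377917)) (tt N91980 (iv2 F395214)) (tt N60449 F356066) (tt N29450 (iv4 D104820)) (tt N60447 (iv5 F356067)) (tt N91981 D194969) (tt N55473 F160668))
theorem Q55561 : ∀ i, i < 55561 → P i := stepQ 55560 Q55560 (allL N55560 (tt N80656 F362563) (tt N65696 (iv0 F362514)) (tt N81589 (iv2 F362557)) (tt N29452 F160669) (tt N91981 (iv4 F395232)) (tt N52647 F160670) (tt N29450 (iv6 D104821)) (tt N91982 D194970))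
theorem Q55562 : ∀ i, i < 55562 → P i := stepQ 55561 Q55561 (allL N55561 (tt N91983 D194971) (tt N91809 F395249) (tt N91984 D194972) (tt N29451 (iv3 D104822)) (tt N60449 (iv4 F355925)) (tt N84536 (iv5 F369648)) (tt N91985 D194973) (tt N55475 F160671))
theorem Q55563 : ∀ i, i < 55563 → P i := stepQ 55562 Q55562 (allL N55562 (tt N78492 F362515) (tt N46323 F362516) (tt N55468 F160672) (tt N91985 (iv3 F395255)) (tt N29452 F160673) (tt N87990 (iv5 F381404)) (tt N29451 (iv6 D104823)) (tt N78491 (iv7 F361131)))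
theorem Q55564 : ∀ i, i < 55564 → P i := stepQ 55563 Q55563 (allL N55563 (tt N55471 (iv1 F160678)) (tt N29452 (iv0 D104824)) (tt N55469 F362543) (tt N80064 (iv3 F362542)) (tt N91887 (iv4 F394837)) (tt N68809 F363590) (tt N91885 F394831) (tt N55470 F362544))
theorem Q55565 : ∀ i, i < 55565 → P i := stepQ 55564 Q55564 (allL N55564 (tt N55470 (iv1 F160679)) (tt N55469 F160680) (tt N55471 F160675) (tt N91982 (iv3 F395235)) (tt N78491 F361140) (tt N52654 F160676) (tt N55478 F160677) (tt N29452 (iv7 D104826)))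
theorem Q55566 : ∀ i, i < 55566 → P i := stepQ 55565 Q55565 (allL N55565 (tt N55484 (iv1 F160686)) (tt N29453 (iv0 D104831)) (tt N55483 F352058) (tt N35321 F352052) (tt N35322 F352053) (tt N91986 D194974) (tt N64103 F352054) (tt N47235 F352055))
theorem Q55567 : ∀ i, i < 55567 → P i := stepQ 55566 Q55566 (allL N55566 (tt N29453 (iv1 D104832)) (tt N55484 F160689) (tt N47235 F352056) (tt N91987 D194975) (tt N47905 F352057) (tt N91988 D194976) (tt N91989 D194977) (tt N55483 F352061))
theorem Q55568 : ∀ i, i < 55568 → P i := stepQ 55567 Q55567 (allL N55567 (tt N55483 (iv1 F160690)) (tt N47235 F329775) (tt N29453 (iv2 D104833)) (tt N87030 (iv3 F378107)) (tt N82114 (iv4 F352040)) (tt N91990 D194978) (tt N82113 F352043) (tt N55484 F160687))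
theorem Q55569 : ∀ i, i < 55569 → P i := stepQ 55568 Q55568 (allL N55568 (tt N80169 F356782) (tt N91991 D194979) (tt N91990 (iv2 F395276)) (tt N29454 F160691) (tt N91992 D194980) (tt N29453 (iv5 D104834)) (tt N91993 D194981) (tt N55485 F160692))
theorem Q55570 : ∀ i, i < 55570 → P i := stepQ 55569 Q55569 (allL N55569 (tt N91994 D194982) (tt N91995 D194983) (tt N82113 (iv2 F352045)) (tt N29455 F160693) (tt N65306 F352025) (tt N78197 F352047) (tt N29453 (iv6 D104835)) (tt N55525 (iv7 F352046)))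
theorem Q55571 : ∀ i, i < 55571 → P i := stepQ 55570 Q55570 (allL N55570 (tt N55503 (iv1 F363601)) (tt N55502 F363602) (tt N55501 F160694) (tt N91993 (iv3 F395288)) (tt N51932 F160695) (tt N91996 D194984) (tt N29454 (iv6 D104836)) (tt N51932 F363600))
theorem Q55572 : ∀ i, i < 55572 → P i := stepQ 55571 Q55571 (allL N55571 (tt N55581 F340336) (tt N55580 F363603) (tt N55583 F340337) (tt N78197 F340338) (tt N32126 F340339) (tt N29455 (iv5 D104839)) (tt N91996 (iv6 F395304)) (tt N52049 F340340))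
theorem Q55573 : ∀ i, i < 55573 → P i := stepQ 55572 Q55572 (allL N55572 (tt N91997 D194985) (tt N81547 (iv0 F380403)) (tt N73682 (iv2 F356968)) (tt N29456 (iv3 D104842)) (tt N91998 D194986) (tt N73649 (iv5 F356887)) (tt N73652 F356967) (tt N91947 (iv7 F395082)))
theorem Q55574 : ∀ i, i < 55574 → P i := stepQ 55573 Q55573 (allL N55573 (tt N52235 (iv1 F363529)) (tt N83524 F363528) (tt N83526 (iv2 F363526)) (tt N91999 D194987) (tt N29456 (iv4 D104843)) (tt N56638 (iv5 F363530)) (tt N59832 F378722) (tt N83525 F363527))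
theorem Q55575 : ∀ i, i < 55575 → P i := stepQ 55574 Q55574 (allL N55574 (tt N60187 F340322) (tt N30081 F340323) (tt N91945 (iv2 F395067)) (tt N73649 F356886) (tt N32797 F340324) (tt N29456 (iv5 D104844)) (tt N73646 (iv6 F356888)) (tt N52029 F340325))
theorem Q55576 : ∀ i, i < 55576 → P i := stepQ 55575 Q55575 (allL N55575 (tt N81624 F378725) (tt N87456 (iv0 F379389)) (tt N91946 (iv2 F395074)) (tt N73652 (iv3 F356966)) (tt N59832 (iv4 F378724)) (tt N73647 F356889) (tt N29456 (iv6 D104845)) (tt N92000 D194988))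
theorem Q55577 : ∀ i, i < 55577 → P i := stepQ 55576 Q55576 (allL N55576 (tt N91949 F395090) (tt N92001 D194989) (tt N92002 D194990) (tt N29457 (iv3 D104847)) (tt N67358 (iv4 F362266)) (tt N92003 D194991) (tt N77785 (iv6 F358434)) (tt N91944 (iv7 F395062)))
theorem Q55578 : ∀ i, i < 55578 → P i := stepQ 55577 Q55577 (allL N55577 (tt N83524 F363516) (tt N52235 (iv0 F356903)) (tt N83525 F363522) (tt N92004 D194992) (tt N29457 (iv4 D104848)) (tt N56636 F356902) (tt N59891 F358432) (tt N83526 (iv7 F363524)))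
theorem Q55579 : ∀ i, i < 55579 → P i := stepQ 55578 Q55578 (allL N55578 (tt N30081 F356895) (tt N60187 F356896) (tt N52029 (iv2 F356897)) (tt N92003 (iv3 F395327)) (tt N86404 (iv4 F376120)) (tt N29457 (iv5 D104849)) (tt N51759 (iv6 F160700)) (tt N91945 (iv7 F395069)))
theorem Q55580 : ∀ i, i < 55580 → P i := stepQ 55579 Q55579 (allL N55579 (tt N51982 (iv1 F335115)) (tt N51985 F335114) (tt N75415 F358437) (tt N77785 F358433) (tt N59891 (iv4 F358431)) (tt N55218 (iv5 F335107)) (tt N29457 (iv6 D104850)) (tt N55217 (iv7 F358435)))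
theorem Q55581 : ∀ i, i < 55581 → P i := stepQ 55580 Q55580 (allL N55580 (tt N55571 (iv1 F363603)) (tt N29458 (iv0 D104851)) (tt N87518 F379633) (tt N92005 D194993) (tt N68140 F363604) (tt N92006 D194994) (tt N92007 D194995) (tt N87519 (iv7 F379636)))
theorem Q55582 : ∀ i, i < 55582 → P i := stepQ 55581 Q55581 (allL N55581 (tt N29458 (iv1 D104852)) (tt N55571 (iv0 F340336)) (tt N87519 F379638) (tt N92008 D194996) (tt N58906 (iv4 F340321)) (tt N92009 D194997) (tt N92010 D194998) (tt N87518 F379634))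
theorem Q55583 : ∀ i, i < 55583 → P i := stepQ 55582 Q55582 (allL N55582 (tt N56626 F340326) (tt N56619 F340327) (tt N32172 F340328) (tt N29981 F340329) (tt N29458 (iv4 D104853)) (tt N30050 F340330) (tt N29462 F160701) (tt N56291 F340331))
theorem Q55584 : ∀ i, i < 55584 → P i := stepQ 55583 Q55583 (allL N55583 (tt N87519 (iv1 F379635)) (tt N87518 F379632) (tt N55571 (iv2 F340337)) (tt N50003 F363597) (tt N56291 (iv4 F340332)) (tt N29459 F160702) (tt N83600 (iv6 F363596)) (tt N29458 (iv7 D104854)))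
theorem Q55585 : ∀ i, i < 55585 → P i := stepQ 55584 Q55584 (allL N55584 (tt N52310 (iv1 F293515)) (tt N29460 (iv0 D104855)) (tt N55001 F251761) (tt N49301 F292584) (tt N92011 D194999) (tt N74169 (iv5 F360341)) (tt N55490 (iv6 F251759)) (tt N55000 (iv7 F251760)))
theorem Q55586 : ∀ i, i < 55586 → P i := stepQ 55585 Q55585 (allL N55585 (tt N55001 (iv1 F160709)) (tt N55000 F160707) (tt N29460 (iv2 D104857)) (tt N83593 F294384) (tt N48652 F294385) (tt N52071 F160705) (tt N55389 (iv6 F366987)) (tt N52310 F294386))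
theorem Q55587 : ∀ i, i < 55587 → P i := stepQ 55586 Q55586 (allL N55586 (tt N29461 (iv1 D104859)) (tt N83593 (iv0 F350511)) (tt N54876 F350517) (tt N49992 (iv3 F357377)) (tt N49852 (iv4 F350510)) (tt N74047 F350512) (tt N55492 (iv6 F350515)) (tt N54877 F350518))
theorem Q55588 : ∀ i, i < 55588 → P i := stepQ 55587 Q55587 (allL N55587 (tt N54877 (iv1 F350514)) (tt N54876 (iv0 F350495)) (tt N29461 (iv2 D104860)) (tt N52310 (iv3 F293517)) (tt N50411 F160711) (tt N52082 F160712) (tt N50398 F160713) (tt N83593 (iv7 F350513)))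
theorem Q55589 : ∀ i, i < 55589 → P i := stepQ 55588 Q55588 (allL N55588 (tt N92012 D195000) (tt N92013 D195001) (tt N56410 F348089) (tt N29462 (iv3 D104861)) (tt N49999 F348090) (tt N32173 F348091) (tt N29981 F348092) (tt N83596 (iv7 F348093)))
theorem Q55590 : ∀ i, i < 55590 → P i := stepQ 55589 Q55589 (allL N55589 (tt N47937 F340631) (tt N49875 (iv0 F345959)) (tt N79656 F356623) (tt N60551 F350800) (tt N29463 (iv4 D104896)) (tt N47914 F324803) (tt N42097 F350801) (tt N50660 (iv7 F292466)))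
theorem Q55591 : ∀ i, i < 55591 → P i := stepQ 55590 Q55590 (allL N55590 (tt N43737 F356627) (tt N63943 F356628) (tt N63941 F356629) (tt N49685 F356769) (tt N42097 F356630) (tt N50586 (iv5 F356633)) (tt N29463 (iv6 D104897)) (tt N63940 F356631))
theorem Q55592 : ∀ i, i < 55592 → P i := stepQ 55591 Q55591 (allL N55591 (tt N48295 (iv1 F160839)) (tt N29464 (iv0 D104965)) (tt N48294 (iv2 F258240)) (tt N92014 D195002) (tt N85728 (iv4 F373682)) (tt N78402 (iv5 F280673)) (tt N79681 F334344) (tt N48293 F258239))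
theorem Q55593 : ∀ i, i < 55593 → P i := stepQ 55592 Q55592 (allL N55592 (tt N29464 (iv1 D104966)) (tt N48295 (iv0 F160841)) (tt N48293 F258238) (tt N32289 F334361) (tt N34752 (iv4 F160840)) (tt N78403 (iv5 F248690)) (tt N88903 (iv6 F384492)) (tt N48294 F258234))
theorem Q55594 : ∀ i, i < 55594 → P i := stepQ 55593 Q55593 (allL N55593 (tt N48294 (iv1 F160845)) (tt N48293 F160844) (tt N29464 (iv2 D104967)) (tt N87827 (iv3 F380699)) (tt N35525 F160842) (tt N52158 F345227) (tt N56982 (iv6 F345241)) (tt N48295 F160843))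
theorem Q55595 : ∀ i, i < 55595 → P i := stepQ 55594 Q55594 (allL N55594 (tt N56983 F324562) (tt N32273 F324563) (tt N56982 F324564) (tt N29466 F160848) (tt N35526 F160849) (tt N32376 F352457) (tt N29464 (iv6 D104969)) (tt N56981 F324565))
theorem Q55596 : ∀ i, i < 55596 → P i := stepQ 55595 Q55595 (allL N55595 (tt N35792 F324450) (tt N29466 (iv0 D104971)) (tt N58894 F324451) (tt N32442 F324452) (tt N51616 F201650) (tt N66054 F324453) (tt N79535 F347425) (tt N80152 (iv7 F347423)))
theorem Q55597 : ∀ i, i < 55597 → P i := stepQ 55596 Q55596 (allL N55596 (tt N92015 D195003) (tt N66000 (iv0 F360453)) (tt N87829 (iv2 F380727)) (tt N32376 F352455) (tt N82781 (iv4 F359710)) (tt N29466 (iv5 D104973)) (tt N53029 F352472) (tt N92016 D195004))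
theorem Q55598 : ∀ i, i < 55598 → P i := stepQ 55597 Q55597 (allL N55597 (tt N80152 F347421) (tt N58894 (iv0 F323045)) (tt N35792 F322533) (tt N56981 F322534) (tt N29468 F160854) (tt N92016 (iv5 F395373)) (tt N35316 F160855) (tt N29466 (iv7 D104974)))
theorem Q55599 : ∀ i, i < 55599 → P i := stepQ 55598 Q55598 (allL N55598 (tt N41522 F324555) (tt N41521 F324556) (tt N31306 F324557) (tt N60445 F324558) (tt N29467 (iv4 D104978)) (tt N65983 F324559) (tt N48250 F160865) (tt N41523 F324560))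
theorem Q55600 : ∀ i, i < 55600 → P i := stepQ 55599 Q55599 (allL N55599 (tt N29469 (iv1 D105041)) (tt N48637 F160957) (tt N48635 F361049) (tt N89180 (iv3 F385473)) (tt N83703 (iv4 F288642)) (tt N82800 F339538) (tt N49067 F335763) (tt N48636 F361050))
theorem Q55601 : ∀ i, i < 55601 → P i := stepQ 55600 Q55600 (allL N55600 (tt N48636 (iv1 F160958)) (tt N48635 F160956) (tt N29469 (iv2 D105042)) (tt N48643 F160953) (tt N49316 F160954) (tt N58229 (iv5 F344363)) (tt N85666 (iv6 F373439)) (tt N48637 F160955))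
theorem Q55602 : ∀ i, i < 55602 → P i := stepQ 55601 Q55601 (allL N55601 (tt N92017 D195005) (tt N92018 D195006) (tt N92019 D195007) (tt N29470 (iv3 D105052)) (tt N84021 (iv4 F367832)) (tt N44620 F160971) (tt N92020 D195008) (tt N48647 F160972))
theorem Q55603 : ∀ i, i < 55603 → P i := stepQ 55602 Q55602 (allL N55602 (tt N92021 D195009) (tt N92022 D195010) (tt N44636 F160973) (tt N92020 (iv3 F395397)) (tt N29471 F160974) (tt N81675 (iv5 F276430)) (tt N29470 (iv6 D105053)) (tt N92023 D195011))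
theorem Q55604 : ∀ i, i < 55604 → P i := stepQ 55603 Q55603 (allL N55603 (tt N69861 (iv1 F361742)) (tt N29471 (iv0 D105054)) (tt N69863 (iv2 F361740)) (tt N92024 D195012) (tt N92025 D195013) (tt N92026 D195014) (tt N92027 D195015) (tt N69858 F361741))
theorem Q55605 : ∀ i, i < 55605 → P i := stepQ 55604 Q55604 (allL N55604 (tt N92028 D195016) (tt N84332 (iv0 F368934)) (tt N83499 F294290) (tt N55418 F367110) (tt N82725 F365252) (tt N29471 (iv5 D105056)) (tt N29472 F160975) (tt N92029 D195017))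
theorem Q55606 : ∀ i, i < 55606 → P i := stepQ 55605 Q55605 (allL N55605 (tt N69858 (iv1 F336403)) (tt N69863 F336404) (tt N69861 F361736) (tt N84095 (iv3 F368082)) (tt N92023 (iv4 F395417)) (tt N92029 (iv5 F395432)) (tt N48651 F160976) (tt N29471 (iv7 D105057)))
theorem Q55607 : ∀ i, i < 55607 → P i := stepQ 55606 Q55606 (allL N55606 (tt N48603 F294285) (tt N48615 F294286) (tt N83346 F294287) (tt N92030 D195018) (tt N29472 (iv4 D105066)) (tt N54643 F294288) (tt N82725 (iv6 F365251)) (tt N51224 F294289))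
theorem Q55608 : ∀ i, i < 55608 → P i := stepQ 55607 Q55607 (allL N55607 (tt N83747 (iv1 F289006)) (tt N50008 (iv0 F292213)) (tt N83726 (iv2 F288902)) (tt N29474 F161066) (tt N92031 D195019) (tt N29473 (iv5 D105147)) (tt N76639 (iv6 F345009)) (tt N51443 (iv7 F291013)))
theorem Q55609 : ∀ i, i < 55609 → P i := stepQ 55608 Q55608 (allL N55608 (tt N92032 D195020) (tt N92033 D195021) (tt N51425 (iv2 F362429)) (tt N76639 F362428) (tt N86446 (iv4 F376244)) (tt N61140 (iv5 F362430)) (tt N29474 (iv6 D105150)) (tt N92034 D195022))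
theorem Q55610 : ∀ i, i < 55610 → P i := stepQ 55609 Q55609 (allL N55609 (tt N30257 (iv1 F161075)) (tt N29475 (iv0 D105169)) (tt N30911 F165519) (tt N59338 F172659) (tt N65520 (iv4 F201938)) (tt N57066 F165326) (tt N29499 F161074) (tt N30912 F165467))
theorem Q55611 : ∀ i, i < 55611 → P i := stepQ 55610 Q55610 (allL N55610 (tt N32264 (iv1 F161087)) (tt N29476 (iv0 D105171)) (tt N32263 F168357) (tt N31158 (iv3 F168358)) (tt N65523 (iv4 F201947)) (tt N30099 F161077) (tt N92035 D195023) (tt N31177 F168355))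
theorem Q55612 : ∀ i, i < 55612 → P i := stepQ 55611 Q55611 (allL N55611 (tt N31177 (iv1 F168186)) (tt N32263 (iv0 F161089)) (tt N32264 F161082) (tt N30799 F161083) (tt N35712 F161084) (tt N38433 F161085) (tt N30257 F161086) (tt N29476 (iv7 D105173)))
theorem Q55613 : ∀ i, i < 55613 → P i := stepQ 55612 Q55612 (allL N55612 (tt N65656 (iv1 F202192)) (tt N29477 (iv0 D105174)) (tt N65655 (iv2 F395474)) (tt N92036 D195025) (tt N92037 D195026) (tt N92038 D195027) (tt N92039 D195028) (tt N65654 F395471))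
theorem Q55614 : ∀ i, i < 55614 → P i := stepQ 55613 Q55613 (allL N55613 (tt N29477 (iv1 D105175)) (tt N65656 F202194) (tt N65654 (iv2 F395473)) (tt N87785 (iv3 F416703)) (tt N92040 D195030) (tt N92041 D195031) (tt N87783 (iv6 F416708)) (tt N65655 (iv7 F395475)))
theorem Q55615 : ∀ i, i < 55615 → P i := stepQ 55614 Q55614 (allL N55614 (tt N65655 (iv1 F202193)) (tt N65654 F202188) (tt N29477 (iv2 D105176)) (tt N32267 F161090) (tt N44152 F161091) (tt N65644 (iv5 F366354)) (tt N29508 F161092) (tt N65656 (iv7 F202191)))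
theorem Q55616 : ∀ i, i < 55616 → P i := stepQ 55615 Q55615 (allL N55615 (tt N65645 (iv1 F399419)) (tt N65511 (iv0 F395484)) (tt N65644 F366356) (tt N29478 F161093) (tt N65600 (iv4 F356047)) (tt N29477 (iv5 D105177)) (tt N92042 D195034) (tt N65598 (iv7 F202076)))
theorem Q55617 : ∀ i, i < 55617 → P i := stepQ 55616 Q55616 (allL N55616 (tt N92043 D195035) (tt N92044 D195036) (tt N32271 F161094) (tt N92042 (iv3 F395496)) (tt N65599 (iv4 F202078)) (tt N29511 F161095) (tt N29478 (iv6 D105178)) (tt N92045 D195037))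
theorem Q55618 : ∀ i, i < 55618 → P i := stepQ 55617 Q55617 (allL N55617 (tt N58895 F171358) (tt N42101 F176499) (tt N80070 (iv2 F338352)) (tt N29480 (iv3 D105179)) (tt N29483 F161096) (tt N77349 (iv5 F361982)) (tt N64068 (iv6 F334351)) (tt N32293 F161097))
theorem Q55619 : ∀ i, i < 55619 → P i := stepQ 55618 Q55618 (allL N55618 (tt N31987 F161100) (tt N30566 F161101) (tt N57494 F166923) (tt N77349 F361968) (tt N39587 F161098) (tt N29480 (iv5 D105180)) (tt N77348 (iv6 F361966)) (tt N32294 F161099))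
theorem Q55620 : ∀ i, i < 55620 → P i := stepQ 55619 Q55619 (allL N55619 (tt N32019 F173093) (tt N32022 (iv0 F168005)) (tt N58858 (iv2 F171169)) (tt N64068 F334349) (tt N29481 F161102) (tt N69281 (iv5 F351659)) (tt N29480 (iv6 D105181)) (tt N69280 (iv7 F338313)))
theorem Q55621 : ∀ i, i < 55621 → P i := stepQ 55620 Q55620 (allL N55620 (tt N29481 (iv1 D105183)) (tt N59319 F172588) (tt N59318 (iv2 F172581)) (tt N30820 F165663) (tt N46126 F327265) (tt N56406 (iv5 F165661)) (tt N92046 D195038) (tt N59317 F172574))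
theorem Q55622 : ∀ i, i < 55622 → P i := stepQ 55621 Q55621 (allL N55621 (tt N59318 (iv1 F172578)) (tt N59317 (iv0 F172577)) (tt N59319 (iv2 F172584)) (tt N29487 F161104) (tt N69280 (iv4 F351651)) (tt N38937 F161105) (tt N32296 F161106) (tt N29481 (iv7 D105184)))
theorem Q55623 : ∀ i, i < 55623 → P i := stepQ 55622 Q55622 (allL N55622 (tt N32299 (iv1 F161108)) (tt N29483 (iv0 D105185)) (tt N32298 F353642) (tt N72906 (iv3 F223564)) (tt N76113 F353643) (tt N60559 F231075) (tt N76121 F353644) (tt N32297 F353645))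
theorem Q55624 : ∀ i, i < 55624 → P i := stepQ 55623 Q55623 (allL N55623 (tt N29483 (iv1 D105186)) (tt N32299 F161112) (tt N32297 F358944) (tt N92047 D195039) (tt N92048 D195040) (tt N60560 (iv5 F176589)) (tt N92049 D195041) (tt N32298 F358945))
theorem Q55625 : ∀ i, i < 55625 → P i := stepQ 55624 Q55624 (allL N55624 (tt N32298 (iv1 F161113)) (tt N32297 F161111) (tt N29483 (iv2 D105187)) (tt N32280 F161109) (tt N80070 F338353) (tt N66002 (iv5 F203038)) (tt N80069 (iv6 F351738)) (tt N32299 F161110))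
theorem Q55626 : ∀ i, i < 55626 → P i := stepQ 55625 Q55625 (allL N55625 (tt N92050 D195042) (tt N82394 (iv0 F334352)) (tt N80069 (iv2 F338351)) (tt N29484 F161114) (tt N64068 (iv4 F334350)) (tt N68985 F334353) (tt N29483 (iv6 D105188)) (tt N69294 (iv7 F338314)))
theorem Q55627 : ∀ i, i < 55627 → P i := stepQ 55626 Q55626 (allL N55626 (tt N32284 (iv1 F161121)) (tt N32029 (iv0 F164336)) (tt N32286 F161117) (tt N69294 (iv3 F338345)) (tt N29487 F161118) (tt N36759 F328123) (tt N32305 F161119) (tt N29484 (iv7 D105192)))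
theorem Q55628 : ∀ i, i < 55628 → P i := stepQ 55627 Q55627 (allL N55627 (tt N32236 (iv1 F167954)) (tt N30775 F167948) (tt N31058 (iv2 F165596)) (tt N29485 (iv3 D105194)) (tt N31284 (iv4 F164134)) (tt N38941 F167949) (tt N59317 (iv6 F172570)) (tt N32234 (iv7 F165607)))
theorem Q55629 : ∀ i, i < 55629 → P i := stepQ 55628 Q55628 (allL N55628 (tt N32408 F165601) (tt N29521 F165602) (tt N32287 (iv2 F165639)) (tt N48294 F334354) (tt N29485 (iv4 D105195)) (tt N30026 F332801) (tt N65504 (iv6 F201898)) (tt N32289 (iv7 F165651)))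
theorem Q55630 : ∀ i, i < 55630 → P i := stepQ 55629 Q55629 (allL N55629 (tt N29521 F165584) (tt N32408 F165585) (tt N32289 (iv2 F165650)) (tt N92051 D195043) (tt N29486 (iv4 D105198)) (tt N37742 F332803) (tt N92052 D195044) (tt N32287 (iv7 F165640)))
theorem Q55631 : ∀ i, i < 55631 → P i := stepQ 55630 Q55630 (allL N55630 (tt N55681 F161229) (tt N55683 F161356) (tt N32291 F165665) (tt N31061 F165594) (tt N92052 (iv4 F395557)) (tt N59742 (iv5 F173737)) (tt N29486 (iv6 D105199)) (tt N59742 (iv7 F173738)))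
theorem Q55632 : ∀ i, i < 55632 → P i := stepQ 55631 Q55631 (allL N55631 (tt N32280 (iv1 F161125)) (tt N29488 (iv0 D105200)) (tt N32279 F349671) (tt N92053 D195045) (tt N92054 D195046) (tt N52366 (iv5 F345925)) (tt N52360 F345927) (tt N32278 F349672))
theorem Q55633 : ∀ i, i < 55633 → P i := stepQ 55632 Q55632 (allL N55632 (tt N29488 (iv1 D105201)) (tt N32280 F161129) (tt N32278 F349674) (tt N67290 (iv3 F360825)) (tt N92055 D195047) (tt N60523 (iv5 F219127)) (tt N92056 D195048) (tt N32279 F349675))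
theorem Q55634 : ∀ i, i < 55634 → P i := stepQ 55633 Q55633 (allL N55633 (tt N32279 (iv1 F161130)) (tt N32278 F161128) (tt N29488 (iv2 D105202)) (tt N32299 F161126) (tt N59332 (iv4 F172628)) (tt N66006 (iv5 F203057)) (tt N92057 D195049) (tt N32280 F161127))
theorem Q55635 : ∀ i, i < 55635 → P i := stepQ 55634 Q55634 (allL N55634 (tt N92058 D195050) (tt N92059 D195051) (tt N92057 (iv2 F395575)) (tt N29489 F161131) (tt N59334 (iv4 F172636)) (tt N92060 D195052) (tt N29488 (iv6 D105203)) (tt N92061 D195053))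
theorem Q55636 : ∀ i, i < 55636 → P i := stepQ 55635 Q55635 (allL N55635 (tt N92062 D195054) (tt N92063 D195055) (tt N32304 F161132) (tt N92060 (iv3 F395580)) (tt N92064 D195056) (tt N29489 (iv5 D105204)) (tt N66008 (iv6 F203065)) (tt N92065 D195057))
theorem Q55637 : ∀ i, i < 55637 → P i := stepQ 55636 Q55636 (allL N55636 (tt N32027 (iv1 F161136)) (tt N32303 F161137) (tt N32305 F161133) (tt N92061 (iv3 F395581)) (tt N29492 F161134) (tt N92065 (iv5 F395599)) (tt N32286 F161135) (tt N29489 (iv7 D105205)))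
theorem Q55638 : ∀ i, i < 55638 → P i := stepQ 55637 Q55637 (allL N55637 (tt N31326 F161142) (tt N31330 F161143) (tt N57489 (iv2 F166884)) (tt N65954 (iv3 F202961)) (tt N44146 F161140) (tt N29493 (iv5 D105206)) (tt N92066 D195058) (tt N32329 F161141))
theorem Q55639 : ∀ i, i < 55639 → P i := stepQ 55638 Q55638 (allL N55638 (tt N35759 (iv1 F202619)) (tt N35763 (iv0 F167069)) (tt N57490 (iv2 F166904)) (tt N45758 (iv3 F328213)) (tt N29494 F161144) (tt N92067 D195059) (tt N29493 (iv6 D105207)) (tt N80235 (iv7 F338335)))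
theorem Q55640 : ∀ i, i < 55640 → P i := stepQ 55639 Q55639 (allL N55639 (tt N59339 (iv1 F172663)) (tt N59338 (iv0 F172660)) (tt N59340 (iv2 F172668)) (tt N29497 F161146) (tt N80235 F338333) (tt N30246 (iv5 F162151)) (tt N32331 F161148) (tt N29494 (iv7 D105210)))
theorem Q55641 : ∀ i, i < 55641 → P i := stepQ 55640 Q55640 (allL N55640 (tt N32354 F161150) (tt N29502 F161170) (tt N32320 (iv2 F168353)) (tt N79762 F345736) (tt N29495 (iv4 D105213)) (tt N36755 F332761) (tt N36757 F332762) (tt N32322 (iv7 F168348)))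
theorem Q55642 : ∀ i, i < 55642 → P i := stepQ 55641 Q55641 (allL N55641 (tt N57065 F165325) (tt N60329 F176222) (tt N32321 F168350) (tt N79766 F347066) (tt N92068 D195060) (tt N29495 (iv5 D105214)) (tt N70715 (iv6 F218173)) (tt N32323 (iv7 F168349)))
theorem Q55643 : ∀ i, i < 55643 → P i := stepQ 55642 Q55642 (allL N55642 (tt N29502 F161152) (tt N32354 F161153) (tt N32322 (iv2 F168351)) (tt N92069 D195061) (tt N29496 (iv4 D105217)) (tt N92070 D195062) (tt N92071 D195063) (tt N32320 F168359))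
theorem Q55644 : ∀ i, i < 55644 → P i := stepQ 55643 Q55643 (allL N55643 (tt N60292 F176149) (tt N32393 (iv0 F168369)) (tt N32324 F168367) (tt N31143 F168364) (tt N92071 (iv4 F395621)) (tt N39425 (iv5 F168366)) (tt N29496 (iv6 D105219)) (tt N92035 (iv7 F395463)))
theorem Q55645 : ∀ i, i < 55645 → P i := stepQ 55644 Q55644 (allL N55644 (tt N32363 F165569) (tt N29505 F165570) (tt N32342 (iv2 F165507)) (tt N81605 F346870) (tt N29498 (iv4 D105222)) (tt N65607 (iv5 F202083)) (tt N92072 D195064) (tt N32345 (iv7 F165506)))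
theorem Q55646 : ∀ i, i < 55646 → P i := stepQ 55645 Q55645 (allL N55645 (tt N32396 F163605) (tt N78145 (iv0 F246276)) (tt N32344 (iv2 F165508)) (tt N40173 F165568) (tt N92072 (iv4 F395624)) (tt N30218 F161157) (tt N29498 (iv6 D105223)) (tt N59875 (iv7 F174360)))
theorem Q55647 : ∀ i, i < 55647 → P i := stepQ 55646 Q55646 (allL N55646 (tt N30934 F168427) (tt N30941 (iv0 F168426)) (tt N30939 F168165) (tt N29499 (iv3 D105225)) (tt N64058 (iv4 F322461)) (tt N38936 F168425) (tt N59338 (iv6 F172657)) (tt N30938 (iv7 F168164)))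
theorem Q55648 : ∀ i, i < 55648 → P i := stepQ 55647 Q55647 (allL N55647 (tt N29505 F165571) (tt N32363 F165572) (tt N32345 (iv2 F165518)) (tt N80215 (iv3 F358044)) (tt N29499 (iv4 D105226)) (tt N65608 (iv5 F202087)) (tt N65520 (iv6 F201942)) (tt N32342 F165517))
theorem Q55649 : ∀ i, i < 55649 → P i := stepQ 55648 Q55648 (allL N55648 (tt N32357 (iv1 F161159)) (tt N29501 (iv0 D105227)) (tt N32356 (iv2 F174312)) (tt N75409 (iv3 F231447)) (tt N66671 F204916) (tt N66615 (iv5 F204917)) (tt N92073 D195065) (tt N32355 F174313))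
theorem Q55650 : ∀ i, i < 55650 → P i := stepQ 55649 Q55649 (allL N55649 (tt N29501 (iv1 D105228)) (tt N32357 F161163) (tt N32355 F174311) (tt N35905 (iv3 F170482)) (tt N58640 (iv4 F169881)) (tt N66616 (iv5 F204921)) (tt N65515 F358188) (tt N32356 (iv7 F174310)))
theorem Q55651 : ∀ i, i < 55651 → P i := stepQ 55650 Q55650 (allL N55650 (tt N32356 (iv1 F161164)) (tt N32355 F161162) (tt N29501 (iv2 D105229)) (tt N32349 F161160) (tt N77787 (iv4 F244966)) (tt N66626 (iv5 F204748)) (tt N65690 (iv6 F331157)) (tt N32357 F161161))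
theorem Q55652 : ∀ i, i < 55652 → P i := stepQ 55651 Q55651 (allL N55651 (tt N92074 D195066) (tt N82532 (iv0 F332905)) (tt N65690 F332902) (tt N29502 F161165) (tt N77788 (iv4 F244973)) (tt N58139 F332903) (tt N29501 (iv6 D105230)) (tt N65688 (iv7 F332901)))
theorem Q55653 : ∀ i, i < 55653 → P i := stepQ 55652 Q55652 (allL N55652 (tt N65530 (iv1 F361375)) (tt N81744 F361394) (tt N32353 F161166) (tt N58139 (iv3 F332904)) (tt N60534 F332907) (tt N29502 (iv5 D105232)) (tt N66629 (iv6 F204769)) (tt N65687 F332908))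
theorem Q55654 : ∀ i, i < 55654 → P i := stepQ 55653 Q55653 (allL N55653 (tt N32322 (iv1 F168361)) (tt N32320 (iv0 F161172)) (tt N32354 F161167) (tt N65688 F332897) (tt N29852 F161168) (tt N65687 (iv5 F332899)) (tt N32363 F161169) (tt N29502 (iv7 D105233)))
theorem Q55655 : ∀ i, i < 55655 → P i := stepQ 55654 Q55654 (allL N55654 (tt N32349 (iv1 F161174)) (tt N29503 (iv0 D105234)) (tt N32348 F204617) (tt N59502 (iv3 F173040)) (tt N58687 F170308) (tt N66591 F204616) (tt N59604 F343545) (tt N32347 F204618))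
theorem Q55656 : ∀ i, i < 55656 → P i := stepQ 55655 Q55655 (allL N55655 (tt N29503 (iv1 D105235)) (tt N32349 F161179) (tt N32347 F204628) (tt N67244 (iv3 F343536)) (tt N58148 (iv4 F168937)) (tt N66592 F204629) (tt N67242 F343534) (tt N32348 F204630))
theorem Q55657 : ∀ i, i < 55657 → P i := stepQ 55656 Q55656 (allL N55656 (tt N32348 (iv1 F161180)) (tt N32347 F161178) (tt N29503 (iv2 D105236)) (tt N32357 F161175) (tt N30972 F161176) (tt N92075 D195067) (tt N92076 D195068) (tt N32349 F161177))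
theorem Q55658 : ∀ i, i < 55658 → P i := stepQ 55657 Q55657 (allL N55657 (tt N60703 F176744) (tt N60707 F203750) (tt N92075 (iv2 F395637)) (tt N29504 F161181) (tt N92077 D195069) (tt N29503 (iv5 D105237)) (tt N92078 D195070) (tt N32350 F161182))
theorem Q55659 : ∀ i, i < 55659 → P i := stepQ 55658 Q55658 (allL N55658 (tt N92079 D195071) (tt N92080 D195072) (tt N92076 (iv2 F395644)) (tt N29505 F161183) (tt N30974 F161184) (tt N92081 D195073) (tt N29503 (iv6 D105238)) (tt N81745 F365124))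
theorem Q55660 : ∀ i, i < 55660 → P i := stepQ 55659 Q55659 (allL N55659 (tt N30006 F325762) (tt N37694 F325763) (tt N32361 F161185) (tt N92078 (iv3 F395656)) (tt N29531 F161186) (tt N68736 F325764) (tt N29504 (iv6 D105239)) (tt N37693 F325765))
theorem Q55661 : ∀ i, i < 55661 → P i := stepQ 55660 Q55660 (allL N55660 (tt N68743 (iv1 F332839)) (tt N56528 F332829) (tt N32362 F161188) (tt N92081 (iv3 F395662)) (tt N56429 F362871) (tt N29505 (iv5 D105242)) (tt N68736 F333546) (tt N68742 (iv7 F332810)))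
theorem Q55662 : ∀ i, i < 55662 → P i := stepQ 55661 Q55661 (allL N55661 (tt N32345 (iv1 F165561)) (tt N32342 (iv0 F165616)) (tt N32363 F161189) (tt N81745 (iv3 F365122)) (tt N29855 F161190) (tt N68742 F332838) (tt N32354 F161191) (tt N29505 (iv7 D105243)))
theorem Q55663 : ∀ i, i < 55663 → P i := stepQ 55662 Q55662 (allL N55662 (tt N29507 (iv1 F161200)) (tt N29506 (iv0 D105244)) (tt N29510 (iv2 F161196)) (tt N32364 F161197) (tt N59767 (iv4 F173970)) (tt N32555 F161198) (tt N92082 D195074) (tt N29508 F161199))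
theorem Q55664 : ∀ i, i < 55664 → P i := stepQ 55663 Q55663 (allL N55663 (tt N29510 F342909) (tt N29508 F342910) (tt N29506 (iv2 D105245)) (tt N92083 D195075) (tt N92084 D195076) (tt N57031 F342870) (tt N92085 D195077) (tt N29507 (iv7 F161201)))
theorem Q55665 : ∀ i, i < 55665 → P i := stepQ 55664 Q55664 (allL N55664 (tt N67244 F362951) (tt N92086 D195078) (tt N65528 F342905) (tt N29506 (iv3 D105246)) (tt N65526 (iv4 F342903)) (tt N67303 F342904) (tt N92087 D195079) (tt N65533 (iv7 F342900)))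
theorem Q55666 : ∀ i, i < 55666 → P i := stepQ 55665 Q55665 (allL N55665 (tt N92088 D195080) (tt N92089 D195081) (tt N92084 (iv2 F395676)) (tt N92090 D195082) (tt N29506 (iv4 D105247)) (tt N57015 F342871) (tt N92091 D195083) (tt N92092 D195084))
theorem Q55667 : ∀ i, i < 55667 → P i := stepQ 55666 Q55666 (allL N55666 (tt N92093 D195085) (tt N92069 (iv0 F395689)) (tt N92085 (iv2 F395679)) (tt N92087 (iv3 F395686)) (tt N92091 (iv4 F395704)) (tt N92094 D195086) (tt N29506 (iv6 D105249)) (tt N92095 D195087))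
theorem Q55668 : ∀ i, i < 55668 → P i := stepQ 55667 Q55667 (allL N55667 (tt N29508 F342896) (tt N29510 F342897) (tt N29507 F161202) (tt N65533 F342898) (tt N92092 (iv4 F395707)) (tt N37674 F342866) (tt N92096 D195088) (tt N29506 (iv7 D105250)))
theorem Q55669 : ∀ i, i < 55669 → P i := stepQ 55668 Q55668 (allL N55668 (tt N92097 D195089) (tt N75409 F353613) (tt N80219 F353614) (tt N29507 (iv3 D105251)) (tt N78752 F353615) (tt N57030 F342868) (tt N45869 F353616) (tt N92083 (iv7 F395674)))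
theorem Q55670 : ∀ i, i < 55670 → P i := stepQ 55669 Q55669 (allL N55669 (tt N92089 (iv1 F395694)) (tt N92088 F395693) (tt N92092 (iv2 F395705)) (tt N59903 (iv3 F174565)) (tt N29507 (iv4 D105252)) (tt N92098 D195090) (tt N78754 (iv6 F362851)) (tt N92084 (iv7 F395677)))
theorem Q55671 : ∀ i, i < 55671 → P i := stepQ 55670 Q55670 (allL N55670 (tt N81605 F343684) (tt N81607 (iv0 F361884)) (tt N92096 (iv2 F395715)) (tt N45869 F343685) (tt N78754 F343686) (tt N68711 F342869) (tt N29507 (iv6 D105254)) (tt N80220 F343687))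
theorem Q55672 : ∀ i, i < 55672 → P i := stepQ 55671 Q55671 (allL N55671 (tt N32554 (iv1 F161208)) (tt N32553 F161209) (tt N29509 F161205) (tt N32375 F161206) (tt N36177 F329142) (tt N29508 (iv5 D105257)) (tt N92099 D195091) (tt N32555 F161207))
theorem Q55673 : ∀ i, i < 55673 → P i := stepQ 55672 Q55672 (allL N55672 (tt N32555 (iv1 F161210)) (tt N29509 (iv0 D105258)) (tt N32554 F329452) (tt N92100 D195092) (tt N57021 F329140) (tt N66582 (iv5 F336184)) (tt N36817 F329141) (tt N32553 F329453))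
theorem Q55674 : ∀ i, i < 55674 → P i := stepQ 55673 Q55673 (allL N55673 (tt N29509 (iv1 D105259)) (tt N32555 F161211) (tt N32553 F342854) (tt N92101 D195093) (tt N56678 F342853) (tt N66583 (iv5 F342864)) (tt N56515 (iv6 F342856)) (tt N32554 F342855))
theorem Q55675 : ∀ i, i < 55675 → P i := stepQ 55674 Q55674 (allL N55674 (tt N65712 F342877) (tt N92102 D195094) (tt N92099 (iv2 F395726)) (tt N29511 F161214) (tt N59126 F342881) (tt N92042 (iv5 F395497)) (tt N29509 (iv6 D105261)) (tt N68847 (iv7 F342882)))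
theorem Q55676 : ∀ i, i < 55676 → P i := stepQ 55675 Q55675 (allL N55675 (tt N36828 F362943) (tt N92103 D195095) (tt N92082 (iv2 F395667)) (tt N29512 F161215) (tt N59769 (iv4 F173977)) (tt N92104 D195096) (tt N29510 (iv6 D105262)) (tt N65657 (iv7 F202197)))
theorem Q55677 : ∀ i, i < 55677 → P i := stepQ 55676 Q55676 (allL N55676 (tt N32387 (iv1 F161220)) (tt N29511 (iv0 D105263)) (tt N32385 F395766) (tt N92105 D195098) (tt N56176 F395522) (tt N92106 D195099) (tt N68739 (iv6 F395780)) (tt N32386 F395767))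
theorem Q55678 : ∀ i, i < 55678 → P i := stepQ 55677 Q55677 (allL N55677 (tt N29511 (iv1 D105264)) (tt N32387 F161216) (tt N32386 (iv2 F395764)) (tt N92107 D195102) (tt N56177 F374585) (tt N92108 D195103) (tt N92109 D195104) (tt N32385 (iv7 F395765)))
theorem Q55679 : ∀ i, i < 55679 → P i := stepQ 55678 Q55678 (allL N55678 (tt N32386 (iv1 F161221)) (tt N32385 F161222) (tt N32387 F161217) (tt N68847 F342883) (tt N32569 F161218) (tt N92045 (iv5 F395506)) (tt N32560 F161219) (tt N29511 (iv7 D105265)))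
theorem Q55680 : ∀ i, i < 55680 → P i := stepQ 55679 Q55679 (allL N55679 (tt N92110 D195105) (tt N92111 D195106) (tt N32390 F161225) (tt N92104 (iv3 F395749)) (tt N92112 D195107) (tt N29512 (iv5 D105268)) (tt N32559 F161226) (tt N65658 (iv7 F202199)))
theorem Q55681 : ∀ i, i < 55681 → P i := stepQ 55680 Q55680 (allL N55680 (tt N30868 F161246) (tt N31784 F161341) (tt N31008 F161240) (tt N29513 (iv3 D105270)) (tt N58757 F170607) (tt N92113 D195108) (tt N77917 (iv6 F245299)) (tt N32253 F161336))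
theorem Q55682 : ∀ i, i < 55682 → P i := stepQ 55681 Q55681 (allL N55681 (tt N57961 (iv1 F168647)) (tt N55630 (iv0 F161229)) (tt N32392 F161354) (tt N92113 (iv3 F395798)) (tt N92114 D195109) (tt N29513 (iv5 D105272)) (tt N39526 F161228) (tt N32395 F161344))
theorem Q55683 : ∀ i, i < 55683 → P i := stepQ 55682 Q55682 (allL N55682 (tt N32324 F176155) (tt N92035 (iv0 F395464)) (tt N32393 (iv2 F161362)) (tt N77917 (iv3 F245297)) (tt N66017 (iv4 F203078)) (tt N32212 F161230) (tt N29513 (iv6 D105273)) (tt N60292 (iv7 F176148)))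
theorem Q55684 : ∀ i, i < 55684 → P i := stepQ 55683 Q55683 (allL N55683 (tt N55630 (iv1 F161356)) (tt N57961 (iv0 F168646)) (tt N32395 F161345) (tt N31006 (iv3 F161352)) (tt N92115 D195110) (tt N29514 (iv5 D105277)) (tt N30260 F161232) (tt N32392 (iv7 F161353)))
theorem Q55685 : ∀ i, i < 55685 → P i := stepQ 55684 Q55684 (allL N55684 (tt N59875 F174362) (tt N32344 (iv0 F161235)) (tt N32396 F161346) (tt N31007 (iv3 F161234)) (tt N66018 (iv4 F203086)) (tt N30185 F161233) (tt N29514 (iv6 D105278)) (tt N78145 (iv7 F246275)))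
theorem Q55686 : ∀ i, i < 55686 → P i := stepQ 55685 Q55685 (allL N55685 (tt N31286 F170699) (tt N65549 (iv0 F201998)) (tt N29518 F161392) (tt N30134 F161393) (tt N59692 (iv4 F173536)) (tt N35963 F161394) (tt N29515 (iv6 D105279)) (tt N92116 D195111))
theorem Q55687 : ∀ i, i < 55687 → P i := stepQ 55686 Q55686 (allL N55686 (tt N71704 (iv1 F220395)) (tt N41513 F173560) (tt N31257 F161395) (tt N30887 F161396) (tt N31808 F161397) (tt N30882 F161398) (tt N29517 (iv6 D105280)) (tt N65623 (iv7 F202143)))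
theorem Q55688 : ∀ i, i < 55688 → P i := stepQ 55687 Q55687 (allL N55687 (tt N92116 (iv1 F395821)) (tt N29518 (iv0 D105281)) (tt N31286 F170676) (tt N58981 (iv3 F171660)) (tt N31818 F170677) (tt N57325 F166222) (tt N58455 (iv6 F170675)) (tt N65549 (iv7 F201997)))
theorem Q55689 : ∀ i, i < 55689 → P i := stepQ 55688 Q55688 (allL N55688 (tt N29518 (iv1 D105282)) (tt N92116 F395820) (tt N65549 (iv2 F201996)) (tt N31255 F169873) (tt N31819 F169874) (tt N36907 (iv5 F169870)) (tt N92117 D195112) (tt N31286 F170678))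
theorem Q55690 : ∀ i, i < 55690 → P i := stepQ 55689 Q55689 (allL N55689 (tt N65549 F202000) (tt N31286 F170831) (tt N92116 (iv2 F395816)) (tt N29523 F161399) (tt N59736 (iv4 F173713)) (tt N37734 F161400) (tt N32440 F161401) (tt N29518 (iv7 D105283)))
theorem Q55691 : ∀ i, i < 55691 → P i := stepQ 55690 Q55690 (allL N55690 (tt N32443 (iv1 F161402)) (tt N29520 (iv0 D105284)) (tt N32442 (iv2 F173639)) (tt N92118 D195113) (tt N86976 (iv4 F377912)) (tt N60613 (iv5 F357994)) (tt N92119 D195114) (tt N32441 F173640))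
theorem Q55692 : ∀ i, i < 55692 → P i := stepQ 55691 Q55691 (allL N55691 (tt N29520 (iv1 D105285)) (tt N32443 F161406) (tt N32441 F173638) (tt N80152 F347424) (tt N58505 (iv4 F169501)) (tt N60614 (iv5 F357989)) (tt N65641 F356010) (tt N32442 (iv7 F173637)))
theorem Q55693 : ∀ i, i < 55693 → P i := stepQ 55692 Q55692 (allL N55692 (tt N32442 (iv1 F161407)) (tt N32441 F161405) (tt N29520 (iv2 D105286)) (tt N32405 F161403) (tt N71725 (iv4 F220418)) (tt N66617 (iv5 F204715)) (tt N82757 F359016) (tt N32443 F161404))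
theorem Q55694 : ∀ i, i < 55694 → P i := stepQ 55693 Q55693 (allL N55693 (tt N82758 F358998) (tt N48289 F358999) (tt N82757 (iv2 F359017)) (tt N29521 F161408) (tt N71727 (iv4 F220426)) (tt N87850 (iv5 F380839)) (tt N29520 (iv6 D105287)) (tt N82756 (iv7 F359042)))
theorem Q55695 : ∀ i, i < 55695 → P i := stepQ 55694 Q55694 (allL N55694 (tt N36758 F332772) (tt N35694 F332773) (tt N32407 F161410) (tt N87850 (iv3 F380837)) (tt N32290 F332774) (tt N29521 (iv5 D105290)) (tt N56407 (iv6 F332797)) (tt N36756 F332775))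
theorem Q55696 : ∀ i, i < 55696 → P i := stepQ 55695 Q55695 (allL N55695 (tt N32289 (iv1 F165649)) (tt N32287 (iv0 F165637)) (tt N32408 F161411) (tt N82756 F359044) (tt N29523 F161412) (tt N36756 F332800) (tt N32446 F161413) (tt N29521 (iv7 D105291)))
theorem Q55697 : ∀ i, i < 55697 → P i := stepQ 55696 Q55696 (allL N55696 (tt N35744 F161423) (tt N35740 (iv0 F161424)) (tt N31314 (iv2 F164082)) (tt N60022 (iv3 F175325)) (tt N60469 (iv4 F176474)) (tt N60022 (iv5 F175326)) (tt N29522 (iv6 D105298)) (tt N60022 (iv7 F175327)))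
theorem Q55698 : ∀ i, i < 55698 → P i := stepQ 55697 Q55697 (allL N55697 (tt N32454 F161451) (tt N32453 (iv0 F161452)) (tt N29527 F161448) (tt N32418 F161449) (tt N71339 (iv4 F219863)) (tt N29526 (iv5 D105299)) (tt N69195 F366122) (tt N32452 F161450))
theorem Q55699 : ∀ i, i < 55699 → P i := stepQ 55698 Q55698 (allL N55698 (tt N71338 (iv1 F219856)) (tt N36159 F161454) (tt N71339 F219864) (tt N66593 (iv3 F204612)) (tt N29527 (iv4 D105300)) (tt N36140 (iv5 F161455)) (tt N92120 D195115) (tt N32455 F161453))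
theorem Q55700 : ∀ i, i < 55700 → P i := stepQ 55699 Q55699 (allL N55699 (tt N69189 (iv1 F362103)) (tt N69197 (iv0 F362102)) (tt N69195 (iv2 F366123)) (tt N29528 F161460) (tt N92120 (iv4 F395833)) (tt N85098 (iv5 F371623)) (tt N29527 (iv6 D105301)) (tt N69194 (iv7 F391692)))
theorem Q55701 : ∀ i, i < 55701 → P i := stepQ 55700 Q55700 (allL N55700 (tt N32430 (iv1 F161466)) (tt N29528 (iv0 D105302)) (tt N32427 F395843) (tt N79054 (iv3 F395841)) (tt N60499 (iv4 F395842)) (tt N92121 D195119) (tt N92122 D195120) (tt N32428 F395844))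
theorem Q55702 : ∀ i, i < 55702 → P i := stepQ 55701 Q55701 (allL N55701 (tt N29528 (iv1 D105303)) (tt N32430 F161461) (tt N32428 F395845) (tt N92123 D195121) (tt N60500 (iv4 F362902)) (tt N92124 D195122) (tt N92125 D195123) (tt N32427 F395846))
theorem Q55703 : ∀ i, i < 55703 → P i := stepQ 55702 Q55702 (allL N55702 (tt N66779 F205535) (tt N86187 (iv0 F375319)) (tt N32429 F161462) (tt N85098 (iv3 F371622)) (tt N92126 D195124) (tt N29528 (iv5 D105304)) (tt N29529 F161463) (tt N92127 D195125))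
theorem Q55704 : ∀ i, i < 55704 → P i := stepQ 55703 Q55703 (allL N55703 (tt N32428 (iv1 F161467)) (tt N32427 F161468) (tt N32430 F161464) (tt N69194 F391693) (tt N66600 (iv4 F204676)) (tt N92127 (iv5 F395873)) (tt N32459 F161465) (tt N29528 (iv7 D105305)))
theorem Q55705 : ∀ i, i < 55705 → P i := stepQ 55704 Q55704 (allL N55704 (tt N32719 F161472) (tt N32722 F161473) (tt N32433 F161469) (tt N92128 D195126) (tt N29529 (iv4 D105306)) (tt N32433 F161471) (tt N92126 (iv6 F395871)) (tt N42943 F161470))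
theorem Q55706 : ∀ i, i < 55706 → P i := stepQ 55705 Q55705 (allL N55705 (tt N66469 F204211) (tt N39602 F161475) (tt N66470 F204218) (tt N92077 (iv3 F395650)) (tt N29530 (iv4 D105307)) (tt N39529 (iv5 F161476)) (tt N68313 (iv6 F357923)) (tt N32482 F161474))
theorem Q55707 : ∀ i, i < 55707 → P i := stepQ 55706 Q55706 (allL N55706 (tt N32474 (iv1 F161483)) (tt N29531 (iv0 D105309)) (tt N32471 F343645) (tt N68310 F343651) (tt N60565 (iv4 F343647)) (tt N66150 (iv5 F364683)) (tt N92129 D195127) (tt N32472 F343646))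
theorem Q55708 : ∀ i, i < 55708 → P i := stepQ 55707 Q55707 (allL N55707 (tt N29531 (iv1 D105310)) (tt N32474 F161479) (tt N32472 F343642) (tt N92130 D195128) (tt N60566 F343643) (tt N66149 (iv5 F364674)) (tt N92131 D195129) (tt N32471 F343644))
theorem Q55709 : ∀ i, i < 55709 → P i := stepQ 55708 Q55708 (allL N55708 (tt N32472 (iv1 F161484)) (tt N32471 F161485) (tt N32474 F161480) (tt N38121 F323237) (tt N37693 F323238) (tt N68311 (iv5 F324648)) (tt N32485 F161482) (tt N29531 (iv7 D105311)))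
theorem Q55710 : ∀ i, i < 55710 → P i := stepQ 55709 Q55709 (allL N55709 (tt N71963 (iv1 F221093)) (tt N71998 (iv0 F221198)) (tt N72000 F221205) (tt N65972 (iv3 F203000)) (tt N29532 (iv4 D105312)) (tt N71608 (iv5 F220276)) (tt N92132 D195130) (tt N32499 F161486))
theorem Q55711 : ∀ i, i < 55711 → P i := stepQ 55710 Q55710 (allL N55710 (tt N70501 F321198) (tt N85048 F371456) (tt N69397 F321199) (tt N29533 F161487) (tt N92132 (iv4 F395889)) (tt N37422 F321200) (tt N29532 (iv6 D105313)) (tt N50965 F161488))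
theorem Q55712 : ∀ i, i < 55712 → P i := stepQ 55711 Q55711 (allL N55711 (tt N32491 (iv1 F161493)) (tt N29533 (iv0 D105314)) (tt N32488 F333524) (tt N30003 F333525) (tt N30006 F333526) (tt N39000 F333527) (tt N92133 D195131) (tt N32489 F333528))
theorem Q55713 : ∀ i, i < 55713 → P i := stepQ 55712 Q55712 (allL N55712 (tt N29533 (iv1 D105315)) (tt N32491 F161489) (tt N32489 F333519) (tt N74918 (iv3 F363639)) (tt N37694 F333520) (tt N70683 F333521) (tt N92134 D195132) (tt N32488 F333522))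
theorem Q55714 : ∀ i, i < 55714 → P i := stepQ 55713 Q55713 (allL N55713 (tt N32489 (iv1 F161494)) (tt N32488 F161495) (tt N32491 F161490) (tt N50965 F161491) (tt N65978 (iv4 F203012)) (tt N69392 F321195) (tt N32502 F161492) (tt N29533 (iv7 D105316)))
theorem Q55715 : ∀ i, i < 55715 → P i := stepQ 55714 Q55714 (allL N55714 (tt N32502 (iv1 F161502)) (tt N29534 (iv0 D105317)) (tt N32500 F161505) (tt N50940 (iv3 F204766)) (tt N66627 (iv4 F204760)) (tt N79012 (iv5 F251827)) (tt N92135 D195133) (tt N32501 F161504))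
theorem Q55716 : ∀ i, i < 55716 → P i := stepQ 55715 Q55715 (allL N55715 (tt N29534 (iv1 D105318)) (tt N32502 F161496) (tt N32501 F161498) (tt N69357 F363885) (tt N66628 (iv4 F204755)) (tt N51502 (iv5 F161497)) (tt N32930 F177327) (tt N32500 (iv7 F161506)))
theorem Q55717 : ∀ i, i < 55717 → P i := stepQ 55716 Q55716 (allL N55716 (tt N32501 (iv1 F161503)) (tt N32500 F161507) (tt N32502 F161499) (tt N62812 (iv3 F183751)) (tt N65961 (iv4 F202976)) (tt N50954 F161500) (tt N32491 F161501) (tt N29534 (iv7 D105319)))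
theorem Q55718 : ∀ i, i < 55718 → P i := stepQ 55717 Q55717 (allL N55717 (tt N72005 (iv1 F221223)) (tt N45214 F161509) (tt N74408 (iv2 F227800)) (tt N92136 D195134) (tt N29535 (iv4 D105320)) (tt N74979 (iv5 F229944)) (tt N50942 F161508) (tt N62848 (iv7 F183893)))
theorem Q55719 : ∀ i, i < 55719 → P i := stepQ 55718 Q55718 (allL N55718 (tt N92137 D195135) (tt N92138 D195136) (tt N29539 F161510) (tt N69998 (iv3 F350301)) (tt N29536 (iv4 D105321)) (tt N92139 D195137) (tt N69996 F350303) (tt N74920 (iv7 F229803)))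
theorem Q55720 : ∀ i, i < 55720 → P i := stepQ 55719 Q55719 (allL N55719 (tt N92140 D195138) (tt N70666 (iv0 F333242)) (tt N29540 F161511) (tt N32522 F161512) (tt N69996 F327837) (tt N29588 F161513) (tt N29536 (iv6 D105322)) (tt N70711 F327838))
theorem Q55721 : ∀ i, i < 55721 → P i := stepQ 55720 Q55720 (allL N55720 (tt N74972 (iv1 F229931)) (tt N74875 (iv0 F229692)) (tt N78954 (iv2 F251537)) (tt N92141 D195139) (tt N29537 (iv4 D105323)) (tt N40628 F330621) (tt N92142 D195140) (tt N75750 (iv7 F233632)))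
theorem Q55722 : ∀ i, i < 55722 → P i := stepQ 55721 Q55721 (allL N55721 (tt N39057 F363820) (tt N92143 D195141) (tt N78955 (iv2 F251540)) (tt N42371 F161514) (tt N92142 (iv4 F395937)) (tt N76349 (iv5 F238408)) (tt N29537 (iv6 D105324)) (tt N92144 D195142))
theorem Q55723 : ∀ i, i < 55723 → P i := stepQ 55722 Q55722 (allL N55722 (tt N50943 (iv1 F161517)) (tt N50944 (iv0 F161518)) (tt N42373 F161515) (tt N29538 (iv3 D105325)) (tt N71771 (iv4 F220541)) (tt N41341 F161516) (tt N83654 F288292) (tt N78881 (iv7 F251181)))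
theorem Q55724 : ∀ i, i < 55724 → P i := stepQ 55723 Q55723 (allL N55723 (tt N74875 (iv1 F229693)) (tt N74972 (iv0 F229930)) (tt N75750 (iv2 F233631)) (tt N39559 F350285) (tt N29538 (iv4 D105326)) (tt N40626 F330620) (tt N92145 D195143) (tt N78954 (iv7 F251538)))
theorem Q55725 : ∀ i, i < 55725 → P i := stepQ 55724 Q55724 (allL N55724 (tt N49504 F347565) (tt N61704 (iv0 F347567)) (tt N75751 (iv2 F233634)) (tt N83654 (iv3 F288295)) (tt N92145 (iv4 F395949)) (tt N76408 (iv5 F238536)) (tt N29538 (iv6 D105327)) (tt N83674 (iv7 F288403)))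
theorem Q55726 : ∀ i, i < 55726 → P i := stepQ 55725 Q55725 (allL N55725 (tt N74920 (iv1 F229806)) (tt N29539 (iv0 D105328)) (tt N92137 F395912) (tt N86128 (iv3 F375183)) (tt N41336 F161519) (tt N40541 F363446) (tt N69923 (iv6 F359591)) (tt N92138 (iv7 F395916)))
theorem Q55727 : ∀ i, i < 55727 → P i := stepQ 55726 Q55726 (allL N55726 (tt N29539 (iv1 D105329)) (tt N74920 (iv0 F229805)) (tt N92138 F395919) (tt N52303 (iv3 F363445)) (tt N41338 (iv4 F162400)) (tt N40540 F340840) (tt N49503 (iv6 F363447)) (tt N92137 F395913))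
theorem Q55728 : ∀ i, i < 55728 → P i := stepQ 55727 Q55727 (allL N55727 (tt N53026 (iv1 F360366)) (tt N49529 (iv0 F367826)) (tt N53024 (iv2 F383738)) (tt N29539 (iv3 D105330)) (tt N29546 F161520) (tt N92146 D195144) (tt N92147 D195145) (tt N32378 (iv7 F161521)))
theorem Q55729 : ∀ i, i < 55729 → P i := stepQ 55728 Q55728 (allL N55728 (tt N78104 F363452) (tt N92148 D195146) (tt N92139 (iv2 F395921)) (tt N92146 (iv3 F395959)) (tt N74978 (iv4 F229943)) (tt N29539 (iv5 D105331)) (tt N92149 D195147) (tt N92150 D195148))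
theorem Q55730 : ∀ i, i < 55730 → P i := stepQ 55729 Q55729 (allL N55729 (tt N92151 D195149) (tt N69914 (iv0 F396008)) (tt N69996 (iv2 F360485)) (tt N92147 (iv3 F395963)) (tt N29540 F161522) (tt N92152 D195151) (tt N29539 (iv6 D105332)) (tt N92153 D195152))
theorem Q55731 : ∀ i, i < 55731 → P i := stepQ 55730 Q55730 (allL N55730 (tt N92138 (iv1 F395915)) (tt N92137 F395911) (tt N74920 (iv2 F229802)) (tt N32378 F161523) (tt N29541 F161524) (tt N92150 (iv5 F395981)) (tt N92154 D195153) (tt N29539 (iv7 D105333)))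
theorem Q55732 : ∀ i, i < 55732 → P i := stepQ 55731 Q55731 (allL N55731 (tt N70711 (iv1 F355710)) (tt N29540 (iv0 D105334)) (tt N92140 F395930) (tt N78946 F336803) (tt N92155 D195154) (tt N74866 F355711) (tt N61701 (iv6 F336802)) (tt N70666 F336804))
theorem Q55733 : ∀ i, i < 55733 → P i := stepQ 55732 Q55732 (allL N55732 (tt N29540 (iv1 D105335)) (tt N70711 (iv0 F339448)) (tt N70666 F339444) (tt N67936 F339445) (tt N92156 D195155) (tt N74867 F339446) (tt N39053 F339447) (tt N92140 (iv7 F395932)))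
theorem Q55734 : ∀ i, i < 55734 → P i := stepQ 55733 Q55733 (allL N55733 (tt N70666 (iv1 F333244)) (tt N92140 F395931) (tt N70711 (iv2 F355709)) (tt N29550 F161525) (tt N92153 (iv4 F395987)) (tt N29598 F161526) (tt N92157 D195156) (tt N29540 (iv7 D105336)))
theorem Q55735 : ∀ i, i < 55735 → P i := stepQ 55734 Q55734 (allL N55734 (tt N92158 D195157) (tt N83663 (iv0 F288340)) (tt N74921 (iv2 F229807)) (tt N29551 F161527) (tt N92154 (iv4 F395992)) (tt N63314 (iv5 F186816)) (tt N29541 (iv6 D105337)) (tt N92157 (iv7 F396011)))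
theorem Q55736 : ∀ i, i < 55736 → P i := stepQ 55735 Q55735 (allL N55735 (tt N32495 (iv1 F161532)) (tt N32493 F161531) (tt N29542 (iv2 D105338)) (tt N32540 F161528) (tt N92159 D195158) (tt N29823 F161529) (tt N92160 D195159) (tt N32547 F161530))
theorem Q55737 : ∀ i, i < 55737 → P i := stepQ 55736 Q55736 (allL N55736 (tt N39792 F161535) (tt N75055 (iv0 F230213)) (tt N92159 (iv2 F396015)) (tt N39701 F161533) (tt N29542 (iv4 D105339)) (tt N39699 (iv5 F161536)) (tt N92161 D195160) (tt N32548 F161534))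
theorem Q55738 : ∀ i, i < 55738 → P i := stepQ 55737 Q55737 (allL N55737 (tt N92162 D195161) (tt N54252 F396025) (tt N92160 (iv2 F396020)) (tt N29543 F161538) (tt N92161 (iv4 F396027)) (tt N50306 F161539) (tt N29542 (iv6 D105340)) (tt N92163 D195162))
theorem Q55739 : ∀ i, i < 55739 → P i := stepQ 55738 Q55738 (allL N55738 (tt N29543 (iv1 D105342)) (tt N32546 F161540) (tt N32544 F362905) (tt N92143 F395941) (tt N66598 F362906) (tt N92164 D195163) (tt N92165 D195164) (tt N32543 F362907))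
theorem Q55740 : ∀ i, i < 55740 → P i := stepQ 55739 Q55739 (allL N55739 (tt N78383 F248587) (tt N92166 D195165) (tt N32545 F161541) (tt N50306 F161542) (tt N73514 (iv4 F362690)) (tt N29543 (iv5 D105343)) (tt N29824 F161543) (tt N92167 D195166))
theorem Q55741 : ∀ i, i < 55741 → P i := stepQ 55740 Q55740 (allL N55740 (tt N32544 (iv1 F161547)) (tt N32543 F161548) (tt N32546 F161544) (tt N92163 (iv3 F396038)) (tt N66009 (iv4 F203067)) (tt N92167 (iv5 F396059)) (tt N32552 F161545) (tt N29543 (iv7 D105344)))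
theorem Q55742 : ∀ i, i < 55742 → P i := stepQ 55741 Q55741 (allL N55741 (tt N62782 (iv1 F183653)) (tt N62787 (iv0 F183675)) (tt N74859 F229661) (tt N66003 (iv3 F203043)) (tt N29544 (iv4 D105345)) (tt N75529 (iv5 F231743)) (tt N92168 D195167) (tt N32541 F161549))
theorem Q55743 : ∀ i, i < 55743 → P i := stepQ 55742 Q55742 (allL N55742 (tt N85017 F371386) (tt N92169 D195168) (tt N74893 (iv2 F229746)) (tt N29545 F161550) (tt N92168 (iv4 F396064)) (tt N44495 F161551) (tt N29544 (iv6 D105346)) (tt N92170 D195169))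
theorem Q55744 : ∀ i, i < 55744 → P i := stepQ 55743 Q55743 (allL N55743 (tt N32552 (iv1 F161556)) (tt N29545 (iv0 D105347)) (tt N32550 F177290) (tt N49504 F347563) (tt N49532 F342966) (tt N86834 (iv5 F377369)) (tt N50958 F161552) (tt N32551 F177291))
theorem Q55745 : ∀ i, i < 55745 → P i := stepQ 55744 Q55744 (allL N55744 (tt N29545 (iv1 D105348)) (tt N32552 F161553) (tt N32551 (iv2 F177292)) (tt N33027 F332851) (tt N36815 (iv4 F332853)) (tt N65609 F342958) (tt N33025 F332852) (tt N32550 (iv7 F177293)))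
theorem Q55746 : ∀ i, i < 55746 → P i := stepQ 55745 Q55745 (allL N55745 (tt N32551 (iv1 F161557)) (tt N32550 F161558) (tt N32552 F161554) (tt N92170 (iv3 F396073)) (tt N66005 (iv4 F203050)) (tt N56602 (iv5 F164398)) (tt N32546 F161555) (tt N29545 (iv7 D105349)))
theorem Q55747 : ∀ i, i < 55747 → P i := stepQ 55746 Q55746 (allL N55746 (tt N32375 (iv1 F161559)) (tt N29546 (iv0 D105350)) (tt N32377 F352459) (tt N92016 (iv3 F395371)) (tt N82777 (iv4 F352437)) (tt N56981 F350006) (tt N68707 F362896) (tt N32376 F352460))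
theorem Q55748 : ∀ i, i < 55748 → P i := stepQ 55747 Q55747 (allL N55747 (tt N29546 (iv1 D105351)) (tt N32375 F161564) (tt N32376 F352453) (tt N92171 D195170) (tt N49599 F352451) (tt N56982 (iv5 F345753)) (tt N49531 F345754) (tt N32377 F352454))
theorem Q55749 : ∀ i, i < 55749 → P i := stepQ 55748 Q55748 (allL N55748 (tt N32377 (iv1 F161565)) (tt N32376 F161563) (tt N29546 (iv2 D105352)) (tt N32555 F161560) (tt N53024 F383736) (tt N32364 F161561) (tt N68841 F365452) (tt N32375 F161562))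
theorem Q55750 : ∀ i, i < 55750 → P i := stepQ 55749 Q55749 (allL N55749 (tt N92172 D195171) (tt N68698 (iv0 F367309)) (tt N68841 (iv2 F365453)) (tt N29547 F161566) (tt N92147 (iv4 F395964)) (tt N92173 D195172) (tt N29546 (iv6 D105353)) (tt N92174 D195173))
theorem Q55751 : ∀ i, i < 55751 → P i := stepQ 55750 Q55750 (allL N55750 (tt N32560 (iv1 F161573)) (tt N29547 (iv0 D105354)) (tt N32557 F177868) (tt N92175 D195174) (tt N29883 F177662) (tt N92176 D195175) (tt N36812 F342950) (tt N32558 F177869))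
theorem Q55752 : ∀ i, i < 55752 → P i := stepQ 55751 Q55751 (allL N55751 (tt N29547 (iv1 D105355)) (tt N32560 F161567) (tt N32558 F177863) (tt N92177 D195176) (tt N29884 F177661) (tt N92178 D195177) (tt N56508 (iv6 F342949)) (tt N32557 F177864))
theorem Q55753 : ∀ i, i < 55753 → P i := stepQ 55752 Q55752 (allL N55752 (tt N92179 D195178) (tt N92180 D195179) (tt N32559 F161568) (tt N92173 (iv3 F396086)) (tt N92181 D195180) (tt N29547 (iv5 D105356)) (tt N32390 F161569) (tt N92182 D195181))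
theorem Q55754 : ∀ i, i < 55754 → P i := stepQ 55753 Q55753 (allL N55753 (tt N32558 (iv1 F161574)) (tt N32557 F161575) (tt N32560 F161570) (tt N92174 (iv3 F396090)) (tt N29550 F161571) (tt N92182 (iv5 F396133)) (tt N32387 F161572) (tt N29547 (iv7 D105357)))
theorem Q55755 : ∀ i, i < 55755 → P i := stepQ 55754 Q55754 (allL N55754 (tt N81409 F354878) (tt N78887 F354890) (tt N81411 (iv2 F354892)) (tt N29548 (iv3 D105359)) (tt N81391 F354894) (tt N80886 F339589) (tt N84970 (iv6 F371207)) (tt N32565 F193493))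
theorem Q55756 : ∀ i, i < 55756 → P i := stepQ 55755 Q55755 (allL N55755 (tt N56273 F177810) (tt N29831 F177811) (tt N32562 F193494) (tt N92183 D195182) (tt N29548 (iv4 D105360)) (tt N92184 D195183) (tt N92185 D195184) (tt N32566 F193495))
theorem Q55757 : ∀ i, i < 55757 → P i := stepQ 55756 Q55756 (allL N55756 (tt N61569 F179047) (tt N32771 (iv0 F178437)) (tt N32563 F193496) (tt N80886 (iv3 F339587)) (tt N61121 F178035) (tt N29548 (iv5 D105361)) (tt N75701 (iv6 F233493)) (tt N32567 F193497))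
theorem Q55758 : ∀ i, i < 55758 → P i := stepQ 55757 Q55757 (allL N55757 (tt N33025 F342952) (tt N61697 F342953) (tt N32564 F193498) (tt N84970 F371209) (tt N92185 (iv4 F396146)) (tt N42735 F161577) (tt N29548 (iv6 D105362)) (tt N61696 (iv7 F333513)))
theorem Q55759 : ∀ i, i < 55759 → P i := stepQ 55758 Q55758 (allL N55758 (tt N62802 (iv1 F349030)) (tt N74900 F349032) (tt N74899 F336805) (tt N29549 (iv3 D105364)) (tt N74881 F349019) (tt N75697 F233477) (tt N70649 F333517) (tt N32561 F193486))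
theorem Q55760 : ∀ i, i < 55760 → P i := stepQ 55759 Q55759 (allL N55759 (tt N29831 F177807) (tt N56273 F177808) (tt N32566 F193487) (tt N92186 D195185) (tt N29549 (iv4 D105365)) (tt N92187 D195186) (tt N70650 (iv6 F365812)) (tt N32562 F193488))
theorem Q55761 : ∀ i, i < 55761 → P i := stepQ 55760 Q55760 (allL N55760 (tt N32571 (iv1 F161582)) (tt N32570 F161583) (tt N32569 F161579) (tt N92157 (iv3 F396010)) (tt N32387 F161580) (tt N61540 (iv5 F179009)) (tt N29550 (iv6 D105367)) (tt N29551 F161581))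
theorem Q55762 : ∀ i, i < 55762 → P i := stepQ 55761 Q55761 (allL N55761 (tt N32569 (iv1 F161584)) (tt N29551 (iv0 D105368)) (tt N32570 F209206) (tt N91787 (iv3 F394417)) (tt N56234 (iv4 F383825)) (tt N92188 D195187) (tt N68163 (iv6 F209205)) (tt N32571 F209207))
theorem Q55763 : ∀ i, i < 55763 → P i := stepQ 55762 Q55762 (allL N55762 (tt N29551 (iv1 D105369)) (tt N32569 F161585) (tt N32571 F209208) (tt N74858 F335957) (tt N56235 (iv4 F383821)) (tt N92189 D195188) (tt N91784 (iv6 F394403)) (tt N32570 F209209))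
theorem Q55764 : ∀ i, i < 55764 → P i := stepQ 55763 Q55763 (allL N55763 (tt N30085 F161588) (tt N51505 F161589) (tt N32618 F161586) (tt N46030 F161587) (tt N86491 (iv4 F376377)) (tt N29553 (iv5 D105370)) (tt N61141 (iv6 F178103)) (tt N56442 (iv7 F163760)))
theorem Q55765 : ∀ i, i < 55765 → P i := stepQ 55764 Q55764 (allL N55764 (tt N61557 F356461) (tt N45007 F356462) (tt N32630 F161590) (tt N33979 F161591) (tt N35122 F161592) (tt N50459 F161593) (tt N29554 (iv6 D105371)) (tt N61556 (iv7 F355678)))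
theorem Q55766 : ∀ i, i < 55766 → P i := stepQ 55765 Q55765 (allL N55765 (tt N35060 F161597) (tt N35057 F161598) (tt N32626 F161594) (tt N35115 (iv3 F161599)) (tt N29555 (iv4 D105372)) (tt N34499 F161595) (tt N92190 D195189) (tt N32629 F161596))
theorem Q55767 : ∀ i, i < 55767 → P i := stepQ 55766 Q55766 (allL N55766 (tt N29918 F357303) (tt N56202 F357304) (tt N32627 F161601) (tt N34074 F161602) (tt N92190 (iv4 F396166)) (tt N69347 (iv5 F363408)) (tt N29555 (iv6 D105373)) (tt N56201 (iv7 F340903)))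
theorem Q55768 : ∀ i, i < 55768 → P i := stepQ 55767 Q55767 (allL N55767 (tt N54830 (iv1 F290539)) (tt N49802 (iv0 F290554)) (tt N32605 (iv2 F161689)) (tt N83641 (iv3 F288166)) (tt N55494 (iv4 F161623)) (tt N29557 (iv5 D105375)) (tt N49326 F292581) (tt N32608 (iv7 F161660)))
theorem Q55769 : ∀ i, i < 55769 → P i := stepQ 55768 Q55768 (allL N55768 (tt N29923 (iv1 F163452)) (tt N56210 (iv0 F163513)) (tt N32606 (iv2 F161677)) (tt N85776 (iv3 F373887)) (tt N32641 F161605) (tt N32144 F161606) (tt N29557 (iv6 D105376)) (tt N56208 F163181))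
theorem Q55770 : ∀ i, i < 55770 → P i := stepQ 55769 Q55769 (allL N55769 (tt N29908 F342993) (tt N92191 D195190) (tt N85777 (iv2 F373890)) (tt N29558 (iv3 D105378)) (tt N74678 F342994) (tt N92192 D195191) (tt N92193 D195192) (tt N32604 F161687))
theorem Q55771 : ∀ i, i < 55771 → P i := stepQ 55770 Q55770 (allL N55770 (tt N49802 (iv1 F290555)) (tt N54830 (iv0 F290538)) (tt N32608 (iv2 F161611)) (tt N92192 (iv3 F396177)) (tt N52204 (iv4 F161612)) (tt N29558 (iv5 D105379)) (tt N50171 F161610) (tt N32605 F161688))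
theorem Q55772 : ∀ i, i < 55772 → P i := stepQ 55771 Q55771 (allL N55771 (tt N61564 (iv1 F179036)) (tt N45006 F177674) (tt N32609 F161701) (tt N92193 (iv3 F396182)) (tt N32644 F161702) (tt N66070 (iv5 F332578)) (tt N29558 (iv6 D105380)) (tt N61563 (iv7 F179027)))
theorem Q55773 : ∀ i, i < 55773 → P i := stepQ 55772 Q55772 (allL N55772 (tt N50967 F161706) (tt N45015 F161707) (tt N32668 F161703) (tt N33980 F161704) (tt N85088 (iv4 F371598)) (tt N29561 (iv5 D105381)) (tt N50459 F161705) (tt N78799 (iv7 F250900)))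
theorem Q55774 : ∀ i, i < 55774 → P i := stepQ 55773 Q55773 (allL N55773 (tt N62702 (iv1 F355817)) (tt N74460 F355819) (tt N29564 F161708) (tt N32655 F161709) (tt N76944 (iv4 F240903)) (tt N60262 (iv5 F176072)) (tt N29562 (iv6 D105382)) (tt N74459 (iv7 F343304)))
theorem Q55775 : ∀ i, i < 55775 → P i := stepQ 55774 Q55774 (allL N55774 (tt N32669 (iv1 F161714)) (tt N29563 (iv0 D105383)) (tt N32678 (iv2 F161713)) (tt N43693 F161712) (tt N50966 F161711) (tt N35340 F161710) (tt N92194 D195193) (tt N32677 F161715))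
theorem Q55776 : ∀ i, i < 55776 → P i := stepQ 55775 Q55775 (allL N55775 (tt N72804 F365028) (tt N92195 D195194) (tt N76944 (iv2 F240902)) (tt N34003 F161716) (tt N29564 F161717) (tt N92196 D195195) (tt N29563 (iv6 D105384)) (tt N92197 D195196))
theorem Q55777 : ∀ i, i < 55777 → P i := stepQ 55776 Q55776 (allL N55776 (tt N74459 (iv1 F343300)) (tt N29564 (iv0 D105385)) (tt N62702 F343298) (tt N74473 (iv3 F343296)) (tt N92198 D195197) (tt N91207 F392260) (tt N92199 D195198) (tt N74460 (iv7 F343299)))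
theorem Q55778 : ∀ i, i < 55778 → P i := stepQ 55777 Q55777 (allL N55777 (tt N74460 (iv1 F355818)) (tt N62702 (iv0 F355664)) (tt N74459 F343301) (tt N29567 F161718) (tt N92197 (iv4 F396204)) (tt N60271 (iv5 F176087)) (tt N32683 F161719) (tt N29564 (iv7 D105387)))
theorem Q55779 : ∀ i, i < 55779 → P i := stepQ 55778 Q55778 (allL N55778 (tt N56343 F163453) (tt N92200 D195199) (tt N32662 F178233) (tt N79947 F364650) (tt N88241 (iv4 F382316)) (tt N29565 (iv5 D105390)) (tt N79943 (iv6 F290530)) (tt N32665 F178234))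
theorem Q55780 : ∀ i, i < 55780 → P i := stepQ 55779 Q55779 (allL N55779 (tt N92200 (iv1 F396212)) (tt N56343 (iv0 F178182)) (tt N32665 F178228) (tt N73734 (iv3 F364978)) (tt N92201 D195200) (tt N29566 (iv5 D105393)) (tt N68123 (iv6 F209167)) (tt N32662 F178229))
theorem Q55781 : ∀ i, i < 55781 → P i := stepQ 55780 Q55780 (allL N55780 (tt N60959 (iv1 F178184)) (tt N60967 F178230) (tt N32666 F178231) (tt N73735 (iv3 F317995)) (tt N32695 F161725) (tt N78847 (iv5 F251103)) (tt N29566 (iv6 D105394)) (tt N78928 (iv7 F251396)))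
theorem Q55782 : ∀ i, i < 55782 → P i := stepQ 55781 Q55781 (allL N55781 (tt N76358 (iv1 F238455)) (tt N34403 (iv0 F161727)) (tt N32754 F161726) (tt N78882 (iv3 F251184)) (tt N77185 (iv4 F241888)) (tt N92202 D195201) (tt N29571 (iv6 D105395)) (tt N79890 (iv7 F258796)))
theorem Q55783 : ∀ i, i < 55783 → P i := stepQ 55782 Q55782 (allL N55782 (tt N34077 F161731) (tt N56180 (iv0 F163146)) (tt N32751 F161728) (tt N63089 F185440) (tt N29572 (iv4 D105396)) (tt N36569 F161729) (tt N46440 F355840) (tt N32753 F161730))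
theorem Q55784 : ∀ i, i < 55784 → P i := stepQ 55783 Q55783 (allL N55783 (tt N76307 (iv1 F238154)) (tt N29573 (iv0 D105398)) (tt N76305 F347786) (tt N92203 D195202) (tt N42086 F347787) (tt N86600 (iv5 F376571)) (tt N81464 F376351) (tt N76306 F347788))
theorem Q55785 : ∀ i, i < 55785 → P i := stepQ 55784 Q55784 (allL N55784 (tt N29573 (iv1 D105399)) (tt N76307 F238153) (tt N76306 F347781) (tt N41021 F347782) (tt N42087 F347783) (tt N92204 D195203) (tt N86111 (iv6 F375138)) (tt N76305 F347784))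
theorem Q55786 : ∀ i, i < 55786 → P i := stepQ 55785 Q55785 (allL N55785 (tt N76306 (iv1 F238144)) (tt N76305 F238152) (tt N76307 (iv2 F238149)) (tt N29577 F161733) (tt N76647 (iv4 F239656)) (tt N54893 (iv5 F364520)) (tt N32761 F161734) (tt N29573 (iv7 D105400)))
theorem Q55787 : ∀ i, i < 55787 → P i := stepQ 55786 Q55786 (allL N55786 (tt N55834 F161905) (tt N61596 F179080) (tt N32725 F161736) (tt N41401 F321213) (tt N74021 F321214) (tt N29574 (iv5 D105402)) (tt N92205 D195204) (tt N32728 F161737))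
theorem Q55788 : ∀ i, i < 55788 → P i := stepQ 55787 Q55787 (allL N55787 (tt N45082 (iv1 F178265)) (tt N75701 F233494) (tt N32726 F161738) (tt N41402 F321215) (tt N44608 F161739) (tt N34697 F161740) (tt N29574 (iv6 D105403)) (tt N61495 (iv7 F178924)))
theorem Q55789 : ∀ i, i < 55789 → P i := stepQ 55788 Q55788 (allL N55788 (tt N61596 (iv1 F179081)) (tt N55834 F161906) (tt N32728 F161746) (tt N75561 (iv3 F341582)) (tt N74024 (iv4 F331509)) (tt N29575 (iv5 D105405)) (tt N68132 (iv6 F209178)) (tt N32725 F161747))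
theorem Q55790 : ∀ i, i < 55790 → P i := stepQ 55789 Q55789 (allL N55789 (tt N61531 (iv1 F179000)) (tt N34402 F178447) (tt N32729 F161749) (tt N75562 (iv3 F338638)) (tt N44611 F161750) (tt N61601 (iv5 F179099)) (tt N29575 (iv6 D105406)) (tt N79895 (iv7 F258822)))
theorem Q55791 : ∀ i, i < 55791 → P i := stepQ 55790 Q55790 (allL N55790 (tt N32733 (iv1 F161755)) (tt N29576 (iv0 D105407)) (tt N32730 F161794) (tt N41404 F324700) (tt N60282 (iv4 F176123)) (tt N32945 (iv5 F161758)) (tt N92206 D195205) (tt N32731 F161757))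
theorem Q55792 : ∀ i, i < 55792 → P i := stepQ 55791 Q55791 (allL N55791 (tt N60200 (iv1 F175892)) (tt N60202 (iv0 F175893)) (tt N32732 F161751) (tt N92207 D195206) (tt N29576 (iv4 D105408)) (tt N92208 D195207) (tt N29578 F161752) (tt N92209 D195208))
theorem Q55793 : ∀ i, i < 55793 → P i := stepQ 55792 Q55792 (allL N55792 (tt N32731 (iv1 F161756)) (tt N32730 F161797) (tt N32733 F161753) (tt N54893 F364521) (tt N92209 (iv4 F396266)) (tt N29577 F161754) (tt N69493 (iv6 F214523)) (tt N29576 (iv7 D105409)))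
theorem Q55794 : ∀ i, i < 55794 → P i := stepQ 55793 Q55793 (allL N55793 (tt N92210 D195209) (tt N92211 D195210) (tt N92212 D195211) (tt N29578 (iv3 D105410)) (tt N86499 (iv4 F376392)) (tt N32200 F161798) (tt N92207 (iv6 F396251)) (tt N32199 F161799))
theorem Q55795 : ∀ i, i < 55795 → P i := stepQ 55794 Q55794 (allL N55794 (tt N74796 (iv1 F355827)) (tt N79002 (iv0 F251728)) (tt N54901 (iv2 F355635)) (tt N30051 F161800) (tt N76313 (iv4 F335460)) (tt N29579 (iv5 D105413)) (tt N29580 F161801) (tt N76390 (iv7 F339789)))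
theorem Q55796 : ∀ i, i < 55796 → P i := stepQ 55795 Q55795 (allL N55795 (tt N41398 F321492) (tt N32724 F319333) (tt N63389 (iv2 F187255)) (tt N76031 (iv3 F235973)) (tt N45191 F314503) (tt N76390 F334859) (tt N45190 F314504) (tt N29579 (iv7 D105414)))
theorem Q55797 : ∀ i, i < 55797 → P i := stepQ 55796 Q55796 (allL N55796 (tt N78280 (iv1 F247647)) (tt N45239 F161802) (tt N63390 (iv2 F187260)) (tt N61494 (iv3 F341604)) (tt N29580 (iv4 D105415)) (tt N61491 (iv5 F340677)) (tt N76313 (iv6 F335461)) (tt N56422 (iv7 F163731)))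
theorem Q55798 : ∀ i, i < 55798 → P i := stepQ 55797 Q55797 (allL N55797 (tt N32619 F161806) (tt N32616 F161807) (tt N35066 F161803) (tt N62900 F338489) (tt N29582 (iv4 D105416)) (tt N34872 F161805) (tt N62898 (iv6 F338494)) (tt N35065 F161804))
theorem Q55799 : ∀ i, i < 55799 → P i := stepQ 55798 Q55798 (allL N55798 (tt N50790 F161810) (tt N84493 F369539) (tt N76032 (iv2 F235976)) (tt N29585 F161808) (tt N62898 F314507) (tt N50976 F161809) (tt N29582 (iv6 D105417)) (tt N62937 F314508))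
theorem Q55800 : ∀ i, i < 55800 → P i := stepQ 55799 Q55799 (allL N55799 (tt N41771 F314509) (tt N41778 F314510) (tt N63767 (iv2 F189437)) (tt N50976 F161813) (tt N51016 F335954) (tt N29585 (iv5 D105421)) (tt N29586 F161814) (tt N74862 F314511))
theorem Q55801 : ∀ i, i < 55801 → P i := stepQ 55800 Q55800 (allL N55800 (tt N74400 (iv1 F313056)) (tt N92213 D195212) (tt N29595 F161815) (tt N74969 (iv3 F353435)) (tt N29588 F161816) (tt N74320 (iv5 F333246)) (tt N29587 (iv6 D105424)) (tt N41801 F312979))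
theorem Q55802 : ∀ i, i < 55802 → P i := stepQ 55801 Q55801 (allL N55801 (tt N29598 (iv1 F161820)) (tt N29588 (iv0 D105425)) (tt N29596 F355719) (tt N92214 D195213) (tt N91535 (iv4 F393531)) (tt N92215 D195214) (tt N92216 D195215) (tt N29597 F355720))
theorem Q55803 : ∀ i, i < 55803 → P i := stepQ 55802 Q55802 (allL N55802 (tt N29588 (iv1 D105426)) (tt N29598 F161817) (tt N29597 F355716) (tt N64197 F278217) (tt N47713 F235253) (tt N92217 D195216) (tt N74795 (iv6 F361628)) (tt N29596 F355717))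
theorem Q55804 : ∀ i, i < 55804 → P i := stepQ 55803 Q55803 (allL N55803 (tt N29597 (iv1 F161821)) (tt N29596 F161822) (tt N29598 F161818) (tt N32840 F161819) (tt N41801 F319422) (tt N70711 F355708) (tt N41799 F319423) (tt N29588 (iv7 D105427)))
theorem Q55805 : ∀ i, i < 55805 → P i := stepQ 55804 Q55804 (allL N55804 (tt N80483 F337889) (tt N86482 F376349) (tt N32893 F161823) (tt N29592 F161824) (tt N64660 (iv4 F197999)) (tt N32886 F161825) (tt N29590 (iv6 D105428)) (tt N51498 F161826))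
theorem Q55806 : ∀ i, i < 55806 → P i := stepQ 55805 Q55805 (allL N55805 (tt N41685 F337885) (tt N79919 F337886) (tt N47707 F161827) (tt N80450 (iv3 F267776)) (tt N29592 F161828) (tt N81370 (iv5 F348242)) (tt N29591 (iv6 D105429)) (tt N92218 D195217))
theorem Q55807 : ∀ i, i < 55807 → P i := stepQ 55806 Q55806 (allL N55806 (tt N29592 (iv1 D105431)) (tt N61500 F178946) (tt N32897 F335465) (tt N32856 F335466) (tt N41782 F335467) (tt N43052 (iv5 F161829)) (tt N92219 D195218) (tt N41779 F335468))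
theorem Q55808 : ∀ i, i < 55808 → P i := stepQ 55807 Q55807 (allL N55807 (tt N32897 (iv1 F324270)) (tt N41779 F321365) (tt N61500 (iv2 F178941)) (tt N51498 F161830) (tt N92218 (iv4 F396314)) (tt N64172 (iv5 F193440)) (tt N51491 F161831) (tt N29592 (iv7 D105432)))
theorem Q55809 : ∀ i, i < 55809 → P i := stepQ 55808 Q55808 (allL N55808 (tt N73621 (iv1 F323798)) (tt N43992 F307952) (tt N48463 F161834) (tt N52349 F161835) (tt N48461 F161836) (tt N76286 F312013) (tt N29594 (iv6 D105434)) (tt N76018 (iv7 F311958)))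
theorem Q55810 : ∀ i, i < 55810 → P i := stepQ 55809 Q55809 (allL N55809 (tt N41801 F314150) (tt N29595 (iv0 D105435)) (tt N74400 F314151) (tt N44866 F314152) (tt N92220 D195219) (tt N72328 (iv5 F361403)) (tt N38322 F315499) (tt N92213 (iv7 F396290)))
theorem Q55811 : ∀ i, i < 55811 → P i := stepQ 55810 Q55810 (allL N55810 (tt N29595 (iv1 D105436)) (tt N41801 F315198) (tt N92213 (iv2 F396294)) (tt N40837 F317428) (tt N92221 D195220) (tt N42335 F315199) (tt N40836 F317429) (tt N74400 F315200))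
theorem Q55812 : ∀ i, i < 55812 → P i := stepQ 55811 Q55811 (allL N55811 (tt N74322 (iv1 F363467)) (tt N63072 F333262) (tt N74320 F333249) (tt N61432 (iv3 F178856)) (tt N92222 D195221) (tt N29595 (iv5 D105437)) (tt N76286 (iv6 F333264)) (tt N74321 F333260))
theorem Q55813 : ∀ i, i < 55813 → P i := stepQ 55812 Q55812 (allL N55812 (tt N92213 (iv1 F396289)) (tt N74400 F315495) (tt N41801 F315496) (tt N61430 (iv3 F178853)) (tt N29598 F161837) (tt N74321 (iv5 F333259)) (tt N41745 F315498) (tt N29595 (iv7 D105438)))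
theorem Q55814 : ∀ i, i < 55814 → P i := stepQ 55813 Q55813 (allL N55813 (tt N54571 F340923) (tt N42658 F340924) (tt N64196 F355722) (tt N29596 (iv3 D105440)) (tt N79969 (iv4 F259113)) (tt N92223 D195222) (tt N92224 D195223) (tt N64197 F355718))
theorem Q55815 : ∀ i, i < 55815 → P i := stepQ 55814 Q55814 (allL N55814 (tt N92225 D195224) (tt N92226 D195225) (tt N92215 (iv2 F396299)) (tt N92223 (iv3 F396342)) (tt N92227 D195226) (tt N29596 (iv5 D105442)) (tt N91083 (iv6 F437181)) (tt N92217 (iv7 F396310)))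
theorem Q55816 : ∀ i, i < 55816 → P i := stepQ 55815 Q55815 (allL N55815 (tt N92219 (iv1 F396325)) (tt N41772 F353421) (tt N92216 (iv2 F396303)) (tt N92224 (iv3 F396344)) (tt N42830 F353422) (tt N78284 F355703) (tt N29596 (iv6 D105443)) (tt N82577 F353423))
theorem Q55817 : ∀ i, i < 55817 → P i := stepQ 55816 Q55816 (allL N55816 (tt N61265 F371522) (tt N92228 D195228) (tt N92229 D195229) (tt N29597 (iv3 D105445)) (tt N92230 D195230) (tt N85068 F371519) (tt N54838 (iv6 F365210)) (tt N92214 (iv7 F396296)))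
theorem Q55818 : ∀ i, i < 55818 → P i := stepQ 55817 Q55817 (allL N55817 (tt N74257 (iv1 F355713)) (tt N91534 F393526) (tt N47713 F355714) (tt N91538 (iv3 F393548)) (tt N29597 (iv4 D105446)) (tt N39948 F355715) (tt N92231 D195231) (tt N91535 (iv7 F393534)))
theorem Q55819 : ∀ i, i < 55819 → P i := stepQ 55818 Q55818 (allL N55818 (tt N92226 (iv1 F396360)) (tt N92225 F396354) (tt N92217 (iv2 F396309)) (tt N85068 (iv3 F371520)) (tt N92232 D195232) (tt N29597 (iv5 D105447)) (tt N92233 D195233) (tt N92215 (iv7 F396301)))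
theorem Q55820 : ∀ i, i < 55820 → P i := stepQ 55819 Q55819 (allL N55819 (tt N40943 F361633) (tt N62721 F361632) (tt N74795 F361629) (tt N54838 F365209) (tt N92231 (iv4 F396382)) (tt N92234 D195234) (tt N29597 (iv6 D105448)) (tt N74794 F361631))
theorem Q55821 : ∀ i, i < 55821 → P i := stepQ 55820 Q55820 (allL N55820 (tt N32936 (iv1 F161840)) (tt N29599 (iv0 D105449)) (tt N32935 F234965) (tt N92228 (iv3 F396369)) (tt N80710 (iv4 F334807)) (tt N81409 (iv5 F334806)) (tt N61513 F234966) (tt N32739 F234967))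
theorem Q55822 : ∀ i, i < 55822 → P i := stepQ 55821 Q55821 (allL N55821 (tt N32935 (iv1 F161845)) (tt N32739 F206245) (tt N29599 (iv2 D105451)) (tt N32922 F161841) (tt N80879 (iv4 F334803)) (tt N85038 (iv5 F371433)) (tt N92235 D195235) (tt N32936 F161842))
theorem Q55823 : ∀ i, i < 55823 → P i := stepQ 55822 Q55822 (allL N55822 (tt N85039 (iv1 F371441)) (tt N50961 (iv0 F334805)) (tt N85038 F371434) (tt N29600 F161847) (tt N92236 D195236) (tt N29599 (iv5 D105453)) (tt N84467 (iv6 F369414)) (tt N32938 F161848))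
theorem Q55824 : ∀ i, i < 55824 → P i := stepQ 55823 Q55823 (allL N55823 (tt N86855 (iv1 F377453)) (tt N86853 (iv0 F377442)) (tt N92235 (iv2 F396395)) (tt N29601 F161849) (tt N81398 (iv4 F334804)) (tt N58935 (iv5 F171486)) (tt N29599 (iv6 D105454)) (tt N92237 D195237))
theorem Q55825 : ∀ i, i < 55825 → P i := stepQ 55824 Q55824 (allL N55824 (tt N29603 (iv1 F161858)) (tt N29600 (iv0 D105460)) (tt N32929 (iv2 F161868)) (tt N74804 F338636) (tt N92238 D195238) (tt N44611 F161857) (tt N92239 D195239) (tt N32930 (iv7 F161869)))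
theorem Q55826 : ∀ i, i < 55826 → P i := stepQ 55825 Q55825 (allL N55825 (tt N29600 (iv1 D105461)) (tt N29603 F161870) (tt N32930 (iv2 F161872)) (tt N92226 (iv3 F396363)) (tt N92240 D195240) (tt N60958 F177325) (tt N32501 F177326) (tt N32929 F161871))
theorem Q55827 : ∀ i, i < 55827 → P i := stepQ 55826 Q55826 (allL N55826 (tt N92241 D195241) (tt N92242 D195242) (tt N32931 F161873) (tt N92243 D195243) (tt N29600 (iv4 D105462)) (tt N92244 D195244) (tt N67373 F361702) (tt N32943 F161874))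
theorem Q55828 : ∀ i, i < 55828 → P i := stepQ 55827 Q55827 (allL N55827 (tt N92133 F395896) (tt N91085 (iv0 F391861)) (tt N32932 F161875) (tt N84467 (iv3 F369413)) (tt N67373 (iv4 F347540)) (tt N58936 (iv5 F171491)) (tt N29600 (iv6 D105463)) (tt N74385 (iv7 F227670)))
theorem Q55829 : ∀ i, i < 55829 → P i := stepQ 55828 Q55828 (allL N55828 (tt N29601 (iv1 D105465)) (tt N32934 F161876) (tt N32933 F161887) (tt N41772 F325421) (tt N45143 F161877) (tt N68816 (iv5 F341599)) (tt N41770 F325422) (tt N32899 (iv7 F161878)))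
theorem Q55830 : ∀ i, i < 55830 → P i := stepQ 55829 Q55829 (allL N55829 (tt N32933 (iv1 F161884)) (tt N32899 (iv0 F161885)) (tt N32934 F161880) (tt N92237 (iv3 F396404)) (tt N61018 F177609) (tt N30422 F161881) (tt N32947 F161882) (tt N29601 (iv7 D105466)))
theorem Q55831 : ∀ i, i < 55831 → P i := stepQ 55830 Q55830 (allL N55830 (tt N63259 F338684) (tt N76300 (iv0 F356345)) (tt N76299 (iv2 F336781)) (tt N78851 (iv3 F251122)) (tt N29602 (iv4 D105470)) (tt N53350 F356337) (tt N92245 D195245) (tt N32923 F161895))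
theorem Q55832 : ∀ i, i < 55832 → P i := stepQ 55831 Q55831 (allL N55831 (tt N85023 F371394) (tt N92246 D195246) (tt N76352 F259187) (tt N29603 F161896) (tt N76302 (iv4 F349033)) (tt N29602 (iv5 D105471)) (tt N74379 (iv6 F227658)) (tt N32924 F161897))
theorem Q55833 : ∀ i, i < 55833 → P i := stepQ 55832 Q55832 (allL N55832 (tt N76396 (iv1 F354842)) (tt N76399 F354841) (tt N76353 (iv2 F259143)) (tt N29604 F161898) (tt N92245 (iv4 F396446)) (tt N92247 D195247) (tt N29602 (iv6 D105472)) (tt N78985 (iv7 F258983)))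
theorem Q55834 : ∀ i, i < 55834 → P i := stepQ 55833 Q55833 (allL N55833 (tt N92242 (iv1 F396432)) (tt N92241 F396429) (tt N32943 F161902) (tt N92248 D195248) (tt N29603 (iv4 D105475)) (tt N92249 D195249) (tt N74380 (iv6 F227660)) (tt N32931 F161903))
theorem Q55835 : ∀ i, i < 55835 → P i := stepQ 55834 Q55834 (allL N55834 (tt N55788 (iv1 F161906)) (tt N55786 (iv0 F161905)) (tt N32946 F161904) (tt N92247 (iv3 F396458)) (tt N73672 (iv4 F340493)) (tt N29604 (iv5 D105476)) (tt N74381 (iv6 F227662)) (tt N61242 (iv7 F178423)))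
theorem Q55836 : ∀ i, i < 55836 → P i := stepQ 55835 Q55835 (allL N55835 (tt N92250 D195250) (tt N92251 D195251) (tt N92252 D195252) (tt N29605 (iv3 D105477)) (tt N38413 F161907) (tt N92253 D195253) (tt N92254 D195254) (tt N38505 F161908))
theorem Q55837 : ∀ i, i < 55837 → P i := stepQ 55836 Q55836 (allL N55836 (tt N37815 F161912) (tt N37807 F161913) (tt N39245 F161909) (tt N92253 (iv3 F396481)) (tt N39101 F161911) (tt N29605 (iv5 D105478)) (tt N92255 D195255) (tt N38506 F161910))
theorem Q55838 : ∀ i, i < 55838 → P i := stepQ 55837 Q55837 (allL N55837 (tt N69073 F212731) (tt N69075 (iv0 F212740)) (tt N39246 F161915) (tt N92254 (iv3 F396483)) (tt N32985 F161916) (tt N92256 D195256) (tt N29605 (iv6 D105479)) (tt N69105 (iv7 F212789)))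
theorem Q55839 : ∀ i, i < 55839 → P i := stepQ 55838 Q55838 (allL N55838 (tt N69119 F212821) (tt N92257 D195257) (tt N92258 D195258) (tt N29606 (iv3 D105480)) (tt N36709 F161917) (tt N92259 D195259) (tt N92260 D195260) (tt N36827 F161918))
theorem Q55840 : ∀ i, i < 55840 → P i := stepQ 55839 Q55839 (allL N55839 (tt N37807 F161922) (tt N37815 F161923) (tt N38506 F161919) (tt N92259 (iv3 F396501)) (tt N39098 F161920) (tt N29606 (iv5 D105481)) (tt N92261 D195261) (tt N39245 F161921))
theorem Q55841 : ∀ i, i < 55841 → P i := stepQ 55840 Q55840 (allL N55840 (tt N37109 F173088) (tt N37112 (iv0 F170830)) (tt N38507 F161924) (tt N92260 (iv3 F396503)) (tt N32235 F161925) (tt N92262 D195262) (tt N29606 (iv6 D105482)) (tt N92263 D195263))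
theorem Q55842 : ∀ i, i < 55842 → P i := stepQ 55841 Q55841 (allL N55841 (tt N68851 (iv1 F211724)) (tt N29607 (iv0 D105483)) (tt N68850 (iv2 F211720)) (tt N66208 F355361) (tt N70683 (iv4 F218101)) (tt N61657 F333530) (tt N92264 D195264) (tt N68849 F211721))
theorem Q55843 : ∀ i, i < 55843 → P i := stepQ 55842 Q55842 (allL N55842 (tt N29607 (iv1 D105484)) (tt N68851 F211725) (tt N68849 F211719) (tt N92265 D195265) (tt N39000 (iv4 F161926)) (tt N92266 D195266) (tt N92267 D195267) (tt N68850 (iv7 F211714)))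
theorem Q55844 : ∀ i, i < 55844 → P i := stepQ 55843 Q55843 (allL N55843 (tt N68850 F211716) (tt N68849 F211712) (tt N29607 (iv2 D105485)) (tt N55850 (iv3 F161940)) (tt N66151 (iv4 F203505)) (tt N92268 D195268) (tt N35951 F161927) (tt N68851 (iv7 F211723)))
theorem Q55845 : ∀ i, i < 55845 → P i := stepQ 55844 Q55844 (allL N55844 (tt N92269 D195269) (tt N85294 (iv0 F372190)) (tt N92268 (iv2 F396524)) (tt N29608 F161928) (tt N92270 D195270) (tt N29607 (iv5 D105486)) (tt N92271 D195271) (tt N68852 (iv7 F211727)))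
theorem Q55846 : ∀ i, i < 55846 → P i := stepQ 55845 Q55845 (allL N55845 (tt N36976 (iv1 F161931)) (tt N29608 (iv0 D105487)) (tt N39241 (iv2 F161932)) (tt N92272 D195272) (tt N39109 F161930) (tt N32982 F161929) (tt N92273 D195273) (tt N38459 (iv7 F161933)))
theorem Q55847 : ∀ i, i < 55847 → P i := stepQ 55846 Q55846 (allL N55846 (tt N29608 (iv1 D105488)) (tt N36976 F161934) (tt N38459 (iv2 F161938)) (tt N61646 (iv3 F343925)) (tt N39108 F161937) (tt N32983 F161936) (tt N61645 F343924) (tt N39241 F161935))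
theorem Q55848 : ∀ i, i < 55848 → P i := stepQ 55847 Q55847 (allL N55847 (tt N92274 D195274) (tt N92275 D195275) (tt N55853 (iv2 F161948)) (tt N92271 (iv3 F396531)) (tt N54004 (iv4 F344176)) (tt N35957 F161939) (tt N29608 (iv6 D105489)) (tt N92276 D195276))
theorem Q55849 : ∀ i, i < 55849 → P i := stepQ 55848 Q55848 (allL N55848 (tt N67658 (iv1 F207589)) (tt N29609 (iv0 D105490)) (tt N67657 (iv2 F213183)) (tt N92277 D195277) (tt N70384 (iv4 F217331)) (tt N92278 D195278) (tt N92279 D195279) (tt N67656 (iv7 F213185)))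
theorem Q55850 : ∀ i, i < 55850 → P i := stepQ 55849 Q55849 (allL N55849 (tt N29609 (iv1 D105491)) (tt N67658 F207590) (tt N67656 F213184) (tt N67896 (iv3 F213181)) (tt N70387 (iv4 F217335)) (tt N92280 D195280) (tt N88711 (iv6 F383948)) (tt N67657 F213182))
theorem Q55851 : ∀ i, i < 55851 → P i := stepQ 55850 Q55850 (allL N55850 (tt N67657 F207587) (tt N67656 F207585) (tt N29609 (iv2 D105492)) (tt N55843 F161940) (tt N57724 (iv4 F167637)) (tt N92281 D195281) (tt N35986 F161941) (tt N67658 (iv7 F207588)))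
theorem Q55852 : ∀ i, i < 55852 → P i := stepQ 55851 Q55851 (allL N55851 (tt N92282 D195282) (tt N92283 D195283) (tt N92281 (iv2 F396566)) (tt N29610 F161942) (tt N92284 D195284) (tt N29609 (iv5 D105493)) (tt N67897 F366065) (tt N67659 (iv7 F207592)))
theorem Q55853 : ∀ i, i < 55853 → P i := stepQ 55852 Q55852 (allL N55852 (tt N37827 F161946) (tt N37805 F161947) (tt N39274 F161943) (tt N92285 D195285) (tt N29610 (iv4 D105494)) (tt N33100 F161944) (tt N76085 F344178) (tt N39275 F161945))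
theorem Q55854 : ∀ i, i < 55854 → P i := stepQ 55853 Q55853 (allL N55853 (tt N92286 D195286) (tt N92287 D195287) (tt N55847 F161948) (tt N67897 (iv3 F366064)) (tt N76085 (iv4 F347615)) (tt N35992 F161949) (tt N29610 (iv6 D105495)) (tt N90058 (iv7 F388445)))
theorem Q55855 : ∀ i, i < 55855 → P i := stepQ 55854 Q55854 (allL N55854 (tt N92288 D195288) (tt N72978 (iv0 F223683)) (tt N92289 D195289) (tt N29611 (iv3 D105496)) (tt N30826 F161950) (tt N92290 D195290) (tt N92291 D195291) (tt N29641 F161951))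
theorem Q55856 : ∀ i, i < 55856 → P i := stepQ 55855 Q55855 (allL N55855 (tt N58390 (iv1 F169253)) (tt N38396 F161955) (tt N29633 F161952) (tt N92290 (iv3 F396596)) (tt N39227 F161954) (tt N29611 (iv5 D105497)) (tt N91348 (iv6 F392829)) (tt N29642 F161953))
theorem Q55857 : ∀ i, i < 55857 → P i := stepQ 55856 Q55856 (allL N55856 (tt N58401 F169293) (tt N40144 F162089) (tt N29634 F161956) (tt N92291 (iv3 F396598)) (tt N29612 F161957) (tt N92292 D195292) (tt N29611 (iv6 D105498)) (tt N41289 (iv7 F161958)))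
theorem Q55858 : ∀ i, i < 55858 → P i := stepQ 55857 Q55857 (allL N55857 (tt N92293 D195293) (tt N71460 (iv0 F220069)) (tt N73301 (iv2 F360500)) (tt N29613 (iv3 D105499)) (tt N36071 F161959) (tt N55936 (iv5 F336181)) (tt N92294 D195294) (tt N29632 F161960))
theorem Q55859 : ∀ i, i < 55859 → P i := stepQ 55858 Q55858 (allL N55858 (tt N38396 F161964) (tt N58390 (iv0 F169252)) (tt N29642 F161961) (tt N55936 F336175) (tt N39226 F161962) (tt N29613 (iv5 D105500)) (tt N92295 D195295) (tt N29633 F161963))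
theorem Q55860 : ∀ i, i < 55860 → P i := stepQ 55859 Q55859 (allL N55859 (tt N92296 D195296) (tt N57535 (iv0 F167067)) (tt N29643 F161965) (tt N92294 (iv3 F396608)) (tt N29614 F161966) (tt N92297 D195297) (tt N29613 (iv6 D105501)) (tt N41567 (iv7 F161967)))
theorem Q55861 : ∀ i, i < 55861 → P i := stepQ 55860 Q55860 (allL N55860 (tt N92298 D195298) (tt N73477 (iv0 F224914)) (tt N92299 D195299) (tt N29615 (iv3 D105502)) (tt N30146 F161968) (tt N92300 D195300) (tt N92301 D195301) (tt N29655 F161969))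
theorem Q55862 : ∀ i, i < 55862 → P i := stepQ 55861 Q55861 (allL N55861 (tt N55893 (iv1 F162066)) (tt N55890 (iv0 F162058)) (tt N29649 F161970) (tt N92300 (iv3 F396629)) (tt N39220 F161972) (tt N29615 (iv5 D105503)) (tt N92302 D195302) (tt N29656 F161971))
theorem Q55863 : ∀ i, i < 55863 → P i := stepQ 55862 Q55862 (allL N55862 (tt N55898 F347238) (tt N40568 F162190) (tt N29650 F161973) (tt N92301 (iv3 F396631)) (tt N29616 F161974) (tt N55929 F344609) (tt N29615 (iv6 D105504)) (tt N71939 (iv7 F347227)))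
theorem Q55864 : ∀ i, i < 55864 → P i := stepQ 55863 Q55863 (allL N55863 (tt N29616 (iv1 D105506)) (tt N29653 F161975) (tt N29652 (iv2 F162021)) (tt N36005 (iv3 F162107)) (tt N61953 F179739) (tt N66217 (iv5 F203690)) (tt N67518 (iv6 F207338)) (tt N29651 F162020))
theorem Q55865 : ∀ i, i < 55865 → P i := stepQ 55864 Q55864 (allL N55864 (tt N29652 (iv1 F161980)) (tt N29651 F161981) (tt N29653 F161976) (tt N67123 (iv3 F206701)) (tt N71939 F344621) (tt N35970 F161977) (tt N29661 F161978) (tt N29616 (iv7 D105507)))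
theorem Q55866 : ∀ i, i < 55866 → P i := stepQ 55865 Q55865 (allL N55865 (tt N55890 (iv1 F162059)) (tt N55893 (iv0 F162065)) (tt N29656 F161982) (tt N39736 F161983) (tt N39217 F161984) (tt N29617 (iv5 D105508)) (tt N92303 D195303) (tt N29649 F161985))
theorem Q55867 : ∀ i, i < 55867 → P i := stepQ 55866 Q55866 (allL N55866 (tt N92304 D195304) (tt N92305 D195305) (tt N29657 F161986) (tt N39737 F161987) (tt N29618 F161988) (tt N92306 D195306) (tt N29617 (iv6 D105509)) (tt N92307 D195307))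
theorem Q55868 : ∀ i, i < 55868 → P i := stepQ 55867 Q55867 (allL N55867 (tt N29661 F161990) (tt N29618 (iv0 D105510)) (tt N29658 F166101) (tt N36009 (iv3 F166069)) (tt N57041 F166066) (tt N36009 F161989) (tt N60084 (iv6 F175511)) (tt N29659 F166102))
theorem Q55869 : ∀ i, i < 55869 → P i := stepQ 55868 Q55868 (allL N55868 (tt N29659 (iv1 F161997)) (tt N29658 (iv0 F161998)) (tt N29661 F161993) (tt N39746 F161994) (tt N92307 (iv4 F396659)) (tt N30457 F161995) (tt N29653 F161996) (tt N29618 (iv7 D105512)))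
theorem Q55870 : ∀ i, i < 55870 → P i := stepQ 55869 Q55869 (allL N55869 (tt N73323 (iv1 F224389)) (tt N29619 (iv0 D105513)) (tt N92308 D195308) (tt N29675 F361838) (tt N92309 D195309) (tt N57617 F361839) (tt N29671 F361840) (tt N92310 D195310))
theorem Q55871 : ∀ i, i < 55871 → P i := stepQ 55870 Q55870 (allL N55870 (tt N29619 (iv1 D105514)) (tt N73323 F224388) (tt N92310 (iv2 F396670)) (tt N92311 D195311) (tt N92312 D195312) (tt N92313 D195313) (tt N92314 D195314) (tt N92308 F396665))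
theorem Q55872 : ∀ i, i < 55872 → P i := stepQ 55871 Q55871 (allL N55871 (tt N92308 (iv1 F396675)) (tt N92310 F396674) (tt N29619 (iv2 D105515)) (tt N29670 F161999) (tt N36016 F162000) (tt N92315 D195315) (tt N57511 (iv6 F166970)) (tt N73323 (iv7 F224387)))
theorem Q55873 : ∀ i, i < 55873 → P i := stepQ 55872 Q55872 (allL N55872 (tt N92316 D195316) (tt N92317 D195317) (tt N92315 (iv2 F396679)) (tt N29620 F162001) (tt N92318 D195318) (tt N29619 (iv5 D105516)) (tt N92319 D195319) (tt N71061 (iv7 F219365)))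
theorem Q55874 : ∀ i, i < 55874 → P i := stepQ 55873 Q55873 (allL N55873 (tt N92310 F396672) (tt N92308 F396673) (tt N73323 (iv2 F224385)) (tt N29621 F162002) (tt N36018 F162003) (tt N71061 (iv5 F219364)) (tt N92320 D195320) (tt N29619 (iv7 D105517)))
theorem Q55875 : ∀ i, i < 55875 → P i := stepQ 55874 Q55874 (allL N55874 (tt N92321 D195321) (tt N92322 D195322) (tt N29675 F162004) (tt N92319 (iv3 F396685)) (tt N59770 (iv4 F173980)) (tt N57514 (iv5 F166978)) (tt N29620 (iv6 D105518)) (tt N92323 D195323))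
theorem Q55876 : ∀ i, i < 55876 → P i := stepQ 55875 Q55875 (allL N55875 (tt N57629 (iv1 F167246)) (tt N57167 F165695) (tt N29677 F162005) (tt N92320 (iv3 F396687)) (tt N29622 F162006) (tt N92324 D195324) (tt N29621 (iv6 D105519)) (tt N57515 (iv7 F166981)))
theorem Q55877 : ∀ i, i < 55877 → P i := stepQ 55876 Q55876 (allL N55876 (tt N71947 (iv1 F361810)) (tt N71950 (iv0 F347248)) (tt N92325 D195325) (tt N29623 (iv3 D105520)) (tt N29632 F162007) (tt N39201 F162008) (tt N92326 D195326) (tt N36071 F162009))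
theorem Q55878 : ∀ i, i < 55878 → P i := stepQ 55877 Q55877 (allL N55877 (tt N33253 F162014) (tt N39131 (iv0 F162012)) (tt N36031 F162010) (tt N92326 (iv3 F396713)) (tt N29624 F162011) (tt N92327 D195327) (tt N29623 (iv6 D105521)) (tt N39488 (iv7 F162023)))
theorem Q55879 : ∀ i, i < 55879 → P i := stepQ 55878 Q55878 (allL N55878 (tt N30371 (iv1 F162028)) (tt N36032 F162029) (tt N36034 F162024) (tt N29637 F162025) (tt N39488 F162026) (tt N60210 (iv5 F175912)) (tt N36074 F162027) (tt N29624 (iv7 D105522)))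
theorem Q55880 : ∀ i, i < 55880 → P i := stepQ 55879 Q55879 (allL N55879 (tt N59830 F174183) (tt N92328 D195328) (tt N92329 D195329) (tt N29625 (iv3 D105523)) (tt N58979 (iv4 F171650)) (tt N71059 (iv5 F219360)) (tt N92330 D195330) (tt N59778 (iv7 F174006)))
theorem Q55881 : ∀ i, i < 55881 → P i := stepQ 55880 Q55880 (allL N55880 (tt N31059 (iv1 F169239)) (tt N31060 F168381) (tt N59777 (iv2 F173999)) (tt N92330 (iv3 F396727)) (tt N29626 F162031) (tt N92331 D195331) (tt N29625 (iv6 D105524)) (tt N91293 (iv7 F392589)))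
theorem Q55882 : ∀ i, i < 55882 → P i := stepQ 55881 Q55881 (allL N55881 (tt N29626 (iv1 D105526)) (tt N60008 F175196) (tt N58458 (iv2 F170672)) (tt N32401 F169226) (tt N58383 F169225) (tt N56484 (iv5 F163800)) (tt N92332 D195332) (tt N58455 (iv7 F170666)))
theorem Q55883 : ∀ i, i < 55883 → P i := stepQ 55882 Q55882 (allL N55882 (tt N58458 (iv1 F169872)) (tt N58455 F170698) (tt N60008 F175195) (tt N58982 (iv3 F171664)) (tt N91293 (iv4 F392588)) (tt N66069 (iv5 F203301)) (tt N60063 F175439) (tt N29626 (iv7 D105527)))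
theorem Q55884 : ∀ i, i < 55884 → P i := stepQ 55883 Q55883 (allL N55883 (tt N92333 D195333) (tt N92334 D195334) (tt N72715 (iv2 F223006)) (tt N29628 (iv3 D105528)) (tt N36035 F162032) (tt N92335 D195335) (tt N92336 D195336) (tt N41230 F162033))
theorem Q55885 : ∀ i, i < 55885 → P i := stepQ 55884 Q55884 (allL N55884 (tt N31931 F162037) (tt N30291 F162038) (tt N32090 F162034) (tt N92335 (iv3 F396741)) (tt N31036 F162035) (tt N29628 (iv5 D105529)) (tt N92337 D195337) (tt N41231 F162036))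
theorem Q55886 : ∀ i, i < 55886 → P i := stepQ 55885 Q55885 (allL N55885 (tt N72666 F222827) (tt N92338 D195338) (tt N32088 F162039) (tt N92336 (iv3 F396744)) (tt N29629 F162040) (tt N92339 D195339) (tt N29628 (iv6 D105530)) (tt N92340 D195340))
theorem Q55887 : ∀ i, i < 55887 → P i := stepQ 55886 Q55886 (allL N55886 (tt N32089 F162043) (tt N29629 (iv0 D105531)) (tt N32086 F202477) (tt N41100 (iv3 F180076)) (tt N92341 D195341) (tt N35765 F162041) (tt N41296 F162042) (tt N32087 F202478))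
theorem Q55888 : ∀ i, i < 55888 → P i := stepQ 55887 Q55887 (allL N55887 (tt N29629 (iv1 D105532)) (tt N32089 F162044) (tt N32087 F202468) (tt N41464 F202610) (tt N92342 D195342) (tt N35781 (iv5 F162045)) (tt N41574 F162046) (tt N32086 F202469))
theorem Q55889 : ∀ i, i < 55889 → P i := stepQ 55888 Q55888 (allL N55888 (tt N32087 (iv1 F162052)) (tt N32086 F162053) (tt N32089 F162048) (tt N36040 F162049) (tt N92340 (iv4 F396756)) (tt N32004 F162050) (tt N41234 F162051) (tt N29629 (iv7 D105533)))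
theorem Q55890 : ∀ i, i < 55890 → P i := stepQ 55889 Q55889 (allL N55889 (tt N92343 D195343) (tt N92344 D195344) (tt N92345 D195345) (tt N29630 (iv3 D105534)) (tt N30906 F162054) (tt N92346 D195346) (tt N92347 D195347) (tt N40083 F162055))
theorem Q55891 : ∀ i, i < 55891 → P i := stepQ 55890 Q55890 (allL N55890 (tt N55861 F162058) (tt N55865 F162059) (tt N55933 F162185) (tt N92346 (iv3 F396786)) (tt N31131 F162057) (tt N29630 (iv5 D105535)) (tt N92348 D195348) (tt N40084 F162056))
theorem Q55892 : ∀ i, i < 55892 → P i := stepQ 55891 Q55891 (allL N55891 (tt N92341 F396763) (tt N92342 (iv0 F396767)) (tt N58392 (iv2 F169261)) (tt N92347 (iv3 F396790)) (tt N30242 F162060) (tt N92349 D195349) (tt N29630 (iv6 D105536)) (tt N92350 D195350))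
theorem Q55893 : ∀ i, i < 55893 → P i := stepQ 55892 Q55892 (allL N55892 (tt N72713 F223001) (tt N92351 D195351) (tt N92352 D195352) (tt N29631 (iv3 D105537)) (tt N33521 F162061) (tt N92353 D195353) (tt N92354 D195354) (tt N41134 F162062))
theorem Q55894 : ∀ i, i < 55894 → P i := stepQ 55893 Q55893 (allL N55893 (tt N55865 F162065) (tt N55861 F162066) (tt N40084 F162063) (tt N92353 (iv3 F396808)) (tt N31132 F162064) (tt N29631 (iv5 D105538)) (tt N92355 D195355) (tt N55933 (iv7 F162182)))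
theorem Q55895 : ∀ i, i < 55895 → P i := stepQ 55894 Q55894 (allL N55894 (tt N41247 (iv1 F162071)) (tt N41249 (iv0 F162069)) (tt N40085 F162067) (tt N92354 (iv3 F396810)) (tt N30241 F162068) (tt N92356 D195356) (tt N29631 (iv6 D105539)) (tt N57559 F167111))
theorem Q55896 : ∀ i, i < 55896 → P i := stepQ 55895 Q55895 (allL N55895 (tt N73301 (iv1 F360504)) (tt N29632 (iv0 D105540)) (tt N71460 (iv2 F220071)) (tt N92357 D195357) (tt N71459 F220072) (tt N71941 F347237) (tt N92358 D195358) (tt N92293 (iv7 F396607)))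
theorem Q55897 : ∀ i, i < 55897 → P i := stepQ 55896 Q55896 (allL N55896 (tt N29632 (iv1 D105541)) (tt N73301 F360519) (tt N92293 F396605) (tt N92359 D195359) (tt N70929 (iv4 F218795)) (tt N71942 F347236) (tt N82324 (iv6 F404355)) (tt N71460 (iv7 F220068)))
theorem Q55898 : ∀ i, i < 55898 → P i := stepQ 55897 Q55897 (allL N55897 (tt N71460 (iv1 F360503)) (tt N92293 F396606) (tt N29632 (iv2 D105542)) (tt N92289 (iv3 F396591)) (tt N92325 (iv4 F396708)) (tt N55935 (iv5 F360491)) (tt N92360 D195361) (tt N73301 F360499))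
theorem Q55899 : ∀ i, i < 55899 → P i := stepQ 55898 Q55898 (allL N55898 (tt N55937 F360521) (tt N55862 (iv0 F347238)) (tt N55935 F360489) (tt N29633 F162072) (tt N56367 (iv4 F360490)) (tt N29632 (iv5 D105543)) (tt N66336 (iv6 F360492)) (tt N55936 (iv7 F336182)))
theorem Q55900 : ∀ i, i < 55900 → P i := stepQ 55899 Q55899 (allL N55899 (tt N92361 D195362) (tt N92362 D195363) (tt N92360 (iv2 F396819)) (tt N29634 F162073) (tt N92326 (iv4 F396714)) (tt N92363 D195364) (tt N29632 (iv6 D105544)) (tt N92364 D195365))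
theorem Q55901 : ∀ i, i < 55901 → P i := stepQ 55900 Q55900 (allL N55900 (tt N29642 (iv1 F162076)) (tt N29633 (iv0 D105545)) (tt N58390 (iv2 F169249)) (tt N92365 D195366) (tt N31866 F162075) (tt N29647 F162074) (tt N92366 D195367) (tt N38396 F162077))
theorem Q55902 : ∀ i, i < 55902 → P i := stepQ 55901 Q55901 (allL N55901 (tt N42752 F360495) (tt N92367 D195368) (tt N91348 (iv2 F392828)) (tt N66336 F360493) (tt N65621 (iv4 F202139)) (tt N92368 D195369) (tt N29633 (iv6 D105546)) (tt N91346 (iv7 F392824)))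
theorem Q55903 : ∀ i, i < 55903 → P i := stepQ 55902 Q55902 (allL N55902 (tt N41289 (iv1 F162084)) (tt N29634 (iv0 D105547)) (tt N58401 (iv2 F169290)) (tt N83180 F365055) (tt N33064 F162078) (tt N92369 D195370) (tt N57543 F167085) (tt N40144 (iv7 F162079)))
theorem Q55904 : ∀ i, i < 55904 → P i := stepQ 55903 Q55903 (allL N55903 (tt N29634 (iv1 D105548)) (tt N41289 F162080) (tt N40144 F162082) (tt N91343 (iv3 F392814)) (tt N33065 (iv4 F162081)) (tt N92370 D195371) (tt N92371 D195372) (tt N58401 (iv7 F169291)))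
theorem Q55905 : ∀ i, i < 55905 → P i := stepQ 55904 Q55904 (allL N55904 (tt N92372 D195373) (tt N92373 D195374) (tt N92292 (iv2 F396601)) (tt N92363 (iv3 F396820)) (tt N92374 D195375) (tt N29634 (iv5 D105549)) (tt N92368 (iv6 F396837)) (tt N92375 D195376))
theorem Q55906 : ∀ i, i < 55906 → P i := stepQ 55905 Q55905 (allL N55905 (tt N40144 (iv1 F162088)) (tt N58401 (iv0 F169292)) (tt N41289 F162085) (tt N92364 (iv3 F396821)) (tt N29637 F162086) (tt N92375 (iv5 F396857)) (tt N41567 F162087) (tt N29634 (iv7 D105550)))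
theorem Q55907 : ∀ i, i < 55907 → P i := stepQ 55906 Q55906 (allL N55906 (tt N41292 F162093) (tt N31026 F162092) (tt N33482 F162090) (tt N92376 D195377) (tt N29635 (iv4 D105551)) (tt N92377 D195378) (tt N57547 (iv6 F167089)) (tt N41290 F162091))
theorem Q55908 : ∀ i, i < 55908 → P i := stepQ 55907 Q55907 (allL N55907 (tt N30480 (iv1 F162101)) (tt N29636 (iv0 D105552)) (tt N30478 (iv2 F162095)) (tt N36059 (iv3 F162098)) (tt N63788 F319215) (tt N36059 F162094) (tt N67688 (iv6 F207617)) (tt N30479 F162100))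
theorem Q55909 : ∀ i, i < 55909 → P i := stepQ 55908 Q55908 (allL N55908 (tt N92378 D195379) (tt N67109 F362008) (tt N30477 F162116) (tt N77981 (iv3 F245471)) (tt N29636 (iv4 D105553)) (tt N92379 D195380) (tt N29638 F162117) (tt N92380 D195381))
theorem Q55910 : ∀ i, i < 55910 → P i := stepQ 55909 Q55909 (allL N55909 (tt N30479 (iv1 F162121)) (tt N30478 F162122) (tt N30480 F162118) (tt N60210 (iv3 F175910)) (tt N92380 (iv4 F396882)) (tt N29637 F162119) (tt N30473 F162120) (tt N29636 (iv7 D105554)))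
theorem Q55911 : ∀ i, i < 55911 → P i := stepQ 55910 Q55910 (allL N55910 (tt N57334 (iv1 F166244)) (tt N57337 (iv0 F166247)) (tt N30476 F162123) (tt N77980 (iv3 F245469)) (tt N33000 F162125) (tt N29638 (iv5 D105555)) (tt N85801 F374014) (tt N30469 F162124))
theorem Q55912 : ∀ i, i < 55912 → P i := stepQ 55911 Q55911 (allL N55911 (tt N92381 D195382) (tt N92382 D195383) (tt N92383 D195384) (tt N29639 (iv3 D105556)) (tt N29641 F162126) (tt N70143 (iv5 F216778)) (tt N92384 D195385) (tt N30826 F162127))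
theorem Q55913 : ∀ i, i < 55913 → P i := stepQ 55912 Q55912 (allL N55912 (tt N40316 (iv1 F162131)) (tt N30933 (iv0 F162130)) (tt N30884 F162128) (tt N92384 (iv3 F396896)) (tt N29640 F162129) (tt N92385 D195386) (tt N29639 (iv6 D105557)) (tt N40408 (iv7 F162132)))
theorem Q55914 : ∀ i, i < 55914 → P i := stepQ 55913 Q55913 (allL N55913 (tt N30886 (iv1 F162138)) (tt N30885 F162139) (tt N30888 F162133) (tt N29645 F162134) (tt N40408 F162135) (tt N40338 F162136) (tt N30830 F162137) (tt N29640 (iv7 D105558)))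
theorem Q55915 : ∀ i, i < 55915 → P i := stepQ 55914 Q55914 (allL N55914 (tt N92289 (iv1 F396594)) (tt N29641 (iv0 D105559)) (tt N72978 (iv2 F223684)) (tt N65915 F202856) (tt N72977 F223685) (tt N92386 D195387) (tt N92387 D195388) (tt N92288 (iv7 F396589)))
theorem Q55916 : ∀ i, i < 55916 → P i := stepQ 55915 Q55915 (allL N55915 (tt N29641 (iv1 D105560)) (tt N92289 F396595) (tt N92288 F396587) (tt N72709 F222996) (tt N62192 (iv4 F180123)) (tt N92388 D195389) (tt N92389 D195390) (tt N72978 (iv7 F223682)))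
theorem Q55917 : ∀ i, i < 55917 → P i := stepQ 55916 Q55916 (allL N55916 (tt N72978 (iv1 F396590)) (tt N92288 F396588) (tt N29641 (iv2 D105561)) (tt N73301 F360501) (tt N92383 (iv4 F396891)) (tt N73300 (iv5 F360518)) (tt N92390 D195391) (tt N92289 (iv7 F396593)))
theorem Q55918 : ∀ i, i < 55918 → P i := stepQ 55917 Q55917 (allL N55917 (tt N92391 D195392) (tt N92392 D195393) (tt N73300 (iv2 F336176)) (tt N29642 F162140) (tt N73306 F364299) (tt N29641 (iv5 D105562)) (tt N92393 D195394) (tt N92290 (iv7 F396597)))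
theorem Q55919 : ∀ i, i < 55919 → P i := stepQ 55918 Q55918 (allL N55918 (tt N92394 D195395) (tt N92395 D195396) (tt N92390 (iv2 F396906)) (tt N29643 F162141) (tt N92384 (iv4 F396897)) (tt N92396 D195397) (tt N29641 (iv6 D105563)) (tt N92397 D195398))
theorem Q55920 : ∀ i, i < 55920 → P i := stepQ 55919 Q55919 (allL N55919 (tt N92398 D195399) (tt N92399 D195400) (tt N92295 (iv2 F396611)) (tt N92393 (iv3 F396907)) (tt N71060 (iv4 F219363)) (tt N92400 D195401) (tt N29642 (iv6 D105564)) (tt N92401 D195402))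
theorem Q55921 : ∀ i, i < 55921 → P i := stepQ 55920 Q55920 (allL N55920 (tt N41567 (iv1 F162148)) (tt N29643 (iv0 D105565)) (tt N92296 F396615) (tt N92303 (iv3 F396639)) (tt N30246 (iv4 F162149)) (tt N92402 D195403) (tt N39736 F344620) (tt N57535 F167072))
theorem Q55922 : ∀ i, i < 55922 → P i := stepQ 55921 Q55921 (allL N55921 (tt N29643 (iv1 D105566)) (tt N41567 F162142) (tt N57535 (iv2 F167065)) (tt N64655 (iv3 F365423)) (tt N30247 (iv4 F162143)) (tt N92403 D195404) (tt N39414 F162144) (tt N92296 (iv7 F396617)))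
theorem Q55923 : ∀ i, i < 55923 → P i := stepQ 55922 Q55922 (allL N55922 (tt N92404 D195405) (tt N92405 D195406) (tt N92297 (iv2 F396618)) (tt N92396 (iv3 F396908)) (tt N92406 D195407) (tt N29643 (iv5 D105567)) (tt N92400 (iv6 F396912)) (tt N92407 D195408))
theorem Q55924 : ∀ i, i < 55924 → P i := stepQ 55923 Q55923 (allL N55923 (tt N57535 (iv1 F167068)) (tt N92296 F396616) (tt N41567 F162145) (tt N92397 (iv3 F396909)) (tt N29645 F162146) (tt N92407 (iv5 F396917)) (tt N41289 F162147) (tt N29643 (iv7 D105568)))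
theorem Q55925 : ∀ i, i < 55925 → P i := stepQ 55924 Q55924 (allL N55924 (tt N41236 (iv1 F162160)) (tt N41570 (iv0 F162159)) (tt N33559 F162156) (tt N92408 D195409) (tt N29644 (iv4 D105569)) (tt N92409 D195410) (tt N44183 F162157) (tt N41568 F162158))
theorem Q55926 : ∀ i, i < 55926 → P i := stepQ 55925 Q55925 (allL N55925 (tt N32532 (iv1 F328027)) (tt N33732 (iv0 F328024)) (tt N39720 F162161) (tt N29653 F162162) (tt N33677 (iv4 F328028)) (tt N33683 F327565) (tt N39746 F162165) (tt N29646 (iv7 D105570)))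
theorem Q55927 : ∀ i, i < 55927 → P i := stepQ 55926 Q55926 (allL N55926 (tt N92410 D195411) (tt N92411 D195412) (tt N92412 D195413) (tt N29647 (iv3 D105571)) (tt N33255 F162168) (tt N92365 (iv5 F396824)) (tt N92413 D195414) (tt N38395 F162169))
theorem Q55928 : ∀ i, i < 55928 → P i := stepQ 55927 Q55927 (allL N55927 (tt N57634 F168295) (tt N57631 (iv0 F168321)) (tt N58391 (iv2 F169254)) (tt N92413 (iv3 F396937)) (tt N30239 F162170) (tt N92414 D195415) (tt N29647 (iv6 D105572)) (tt N57565 (iv7 F167125)))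
theorem Q55929 : ∀ i, i < 55929 → P i := stepQ 55928 Q55928 (allL N55928 (tt N39732 (iv1 F162171)) (tt N29648 (iv0 D105573)) (tt N39735 (iv2 F218965)) (tt N92415 D195416) (tt N71768 (iv4 F220536)) (tt N55937 (iv5 F344611)) (tt N92416 D195417) (tt N39734 (iv7 F218968)))
theorem Q55930 : ∀ i, i < 55930 → P i := stepQ 55929 Q55929 (allL N55929 (tt N29648 (iv1 D105574)) (tt N39732 F162175) (tt N39734 F218966) (tt N92417 D195418) (tt N70965 (iv4 F218961)) (tt N55862 (iv5 F344609)) (tt N57567 F336214) (tt N39735 F218964))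
theorem Q55931 : ∀ i, i < 55931 → P i := stepQ 55930 Q55930 (allL N55930 (tt N39735 (iv1 F162176)) (tt N39734 F162174) (tt N29648 (iv2 D105575)) (tt N92299 (iv3 F396624)) (tt N39179 F162172) (tt N57532 (iv5 F344618)) (tt N92418 D195419) (tt N39732 F162173))
theorem Q55932 : ∀ i, i < 55932 → P i := stepQ 55931 Q55931 (allL N55931 (tt N69032 F342911) (tt N69035 F342912) (tt N57532 F342913) (tt N29649 F162177) (tt N38173 F342914) (tt N29648 (iv5 D105576)) (tt N38172 F342915) (tt N39736 F162178))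
theorem Q55933 : ∀ i, i < 55933 → P i := stepQ 55932 Q55932 (allL N55932 (tt N92419 D195420) (tt N92420 D195421) (tt N92418 (iv2 F396951)) (tt N29650 F162179) (tt N39181 F162180) (tt N61970 F344610) (tt N29648 (iv6 D105577)) (tt N92421 D195422))
theorem Q55934 : ∀ i, i < 55934 → P i := stepQ 55933 Q55933 (allL N55933 (tt N29649 (iv1 D105578)) (tt N29656 F162181) (tt N55890 (iv2 F162185)) (tt N74121 (iv3 F226833)) (tt N31044 F162184) (tt N31023 F162183) (tt N92422 D195423) (tt N55893 F162182))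
theorem Q55935 : ∀ i, i < 55935 → P i := stepQ 55934 Q55934 (allL N55934 (tt N92423 D195424) (tt N92424 D195425) (tt N92302 (iv2 F396633)) (tt N38172 F344604) (tt N38174 F344605) (tt N66340 F344606) (tt N29649 (iv6 D105579)) (tt N57533 F344607))
theorem Q55936 : ∀ i, i < 55936 → P i := stepQ 55935 Q55935 (allL N55935 (tt N71939 (iv1 F347226)) (tt N29650 (iv0 D105580)) (tt N55898 (iv2 F360489)) (tt N92425 D195426) (tt N33118 F162186) (tt N55897 F360491) (tt N57591 F167197) (tt N40568 (iv7 F162187)))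
theorem Q55937 : ∀ i, i < 55937 → P i := stepQ 55936 Q55936 (allL N55936 (tt N29650 (iv1 D105581)) (tt N71939 (iv0 F347221)) (tt N40568 F163646) (tt N55858 (iv3 F336175)) (tt N33119 (iv4 F163645)) (tt N55857 F336181) (tt N92426 D195427) (tt N55898 F336182))
theorem Q55938 : ∀ i, i < 55938 → P i := stepQ 55937 Q55937 (allL N55937 (tt N40568 F162189) (tt N55898 (iv0 F360521)) (tt N71939 F347228) (tt N92421 (iv3 F396956)) (tt N29653 F162188) (tt N55928 F344611) (tt N92307 (iv6 F396661)) (tt N29650 (iv7 D105583)))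
theorem Q55939 : ∀ i, i < 55939 → P i := stepQ 55938 Q55938 (allL N55938 (tt N61954 (iv1 F179746)) (tt N29664 (iv0 F162192)) (tt N36181 F162191) (tt N72725 F336170) (tt N29651 (iv4 D105584)) (tt N72724 (iv5 F336173)) (tt N57594 (iv6 F167200)) (tt N61953 (iv7 F179738)))
theorem Q55940 : ∀ i, i < 55940 → P i := stepQ 55939 Q55939 (allL N55939 (tt N66174 F203580) (tt N69033 (iv0 F212496)) (tt N36182 F162193) (tt N36103 F162194) (tt N92427 D195428) (tt N29651 (iv5 D105585)) (tt N36103 F162195) (tt N66217 (iv7 F203688)))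
theorem Q55941 : ∀ i, i < 55941 → P i := stepQ 55940 Q55940 (allL N55940 (tt N29664 F162197) (tt N61954 F179745) (tt N61953 (iv2 F179740)) (tt N62393 (iv3 F181083)) (tt N29652 (iv4 D105586)) (tt N92428 D195429) (tt N92429 D195430) (tt N36181 F162196))
theorem Q55942 : ∀ i, i < 55942 → P i := stepQ 55941 Q55941 (allL N55941 (tt N37934 F162201) (tt N37937 (iv0 F170837)) (tt N67518 (iv2 F207336)) (tt N29687 F162198) (tt N92429 (iv4 F396989)) (tt N37849 F162199) (tt N29652 (iv6 D105587)) (tt N41299 F162200))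
theorem Q55943 : ∀ i, i < 55943 → P i := stepQ 55942 Q55942 (allL N55942 (tt N59017 (iv1 F171757)) (tt N36199 (iv0 F166084)) (tt N67124 (iv2 F206707)) (tt N29661 F162202) (tt N40717 (iv4 F166082)) (tt N38440 F162203) (tt N67123 (iv6 F206704)) (tt N29654 (iv7 D105590)))
theorem Q55944 : ∀ i, i < 55944 → P i := stepQ 55943 Q55943 (allL N55943 (tt N92299 (iv1 F396627)) (tt N29655 (iv0 D105591)) (tt N73477 (iv2 F224916)) (tt N92430 D195431) (tt N73476 F224917) (tt N92391 (iv5 F400470)) (tt N57584 (iv6 F387487)) (tt N92298 (iv7 F396623)))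
theorem Q55945 : ∀ i, i < 55945 → P i := stepQ 55944 Q55944 (allL N55944 (tt N29655 (iv1 D105592)) (tt N92299 F396628) (tt N92298 F396621) (tt N73315 (iv3 F224349)) (tt N62340 (iv4 F180869)) (tt N92392 (iv5 F405340)) (tt N74725 (iv6 F404006)) (tt N73477 (iv7 F224913)))
theorem Q55946 : ∀ i, i < 55946 → P i := stepQ 55945 Q55945 (allL N55945 (tt N73477 F224915) (tt N92298 F396622) (tt N29655 (iv2 D105593)) (tt N39732 F162204) (tt N70126 (iv4 F216751)) (tt N92431 D195435) (tt N91755 (iv6 F394320)) (tt N92299 (iv7 F396626)))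
theorem Q55947 : ∀ i, i < 55947 → P i := stepQ 55946 Q55946 (allL N55946 (tt N92432 D195436) (tt N92433 D195437) (tt N92431 (iv2 F396994)) (tt N29656 F162205) (tt N92434 D195438) (tt N29655 (iv5 D105594)) (tt N92435 D195439) (tt N92300 (iv7 F396630)))
theorem Q55948 : ∀ i, i < 55948 → P i := stepQ 55947 Q55947 (allL N55947 (tt N92436 D195440) (tt N92437 D195441) (tt N91755 (iv2 F394318)) (tt N29657 F162206) (tt N70128 (iv4 F216759)) (tt N92438 D195442) (tt N29655 (iv6 D105595)) (tt N92439 D195443))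
theorem Q55949 : ∀ i, i < 55949 → P i := stepQ 55948 Q55948 (allL N55948 (tt N92440 D195444) (tt N92441 D195445) (tt N92303 (iv2 F396638)) (tt N92435 (iv3 F396998)) (tt N71049 (iv4 F219350)) (tt N92442 D195446) (tt N29656 (iv6 D105596)) (tt N92443 D195447))
theorem Q55950 : ∀ i, i < 55950 → P i := stepQ 55949 Q55949 (allL N55949 (tt N92307 (iv1 F396663)) (tt N29657 (iv0 D105597)) (tt N92304 F396642) (tt N92444 D195448) (tt N30293 F166137) (tt N92445 D195449) (tt N92446 D195450) (tt N92305 (iv7 F396649)))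
theorem Q55951 : ∀ i, i < 55951 → P i := stepQ 55950 Q55950 (allL N55950 (tt N29657 (iv1 D105598)) (tt N92307 F396662) (tt N92305 F396651) (tt N92447 D195451) (tt N30294 F166500) (tt N92448 D195452) (tt N57574 F167171) (tt N92304 F396643))
theorem Q55952 : ∀ i, i < 55952 → P i := stepQ 55951 Q55951 (allL N55951 (tt N92449 D195453) (tt N92450 D195454) (tt N92306 (iv2 F396652)) (tt N92438 (iv3 F397000)) (tt N67045 (iv4 F364907)) (tt N29657 (iv5 D105599)) (tt N92442 (iv6 F397007)) (tt N92451 D195455))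
theorem Q55953 : ∀ i, i < 55953 → P i := stepQ 55952 Q55952 (allL N55952 (tt N92305 (iv1 F396648)) (tt N92304 F396646) (tt N92307 (iv2 F396657)) (tt N92439 (iv3 F397001)) (tt N29661 F162207) (tt N92451 (iv5 F397043)) (tt N71939 F347229) (tt N29657 (iv7 D105600)))
theorem Q55954 : ∀ i, i < 55954 → P i := stepQ 55953 Q55953 (allL N55953 (tt N57043 F166104) (tt N29667 F166105) (tt N57041 F166106) (tt N48232 F321643) (tt N29658 (iv4 D105603)) (tt N92452 D195456) (tt N92453 D195457) (tt N36204 F166107))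
theorem Q55955 : ∀ i, i < 55955 → P i := stepQ 55954 Q55954 (allL N55954 (tt N57633 F167257) (tt N65835 (iv0 F202623)) (tt N60084 (iv2 F175509)) (tt N29688 F166108) (tt N92453 (iv4 F397051)) (tt N31262 F162211) (tt N29658 (iv6 D105604)) (tt N41584 F166109))
theorem Q55956 : ∀ i, i < 55956 → P i := stepQ 55955 Q55955 (allL N55955 (tt N29667 F166097) (tt N57043 F166098) (tt N36204 F166099) (tt N92454 D195458) (tt N29659 (iv4 D105607)) (tt N92455 D195459) (tt N57578 (iv6 F167174)) (tt N57041 F166100))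
theorem Q55957 : ∀ i, i < 55957 → P i := stepQ 55956 Q55956 (allL N55956 (tt N68063 (iv1 F209096)) (tt N68064 (iv0 F209100)) (tt N30455 F162216) (tt N36536 F329466) (tt N29660 (iv4 D105608)) (tt N36530 F329467) (tt N30432 F162217) (tt N78254 (iv7 F247407)))
theorem Q55958 : ∀ i, i < 55958 → P i := stepQ 55957 Q55957 (allL N55957 (tt N57037 (iv1 F165278)) (tt N29662 (iv0 D105609)) (tt N57036 (iv2 F172168)) (tt N39729 F162218) (tt N92456 D195460) (tt N92457 D195461) (tt N92458 D195462) (tt N57035 F172169))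
theorem Q55959 : ∀ i, i < 55959 → P i := stepQ 55958 Q55958 (allL N55958 (tt N29662 (iv1 D105610)) (tt N57037 F165280) (tt N57035 F172167) (tt N92322 F396698) (tt N57082 (iv4 F165359)) (tt N92459 D195463) (tt N57596 (iv6 F397090)) (tt N57036 (iv7 F172166)))
theorem Q55960 : ∀ i, i < 55960 → P i := stepQ 55959 Q55959 (allL N55959 (tt N57036 (iv1 F165279)) (tt N57035 F165274) (tt N29662 (iv2 D105611)) (tt N61951 (iv3 F179729)) (tt N56370 (iv4 F163627)) (tt N92460 D195465) (tt N92459 F397069) (tt N57037 (iv7 F165277)))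
theorem Q55961 : ∀ i, i < 55961 → P i := stepQ 55960 Q55960 (allL N55960 (tt N92461 D195466) (tt N92462 D195467) (tt N92460 (iv2 F397070)) (tt N29663 F162219) (tt N92463 D195468) (tt N29662 (iv5 D105612)) (tt N92464 D195469) (tt N57038 (iv7 F165282)))
theorem Q55962 : ∀ i, i < 55962 → P i := stepQ 55961 Q55961 (allL N55961 (tt N92465 D195470) (tt N56951 (iv0 F360522)) (tt N92459 (iv2 F397067)) (tt N29664 F162220) (tt N56371 (iv4 F163637)) (tt N57035 (iv5 F347204)) (tt N29662 (iv6 D105613)) (tt N92457 (iv7 F397063)))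
theorem Q55963 : ∀ i, i < 55963 → P i := stepQ 55962 Q55962 (allL N55962 (tt N92466 D195471) (tt N92467 D195472) (tt N59914 (iv2 F174598)) (tt N92464 (iv3 F397073)) (tt N59895 (iv4 F174522)) (tt N92468 D195473) (tt N29663 (iv6 D105614)) (tt N92469 D195474))
theorem Q55964 : ∀ i, i < 55964 → P i := stepQ 55963 Q55963 (allL N55963 (tt N40900 F347205) (tt N74730 (iv0 F228686)) (tt N39726 (iv2 F347209)) (tt N57035 F347206) (tt N39178 F347207) (tt N29664 (iv5 D105615)) (tt N92468 (iv6 F397077)) (tt N39729 F347208))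
theorem Q55965 : ∀ i, i < 55965 → P i := stepQ 55964 Q55964 (allL N55964 (tt N61953 (iv1 F179737)) (tt N36181 (iv0 F163623)) (tt N61954 (iv2 F179742)) (tt N92457 (iv3 F397062)) (tt N56368 (iv4 F163618)) (tt N39729 F344619) (tt N57043 (iv6 F165295)) (tt N29664 (iv7 D105616)))
theorem Q55966 : ∀ i, i < 55966 → P i := stepQ 55965 Q55965 (allL N55965 (tt N61951 (iv1 F179732)) (tt N29665 (iv0 D105617)) (tt N61950 F360877) (tt N92470 D195475) (tt N62090 (iv4 F179996)) (tt N92471 D195476) (tt N37896 F360878) (tt N61949 F360879))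
theorem Q55967 : ∀ i, i < 55967 → P i := stepQ 55966 Q55966 (allL N55966 (tt N29665 (iv1 D105618)) (tt N61951 F179734) (tt N61949 (iv2 F360880)) (tt N92472 D195477) (tt N62030 (iv4 F179841)) (tt N92473 D195478) (tt N92474 D195479) (tt N61950 (iv7 F360881)))
theorem Q55968 : ∀ i, i < 55968 → P i := stepQ 55967 Q55967 (allL N55967 (tt N61950 (iv1 F179733)) (tt N61949 F179728) (tt N29665 (iv2 D105619)) (tt N57037 (iv3 F165275)) (tt N61775 (iv4 F179472)) (tt N92475 D195480) (tt N92476 D195481) (tt N61951 (iv7 F179731)))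
theorem Q55969 : ∀ i, i < 55969 → P i := stepQ 55968 Q55968 (allL N55968 (tt N92477 D195482) (tt N92478 D195483) (tt N92475 (iv2 F397118)) (tt N29666 F162221) (tt N92479 D195484) (tt N29665 (iv5 D105620)) (tt N92480 D195485) (tt N59913 (iv7 F174597)))
theorem Q55970 : ∀ i, i < 55970 → P i := stepQ 55969 Q55969 (allL N55969 (tt N92481 D195486) (tt N92482 D195487) (tt N92476 (iv2 F397119)) (tt N29667 F162222) (tt N61777 (iv4 F179480)) (tt N92483 D195488) (tt N29665 (iv6 D105621)) (tt N92484 D195489))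
theorem Q55971 : ∀ i, i < 55971 → P i := stepQ 55970 Q55970 (allL N55970 (tt N91393 F392963) (tt N92485 D195490) (tt N57040 (iv2 F165285)) (tt N92480 (iv3 F397125)) (tt N31133 F162223) (tt N92486 D195491) (tt N29666 (iv6 D105622)) (tt N92487 D195492))
theorem Q55972 : ∀ i, i < 55972 → P i := stepQ 55971 Q55971 (allL N55971 (tt N92488 D195493) (tt N92489 D195494) (tt N57042 (iv2 F165292)) (tt N92483 (iv3 F397126)) (tt N77729 F331739) (tt N29667 (iv5 D105625)) (tt N92486 (iv6 F397131)) (tt N92490 D195495))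
theorem Q55973 : ∀ i, i < 55973 → P i := stepQ 55972 Q55972 (allL N55972 (tt N36204 (iv1 F162226)) (tt N57041 F165291) (tt N57043 (iv2 F165293)) (tt N92484 (iv3 F397128)) (tt N57034 (iv4 F165269)) (tt N92490 (iv5 F397145)) (tt N61954 (iv6 F179744)) (tt N29667 (iv7 D105626)))
theorem Q55974 : ∀ i, i < 55974 → P i := stepQ 55973 Q55973 (allL N55973 (tt N92472 F397111) (tt N92491 D195496) (tt N69709 (iv2 F215936)) (tt N29668 (iv3 D105627)) (tt N62249 F180475) (tt N65381 F353530) (tt N92492 D195497) (tt N69712 (iv7 F215938)))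
theorem Q55975 : ∀ i, i < 55975 → P i := stepQ 55974 Q55974 (allL N55974 (tt N74277 (iv1 F227225)) (tt N40224 F162322) (tt N40901 F162227) (tt N65381 (iv3 F353525)) (tt N65390 F353474) (tt N29668 (iv5 D105628)) (tt N65379 (iv6 F353526)) (tt N73326 (iv7 F224400)))
theorem Q55976 : ∀ i, i < 55976 → P i := stepQ 55975 Q55975 (allL N55975 (tt N67105 (iv1 F349959)) (tt N62393 F349997) (tt N40902 F162228) (tt N92492 (iv3 F397151)) (tt N40899 F162229) (tt N92491 (iv5 F397148)) (tt N29668 (iv6 D105629)) (tt N73406 (iv7 F350009)))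
theorem Q55977 : ∀ i, i < 55977 → P i := stepQ 55976 Q55976 (allL N55976 (tt N39726 (iv1 F219215)) (tt N39729 (iv0 F219214)) (tt N74730 (iv2 F347272)) (tt N29669 (iv3 D105630)) (tt N40920 F162230) (tt N74720 F347220) (tt N90970 (iv6 F391423)) (tt N40900 F162231))
theorem Q55978 : ∀ i, i < 55978 → P i := stepQ 55977 Q55977 (allL N55977 (tt N40224 (iv1 F162321)) (tt N74277 (iv0 F227224)) (tt N73326 (iv2 F224399)) (tt N74720 F361808) (tt N92493 D195498) (tt N29669 (iv5 D105631)) (tt N74718 (iv6 F361809)) (tt N40901 F162232))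
theorem Q55979 : ∀ i, i < 55979 → P i := stepQ 55978 Q55978 (allL N55978 (tt N48232 F322290) (tt N73611 (iv0 F348354)) (tt N73327 (iv2 F224403)) (tt N90970 (iv3 F391422)) (tt N40911 F162233) (tt N92494 D195499) (tt N29669 (iv6 D105632)) (tt N73612 F322291))
theorem Q55980 : ∀ i, i < 55980 → P i := stepQ 55979 Q55979 (allL N55979 (tt N72725 (iv1 F223030)) (tt N72722 (iv0 F223024)) (tt N29671 F162234) (tt N92315 (iv3 F396680)) (tt N92495 D195500) (tt N29670 (iv5 D105633)) (tt N92308 (iv6 F396664)) (tt N73324 (iv7 F224391)))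
theorem Q55981 : ∀ i, i < 55981 → P i := stepQ 55980 Q55980 (allL N55980 (tt N73324 (iv1 F224393)) (tt N29671 (iv0 D105634)) (tt N72725 (iv2 F223027)) (tt N67105 F336171) (tt N63795 (iv4 F346332)) (tt N41237 F205122) (tt N63794 F346333) (tt N72722 (iv7 F223023)))
theorem Q55982 : ∀ i, i < 55982 → P i := stepQ 55981 Q55981 (allL N55981 (tt N29671 (iv1 D105635)) (tt N73324 (iv0 F224392)) (tt N72722 (iv2 F223022)) (tt N61953 F336174) (tt N71747 (iv4 F364300)) (tt N41238 (iv5 F162345)) (tt N92496 D195501) (tt N72725 (iv7 F223028)))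
theorem Q55983 : ∀ i, i < 55983 → P i := stepQ 55982 Q55982 (allL N55982 (tt N92497 D195502) (tt N60067 F227278) (tt N92495 (iv2 F397156)) (tt N92498 D195503) (tt N29671 (iv4 D105636)) (tt N58750 (iv5 F170586)) (tt N92309 (iv6 F396667)) (tt N73328 (iv7 F224405)))
theorem Q55984 : ∀ i, i < 55984 → P i := stepQ 55983 Q55983 (allL N55983 (tt N92457 F397064) (tt N92459 (iv0 F397068)) (tt N92465 F397075) (tt N29672 (iv3 D105638)) (tt N92499 D195504) (tt N31025 F162236) (tt N92500 D195505) (tt N56951 (iv7 F165111)))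
theorem Q55985 : ∀ i, i < 55985 → P i := stepQ 55984 Q55984 (allL N55984 (tt N91345 (iv1 F392821)) (tt N89512 (iv0 F386693)) (tt N59816 (iv2 F174127)) (tt N92500 (iv3 F397179)) (tt N59774 (iv4 F173995)) (tt N92501 D195506) (tt N29672 (iv6 D105639)) (tt N91349 F392834))
theorem Q55986 : ∀ i, i < 55986 → P i := stepQ 55985 Q55985 (allL N55985 (tt N92471 F397109) (tt N92473 (iv0 F397117)) (tt N92502 D195507) (tt N29673 (iv3 D105640)) (tt N89290 (iv4 F385944)) (tt N41235 F162237) (tt N92503 D195508) (tt N59815 (iv7 F174126)))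
theorem Q55987 : ∀ i, i < 55987 → P i := stepQ 55986 Q55986 (allL N55986 (tt N92504 D195509) (tt N92505 D195510) (tt N56953 (iv2 F165114)) (tt N92503 (iv3 F397187)) (tt N31053 F162238) (tt N92506 D195511) (tt N29673 (iv6 D105641)) (tt N92507 D195512))
theorem Q55988 : ∀ i, i < 55988 → P i := stepQ 55987 Q55987 (allL N55987 (tt N83217 (iv1 F352019)) (tt N86394 F376078) (tt N86393 (iv2 F376071)) (tt N29674 (iv3 D105642)) (tt N92498 (iv4 F397170)) (tt N31012 F162239) (tt N91324 (iv6 F392740)) (tt N39225 F162240))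
theorem Q55989 : ∀ i, i < 55989 → P i := stepQ 55988 Q55988 (allL N55988 (tt N41077 F347190) (tt N60325 F347191) (tt N59770 (iv2 F173979)) (tt N91324 (iv3 F392738)) (tt N29675 F162241) (tt N92508 D195513) (tt N29674 (iv6 D105643)) (tt N60324 F347192))
theorem Q55990 : ∀ i, i < 55990 → P i := stepQ 55989 Q55989 (allL N55989 (tt N92323 (iv1 F396702)) (tt N29675 (iv0 D105644)) (tt N92321 (iv2 F396693)) (tt N57036 F396694) (tt N92509 D195514) (tt N92510 D195515) (tt N92511 D195516) (tt N92322 (iv7 F396696)))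
theorem Q55991 : ∀ i, i < 55991 → P i := stepQ 55990 Q55990 (allL N55990 (tt N29675 (iv1 D105645)) (tt N92323 F396701) (tt N92322 F396697) (tt N39726 F360863) (tt N91097 (iv4 F391906)) (tt N61952 F360864) (tt N92512 D195517) (tt N92321 F396691))
theorem Q55992 : ∀ i, i < 55992 → P i := stepQ 55991 Q55991 (allL N55991 (tt N92322 (iv1 F396695)) (tt N92321 (iv0 F396692)) (tt N92323 (iv2 F396699)) (tt N92310 (iv3 F396671)) (tt N60324 (iv4 F361837)) (tt N57627 (iv5 F167243)) (tt N91315 (iv6 F392689)) (tt N29675 (iv7 D105646)))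
theorem Q55993 : ∀ i, i < 55993 → P i := stepQ 55992 Q55992 (allL N55992 (tt N92513 D195518) (tt N90971 (iv0 F391446)) (tt N71062 (iv2 F219366)) (tt N73329 (iv3 F224408)) (tt N39228 F162242) (tt N92514 D195519) (tt N29676 (iv6 D105647)) (tt N91315 (iv7 F392690)))
theorem Q55994 : ∀ i, i < 55994 → P i := stepQ 55993 Q55993 (allL N55993 (tt N57515 (iv1 F166983)) (tt N29677 (iv0 D105648)) (tt N57629 (iv2 F167249)) (tt N92515 D195520) (tt N56394 F163991) (tt N92516 D195521) (tt N92517 D195522) (tt N57167 (iv7 F165693)))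
theorem Q55995 : ∀ i, i < 55995 → P i := stepQ 55994 Q55994 (allL N55994 (tt N29677 (iv1 D105649)) (tt N57515 F166982) (tt N57167 (iv2 F165692)) (tt N92518 D195523) (tt N44294 (iv4 F162243)) (tt N92519 D195524) (tt N92520 D195525) (tt N57629 (iv7 F167247)))
theorem Q55996 : ∀ i, i < 55996 → P i := stepQ 55995 Q55995 (allL N55995 (tt N73053 (iv1 F405732)) (tt N92521 D195527) (tt N92324 (iv2 F396703)) (tt N73332 (iv3 F224410)) (tt N73189 (iv4 F396706)) (tt N29677 (iv5 D105650)) (tt N92514 (iv6 F397203)) (tt N57630 (iv7 F167251)))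
theorem Q55997 : ∀ i, i < 55997 → P i := stepQ 55996 Q55996 (allL N55996 (tt N35548 (iv1 F162247)) (tt N36028 (iv0 F162246)) (tt N39835 F202573) (tt N29678 (iv3 D105652)) (tt N39207 F162245) (tt N74369 (iv5 F227569)) (tt N92522 D195528) (tt N39839 F202555))
theorem Q55998 : ∀ i, i < 55998 → P i := stepQ 55997 Q55997 (allL N55997 (tt N57565 F168376) (tt N58391 (iv0 F169257)) (tt N57634 F202568) (tt N92523 D195529) (tt N29678 (iv4 D105653)) (tt N74722 (iv5 F351843)) (tt N92524 D195530) (tt N57631 F202556))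
theorem Q55999 : ∀ i, i < 55999 → P i := stepQ 55998 Q55998 (allL N55998 (tt N67518 F207340) (tt N41299 (iv0 F162249)) (tt N37937 (iv2 F202550)) (tt N92522 (iv3 F397225)) (tt N92524 (iv4 F397234)) (tt N37918 F162248) (tt N29678 (iv6 D105654)) (tt N37934 (iv7 F202549)))
theorem Q56000 : ∀ i, i < 56000 → P i := stepQ 55999 Q55999 (allL N55999 (tt N58391 F169256) (tt N57565 F169258) (tt N57631 (iv2 F202567)) (tt N62699 F351839) (tt N29679 (iv4 D105657)) (tt N40487 F351840) (tt N65861 (iv6 F202669)) (tt N57634 (iv7 F202569)))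
theorem Q56001 : ∀ i, i < 56001 → P i := stepQ 56000 Q56000 (allL N56000 (tt N92525 D195531) (tt N92526 D195532) (tt N59121 (iv2 F172128)) (tt N40798 F162251) (tt N52030 (iv4 F356962)) (tt N92527 D195533) (tt N29680 (iv6 D105658)) (tt N92528 D195534))
theorem Q56002 : ∀ i, i < 56002 → P i := stepQ 56001 Q56001 (allL N56001 (tt N59124 (iv1 F172137)) (tt N29681 (iv0 D105659)) (tt N40560 (iv2 F162254)) (tt N35635 F336179) (tt N39148 F162255) (tt N35634 F336180) (tt N59114 F172069) (tt N59122 (iv7 F172131)))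
theorem Q56003 : ∀ i, i < 56003 → P i := stepQ 56002 Q56002 (allL N56002 (tt N29681 (iv1 D105660)) (tt N59124 F172136) (tt N59122 F172132) (tt N92529 D195535) (tt N39149 (iv4 F162252)) (tt N92530 D195536) (tt N92531 D195537) (tt N40560 F162253))
theorem Q56004 : ∀ i, i < 56004 → P i := stepQ 56003 Q56003 (allL N56003 (tt N35675 F344596) (tt N71029 F344597) (tt N59123 (iv2 F172133)) (tt N40801 F162256) (tt N92532 D195538) (tt N29681 (iv5 D105661)) (tt N92527 (iv6 F397246)) (tt N71028 F349589))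
theorem Q56005 : ∀ i, i < 56005 → P i := stepQ 56004 Q56004 (allL N56004 (tt N59122 (iv1 F172130)) (tt N40560 (iv0 F162260)) (tt N59124 (iv2 F172134)) (tt N40802 F162257) (tt N29684 F162258) (tt N71028 (iv5 F349586)) (tt N36198 F162259) (tt N29681 (iv7 D105662)))
theorem Q56006 : ∀ i, i < 56006 → P i := stepQ 56005 Q56005 (allL N56005 (tt N67123 (iv1 F206706)) (tt N39719 (iv0 F164721)) (tt N62352 (iv2 F180897)) (tt N29682 (iv3 D105663)) (tt N56747 (iv4 F164719)) (tt N71003 F331028) (tt N57582 (iv6 F171584)) (tt N59127 (iv7 F172147)))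
theorem Q56007 : ∀ i, i < 56007 → P i := stepQ 56006 Q56006 (allL N56006 (tt N67128 (iv1 F206732)) (tt N36687 F172141) (tt N59125 (iv2 F172138)) (tt N92533 D195539) (tt N29682 (iv4 D105664)) (tt N86982 (iv5 F377935)) (tt N56938 F165086) (tt N59128 (iv7 F172155)))
theorem Q56008 : ∀ i, i < 56008 → P i := stepQ 56007 Q56007 (allL N56007 (tt N56532 F164203) (tt N36807 (iv0 F162263)) (tt N59126 (iv2 F172142)) (tt N71003 F360384) (tt N92099 (iv4 F395728)) (tt N29682 (iv5 D105665)) (tt N36177 F162261) (tt N36877 F162262))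
theorem Q56009 : ∀ i, i < 56009 → P i := stepQ 56008 Q56008 (allL N56008 (tt N33162 (iv1 F179214)) (tt N36089 (iv0 F179213)) (tt N36087 (iv2 F179779)) (tt N29683 (iv3 D105666)) (tt N56994 F165185) (tt N68845 (iv5 F211700)) (tt N92534 D195540) (tt N36086 (iv7 F165196)))
theorem Q56010 : ∀ i, i < 56010 → P i := stepQ 56009 Q56009 (allL N56009 (tt N36687 F162264) (tt N67128 F206731) (tt N59128 (iv2 F172154)) (tt N92535 D195541) (tt N29683 (iv4 D105667)) (tt N92536 D195542) (tt N92537 D195543) (tt N59125 (iv7 F172140)))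
theorem Q56011 : ∀ i, i < 56011 → P i := stepQ 56010 Q56010 (allL N56010 (tt N37957 (iv1 F168133)) (tt N41088 (iv0 F162266)) (tt N59129 (iv2 F172158)) (tt N92534 (iv3 F397286)) (tt N92537 (iv4 F397294)) (tt N37664 F162265) (tt N29683 (iv6 D105668)) (tt N59112 (iv7 F172057)))
theorem Q56012 : ∀ i, i < 56012 → P i := stepQ 56011 Q56011 (allL N56011 (tt N37110 F162271) (tt N37056 (iv0 F166230)) (tt N36103 F162267) (tt N29686 F162268) (tt N92538 D195544) (tt N29685 (iv5 D105669)) (tt N36182 F162269) (tt N36105 F162270))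
theorem Q56013 : ∀ i, i < 56013 → P i := stepQ 56012 Q56012 (allL N56012 (tt N36013 (iv1 F162296)) (tt N36147 (iv0 F162295)) (tt N36126 (iv2 F166141)) (tt N45596 (iv3 F324665)) (tt N29689 (iv4 D105678)) (tt N43963 F324259) (tt N57668 (iv6 F167350)) (tt N36124 (iv7 F166118)))
theorem Q56014 : ∀ i, i < 56014 → P i := stepQ 56013 Q56013 (allL N56013 (tt N40267 (iv1 F181942)) (tt N73368 F224517) (tt N62082 (iv2 F179976)) (tt N29692 F162305) (tt N57493 F166916) (tt N29690 (iv5 D105687)) (tt N92539 D195545) (tt N62094 (iv7 F180005)))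
theorem Q56015 : ∀ i, i < 56015 → P i := stepQ 56014 Q56014 (allL N56014 (tt N73357 F363489) (tt N73392 (iv0 F397307)) (tt N62083 (iv2 F179977)) (tt N29693 F162306) (tt N62074 (iv4 F179950)) (tt N92540 D195547) (tt N29690 (iv6 D105688)) (tt N73391 (iv7 F336236)))
theorem Q56016 : ∀ i, i < 56016 → P i := stepQ 56015 Q56015 (allL N56015 (tt N92415 F396943) (tt N92541 D195548) (tt N92542 D195549) (tt N29691 (iv3 D105691)) (tt N62072 (iv4 F179944)) (tt N92543 D195550) (tt N92544 D195551) (tt N62092 (iv7 F179998)))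
theorem Q56017 : ∀ i, i < 56017 → P i := stepQ 56016 Q56016 (allL N56016 (tt N92545 D195552) (tt N92546 D195553) (tt N73319 (iv2 F224368)) (tt N92543 (iv3 F397318)) (tt N92547 D195554) (tt N29691 (iv5 D105692)) (tt N92548 D195555) (tt N73316 (iv7 F224351)))
theorem Q56018 : ∀ i, i < 56018 → P i := stepQ 56017 Q56017 (allL N56017 (tt N73818 F363487) (tt N73819 F363488) (tt N69704 (iv2 F336186)) (tt N92544 (iv3 F397320)) (tt N29693 F162309) (tt N69703 F364295) (tt N29691 (iv6 D105693)) (tt N73404 F366424))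
theorem Q56019 : ∀ i, i < 56019 → P i := stepQ 56018 Q56018 (allL N56018 (tt N73776 (iv1 F225731)) (tt N73813 (iv0 F225904)) (tt N73320 (iv2 F224373)) (tt N31091 F162316) (tt N29692 (iv4 D105697)) (tt N31161 (iv5 F162323)) (tt N92549 D195556) (tt N59722 (iv7 F173669)))
theorem Q56020 : ∀ i, i < 56020 → P i := stepQ 56019 Q56019 (allL N56019 (tt N40227 F333616) (tt N41712 F333617) (tt N73321 (iv2 F224376)) (tt N92539 (iv3 F397301)) (tt N92549 (iv4 F397337)) (tt N33589 F333612) (tt N29692 (iv6 D105698)) (tt N42572 F333613))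
theorem Q56021 : ∀ i, i < 56021 → P i := stepQ 56020 Q56020 (allL N56020 (tt N48243 F317976) (tt N62395 (iv0 F181097)) (tt N73322 (iv2 F224378)) (tt N92540 (iv3 F397304)) (tt N92550 D195557) (tt N29693 (iv5 D105702)) (tt N33589 F317977) (tt N73405 (iv7 F315935)))
theorem Q56022 : ∀ i, i < 56022 → P i := stepQ 56021 Q56021 (allL N56021 (tt N73582 (iv1 F225096)) (tt N40433 F225027) (tt N73564 (iv2 F225023)) (tt N29696 F162327) (tt N73693 (iv4 F225407)) (tt N29694 (iv5 D105706)) (tt N42573 F317368) (tt N73317 (iv7 F224364)))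
theorem Q56023 : ∀ i, i < 56023 → P i := stepQ 56022 Q56022 (allL N56022 (tt N73599 F356227) (tt N73580 F317373) (tt N73565 (iv2 F225029)) (tt N29697 F162328) (tt N73623 (iv4 F225279)) (tt N61374 F317374) (tt N29694 (iv6 D105707)) (tt N63141 F317375))
theorem Q56024 : ∀ i, i < 56024 → P i := stepQ 56023 Q56023 (allL N56023 (tt N71066 (iv1 F219378)) (tt N58389 (iv0 F169248)) (tt N71065 F364294) (tt N29695 (iv3 D105708)) (tt N73622 (iv4 F225276)) (tt N92551 D195558) (tt N92552 D195559) (tt N69705 (iv7 F336191)))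
theorem Q56025 : ∀ i, i < 56025 → P i := stepQ 56024 Q56024 (allL N56024 (tt N92546 (iv1 F397326)) (tt N92545 F397324) (tt N73316 (iv2 F224350)) (tt N92551 (iv3 F397342)) (tt N58753 (iv4 F170600)) (tt N29695 (iv5 D105709)) (tt N92553 D195560) (tt N73319 (iv7 F224369)))
theorem Q56026 : ∀ i, i < 56026 → P i := stepQ 56025 Q56025 (allL N56025 (tt N92554 D195561) (tt N73793 (iv0 F356232)) (tt N63140 (iv2 F319620)) (tt N92552 (iv3 F397346)) (tt N29697 F162329) (tt N92555 D195562) (tt N29695 (iv6 D105710)) (tt N63146 F317376))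
theorem Q56027 : ∀ i, i < 56027 → P i := stepQ 56026 Q56026 (allL N56026 (tt N73813 (iv1 F225905)) (tt N73776 (iv0 F225730)) (tt N59722 F173689) (tt N92556 D195563) (tt N29696 (iv4 D105711)) (tt N59849 (iv5 F174302)) (tt N42574 F317369) (tt N73320 (iv7 F224374)))
theorem Q56028 : ∀ i, i < 56028 → P i := stepQ 56027 Q56027 (allL N56027 (tt N73152 (iv1 F223903)) (tt N62238 F223805) (tt N73098 (iv2 F223801)) (tt N29699 (iv3 D105721)) (tt N62544 (iv4 F323317)) (tt N41252 F162358) (tt N36358 F321627) (tt N36360 F162359))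
theorem Q56029 : ∀ i, i < 56029 → P i := stepQ 56028 Q56028 (allL N56028 (tt N73804 (iv1 F225889)) (tt N73741 (iv0 F225646)) (tt N36359 F162360) (tt N58502 F321628) (tt N29699 (iv4 D105722)) (tt N58500 (iv5 F169498)) (tt N36359 F321629) (tt N36361 F162361))
theorem Q56030 : ∀ i, i < 56030 → P i := stepQ 56029 Q56029 (allL N56029 (tt N29700 (iv1 D105725)) (tt N36331 F162364) (tt N36329 F205108) (tt N59758 F205109) (tt N33775 (iv4 F162365)) (tt N59757 F205110) (tt N36329 F346321) (tt N36330 F205111))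
theorem Q56031 : ∀ i, i < 56031 → P i := stepQ 56030 Q56030 (allL N56030 (tt N92557 D195564) (tt N58666 (iv0 F170058)) (tt N87455 (iv2 F379378)) (tt N36337 F162366) (tt N58751 F170588) (tt N29700 (iv5 D105726)) (tt N92558 D195565) (tt N36332 F162367))
theorem Q56032 : ∀ i, i < 56032 → P i := stepQ 56031 Q56031 (allL N56031 (tt N77550 (iv1 F353140)) (tt N84400 F369162) (tt N75897 F353136) (tt N36341 F162368) (tt N29701 F162369) (tt N54703 F353157) (tt N29700 (iv6 D105727)) (tt N75896 (iv7 F353137)))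
theorem Q56033 : ∀ i, i < 56033 → P i := stepQ 56032 Q56032 (allL N56032 (tt N32220 (iv1 F168290)) (tt N36193 (iv0 F168207)) (tt N41086 F168137) (tt N41045 F162376) (tt N29703 (iv4 D105743)) (tt N54413 (iv5 F357182)) (tt N67353 (iv6 F207119)) (tt N36239 F162377))
theorem Q56034 : ∀ i, i < 56034 → P i := stepQ 56033 Q56033 (allL N56033 (tt N45157 F162381) (tt N37291 (iv0 F162382)) (tt N43369 F162378) (tt N45124 F162379) (tt N29704 (iv4 D105744)) (tt N63315 (iv5 F186818)) (tt N60752 (iv6 F176819)) (tt N43372 F162380))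
theorem Q56035 : ∀ i, i < 56035 → P i := stepQ 56034 Q56034 (allL N56034 (tt N41718 F162386) (tt N36303 F162387) (tt N36250 F162383) (tt N32480 F162384) (tt N41760 (iv4 F162388)) (tt N29705 (iv5 D105745)) (tt N92559 D195566) (tt N36252 F162385))
theorem Q56036 : ∀ i, i < 56036 → P i := stepQ 56035 Q56035 (allL N56035 (tt N29736 F162391) (tt N29733 F316389) (tt N29739 F162389) (tt N36325 F316390) (tt N29706 (iv4 D105746)) (tt N74978 (iv5 F229939)) (tt N92560 D195567) (tt N29729 F162390))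
theorem Q56037 : ∀ i, i < 56037 → P i := stepQ 56036 Q56036 (allL N56036 (tt N92561 D195568) (tt N73128 (iv0 F341054)) (tt N29743 F162393) (tt N36281 F162394) (tt N92560 (iv4 F397378)) (tt N78812 (iv5 F250979)) (tt N29706 (iv6 D105747)) (tt N92562 D195569))
theorem Q56038 : ∀ i, i < 56038 → P i := stepQ 56037 Q56037 (allL N56037 (tt N41338 F162398) (tt N41336 F162399) (tt N41805 F162395) (tt N50901 F162396) (tt N72030 (iv4 F221266)) (tt N29710 (iv5 D105748)) (tt N92563 D195570) (tt N41730 F162397))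
theorem Q56039 : ∀ i, i < 56039 → P i := stepQ 56038 Q56038 (allL N56038 (tt N41336 F162404) (tt N41338 F162405) (tt N41730 F162401) (tt N32421 F162402) (tt N92564 D195571) (tt N29711 (iv5 D105749)) (tt N92565 D195572) (tt N41805 F162403))
theorem Q56040 : ∀ i, i < 56040 → P i := stepQ 56039 Q56039 (allL N56039 (tt N36252 F162409) (tt N36250 F162410) (tt N41718 F162406) (tt N29713 F162407) (tt N74902 (iv4 F229781)) (tt N29712 (iv5 D105750)) (tt N39023 F349098) (tt N36303 F162408))
theorem Q56041 : ∀ i, i < 56041 → P i := stepQ 56040 Q56040 (allL N56040 (tt N45094 F162411) (tt N60049 (iv0 F175384)) (tt N73269 (iv2 F324056)) (tt N92566 D195573) (tt N29713 (iv4 D105751)) (tt N78104 F363451) (tt N92567 D195574) (tt N73270 (iv7 F324062)))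
theorem Q56042 : ∀ i, i < 56042 → P i := stepQ 56041 Q56041 (allL N56041 (tt N70756 F349090) (tt N38966 F349091) (tt N70591 (iv2 F335890)) (tt N39023 F349092) (tt N92567 (iv4 F397406)) (tt N39023 F349097) (tt N29713 (iv6 D105752)) (tt N70587 (iv7 F359575)))
theorem Q56043 : ∀ i, i < 56043 → P i := stepQ 56042 Q56042 (allL N56042 (tt N92568 D195575) (tt N75565 F321488) (tt N74414 (iv2 F227829)) (tt N35430 F321489) (tt N92148 (iv4 F395970)) (tt N29715 (iv5 D105754)) (tt N41563 F322237) (tt N35421 F321490))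
theorem Q56044 : ∀ i, i < 56044 → P i := stepQ 56043 Q56043 (allL N56043 (tt N53333 F340849) (tt N74966 (iv0 F353427)) (tt N74415 (iv2 F227831)) (tt N39958 F340850) (tt N29716 F162412) (tt N39957 F340851) (tt N29715 (iv6 D105755)) (tt N48073 F340852))
theorem Q56045 : ∀ i, i < 56045 → P i := stepQ 56044 Q56044 (allL N56044 (tt N74956 F243111) (tt N41679 F243112) (tt N45194 F162413) (tt N35295 F318006) (tt N61502 F318007) (tt N29716 (iv5 D105758)) (tt N29717 F162415) (tt N54965 F332536))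
theorem Q56046 : ∀ i, i < 56046 → P i := stepQ 56045 Q56045 (allL N56045 (tt N41671 F243193) (tt N33575 (iv0 F243194)) (tt N41670 (iv2 F243114)) (tt N54966 (iv3 F317938)) (tt N48073 F324699) (tt N54965 F332535) (tt N41707 F243391) (tt N29716 (iv7 D105759)))
theorem Q56047 : ∀ i, i < 56047 → P i := stepQ 56046 Q56046 (allL N56046 (tt N33645 F162418) (tt N33643 F162419) (tt N41769 F162416) (tt N92569 D195576) (tt N29717 (iv4 D105760)) (tt N92570 D195577) (tt N61502 (iv6 F359582)) (tt N36306 F162417))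
theorem Q56048 : ∀ i, i < 56048 → P i := stepQ 56047 Q56047 (allL N56047 (tt N69973 (iv1 F331623)) (tt N75148 (iv0 F234630)) (tt N74422 (iv2 F227870)) (tt N29726 F162420) (tt N75741 (iv4 F233610)) (tt N75934 (iv5 F234629)) (tt N29720 (iv6 D105761)) (tt N92571 D195578))
theorem Q56049 : ∀ i, i < 56049 → P i := stepQ 56048 Q56048 (allL N56048 (tt N56648 F164523) (tt N32468 (iv0 F162424)) (tt N29872 F162421) (tt N29723 F162422) (tt N92572 D195579) (tt N29722 (iv5 D105762)) (tt N85847 (iv6 F374196)) (tt N29869 F162423))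
theorem Q56050 : ∀ i, i < 56050 → P i := stepQ 56049 Q56049 (allL N56049 (tt N60049 (iv1 F175385)) (tt N45094 F162425) (tt N73270 (iv2 F324060)) (tt N82973 F360923) (tt N29723 (iv4 D105763)) (tt N92148 (iv5 F395969)) (tt N82971 (iv6 F360922)) (tt N73269 (iv7 F324058)))
theorem Q56051 : ∀ i, i < 56051 → P i := stepQ 56050 Q56050 (allL N56050 (tt N84948 (iv1 F371160)) (tt N50915 (iv0 F364171)) (tt N53662 F162426) (tt N85847 (iv3 F374195)) (tt N82971 F360921) (tt N50864 F162427) (tt N29723 (iv6 D105764)) (tt N84933 (iv7 F371126)))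
theorem Q56052 : ∀ i, i < 56052 → P i := stepQ 56051 Q56051 (allL N56051 (tt N75565 F321482) (tt N92568 F397412) (tt N35421 F321483) (tt N48035 F321484) (tt N78104 (iv4 F363449)) (tt N29725 (iv5 D105766)) (tt N35416 F321485) (tt N74414 (iv7 F227830)))
theorem Q56053 : ∀ i, i < 56053 → P i := stepQ 56052 Q56052 (allL N56052 (tt N29726 (iv1 D105769)) (tt N41707 F243385) (tt N33595 F243386) (tt N36313 F243387) (tt N74407 (iv4 F338212)) (tt N73356 F338209) (tt N80458 F360670) (tt N41708 F243388))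
theorem Q56054 : ∀ i, i < 56054 → P i := stepQ 56053 Q56053 (allL N56053 (tt N33595 F191365) (tt N41708 F191366) (tt N41707 F243389) (tt N92571 (iv3 F397421)) (tt N45219 F322913) (tt N75978 (iv5 F235079)) (tt N41670 F243116) (tt N29726 (iv7 D105770)))
theorem Q56055 : ∀ i, i < 56055 → P i := stepQ 56054 Q56054 (allL N56054 (tt N41385 (iv1 F162434)) (tt N33564 (iv0 F162433)) (tt N41355 F162429) (tt N29727 (iv3 D105771)) (tt N41857 F162432) (tt N32095 F162430) (tt N62914 (iv6 F349465)) (tt N29734 F162431))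
theorem Q56056 : ∀ i, i < 56056 → P i := stepQ 56055 Q56055 (allL N56055 (tt N41731 F162444) (tt N41806 F162445) (tt N29735 F162441) (tt N42109 F162442) (tt N29728 (iv4 D105774)) (tt N63782 F312517) (tt N52575 F312518) (tt N29732 F162443))
theorem Q56057 : ∀ i, i < 56057 → P i := stepQ 56056 Q56056 (allL N56056 (tt N62851 (iv1 F183900)) (tt N39885 F322620) (tt N29737 F162450) (tt N78086 (iv3 F341078)) (tt N92150 (iv4 F395980)) (tt N29729 (iv5 D105777)) (tt N74003 (iv6 F320336)) (tt N74978 (iv7 F229942)))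
theorem Q56058 : ∀ i, i < 56058 → P i := stepQ 56057 Q56057 (allL N56057 (tt N62969 F184244) (tt N92573 D195580) (tt N29738 F162451) (tt N80462 (iv3 F341005)) (tt N29730 F162452) (tt N29800 F316388) (tt N29729 (iv6 D105778)) (tt N87773 (iv7 F380451)))
theorem Q56059 : ∀ i, i < 56059 → P i := stepQ 56058 Q56058 (allL N56058 (tt N29742 (iv1 F162460)) (tt N29730 (iv0 D105779)) (tt N29740 F233791) (tt N92574 D195581) (tt N92575 D195582) (tt N80392 (iv5 F264586)) (tt N76138 (iv6 F236766)) (tt N29741 F233792))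
theorem Q56060 : ∀ i, i < 56060 → P i := stepQ 56059 Q56059 (allL N56059 (tt N29730 (iv1 D105780)) (tt N29742 F162453) (tt N29741 F233788) (tt N42142 F162455) (tt N92576 D195583) (tt N42826 (iv5 F162454)) (tt N92577 D195584) (tt N29740 F233789))
theorem Q56061 : ∀ i, i < 56061 → P i := stepQ 56060 Q56060 (allL N56060 (tt N29741 (iv1 F162461)) (tt N29740 F162462) (tt N29742 F162457) (tt N36321 F162458) (tt N87773 (iv4 F380450)) (tt N29784 F162459) (tt N92562 (iv6 F397391)) (tt N29730 (iv7 D105781)))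
theorem Q56062 : ∀ i, i < 56062 → P i := stepQ 56061 Q56061 (allL N56061 (tt N75339 F243363) (tt N75342 F243364) (tt N42103 F162463) (tt N29733 F162464) (tt N42039 F162465) (tt N36627 F162466) (tt N29731 (iv6 D105782)) (tt N75752 F316396))
theorem Q56063 : ∀ i, i < 56063 → P i := stepQ 56062 Q56062 (allL N56062 (tt N29735 (iv1 F162468)) (tt N29732 (iv0 D105783)) (tt N41806 (iv2 F162469)) (tt N61382 (iv3 F316467)) (tt N33630 F162467) (tt N92568 (iv5 F397409)) (tt N74892 F317209) (tt N41731 (iv7 F162470)))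
theorem Q56064 : ∀ i, i < 56064 → P i := stepQ 56063 Q56063 (allL N56063 (tt N33564 (iv1 F162486)) (tt N41385 F162485) (tt N29734 (iv2 D105792)) (tt N41328 F162482) (tt N41858 (iv4 F162487)) (tt N33560 F162483) (tt N77217 F340875) (tt N41355 F162484))
theorem Q56065 : ∀ i, i < 56065 → P i := stepQ 56064 Q56064 (allL N56064 (tt N33603 F162490) (tt N33600 F162491) (tt N41858 F162488) (tt N62927 F347734) (tt N29734 (iv4 D105793)) (tt N75111 (iv5 F230283)) (tt N64593 (iv6 F347735)) (tt N41857 F162489))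
theorem Q56066 : ∀ i, i < 56066 → P i := stepQ 56065 Q56065 (allL N56065 (tt N40889 F326857) (tt N63781 (iv0 F319487)) (tt N63782 F340831) (tt N40787 F340832) (tt N40541 F340833) (tt N29735 (iv5 D105796)) (tt N76292 F340834) (tt N40815 F340835))
theorem Q56067 : ∀ i, i < 56067 → P i := stepQ 56066 Q56066 (allL N56066 (tt N92578 D195585) (tt N41408 F349448) (tt N92579 D195586) (tt N29736 (iv3 D105805)) (tt N62893 (iv4 F184049)) (tt N40627 F321267) (tt N52573 (iv6 F349463)) (tt N62914 (iv7 F184120)))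
theorem Q56068 : ∀ i, i < 56068 → P i := stepQ 56067 Q56067 (allL N56067 (tt N92148 (iv1 F395967)) (tt N78104 (iv0 F363448)) (tt N92150 (iv2 F395978)) (tt N69557 (iv3 F363072)) (tt N29737 (iv4 D105814)) (tt N74920 (iv5 F229804)) (tt N74000 (iv6 F320340)) (tt N92139 (iv7 F395923)))
theorem Q56069 : ∀ i, i < 56069 → P i := stepQ 56068 Q56068 (allL N56068 (tt N39885 F322619) (tt N62851 (iv0 F183899)) (tt N74978 F229940) (tt N33502 (iv3 F318672)) (tt N92139 (iv4 F395924)) (tt N29739 F162521) (tt N40196 F316357) (tt N29737 (iv7 D105816)))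
theorem Q56070 : ∀ i, i < 56070 → P i := stepQ 56069 Q56069 (allL N56069 (tt N87773 (iv1 F380453)) (tt N29738 (iv0 D105817)) (tt N62969 (iv2 F184247)) (tt N35301 F320803) (tt N44882 F184248) (tt N38354 F320804) (tt N44881 (iv6 F184249)) (tt N92573 (iv7 F397429)))
theorem Q56071 : ∀ i, i < 56071 → P i := stepQ 56070 Q56070 (allL N56070 (tt N29738 (iv1 D105818)) (tt N87773 (iv0 F380452)) (tt N92573 (iv2 F397434)) (tt N92580 D195587) (tt N62911 (iv4 F184113)) (tt N38355 F340859) (tt N92561 (iv6 F397384)) (tt N62969 (iv7 F184241)))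
theorem Q56072 : ∀ i, i < 56072 → P i := stepQ 56071 Q56071 (allL N56071 (tt N92573 (iv1 F397428)) (tt N62969 (iv0 F184242)) (tt N87773 (iv2 F380449)) (tt N41435 F318802) (tt N29742 F162522) (tt N29801 F318803) (tt N75955 F338207) (tt N29738 (iv7 D105820)))
theorem Q56073 : ∀ i, i < 56073 → P i := stepQ 56072 Q56072 (allL N56072 (tt N92577 F397456) (tt N87463 (iv0 F379416)) (tt N92560 (iv2 F397376)) (tt N33503 F316393) (tt N29743 F162524) (tt N41679 F316394) (tt N29739 (iv6 D105821)) (tt N75955 F316395))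
theorem Q56074 : ∀ i, i < 56074 → P i := stepQ 56073 Q56073 (allL N56073 (tt N49043 (iv1 F308722)) (tt N49042 (iv0 F308720)) (tt N42138 F233775) (tt N29740 (iv3 D105823)) (tt N42051 F162526) (tt N76029 (iv5 F235856)) (tt N42437 F230632) (tt N42142 F233776))
theorem Q56075 : ∀ i, i < 56075 → P i := stepQ 56074 Q56074 (allL N56074 (tt N56141 (iv1 F363413)) (tt N56135 (iv0 F342593)) (tt N92575 (iv2 F397440)) (tt N44554 F340863) (tt N29740 (iv4 D105824)) (tt N44553 F340864) (tt N87464 (iv6 F379419)) (tt N92576 (iv7 F397447)))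
theorem Q56076 : ∀ i, i < 56076 → P i := stepQ 56075 Q56075 (allL N56075 (tt N75057 F234157) (tt N75646 F234158) (tt N92581 D195588) (tt N29741 (iv3 D105828)) (tt N92582 D195589) (tt N75811 F234156) (tt N92583 D195590) (tt N92574 (iv7 F397436)))
theorem Q56077 : ∀ i, i < 56077 → P i := stepQ 56076 Q56076 (allL N56076 (tt N56135 (iv1 F355222)) (tt N56141 (iv0 F355221)) (tt N92576 (iv2 F397445)) (tt N62982 (iv3 F363414)) (tt N29741 (iv4 D105829)) (tt N79096 F340865) (tt N62979 (iv6 F363415)) (tt N92575 (iv7 F397441)))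
theorem Q56078 : ∀ i, i < 56078 → P i := stepQ 56077 Q56077 (allL N56077 (tt N75955 (iv1 F338192)) (tt N92560 (iv0 F397380)) (tt N92577 (iv2 F397451)) (tt N92583 (iv3 F397484)) (tt N62979 (iv4 F338193)) (tt N74820 (iv5 F243257)) (tt N29741 (iv6 D105831)) (tt N87463 (iv7 F379415)))
theorem Q56079 : ∀ i, i < 56079 → P i := stepQ 56078 Q56078 (allL N56078 (tt N73128 F334900) (tt N92561 F397387) (tt N92562 (iv2 F397388)) (tt N29748 F162529) (tt N75955 (iv4 F338191)) (tt N48139 F162530) (tt N29742 (iv6 D105832)) (tt N29743 F162531))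
theorem Q56080 : ∀ i, i < 56080 → P i := stepQ 56079 Q56079 (allL N56079 (tt N92562 (iv1 F397393)) (tt N29743 (iv0 D105833)) (tt N92561 F397385) (tt N73144 F364014) (tt N74964 (iv4 F364015)) (tt N73129 (iv5 F364016)) (tt N92573 F397433) (tt N73128 (iv7 F364017)))
theorem Q56081 : ∀ i, i < 56081 → P i := stepQ 56080 Q56080 (allL N56080 (tt N29743 (iv1 D105834)) (tt N92562 F397392) (tt N73128 F363913) (tt N92584 D195591) (tt N74963 (iv4 F363912)) (tt N73122 (iv5 F363915)) (tt N52576 F363914) (tt N92561 (iv7 F397386)))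
theorem Q56082 : ∀ i, i < 56082 → P i := stepQ 56081 Q56081 (allL N56081 (tt N36373 (iv1 F162540)) (tt N29745 (iv0 D105848)) (tt N36372 (iv2 F162539)) (tt N75646 (iv3 F233285)) (tt N46022 F323425) (tt N29811 F184613) (tt N41392 (iv6 F162542)) (tt N33566 F162541))
theorem Q56083 : ∀ i, i < 56083 → P i := stepQ 56082 Q56082 (allL N56082 (tt N92585 D195592) (tt N41402 F233217) (tt N75691 (iv2 F315075)) (tt N42276 F162543) (tt N29745 (iv4 D105849)) (tt N88440 (iv5 F383059)) (tt N75687 (iv6 F336940)) (tt N36374 F162544))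
theorem Q56084 : ∀ i, i < 56084 → P i := stepQ 56083 Q56083 (allL N56083 (tt N41392 F325095) (tt N33569 F325096) (tt N41391 F278606) (tt N29749 (iv3 D105853)) (tt N92586 D195593) (tt N72721 (iv5 F333653)) (tt N68520 F325097) (tt N36380 F182289))
theorem Q56085 : ∀ i, i < 56085 → P i := stepQ 56084 Q56084 (allL N56084 (tt N41224 (iv1 F320626)) (tt N41223 (iv0 F320627)) (tt N36378 (iv2 F182283)) (tt N72721 F318500) (tt N79625 (iv4 F313789)) (tt N29749 (iv5 D105854)) (tt N48147 F162558) (tt N36381 F182284))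
theorem Q56086 : ∀ i, i < 56086 → P i := stepQ 56085 Q56085 (allL N56085 (tt N41796 F338198) (tt N41743 F338199) (tt N41793 (iv2 F338202)) (tt N85782 (iv3 F373911)) (tt N62709 F338200) (tt N86224 (iv5 F375444)) (tt N29751 (iv6 D105863)) (tt N41794 F338201))
theorem Q56087 : ∀ i, i < 56087 → P i := stepQ 56086 Q56086 (allL N56086 (tt N89616 (iv1 F386970)) (tt N79060 (iv0 F252054)) (tt N34028 F162582) (tt N32684 F162583) (tt N92587 D195594) (tt N29752 (iv5 D105864)) (tt N86224 (iv6 F375445)) (tt N34031 F162584))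
theorem Q56088 : ∀ i, i < 56088 → P i := stepQ 56087 Q56087 (allL N56087 (tt N92220 F396331) (tt N92221 (iv0 F396336)) (tt N42986 F162585) (tt N32595 F162586) (tt N72772 (iv4 F335038)) (tt N92565 (iv5 F397403)) (tt N29753 (iv6 D105865)) (tt N92588 D195595))
theorem Q56089 : ∀ i, i < 56089 → P i := stepQ 56088 Q56088 (allL N56088 (tt N57431 (iv1 F166719)) (tt N57432 (iv0 F166722)) (tt N42962 F162587) (tt N29759 F162588) (tt N57272 (iv4 F165935)) (tt N29754 (iv5 D105866)) (tt N79073 (iv6 F252154)) (tt N43100 F162589))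
theorem Q56090 : ∀ i, i < 56090 → P i := stepQ 56089 Q56089 (allL N56089 (tt N75558 (iv1 F359058)) (tt N75557 (iv0 F349342)) (tt N69626 (iv2 F215178)) (tt N79073 (iv3 F252153)) (tt N74474 F353548) (tt N29756 (iv5 D105870)) (tt N29759 F162592) (tt N75533 F353557))
theorem Q56091 : ∀ i, i < 56091 → P i := stepQ 56090 Q56090 (allL N56090 (tt N45237 F162596) (tt N45238 F162597) (tt N57700 (iv2 F167450)) (tt N49484 F162593) (tt N78285 (iv4 F247675)) (tt N29757 (iv5 D105872)) (tt N49483 F162594) (tt N43111 F162595))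
theorem Q56092 : ∀ i, i < 56092 → P i := stepQ 56091 Q56091 (allL N56091 (tt N45238 F162600) (tt N45237 F162601) (tt N43111 F162598) (tt N32132 F162599) (tt N78284 (iv4 F247670)) (tt N29758 (iv5 D105873)) (tt N92589 D195596) (tt N57700 (iv7 F167452)))
theorem Q56093 : ∀ i, i < 56093 → P i := stepQ 56092 Q56092 (allL N56092 (tt N78282 (iv1 F247667)) (tt N45100 F162602) (tt N69625 (iv2 F215174)) (tt N74476 (iv3 F341590)) (tt N29759 (iv4 D105874)) (tt N74942 F335873) (tt N74474 F341591) (tt N69622 (iv7 F215145)))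
theorem Q56094 : ∀ i, i < 56094 → P i := stepQ 56093 Q56093 (allL N56093 (tt N33894 F162620) (tt N72777 (iv0 F323306)) (tt N29768 F162617) (tt N36353 F162618) (tt N43365 F162621) (tt N29764 (iv5 D105898)) (tt N75809 (iv6 F234149)) (tt N36621 F162619))
theorem Q56095 : ∀ i, i < 56095 → P i := stepQ 56094 Q56094 (allL N56094 (tt N32741 F162626) (tt N32763 (iv0 F162627)) (tt N29902 F162622) (tt N29766 F162623) (tt N29770 F162624) (tt N84775 (iv5 F370578)) (tt N29765 (iv6 D105899)) (tt N32879 F162625))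
theorem Q56096 : ∀ i, i < 56096 → P i := stepQ 56095 Q56095 (allL N56095 (tt N63315 (iv1 F186821)) (tt N45158 F162630) (tt N32817 F162628) (tt N84775 (iv3 F370579)) (tt N76695 (iv4 F239737)) (tt N29766 (iv5 D105900)) (tt N79988 (iv6 F259238)) (tt N32880 F162629))
theorem Q56097 : ∀ i, i < 56097 → P i := stepQ 56096 Q56096 (allL N56096 (tt N76796 (iv1 F239952)) (tt N76798 F239963) (tt N75809 (iv2 F234147)) (tt N29777 F162631) (tt N92590 D195597) (tt N29767 (iv5 D105903)) (tt N29768 F162632) (tt N72194 (iv7 F315878)))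
theorem Q56098 : ∀ i, i < 56098 → P i := stepQ 56097 Q56097 (allL N56097 (tt N43218 F162635) (tt N43219 F162636) (tt N43365 F162634) (tt N90189 (iv3 F388824)) (tt N29768 (iv4 D105905)) (tt N92591 D195598) (tt N92590 (iv6 F397527)) (tt N43364 (iv7 F162637)))
theorem Q56099 : ∀ i, i < 56099 → P i := stepQ 56098 Q56098 (allL N56098 (tt N66802 (iv1 F205624)) (tt N32708 (iv0 F162646)) (tt N29904 F162644) (tt N29772 F162645) (tt N85535 (iv4 F372973)) (tt N29770 (iv5 D105907)) (tt N62245 (iv6 F316771)) (tt N66789 (iv7 F205575)))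
theorem Q56100 : ∀ i, i < 56100 → P i := stepQ 56099 Q56099 (allL N56099 (tt N42974 F162650) (tt N42973 F162651) (tt N41722 F162648) (tt N78799 (iv3 F250899)) (tt N50985 F335928) (tt N29771 (iv5 D105912)) (tt N92592 D195599) (tt N33980 F162649))
theorem Q56101 : ∀ i, i < 56101 → P i := stepQ 56100 Q56100 (allL N56100 (tt N42905 (iv1 F162654)) (tt N29772 (iv0 D105913)) (tt N78808 F250938) (tt N43204 (iv3 F162657)) (tt N85871 (iv4 F374282)) (tt N57447 (iv5 F166768)) (tt N92593 D195600) (tt N43286 F162656))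
theorem Q56102 : ∀ i, i < 56102 → P i := stepQ 56101 Q56101 (allL N56101 (tt N50405 (iv1 F329564)) (tt N76702 (iv0 F328909)) (tt N78809 (iv2 F250942)) (tt N86180 F375303) (tt N29772 (iv4 D105914)) (tt N53834 (iv5 F349213)) (tt N63017 (iv6 F335904)) (tt N85933 (iv7 F374496)))
theorem Q56103 : ∀ i, i < 56103 → P i := stepQ 56102 Q56102 (allL N56102 (tt N43286 (iv1 F162655)) (tt N78808 F250939) (tt N42905 F162652) (tt N66789 (iv3 F205574)) (tt N85933 (iv4 F374498)) (tt N29773 F162653) (tt N75550 F350244) (tt N29772 (iv7 D105915)))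
theorem Q56104 : ∀ i, i < 56104 → P i := stepQ 56103 Q56103 (allL N56103 (tt N43843 F305123) (tt N43852 F305124) (tt N34306 F162658) (tt N29775 F162659) (tt N34887 (iv4 F162662)) (tt N29774 (iv5 D105916)) (tt N35352 F305125) (tt N35002 F162660))
theorem Q56105 : ∀ i, i < 56105 → P i := stepQ 56104 Q56104 (allL N56104 (tt N42888 F191324) (tt N29776 (iv0 D105919)) (tt N72700 F311698) (tt N75618 (iv3 F319991)) (tt N43514 F191321) (tt N40932 F311699) (tt N72399 (iv6 F342566)) (tt N75796 (iv7 F233991)))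
theorem Q56106 : ∀ i, i < 56106 → P i := stepQ 56105 Q56105 (allL N56105 (tt N92594 D195601) (tt N92595 D195602) (tt N72193 (iv2 F315868)) (tt N90190 (iv3 F388826)) (tt N29777 (iv4 D105935)) (tt N92596 D195603) (tt N29779 F162670) (tt N72195 (iv7 F315881)))
theorem Q56107 : ∀ i, i < 56107 → P i := stepQ 56106 Q56106 (allL N56106 (tt N39948 F319262) (tt N39947 F319263) (tt N33913 F162672) (tt N36497 F162673) (tt N77688 (iv4 F244707)) (tt N72774 (iv5 F359201)) (tt N29778 (iv6 D105937)) (tt N39945 F319264))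
theorem Q56108 : ∀ i, i < 56108 → P i := stepQ 56107 Q56107 (allL N56107 (tt N42906 (iv1 F162680)) (tt N29779 (iv0 D105939)) (tt N44055 (iv2 F162678)) (tt N72615 F365341) (tt N34359 F162677) (tt N50239 F335917) (tt N92597 D195604) (tt N44054 F162679))
theorem Q56109 : ∀ i, i < 56109 → P i := stepQ 56108 Q56108 (allL N56108 (tt N42984 F162681) (tt N85912 F374437) (tt N72822 (iv2 F323747)) (tt N86252 F375587) (tt N53052 (iv4 F349235)) (tt N29779 (iv5 D105941)) (tt N53050 F349205) (tt N72825 (iv7 F361589)))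
theorem Q56110 : ∀ i, i < 56110 → P i := stepQ 56109 Q56109 (allL N56109 (tt N87700 (iv1 F380180)) (tt N47688 F343385) (tt N35297 F297819) (tt N29781 F162689) (tt N36513 F162690) (tt N74423 F341979) (tt N29780 (iv6 D105944)) (tt N87698 (iv7 F380168)))
theorem Q56111 : ∀ i, i < 56111 → P i := stepQ 56110 Q56110 (allL N56110 (tt N41667 F306061) (tt N41664 F306062) (tt N29802 F162692) (tt N74423 F306063) (tt N63523 F337024) (tt N29781 (iv5 D105946)) (tt N29810 F306064) (tt N41666 F306065))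
theorem Q56112 : ∀ i, i < 56112 → P i := stepQ 56111 Q56111 (allL N56111 (tt N29801 (iv1 F162696)) (tt N29800 F162697) (tt N29803 F162693) (tt N87698 F380170) (tt N29784 F162694) (tt N41666 F306066) (tt N48136 F162695) (tt N29781 (iv7 D105947)))
theorem Q56113 : ∀ i, i < 56113 → P i := stepQ 56112 Q56112 (allL N56112 (tt N49040 (iv1 F308725)) (tt N33843 (iv0 F184567)) (tt N43786 F162735) (tt N29782 (iv3 D105949)) (tt N43181 F162736) (tt N91529 (iv5 F393504)) (tt N79549 (iv6 F257303)) (tt N29808 F162960))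
theorem Q56114 : ∀ i, i < 56114 → P i := stepQ 56113 Q56113 (allL N56113 (tt N72374 F359369) (tt N42989 (iv0 F232303)) (tt N29805 F162962) (tt N61424 (iv3 F309820)) (tt N29782 (iv4 D105950)) (tt N74878 (iv5 F337031)) (tt N76018 (iv6 F306940)) (tt N29809 F162963))
theorem Q56115 : ∀ i, i < 56115 → P i := stepQ 56114 Q56114 (allL N56114 (tt N42989 (iv1 F232304)) (tt N72374 (iv0 F359366)) (tt N29809 F162971) (tt N43793 F162739) (tt N29783 (iv4 D105954)) (tt N92598 D195605) (tt N29799 F303926) (tt N29805 F162972))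
theorem Q56116 : ∀ i, i < 56116 → P i := stepQ 56115 Q56115 (allL N56115 (tt N80458 (iv1 F360671)) (tt N36639 F191353) (tt N29810 F162973) (tt N43795 F162741) (tt N74929 F321841) (tt N29783 (iv5 D105955)) (tt N29802 (iv6 F305998)) (tt N29806 F162974))
theorem Q56117 : ∀ i, i < 56117 → P i := stepQ 56116 Q56116 (allL N56116 (tt N43988 F305148) (tt N38349 F305265) (tt N48441 F162752) (tt N29786 (iv3 D105960)) (tt N33981 F162753) (tt N68360 F305149) (tt N38306 (iv6 F307007)) (tt N42987 F162754))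
theorem Q56118 : ∀ i, i < 56118 → P i := stepQ 56117 Q56117 (allL N56117 (tt N29805 F232392) (tt N29809 F232393) (tt N42989 F162757) (tt N48442 F162758) (tt N34061 F162759) (tt N56142 (iv5 F340871)) (tt N29787 (iv6 D105962)) (tt N72374 (iv7 F359372)))
theorem Q56119 : ∀ i, i < 56119 → P i := stepQ 56118 Q56118 (allL N56118 (tt N39921 F308057) (tt N40203 F308058) (tt N40206 (iv2 F310068)) (tt N48079 F308052) (tt N89192 (iv4 F385513)) (tt N29788 (iv5 D105965)) (tt N39880 F308059) (tt N40207 (iv7 F310070)))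
theorem Q56120 : ∀ i, i < 56120 → P i := stepQ 56119 Q56119 (allL N56119 (tt N42603 F191167) (tt N29789 (iv0 D105977)) (tt N33830 F191168) (tt N36540 F191169) (tt N79122 (iv4 F252714)) (tt N76164 (iv5 F237175)) (tt N73356 (iv6 F338213)) (tt N42617 F191170))
theorem Q56121 : ∀ i, i < 56121 → P i := stepQ 56120 Q56120 (allL N56120 (tt N78108 (iv1 F353447)) (tt N92599 D195606) (tt N43548 F162772) (tt N61048 (iv3 F177746)) (tt N29789 (iv4 D105979)) (tt N92600 D195607) (tt N42449 F162773) (tt N80099 (iv7 F261537)))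
theorem Q56122 : ∀ i, i < 56122 → P i := stepQ 56121 Q56121 (allL N56121 (tt N33850 F190054) (tt N77581 (iv0 F243860)) (tt N29792 F162779) (tt N35078 F162780) (tt N43179 F162781) (tt N34213 F162782) (tt N29790 (iv6 D105981)) (tt N77600 (iv7 F243941)))
theorem Q56123 : ∀ i, i < 56123 → P i := stepQ 56122 Q56122 (allL N56122 (tt N36083 F331973) (tt N43951 F190955) (tt N43179 F162783) (tt N90457 (iv3 F389714)) (tt N29792 F162784) (tt N92601 D195608) (tt N29791 (iv6 D105982)) (tt N43972 F191345))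
theorem Q56124 : ∀ i, i < 56124 → P i := stepQ 56123 Q56123 (allL N56123 (tt N44577 (iv1 F310060)) (tt N48430 (iv0 F191376)) (tt N76446 (iv2 F238687)) (tt N29795 F162788) (tt N90457 (iv4 F389715)) (tt N43691 F308046) (tt N29793 (iv6 D105986)) (tt N79411 F255814))
theorem Q56125 : ∀ i, i < 56125 → P i := stepQ 56124 Q56124 (allL N56124 (tt N37629 (iv1 F309936)) (tt N43980 F303995) (tt N34317 (iv2 F305408)) (tt N43690 (iv3 F306105)) (tt N44001 F308391) (tt N34304 F303996) (tt N29794 (iv6 D105987)) (tt N34313 F303997))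
theorem Q56126 : ∀ i, i < 56126 → P i := stepQ 56125 Q56125 (allL N56125 (tt N34312 F189983) (tt N34316 F189984) (tt N36544 F162802) (tt N46133 F162803) (tt N29796 (iv4 D106004)) (tt N37630 F305903) (tt N33977 F162804) (tt N46603 (iv7 F309012)))
theorem Q56127 : ∀ i, i < 56127 → P i := stepQ 56126 Q56126 (allL N56126 (tt N68414 F304872) (tt N38333 F304873) (tt N46519 F162811) (tt N29798 F162812) (tt N46553 F162813) (tt N92602 D195609) (tt N29797 (iv6 D106006)) (tt N68413 (iv7 F306821)))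
theorem Q56128 : ∀ i, i < 56128 → P i := stepQ 56127 Q56127 (allL N56127 (tt N90730 F390672) (tt N62235 (iv0 F322673)) (tt N48144 F306055) (tt N92602 (iv3 F397588)) (tt N71404 (iv4 F366632)) (tt N29798 (iv5 D106007)) (tt N48142 F306056) (tt N80084 (iv7 F261449)))
theorem Q56129 : ∀ i, i < 56129 → P i := stepQ 56128 Q56128 (allL N56128 (tt N47709 F341001) (tt N74403 F341002) (tt N78310 F341012) (tt N29800 (iv3 D106013)) (tt N57428 (iv4 F309651)) (tt N80462 (iv5 F341006)) (tt N77450 (iv6 F350154)) (tt N78307 (iv7 F341013)))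
theorem Q56130 : ∀ i, i < 56130 → P i := stepQ 56129 Q56129 (allL N56129 (tt N47729 F302644) (tt N40602 F323431) (tt N47728 F304988) (tt N77450 (iv3 F344015)) (tt N63628 (iv4 F188524)) (tt N74003 F363159) (tt N29800 (iv6 D106015)) (tt N47703 F310191))
theorem Q56131 : ∀ i, i < 56131 → P i := stepQ 56130 Q56130 (allL N56130 (tt N41666 F307922) (tt N29802 (iv0 D106019)) (tt N41667 F307923) (tt N47708 F317062) (tt N80458 F360668) (tt N69659 (iv5 F309511)) (tt N74407 F307925) (tt N41664 F307926))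
theorem Q56132 : ∀ i, i < 56132 → P i := stepQ 56131 Q56131 (allL N56131 (tt N63630 F340858) (tt N63629 (iv0 F340845)) (tt N63523 (iv2 F340855)) (tt N63652 (iv3 F340856)) (tt N29802 (iv4 D106021)) (tt N63387 F340854) (tt N74929 F340853) (tt N63627 (iv7 F337026)))
theorem Q56133 : ∀ i, i < 56133 → P i := stepQ 56132 Q56132 (allL N56132 (tt N49045 (iv1 F308487)) (tt N49044 (iv0 F308727)) (tt N43787 F162998) (tt N29806 F162833) (tt N92603 D195610) (tt N29804 (iv5 D106030)) (tt N54963 F345670) (tt N43795 F162999))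
theorem Q56134 : ∀ i, i < 56134 → P i := stepQ 56133 Q56133 (allL N56133 (tt N29809 (iv1 F162848)) (tt N29805 (iv0 D106033)) (tt N72374 F359371) (tt N45310 F306549) (tt N34236 (iv4 F163005)) (tt N56139 F337030) (tt N47989 F210917) (tt N42989 (iv7 F232305)))
theorem Q56135 : ∀ i, i < 56135 → P i := stepQ 56134 Q56134 (allL N56134 (tt N43913 (iv1 F332508)) (tt N43900 (iv0 F332509)) (tt N43912 F314821) (tt N29805 (iv3 D106035)) (tt N43611 F162844) (tt N42226 F332507) (tt N72407 (iv6 F332515)) (tt N43793 (iv7 F162993)))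
theorem Q56136 : ∀ i, i < 56136 → P i := stepQ 56135 Q56135 (allL N56135 (tt N56074 F342593) (tt N56076 F355222) (tt N74878 (iv2 F342596)) (tt N42226 F342594) (tt N62847 (iv4 F340857)) (tt N29805 (iv5 D106036)) (tt N42223 F342595) (tt N92598 (iv7 F397565)))
theorem Q56137 : ∀ i, i < 56137 → P i := stepQ 56136 Q56136 (allL N56136 (tt N43992 F306941) (tt N73621 (iv0 F323797)) (tt N76018 (iv2 F306938)) (tt N72407 (iv3 F332513)) (tt N29807 F162845) (tt N76285 F312015) (tt N29805 (iv6 D106037)) (tt N48463 F307807))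
theorem Q56138 : ∀ i, i < 56138 → P i := stepQ 56137 Q56137 (allL N56137 (tt N29810 (iv1 F162872)) (tt N29806 (iv0 D106039)) (tt N36639 F191328) (tt N36602 F191329) (tt N41664 F321845) (tt N46504 (iv5 F191190)) (tt N41663 F321846) (tt N80458 (iv7 F360672)))
theorem Q56139 : ∀ i, i < 56139 → P i := stepQ 56138 Q56138 (allL N56138 (tt N29806 (iv1 D106040)) (tt N29810 F162869) (tt N80458 F360673) (tt N29816 F191333) (tt N41667 F321847) (tt N46510 F191334) (tt N33595 F191335) (tt N36639 F191336))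
theorem Q56140 : ∀ i, i < 56140 → P i := stepQ 56139 Q56139 (allL N56139 (tt N45224 F335017) (tt N74931 F335018) (tt N74930 F335019) (tt N42418 F335020) (tt N29806 (iv4 D106041)) (tt N56133 (iv5 F337030)) (tt N53332 F342597) (tt N74929 F335021))
theorem Q56141 : ∀ i, i < 56141 → P i := stepQ 56140 Q56140 (allL N56140 (tt N77654 (iv1 F244502)) (tt N77656 (iv0 F244514)) (tt N49041 F307809) (tt N29810 F163007) (tt N92604 D195611) (tt N29808 (iv5 D106052)) (tt N74423 (iv6 F230222)) (tt N91529 (iv7 F393505)))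
theorem Q56142 : ∀ i, i < 56142 → P i := stepQ 56141 Q56141 (allL N56141 (tt N56076 F355221) (tt N56074 F363413) (tt N92598 (iv2 F397561)) (tt N61423 (iv3 F355219)) (tt N62968 F340866) (tt N29809 (iv5 D106055)) (tt N41797 F355218) (tt N74878 (iv7 F355220)))
theorem Q56143 : ∀ i, i < 56143 → P i := stepQ 56142 Q56142 (allL N56142 (tt N74931 F340867) (tt N45224 F340868) (tt N74929 F340869) (tt N41314 F340870) (tt N29810 (iv4 D106057)) (tt N56117 F340871) (tt N63523 F340872) (tt N74930 F340873))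
theorem Q56144 : ∀ i, i < 56144 → P i := stepQ 56143 Q56143 (allL N56143 (tt N35010 (iv1 F304382)) (tt N33845 (iv0 F232413)) (tt N29813 F163016) (tt N74532 F332403) (tt N29812 (iv4 D106071)) (tt N92605 D195612) (tt N92606 D195613) (tt N35006 (iv7 F304388)))
theorem Q56145 : ∀ i, i < 56145 → P i := stepQ 56144 Q56144 (allL N56144 (tt N33854 F185569) (tt N48228 F185570) (tt N29815 F163030) (tt N36633 F163031) (tt N92606 (iv4 F397611)) (tt N38368 (iv5 F163032)) (tt N29812 (iv6 D106073)) (tt N68528 (iv7 F210767)))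
theorem Q56146 : ∀ i, i < 56146 → P i := stepQ 56145 Q56145 (allL N56145 (tt N35006 (iv1 F304386)) (tt N29813 (iv0 D106074)) (tt N35010 (iv2 F304383)) (tt N52962 F184676) (tt N43500 F232349) (tt N38806 F337819) (tt N35466 F210894) (tt N33845 (iv7 F232415)))
theorem Q56147 : ∀ i, i < 56147 → P i := stepQ 56146 Q56146 (allL N56146 (tt N92607 D195614) (tt N92608 D195615) (tt N92605 (iv2 F397605)) (tt N35018 F301979) (tt N67608 F337861) (tt N29813 (iv5 D106076)) (tt N67768 (iv6 F337862)) (tt N35011 (iv7 F304389)))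
theorem Q56148 : ∀ i, i < 56148 → P i := stepQ 56147 Q56147 (allL N56147 (tt N72129 (iv1 F361456)) (tt N43703 F301980) (tt N92606 (iv2 F397609)) (tt N34894 F301981) (tt N29815 F163050) (tt N74630 (iv5 F328498)) (tt N29813 (iv6 D106077)) (tt N34891 (iv7 F302771)))
theorem Q56149 : ∀ i, i < 56149 → P i := stepQ 56148 Q56148 (allL N56148 (tt N36641 (iv1 F163051)) (tt N29814 (iv0 D106078)) (tt N36643 (iv2 F187658)) (tt N77656 F244517) (tt N46026 F321132) (tt N63118 (iv5 F185696)) (tt N73405 (iv6 F315934)) (tt N36642 (iv7 F187661)))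
theorem Q56150 : ∀ i, i < 56150 → P i := stepQ 56149 Q56149 (allL N56149 (tt N29814 (iv1 D106079)) (tt N36641 F163052) (tt N36642 F187662) (tt N92609 D195616) (tt N46027 F321128) (tt N63147 (iv5 F187663)) (tt N33590 F205364) (tt N36643 F187660))
theorem Q56151 : ∀ i, i < 56151 → P i := stepQ 56150 Q56150 (allL N56150 (tt N29815 (iv1 D106083)) (tt N68528 F210769) (tt N48228 F185703) (tt N92610 D195617) (tt N90540 (iv4 F390016)) (tt N74531 (iv5 F228264)) (tt N48213 F185704) (tt N33854 F185705))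
theorem Q56152 : ∀ i, i < 56152 → P i := stepQ 56151 Q56151 (allL N56151 (tt N36636 F163089) (tt N36635 (iv0 F163091)) (tt N29818 F163086) (tt N36641 F163087) (tt N37078 F313130) (tt N29817 (iv5 D106088)) (tt N41688 F163090) (tt N36632 F163088))
theorem Q56153 : ∀ i, i < 56153 → P i := stepQ 56152 Q56152 (allL N56152 (tt N88439 (iv1 F383055)) (tt N40825 F316404) (tt N80495 F340121) (tt N29819 (iv3 D106095)) (tt N69134 F334130) (tt N37474 (iv5 F317240)) (tt N45293 F316405) (tt N34586 F316406))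
theorem Q56154 : ∀ i, i < 56154 → P i := stepQ 56153 Q56153 (allL N56153 (tt N42355 F163114) (tt N41301 (iv0 F163115)) (tt N56284 (iv2 F163327)) (tt N29822 (iv3 D106096)) (tt N56284 (iv4 F163329)) (tt N60850 (iv5 F177031)) (tt N42346 F163113) (tt N56238 (iv7 F163240)))
theorem Q56155 : ∀ i, i < 56155 → P i := stepQ 56154 Q56154 (allL N56154 (tt N36399 F163119) (tt N36401 F163120) (tt N36246 F163116) (tt N73517 (iv3 F362684)) (tt N29824 (iv4 D106097)) (tt N36246 F163118) (tt N73514 F362685) (tt N42941 F163117))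
theorem Q56156 : ∀ i, i < 56156 → P i := stepQ 56155 Q56155 (allL N56155 (tt N42370 F163123) (tt N42374 F163124) (tt N29827 F163121) (tt N92611 D195618) (tt N29826 (iv4 D106098)) (tt N29827 F163122) (tt N79976 (iv6 F259206)) (tt N60818 (iv7 F176959)))
theorem Q56157 : ∀ i, i < 56157 → P i := stepQ 56156 Q56156 (allL N56156 (tt N92612 D195619) (tt N92613 D195620) (tt N92614 D195621) (tt N29827 (iv3 D106099)) (tt N29830 F163125) (tt N92611 (iv5 F397648)) (tt N92615 D195622) (tt N56232 (iv7 F163228)))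
theorem Q56158 : ∀ i, i < 56158 → P i := stepQ 56157 Q56157 (allL N56157 (tt N92616 D195623) (tt N92617 D195624) (tt N79976 (iv2 F259205)) (tt N92615 (iv3 F397653)) (tt N29828 F163126) (tt N92618 D195625) (tt N29827 (iv6 D106100)) (tt N92619 D195626))
theorem Q56159 : ∀ i, i < 56159 → P i := stepQ 56158 Q56158 (allL N56158 (tt N42374 (iv1 F163128)) (tt N42370 F163129) (tt N60818 (iv2 F176957)) (tt N56232 (iv3 F163227)) (tt N29829 F163127) (tt N60818 (iv5 F176958)) (tt N92620 D195627) (tt N29827 (iv7 D106101)))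
theorem Q56160 : ∀ i, i < 56160 → P i := stepQ 56159 Q56159 (allL N56159 (tt N79977 (iv1 F259210)) (tt N29828 (iv0 D106102)) (tt N78897 (iv2 F251278)) (tt N38854 F332603) (tt N66130 F332604) (tt N90776 (iv5 F390803)) (tt N38853 F332605) (tt N70029 (iv7 F332615)))
theorem Q56161 : ∀ i, i < 56161 → P i := stepQ 56160 Q56160 (allL N56160 (tt N29828 (iv1 D106103)) (tt N79977 F259209) (tt N70029 (iv2 F332613)) (tt N92621 D195628) (tt N92622 D195629) (tt N90768 (iv5 F390781)) (tt N70028 F364864) (tt N78897 F251280))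
theorem Q56162 : ∀ i, i < 56162 → P i := stepQ 56161 Q56161 (allL N56161 (tt N70029 (iv1 F332612)) (tt N78897 F259204) (tt N79977 (iv2 F259207)) (tt N29834 F163130) (tt N92619 (iv4 F397660)) (tt N29842 F163131) (tt N92623 D195630) (tt N29828 (iv7 D106104)))
theorem Q56163 : ∀ i, i < 56163 → P i := stepQ 56162 Q56162 (allL N56162 (tt N92624 D195631) (tt N92625 D195632) (tt N60819 (iv2 F176962)) (tt N29835 F163132) (tt N92620 (iv4 F397661)) (tt N36402 F163133) (tt N29829 (iv6 D106105)) (tt N92623 (iv7 F397670)))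
theorem Q56164 : ∀ i, i < 56164 → P i := stepQ 56163 Q56163 (allL N56163 (tt N56229 (iv1 F163224)) (tt N29830 (iv0 D106106)) (tt N56231 F395229) (tt N92626 D195633) (tt N92627 D195634) (tt N57252 (iv5 F361380)) (tt N92628 D195635) (tt N56230 (iv7 F395228)))
theorem Q56165 : ∀ i, i < 56165 → P i := stepQ 56164 Q56164 (allL N56164 (tt N29830 (iv1 D106107)) (tt N56229 F163223) (tt N56230 (iv2 F395224)) (tt N92629 D195636) (tt N92630 D195637) (tt N57253 (iv5 F395220)) (tt N92631 D195638) (tt N56231 F395230))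
theorem Q56166 : ∀ i, i < 56166 → P i := stepQ 56165 Q56165 (allL N56165 (tt N56231 (iv1 F163226)) (tt N56230 F163225) (tt N29830 (iv2 D106108)) (tt N56270 (iv3 F163295)) (tt N92614 (iv4 F397652)) (tt N56218 (iv5 F163213)) (tt N67262 (iv6 F362916)) (tt N56229 (iv7 F163222)))
theorem Q56167 : ∀ i, i < 56167 → P i := stepQ 56166 Q56166 (allL N56166 (tt N68724 F362922) (tt N56516 F362923) (tt N67262 F362917) (tt N29831 F163134) (tt N92615 (iv4 F397654)) (tt N56827 (iv5 F362918)) (tt N29830 (iv6 D106109)) (tt N68722 (iv7 F362919)))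
theorem Q56168 : ∀ i, i < 56168 → P i := stepQ 56167 Q56167 (allL N56167 (tt N92244 (iv1 F396444)) (tt N92249 (iv0 F396467)) (tt N56272 (iv2 F163303)) (tt N56827 F362921) (tt N67532 (iv4 F362924)) (tt N29831 (iv5 D106112)) (tt N56237 (iv6 F163239)) (tt N92632 D195639))
theorem Q56169 : ∀ i, i < 56169 → P i := stepQ 56168 Q56168 (allL N56168 (tt N32566 F177631) (tt N32562 (iv0 F177632)) (tt N56273 (iv2 F163305)) (tt N68722 F362920) (tt N29834 F163135) (tt N92632 (iv5 F397694)) (tt N56236 (iv6 F163234)) (tt N29831 (iv7 D106113)))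
theorem Q56170 : ∀ i, i < 56170 → P i := stepQ 56169 Q56169 (allL N56169 (tt N75063 (iv1 F359187)) (tt N60730 F361695) (tt N75062 (iv2 F361694)) (tt N29832 (iv3 D106115)) (tt N92633 D195640) (tt N76665 F359188) (tt N92634 D195641) (tt N56277 (iv7 F177875)))
theorem Q56171 : ∀ i, i < 56171 → P i := stepQ 56170 Q56170 (allL N56170 (tt N61182 F178207) (tt N36392 (iv0 F178033)) (tt N56275 F177872) (tt N76665 (iv3 F359195)) (tt N61531 (iv4 F178999)) (tt N29832 (iv5 D106117)) (tt N61113 F178019) (tt N45041 (iv7 F177874)))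
theorem Q56172 : ∀ i, i < 56172 → P i := stepQ 56171 Q56171 (allL N56171 (tt N60793 F251393) (tt N85943 (iv0 F374537)) (tt N56276 F177873) (tt N92634 (iv3 F397703)) (tt N60943 F177856) (tt N52017 (iv5 F346181)) (tt N29832 (iv6 D106118)) (tt N67355 (iv7 F342933)))
theorem Q56173 : ∀ i, i < 56173 → P i := stepQ 56172 Q56172 (allL N56172 (tt N60779 F339456) (tt N68047 F339459) (tt N67944 F339454) (tt N29833 (iv3 D106120)) (tt N80695 (iv4 F339457)) (tt N85810 (iv5 F374051)) (tt N38004 F339455) (tt N56274 F177870))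
theorem Q56174 : ∀ i, i < 56174 → P i := stepQ 56173 Q56173 (allL N56173 (tt N36392 (iv1 F178034)) (tt N61182 (iv0 F178208)) (tt N45041 (iv2 F177861)) (tt N85810 (iv3 F374052)) (tt N34402 F177782) (tt N29833 (iv5 D106122)) (tt N32579 F163138) (tt N56275 F177871))
theorem Q56175 : ∀ i, i < 56175 → P i := stepQ 56174 Q56174 (allL N56174 (tt N92635 D195642) (tt N60742 F342936) (tt N56278 (iv2 F177876)) (tt N38004 F332608) (tt N37736 (iv4 F332617)) (tt N66151 F332609) (tt N29833 (iv6 D106123)) (tt N67942 F332610))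
theorem Q56176 : ∀ i, i < 56176 → P i := stepQ 56175 Q56175 (allL N56175 (tt N56281 (iv1 F163320)) (tt N56280 F163319) (tt N56279 (iv2 F163314)) (tt N92623 (iv3 F397668)) (tt N56236 (iv4 F163233)) (tt N78862 (iv5 F251160)) (tt N29834 (iv6 D106124)) (tt N29835 F163139))
theorem Q56177 : ∀ i, i < 56177 → P i := stepQ 56176 Q56176 (allL N56176 (tt N56279 (iv1 F163318)) (tt N29835 (iv0 D106125)) (tt N56280 F395771) (tt N75067 (iv3 F415797)) (tt N55676 (iv4 F395522)) (tt N92636 D195644) (tt N92637 D195645) (tt N56281 (iv7 F395769)))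
theorem Q56178 : ∀ i, i < 56178 → P i := stepQ 56177 Q56177 (allL N56177 (tt N29835 (iv1 D106126)) (tt N56279 F163317) (tt N56281 (iv2 F395772)) (tt N85951 (iv3 F374581)) (tt N55677 (iv4 F374585)) (tt N92638 D195646) (tt N85941 F374533) (tt N56280 F395773))
theorem Q56179 : ∀ i, i < 56179 → P i := stepQ 56178 Q56178 (allL N56178 (tt N61114 (iv1 F290559)) (tt N29836 (iv0 D106127)) (tt N46044 (iv2 F163141)) (tt N40857 (iv3 F319952)) (tt N87708 (iv4 F380211)) (tt N92639 D195647) (tt N32643 F163140) (tt N61115 (iv7 F290568)))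
theorem Q56180 : ∀ i, i < 56180 → P i := stepQ 56179 Q56179 (allL N56179 (tt N61115 (iv1 F290565)) (tt N46044 (iv0 F206696)) (tt N61114 (iv2 F290560)) (tt N41387 F319198) (tt N36327 F319199) (tt N56461 (iv5 F163785)) (tt N61171 F178172) (tt N29836 (iv7 D106129)))
theorem Q56181 : ∀ i, i < 56181 → P i := stepQ 56180 Q56180 (allL N56180 (tt N55782 F163146) (tt N43633 F163147) (tt N61279 F178502) (tt N52553 F163144) (tt N29837 (iv4 D106130)) (tt N43529 F163145) (tt N92640 D195648) (tt N61278 F178496))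
theorem Q56182 : ∀ i, i < 56182 → P i := stepQ 56181 Q56181 (allL N56181 (tt N42209 F318922) (tt N76570 F239347) (tt N63403 (iv2 F187333)) (tt N29838 F163148) (tt N92640 (iv4 F397721)) (tt N61663 (iv5 F179199)) (tt N29837 (iv6 D106131)) (tt N76654 (iv7 F352152)))
theorem Q56183 : ∀ i, i < 56183 → P i := stepQ 56182 Q56182 (allL N56182 (tt N29838 (iv1 D106133)) (tt N61171 F178173) (tt N36390 (iv2 F178211)) (tt N40467 F321184) (tt N51634 F321185) (tt N92641 D195649) (tt N92642 D195650) (tt N61172 F178167))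
theorem Q56184 : ∀ i, i < 56184 → P i := stepQ 56183 Q56183 (allL N56183 (tt N36390 (iv1 F178289)) (tt N61172 F178288) (tt N61171 F178168) (tt N76654 (iv3 F352151)) (tt N71736 (iv4 F357975)) (tt N61667 (iv5 F179203)) (tt N61114 (iv6 F290562)) (tt N29838 (iv7 D106134)))
theorem Q56185 : ∀ i, i < 56185 → P i := stepQ 56184 Q56184 (allL N56184 (tt N79972 (iv1 F259123)) (tt N29839 (iv0 D106135)) (tt N79969 F355723) (tt N87259 (iv3 F378920)) (tt N64196 (iv4 F259181)) (tt N74022 F340465) (tt N92643 D195651) (tt N79970 (iv7 F355725)))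
theorem Q56186 : ∀ i, i < 56186 → P i := stepQ 56185 Q56185 (allL N56185 (tt N29839 (iv1 D106136)) (tt N79972 F259122) (tt N79970 F355726) (tt N47714 (iv3 F190336)) (tt N64197 (iv4 F278216)) (tt N92644 D195652) (tt N92645 D195653) (tt N79969 F340931))
theorem Q56187 : ∀ i, i < 56187 → P i := stepQ 56186 Q56186 (allL N56186 (tt N92646 D195654) (tt N92647 D195655) (tt N79971 (iv2 F259117)) (tt N37270 F331284) (tt N90763 (iv4 F390767)) (tt N29839 (iv5 D106137)) (tt N41181 F331285) (tt N92648 D195656))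
theorem Q56188 : ∀ i, i < 56188 → P i := stepQ 56187 Q56187 (allL N56187 (tt N79970 (iv1 F259116)) (tt N79969 (iv0 F259115)) (tt N79972 (iv2 F259119)) (tt N78841 (iv3 F251084)) (tt N29842 F163151) (tt N92648 (iv5 F397751)) (tt N78841 (iv6 F251086)) (tt N29839 (iv7 D106138)))
theorem Q56189 : ∀ i, i < 56189 → P i := stepQ 56188 Q56188 (allL N56188 (tt N63398 F338681) (tt N42754 F338682) (tt N61425 (iv2 F338683)) (tt N29840 (iv3 D106140)) (tt N61400 (iv4 F178772)) (tt N69376 F338685) (tt N92649 D195657) (tt N61426 F362423))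
theorem Q56190 : ∀ i, i < 56190 → P i := stepQ 56189 Q56189 (allL N56189 (tt N92650 D195658) (tt N92651 D195659) (tt N79974 (iv2 F366118)) (tt N69376 (iv3 F338687)) (tt N92652 D195660) (tt N29840 (iv5 D106142)) (tt N69374 F363882) (tt N79975 (iv7 F362427)))
theorem Q56191 : ∀ i, i < 56191 → P i := stepQ 56190 Q56190 (allL N56190 (tt N61077 F397762) (tt N79944 (iv0 F397761)) (tt N79942 (iv2 F398530)) (tt N92649 (iv3 F397756)) (tt N88240 (iv4 F382312)) (tt N60277 F176097) (tt N29840 (iv6 D106143)) (tt N79941 F331580))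
theorem Q56192 : ∀ i, i < 56192 → P i := stepQ 56191 Q56191 (allL N56191 (tt N61064 F353426) (tt N76617 F359208) (tt N76616 F364251) (tt N29841 (iv3 D106145)) (tt N92653 D195661) (tt N85986 (iv5 F374750)) (tt N81442 (iv6 F364252)) (tt N76615 F364250))
theorem Q56193 : ∀ i, i < 56193 → P i := stepQ 56192 Q56192 (allL N56192 (tt N92651 (iv1 F397765)) (tt N92650 F397764) (tt N79975 (iv2 F366117)) (tt N85986 F374752) (tt N92654 D195662) (tt N29841 (iv5 D106147)) (tt N92655 D195663) (tt N79974 (iv7 F366116)))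
theorem Q56194 : ∀ i, i < 56194 → P i := stepQ 56193 Q56193 (allL N56193 (tt N92656 D195664) (tt N73778 F364253) (tt N74771 F364254) (tt N81442 F364255) (tt N44153 F364256) (tt N92657 D195665) (tt N29841 (iv6 D106148)) (tt N92658 D195666))
theorem Q56195 : ∀ i, i < 56195 → P i := stepQ 56194 Q56194 (allL N56194 (tt N76542 F278215) (tt N61005 (iv0 F258993)) (tt N76540 (iv2 F340919)) (tt N47929 (iv3 F334716)) (tt N29843 (iv4 D106158)) (tt N47927 F334714) (tt N80868 (iv6 F340658)) (tt N56337 (iv7 F163490)))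
theorem Q56196 : ∀ i, i < 56196 → P i := stepQ 56195 Q56195 (allL N56195 (tt N92659 D195667) (tt N75101 F397798) (tt N76619 (iv2 F334818)) (tt N29844 F163162) (tt N92660 D195668) (tt N29843 (iv5 D106159)) (tt N70032 F359182) (tt N56338 (iv7 F163482)))
theorem Q56197 : ∀ i, i < 56197 → P i := stepQ 56196 Q56196 (allL N56196 (tt N79911 (iv1 F362050)) (tt N74940 (iv0 F354441)) (tt N76620 (iv2 F334819)) (tt N29845 F163163) (tt N80868 F340665) (tt N56669 (iv5 F164563)) (tt N29843 (iv6 D106160)) (tt N79920 (iv7 F334825)))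
theorem Q56198 : ∀ i, i < 56198 → P i := stepQ 56197 Q56197 (allL N56197 (tt N29847 (iv1 F163174)) (tt N29844 (iv0 D106168)) (tt N56329 F178294) (tt N92661 D195669) (tt N92241 (iv4 F396428)) (tt N32695 F163170) (tt N92662 D195670) (tt N56330 (iv7 F178295)))
theorem Q56199 : ∀ i, i < 56199 → P i := stepQ 56198 Q56198 (allL N56198 (tt N29844 (iv1 D106169)) (tt N29847 F163171) (tt N56330 (iv2 F178297)) (tt N92651 F397766) (tt N92242 (iv4 F396434)) (tt N66780 (iv5 F205539)) (tt N36278 F178298) (tt N56329 F178296))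
theorem Q56200 : ∀ i, i < 56200 → P i := stepQ 56199 Q56199 (allL N56199 (tt N61566 (iv1 F179040)) (tt N61568 (iv0 F179042)) (tt N56331 (iv2 F163484)) (tt N92663 D195671) (tt N29844 (iv4 D106170)) (tt N60946 F177854) (tt N68647 F349625) (tt N56340 (iv7 F163483)))
theorem Q56201 : ∀ i, i < 56201 → P i := stepQ 56200 Q56200 (allL N56200 (tt N60812 F176953) (tt N92664 D195672) (tt N56332 (iv2 F163485)) (tt N70032 (iv3 F359183)) (tt N68647 (iv4 F342922)) (tt N56671 (iv5 F164568)) (tt N29844 (iv6 D106171)) (tt N92665 D195673))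
theorem Q56202 : ∀ i, i < 56202 → P i := stepQ 56201 Q56201 (allL N56201 (tt N29846 (iv1 D106178)) (tt N56325 F163506) (tt N56324 (iv2 F356347)) (tt N63398 (iv3 F340905)) (tt N90647 (iv4 F390393)) (tt N68047 F340918) (tt N61047 (iv6 F340906)) (tt N55766 F340903))
theorem Q56203 : ∀ i, i < 56203 → P i := stepQ 56202 Q56202 (allL N56202 (tt N55766 (iv1 F357304)) (tt N56324 F163503) (tt N29846 (iv2 D106179)) (tt N56336 (iv3 F163508)) (tt N92666 D195674) (tt N85956 F374607) (tt N74773 (iv6 F366239)) (tt N56325 F163501))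
theorem Q56204 : ∀ i, i < 56204 → P i := stepQ 56203 Q56203 (allL N56203 (tt N61048 F191341) (tt N90537 (iv0 F389999)) (tt N92666 (iv2 F397808)) (tt N61524 (iv3 F178978)) (tt N29846 (iv4 D106180)) (tt N92667 D195675) (tt N91174 F392171) (tt N56326 F163502))
theorem Q56205 : ∀ i, i < 56205 → P i := stepQ 56204 Q56204 (allL N56204 (tt N50235 F340907) (tt N78605 (iv0 F340902)) (tt N85956 (iv2 F374608)) (tt N29847 F163176) (tt N90522 (iv4 F389947)) (tt N29846 (iv5 D106181)) (tt N92668 D195676) (tt N56327 F163495))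
theorem Q56206 : ∀ i, i < 56206 → P i := stepQ 56205 Q56205 (allL N56205 (tt N74774 F340908) (tt N41365 F340909) (tt N74773 F366238) (tt N29848 F163177) (tt N91174 (iv4 F392170)) (tt N74145 F340910) (tt N29846 (iv6 D106182)) (tt N74772 F366236))
theorem Q56207 : ∀ i, i < 56207 → P i := stepQ 56206 Q56206 (allL N56206 (tt N61568 (iv1 F179043)) (tt N61566 (iv0 F179038)) (tt N56340 (iv2 F163497)) (tt N92669 D195677) (tt N29847 (iv4 D106186)) (tt N60947 (iv5 F179039)) (tt N92670 D195678) (tt N56331 F163496))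
theorem Q56208 : ∀ i, i < 56208 → P i := stepQ 56207 Q56207 (allL N56207 (tt N60808 (iv1 F176950)) (tt N30409 (iv0 F163179)) (tt N56341 F163509) (tt N92668 (iv3 F397816)) (tt N92670 (iv4 F397822)) (tt N92671 D195679) (tt N29847 (iv6 D106187)) (tt N60807 (iv7 F176943)))
theorem Q56209 : ∀ i, i < 56209 → P i := stepQ 56208 Q56208 (allL N56208 (tt N56344 (iv1 F163456)) (tt N29848 (iv0 D106188)) (tt N56342 F163448) (tt N92656 (iv3 F397783)) (tt N61072 (iv4 F177897)) (tt N32185 F163180) (tt N61020 (iv6 F177670)) (tt N55768 (iv7 F163181)))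
theorem Q56210 : ∀ i, i < 56210 → P i := stepQ 56209 Q56209 (allL N56209 (tt N32665 (iv1 F178015)) (tt N32662 (iv0 F163182)) (tt N56343 F163515) (tt N74145 F331468) (tt N41106 F331469) (tt N29848 (iv5 D106190)) (tt N92671 (iv6 F397829)) (tt N92200 (iv7 F396213)))
theorem Q56211 : ∀ i, i < 56211 → P i := stepQ 56210 Q56210 (allL N56210 (tt N55768 F163513) (tt N56342 F163514) (tt N56344 (iv2 F163512)) (tt N74772 (iv3 F366235)) (tt N61529 (iv4 F178990)) (tt N92200 (iv5 F396214)) (tt N56334 F163511) (tt N29848 (iv7 D106191)))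
theorem Q56212 : ∀ i, i < 56212 → P i := stepQ 56211 Q56211 (allL N56211 (tt N35885 F174271) (tt N65652 (iv0 F202179)) (tt N29850 F163183) (tt N30964 F163184) (tt N44149 F163185) (tt N57317 (iv5 F166052)) (tt N29849 (iv6 D106192)) (tt N92672 D195680))
theorem Q56213 : ∀ i, i < 56213 → P i := stepQ 56212 Q56212 (allL N56212 (tt N92672 (iv1 F397837)) (tt N29850 (iv0 D106193)) (tt N35885 (iv2 F171922)) (tt N59589 (iv3 F173186)) (tt N31896 (iv4 F173191)) (tt N92673 D195681) (tt N65692 (iv6 F202248)) (tt N65652 (iv7 F202178)))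
theorem Q56214 : ∀ i, i < 56214 → P i := stepQ 56213 Q56213 (allL N56213 (tt N29850 (iv1 D106194)) (tt N92672 F397836) (tt N65652 (iv2 F202177)) (tt N35879 (iv3 F169336)) (tt N31897 F169335) (tt N92674 D195682) (tt N74248 (iv6 F227092)) (tt N35885 (iv7 F171873)))
theorem Q56215 : ∀ i, i < 56215 → P i := stepQ 56214 Q56214 (allL N56214 (tt N65652 F202181) (tt N35885 F202182) (tt N92672 (iv2 F397831)) (tt N29852 F163186) (tt N59869 (iv4 F174345)) (tt N57220 (iv5 F165842)) (tt N35831 F163187) (tt N29850 (iv7 D106195)))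
theorem Q56216 : ∀ i, i < 56216 → P i := stepQ 56215 Q56215 (allL N56215 (tt N57667 F167347) (tt N36201 (iv0 F163202)) (tt N35823 F163199) (tt N41454 (iv3 F168132)) (tt N92675 D195683) (tt N29851 (iv5 D106201)) (tt N32117 F163200) (tt N35821 F163201))
theorem Q56217 : ∀ i, i < 56217 → P i := stepQ 56216 Q56216 (allL N56216 (tt N29853 (iv1 D106203)) (tt N70204 F216961) (tt N35900 (iv2 F171891)) (tt N65692 F202246) (tt N57911 (iv4 F171919)) (tt N57721 (iv5 F167630)) (tt N59589 (iv6 F173184)) (tt N58215 F171890))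
theorem Q56218 : ∀ i, i < 56218 → P i := stepQ 56217 Q56217 (allL N56217 (tt N35900 F168461) (tt N58215 F169934) (tt N70204 (iv2 F216956)) (tt N29855 F163203) (tt N30977 F163204) (tt N37660 F163205) (tt N35819 F163206) (tt N29853 (iv7 D106204)))
theorem Q56219 : ∀ i, i < 56219 → P i := stepQ 56218 Q56218 (allL N56218 (tt N29857 (iv1 F163215)) (tt N29856 (iv0 D106206)) (tt N29860 (iv2 F163211)) (tt N35795 F163212) (tt N65525 (iv4 F201966)) (tt N56165 F163213) (tt N36744 F343595) (tt N29858 F163214))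
theorem Q56220 : ∀ i, i < 56220 → P i := stepQ 56219 Q56219 (allL N56219 (tt N29860 F381058) (tt N29858 F381059) (tt N29856 (iv2 D106207)) (tt N92676 D195684) (tt N92036 (iv4 F395467)) (tt N92677 D195685) (tt N92678 D195686) (tt N29857 (iv7 F163216)))
theorem Q56221 : ∀ i, i < 56221 → P i := stepQ 56220 Q56220 (allL N56220 (tt N60555 F395685) (tt N92679 D195687) (tt N60386 F381054) (tt N29856 (iv3 D106208)) (tt N60384 (iv4 F381047)) (tt N88653 (iv5 F383727)) (tt N81753 (iv6 F355889)) (tt N60391 (iv7 F381044)))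
theorem Q56222 : ∀ i, i < 56222 → P i := stepQ 56221 Q56221 (allL N56221 (tt N67257 F343540) (tt N65662 (iv0 F202213)) (tt N92036 F395468) (tt N92680 D195688) (tt N29856 (iv4 D106209)) (tt N58833 (iv5 F355902)) (tt N58836 F355901) (tt N92681 D195689))
theorem Q56223 : ∀ i, i < 56223 → P i := stepQ 56222 Q56222 (allL N56222 (tt N92682 D195690) (tt N57255 (iv0 F383737)) (tt N92677 (iv2 F397851)) (tt N88653 F383728) (tt N92683 D195691) (tt N29856 (iv5 D106210)) (tt N88652 (iv6 F383729)) (tt N92684 D195692))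
theorem Q56224 : ∀ i, i < 56224 → P i := stepQ 56223 Q56223 (allL N56223 (tt N46584 F355895) (tt N60534 F355896) (tt N92678 (iv2 F397854)) (tt N81753 F355897) (tt N58836 (iv4 F355899)) (tt N81752 F355898) (tt N29856 (iv6 D106211)) (tt N92685 D195693))
theorem Q56225 : ∀ i, i < 56225 → P i := stepQ 56224 Q56224 (allL N56224 (tt N29858 F381040) (tt N29860 F381041) (tt N29857 F163217) (tt N60391 F381042) (tt N92681 (iv4 F397866)) (tt N92684 (iv5 F397872)) (tt N87902 F381043) (tt N29856 (iv7 D106212)))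
theorem Q56226 : ∀ i, i < 56226 → P i := stepQ 56225 Q56225 (allL N56225 (tt N92686 D195694) (tt N60516 (iv0 F377902)) (tt N92687 D195695) (tt N29857 (iv3 D106213)) (tt N86971 (iv4 F377901)) (tt N92688 D195696) (tt N92689 D195697) (tt N92676 (iv7 F397849)))
theorem Q56227 : ∀ i, i < 56227 → P i := stepQ 56226 Q56226 (allL N56226 (tt N65662 (iv1 F395472)) (tt N67257 (iv0 F362950)) (tt N92681 (iv2 F397865)) (tt N65654 (iv3 F202187)) (tt N29857 (iv4 D106214)) (tt N92690 D195698) (tt N92691 D195699) (tt N92036 F395469))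
theorem Q56228 : ∀ i, i < 56228 → P i := stepQ 56227 Q56227 (allL N56227 (tt N57255 F348400) (tt N92682 F397873) (tt N92684 (iv2 F397871)) (tt N92688 (iv3 F397882)) (tt N92692 D195700) (tt N29857 (iv5 D106215)) (tt N92693 D195701) (tt N92677 (iv7 F397852)))
theorem Q56229 : ∀ i, i < 56229 → P i := stepQ 56228 Q56228 (allL N56228 (tt N60569 (iv1 F364790)) (tt N79351 (iv0 F348401)) (tt N87902 F381038) (tt N92689 (iv3 F397883)) (tt N92691 (iv4 F397890)) (tt N56726 F348402) (tt N29857 (iv6 D106216)) (tt N87901 F381035))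
theorem Q56230 : ∀ i, i < 56230 → P i := stepQ 56229 Q56229 (allL N56229 (tt N56164 (iv1 F163223)) (tt N56163 F163224) (tt N29859 F163220) (tt N35857 F163221) (tt N92694 D195702) (tt N29858 (iv5 D106219)) (tt N92695 D195703) (tt N56165 F163222))
theorem Q56231 : ∀ i, i < 56231 → P i := stepQ 56230 Q56230 (allL N56230 (tt N56165 (iv1 F163225)) (tt N29859 (iv0 D106220)) (tt N56164 F395224) (tt N84020 (iv3 F367824)) (tt N92696 D195704) (tt N60443 (iv5 F377922)) (tt N84019 F367825) (tt N56163 F395228))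
theorem Q56232 : ∀ i, i < 56232 → P i := stepQ 56231 Q56231 (allL N56231 (tt N29859 (iv1 D106221)) (tt N56165 F163226) (tt N56163 (iv2 F395229)) (tt N92697 D195705) (tt N92698 D195706) (tt N60444 (iv5 F361400)) (tt N92699 D195707) (tt N56164 (iv7 F395230)))
theorem Q56233 : ∀ i, i < 56233 → P i := stepQ 56232 Q56232 (allL N56232 (tt N92700 D195708) (tt N92701 D195709) (tt N92694 (iv2 F397892)) (tt N56158 F163227) (tt N29859 (iv4 D106222)) (tt N92702 D195710) (tt N92703 D195711) (tt N56156 F163228))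
theorem Q56234 : ∀ i, i < 56234 → P i := stepQ 56233 Q56233 (allL N56233 (tt N92704 D195712) (tt N92705 D195713) (tt N92695 (iv2 F397896)) (tt N29861 F163229) (tt N92703 (iv4 F397919)) (tt N65540 (iv5 F201979)) (tt N29859 (iv6 D106223)) (tt N92706 D195714))
theorem Q56235 : ∀ i, i < 56235 → P i := stepQ 56234 Q56234 (allL N56234 (tt N35868 (iv1 F163235)) (tt N29861 (iv0 D106225)) (tt N35866 F383823) (tt N83007 F383824) (tt N55761 F383825) (tt N92707 D195715) (tt N83006 F383826) (tt N35867 F383827))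
theorem Q56236 : ∀ i, i < 56236 → P i := stepQ 56235 Q56235 (allL N56235 (tt N29861 (iv1 D106226)) (tt N35868 F163231) (tt N35867 F383820) (tt N92708 D195716) (tt N55762 F383821) (tt N92709 D195717) (tt N92710 D195718) (tt N35866 F383822))
theorem Q56237 : ∀ i, i < 56237 → P i := stepQ 56236 Q56236 (allL N56236 (tt N35867 (iv1 F163236)) (tt N35866 F163237) (tt N35868 F163232) (tt N92706 (iv3 F397920)) (tt N56175 F163233) (tt N65543 (iv5 F201985)) (tt N56168 F163234) (tt N29861 (iv7 D106227)))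
theorem Q56238 : ∀ i, i < 56238 → P i := stepQ 56237 Q56237 (allL N56237 (tt N65819 (iv1 F202420)) (tt N65818 F202419) (tt N35871 F163238) (tt N30180 F343581) (tt N36891 F343582) (tt N29862 (iv5 D106228)) (tt N56167 F163239) (tt N36746 F343583))
theorem Q56239 : ∀ i, i < 56239 → P i := stepQ 56238 Q56238 (allL N56238 (tt N56623 (iv1 F164474)) (tt N57257 F165916) (tt N74375 (iv2 F227637)) (tt N29864 (iv3 D106229)) (tt N74375 F227635) (tt N85031 (iv5 F371422)) (tt N56621 F164466) (tt N56153 F163240))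
theorem Q56240 : ∀ i, i < 56240 → P i := stepQ 56239 Q56239 (allL N56239 (tt N29876 (iv1 F163245)) (tt N29875 (iv0 F163244)) (tt N29879 F163241) (tt N32475 F163242) (tt N92711 D195719) (tt N29866 (iv5 D106230)) (tt N92712 D195720) (tt N29874 F163243))
theorem Q56241 : ∀ i, i < 56241 → P i := stepQ 56240 Q56240 (allL N56240 (tt N32468 F163249) (tt N56648 (iv0 F164522)) (tt N29869 F163246) (tt N41718 F163247) (tt N92713 D195721) (tt N29867 (iv5 D106231)) (tt N70589 (iv6 F335895)) (tt N29872 F163248))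
theorem Q56242 : ∀ i, i < 56242 → P i := stepQ 56241 Q56241 (allL N56241 (tt N85062 F371508) (tt N85031 (iv0 F371424)) (tt N32506 F163251) (tt N32511 F163252) (tt N92714 D195722) (tt N29868 (iv5 D106232)) (tt N69359 (iv6 F335806)) (tt N75693 (iv7 F233459)))
theorem Q56243 : ∀ i, i < 56243 → P i := stepQ 56242 Q56242 (allL N56242 (tt N92715 D195723) (tt N92716 D195724) (tt N92713 (iv2 F397942)) (tt N92717 D195725) (tt N29869 (iv4 D106233)) (tt N92718 D195726) (tt N92719 D195727) (tt N92572 (iv7 F397427)))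
theorem Q56244 : ∀ i, i < 56244 → P i := stepQ 56243 Q56243 (allL N56243 (tt N92720 D195728) (tt N92130 (iv0 F395885)) (tt N70589 F361068) (tt N70591 (iv3 F335891)) (tt N92719 (iv4 F397960)) (tt N70589 F364324) (tt N29869 (iv6 D106234)) (tt N92721 D195729))
theorem Q56245 : ∀ i, i < 56245 → P i := stepQ 56244 Q56244 (allL N56244 (tt N36250 F163257) (tt N36252 F163258) (tt N36303 F163253) (tt N29872 F163254) (tt N74901 (iv4 F229775)) (tt N29870 (iv5 D106235)) (tt N53661 F163255) (tt N41718 F163256))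
theorem Q56246 : ∀ i, i < 56246 → P i := stepQ 56245 Q56245 (allL N56245 (tt N85031 F371425) (tt N85062 (iv0 F371507)) (tt N75693 (iv2 F233457)) (tt N32510 F163259) (tt N92722 D195730) (tt N29871 (iv5 D106236)) (tt N50804 F163260) (tt N32506 F163261))
theorem Q56247 : ∀ i, i < 56247 → P i := stepQ 56246 Q56246 (allL N56246 (tt N92716 (iv1 F397954)) (tt N92715 F397952) (tt N92572 (iv2 F397426)) (tt N65809 (iv3 F398109)) (tt N29872 (iv4 D106237)) (tt N65808 (iv5 F398105)) (tt N92723 D195733) (tt N92713 (iv7 F397943)))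
theorem Q56248 : ∀ i, i < 56248 → P i := stepQ 56247 Q56247 (allL N56247 (tt N66631 F386960) (tt N84920 (iv0 F386958)) (tt N85847 (iv2 F374194)) (tt N53661 F163262) (tt N92723 (iv4 F397980)) (tt N50087 F163263) (tt N29872 (iv6 D106238)) (tt N92724 D195734))
theorem Q56249 : ∀ i, i < 56249 → P i := stepQ 56248 Q56248 (allL N56248 (tt N29879 (iv1 F163264)) (tt N29874 (iv0 D106239)) (tt N29875 F163266) (tt N41720 F163267) (tt N92708 (iv4 F397924)) (tt N30406 (iv5 F163265)) (tt N92725 D195735) (tt N29876 F163268))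
theorem Q56250 : ∀ i, i < 56250 → P i := stepQ 56249 Q56249 (allL N56249 (tt N29874 (iv1 D106240)) (tt N29879 F163269) (tt N29876 F163272) (tt N41338 F163273) (tt N92726 D195736) (tt N30072 (iv5 F163271)) (tt N92727 D195737) (tt N29875 F163270))
theorem Q56251 : ∀ i, i < 56251 → P i := stepQ 56250 Q56250 (allL N56250 (tt N60878 (iv1 F177126)) (tt N92728 D195738) (tt N29877 F163274) (tt N92729 D195739) (tt N29874 (iv4 D106241)) (tt N92730 D195740) (tt N92731 D195741) (tt N92711 (iv7 F397936)))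
theorem Q56252 : ∀ i, i < 56252 → P i := stepQ 56251 Q56251 (allL N56251 (tt N92732 D195742) (tt N92733 D195743) (tt N29878 F163275) (tt N46064 F163276) (tt N92731 (iv4 F398006)) (tt N29907 F163277) (tt N29874 (iv6 D106242)) (tt N92734 D195744))
theorem Q56253 : ∀ i, i < 56253 → P i := stepQ 56252 Q56252 (allL N56252 (tt N41805 (iv1 F163282)) (tt N41730 (iv0 F163281)) (tt N41336 F163278) (tt N29875 (iv3 D106243)) (tt N92137 (iv4 F395910)) (tt N32096 F163279) (tt N92735 D195745) (tt N41338 F163280))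
theorem Q56254 : ∀ i, i < 56254 → P i := stepQ 56253 Q56253 (allL N56253 (tt N92736 D195746) (tt N92737 D195747) (tt N92708 F397926) (tt N92738 D195748) (tt N29875 (iv4 D106244)) (tt N92739 D195749) (tt N92740 D195750) (tt N92726 (iv7 F397992)))
theorem Q56255 : ∀ i, i < 56255 → P i := stepQ 56254 Q56254 (allL N56254 (tt N92741 D195751) (tt N92123 (iv0 F406143)) (tt N92725 (iv2 F397987)) (tt N92735 (iv3 F398029)) (tt N92740 (iv4 F398046)) (tt N92742 D195753) (tt N29875 (iv6 D106245)) (tt N92743 D195754))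
theorem Q56256 : ∀ i, i < 56256 → P i := stepQ 56255 Q56255 (allL N56255 (tt N92737 (iv1 F398036)) (tt N92736 F398033) (tt N92726 (iv2 F397990)) (tt N35866 F377848) (tt N29876 (iv4 D106246)) (tt N92744 D195755) (tt N92745 D195756) (tt N92708 (iv7 F397925)))
theorem Q56257 : ∀ i, i < 56257 → P i := stepQ 56256 Q56256 (allL N56256 (tt N66620 F374542) (tt N92746 D195757) (tt N92727 (iv2 F397994)) (tt N79062 (iv3 F252085)) (tt N92745 (iv4 F398055)) (tt N92747 D195758) (tt N29876 (iv6 D106247)) (tt N92748 D195759))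
theorem Q56258 : ∀ i, i < 56258 → P i := stepQ 56257 Q56257 (allL N56257 (tt N92711 (iv1 F397938)) (tt N29877 (iv0 D106248)) (tt N60878 (iv2 F177123)) (tt N92749 D195760) (tt N60877 F177122) (tt N92750 D195761) (tt N92751 D195762) (tt N92728 (iv7 F398000)))
theorem Q56259 : ∀ i, i < 56259 → P i := stepQ 56258 Q56258 (allL N56258 (tt N29877 (iv1 D106249)) (tt N92711 (iv0 F397937)) (tt N92728 F398001) (tt N92752 D195763) (tt N60871 (iv4 F177096)) (tt N92753 D195764) (tt N92754 D195765) (tt N60878 (iv7 F177124)))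
theorem Q56260 : ∀ i, i < 56260 → P i := stepQ 56259 Q56259 (allL N56259 (tt N92755 D195766) (tt N82781 (iv0 F359713)) (tt N92756 D195767) (tt N29877 (iv3 D106250)) (tt N29881 F163283) (tt N92757 D195768) (tt N92758 D195769) (tt N35860 (iv7 F163284)))
theorem Q56261 : ∀ i, i < 56261 → P i := stepQ 56260 Q56260 (allL N56260 (tt N65786 F397950) (tt N92759 D195770) (tt N92730 (iv2 F398004)) (tt N92757 (iv3 F398092)) (tt N92760 D195771) (tt N29877 (iv5 D106251)) (tt N92761 D195772) (tt N92762 D195773))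
theorem Q56262 : ∀ i, i < 56262 → P i := stepQ 56261 Q56261 (allL N56261 (tt N92763 D195774) (tt N67324 (iv0 F335845)) (tt N92731 (iv2 F398005)) (tt N92758 (iv3 F398097)) (tt N29878 F163285) (tt N82972 (iv5 F339643)) (tt N29877 (iv6 D106252)) (tt N92764 D195775))
theorem Q56263 : ∀ i, i < 56263 → P i := stepQ 56262 Q56262 (allL N56262 (tt N92728 (iv1 F397999)) (tt N60878 (iv0 F177125)) (tt N92711 (iv2 F397935)) (tt N35860 F163286) (tt N29879 F163287) (tt N92762 (iv5 F398114)) (tt N92765 D195776) (tt N29877 (iv7 D106253)))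
theorem Q56264 : ∀ i, i < 56264 → P i := stepQ 56263 Q56263 (allL N56263 (tt N92734 (iv1 F398027)) (tt N29878 (iv0 D106254)) (tt N92732 F398014) (tt N75668 (iv3 F366677)) (tt N92766 D195777) (tt N75667 F366676) (tt N88199 (iv6 F382141)) (tt N92733 (iv7 F398019)))
theorem Q56265 : ∀ i, i < 56265 → P i := stepQ 56264 Q56264 (allL N56264 (tt N29878 (iv1 D106255)) (tt N92734 F398026) (tt N92733 F398021) (tt N60952 (iv3 F336820)) (tt N60955 F349025) (tt N92767 D195778) (tt N70755 (iv6 F349024)) (tt N92732 F398016))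
theorem Q56266 : ∀ i, i < 56266 → P i := stepQ 56265 Q56265 (allL N56265 (tt N92733 (iv1 F398018)) (tt N92732 (iv0 F398017)) (tt N92734 (iv2 F398022)) (tt N29885 F163288) (tt N92764 (iv4 F398123)) (tt N29913 F163289) (tt N92768 D195779) (tt N29878 (iv7 D106256)))
theorem Q56267 : ∀ i, i < 56267 → P i := stepQ 56266 Q56266 (allL N56266 (tt N92769 D195780) (tt N60493 (iv0 F377850)) (tt N92712 (iv2 F397939)) (tt N29886 F163290) (tt N92765 (iv4 F398128)) (tt N92770 D195781) (tt N29879 (iv6 D106257)) (tt N92768 (iv7 F398143)))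
theorem Q56268 : ∀ i, i < 56268 → P i := stepQ 56267 Q56267 (allL N56267 (tt N66791 (iv1 F205583)) (tt N66790 F205579) (tt N32702 F163291) (tt N29887 F163292) (tt N92771 D195782) (tt N29880 (iv5 D106258)) (tt N92770 (iv6 F398149)) (tt N29915 F163293))
theorem Q56269 : ∀ i, i < 56269 → P i := stepQ 56268 Q56268 (allL N56268 (tt N35857 (iv1 F163294)) (tt N29881 (iv0 D106259)) (tt N35859 F170986) (tt N92772 D195783) (tt N92773 D195784) (tt N41521 (iv5 F170985)) (tt N92774 D195785) (tt N35858 F170987))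
theorem Q56270 : ∀ i, i < 56270 → P i := stepQ 56269 Q56269 (allL N56269 (tt N29881 (iv1 D106260)) (tt N35857 F163299) (tt N35858 (iv2 F170988)) (tt N92775 D195786) (tt N92776 D195787) (tt N41522 F170286) (tt N92777 D195788) (tt N35859 F170976))
theorem Q56271 : ∀ i, i < 56271 → P i := stepQ 56270 Q56270 (allL N56270 (tt N35859 (iv1 F163300)) (tt N35858 F163298) (tt N29881 (iv2 D106261)) (tt N56165 F163295) (tt N92756 (iv4 F398086)) (tt N35795 F163296) (tt N92778 D195789) (tt N35857 F163297))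
theorem Q56272 : ∀ i, i < 56272 → P i := stepQ 56271 Q56271 (allL N56271 (tt N67215 F349614) (tt N92779 D195790) (tt N92778 (iv2 F398181)) (tt N29882 F163301) (tt N92758 (iv4 F398098)) (tt N92780 D195791) (tt N29881 (iv6 D106262)) (tt N92781 D195792))
theorem Q56273 : ∀ i, i < 56273 → P i := stepQ 56272 Q56272 (allL N56272 (tt N61573 (iv1 F179054)) (tt N61592 (iv0 F179074)) (tt N56167 F163303) (tt N92780 (iv3 F398190)) (tt N92782 D195793) (tt N29882 (iv5 D106265)) (tt N35871 F163304) (tt N92783 D195794))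
theorem Q56274 : ∀ i, i < 56274 → P i := stepQ 56273 Q56273 (allL N56273 (tt N55759 (iv1 F177808)) (tt N55755 (iv0 F177810)) (tt N56168 F163305) (tt N92781 (iv3 F398194)) (tt N29885 F163306) (tt N92783 (iv5 F398206)) (tt N35868 F163307) (tt N29882 (iv7 D106266)))
theorem Q56275 : ∀ i, i < 56275 → P i := stepQ 56274 Q56274 (allL N56274 (tt N78608 F339449) (tt N69347 F339450) (tt N69221 F339451) (tt N29883 (iv3 D106268)) (tt N46815 F339452) (tt N84717 (iv5 F370323)) (tt N37136 F339453) (tt N56172 (iv7 F177870)))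
theorem Q56276 : ∀ i, i < 56276 → P i := stepQ 56275 Q56275 (allL N56275 (tt N66780 (iv1 F205542)) (tt N32695 (iv0 F178183)) (tt N56170 (iv2 F177872)) (tt N84717 F370324) (tt N61250 F178439) (tt N29883 (iv5 D106270)) (tt N78898 (iv6 F251284)) (tt N56173 (iv7 F177871)))
theorem Q56277 : ∀ i, i < 56277 → P i := stepQ 56276 Q56276 (allL N56276 (tt N66624 F259069) (tt N92784 D195795) (tt N56171 (iv2 F177873)) (tt N37136 F332636) (tt N36812 F332637) (tt N45039 F163312) (tt N29883 (iv6 D106271)) (tt N69219 F332638))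
theorem Q56278 : ∀ i, i < 56278 → P i := stepQ 56277 Q56277 (allL N56277 (tt N41881 F332589) (tt N92785 D195796) (tt N66080 F332590) (tt N29884 (iv3 D106273)) (tt N66137 F332591) (tt N66072 F332592) (tt N35965 F332593) (tt N56169 F177875))
theorem Q56279 : ∀ i, i < 56279 → P i := stepQ 56278 Q56278 (allL N56278 (tt N92786 D195797) (tt N92122 F395840) (tt N56174 F177876) (tt N35965 F332599) (tt N56508 F332600) (tt N35964 F332601) (tt N29884 (iv6 D106275)) (tt N66134 F332602))
theorem Q56280 : ∀ i, i < 56280 → P i := stepQ 56279 Q56279 (allL N56279 (tt N56177 (iv1 F163317)) (tt N56176 F163318) (tt N56175 F163314) (tt N92768 (iv3 F398142)) (tt N35868 F163315) (tt N92787 D195798) (tt N29885 (iv6 D106276)) (tt N29886 F163316))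
theorem Q56281 : ∀ i, i < 56281 → P i := stepQ 56280 Q56280 (allL N56280 (tt N56175 (iv1 F163319)) (tt N29886 (iv0 D106277)) (tt N56176 (iv2 F395771)) (tt N92788 D195799) (tt N32385 F395521) (tt N92789 D195800) (tt N92790 D195801) (tt N56177 (iv7 F395773)))
theorem Q56282 : ∀ i, i < 56282 → P i := stepQ 56281 Q56281 (allL N56281 (tt N29886 (iv1 D106278)) (tt N56175 F163320) (tt N56177 F395772) (tt N92791 D195802) (tt N32386 F360472) (tt N92792 D195803) (tt N92793 D195804) (tt N56176 F395769))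
theorem Q56283 : ∀ i, i < 56283 → P i := stepQ 56282 Q56282 (allL N56282 (tt N92794 D195805) (tt N92795 D195806) (tt N45020 F163321) (tt N92770 (iv3 F398148)) (tt N78876 (iv4 F251172)) (tt N29886 (iv5 D106279)) (tt N29887 F163322) (tt N92787 (iv7 F398229)))
theorem Q56284 : ∀ i, i < 56284 → P i := stepQ 56283 Q56283 (allL N56283 (tt N51304 F163325) (tt N30057 F163326) (tt N45027 F163323) (tt N69482 (iv3 F214487)) (tt N60267 (iv4 F176080)) (tt N29888 (iv5 D106280)) (tt N92202 (iv6 F396225)) (tt N51506 F163324))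
theorem Q56285 : ∀ i, i < 56285 → P i := stepQ 56284 Q56284 (allL N56284 (tt N57257 F165915) (tt N56623 (iv0 F164473)) (tt N56153 F163327) (tt N29890 F163328) (tt N56153 F163329) (tt N85062 (iv5 F371504)) (tt N29889 (iv6 D106281)) (tt N74375 (iv7 F227633)))
theorem Q56286 : ∀ i, i < 56286 → P i := stepQ 56285 Q56285 (allL N56285 (tt N71833 (iv1 F350594)) (tt N92796 D195807) (tt N34700 F163336) (tt N34002 F163337) (tt N51942 F163338) (tt N36411 F163339) (tt N29892 (iv6 D106283)) (tt N90780 (iv7 F390813)))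
theorem Q56287 : ∀ i, i < 56287 → P i := stepQ 56286 Q56286 (allL N56286 (tt N66948 (iv1 F206206)) (tt N40748 F320182) (tt N29914 F163340) (tt N32649 F163341) (tt N42669 F163342) (tt N66793 (iv5 F205592)) (tt N29893 (iv6 D106284)) (tt N75969 (iv7 F234846)))
theorem Q56288 : ∀ i, i < 56288 → P i := stepQ 56287 Q56287 (allL N56287 (tt N32879 F163348) (tt N29902 (iv0 F163347)) (tt N32741 F163343) (tt N32748 F163344) (tt N32741 F163345) (tt N92797 D195808) (tt N29895 (iv6 D106285)) (tt N32763 F163346))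
theorem Q56289 : ∀ i, i < 56289 → P i := stepQ 56288 Q56288 (allL N56288 (tt N41022 F318196) (tt N41021 F318197) (tt N32795 F163349) (tt N43169 F163350) (tt N33451 F318198) (tt N92798 D195809) (tt N29896 (iv6 D106286)) (tt N41020 F318199))
theorem Q56290 : ∀ i, i < 56290 → P i := stepQ 56289 Q56289 (allL N56289 (tt N92799 D195810) (tt N86487 F376371) (tt N32797 F163352) (tt N31369 F163353) (tt N91945 (iv4 F395070)) (tt N29897 (iv5 D106287)) (tt N92798 (iv6 F398278)) (tt N86404 (iv7 F376121)))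
theorem Q56291 : ∀ i, i < 56291 → P i := stepQ 56290 Q56290 (allL N56290 (tt N74694 F348074) (tt N60285 F348088) (tt N56637 (iv2 F164507)) (tt N69626 (iv3 F215179)) (tt N92800 D195811) (tt N29898 (iv5 D106290)) (tt N29900 F163354) (tt N73164 (iv7 F350236)))
theorem Q56292 : ∀ i, i < 56292 → P i := stepQ 56291 Q56291 (allL N56291 (tt N30071 F163358) (tt N30076 (iv0 F163359)) (tt N32126 F163356) (tt N29960 F163357) (tt N55583 F340332) (tt N29899 (iv5 D106292)) (tt N85761 (iv6 F373815)) (tt N55582 (iv7 F340331)))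
theorem Q56293 : ∀ i, i < 56293 → P i := stepQ 56292 Q56292 (allL N56292 (tt N92801 D195812) (tt N92802 D195813) (tt N56636 (iv2 F164506)) (tt N86849 F377416) (tt N29900 (iv4 D106293)) (tt N83525 (iv5 F363521)) (tt N92800 (iv6 F398288)) (tt N56638 (iv7 F164509)))
theorem Q56294 : ∀ i, i < 56294 → P i := stepQ 56293 Q56293 (allL N56293 (tt N29902 (iv1 D106294)) (tt N32879 F163361) (tt N32763 (iv2 F163366)) (tt N32496 (iv3 F163363)) (tt N32763 (iv4 F163364)) (tt N86033 (iv5 F374963)) (tt N32494 F163365) (tt N32741 F163362))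
theorem Q56295 : ∀ i, i < 56295 → P i := stepQ 56294 Q56294 (allL N56294 (tt N84778 (iv1 F370598)) (tt N50292 F163368) (tt N84775 F370581) (tt N32814 F163367) (tt N92803 D195814) (tt N29902 (iv5 D106295)) (tt N76001 (iv6 F235474)) (tt N84776 (iv7 F370583)))
theorem Q56296 : ∀ i, i < 56296 → P i := stepQ 56295 Q56295 (allL N56295 (tt N32763 (iv1 F163373)) (tt N32741 F163374) (tt N32879 F163369) (tt N32717 F163370) (tt N29905 F163371) (tt N84776 (iv5 F370584)) (tt N32798 F163372) (tt N29902 (iv7 D106296)))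
theorem Q56297 : ∀ i, i < 56297 → P i := stepQ 56296 Q56296 (allL N56296 (tt N66781 (iv1 F360950)) (tt N73161 (iv0 F360949)) (tt N62245 (iv2 F316770)) (tt N78820 (iv3 F251011)) (tt N73007 (iv4 F366487)) (tt N29903 (iv5 D106299)) (tt N29904 F163375) (tt N73146 F360951))
theorem Q56298 : ∀ i, i < 56298 → P i := stepQ 56297 Q56297 (allL N56297 (tt N51454 (iv1 F370592)) (tt N84777 (iv0 F370590)) (tt N85535 F372974) (tt N84877 F370970) (tt N29904 (iv4 D106302)) (tt N92804 D195815) (tt N73007 F366488) (tt N83289 (iv7 F356688)))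
theorem Q56299 : ∀ i, i < 56299 → P i := stepQ 56298 Q56298 (allL N56298 (tt N32708 (iv1 F163377)) (tt N66802 F205625) (tt N66789 (iv2 F205573)) (tt N78810 (iv3 F250959)) (tt N83289 F356687) (tt N29905 F163376) (tt N83288 (iv6 F356685)) (tt N29904 (iv7 D106303)))
theorem Q56300 : ∀ i, i < 56300 → P i := stepQ 56299 Q56299 (allL N56299 (tt N32604 F333335) (tt N85777 (iv0 F373892)) (tt N29908 F163378) (tt N42966 F163379) (tt N44020 F317598) (tt N51237 F163380) (tt N29906 (iv6 D106304)) (tt N92191 (iv7 F396171)))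
theorem Q56301 : ∀ i, i < 56301 → P i := stepQ 56300 Q56300 (allL N56300 (tt N29913 (iv1 F163385)) (tt N29907 (iv0 D106305)) (tt N29911 F191137) (tt N42991 F357309) (tt N75975 (iv4 F234968)) (tt N92805 D195816) (tt N92806 D195817) (tt N29912 F191138))
theorem Q56302 : ∀ i, i < 56302 → P i := stepQ 56301 Q56301 (allL N56301 (tt N29907 (iv1 D106306)) (tt N29913 F163381) (tt N29912 F191133) (tt N92221 (iv3 F396333)) (tt N63084 F190358) (tt N92807 D195818) (tt N66562 (iv6 F350249)) (tt N29911 F191134))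
theorem Q56303 : ∀ i, i < 56303 → P i := stepQ 56302 Q56302 (allL N56302 (tt N29912 (iv1 F163386)) (tt N29911 F163387) (tt N29913 F163382) (tt N46065 F163383) (tt N35364 F163384) (tt N92734 (iv5 F398025)) (tt N75969 F234848) (tt N29907 (iv7 D106307)))
theorem Q56304 : ∀ i, i < 56304 → P i := stepQ 56303 Q56303 (allL N56303 (tt N92191 (iv1 F396170)) (tt N29908 (iv0 D106308)) (tt N32604 F331572) (tt N46069 F331573) (tt N40875 F331574) (tt N92808 D195819) (tt N40874 F331575) (tt N85777 (iv7 F373891)))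
theorem Q56305 : ∀ i, i < 56305 → P i := stepQ 56304 Q56304 (allL N56304 (tt N85777 F373894) (tt N32604 F364375) (tt N92191 (iv2 F396175)) (tt N34352 F317600) (tt N34354 F317601) (tt N84729 (iv5 F370383)) (tt N46031 F290277) (tt N29908 (iv7 D106310)))
theorem Q56306 : ∀ i, i < 56306 → P i := stepQ 56305 Q56305 (allL N56305 (tt N92809 D195820) (tt N92810 D195821) (tt N42964 F163388) (tt N29910 F163389) (tt N76337 (iv4 F238384)) (tt N42450 F163390) (tt N29909 (iv6 D106311)) (tt N92811 D195822))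
theorem Q56307 : ∀ i, i < 56307 → P i := stepQ 56306 Q56306 (allL N56306 (tt N32642 F290265) (tt N46032 F290266) (tt N46031 F290273) (tt N92811 (iv3 F398335)) (tt N46494 F313927) (tt N46031 F290276) (tt N92191 F396176) (tt N29910 (iv7 D106314)))
theorem Q56308 : ∀ i, i < 56308 → P i := stepQ 56307 Q56307 (allL N56307 (tt N92588 (iv1 F397516)) (tt N42986 F360542) (tt N92220 (iv2 F396326)) (tt N29911 (iv3 D106316)) (tt N74400 (iv4 F313057)) (tt N92812 D195823) (tt N68437 (iv6 F360541)) (tt N92221 (iv7 F396335)))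
theorem Q56309 : ∀ i, i < 56309 → P i := stepQ 56308 Q56308 (allL N56308 (tt N92813 D195824) (tt N92814 D195825) (tt N92805 (iv2 F398301)) (tt N92812 (iv3 F398340)) (tt N92815 D195826) (tt N29911 (iv5 D106318)) (tt N92816 D195827) (tt N92807 (iv7 F398314)))
theorem Q56310 : ∀ i, i < 56310 → P i := stepQ 56309 Q56309 (allL N56309 (tt N80496 F356823) (tt N92817 D195828) (tt N92806 (iv2 F398306)) (tt N68437 F350219) (tt N72744 (iv4 F315567)) (tt N68436 (iv5 F350218)) (tt N29911 (iv6 D106319)) (tt N92818 D195829))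
theorem Q56311 : ∀ i, i < 56311 → P i := stepQ 56310 Q56310 (allL N56310 (tt N33975 F339713) (tt N42993 F339714) (tt N42992 F357307) (tt N29912 (iv3 D106321)) (tt N49400 F309301) (tt N61551 (iv5 F357312)) (tt N74443 (iv6 F350248)) (tt N42991 F357308))
theorem Q56312 : ∀ i, i < 56312 → P i := stepQ 56311 Q56311 (allL N56311 (tt N45320 (iv1 F206240)) (tt N66954 F206238) (tt N63084 F191139) (tt N75977 F235054) (tt N29912 (iv4 D106322)) (tt N77060 (iv5 F241537)) (tt N66556 (iv6 F350226)) (tt N75975 (iv7 F234970)))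
theorem Q56313 : ∀ i, i < 56313 → P i := stepQ 56312 Q56312 (allL N56312 (tt N92814 (iv1 F398349)) (tt N92813 F398346) (tt N92807 (iv2 F398313)) (tt N61551 F357315) (tt N61572 (iv4 F357317)) (tt N29912 (iv5 D106323)) (tt N92819 D195830) (tt N92805 (iv7 F398303)))
theorem Q56314 : ∀ i, i < 56314 → P i := stepQ 56313 Q56313 (allL N56313 (tt N40871 F350228) (tt N40874 F350229) (tt N66562 F350230) (tt N74443 F350231) (tt N66556 F350232) (tt N87627 (iv5 F379931)) (tt N29912 (iv6 D106324)) (tt N74677 F350233))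
theorem Q56315 : ∀ i, i < 56315 → P i := stepQ 56314 Q56314 (allL N56314 (tt N40748 F320183) (tt N66948 (iv0 F206205)) (tt N75969 F234844) (tt N29917 F163393) (tt N43644 F163394) (tt N92820 D195831) (tt N29913 (iv6 D106325)) (tt N29914 F163395))
theorem Q56316 : ∀ i, i < 56316 → P i := stepQ 56315 Q56315 (allL N56315 (tt N29914 (iv1 D106327)) (tt N75969 F234845) (tt N40748 F320179) (tt N42970 F348662) (tt N40737 F320180) (tt N82931 F356650) (tt N40736 F320181) (tt N66948 (iv7 F206204)))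
theorem Q56317 : ∀ i, i < 56317 → P i := stepQ 56316 Q56316 (allL N56316 (tt N75954 (iv1 F234663)) (tt N92821 D195832) (tt N66793 (iv2 F205590)) (tt N29916 F163396) (tt N92822 D195833) (tt N29914 (iv5 D106328)) (tt N29915 F163397) (tt N92820 (iv7 F398375)))
theorem Q56318 : ∀ i, i < 56318 → P i := stepQ 56317 Q56317 (allL N56317 (tt N32702 (iv1 F163399)) (tt N29915 (iv0 D106329)) (tt N66790 F205580) (tt N89616 (iv3 F386966)) (tt N92823 D195834) (tt N30077 F163398) (tt N92824 D195835) (tt N66791 (iv7 F205584)))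
theorem Q56319 : ∀ i, i < 56319 → P i := stepQ 56318 Q56318 (allL N56318 (tt N29915 (iv1 D106330)) (tt N32702 F163400) (tt N66791 (iv2 F205586)) (tt N42974 F163402) (tt N92825 D195836) (tt N45171 (iv5 F163401)) (tt N92742 (iv6 F398049)) (tt N66790 F205582))
theorem Q56320 : ∀ i, i < 56320 → P i := stepQ 56319 Q56319 (allL N56319 (tt N92826 D195837) (tt N92827 D195838) (tt N66792 (iv2 F205588)) (tt N92828 D195839) (tt N29915 (iv4 D106331)) (tt N92829 D195840) (tt N92822 (iv6 F398382)) (tt N92771 (iv7 F398153)))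
theorem Q56321 : ∀ i, i < 56321 → P i := stepQ 56320 Q56320 (allL N56320 (tt N45013 (iv1 F163411)) (tt N29916 (iv0 D106342)) (tt N45010 F193507) (tt N50139 (iv3 F176042)) (tt N61535 (iv4 F179004)) (tt N60959 F177629) (tt N50137 F176041) (tt N45011 F193510))
theorem Q56322 : ∀ i, i < 56322 → P i := stepQ 56321 Q56321 (allL N56321 (tt N29916 (iv1 D106343)) (tt N45013 F163406) (tt N45011 (iv2 F193511)) (tt N92830 D195841) (tt N61536 (iv4 F179005)) (tt N60967 (iv5 F177634)) (tt N92831 D195842) (tt N45010 (iv7 F193505)))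
theorem Q56323 : ∀ i, i < 56323 → P i := stepQ 56322 Q56322 (allL N56322 (tt N61612 (iv1 F179131)) (tt N61613 (iv0 F179134)) (tt N45012 F163407) (tt N92832 D195843) (tt N29916 (iv4 D106344)) (tt N92833 D195844) (tt N29926 F163408) (tt N92834 D195845))
theorem Q56324 : ∀ i, i < 56324 → P i := stepQ 56323 Q56323 (allL N56323 (tt N45011 (iv1 F163412)) (tt N45010 F163413) (tt N45013 F163409) (tt N92820 (iv3 F398374)) (tt N92834 (iv4 F398432)) (tt N29917 F163410) (tt N92787 (iv6 F398228)) (tt N29916 (iv7 D106345)))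
theorem Q56325 : ∀ i, i < 56325 → P i := stepQ 56324 Q56324 (allL N56324 (tt N56202 (iv1 F163503)) (tt N29918 (iv0 D106352)) (tt N56201 F356347) (tt N42993 F356348) (tt N84176 (iv4 F368421)) (tt N78608 F356349) (tt N61556 F356350) (tt N32627 F356351))
theorem Q56326 : ∀ i, i < 56326 → P i := stepQ 56325 Q56325 (allL N56325 (tt N56201 (iv1 F163506)) (tt N32627 F340900) (tt N29918 (iv2 D106354)) (tt N43230 F334815) (tt N92835 D195846) (tt N85008 (iv5 F371354)) (tt N92836 D195847) (tt N56202 (iv7 F163501)))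
theorem Q56327 : ∀ i, i < 56327 → P i := stepQ 56326 Q56326 (allL N56326 (tt N92837 D195848) (tt N76951 (iv0 F240922)) (tt N92835 (iv2 F398436)) (tt N61598 (iv3 F179094)) (tt N29918 (iv4 D106355)) (tt N92838 D195849) (tt N92839 D195850) (tt N56203 (iv7 F163502)))
theorem Q56328 : ∀ i, i < 56328 → P i := stepQ 56327 Q56327 (allL N56327 (tt N85009 F371364) (tt N50894 (iv0 F357306)) (tt N85008 F371356) (tt N29919 F163422) (tt N88916 (iv4 F384529)) (tt N29918 (iv5 D106356)) (tt N92840 D195851) (tt N56204 (iv7 F163495)))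
theorem Q56329 : ∀ i, i < 56329 → P i := stepQ 56328 Q56328 (allL N56328 (tt N59265 F395447) (tt N92841 D195852) (tt N92836 (iv2 F398440)) (tt N29920 F163423) (tt N92839 (iv4 F398452)) (tt N56476 (iv5 F163789)) (tt N29918 (iv6 D106357)) (tt N92842 D195853))
theorem Q56330 : ∀ i, i < 56330 → P i := stepQ 56329 Q56329 (allL N56329 (tt N29922 (iv1 F163434)) (tt N29919 (iv0 D106365)) (tt N56197 (iv2 F178294)) (tt N92843 D195854) (tt N61570 (iv4 F179049)) (tt N36392 F163430) (tt N92844 D195855) (tt N56198 (iv7 F178296)))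
theorem Q56331 : ∀ i, i < 56331 → P i := stepQ 56330 Q56330 (allL N56330 (tt N29919 (iv1 D106366)) (tt N29922 F163431) (tt N56198 F178297) (tt N92814 F398351) (tt N61571 (iv4 F179052)) (tt N61182 F178205) (tt N32484 F178206) (tt N56197 F178295))
theorem Q56332 : ∀ i, i < 56332 → P i := stepQ 56331 Q56331 (allL N56331 (tt N92238 (iv1 F396416)) (tt N92240 (iv0 F396424)) (tt N56199 F163484) (tt N92845 D195856) (tt N29919 (iv4 D106367)) (tt N92179 (iv5 F396115)) (tt N67368 (iv6 F349626)) (tt N56206 (iv7 F163496)))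
theorem Q56333 : ∀ i, i < 56333 → P i := stepQ 56332 Q56332 (allL N56332 (tt N92129 F395881) (tt N92846 D195857) (tt N56200 F163485) (tt N92840 (iv3 F398454)) (tt N67368 (iv4 F332819)) (tt N56478 (iv5 F163790)) (tt N29919 (iv6 D106368)) (tt N92847 D195858))
theorem Q56334 : ∀ i, i < 56334 → P i := stepQ 56333 Q56333 (allL N56333 (tt N29920 (iv1 D106371)) (tt N46045 F163439) (tt N46047 (iv2 F163437)) (tt N92817 F398364) (tt N61563 (iv4 F179028)) (tt N78926 (iv5 F251389)) (tt N46039 (iv6 F163435)) (tt N32644 F163436))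
theorem Q56335 : ∀ i, i < 56335 → P i := stepQ 56334 Q56334 (allL N56334 (tt N46047 (iv1 F177673)) (tt N32644 (iv0 F177675)) (tt N46045 F163441) (tt N92842 (iv3 F398463)) (tt N45141 (iv4 F177835)) (tt N30091 (iv5 F163479)) (tt N56210 (iv6 F163511)) (tt N29920 (iv7 D106372)))
theorem Q56336 : ∀ i, i < 56336 → P i := stepQ 56335 Q56335 (allL N56335 (tt N29921 (iv1 D106375)) (tt N43230 F334810) (tt N43231 F334811) (tt N92588 (iv3 F397512)) (tt N81997 (iv4 F352065)) (tt N92785 (iv5 F398218)) (tt N43239 F334812) (tt N32595 F334813))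
theorem Q56337 : ∀ i, i < 56337 → P i := stepQ 56336 Q56336 (allL N56336 (tt N32595 F359178) (tt N43231 F359179) (tt N29921 (iv2 D106376)) (tt N56202 F163508) (tt N92848 D195859) (tt N92849 D195860) (tt N92850 D195861) (tt N43230 F334816))
theorem Q56338 : ∀ i, i < 56338 → P i := stepQ 56337 Q56337 (allL N56337 (tt N43174 F340922) (tt N77634 (iv0 F352030)) (tt N92848 (iv2 F398492)) (tt N61605 (iv3 F179116)) (tt N29921 (iv4 D106377)) (tt N75389 F346412) (tt N75390 (iv6 F346409)) (tt N56194 F163490))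
theorem Q56339 : ∀ i, i < 56339 → P i := stepQ 56338 Q56338 (allL N56338 (tt N84956 (iv1 F371180)) (tt N76666 (iv0 F362024)) (tt N92849 (iv2 F398498)) (tt N29922 F163443) (tt N92851 D195862) (tt N29921 (iv5 D106378)) (tt N92852 D195863) (tt N56195 F163482))
theorem Q56340 : ∀ i, i < 56340 → P i := stepQ 56339 Q56339 (allL N56339 (tt N38856 F362022) (tt N85800 (iv0 F374009)) (tt N92850 (iv2 F398505)) (tt N29923 F163444) (tt N75390 F346411) (tt N92853 D195864) (tt N29921 (iv6 D106379)) (tt N92854 D195865))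
theorem Q56341 : ∀ i, i < 56341 → P i := stepQ 56340 Q56340 (allL N56340 (tt N92240 (iv1 F396425)) (tt N92238 (iv0 F396415)) (tt N56206 F163497) (tt N92855 D195866) (tt N29922 (iv4 D106383)) (tt N92180 F396122) (tt N74376 (iv6 F396123)) (tt N56199 F163483))
theorem Q56342 : ∀ i, i < 56342 → P i := stepQ 56341 Q56341 (allL N56341 (tt N57263 (iv1 F176945)) (tt N32470 (iv0 F163446)) (tt N56207 (iv2 F163509)) (tt N92852 (iv3 F398512)) (tt N74376 F396124) (tt N92856 D195867) (tt N29922 (iv6 D106384)) (tt N57262 (iv7 F165922)))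
theorem Q56343 : ∀ i, i < 56343 → P i := stepQ 56342 Q56342 (allL N56342 (tt N56210 (iv1 F163514)) (tt N29923 (iv0 D106385)) (tt N56208 (iv2 F163448)) (tt N40871 F326246) (tt N46039 (iv4 F163450)) (tt N32143 F163447) (tt N61563 F179029) (tt N32606 (iv7 F163449)))
theorem Q56344 : ∀ i, i < 56344 → P i := stepQ 56343 Q56343 (allL N56343 (tt N55779 F178182) (tt N55778 (iv0 F163453)) (tt N56209 (iv2 F163515)) (tt N92853 (iv3 F398518)) (tt N74057 F331467) (tt N29923 (iv5 D106386)) (tt N92856 (iv6 F398529)) (tt N61110 (iv7 F178007)))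
theorem Q56345 : ∀ i, i < 56345 → P i := stepQ 56344 Q56344 (allL N56344 (tt N32606 F163455) (tt N56208 F163456) (tt N56210 F163512) (tt N92854 (iv3 F398522)) (tt N61488 (iv4 F178914)) (tt N61110 F178008) (tt N46045 F163454) (tt N29923 (iv7 D106387)))
theorem Q56346 : ∀ i, i < 56346 → P i := stepQ 56345 Q56345 (allL N56345 (tt N78799 (iv1 F250902)) (tt N32668 (iv0 F163519)) (tt N50967 F163518) (tt N29924 (iv3 D106388)) (tt N92857 D195868) (tt N38200 F163516) (tt N92858 D195869) (tt N45015 F163517))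
theorem Q56347 : ∀ i, i < 56347 → P i := stepQ 56346 Q56346 (allL N56346 (tt N92859 D195870) (tt N92860 D195871) (tt N45014 F163520) (tt N92858 (iv3 F398541)) (tt N78791 (iv4 F250891)) (tt N38201 F163521) (tt N29924 (iv6 D106389)) (tt N92861 D195872))
theorem Q56348 : ∀ i, i < 56348 → P i := stepQ 56347 Q56347 (allL N56347 (tt N32653 (iv1 F163525)) (tt N34133 (iv0 F163524)) (tt N43241 F176903) (tt N29925 (iv3 D106390)) (tt N88547 (iv4 F383478)) (tt N36668 F163522) (tt N70448 F352120) (tt N43240 F163523))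
theorem Q56349 : ∀ i, i < 56349 → P i := stepQ 56348 Q56348 (allL N56348 (tt N92862 D195873) (tt N92863 D195874) (tt N45016 F163526) (tt N70448 (iv3 F352125)) (tt N78793 (iv4 F250894)) (tt N42388 F163527) (tt N29925 (iv6 D106391)) (tt N92864 D195875))
theorem Q56350 : ∀ i, i < 56350 → P i := stepQ 56349 Q56349 (allL N56349 (tt N92865 D195876) (tt N90108 (iv0 F420562)) (tt N92866 D195878) (tt N29926 (iv3 D106392)) (tt N92828 (iv4 F398403)) (tt N78875 (iv5 F251171)) (tt N92832 (iv6 F398417)) (tt N78874 F251168))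
theorem Q56351 : ∀ i, i < 56351 → P i := stepQ 56350 Q56350 (allL N56350 (tt N39165 (iv1 F163536)) (tt N29927 (iv0 D106393)) (tt N39164 F163544) (tt N29946 (iv3 F163587)) (tt N36120 (iv4 F166135)) (tt N30293 (iv5 F163543)) (tt N71616 (iv6 F220308)) (tt N30307 F163545))
theorem Q56352 : ∀ i, i < 56352 → P i := stepQ 56351 Q56351 (allL N56351 (tt N30307 (iv1 F163537)) (tt N39164 (iv0 F163539)) (tt N39165 F163532) (tt N39657 F163533) (tt N66247 (iv4 F203818)) (tt N44191 F163534) (tt N39598 F163535) (tt N29927 (iv7 D106395)))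
theorem Q56353 : ∀ i, i < 56353 → P i := stepQ 56352 Q56352 (allL N56352 (tt N57130 (iv1 F165419)) (tt N29928 (iv0 D106396)) (tt N57138 F165429) (tt N36207 F163557) (tt N73726 (iv4 F225588)) (tt N37431 F320299) (tt N81247 (iv6 F360725)) (tt N36226 (iv7 F163558)))
theorem Q56354 : ∀ i, i < 56354 → P i := stepQ 56353 Q56353 (allL N56353 (tt N29928 (iv1 D106397)) (tt N57130 F165418) (tt N36226 (iv2 F165420)) (tt N69554 F323656) (tt N59192 (iv4 F172295)) (tt N37429 F323657) (tt N78617 F344759) (tt N57138 (iv7 F165428)))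
theorem Q56355 : ∀ i, i < 56355 → P i := stepQ 56354 Q56354 (allL N56354 (tt N57138 (iv1 F165427)) (tt N36226 F163560) (tt N29928 (iv2 D106398)) (tt N70119 (iv3 F216730)) (tt N29951 F163559) (tt N83631 (iv5 F336039)) (tt N60353 (iv6 F176259)) (tt N57130 (iv7 F165417)))
theorem Q56356 : ∀ i, i < 56356 → P i := stepQ 56355 Q56355 (allL N56355 (tt N40651 F346536) (tt N78610 F361989) (tt N83631 F336034) (tt N29929 F163561) (tt N49264 F336035) (tt N29928 (iv5 D106399)) (tt N37139 F336036) (tt N57139 (iv7 F165431)))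
theorem Q56357 : ∀ i, i < 56357 → P i := stepQ 56356 Q56356 (allL N56356 (tt N69239 F338462) (tt N69244 F346155) (tt N69243 (iv2 F338563)) (tt N37139 F342188) (tt N70913 (iv4 F218746)) (tt N60355 (iv5 F176266)) (tt N29929 (iv6 D106400)) (tt N69242 F342189))
theorem Q56358 : ∀ i, i < 56358 → P i := stepQ 56357 Q56357 (allL N56357 (tt N92867 D195879) (tt N92868 D195880) (tt N82413 F337382) (tt N29930 (iv3 D106401)) (tt N44188 F163562) (tt N44662 F337383) (tt N73034 (iv6 F360106)) (tt N30174 F163563))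
theorem Q56359 : ∀ i, i < 56359 → P i := stepQ 56358 Q56358 (allL N56358 (tt N44454 (iv1 F164840)) (tt N44456 (iv0 F163566)) (tt N30168 F163564) (tt N73034 (iv3 F360104)) (tt N29931 F163565) (tt N73032 F360111) (tt N29930 (iv6 D106402)) (tt N74547 (iv7 F228339)))
theorem Q56360 : ∀ i, i < 56360 → P i := stepQ 56359 Q56359 (allL N56359 (tt N29931 (iv1 D106403)) (tt N30171 F163567) (tt N30170 F163570) (tt N39257 F163571) (tt N59062 (iv4 F171949)) (tt N32120 (iv5 F163569)) (tt N57164 F165679) (tt N30169 F163568))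
theorem Q56361 : ∀ i, i < 56361 → P i := stepQ 56360 Q56360 (allL N56360 (tt N30170 (iv1 F163576)) (tt N30169 F163577) (tt N30171 F163572) (tt N44191 F163573) (tt N74547 (iv4 F228338)) (tt N39657 F163574) (tt N30179 F163575) (tt N29931 (iv7 D106404)))
theorem Q56362 : ∀ i, i < 56362 → P i := stepQ 56361 Q56361 (allL N56361 (tt N29932 (iv1 D106405)) (tt N30186 F163601) (tt N30185 F163604) (tt N39289 F164898) (tt N59073 (iv4 F171983)) (tt N32396 (iv5 F163603)) (tt N60042 (iv6 F175365)) (tt N30184 F163602))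
theorem Q56363 : ∀ i, i < 56363 → P i := stepQ 56362 Q56362 (allL N56362 (tt N92869 D195881) (tt N29933 (iv0 D106406)) (tt N92870 D195882) (tt N92871 D195883) (tt N92872 D195884) (tt N92873 D195885) (tt N92874 D195886) (tt N92875 D195887))
theorem Q56364 : ∀ i, i < 56364 → P i := stepQ 56363 Q56363 (allL N56363 (tt N29933 (iv1 D106407)) (tt N92869 F398592) (tt N92875 (iv2 F398598)) (tt N92876 D195888) (tt N92877 D195889) (tt N92878 D195890) (tt N92879 D195891) (tt N92870 F398593))
theorem Q56365 : ∀ i, i < 56365 → P i := stepQ 56364 Q56364 (allL N56364 (tt N92870 (iv1 F398611)) (tt N92875 F398613) (tt N29933 (iv2 D106408)) (tt N30200 F163606) (tt N60353 (iv4 F176258)) (tt N92880 D195892) (tt N29951 F163607) (tt N92869 (iv7 F398591)))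
theorem Q56366 : ∀ i, i < 56366 → P i := stepQ 56365 Q56365 (allL N56365 (tt N92881 D195893) (tt N92882 D195894) (tt N92880 (iv2 F398619)) (tt N29934 F163608) (tt N92883 D195895) (tt N29933 (iv5 D106409)) (tt N57146 (iv6 F165437)) (tt N65496 (iv7 F201872)))
theorem Q56367 : ∀ i, i < 56367 → P i := stepQ 56366 Q56366 (allL N56366 (tt N92875 (iv1 F398612)) (tt N92870 F398610) (tt N92869 F398587) (tt N29935 F163609) (tt N60354 (iv4 F176263)) (tt N65496 (iv5 F201871)) (tt N57143 (iv6 F165435)) (tt N29933 (iv7 D106410)))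
theorem Q56368 : ∀ i, i < 56368 → P i := stepQ 56367 Q56367 (allL N56367 (tt N33121 (iv1 F163615)) (tt N29937 (iv0 D106411)) (tt N33118 (iv2 F163610)) (tt N39148 F163611) (tt N55898 F360490) (tt N92884 D195896) (tt N39384 (iv6 F164923)) (tt N33119 (iv7 F163614)))
theorem Q56369 : ∀ i, i < 56369 → P i := stepQ 56368 Q56368 (allL N56368 (tt N33119 (iv1 F163621)) (tt N33118 F163622) (tt N33121 F163616) (tt N29943 F163617) (tt N55964 F163618) (tt N38745 F163619) (tt N30295 F163620) (tt N29937 (iv7 D106412)))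
theorem Q56370 : ∀ i, i < 56370 → P i := stepQ 56369 Q56369 (allL N56369 (tt N29938 (iv1 D106413)) (tt N30298 F163631) (tt N30296 (iv2 F163632)) (tt N73731 (iv3 F225609)) (tt N92430 (iv4 F396992)) (tt N56380 (iv5 F172122)) (tt N65472 F345396) (tt N30297 (iv7 F163633)))
theorem Q56371 : ∀ i, i < 56371 → P i := stepQ 56370 Q56370 (allL N56370 (tt N30297 (iv1 F163635)) (tt N30296 F163630) (tt N29938 (iv2 D106414)) (tt N30274 F163626) (tt N55959 F163627) (tt N32041 F163628) (tt N92885 D195897) (tt N30298 F163629))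
theorem Q56372 : ∀ i, i < 56372 → P i := stepQ 56371 Q56371 (allL N56371 (tt N92886 D195898) (tt N92887 D195899) (tt N92885 (iv2 F398647)) (tt N29939 F163636) (tt N55961 F163637) (tt N92888 D195900) (tt N29938 (iv6 D106415)) (tt N92889 D195901))
theorem Q56373 : ∀ i, i < 56373 → P i := stepQ 56372 Q56372 (allL N56372 (tt N74227 (iv1 F227041)) (tt N92890 D195902) (tt N30278 F163638) (tt N92888 (iv3 F398654)) (tt N92891 D195903) (tt N29939 (iv5 D106416)) (tt N32043 F163639) (tt N92892 D195904))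
theorem Q56374 : ∀ i, i < 56374 → P i := stepQ 56373 Q56373 (allL N56373 (tt N30277 (iv1 F163643)) (tt N30276 F163644) (tt N30279 F163640) (tt N92889 (iv3 F398656)) (tt N29943 F163641) (tt N92892 (iv5 F398672)) (tt N30303 F163642) (tt N29939 (iv7 D106417)))
theorem Q56375 : ∀ i, i < 56375 → P i := stepQ 56374 Q56374 (allL N56374 (tt N60938 (iv1 F342858)) (tt N56710 (iv0 F164820)) (tt N30282 F163647) (tt N33307 F163648) (tt N92893 D195905) (tt N29940 (iv5 D106418)) (tt N40561 F163649) (tt N30284 F163650))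
theorem Q56376 : ∀ i, i < 56376 → P i := stepQ 56375 Q56375 (allL N56375 (tt N56710 (iv1 F164822)) (tt N60938 (iv0 F342857)) (tt N30284 F163651) (tt N39611 F163652) (tt N68833 (iv4 F211669)) (tt N29941 (iv5 D106419)) (tt N30109 F163654) (tt N30282 F163653))
theorem Q56377 : ∀ i, i < 56377 → P i := stepQ 56376 Q56376 (allL N56376 (tt N56677 (iv1 F165489)) (tt N30348 (iv0 F164850)) (tt N30285 F163655) (tt N39612 F163656) (tt N59144 (iv4 F172192)) (tt N68299 (iv5 F209493)) (tt N29941 (iv6 D106420)) (tt N77936 (iv7 F245358)))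
theorem Q56378 : ∀ i, i < 56378 → P i := stepQ 56377 Q56377 (allL N56377 (tt N29942 (iv1 D106421)) (tt N30288 F163657) (tt N30286 F163661) (tt N39613 (iv3 F163662)) (tt N59149 (iv4 F172211)) (tt N32047 (iv5 F163660)) (tt N36733 (iv6 F163659)) (tt N30112 F163658))
theorem Q56379 : ∀ i, i < 56379 → P i := stepQ 56378 Q56378 (allL N56378 (tt N30286 (iv1 F163667)) (tt N30112 F163668) (tt N30288 F163663) (tt N38745 F163664) (tt N36775 (iv4 F163669)) (tt N29943 F163665) (tt N38195 F163666) (tt N29942 (iv7 D106422)))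
theorem Q56380 : ∀ i, i < 56380 → P i := stepQ 56379 Q56379 (allL N56379 (tt N30274 (iv1 F163671)) (tt N29944 (iv0 D106423)) (tt N30273 (iv2 F172112)) (tt N40855 (iv3 F172092)) (tt N92894 D195906) (tt N40854 F172093) (tt N59668 F363566) (tt N30272 F172111))
theorem Q56381 : ∀ i, i < 56381 → P i := stepQ 56380 Q56380 (allL N56380 (tt N29944 (iv1 D106424)) (tt N30274 F163677) (tt N30272 F172121) (tt N92895 D195907) (tt N92896 D195908) (tt N56369 F172122) (tt N79172 (iv6 F345397)) (tt N30273 F172123))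
theorem Q56382 : ∀ i, i < 56382 → P i := stepQ 56381 Q56381 (allL N56381 (tt N30273 (iv1 F163678)) (tt N30272 F163676) (tt N29944 (iv2 D106425)) (tt N30298 F163672) (tt N33145 F163673) (tt N35808 F163674) (tt N92897 D195909) (tt N30274 F163675))
theorem Q56383 : ∀ i, i < 56383 → P i := stepQ 56382 Q56382 (allL N56382 (tt N92898 D195910) (tt N92899 D195911) (tt N92897 (iv2 F398696)) (tt N29945 F163679) (tt N33147 F163680) (tt N92900 D195912) (tt N29944 (iv6 D106426)) (tt N92901 D195913))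
theorem Q56384 : ∀ i, i < 56384 → P i := stepQ 56383 Q56383 (allL N56383 (tt N30303 (iv1 F163688)) (tt N29945 (iv0 D106427)) (tt N30300 F166403) (tt N92902 D195914) (tt N30403 (iv4 F165334)) (tt N92903 D195915) (tt N74649 (iv6 F228474)) (tt N30301 F166404))
theorem Q56385 : ∀ i, i < 56385 → P i := stepQ 56384 Q56384 (allL N56384 (tt N29945 (iv1 D106428)) (tt N30303 F163681) (tt N30301 F166412) (tt N92904 D195916) (tt N30404 (iv4 F163682)) (tt N92905 D195917) (tt N57413 (iv6 F166494)) (tt N30300 F166413))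
theorem Q56386 : ∀ i, i < 56386 → P i := stepQ 56385 Q56385 (allL N56385 (tt N78247 (iv1 F247361)) (tt N66795 (iv0 F339916)) (tt N30302 F163683) (tt N92900 (iv3 F398700)) (tt N61232 (iv4 F352667)) (tt N29945 (iv5 D106429)) (tt N35810 F163684) (tt N92906 D195918))
theorem Q56387 : ∀ i, i < 56387 → P i := stepQ 56386 Q56386 (allL N56386 (tt N30301 (iv1 F163689)) (tt N30300 (iv0 F163693)) (tt N30303 F163685) (tt N92901 (iv3 F398703)) (tt N29948 F163686) (tt N92906 (iv5 F398725)) (tt N30279 F163687) (tt N29945 (iv7 D106430)))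
theorem Q56388 : ∀ i, i < 56388 → P i := stepQ 56387 Q56387 (allL N56387 (tt N30352 F163698) (tt N58141 (iv0 F168931)) (tt N30306 F163696) (tt N71616 (iv3 F220307)) (tt N59155 (iv4 F172223)) (tt N30261 F163697) (tt N29946 (iv6 D106431)) (tt N60042 (iv7 F175366)))
theorem Q56389 : ∀ i, i < 56389 → P i := stepQ 56388 Q56388 (allL N56388 (tt N40864 F171807) (tt N92907 D195919) (tt N59031 F359131) (tt N29949 (iv3 D106433)) (tt N59029 (iv4 F359128)) (tt N74580 (iv5 F228390)) (tt N92908 D195920) (tt N57132 (iv7 F359122)))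
theorem Q56390 : ∀ i, i < 56390 → P i := stepQ 56389 Q56389 (allL N56389 (tt N92909 D195921) (tt N66446 (iv0 F382335)) (tt N57136 F359124) (tt N92910 D195922) (tt N29949 (iv4 D106434)) (tt N92911 D195923) (tt N60392 F392266) (tt N57133 (iv7 F359123)))
theorem Q56391 : ∀ i, i < 56391 → P i := stepQ 56390 Q56390 (allL N56390 (tt N92912 D195924) (tt N59142 (iv0 F400225)) (tt N57137 (iv2 F359156)) (tt N92908 (iv3 F398736)) (tt N60392 (iv4 F392267)) (tt N89475 (iv5 F386613)) (tt N29949 (iv6 D106436)) (tt N92913 D195926))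
theorem Q56392 : ∀ i, i < 56392 → P i := stepQ 56391 Q56391 (allL N56391 (tt N92914 D195927) (tt N59130 F398750) (tt N92915 D195928) (tt N29950 (iv3 D106438)) (tt N92916 D195929) (tt N74582 (iv5 F228395)) (tt N92917 D195930) (tt N57135 F359157))
theorem Q56393 : ∀ i, i < 56393 → P i := stepQ 56392 Q56392 (allL N56392 (tt N66446 (iv1 F382336)) (tt N92909 F398738) (tt N57133 (iv2 F359125)) (tt N66252 (iv3 F359108)) (tt N29950 (iv4 D106439)) (tt N92918 D195931) (tt N90399 F389514) (tt N57136 F359113))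
theorem Q56394 : ∀ i, i < 56394 → P i := stepQ 56393 Q56393 (allL N56393 (tt N59153 F389516) (tt N92919 D195932) (tt N57134 F359158) (tt N92917 (iv3 F398756)) (tt N90399 (iv4 F389515)) (tt N85100 (iv5 F371648)) (tt N29950 (iv6 D106441)) (tt N92920 D195933))
theorem Q56395 : ∀ i, i < 56395 → P i := stepQ 56394 Q56394 (allL N56394 (tt N32207 F168293) (tt N30239 F168294) (tt N33206 (iv2 F165672)) (tt N29952 (iv3 D106443)) (tt N55993 (iv4 F163991)) (tt N72613 (iv5 F222745)) (tt N71080 (iv6 F219412)) (tt N30349 F165474))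
theorem Q56396 : ∀ i, i < 56396 → P i := stepQ 56395 Q56395 (allL N56395 (tt N56812 F164849) (tt N35815 (iv0 F163702)) (tt N30347 F165477) (tt N72613 F222748) (tt N92921 D195934) (tt N29952 (iv5 D106445)) (tt N56798 (iv6 F164819)) (tt N30351 F165478))
theorem Q56397 : ∀ i, i < 56397 → P i := stepQ 56396 Q56396 (allL N56396 (tt N30285 F165490) (tt N77936 (iv0 F245359)) (tt N30348 F165479) (tt N71080 (iv3 F219410)) (tt N59203 (iv4 F172322)) (tt N30119 F163703) (tt N29952 (iv6 D106446)) (tt N56677 F165480))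
theorem Q56398 : ∀ i, i < 56398 → P i := stepQ 56397 Q56397 (allL N56397 (tt N35815 (iv1 F164851)) (tt N56812 (iv0 F164847)) (tt N30351 (iv2 F165514)) (tt N33211 F165551) (tt N92922 D195935) (tt N29953 (iv5 D106450)) (tt N32036 F163705) (tt N30347 F165515))
theorem Q56399 : ∀ i, i < 56399 → P i := stepQ 56398 Q56398 (allL N56398 (tt N60042 F175368) (tt N30306 (iv0 F163707)) (tt N30352 (iv2 F165468)) (tt N31906 F165552) (tt N59206 (iv4 F172327)) (tt N31904 (iv5 F165556)) (tt N29953 (iv6 D106451)) (tt N58141 (iv7 F168930)))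
theorem Q56400 : ∀ i, i < 56400 → P i := stepQ 56399 Q56399 (allL N56399 (tt N88235 (iv1 F382291)) (tt N88242 (iv0 F382323)) (tt N92923 D195936) (tt N29954 (iv3 D106452)) (tt N37307 F163708) (tt N68710 (iv5 F211424)) (tt N57030 (iv6 F165248)) (tt N37669 F163709))
theorem Q56401 : ∀ i, i < 56401 → P i := stepQ 56400 Q56400 (allL N56400 (tt N56588 (iv1 F164361)) (tt N29955 (iv0 D106453)) (tt N56587 F341611) (tt N88666 (iv3 F383792)) (tt N92924 D195937) (tt N56477 (iv5 F341595)) (tt N66604 F363269) (tt N56586 F341609))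
theorem Q56402 : ∀ i, i < 56402 → P i := stepQ 56401 Q56401 (allL N56401 (tt N29955 (iv1 D106454)) (tt N56588 F164363) (tt N56586 (iv2 F341610)) (tt N92693 (iv3 F397891)) (tt N92925 D195938) (tt N56475 F341613) (tt N92688 (iv6 F397887)) (tt N56587 (iv7 F341612)))
theorem Q56403 : ∀ i, i < 56403 → P i := stepQ 56402 Q56402 (allL N56402 (tt N56587 (iv1 F164362)) (tt N56586 F164358) (tt N29955 (iv2 D106455)) (tt N56578 (iv3 F164293)) (tt N70575 (iv4 F217867)) (tt N68815 (iv5 F211653)) (tt N88721 (iv6 F383976)) (tt N56588 (iv7 F164360)))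
theorem Q56404 : ∀ i, i < 56404 → P i := stepQ 56403 Q56403 (allL N56403 (tt N83989 F367729) (tt N88723 (iv0 F441176)) (tt N88721 F383975) (tt N29956 F163710) (tt N70576 (iv4 F217874)) (tt N88703 (iv5 F395883)) (tt N29955 (iv6 D106456)) (tt N88722 (iv7 F383974)))
theorem Q56405 : ∀ i, i < 56405 → P i := stepQ 56404 Q56404 (allL N56404 (tt N92926 D195940) (tt N61574 (iv0 F342962)) (tt N56580 (iv2 F164301)) (tt N88703 F395882) (tt N92129 (iv4 F395879)) (tt N29956 (iv5 D106459)) (tt N60565 (iv6 F341620)) (tt N92927 D195941))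
theorem Q56406 : ∀ i, i < 56406 → P i := stepQ 56405 Q56405 (allL N56405 (tt N56493 (iv1 F164041)) (tt N36971 (iv0 F164046)) (tt N56581 (iv2 F164302)) (tt N88722 F383973) (tt N29959 F163711) (tt N92927 (iv5 F398791)) (tt N56591 (iv6 F164368)) (tt N29956 (iv7 D106460)))
theorem Q56407 : ∀ i, i < 56407 → P i := stepQ 56406 Q56406 (allL N56406 (tt N39244 (iv1 F168992)) (tt N30940 (iv0 F165662)) (tt N37326 F165660) (tt N29957 (iv3 D106462)) (tt N37829 (iv4 F164308)) (tt N55620 F165661) (tt N38927 (iv6 F165659)) (tt N39243 F165669))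
theorem Q56408 : ∀ i, i < 56408 → P i := stepQ 56407 Q56407 (allL N56407 (tt N37684 F165620) (tt N30008 F165621) (tt N37681 F165622) (tt N92928 D195942) (tt N29957 (iv4 D106463)) (tt N36270 F332796) (tt N55694 F332797) (tt N37682 F165623))
theorem Q56409 : ∀ i, i < 56409 → P i := stepQ 56408 Q56408 (allL N56408 (tt N30008 F165628) (tt N37684 F165629) (tt N37682 F165630) (tt N92929 D195943) (tt N29958 (iv4 D106466)) (tt N60665 F332847) (tt N92930 D195944) (tt N37681 F165631))
theorem Q56410 : ∀ i, i < 56410 → P i := stepQ 56409 Q56409 (allL N56409 (tt N56695 F164595) (tt N56696 F164659) (tt N56582 (iv2 F165668)) (tt N37329 F165667) (tt N92930 (iv4 F398801)) (tt N60473 (iv5 F176484)) (tt N29958 (iv6 D106467)) (tt N60473 (iv7 F176485)))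
theorem Q56411 : ∀ i, i < 56411 → P i := stepQ 56410 Q56410 (allL N56410 (tt N92931 D195945) (tt N92932 D195946) (tt N55588 (iv2 F348089)) (tt N30380 F163714) (tt N68605 (iv4 F211178)) (tt N30380 F163715) (tt N29961 (iv6 D106468)) (tt N86668 (iv7 F376734)))
theorem Q56412 : ∀ i, i < 56412 → P i := stepQ 56411 Q56411 (allL N56411 (tt N85756 F373804) (tt N92933 D195947) (tt N38291 F163716) (tt N43066 F163717) (tt N68713 (iv4 F211431)) (tt N31244 F163718) (tt N29962 (iv6 D106469)) (tt N86828 (iv7 F377332)))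
theorem Q56413 : ∀ i, i < 56413 → P i := stepQ 56412 Q56412 (allL N56412 (tt N56585 (iv1 F164357)) (tt N29963 (iv0 D106470)) (tt N56583 (iv2 F342968)) (tt N73676 F342975) (tt N65602 (iv4 F342969)) (tt N92934 D195948) (tt N65609 F342967) (tt N56584 (iv7 F342973)))
theorem Q56414 : ∀ i, i < 56414 → P i := stepQ 56413 Q56413 (allL N56413 (tt N29963 (iv1 D106471)) (tt N56585 F164356) (tt N56584 F342974) (tt N43058 F342985) (tt N92935 D195949) (tt N92936 D195950) (tt N84450 (iv6 F369332)) (tt N56583 F342972))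
theorem Q56415 : ∀ i, i < 56415 → P i := stepQ 56414 Q56414 (allL N56414 (tt N56578 (iv1 F164296)) (tt N29964 (iv0 D106473)) (tt N56577 F364685) (tt N35849 F364686) (tt N92937 D195951) (tt N85696 (iv5 F373568)) (tt N35847 F364687) (tt N56576 F364688))
theorem Q56416 : ∀ i, i < 56416 → P i := stepQ 56415 Q56415 (allL N56415 (tt N29964 (iv1 D106474)) (tt N56578 F164298) (tt N56576 (iv2 F364689)) (tt N92938 D195952) (tt N92939 D195953) (tt N85692 (iv5 F373552)) (tt N92940 D195954) (tt N56577 (iv7 F364690)))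
theorem Q56417 : ∀ i, i < 56417 → P i := stepQ 56416 Q56416 (allL N56416 (tt N56577 (iv1 F164297)) (tt N56576 F164292) (tt N29964 (iv2 D106475)) (tt N56588 (iv3 F164359)) (tt N70159 (iv4 F216828)) (tt N68819 (iv5 F211658)) (tt N92941 D195955) (tt N56578 (iv7 F164295)))
theorem Q56418 : ∀ i, i < 56418 → P i := stepQ 56417 Q56417 (allL N56417 (tt N92942 D195956) (tt N92717 (iv0 F397958)) (tt N92941 (iv2 F398845)) (tt N29965 F163719) (tt N70161 (iv4 F216836)) (tt N92943 D195957) (tt N29964 (iv6 D106476)) (tt N92944 D195958))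
theorem Q56419 : ∀ i, i < 56419 → P i := stepQ 56418 Q56418 (allL N56418 (tt N92945 D195959) (tt N35710 F360460) (tt N56590 (iv2 F164365)) (tt N92943 (iv3 F398849)) (tt N65517 (iv4 F349576)) (tt N29965 (iv5 D106477)) (tt N68823 (iv6 F211661)) (tt N65708 (iv7 F349562)))
theorem Q56420 : ∀ i, i < 56420 → P i := stepQ 56419 Q56419 (allL N56419 (tt N36742 (iv1 F163721)) (tt N56503 (iv0 F163855)) (tt N56591 (iv2 F164366)) (tt N92944 (iv3 F398853)) (tt N29968 F163720) (tt N65708 F349561) (tt N56581 (iv6 F164304)) (tt N29965 (iv7 D106478)))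
theorem Q56421 : ∀ i, i < 56421 → P i := stepQ 56420 Q56420 (allL N56420 (tt N37701 F163723) (tt N30013 (iv0 F163724)) (tt N37698 F163725) (tt N92722 (iv3 F397973)) (tt N29966 (iv4 D106479)) (tt N92946 D195960) (tt N67263 (iv6 F206991)) (tt N37699 F163722))
theorem Q56422 : ∀ i, i < 56422 → P i := stepQ 56421 Q56421 (allL N56421 (tt N56826 (iv1 F164883)) (tt N56825 F164881) (tt N56593 (iv2 F164377)) (tt N37398 F163728) (tt N67263 (iv4 F206990)) (tt N32034 F163729) (tt N29966 (iv6 D106480)) (tt N37393 F163730))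
theorem Q56423 : ∀ i, i < 56423 → P i := stepQ 56422 Q56422 (allL N56422 (tt N64207 (iv1 F193594)) (tt N51365 (iv0 F334839)) (tt N68430 (iv2 F210434)) (tt N68816 (iv3 F211654)) (tt N29969 (iv4 D106481)) (tt N41772 F355704) (tt N92947 D195961) (tt N55796 F163731))
theorem Q56424 : ∀ i, i < 56424 → P i := stepQ 56423 Q56423 (allL N56423 (tt N92948 D195962) (tt N92949 D195963) (tt N68431 (iv2 F210437)) (tt N29970 F163732) (tt N92947 (iv4 F398867)) (tt N44053 F163733) (tt N29969 (iv6 D106482)) (tt N92950 D195964))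
theorem Q56425 : ∀ i, i < 56425 → P i := stepQ 56424 Q56424 (allL N56424 (tt N56599 (iv1 F164395)) (tt N29970 (iv0 D106483)) (tt N56597 (iv2 F398896)) (tt N92951 D195966) (tt N92952 D195967) (tt N92953 D195968) (tt N92954 D195969) (tt N56598 F398893))
theorem Q56426 : ∀ i, i < 56426 → P i := stepQ 56425 Q56425 (allL N56425 (tt N29970 (iv1 D106484)) (tt N56599 F164394) (tt N56598 (iv2 F398894)) (tt N92955 D195970) (tt N92956 D195971) (tt N92270 F396527) (tt N92957 D195972) (tt N56597 (iv7 F398897)))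
theorem Q56427 : ∀ i, i < 56427 → P i := stepQ 56426 Q56426 (allL N56426 (tt N56598 (iv1 F164390)) (tt N56597 F164393) (tt N56599 (iv2 F164391)) (tt N92950 (iv3 F398876)) (tt N68818 (iv4 F211657)) (tt N61626 (iv5 F179157)) (tt N56585 (iv6 F164354)) (tt N29970 (iv7 D106485)))
theorem Q56428 : ∀ i, i < 56428 → P i := stepQ 56427 Q56427 (allL N56427 (tt N76470 (iv1 F238988)) (tt N78517 (iv0 F360837)) (tt N51511 F163734) (tt N68771 (iv3 F211533)) (tt N29973 (iv4 D106486)) (tt N88359 (iv5 F382730)) (tt N51142 (iv6 F360835)) (tt N51513 F163735))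
theorem Q56429 : ∀ i, i < 56429 → P i := stepQ 56428 Q56428 (allL N56428 (tt N91222 F392326) (tt N92958 D195973) (tt N51512 F163736) (tt N29975 F163737) (tt N51142 F360836) (tt N32549 F163738) (tt N29973 (iv6 D106487)) (tt N84047 (iv7 F367910)))
theorem Q56430 : ∀ i, i < 56430 → P i := stepQ 56429 Q56429 (allL N56429 (tt N56602 (iv1 F164402)) (tt N29975 (iv0 D106488)) (tt N56600 F362872) (tt N92959 D195974) (tt N55660 (iv4 F362871)) (tt N61575 F179056) (tt N92960 D195975) (tt N56601 F362873))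
theorem Q56431 : ∀ i, i < 56431 → P i := stepQ 56430 Q56430 (allL N56430 (tt N29975 (iv1 D106489)) (tt N56602 F164401) (tt N56601 F332843) (tt N92961 D195976) (tt N60622 F332830) (tt N60839 (iv5 F177013)) (tt N92962 D195977) (tt N56600 (iv7 F332831)))
theorem Q56432 : ∀ i, i < 56432 → P i := stepQ 56431 Q56431 (allL N56431 (tt N56601 (iv1 F164396)) (tt N56600 F164400) (tt N56602 (iv2 F164397)) (tt N84047 (iv3 F367909)) (tt N60023 (iv4 F328935)) (tt N32552 F163739) (tt N56606 (iv6 F164408)) (tt N29975 (iv7 D106490)))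
theorem Q56433 : ∀ i, i < 56433 → P i := stepQ 56432 Q56432 (allL N56432 (tt N56606 (iv1 F164411)) (tt N29978 (iv0 D106493)) (tt N56604 F248596) (tt N76391 F342971) (tt N92963 D195978) (tt N92964 D195979) (tt N76387 (iv6 F342970)) (tt N56605 F248594))
theorem Q56434 : ∀ i, i < 56434 → P i := stepQ 56433 Q56433 (allL N56433 (tt N29978 (iv1 D106494)) (tt N56606 F164410) (tt N56605 (iv2 F248593)) (tt N92965 D195980) (tt N92966 D195981) (tt N61310 (iv5 F178566)) (tt N61577 (iv6 F179058)) (tt N56604 (iv7 F248595)))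
theorem Q56435 : ∀ i, i < 56435 → P i := stepQ 56434 Q56434 (allL N56434 (tt N92967 D195982) (tt N92968 D195983) (tt N42942 F163742) (tt N57274 (iv3 F322882)) (tt N92969 D195984) (tt N29978 (iv5 D106495)) (tt N29979 F163743) (tt N92970 D195985))
theorem Q56436 : ∀ i, i < 56436 → P i := stepQ 56435 Q56435 (allL N56435 (tt N56605 (iv1 F164406)) (tt N56604 F164409) (tt N56606 (iv2 F164407)) (tt N57275 F324329) (tt N30127 (iv4 F325498)) (tt N92970 (iv5 F398960)) (tt N56602 (iv6 F164399)) (tt N29978 (iv7 D106496)))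
theorem Q56437 : ∀ i, i < 56437 → P i := stepQ 56436 Q56436 (allL N56436 (tt N36401 F163747) (tt N36399 F163748) (tt N42941 F163744) (tt N92971 D195986) (tt N29979 (iv4 D106497)) (tt N42941 F163745) (tt N92969 (iv6 F398957)) (tt N36246 F163746))
theorem Q56438 : ∀ i, i < 56438 → P i := stepQ 56437 Q56437 (allL N56437 (tt N38284 F163750) (tt N61355 (iv0 F178679)) (tt N68370 F210007) (tt N68737 (iv3 F211478)) (tt N29980 (iv4 D106498)) (tt N92972 D195987) (tt N84705 (iv6 F370285)) (tt N44500 F163749))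
theorem Q56439 : ∀ i, i < 56439 → P i := stepQ 56438 Q56438 (allL N56438 (tt N68371 F367911) (tt N70766 (iv0 F364867)) (tt N69564 (iv2 F214878)) (tt N29983 F163751) (tt N84705 F370284) (tt N36268 F163752) (tt N29980 (iv6 D106499)) (tt N92973 D195988))
theorem Q56440 : ∀ i, i < 56440 → P i := stepQ 56439 Q56439 (allL N56439 (tt N56613 (iv1 F164438)) (tt N29983 (iv0 D106502)) (tt N56611 F349632) (tt N92974 D195989) (tt N32340 F349633) (tt N92846 (iv5 F398481)) (tt N92975 D195990) (tt N56612 F349634))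
theorem Q56441 : ∀ i, i < 56441 → P i := stepQ 56440 Q56440 (allL N56440 (tt N29983 (iv1 D106503)) (tt N56613 F164437) (tt N56612 F349628) (tt N69475 (iv3 F399667)) (tt N65979 (iv4 F349627)) (tt N92129 (iv5 F395880)) (tt N92976 D195992) (tt N56611 F349629))
theorem Q56442 : ∀ i, i < 56442 → P i := stepQ 56441 Q56441 (allL N56441 (tt N56612 (iv1 F164432)) (tt N56611 F164436) (tt N56613 (iv2 F164433)) (tt N92973 (iv3 F398979)) (tt N68743 (iv4 F211483)) (tt N36273 F163758) (tt N56617 (iv6 F164443)) (tt N29983 (iv7 D106504)))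
theorem Q56443 : ∀ i, i < 56443 → P i := stepQ 56442 Q56442 (allL N56442 (tt N29994 F163761) (tt N34080 (iv0 F163762)) (tt N56607 (iv2 F164412)) (tt N32134 F163759) (tt N92977 D195993) (tt N29984 (iv5 D106505)) (tt N86464 F376295) (tt N55763 F163760))
theorem Q56444 : ∀ i, i < 56444 → P i := stepQ 56443 Q56443 (allL N56443 (tt N50180 F163765) (tt N56609 F164425) (tt N29986 F163763) (tt N37375 F163764) (tt N51318 (iv4 F164427)) (tt N29985 (iv5 D106506)) (tt N92978 D195994) (tt N56608 (iv7 F164420)))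
theorem Q56445 : ∀ i, i < 56445 → P i := stepQ 56444 Q56444 (allL N56444 (tt N29986 (iv1 D106507)) (tt N56608 (iv0 F164421)) (tt N56609 F164424) (tt N60172 (iv3 F175858)) (tt N86502 (iv4 F376395)) (tt N30410 F163767) (tt N92979 D195995) (tt N50180 F163766))
theorem Q56446 : ∀ i, i < 56446 → P i := stepQ 56445 Q56445 (allL N56445 (tt N51254 F163769) (tt N51321 F163770) (tt N51318 F164428) (tt N68705 (iv3 F211420)) (tt N29986 (iv4 D106508)) (tt N86518 (iv5 F376408)) (tt N92980 D195996) (tt N51317 F163768))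
theorem Q56447 : ∀ i, i < 56447 → P i := stepQ 56446 Q56446 (allL N56446 (tt N76323 F341617) (tt N92981 D195997) (tt N92978 (iv2 F398998)) (tt N29988 F163771) (tt N92980 (iv4 F399010)) (tt N92982 D195998) (tt N29986 (iv6 D106509)) (tt N92983 D195999))
theorem Q56448 : ∀ i, i < 56448 → P i := stepQ 56447 Q56447 (allL N56447 (tt N61132 F178074) (tt N61089 (iv0 F177967)) (tt N50300 F163772) (tt N29989 F163773) (tt N92984 D196000) (tt N29987 (iv5 D106510)) (tt N92982 (iv6 F399013)) (tt N50304 F163774))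
theorem Q56449 : ∀ i, i < 56449 → P i := stepQ 56448 Q56448 (allL N56448 (tt N56617 (iv1 F164446)) (tt N29988 (iv0 D106511)) (tt N56614 (iv2 F205549)) (tt N61120 F364646) (tt N57279 F364645) (tt N92985 D196001) (tt N61117 (iv6 F364647)) (tt N56615 F205548))
theorem Q56450 : ∀ i, i < 56450 → P i := stepQ 56449 Q56449 (allL N56449 (tt N29988 (iv1 D106512)) (tt N56617 F164445) (tt N56615 F205546) (tt N92986 D196002) (tt N57280 F364642) (tt N66782 (iv5 F205545)) (tt N78926 F251390) (tt N56614 (iv7 F205547)))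
theorem Q56451 : ∀ i, i < 56451 → P i := stepQ 56450 Q56450 (allL N56450 (tt N92987 D196003) (tt N92988 D196004) (tt N56616 (iv2 F164440)) (tt N92982 (iv3 F399012)) (tt N76236 (iv4 F237972)) (tt N29988 (iv5 D106513)) (tt N29989 F163775) (tt N92989 D196005))
theorem Q56452 : ∀ i, i < 56452 → P i := stepQ 56451 Q56451 (allL N56451 (tt N56615 (iv1 F164439)) (tt N56614 F164444) (tt N56617 (iv2 F164442)) (tt N92983 (iv3 F399015)) (tt N68717 (iv4 F211433)) (tt N92989 (iv5 F399029)) (tt N56613 (iv6 F164435)) (tt N29988 (iv7 D106514)))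
theorem Q56453 : ∀ i, i < 56453 → P i := stepQ 56452 Q56452 (allL N56452 (tt N91592 (iv1 F393725)) (tt N91590 (iv0 F393719)) (tt N52597 F340425) (tt N29990 (iv3 D106515)) (tt N29996 F163776) (tt N32097 F163777) (tt N52340 (iv6 F340422)) (tt N56562 (iv7 F164263)))
theorem Q56454 : ∀ i, i < 56454 → P i := stepQ 56453 Q56453 (allL N56453 (tt N92990 D196006) (tt N92991 D196007) (tt N57639 (iv2 F167274)) (tt N52340 (iv3 F340421)) (tt N29991 F163778) (tt N52338 (iv5 F335162)) (tt N29990 (iv6 D106516)) (tt N52603 F340435))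
theorem Q56455 : ∀ i, i < 56455 → P i := stepQ 56454 Q56454 (allL N56454 (tt N60278 (iv1 F176103)) (tt N29991 (iv0 D106517)) (tt N60276 F331584) (tt N92992 D196008) (tt N69497 F259154) (tt N79941 (iv5 F290526)) (tt N87152 (iv6 F395354)) (tt N60277 F331581))
theorem Q56456 : ∀ i, i < 56456 → P i := stepQ 56455 Q56455 (allL N56455 (tt N29991 (iv1 D106518)) (tt N60278 F176102) (tt N60277 (iv2 F331583)) (tt N92993 D196009) (tt N69498 F288203) (tt N79942 (iv5 F398531)) (tt N92994 D196010) (tt N60276 (iv7 F331586)))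
theorem Q56457 : ∀ i, i < 56457 → P i := stepQ 56456 Q56456 (allL N56456 (tt N60277 (iv1 F176096)) (tt N60276 F176101) (tt N60278 (iv2 F176098)) (tt N30000 F163779) (tt N52603 (iv4 F340417)) (tt N60992 (iv5 F177527)) (tt N60275 (iv6 F176092)) (tt N29991 (iv7 D106519)))
theorem Q56458 : ∀ i, i < 56458 → P i := stepQ 56457 Q56457 (allL N56457 (tt N37293 F163781) (tt N64035 (iv0 F192342)) (tt N34092 F163780) (tt N56657 (iv3 F333531)) (tt N29992 (iv4 D106520)) (tt N92995 D196011) (tt N74435 (iv6 F333548)) (tt N56654 (iv7 F164533)))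
theorem Q56459 : ∀ i, i < 56459 → P i := stepQ 56458 Q56458 (allL N56458 (tt N41631 F316852) (tt N41638 F316853) (tt N34086 F163782) (tt N29993 F163783) (tt N74435 F316854) (tt N34057 F163784) (tt N29992 (iv6 D106521)) (tt N74435 F316855))
theorem Q56460 : ∀ i, i < 56460 → P i := stepQ 56459 Q56459 (allL N56459 (tt N56653 (iv1 F164532)) (tt N29993 (iv0 D106522)) (tt N56651 F204741) (tt N74694 F359236) (tt N65795 F332823) (tt N74693 (iv5 F359235)) (tt N60792 F176897) (tt N56652 (iv7 F204742)))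
theorem Q56461 : ∀ i, i < 56461 → P i := stepQ 56460 Q56460 (allL N56460 (tt N29993 (iv1 D106523)) (tt N56653 F164531) (tt N56652 (iv2 F204744)) (tt N32144 F331451) (tt N68822 (iv4 F353144)) (tt N85776 (iv5 F373888)) (tt N86459 F376284) (tt N56651 F204743))
theorem Q56462 : ∀ i, i < 56462 → P i := stepQ 56461 Q56461 (allL N56461 (tt N56652 (iv1 F164527)) (tt N56651 F164530) (tt N56653 (iv2 F164528)) (tt N74435 F333547) (tt N68659 (iv4 F333544)) (tt N56179 F163785) (tt N56657 (iv6 F164538)) (tt N29993 (iv7 D106524)))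
theorem Q56463 : ∀ i, i < 56463 → P i := stepQ 56462 Q56462 (allL N56462 (tt N86488 (iv1 F376373)) (tt N86490 (iv0 F376375)) (tt N86788 (iv2 F377204)) (tt N68639 (iv3 F211250)) (tt N29994 (iv4 D106525)) (tt N86522 (iv5 F376424)) (tt N92996 D196012) (tt N56649 (iv7 F164524)))
theorem Q56464 : ∀ i, i < 56464 → P i := stepQ 56463 Q56463 (allL N56463 (tt N86701 F376830) (tt N92997 D196013) (tt N86789 (iv2 F377206)) (tt N29995 F163786) (tt N92996 (iv4 F399059)) (tt N78802 (iv5 F250914)) (tt N29994 (iv6 D106526)) (tt N92998 D196014))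
theorem Q56465 : ∀ i, i < 56465 → P i := stepQ 56464 Q56464 (allL N56464 (tt N56657 (iv1 F164541)) (tt N29995 (iv0 D106527)) (tt N56655 (iv2 F356958)) (tt N60288 (iv3 F364987)) (tt N68817 (iv4 F341618)) (tt N92999 D196015) (tt N86678 (iv6 F399073)) (tt N56656 F356953))
theorem Q56466 : ∀ i, i < 56466 → P i := stepQ 56465 Q56465 (allL N56465 (tt N56656 (iv1 F164536)) (tt N56655 F164539) (tt N56657 (iv2 F164537)) (tt N92998 (iv3 F399067)) (tt N68642 (iv4 F211255)) (tt N78807 (iv5 F250921)) (tt N56653 (iv6 F164529)) (tt N29995 (iv7 D106529)))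
theorem Q56467 : ∀ i, i < 56467 → P i := stepQ 56466 Q56466 (allL N56466 (tt N56559 (iv1 F164259)) (tt N29996 (iv0 D106530)) (tt N56561 F393886) (tt N68714 (iv3 F398937)) (tt N88357 (iv4 F382726)) (tt N68600 F349606) (tt N88356 (iv6 F382725)) (tt N56560 (iv7 F393885)))
theorem Q56468 : ∀ i, i < 56468 → P i := stepQ 56467 Q56467 (allL N56467 (tt N29996 (iv1 D106531)) (tt N56559 F164258) (tt N56560 (iv2 F393887)) (tt N56566 (iv3 F343660)) (tt N93000 D196016) (tt N68601 F349617) (tt N56565 F343661) (tt N56561 F393888))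
theorem Q56469 : ∀ i, i < 56469 → P i := stepQ 56468 Q56468 (allL N56468 (tt N56561 (iv1 F164261)) (tt N56560 F164260) (tt N29996 (iv2 D106532)) (tt N56660 (iv3 F164543)) (tt N52597 (iv4 F340426)) (tt N56548 (iv5 F164248)) (tt N52596 F340434) (tt N56559 (iv7 F164257)))
theorem Q56470 : ∀ i, i < 56470 → P i := stepQ 56469 Q56469 (allL N56469 (tt N68710 F348991) (tt N93001 D196017) (tt N52596 (iv2 F340420)) (tt N29997 F163787) (tt N52340 F340419) (tt N56681 (iv5 F358361)) (tt N29996 (iv6 D106533)) (tt N52608 (iv7 F340418)))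
theorem Q56471 : ∀ i, i < 56471 → P i := stepQ 56470 Q56470 (allL N56470 (tt N56665 (iv1 F164558)) (tt N29997 (iv0 D106534)) (tt N56662 (iv2 F177801)) (tt N69255 F361705) (tt N30422 F177618) (tt N93002 D196018) (tt N52673 F373523) (tt N56663 (iv7 F177806)))
theorem Q56472 : ∀ i, i < 56472 → P i := stepQ 56471 Q56471 (allL N56471 (tt N29997 (iv1 D106535)) (tt N56665 F164557) (tt N56663 (iv2 F177804)) (tt N68735 (iv3 F347534)) (tt N30423 F177621) (tt N93003 D196019) (tt N60570 F347536) (tt N56662 (iv7 F177803)))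
theorem Q56473 : ∀ i, i < 56473 → P i := stepQ 56472 Q56472 (allL N56472 (tt N69246 (iv1 F363070)) (tt N66128 (iv0 F392334)) (tt N56664 (iv2 F164551)) (tt N56681 (iv3 F358360)) (tt N93004 D196020) (tt N29997 (iv5 D106536)) (tt N56572 (iv6 F164283)) (tt N56686 F358370))
theorem Q56474 : ∀ i, i < 56474 → P i := stepQ 56473 Q56473 (allL N56473 (tt N56663 (iv1 F164550)) (tt N56662 F164556) (tt N56665 (iv2 F164553)) (tt N52608 F340416) (tt N30000 F163788) (tt N56686 (iv5 F358364)) (tt N56571 (iv6 F164278)) (tt N29997 (iv7 D106537)))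
theorem Q56475 : ∀ i, i < 56475 → P i := stepQ 56474 Q56474 (allL N56474 (tt N68200 F334821) (tt N43252 F334822) (tt N79901 F363498) (tt N29998 (iv3 D106538)) (tt N93005 D196021) (tt N79920 (iv5 F334824)) (tt N87590 (iv6 F379826)) (tt N56669 (iv7 F164564)))
theorem Q56476 : ∀ i, i < 56476 → P i := stepQ 56475 Q56475 (allL N56475 (tt N56544 (iv1 F319140)) (tt N31375 F177656) (tt N56667 (iv2 F164560)) (tt N93006 D196022) (tt N29998 (iv4 D106539)) (tt N56401 (iv5 F341613)) (tt N87591 (iv6 F379830)) (tt N56670 (iv7 F164566)))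
theorem Q56477 : ∀ i, i < 56477 → P i := stepQ 56476 Q56476 (allL N56476 (tt N61028 F357305) (tt N86722 F376907) (tt N93007 D196023) (tt N29999 (iv3 D106541)) (tt N93008 D196024) (tt N56328 F163789) (tt N86688 F398457) (tt N56666 (iv7 F164559)))
theorem Q56478 : ∀ i, i < 56478 → P i := stepQ 56477 Q56477 (allL N56477 (tt N31375 F177657) (tt N56544 (iv0 F319139)) (tt N56670 (iv2 F164565)) (tt N93009 D196025) (tt N29999 (iv4 D106542)) (tt N56400 F341595) (tt N60575 (iv6 F332815)) (tt N56667 (iv7 F164561)))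
theorem Q56479 : ∀ i, i < 56479 → P i := stepQ 56478 Q56478 (allL N56478 (tt N60788 F251391) (tt N60792 F251392) (tt N56671 (iv2 F164567)) (tt N86688 (iv3 F398459)) (tt N60575 F332817) (tt N56332 F163790) (tt N29999 (iv6 D106543)) (tt N87589 (iv7 F379821)))
theorem Q56480 : ∀ i, i < 56480 → P i := stepQ 56479 Q56479 (allL N56479 (tt N56674 (iv1 F164575)) (tt N56673 F164574) (tt N56672 (iv2 F164569)) (tt N60275 (iv3 F176091)) (tt N56571 (iv4 F164277)) (tt N78902 (iv5 F251301)) (tt N30000 (iv6 D106544)) (tt N30001 F163791))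
theorem Q56481 : ∀ i, i < 56481 → P i := stepQ 56480 Q56480 (allL N56480 (tt N56672 (iv1 F164573)) (tt N30001 (iv0 D106545)) (tt N56673 (iv2 F365944)) (tt N68207 F365943) (tt N56691 F354467) (tt N70037 (iv5 F365945)) (tt N85763 (iv6 F373830)) (tt N56674 (iv7 F365947)))
theorem Q56482 : ∀ i, i < 56482 → P i := stepQ 56481 Q56481 (allL N56481 (tt N30001 (iv1 D106546)) (tt N56672 F164572) (tt N56674 F365948) (tt N86465 (iv3 F376299)) (tt N56692 F362862) (tt N93010 D196026) (tt N86681 (iv6 F376782)) (tt N56673 F365946))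
theorem Q56483 : ∀ i, i < 56483 → P i := stepQ 56482 Q56482 (allL N56482 (tt N93011 D196027) (tt N67581 F211948) (tt N37688 F163792) (tt N38467 F163793) (tt N38120 F163794) (tt N38463 F163795) (tt N30002 (iv6 D106547)) (tt N50900 (iv7 F327158)))
theorem Q56484 : ∀ i, i < 56484 → P i := stepQ 56483 Q56483 (allL N56483 (tt N38960 (iv1 F164137)) (tt N38961 (iv0 F164045)) (tt N66074 (iv2 F203312)) (tt N92133 (iv3 F395893)) (tt N30004 F163799) (tt N93012 D196028) (tt N30003 (iv6 D106549)) (tt N69380 (iv7 F214069)))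
theorem Q56485 : ∀ i, i < 56485 → P i := stepQ 56484 Q56484 (allL N56484 (tt N66076 (iv1 F203326)) (tt N30004 (iv0 D106550)) (tt N37833 (iv2 F170685)) (tt N57711 (iv3 F169227)) (tt N38127 F164105) (tt N55881 F163800) (tt N65699 (iv6 F202264)) (tt N66075 (iv7 F203317)))
theorem Q56486 : ∀ i, i < 56486 → P i := stepQ 56485 Q56485 (allL N56485 (tt N30004 (iv1 D106551)) (tt N66076 F203325) (tt N66075 (iv2 F203320)) (tt N32020 (iv3 F170690)) (tt N38128 F170691) (tt N32018 (iv5 F170671)) (tt N93013 D196029) (tt N37833 F170689))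
theorem Q56487 : ∀ i, i < 56487 → P i := stepQ 56486 Q56486 (allL N56486 (tt N66075 (iv1 F203316)) (tt N37833 (iv0 F175227)) (tt N66076 (iv2 F203322)) (tt N30010 F163802) (tt N69380 (iv4 F214067)) (tt N35831 F163803) (tt N37692 F163804) (tt N30004 (iv7 D106552)))
theorem Q56488 : ∀ i, i < 56488 → P i := stepQ 56487 Q56487 (allL N56487 (tt N93014 D196030) (tt N93015 D196031) (tt N65990 (iv2 F349601)) (tt N30005 (iv3 D106553)) (tt N67164 (iv4 F206816)) (tt N52664 (iv5 F295474)) (tt N59150 (iv6 F172213)) (tt N37661 F163805))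
theorem Q56489 : ∀ i, i < 56489 → P i := stepQ 56488 Q56488 (allL N56488 (tt N37694 (iv1 F163806)) (tt N30006 (iv0 D106554)) (tt N37693 F211308) (tt N93003 (iv3 F399094)) (tt N32474 F325755) (tt N68735 (iv5 F211470)) (tt N66630 F325756) (tt N32361 (iv7 F326584)))
theorem Q56490 : ∀ i, i < 56490 → P i := stepQ 56489 Q56489 (allL N56489 (tt N37693 (iv1 F163811)) (tt N32361 F327328) (tt N30006 (iv2 D106556)) (tt N37677 F163807) (tt N32488 F333523) (tt N37680 F332813) (tt N37683 F332814) (tt N37694 F163808))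
theorem Q56491 : ∀ i, i < 56491 → P i := stepQ 56490 Q56490 (allL N56490 (tt N92952 (iv1 F398882)) (tt N92956 (iv0 F398908)) (tt N37680 F333533) (tt N30007 F163812) (tt N30088 F333534) (tt N30006 (iv5 D106557)) (tt N30007 F333535) (tt N37695 F163813))
theorem Q56492 : ∀ i, i < 56492 → P i := stepQ 56491 Q56491 (allL N56491 (tt N67366 F333540) (tt N67368 F333541) (tt N37683 F333542) (tt N30008 F163814) (tt N92133 (iv4 F395894)) (tt N30008 F333543) (tt N30006 (iv6 D106558)) (tt N91112 (iv7 F391981)))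
theorem Q56493 : ∀ i, i < 56493 → P i := stepQ 56492 Q56492 (allL N56492 (tt N37682 (iv1 F163823)) (tt N37681 F163824) (tt N37684 F163819) (tt N91112 (iv3 F391977)) (tt N30010 F163820) (tt N91112 (iv5 F391979)) (tt N37701 F163821) (tt N30008 (iv7 D106563)))
theorem Q56494 : ∀ i, i < 56494 → P i := stepQ 56493 Q56493 (allL N56493 (tt N30046 (iv1 F164040)) (tt N56405 F164041) (tt N37686 F163831) (tt N93016 D196032) (tt N30009 (iv4 D106567)) (tt N60467 (iv5 F343623)) (tt N93017 D196033) (tt N37685 F163832))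
theorem Q56495 : ∀ i, i < 56495 → P i := stepQ 56494 Q56494 (allL N56494 (tt N36878 F163834) (tt N36876 F163835) (tt N37687 F163833) (tt N60716 (iv3 F176761)) (tt N93017 (iv4 F399133)) (tt N60716 (iv5 F176762)) (tt N30009 (iv6 D106568)) (tt N60716 (iv7 F176763)))
theorem Q56496 : ∀ i, i < 56496 → P i := stepQ 56495 Q56495 (allL N56495 (tt N37677 (iv1 F163836)) (tt N30011 (iv0 D106569)) (tt N37676 F352496) (tt N70273 F217106) (tt N87661 F380025) (tt N68703 (iv5 F362894)) (tt N32373 F352474) (tt N37675 F352497))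
theorem Q56497 : ∀ i, i < 56497 → P i := stepQ 56496 Q56496 (allL N56496 (tt N30011 (iv1 D106570)) (tt N37677 F163840) (tt N37675 F352498) (tt N93018 D196034) (tt N54262 (iv4 F336391)) (tt N68704 F362887) (tt N54261 F352530) (tt N37676 F352499))
theorem Q56498 : ∀ i, i < 56498 → P i := stepQ 56497 Q56497 (allL N56497 (tt N37676 (iv1 F163841)) (tt N37675 F163839) (tt N30011 (iv2 D106571)) (tt N37694 F163837) (tt N78092 (iv4 F245953)) (tt N93019 D196035) (tt N91111 (iv6 F391974)) (tt N37677 F163838))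
theorem Q56499 : ∀ i, i < 56499 → P i := stepQ 56498 Q56498 (allL N56498 (tt N93020 D196036) (tt N93021 D196037) (tt N93019 (iv2 F399137)) (tt N30012 F163842) (tt N93022 D196038) (tt N30011 (iv5 D106572)) (tt N93023 D196039) (tt N37678 F163843))
theorem Q56500 : ∀ i, i < 56500 → P i := stepQ 56499 Q56499 (allL N56499 (tt N71844 (iv1 F333067)) (tt N67271 (iv0 F333065)) (tt N91111 (iv2 F391971)) (tt N30013 F163844) (tt N78093 (iv4 F245960)) (tt N93024 D196040) (tt N30011 (iv6 D106573)) (tt N87662 (iv7 F380031)))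
theorem Q56501 : ∀ i, i < 56501 → P i := stepQ 56500 Q56500 (allL N56500 (tt N65602 F356965) (tt N92935 (iv0 F398829)) (tt N37697 F163845) (tt N93023 (iv3 F399152)) (tt N30086 F163846) (tt N93025 D196041) (tt N30012 (iv6 D106574)) (tt N93026 D196042))
theorem Q56502 : ∀ i, i < 56502 → P i := stepQ 56501 Q56501 (allL N56501 (tt N93027 D196043) (tt N35687 F342878) (tt N37700 F163847) (tt N93024 (iv3 F399153)) (tt N93028 D196044) (tt N30013 (iv5 D106575)) (tt N93025 (iv6 F399155)) (tt N93029 D196045))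
theorem Q56503 : ∀ i, i < 56503 → P i := stepQ 56502 Q56502 (allL N56502 (tt N37699 (iv1 F163851)) (tt N37698 F163852) (tt N37701 F163848) (tt N87662 (iv3 F380029)) (tt N30016 F163849) (tt N93029 (iv5 F399172)) (tt N37684 F163850) (tt N30013 (iv7 D106576)))
theorem Q56504 : ∀ i, i < 56504 → P i := stepQ 56503 Q56503 (allL N56503 (tt N56419 F163855) (tt N30053 (iv0 F163856)) (tt N37702 F163853) (tt N65984 (iv3 F349564)) (tt N30014 (iv4 D106577)) (tt N93030 D196046) (tt N67248 (iv6 F206978)) (tt N37704 F163854))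
theorem Q56505 : ∀ i, i < 56505 → P i := stepQ 56504 Q56504 (allL N56504 (tt N37708 (iv1 F163859)) (tt N30015 (iv0 D106578)) (tt N37705 (iv2 F163858)) (tt N41202 (iv3 F168134)) (tt N69438 (iv4 F214396)) (tt N67186 (iv5 F206873)) (tt N41087 F163857) (tt N37706 F163860))
theorem Q56506 : ∀ i, i < 56506 → P i := stepQ 56505 Q56505 (allL N56505 (tt N66077 (iv1 F203338)) (tt N30017 (iv0 D106579)) (tt N37932 (iv2 F202585)) (tt N57718 (iv3 F167621)) (tt N38840 F164154) (tt N93031 D196047) (tt N66068 (iv6 F203296)) (tt N60892 (iv7 F336162)))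
theorem Q56507 : ∀ i, i < 56507 → P i := stepQ 56506 Q56506 (allL N56506 (tt N30017 (iv1 D106580)) (tt N66077 F203337) (tt N60892 (iv2 F336158)) (tt N37918 (iv3 F202588)) (tt N38841 F202589) (tt N92522 (iv5 F397227)) (tt N60873 F336163) (tt N37932 F202587))
theorem Q56508 : ∀ i, i < 56508 → P i := stepQ 56507 Q56507 (allL N56507 (tt N60892 (iv1 F336157)) (tt N37932 (iv0 F203327)) (tt N66077 (iv2 F203334)) (tt N30022 F163861) (tt N38987 F163862) (tt N57184 (iv5 F165742)) (tt N37734 F163863) (tt N30017 (iv7 D106581)))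
theorem Q56509 : ∀ i, i < 56509 → P i := stepQ 56508 Q56508 (allL N56508 (tt N37737 (iv1 F164139)) (tt N30018 (iv0 D106582)) (tt N37736 F203511) (tt N93032 D196048) (tt N56278 (iv4 F332600)) (tt N92952 (iv5 F398881)) (tt N55751 F342949) (tt N37735 (iv7 F203510)))
theorem Q56510 : ∀ i, i < 56510 → P i := stepQ 56509 Q56509 (allL N56509 (tt N30018 (iv1 D106583)) (tt N37737 F164144) (tt N37735 (iv2 F203512)) (tt N38044 (iv3 F208647)) (tt N67942 (iv4 F208646)) (tt N92956 (iv5 F398906)) (tt N67176 F342927) (tt N37736 F203513))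
theorem Q56511 : ∀ i, i < 56511 → P i := stepQ 56510 Q56510 (allL N56510 (tt N37736 (iv1 F164145)) (tt N37735 F164143) (tt N30018 (iv2 D106584)) (tt N37718 F164140) (tt N38982 F164141) (tt N93033 D196049) (tt N60669 (iv6 F391698)) (tt N37737 F164142))
theorem Q56512 : ∀ i, i < 56512 → P i := stepQ 56511 Q56511 (allL N56511 (tt N60620 (iv1 F327332)) (tt N68657 F211477) (tt N93033 (iv2 F399193)) (tt N30019 F164146) (tt N78292 (iv4 F247868)) (tt N30018 (iv5 D106585)) (tt N93034 D196050) (tt N37738 F164147))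
theorem Q56513 : ∀ i, i < 56513 → P i := stepQ 56512 Q56512 (allL N56512 (tt N60672 F362100) (tt N36262 F362101) (tt N60669 (iv2 F391695)) (tt N30020 F164148) (tt N38984 F164149) (tt N93035 D196051) (tt N30018 (iv6 D106586)) (tt N60670 (iv7 F391704)))
theorem Q56514 : ∀ i, i < 56514 → P i := stepQ 56513 Q56513 (allL N56513 (tt N92963 (iv1 F398952)) (tt N92966 (iv0 F398950)) (tt N37723 F164150) (tt N93034 (iv3 F399201)) (tt N30066 F164151) (tt N93036 D196052) (tt N30019 (iv6 D106587)) (tt N93037 D196053))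
theorem Q56515 : ∀ i, i < 56515 → P i := stepQ 56514 Q56514 (allL N56514 (tt N37727 (iv1 F164159)) (tt N30020 (iv0 D106588)) (tt N37724 F165532) (tt N93038 D196054) (tt N30096 F165533) (tt N93039 D196055) (tt N65613 F202116) (tt N37725 F165534))
theorem Q56516 : ∀ i, i < 56516 → P i := stepQ 56515 Q56515 (allL N56515 (tt N30020 (iv1 D106589)) (tt N37727 F164152) (tt N37725 F165529) (tt N93040 D196056) (tt N30097 F165530) (tt N93041 D196057) (tt N55673 F342856) (tt N37724 F165531))
theorem Q56517 : ∀ i, i < 56517 → P i := stepQ 56516 Q56516 (allL N56516 (tt N56166 (iv1 F362923)) (tt N93042 D196058) (tt N37726 F164155) (tt N93035 (iv3 F399213)) (tt N93043 D196059) (tt N30020 (iv5 D106590)) (tt N93036 (iv6 F399217)) (tt N93044 D196060))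
theorem Q56518 : ∀ i, i < 56518 → P i := stepQ 56517 Q56517 (allL N56517 (tt N37725 (iv1 F164160)) (tt N37724 F164161) (tt N37727 F164156) (tt N60670 (iv3 F391701)) (tt N30022 F164157) (tt N93044 (iv5 F399251)) (tt N37742 F164158) (tt N30020 (iv7 D106591)))
theorem Q56519 : ∀ i, i < 56519 → P i := stepQ 56518 Q56518 (allL N56518 (tt N30031 (iv1 F164164)) (tt N37752 F164165) (tt N37730 F164162) (tt N92774 (iv3 F398166)) (tt N30021 (iv4 D106592)) (tt N93045 D196061) (tt N92772 F398158) (tt N37728 F164163))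
theorem Q56520 : ∀ i, i < 56520 → P i := stepQ 56519 Q56519 (allL N56519 (tt N31500 F164168) (tt N31501 (iv0 F164169)) (tt N37731 F164166) (tt N67186 (iv3 F206872)) (tt N92772 (iv4 F398156)) (tt N41202 F164167) (tt N30021 (iv6 D106593)) (tt N60894 (iv7 F328777)))
theorem Q56521 : ∀ i, i < 56521 → P i := stepQ 56520 Q56520 (allL N56520 (tt N58956 (iv1 F171569)) (tt N30023 (iv0 D106594)) (tt N58955 (iv2 F202491)) (tt N35975 F168749) (tt N58042 (iv4 F168748)) (tt N59615 (iv5 F173227)) (tt N93046 D196062) (tt N37978 F202511))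
theorem Q56522 : ∀ i, i < 56522 → P i := stepQ 56521 Q56521 (allL N56521 (tt N30023 (iv1 D106595)) (tt N58956 F171567) (tt N37978 F202510) (tt N66068 F203294) (tt N58043 (iv4 F171568)) (tt N59616 (iv5 F173230)) (tt N57718 (iv6 F173231)) (tt N58955 (iv7 F202508)))
theorem Q56523 : ∀ i, i < 56523 → P i := stepQ 56522 Q56522 (allL N56522 (tt N37978 F168007) (tt N58955 F171566) (tt N58956 (iv2 F171563)) (tt N30028 F164170) (tt N38540 F164171) (tt N32402 F164172) (tt N37715 F164173) (tt N30023 (iv7 D106596)))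
theorem Q56524 : ∀ i, i < 56524 → P i := stepQ 56523 Q56523 (allL N56523 (tt N37718 (iv1 F164174)) (tt N30024 (iv0 D106597)) (tt N37717 F355035) (tt N70334 (iv3 F217217)) (tt N70054 F216519) (tt N93020 (iv5 F399142)) (tt N65614 F352568) (tt N37716 F355036))
theorem Q56525 : ∀ i, i < 56525 → P i := stepQ 56524 Q56524 (allL N56524 (tt N30024 (iv1 D106598)) (tt N37718 F164179) (tt N37716 F355056) (tt N93047 D196063) (tt N69853 (iv4 F216261)) (tt N93021 (iv5 F399148)) (tt N93048 D196064) (tt N37717 F355057))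
theorem Q56526 : ∀ i, i < 56526 → P i := stepQ 56525 Q56525 (allL N56525 (tt N37717 (iv1 F164180)) (tt N37716 F164178) (tt N30024 (iv2 D106599)) (tt N37737 F164175) (tt N38535 F164176) (tt N93049 D196065) (tt N78402 (iv6 F354699)) (tt N37718 F164177))
theorem Q56527 : ∀ i, i < 56527 → P i := stepQ 56526 Q56526 (allL N56526 (tt N68632 (iv1 F362892)) (tt N68635 F361769) (tt N93049 (iv2 F399268)) (tt N30025 F164181) (tt N86512 (iv4 F376403)) (tt N30024 (iv5 D106600)) (tt N88325 (iv6 F382600)) (tt N37719 F164182))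
theorem Q56528 : ∀ i, i < 56528 → P i := stepQ 56527 Q56527 (allL N56527 (tt N65426 F334355) (tt N78401 F334356) (tt N78402 F334357) (tt N30026 F164183) (tt N38537 F164184) (tt N48294 F334358) (tt N30024 (iv6 D106601)) (tt N78403 F334359))
theorem Q56529 : ∀ i, i < 56529 → P i := stepQ 56528 Q56528 (allL N56528 (tt N55660 (iv1 F332829)) (tt N60622 (iv0 F332826)) (tt N37740 F164185) (tt N88325 F382599) (tt N30065 F164186) (tt N65504 F332827) (tt N30025 (iv6 D106602)) (tt N60621 (iv7 F332841)))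
theorem Q56530 : ∀ i, i < 56530 → P i := stepQ 56529 Q56529 (allL N56529 (tt N37742 (iv1 F164192)) (tt N30026 (iv0 D106603)) (tt N35690 (iv2 F332770)) (tt N92754 (iv3 F398078)) (tt N30099 F165666) (tt N35583 F332764) (tt N92752 F398071) (tt N37741 F168400))
theorem Q56531 : ∀ i, i < 56531 → P i := stepQ 56530 Q56530 (allL N56530 (tt N30026 (iv1 D106604)) (tt N37742 F164187) (tt N37741 F168398) (tt N83010 F359006) (tt N30100 F165656) (tt N35691 F332766) (tt N67181 F206854) (tt N35690 (iv7 F332771)))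
theorem Q56532 : ∀ i, i < 56532 → P i := stepQ 56531 Q56531 (allL N56531 (tt N37741 (iv1 F164193)) (tt N35690 F332788) (tt N37742 F164189) (tt N78403 F334362) (tt N30028 F164190) (tt N32289 F332789) (tt N37727 F164191) (tt N30026 (iv7 D106606)))
theorem Q56533 : ∀ i, i < 56533 → P i := stepQ 56532 Q56532 (allL N56532 (tt N37793 F164201) (tt N56007 (iv0 F164203)) (tt N37744 F164200) (tt N60894 (iv3 F328774)) (tt N65750 (iv4 F360467)) (tt N37706 F164202) (tt N30027 (iv6 D106609)) (tt N67186 (iv7 F206874)))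
theorem Q56534 : ∀ i, i < 56534 → P i := stepQ 56533 Q56533 (allL N56533 (tt N37755 (iv1 F164210)) (tt N30029 (iv0 D106612)) (tt N37754 F218393) (tt N60966 (iv3 F326355)) (tt N82762 (iv4 F363971)) (tt N93050 D196066) (tt N60965 F365924) (tt N37753 F218394))
theorem Q56535 : ∀ i, i < 56535 → P i := stepQ 56534 Q56534 (allL N56534 (tt N30029 (iv1 D106613)) (tt N37755 F164215) (tt N37753 F218395) (tt N79704 (iv3 F349642)) (tt N82761 (iv4 F363958)) (tt N79697 F349640) (tt N67188 (iv6 F354996)) (tt N37754 F218396))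
theorem Q56536 : ∀ i, i < 56536 → P i := stepQ 56535 Q56535 (allL N56535 (tt N37754 (iv1 F164216)) (tt N37753 F164214) (tt N30029 (iv2 D106614)) (tt N37748 F164211) (tt N38767 F164212) (tt N58931 (iv5 F349648)) (tt N90242 (iv6 F389068)) (tt N37755 F164213))
theorem Q56537 : ∀ i, i < 56537 → P i := stepQ 56536 Q56536 (allL N56536 (tt N85696 (iv1 F373564)) (tt N85692 F373551) (tt N58931 (iv2 F349647)) (tt N30030 F164217) (tt N86803 (iv4 F377252)) (tt N30029 (iv5 D106615)) (tt N58930 F360830) (tt N37756 F164218))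
theorem Q56538 : ∀ i, i < 56538 → P i := stepQ 56537 Q56537 (allL N56537 (tt N82977 F328262) (tt N82975 F328263) (tt N90242 (iv2 F389064)) (tt N30031 F164219) (tt N38769 F164220) (tt N92763 (iv5 F398115)) (tt N30029 (iv6 D106616)) (tt N49037 F328264))
theorem Q56539 : ∀ i, i < 56539 → P i := stepQ 56538 Q56538 (allL N56538 (tt N56723 F325492) (tt N56722 F325493) (tt N30420 F325494) (tt N58930 F325495) (tt N30061 F164222) (tt N56712 F325496) (tt N30030 (iv6 D106617)) (tt N56721 F325497))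
theorem Q56540 : ∀ i, i < 56540 → P i := stepQ 56539 Q56539 (allL N56539 (tt N68938 (iv1 F211959)) (tt N93051 D196067) (tt N37751 F164223) (tt N92763 (iv3 F398119)) (tt N93052 D196068) (tt N30031 (iv5 D106618)) (tt N56712 (iv6 F365930)) (tt N93053 D196069))
theorem Q56541 : ∀ i, i < 56541 → P i := stepQ 56540 Q56540 (allL N56540 (tt N37730 (iv1 F164227)) (tt N37728 F164228) (tt N37752 F164224) (tt N49037 F362880) (tt N30120 F164225) (tt N93053 (iv5 F399293)) (tt N37759 F164226) (tt N30031 (iv7 D106619)))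
theorem Q56542 : ∀ i, i < 56542 → P i := stepQ 56541 Q56541 (allL N56541 (tt N37748 (iv1 F164229)) (tt N30032 (iv0 D106620)) (tt N37747 F399209) (tt N93054 D196070) (tt N93055 D196071) (tt N93056 D196072) (tt N67195 (iv6 F403291)) (tt N37746 F399211))
theorem Q56543 : ∀ i, i < 56543 → P i := stepQ 56542 Q56542 (allL N56542 (tt N30032 (iv1 D106621)) (tt N37748 F164233) (tt N37746 F399204) (tt N93036 (iv3 F399216)) (tt N93057 D196073) (tt N93034 (iv5 F399203)) (tt N93035 (iv6 F399214)) (tt N37747 F399205))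
theorem Q56544 : ∀ i, i < 56544 → P i := stepQ 56543 Q56543 (allL N56543 (tt N37747 (iv1 F164234)) (tt N37746 F164232) (tt N30032 (iv2 D106622)) (tt N37755 F164230) (tt N66115 (iv4 F203415)) (tt N58932 (iv5 F341594)) (tt N82379 F362857) (tt N37748 F164231))
theorem Q56545 : ∀ i, i < 56545 → P i := stepQ 56544 Q56544 (allL N56544 (tt N56477 F319139) (tt N56475 F319140) (tt N58932 F319141) (tt N30033 F164235) (tt N30424 F319142) (tt N30032 (iv5 D106623)) (tt N56727 F319143) (tt N30421 (iv7 F321186)))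
theorem Q56546 : ∀ i, i < 56546 → P i := stepQ 56545 Q56545 (allL N56545 (tt N87910 (iv1 F381088)) (tt N87909 (iv0 F381084)) (tt N82379 (iv2 F362856)) (tt N30034 F164237) (tt N66116 (iv4 F203419)) (tt N60715 (iv5 F343667)) (tt N30032 (iv6 D106624)) (tt N93058 D196074))
theorem Q56547 : ∀ i, i < 56547 → P i := stepQ 56546 Q56546 (allL N56546 (tt N35850 F328931) (tt N60573 F328932) (tt N37758 F164238) (tt N56727 F343622) (tt N30059 F164239) (tt N35626 F328933) (tt N30033 (iv6 D106625)) (tt N56724 (iv7 F343621)))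
theorem Q56548 : ∀ i, i < 56548 → P i := stepQ 56547 Q56547 (allL N56547 (tt N37745 (iv1 F164343)) (tt N37743 (iv0 F164344)) (tt N37759 F164241) (tt N93058 (iv3 F399321)) (tt N30123 F164242) (tt N32284 F327962) (tt N37752 F164243) (tt N30034 (iv7 D106627)))
theorem Q56549 : ∀ i, i < 56549 → P i := stepQ 56548 Q56548 (allL N56548 (tt N30036 (iv1 F164250)) (tt N30035 (iv0 D106628)) (tt N30039 (iv2 F164246)) (tt N37760 F164247) (tt N67202 (iv4 F206915)) (tt N56468 F164248) (tt N92779 (iv6 F398187)) (tt N30037 F164249))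
theorem Q56550 : ∀ i, i < 56550 → P i := stepQ 56549 Q56549 (allL N56549 (tt N30039 F330441) (tt N30037 F330442) (tt N30035 (iv2 D106629)) (tt N93059 D196075) (tt N70716 F330443) (tt N88319 F382571) (tt N93060 D196076) (tt N30036 (iv7 F164251)))
theorem Q56551 : ∀ i, i < 56551 → P i := stepQ 56550 Q56550 (allL N56550 (tt N93036 F399238) (tt N93061 D196077) (tt N71083 (iv2 F330454)) (tt N30035 (iv3 D106630)) (tt N69077 F212742) (tt N93062 D196078) (tt N60945 (iv6 F396112)) (tt N71087 (iv7 F330449)))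
theorem Q56552 : ∀ i, i < 56552 → P i := stepQ 56551 Q56551 (allL N56551 (tt N93063 D196079) (tt N67329 (iv0 F207260)) (tt N70716 (iv2 F330444)) (tt N93064 D196080) (tt N30035 (iv4 D106631)) (tt N93065 D196081) (tt N93066 D196082) (tt N93067 D196083))
theorem Q56553 : ∀ i, i < 56553 → P i := stepQ 56552 Q56552 (allL N56552 (tt N79671 (iv1 F358255)) (tt N68603 (iv0 F358254)) (tt N88319 (iv2 F382573)) (tt N93062 (iv3 F399338)) (tt N84660 F370082) (tt N30035 (iv5 D106632)) (tt N93068 D196084) (tt N88318 F382567))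
theorem Q56554 : ∀ i, i < 56554 → P i := stepQ 56553 Q56553 (allL N56553 (tt N93069 D196085) (tt N92774 (iv0 F398168)) (tt N93060 (iv2 F399329)) (tt N60945 F396113) (tt N93066 (iv4 F399346)) (tt N60944 (iv5 F396114)) (tt N30035 (iv6 D106633)) (tt N93070 D196086))
theorem Q56555 : ∀ i, i < 56555 → P i := stepQ 56554 Q56554 (allL N56554 (tt N30037 F330446) (tt N30039 F330447) (tt N30036 F164252) (tt N71087 F330448) (tt N93067 (iv4 F399349)) (tt N88318 (iv5 F382563)) (tt N93071 D196087) (tt N30035 (iv7 D106634)))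
theorem Q56556 : ∀ i, i < 56556 → P i := stepQ 56555 Q56555 (allL N56555 (tt N70785 F377470) (tt N60966 (iv0 F377469)) (tt N93072 D196088) (tt N30036 (iv3 D106635)) (tt N92786 (iv4 F398223)) (tt N86860 F377468) (tt N93073 D196089) (tt N93059 (iv7 F399325)))
theorem Q56557 : ∀ i, i < 56557 → P i := stepQ 56556 Q56556 (allL N56556 (tt N67329 (iv1 F330445)) (tt N93063 (iv0 F399345)) (tt N93067 (iv2 F399348)) (tt N67322 (iv3 F207087)) (tt N30036 (iv4 D106636)) (tt N93074 D196090) (tt N88778 (iv6 F399370)) (tt N70716 (iv7 F330440)))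
theorem Q56558 : ∀ i, i < 56558 → P i := stepQ 56557 Q56557 (allL N56557 (tt N68603 (iv1 F358315)) (tt N79671 (iv0 F358273)) (tt N88318 F382566) (tt N86860 (iv3 F377466)) (tt N84659 (iv4 F370080)) (tt N30036 (iv5 D106637)) (tt N86859 F377465) (tt N88319 (iv7 F382569)))
theorem Q56559 : ∀ i, i < 56559 → P i := stepQ 56558 Q56558 (allL N56558 (tt N65747 (iv1 F399378)) (tt N93075 D196092) (tt N93071 (iv2 F399361)) (tt N93073 (iv3 F399365)) (tt N88778 F399369) (tt N93076 D196093) (tt N30036 (iv6 D106638)) (tt N93077 D196094))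
theorem Q56560 : ∀ i, i < 56560 → P i := stepQ 56559 Q56559 (allL N56559 (tt N56467 (iv1 F164258)) (tt N56466 F164259) (tt N30038 F164255) (tt N37771 F164256) (tt N88217 (iv4 F382217)) (tt N30037 (iv5 D106641)) (tt N93078 D196095) (tt N56468 F164257))
theorem Q56561 : ∀ i, i < 56561 → P i := stepQ 56560 Q56560 (allL N56560 (tt N56468 (iv1 F164260)) (tt N30038 (iv0 D106642)) (tt N56467 F393887) (tt N92966 F398949) (tt N91648 (iv4 F393884)) (tt N93014 (iv5 F399122)) (tt N93079 D196096) (tt N56466 F393885))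
theorem Q56562 : ∀ i, i < 56562 → P i := stepQ 56561 Q56561 (allL N56561 (tt N30038 (iv1 D106643)) (tt N56468 F164261) (tt N56466 (iv2 F393886)) (tt N88252 F393889) (tt N91649 (iv4 F393893)) (tt N93015 (iv5 F399128)) (tt N88283 F393890) (tt N56467 (iv7 F393888)))
theorem Q56563 : ∀ i, i < 56563 → P i := stepQ 56562 Q56562 (allL N56562 (tt N88216 (iv1 F382212)) (tt N88215 F382220) (tt N88217 (iv2 F382215)) (tt N32153 F164262) (tt N30038 (iv4 D106644)) (tt N32152 (iv5 F164264)) (tt N49220 F358274) (tt N56452 F164263))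
theorem Q56564 : ∀ i, i < 56564 → P i := stepQ 56563 Q56563 (allL N56563 (tt N87769 F380445) (tt N88328 F382690) (tt N93078 (iv2 F399379)) (tt N30042 F164265) (tt N49220 F358276) (tt N65595 (iv5 F358326)) (tt N30038 (iv6 D106645)) (tt N88229 (iv7 F382279)))
theorem Q56565 : ∀ i, i < 56565 → P i := stepQ 56564 Q56564 (allL N56564 (tt N92778 F398184) (tt N92781 F398197) (tt N92779 (iv2 F398186)) (tt N30043 F164266) (tt N67215 (iv4 F206932)) (tt N93080 D196097) (tt N30039 (iv6 D106646)) (tt N67215 (iv7 F206933)))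
theorem Q56566 : ∀ i, i < 56566 → P i := stepQ 56565 Q56565 (allL N56565 (tt N93050 F399278) (tt N79697 (iv0 F349639)) (tt N93079 (iv2 F399385)) (tt N30040 (iv3 D106647)) (tt N93081 D196098) (tt N30045 F164267) (tt N56467 (iv6 F343661)) (tt N37779 F164268))
theorem Q56567 : ∀ i, i < 56567 → P i := stepQ 56566 Q56566 (allL N56566 (tt N88254 (iv1 F382369)) (tt N88253 (iv0 F382362)) (tt N37778 F164269) (tt N56467 F343660) (tt N30058 F164270) (tt N60810 F343629) (tt N30040 (iv6 D106648)) (tt N88252 (iv7 F382351)))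
theorem Q56568 : ∀ i, i < 56568 → P i := stepQ 56567 Q56567 (allL N56567 (tt N93056 (iv1 F399312)) (tt N93034 F399208) (tt N93082 D196099) (tt N30041 (iv3 D106649)) (tt N61494 (iv4 F341605)) (tt N30052 F164271) (tt N93083 D196100) (tt N37777 F164272))
theorem Q56569 : ∀ i, i < 56569 → P i := stepQ 56568 Q56568 (allL N56568 (tt N93084 D196101) (tt N93085 D196102) (tt N37780 F164273) (tt N93083 (iv3 F399406)) (tt N30051 F164274) (tt N93086 D196103) (tt N30041 (iv6 D106650)) (tt N93087 D196104))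
theorem Q56570 : ∀ i, i < 56570 → P i := stepQ 56569 Q56569 (allL N56569 (tt N37783 (iv1 F164279)) (tt N30042 (iv0 D106651)) (tt N37781 F358280) (tt N79694 F358281) (tt N51539 F358282) (tt N79733 F358283) (tt N51538 F358284) (tt N37782 F358285))
theorem Q56571 : ∀ i, i < 56571 → P i := stepQ 56570 Q56570 (allL N56570 (tt N30042 (iv1 D106652)) (tt N37783 F164275) (tt N37782 F358286) (tt N68629 F358287) (tt N57286 F358288) (tt N93088 D196105) (tt N68627 F358289) (tt N37781 F358290))
theorem Q56572 : ∀ i, i < 56572 → P i := stepQ 56571 Q56571 (allL N56571 (tt N37782 (iv1 F164280)) (tt N37781 F164281) (tt N37783 F164276) (tt N88229 (iv3 F382277)) (tt N56479 F164277) (tt N67221 (iv5 F206944)) (tt N56473 F164278) (tt N30042 (iv7 D106653)))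
theorem Q56573 : ∀ i, i < 56573 → P i := stepQ 56572 Q56572 (allL N56572 (tt N67500 (iv1 F207321)) (tt N60668 (iv0 F399090)) (tt N37786 F164282) (tt N93080 (iv3 F399392)) (tt N93089 D196106) (tt N30043 (iv5 D106654)) (tt N56472 F164283) (tt N67222 (iv7 F206949)))
theorem Q56574 : ∀ i, i < 56574 → P i := stepQ 56573 Q56573 (allL N56573 (tt N38195 (iv1 F164289)) (tt N30044 (iv0 D106655)) (tt N38192 F164663) (tt N70563 (iv3 F217832)) (tt N60767 (iv4 F358165)) (tt N93090 D196107) (tt N56729 (iv6 F164662)) (tt N38193 (iv7 F164664)))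
theorem Q56575 : ∀ i, i < 56575 → P i := stepQ 56574 Q56574 (allL N56574 (tt N30044 (iv1 D106656)) (tt N38195 F164284) (tt N38193 (iv2 F164666)) (tt N38723 (iv3 F164667)) (tt N67578 (iv4 F207411)) (tt N60294 (iv5 F176158)) (tt N68300 (iv6 F209502)) (tt N38192 F164665))
theorem Q56576 : ∀ i, i < 56576 → P i := stepQ 56575 Q56575 (allL N56575 (tt N38193 (iv1 F164290)) (tt N38192 F164291) (tt N38195 F164285) (tt N38223 F164286) (tt N68623 (iv4 F211233)) (tt N32168 F164287) (tt N30288 F164288) (tt N30044 (iv7 D106657)))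
theorem Q56577 : ∀ i, i < 56577 → P i := stepQ 56576 Q56576 (allL N56576 (tt N56416 (iv1 F164292)) (tt N30045 (iv0 D106658)) (tt N56415 F364689) (tt N65978 (iv3 F349656)) (tt N93091 D196108) (tt N68769 (iv5 F360832)) (tt N93092 D196109) (tt N56414 (iv7 F364688)))
theorem Q56578 : ∀ i, i < 56578 → P i := stepQ 56577 Q56577 (allL N56577 (tt N30045 (iv1 D106659)) (tt N56416 F164297) (tt N56414 (iv2 F364685)) (tt N93093 D196110) (tt N71913 (iv4 F349654)) (tt N68770 (iv5 F349650)) (tt N65970 F349652) (tt N56415 F364690))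
theorem Q56579 : ∀ i, i < 56579 → P i := stepQ 56578 Q56578 (allL N56578 (tt N56415 (iv1 F164298)) (tt N56414 F164296) (tt N30045 (iv2 D106660)) (tt N56402 F164293) (tt N38733 F164294) (tt N93079 F399389) (tt N93094 D196111) (tt N56416 F164295))
theorem Q56580 : ∀ i, i < 56580 → P i := stepQ 56579 Q56579 (allL N56579 (tt N86951 F377813) (tt N93095 D196112) (tt N93094 (iv2 F399457)) (tt N30046 F164299) (tt N38735 F164300) (tt N93096 D196113) (tt N30045 (iv6 D106661)) (tt N93097 D196114))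
theorem Q56581 : ∀ i, i < 56581 → P i := stepQ 56580 Q56580 (allL N56580 (tt N67370 (iv1 F207139)) (tt N67373 (iv0 F207141)) (tt N56404 F164301) (tt N93096 (iv3 F399465)) (tt N60812 F343624) (tt N30046 (iv5 D106662)) (tt N60810 (iv6 F343625)) (tt N93098 D196115))
theorem Q56582 : ∀ i, i < 56582 → P i := stepQ 56581 Q56581 (allL N56581 (tt N37686 (iv1 F164305)) (tt N37685 F164306) (tt N56405 F164302) (tt N93097 (iv3 F399483)) (tt N30049 F164303) (tt N93098 (iv5 F399489)) (tt N56419 F164304) (tt N30046 (iv7 D106663)))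
theorem Q56583 : ∀ i, i < 56583 → P i := stepQ 56582 Q56582 (allL N56582 (tt N56728 F164658) (tt N56729 F164668) (tt N56409 F165668) (tt N71076 (iv3 F219398)) (tt N68645 (iv4 F211257)) (tt N69776 (iv5 F216102)) (tt N30048 (iv6 D106670)) (tt N69776 (iv7 F216103)))
theorem Q56584 : ∀ i, i < 56584 → P i := stepQ 56583 Q56583 (allL N56583 (tt N54904 (iv1 F356098)) (tt N30051 (iv0 D106671)) (tt N56412 F342968) (tt N76317 F342983) (tt N68664 (iv4 F342979)) (tt N93099 D196116) (tt N60934 F177294) (tt N56413 (iv7 F342972)))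
theorem Q56585 : ∀ i, i < 56585 → P i := stepQ 56584 Q56584 (allL N56584 (tt N30051 (iv1 D106672)) (tt N54904 (iv0 F356097)) (tt N56413 (iv2 F342974)) (tt N74346 (iv3 F338515)) (tt N68665 (iv4 F338514)) (tt N86481 (iv5 F376344)) (tt N51536 (iv6 F360345)) (tt N56412 F342973))
theorem Q56586 : ∀ i, i < 56586 → P i := stepQ 56585 Q56585 (allL N56585 (tt N56413 (iv1 F164356)) (tt N56412 F164357) (tt N54904 (iv2 F356099)) (tt N76390 F339790) (tt N93087 (iv4 F399423)) (tt N76031 (iv5 F235975)) (tt N56426 F164354) (tt N30051 (iv7 D106673)))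
theorem Q56587 : ∀ i, i < 56587 → P i := stepQ 56586 Q56586 (allL N56586 (tt N56402 (iv1 F164358)) (tt N30052 (iv0 D106674)) (tt N56401 F341610) (tt N93100 D196117) (tt N93101 D196118) (tt N56667 F341608) (tt N93102 D196119) (tt N56400 (iv7 F341609)))
theorem Q56588 : ∀ i, i < 56588 → P i := stepQ 56587 Q56587 (allL N56587 (tt N30052 (iv1 D106675)) (tt N56402 F164362) (tt N56400 (iv2 F341611)) (tt N93103 D196120) (tt N93104 D196121) (tt N56670 (iv5 F322877)) (tt N60770 (iv6 F363270)) (tt N56401 F341612))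
theorem Q56589 : ∀ i, i < 56589 → P i := stepQ 56588 Q56588 (allL N56588 (tt N56401 (iv1 F164363)) (tt N56400 F164361) (tt N30052 (iv2 D106676)) (tt N56416 F164359) (tt N66126 F203443) (tt N93082 (iv5 F399400)) (tt N93105 D196122) (tt N56402 F164360))
theorem Q56590 : ∀ i, i < 56590 → P i := stepQ 56589 Q56589 (allL N56589 (tt N93106 D196123) (tt N93107 D196124) (tt N93105 (iv2 F399511)) (tt N30053 F164364) (tt N70570 (iv4 F217851)) (tt N93108 D196125) (tt N30052 (iv6 D106677)) (tt N93109 D196126))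
theorem Q56591 : ∀ i, i < 56591 → P i := stepQ 56590 Q56590 (allL N56590 (tt N65751 (iv1 F360483)) (tt N60419 F360481) (tt N56418 F164365) (tt N93108 (iv3 F399515)) (tt N93110 D196127) (tt N30053 (iv5 D106678)) (tt N93086 (iv6 F399421)) (tt N65749 (iv7 F360461)))
theorem Q56592 : ∀ i, i < 56592 → P i := stepQ 56591 Q56591 (allL N56591 (tt N37704 (iv1 F164369)) (tt N37702 F164370) (tt N56419 F164366) (tt N93109 (iv3 F399516)) (tt N30056 F164367) (tt N65749 F360465) (tt N56405 F164368) (tt N30053 (iv7 D106679)))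
theorem Q56593 : ∀ i, i < 56593 → P i := stepQ 56592 Q56592 (allL N56592 (tt N39149 F164374) (tt N39148 (iv0 F164376)) (tt N39150 F164371) (tt N39598 F164372) (tt N67152 (iv4 F206795)) (tt N30054 (iv5 D106680)) (tt N39657 F164375) (tt N32208 F164373))
theorem Q56594 : ∀ i, i < 56594 → P i := stepQ 56593 Q56593 (allL N56593 (tt N68300 (iv1 F209498)) (tt N68299 F209495) (tt N56421 F164377) (tt N69811 (iv3 F216193)) (tt N68669 (iv4 F211329)) (tt N30179 F164378) (tt N30054 (iv6 D106681)) (tt N30178 F164379))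
theorem Q56595 : ∀ i, i < 56595 → P i := stepQ 56594 Q56594 (allL N56594 (tt N30057 (iv1 D106682)) (tt N51304 F164380) (tt N51506 (iv2 F164383)) (tt N92799 (iv3 F398283)) (tt N60266 (iv4 F176079)) (tt N30060 F164382) (tt N51544 F164384) (tt N45027 F164381))
theorem Q56596 : ∀ i, i < 56596 → P i := stepQ 56595 Q56595 (allL N56595 (tt N93111 D196128) (tt N93112 D196129) (tt N51507 F164385) (tt N93081 (iv3 F399394)) (tt N30057 (iv4 D106683)) (tt N93113 D196130) (tt N68151 F349638) (tt N51509 F164386))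
theorem Q56597 : ∀ i, i < 56597 → P i := stepQ 56596 Q56596 (allL N56596 (tt N86085 (iv1 F375073)) (tt N86083 (iv0 F375070)) (tt N51508 F164387) (tt N30058 F164388) (tt N68151 (iv4 F349635)) (tt N50978 F164389) (tt N30057 (iv6 D106684)) (tt N54907 F356095))
theorem Q56598 : ∀ i, i < 56598 → P i := stepQ 56597 Q56597 (allL N56597 (tt N56426 (iv1 F164393)) (tt N30058 (iv0 D106685)) (tt N56424 F398896) (tt N93114 D196131) (tt N68640 F343654) (tt N93115 D196132) (tt N93116 D196133) (tt N56425 F398897))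
theorem Q56599 : ∀ i, i < 56599 → P i := stepQ 56598 Q56598 (allL N56598 (tt N30058 (iv1 D106686)) (tt N56426 F164390) (tt N56425 F398894) (tt N76439 F351269) (tt N68641 (iv4 F343659)) (tt N93117 D196134) (tt N93118 D196135) (tt N56424 (iv7 F398893)))
theorem Q56600 : ∀ i, i < 56600 → P i := stepQ 56599 Q56599 (allL N56599 (tt N56425 (iv1 F164394)) (tt N56424 F164395) (tt N56426 F164391) (tt N54907 (iv3 F356096)) (tt N88252 F382353) (tt N78772 (iv5 F250840)) (tt N54904 (iv6 F356102)) (tt N30058 (iv7 D106687)))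
theorem Q56601 : ∀ i, i < 56601 → P i := stepQ 56600 Q56600 (allL N56600 (tt N56431 (iv1 F164400)) (tt N30059 (iv0 D106688)) (tt N56429 (iv2 F362872)) (tt N91086 (iv3 F391867)) (tt N32362 F332812) (tt N91085 F391862) (tt N86862 (iv6 F377479)) (tt N56430 F332831))
theorem Q56602 : ∀ i, i < 56602 → P i := stepQ 56601 Q56601 (allL N56601 (tt N30059 (iv1 D106689)) (tt N56431 F164396) (tt N56430 (iv2 F332843)) (tt N93012 (iv3 F399114)) (tt N68742 F332842) (tt N92133 (iv5 F395895)) (tt N93119 D196136) (tt N56429 (iv7 F362873)))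
theorem Q56603 : ∀ i, i < 56603 → P i := stepQ 56602 Q56602 (allL N56602 (tt N56430 (iv1 F164401)) (tt N56429 F164402) (tt N56431 F164397) (tt N78289 (iv3 F247680)) (tt N56724 (iv4 F343619)) (tt N55745 F164398) (tt N56435 F164399) (tt N30059 (iv7 D106690)))
theorem Q56604 : ∀ i, i < 56604 → P i := stepQ 56603 Q56603 (allL N56603 (tt N37289 F164404) (tt N31363 (iv0 F164405)) (tt N56621 F164464) (tt N30060 (iv3 D106691)) (tt N56621 (iv4 F164462)) (tt N92799 (iv5 F398282)) (tt N74375 (iv6 F227638)) (tt N45025 F164403))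
theorem Q56605 : ∀ i, i < 56605 → P i := stepQ 56604 Q56604 (allL N56604 (tt N56435 (iv1 F164409)) (tt N30061 (iv0 D106692)) (tt N56432 (iv2 F248596)) (tt N93120 D196137) (tt N68714 (iv4 F398938)) (tt N85220 (iv5 F398944)) (tt N93121 D196138) (tt N56433 F248595))
theorem Q56606 : ∀ i, i < 56606 → P i := stepQ 56605 Q56605 (allL N56605 (tt N30061 (iv1 D106693)) (tt N56435 F164406) (tt N56433 F248593) (tt N92947 (iv3 F398866)) (tt N68715 F341616) (tt N78384 (iv5 F248592)) (tt N68816 (iv6 F341600)) (tt N56432 (iv7 F248594)))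
theorem Q56607 : ∀ i, i < 56607 → P i := stepQ 56606 Q56606 (allL N56606 (tt N56433 (iv1 F164410)) (tt N56432 F164411) (tt N56435 F164407) (tt N86806 (iv3 F377259)) (tt N56721 (iv4 F362908)) (tt N76234 (iv5 F237971)) (tt N56431 F164408) (tt N30061 (iv7 D106694)))
theorem Q56608 : ∀ i, i < 56608 → P i := stepQ 56607 Q56607 (allL N56607 (tt N51505 F164415) (tt N30085 F164416) (tt N56442 F164412) (tt N45240 F164413) (tt N86492 (iv4 F376382)) (tt N30062 (iv5 D106695)) (tt N51436 F164417) (tt N32618 F164414))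
theorem Q56609 : ∀ i, i < 56609 → P i := stepQ 56608 Q56608 (allL N56608 (tt N56444 F164421) (tt N49484 F164422) (tt N30064 F164418) (tt N38263 F164419) (tt N86426 (iv4 F376178)) (tt N30063 (iv5 D106696)) (tt N86628 (iv6 F376622)) (tt N56443 F164420))
theorem Q56610 : ∀ i, i < 56610 → P i := stepQ 56609 Q56609 (allL N56609 (tt N56443 (iv1 F164425)) (tt N30064 (iv0 D106697)) (tt N56444 (iv2 F164424)) (tt N43111 (iv3 F164429)) (tt N93122 D196139) (tt N31361 F164423) (tt N86667 (iv6 F376729)) (tt N49484 F164426))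
theorem Q56611 : ∀ i, i < 56611 → P i := stepQ 56610 Q56610 (allL N56610 (tt N93123 D196140) (tt N69366 (iv0 F366145)) (tt N86628 (iv2 F376620)) (tt N30065 F164430) (tt N86514 (iv4 F376406)) (tt N32456 F164431) (tt N30064 (iv6 D106698)) (tt N93124 D196141))
theorem Q56612 : ∀ i, i < 56612 → P i := stepQ 56611 Q56611 (allL N56611 (tt N56441 (iv1 F164436)) (tt N30065 (iv0 D106699)) (tt N56439 (iv2 F349632)) (tt N68127 (iv3 F377276)) (tt N35850 F332825) (tt N92664 (iv5 F397803)) (tt N93125 D196142) (tt N56440 (iv7 F349629)))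
theorem Q56613 : ∀ i, i < 56613 → P i := stepQ 56612 Q56612 (allL N56612 (tt N30065 (iv1 D106700)) (tt N56441 F164432) (tt N56440 (iv2 F349628)) (tt N93126 D196143) (tt N60573 F343626) (tt N60812 (iv5 F176952)) (tt N93127 D196144) (tt N56439 (iv7 F349634)))
theorem Q56614 : ∀ i, i < 56614 → P i := stepQ 56613 Q56613 (allL N56613 (tt N56440 (iv1 F164437)) (tt N56439 F164438) (tt N56441 F164433) (tt N93124 (iv3 F399584)) (tt N60621 F349630) (tt N32459 F164434) (tt N56451 F164435) (tt N30065 (iv7 D106701)))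
theorem Q56615 : ∀ i, i < 56615 → P i := stepQ 56614 Q56614 (allL N56614 (tt N56451 (iv1 F164444)) (tt N30066 (iv0 D106702)) (tt N56448 F205549) (tt N93128 D196145) (tt N56723 (iv4 F364644)) (tt N93129 D196146) (tt N93130 D196147) (tt N56449 F205547))
theorem Q56616 : ∀ i, i < 56616 → P i := stepQ 56615 Q56615 (allL N56615 (tt N30066 (iv1 D106703)) (tt N56451 F164439) (tt N56449 (iv2 F205546)) (tt N68124 (iv3 F364648)) (tt N56722 (iv4 F364643)) (tt N61185 (iv5 F178299)) (tt N79949 F259066) (tt N56448 (iv7 F205548)))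
theorem Q56617 : ∀ i, i < 56617 → P i := stepQ 56616 Q56616 (allL N56616 (tt N93131 D196148) (tt N93132 D196149) (tt N56450 F164440) (tt N78295 (iv3 F247876)) (tt N93133 D196150) (tt N30066 (iv5 D106704)) (tt N30067 F164441) (tt N93134 D196151))
theorem Q56618 : ∀ i, i < 56618 → P i := stepQ 56617 Q56617 (allL N56617 (tt N56449 (iv1 F164445)) (tt N56448 F164446) (tt N56451 F164442) (tt N78296 (iv3 F247878)) (tt N93037 (iv4 F399223)) (tt N93134 (iv5 F399629)) (tt N56441 F164443) (tt N30066 (iv7 D106705)))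
theorem Q56619 : ∀ i, i < 56619 → P i := stepQ 56618 Q56618 (allL N56618 (tt N32722 F164450) (tt N32719 F164451) (tt N42943 F164447) (tt N93135 D196152) (tt N30067 (iv4 D106706)) (tt N42943 F164448) (tt N93133 (iv6 F399627)) (tt N32433 F164449))
theorem Q56620 : ∀ i, i < 56620 → P i := stepQ 56619 Q56619 (allL N56619 (tt N55582 (iv1 F340327)) (tt N32126 (iv0 F164456)) (tt N30071 F164452) (tt N45237 F164453) (tt N93136 D196153) (tt N30068 (iv5 D106707)) (tt N92747 (iv6 F398059)) (tt N30076 F164454))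
theorem Q56621 : ∀ i, i < 56621 → P i := stepQ 56620 Q56620 (allL N56620 (tt N43011 F164460) (tt N43008 F164461) (tt N30525 F164457) (tt N30071 F164458) (tt N76409 (iv4 F238537)) (tt N30069 (iv5 D106708)) (tt N93137 D196154) (tt N30533 F164459))
theorem Q56622 : ∀ i, i < 56622 → P i := stepQ 56621 Q56621 (allL N56621 (tt N30075 (iv1 F164465)) (tt N30070 (iv0 D106709)) (tt N56603 (iv2 F164464)) (tt N38203 F164463) (tt N56603 F164462) (tt N61341 (iv5 F376124)) (tt N56238 (iv6 F164466)) (tt N58905 (iv7 F171418)))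
theorem Q56623 : ∀ i, i < 56623 → P i := stepQ 56622 Q56622 (allL N56622 (tt N86406 (iv1 F376134)) (tt N51303 F164468) (tt N58906 (iv2 F171423)) (tt N37455 F164467) (tt N87519 (iv4 F379637)) (tt N30070 (iv5 D106710)) (tt N93138 D196155) (tt N68140 (iv7 F209189)))
theorem Q56624 : ∀ i, i < 56624 → P i := stepQ 56623 Q56623 (allL N56623 (tt N56284 F164473) (tt N56238 F164474) (tt N41301 F164469) (tt N38204 F164470) (tt N30072 F164471) (tt N93139 D196156) (tt N30070 (iv6 D106711)) (tt N42355 F164472))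
theorem Q56625 : ∀ i, i < 56625 → P i := stepQ 56624 Q56624 (allL N56624 (tt N52119 F363519) (tt N86405 (iv0 F376127)) (tt N93136 (iv2 F399635)) (tt N93140 D196157) (tt N30071 (iv4 D106712)) (tt N93141 D196158) (tt N93142 D196159) (tt N93143 D196160))
theorem Q56626 : ∀ i, i < 56626 → P i := stepQ 56625 Q56625 (allL N56625 (tt N93144 D196161) (tt N93126 (iv0 F399600)) (tt N92747 (iv2 F398057)) (tt N93137 (iv3 F399640)) (tt N93142 (iv4 F399654)) (tt N92727 (iv5 F397997)) (tt N30071 (iv6 D106713)) (tt N93145 D196162))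
theorem Q56627 : ∀ i, i < 56627 → P i := stepQ 56626 Q56626 (allL N56626 (tt N32126 (iv1 F164478)) (tt N55582 (iv0 F340326)) (tt N30076 F164475) (tt N30533 F164476) (tt N93143 (iv4 F399656)) (tt N30073 F164477) (tt N93146 D196163) (tt N30071 (iv7 D106714)))
theorem Q56628 : ∀ i, i < 56628 → P i := stepQ 56627 Q56627 (allL N56627 (tt N45173 (iv1 F164485)) (tt N32431 (iv0 F164484)) (tt N30077 F164480) (tt N30534 F164481) (tt N50091 F164482) (tt N66790 (iv5 F205578)) (tt N30073 (iv6 D106715)) (tt N45171 F164483))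
theorem Q56629 : ∀ i, i < 56629 → P i := stepQ 56628 Q56628 (allL N56628 (tt N57700 (iv1 F167454)) (tt N43111 F164489) (tt N45238 F164486) (tt N30076 F164487) (tt N69632 (iv4 F215219)) (tt N30074 (iv5 D106716)) (tt N43071 F334832) (tt N45237 F164488))
theorem Q56630 : ∀ i, i < 56630 → P i := stepQ 56629 Q56629 (allL N56629 (tt N51303 F164490) (tt N86406 F376133) (tt N68140 (iv2 F209187)) (tt N58909 (iv3 F171428)) (tt N87518 (iv4 F379630)) (tt N30075 (iv5 D106717)) (tt N93147 D196164) (tt N58906 (iv7 F171425)))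
theorem Q56631 : ∀ i, i < 56631 → P i := stepQ 56630 Q56630 (allL N56630 (tt N86405 (iv1 F376128)) (tt N52119 F363520) (tt N93143 (iv2 F399655)) (tt N93148 D196165) (tt N30076 (iv4 D106718)) (tt N93149 D196166) (tt N93150 D196167) (tt N93136 (iv7 F399636)))
theorem Q56632 : ∀ i, i < 56632 → P i := stepQ 56631 Q56631 (allL N56631 (tt N93128 F399605) (tt N93151 D196168) (tt N93146 (iv2 F399669)) (tt N43071 F334834) (tt N93150 (iv4 F399681)) (tt N92824 (iv5 F398390)) (tt N30076 (iv6 D106719)) (tt N93152 D196169))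
theorem Q56633 : ∀ i, i < 56633 → P i := stepQ 56632 Q56632 (allL N56632 (tt N32431 (iv1 F164495)) (tt N45173 F164496) (tt N45171 F164491) (tt N42635 F164492) (tt N50092 F164493) (tt N66791 F205585) (tt N30406 F164494) (tt N30077 (iv7 D106720)))
theorem Q56634 : ∀ i, i < 56634 → P i := stepQ 56633 Q56633 (allL N56633 (tt N30078 (iv1 D106721)) (tt N30083 F164498) (tt N30080 F164501) (tt N68444 (iv3 F210498)) (tt N93153 D196170) (tt N32171 (iv5 F164500)) (tt N52034 (iv6 F348080)) (tt N30079 F164499))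
theorem Q56635 : ∀ i, i < 56635 → P i := stepQ 56634 Q56634 (allL N56634 (tt N91945 (iv1 F395071)) (tt N52029 (iv0 F340314)) (tt N30081 F164502) (tt N93154 D196171) (tt N30078 (iv4 D106722)) (tt N93155 D196172) (tt N52088 F356826) (tt N60187 (iv7 F175882)))
theorem Q56636 : ∀ i, i < 56636 → P i := stepQ 56635 Q56635 (allL N56635 (tt N52093 (iv1 F350223)) (tt N68436 (iv0 F350222)) (tt N30082 F164503) (tt N32182 F164504) (tt N52088 (iv4 F356824)) (tt N42022 F164505) (tt N30078 (iv6 D106723)) (tt N93156 D196173))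
theorem Q56637 : ∀ i, i < 56637 → P i := stepQ 56636 Q56636 (allL N56636 (tt N93157 D196174) (tt N93158 D196175) (tt N56292 F164506) (tt N93159 D196176) (tt N30079 (iv4 D106724)) (tt N55577 (iv5 F356902)) (tt N93160 D196177) (tt N93153 (iv7 F399689)))
theorem Q56638 : ∀ i, i < 56638 → P i := stepQ 56637 Q56637 (allL N56637 (tt N60199 (iv1 F331571)) (tt N73779 F331570) (tt N56290 F164507) (tt N76259 (iv3 F238035)) (tt N93160 (iv4 F399726)) (tt N45061 F164508) (tt N30079 (iv6 D106725)) (tt N93161 D196178))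
theorem Q56639 : ∀ i, i < 56639 → P i := stepQ 56638 Q56638 (allL N56638 (tt N93158 (iv1 F399713)) (tt N93157 F399710) (tt N93153 (iv2 F399686)) (tt N78518 F355121) (tt N30080 (iv4 D106726)) (tt N55573 F363530) (tt N87740 (iv6 F380303)) (tt N56292 F164509))
theorem Q56640 : ∀ i, i < 56640 → P i := stepQ 56639 Q56639 (allL N56639 (tt N52038 (iv1 F363606)) (tt N51761 (iv0 F363605)) (tt N52034 F348081) (tt N68426 (iv3 F210414)) (tt N87740 (iv4 F380302)) (tt N88454 (iv5 F383113)) (tt N30080 (iv6 D106727)) (tt N52035 (iv7 F348082)))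
theorem Q56641 : ∀ i, i < 56641 → P i := stepQ 56640 Q56640 (allL N56640 (tt N88238 (iv1 F382307)) (tt N87896 (iv0 F381010)) (tt N88237 F382300) (tt N30081 (iv3 D106730)) (tt N30089 F164511) (tt N93162 D196179) (tt N83585 F348085) (tt N37774 (iv7 F164512)))
theorem Q56642 : ∀ i, i < 56642 → P i := stepQ 56641 Q56641 (allL N56641 (tt N93163 D196180) (tt N93164 D196181) (tt N93155 (iv2 F399696)) (tt N93162 (iv3 F399736)) (tt N91968 (iv4 F395177)) (tt N30081 (iv5 D106731)) (tt N91934 F395013) (tt N91851 F394684))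
theorem Q56643 : ∀ i, i < 56643 → P i := stepQ 56642 Q56642 (allL N56642 (tt N51773 (iv1 F372129)) (tt N52089 (iv0 F372128)) (tt N52088 F356825) (tt N83585 (iv3 F348083)) (tt N30082 F164513) (tt N93165 D196182) (tt N30081 (iv6 D106732)) (tt N52087 (iv7 F355502)))
theorem Q56644 : ∀ i, i < 56644 → P i := stepQ 56643 Q56643 (allL N56643 (tt N52029 F340313) (tt N91945 (iv0 F395072)) (tt N60187 (iv2 F175881)) (tt N37774 F164514) (tt N30083 F164515) (tt N91851 (iv5 F394683)) (tt N93166 D196183) (tt N30081 (iv7 D106733)))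
theorem Q56645 : ∀ i, i < 56645 → P i := stepQ 56644 Q56644 (allL N56644 (tt N93156 (iv1 F399707)) (tt N30082 (iv0 D106734)) (tt N52093 F348075) (tt N38316 F348076) (tt N55069 F348077) (tt N92818 (iv5 F398370)) (tt N51775 F348078) (tt N68436 F348079))
theorem Q56646 : ∀ i, i < 56646 → P i := stepQ 56645 Q56645 (allL N56645 (tt N30082 (iv1 D106735)) (tt N93156 F399706) (tt N68436 (iv2 F348087)) (tt N93167 D196184) (tt N87657 (iv4 F380011)) (tt N92806 (iv5 F398310)) (tt N93168 D196185) (tt N52093 F348086))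
theorem Q56647 : ∀ i, i < 56647 → P i := stepQ 56646 Q56646 (allL N56646 (tt N68436 F350220) (tt N52093 F355247) (tt N93156 (iv2 F399702)) (tt N30093 F164516) (tt N52087 F355470) (tt N45064 F164517) (tt N93169 D196186) (tt N30082 (iv7 D106736)))
theorem Q56648 : ∀ i, i < 56648 → P i := stepQ 56647 Q56647 (allL N56647 (tt N93170 D196187) (tt N88814 (iv0 F384235)) (tt N60188 (iv2 F175885)) (tt N30094 F164518) (tt N93166 (iv4 F399760)) (tt N93171 D196188) (tt N30083 (iv6 D106737)) (tt N93169 (iv7 F399784)))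
theorem Q56649 : ∀ i, i < 56649 → P i := stepQ 56648 Q56648 (allL N56648 (tt N56240 F164522) (tt N56048 (iv0 F164523)) (tt N30407 F164519) (tt N30095 F164520) (tt N93172 D196189) (tt N30084 (iv5 D106738)) (tt N93171 (iv6 F399788)) (tt N32578 F164521))
theorem Q56650 : ∀ i, i < 56650 → P i := stepQ 56649 Q56649 (allL N56649 (tt N93173 D196190) (tt N93174 D196191) (tt N63404 (iv2 F187336)) (tt N93022 (iv3 F399150)) (tt N30085 (iv4 D106739)) (tt N93175 D196192) (tt N91237 F392378) (tt N56462 F164524))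
theorem Q56651 : ∀ i, i < 56651 → P i := stepQ 56650 Q56650 (allL N56650 (tt N81443 F366230) (tt N51414 (iv0 F164526)) (tt N63401 (iv2 F187329)) (tt N30086 F164525) (tt N91237 (iv4 F392377)) (tt N63399 (iv5 F187318)) (tt N30085 (iv6 D106740)) (tt N93176 D196193))
theorem Q56652 : ∀ i, i < 56652 → P i := stepQ 56651 Q56651 (allL N56651 (tt N56461 (iv1 F164530)) (tt N30086 (iv0 D106741)) (tt N56459 (iv2 F204741)) (tt N32185 F331450) (tt N93084 (iv4 F399407)) (tt N92656 (iv5 F397782)) (tt N66623 F204740) (tt N56460 (iv7 F204743)))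
theorem Q56653 : ∀ i, i < 56653 → P i := stepQ 56652 Q56652 (allL N56652 (tt N30086 (iv1 D106742)) (tt N56461 F164527) (tt N56460 F204744) (tt N73779 (iv3 F331453)) (tt N93085 (iv4 F399415)) (tt N73778 (iv5 F331576)) (tt N51404 (iv6 F251426)) (tt N56459 F204742))
theorem Q56654 : ∀ i, i < 56654 → P i := stepQ 56653 Q56653 (allL N56653 (tt N56460 (iv1 F164531)) (tt N56459 F164532) (tt N56461 F164528) (tt N93176 (iv3 F399814)) (tt N93026 (iv4 F399157)) (tt N61114 (iv5 F290561)) (tt N56465 F164529) (tt N30086 (iv7 D106743)))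
theorem Q56655 : ∀ i, i < 56655 → P i := stepQ 56654 Q56654 (allL N56654 (tt N38207 F164534) (tt N61357 (iv0 F178684)) (tt N63425 (iv2 F187376)) (tt N30088 F333549) (tt N30087 (iv4 D106744)) (tt N61655 (iv5 F333555)) (tt N30087 F333550) (tt N56457 F164533))
theorem Q56656 : ∀ i, i < 56656 → P i := stepQ 56655 Q56655 (allL N56655 (tt N56465 (iv1 F164539)) (tt N30088 (iv0 D106746)) (tt N56464 F356958) (tt N52038 F356942) (tt N88254 (iv4 F382366)) (tt N85296 (iv5 F372192)) (tt N93177 D196194) (tt N52036 (iv7 F356943)))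
theorem Q56657 : ∀ i, i < 56657 → P i := stepQ 56656 Q56656 (allL N56656 (tt N30088 (iv1 D106747)) (tt N56465 F164536) (tt N52036 (iv2 F356944)) (tt N60206 (iv3 F364989)) (tt N88253 (iv4 F382358)) (tt N85295 (iv5 F372189)) (tt N52096 F356945) (tt N56464 (iv7 F356953)))
theorem Q56658 : ∀ i, i < 56658 → P i := stepQ 56657 Q56657 (allL N56657 (tt N52036 (iv1 F356952)) (tt N56464 F164541) (tt N56465 F164537) (tt N56457 F333531) (tt N37695 F333532) (tt N61660 (iv5 F179186)) (tt N56461 F164538) (tt N30088 (iv7 D106748)))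
theorem Q56659 : ∀ i, i < 56659 → P i := stepQ 56658 Q56658 (allL N56658 (tt N37771 (iv1 F164542)) (tt N30089 (iv0 D106749)) (tt N37773 F216666) (tt N79703 F361103) (tt N93178 D196195) (tt N67575 (iv5 F211044)) (tt N93179 D196196) (tt N37772 F216667))
theorem Q56660 : ∀ i, i < 56660 → P i := stepQ 56659 Q56659 (allL N56659 (tt N30089 (iv1 D106750)) (tt N37771 F164547) (tt N37772 F216664) (tt N93180 D196197) (tt N93181 D196198) (tt N67576 F211217) (tt N79702 F363608) (tt N37773 F216665))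
theorem Q56661 : ∀ i, i < 56661 → P i := stepQ 56660 Q56660 (allL N56660 (tt N37773 (iv1 F164548)) (tt N37772 F164546) (tt N30089 (iv2 D106751)) (tt N56468 F164543) (tt N88237 (iv4 F382298)) (tt N37760 F164544) (tt N88214 (iv6 F382208)) (tt N37771 F164545))
theorem Q56662 : ∀ i, i < 56662 → P i := stepQ 56661 Q56661 (allL N56661 (tt N79701 F357664) (tt N88327 F382604) (tt N88214 (iv2 F382205)) (tt N30090 F164549) (tt N83585 F348084) (tt N67204 (iv5 F358317)) (tt N30089 (iv6 D106752)) (tt N88320 (iv7 F382575)))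
theorem Q56663 : ∀ i, i < 56663 → P i := stepQ 56662 Q56662 (allL N56662 (tt N56473 (iv1 F164556)) (tt N30090 (iv0 D106753)) (tt N56470 F177801) (tt N60620 (iv3 F358219)) (tt N31376 F177802) (tt N60616 (iv5 F358221)) (tt N60618 F358218) (tt N56471 F177803))
theorem Q56664 : ∀ i, i < 56664 → P i := stepQ 56663 Q56663 (allL N56663 (tt N30090 (iv1 D106754)) (tt N56473 F164550) (tt N56471 F177804) (tt N82821 F347533) (tt N31377 F177805) (tt N93182 D196199) (tt N65941 (iv6 F347535)) (tt N56470 F177806))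
theorem Q56665 : ∀ i, i < 56665 → P i := stepQ 56664 Q56664 (allL N56664 (tt N93032 F399192) (tt N93183 D196200) (tt N56472 F164551) (tt N67204 F358318) (tt N93184 D196201) (tt N30090 (iv5 D106755)) (tt N37786 F164552) (tt N93185 D196202))
theorem Q56666 : ∀ i, i < 56666 → P i := stepQ 56665 Q56665 (allL N56665 (tt N56471 (iv1 F164557)) (tt N56470 F164558) (tt N56473 F164553) (tt N88320 (iv3 F382574)) (tt N30093 F164554) (tt N93185 (iv5 F399858)) (tt N37783 F164555) (tt N30090 (iv7 D106756)))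
theorem Q56667 : ∀ i, i < 56667 → P i := stepQ 56666 Q56666 (allL N56666 (tt N93186 D196203) (tt N61141 (iv0 F398466)) (tt N93187 D196204) (tt N30091 (iv3 D106757)) (tt N93188 D196205) (tt N92842 (iv5 F398464)) (tt N93189 D196206) (tt N56476 F164559))
theorem Q56668 : ∀ i, i < 56668 → P i := stepQ 56667 Q56667 (allL N56667 (tt N58932 F177831) (tt N30421 F177832) (tt N56475 F164560) (tt N93190 D196207) (tt N30091 (iv4 D106758)) (tt N56586 (iv5 F341608)) (tt N93191 D196208) (tt N56477 F164561))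
theorem Q56669 : ∀ i, i < 56669 → P i := stepQ 56668 Q56668 (allL N56668 (tt N52096 (iv1 F359040)) (tt N52098 F359020) (tt N52095 (iv2 F376744)) (tt N93189 (iv3 F399872)) (tt N93191 (iv4 F399880)) (tt N57211 F165812) (tt N30091 (iv6 D106759)) (tt N52094 (iv7 F376747)))
theorem Q56670 : ∀ i, i < 56670 → P i := stepQ 56669 Q56669 (allL N56669 (tt N46003 F340666) (tt N76643 F340667) (tt N76641 F334820) (tt N30092 (iv3 D106760)) (tt N93192 D196209) (tt N56196 F164563) (tt N93193 D196210) (tt N56474 F164564))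
theorem Q56671 : ∀ i, i < 56671 → P i := stepQ 56670 Q56670 (allL N56670 (tt N30421 F177833) (tt N58932 F177834) (tt N56477 F164565) (tt N93194 D196211) (tt N30092 (iv4 D106761)) (tt N56587 F322877) (tt N65607 F332816) (tt N56475 F164566))
theorem Q56672 : ∀ i, i < 56672 → P i := stepQ 56671 Q56671 (allL N56671 (tt N66621 F259067) (tt N66623 F259068) (tt N56478 F164567) (tt N93193 (iv3 F399889)) (tt N65607 (iv4 F332818)) (tt N56200 F164568) (tt N30092 (iv6 D106762)) (tt N93195 D196212))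
theorem Q56673 : ∀ i, i < 56673 → P i := stepQ 56672 Q56672 (allL N56672 (tt N56481 (iv1 F164572)) (tt N56480 F164573) (tt N56479 F164569) (tt N93169 (iv3 F399782)) (tt N37783 F164570) (tt N93196 D196213) (tt N30093 (iv6 D106763)) (tt N30094 F164571))
theorem Q56674 : ∀ i, i < 56674 → P i := stepQ 56673 Q56673 (allL N56673 (tt N56479 (iv1 F164574)) (tt N30094 (iv0 D106764)) (tt N56480 F365944) (tt N51276 (iv3 F205519)) (tt N56725 (iv4 F365956)) (tt N93197 D196214) (tt N51273 F205518) (tt N56481 (iv7 F365946)))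
theorem Q56675 : ∀ i, i < 56675 → P i := stepQ 56674 Q56674 (allL N56674 (tt N30094 (iv1 D106765)) (tt N56479 F164575) (tt N56481 (iv2 F365948)) (tt N70769 (iv3 F365949)) (tt N56726 (iv4 F365951)) (tt N70768 (iv5 F365950)) (tt N93198 D196215) (tt N56480 F365947))
theorem Q56676 : ∀ i, i < 56676 → P i := stepQ 56675 Q56675 (allL N56675 (tt N92655 F397780) (tt N93199 D196216) (tt N45055 F164576) (tt N93171 (iv3 F399787)) (tt N78909 (iv4 F251334)) (tt N30094 (iv5 D106766)) (tt N30095 F164577) (tt N93196 (iv7 F399920)))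
theorem Q56677 : ∀ i, i < 56677 → P i := stepQ 56676 Q56676 (allL N56676 (tt N39248 F176307) (tt N32985 (iv0 F168431)) (tt N38579 F165673) (tt N30096 (iv3 D106768)) (tt N37928 (iv4 F164579)) (tt N73304 (iv5 F224328)) (tt N38936 (iv6 F168430)) (tt N39247 (iv7 F168152)))
theorem Q56678 : ∀ i, i < 56678 → P i := stepQ 56677 Q56677 (allL N56677 (tt N56849 F165328) (tt N56376 F165489) (tt N56709 (iv2 F165488)) (tt N73304 F224332) (tt N93200 D196217) (tt N30096 (iv5 D106770)) (tt N57066 F165327) (tt N56396 (iv7 F165480)))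
theorem Q56679 : ∀ i, i < 56679 → P i := stepQ 56678 Q56678 (allL N56678 (tt N30282 F165502) (tt N30284 F165503) (tt N56710 F165504) (tt N38584 (iv3 F165537)) (tt N55673 (iv4 F342853)) (tt N57166 (iv5 F165683)) (tt N30097 (iv6 D106774)) (tt N60938 (iv7 F342863)))
theorem Q56680 : ∀ i, i < 56680 → P i := stepQ 56679 Q56679 (allL N56679 (tt N56730 (iv1 F164670)) (tt N40561 (iv0 F164583)) (tt N56711 F168401) (tt N39652 (iv3 F168406)) (tt N92752 (iv4 F398068)) (tt N38177 F164582) (tt N30099 (iv6 D106778)) (tt N60880 (iv7 F326886)))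
theorem Q56681 : ∀ i, i < 56681 → P i := stepQ 56680 Q56680 (allL N56680 (tt N30103 (iv1 F164587)) (tt N30102 (iv0 D106782)) (tt N30106 (iv2 F164585)) (tt N56712 (iv3 F164639)) (tt N61743 (iv4 F179409)) (tt N58930 (iv5 F171462)) (tt N92763 (iv6 F398117)) (tt N30104 F164586))
theorem Q56682 : ∀ i, i < 56682 → P i := stepQ 56681 Q56681 (allL N56681 (tt N30106 F358358) (tt N30104 F358359) (tt N30102 (iv2 D106783)) (tt N56472 F358360) (tt N93201 D196218) (tt N56469 F358361) (tt N93080 (iv6 F399393)) (tt N30103 (iv7 F164588)))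
theorem Q56683 : ∀ i, i < 56683 → P i := stepQ 56682 Q56682 (allL N56682 (tt N93047 F399344) (tt N93202 D196219) (tt N67204 F358352) (tt N30102 (iv3 D106784)) (tt N67203 (iv4 F358351)) (tt N88214 (iv5 F382207)) (tt N93203 D196220) (tt N67208 F358353))
theorem Q56684 : ∀ i, i < 56684 → P i := stepQ 56683 Q56683 (allL N56683 (tt N88199 F382144) (tt N88256 F382380) (tt N93201 (iv2 F399946)) (tt N92784 F398211) (tt N30102 (iv4 D106785)) (tt N88228 (iv5 F382271)) (tt N93204 D196221) (tt N93205 D196222))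
theorem Q56685 : ∀ i, i < 56685 → P i := stepQ 56684 Q56684 (allL N56684 (tt N93206 D196223) (tt N93040 F399242) (tt N93080 (iv2 F399391)) (tt N93203 (iv3 F399955)) (tt N93204 (iv4 F399958)) (tt N92779 F398188) (tt N30102 (iv6 D106787)) (tt N93207 D196224))
theorem Q56686 : ∀ i, i < 56686 → P i := stepQ 56685 Q56685 (allL N56685 (tt N30104 F358354) (tt N30106 F358355) (tt N30103 F164589) (tt N67208 F358356) (tt N93205 (iv4 F399963)) (tt N87892 (iv5 F380993)) (tt N93208 D196225) (tt N30102 (iv7 D106788)))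
theorem Q56687 : ∀ i, i < 56687 → P i := stepQ 56686 Q56686 (allL N56686 (tt N93183 (iv1 F399843)) (tt N93032 (iv0 F399842)) (tt N93185 (iv2 F399856)) (tt N30103 (iv3 D106789)) (tt N93209 D196226) (tt N56473 F358364) (tt N93210 D196227) (tt N56472 (iv7 F358370)))
theorem Q56688 : ∀ i, i < 56688 → P i := stepQ 56687 Q56687 (allL N56687 (tt N88256 (iv1 F382378)) (tt N88199 (iv0 F382143)) (tt N93205 (iv2 F399961)) (tt N70462 (iv3 F217442)) (tt N30103 (iv4 D106790)) (tt N73772 F358365) (tt N92746 (iv6 F398062)) (tt N93201 (iv7 F399947)))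
theorem Q56689 : ∀ i, i < 56689 → P i := stepQ 56688 Q56688 (allL N56688 (tt N92754 (iv1 F418281)) (tt N93211 D196229) (tt N93208 (iv2 F399971)) (tt N93210 (iv3 F399981)) (tt N92746 F398063) (tt N93212 D196230) (tt N30103 (iv6 D106792)) (tt N93213 D196231))
theorem Q56690 : ∀ i, i < 56690 → P i := stepQ 56689 Q56689 (allL N56689 (tt N58929 (iv1 F171465)) (tt N58928 F171460) (tt N30105 F164592) (tt N56721 (iv3 F164646)) (tt N52218 F332567) (tt N30104 (iv5 D106795)) (tt N52397 (iv6 F332568)) (tt N58930 (iv7 F171463)))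
theorem Q56691 : ∀ i, i < 56691 → P i := stepQ 56690 Q56690 (allL N56690 (tt N92764 (iv1 F398126)) (tt N92731 (iv0 F398009)) (tt N92763 F398118) (tt N30108 F164594) (tt N60898 (iv4 F328630)) (tt N90242 (iv5 F389067)) (tt N30106 (iv6 D106800)) (tt N67324 (iv7 F207092)))
theorem Q56692 : ∀ i, i < 56692 → P i := stepQ 56691 Q56691 (allL N56691 (tt N56727 (iv1 F164653)) (tt N30107 (iv0 D106801)) (tt N56725 F365955) (tt N93214 D196232) (tt N56480 (iv4 F354467)) (tt N87901 (iv5 F381033)) (tt N93215 D196233) (tt N56726 F365953))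
theorem Q56693 : ∀ i, i < 56693 → P i := stepQ 56692 Q56692 (allL N56692 (tt N30107 (iv1 D106802)) (tt N56727 F164652) (tt N56726 F365952) (tt N93216 D196234) (tt N56481 (iv4 F362862)) (tt N87902 (iv5 F381037)) (tt N93217 D196235) (tt N56725 (iv7 F365957)))
theorem Q56694 : ∀ i, i < 56694 → P i := stepQ 56693 Q56693 (allL N56693 (tt N56726 (iv1 F164649)) (tt N56725 F164651) (tt N56727 (iv2 F164650)) (tt N52679 F341804) (tt N58937 (iv4 F171493)) (tt N70727 (iv5 F218192)) (tt N58932 (iv6 F171473)) (tt N30107 (iv7 D106803)))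
theorem Q56695 : ∀ i, i < 56695 → P i := stepQ 56694 Q56694 (allL N56694 (tt N93218 D196236) (tt N93219 D196237) (tt N37749 F325490) (tt N90242 (iv3 F389065)) (tt N93220 D196238) (tt N30108 (iv5 D106804)) (tt N37748 F325491) (tt N67325 (iv7 F207093)))
theorem Q56696 : ∀ i, i < 56696 → P i := stepQ 56695 Q56695 (allL N56695 (tt N69776 F216105) (tt N56409 (iv0 F164595)) (tt N56728 (iv2 F164655)) (tt N70586 (iv3 F217906)) (tt N93221 D196239) (tt N30109 (iv5 D106805)) (tt N68299 (iv6 F209494)) (tt N56729 (iv7 F164661)))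
theorem Q56697 : ∀ i, i < 56697 → P i := stepQ 56696 Q56696 (allL N56696 (tt N56409 (iv1 F164659)) (tt N69776 (iv0 F216104)) (tt N56729 (iv2 F164660)) (tt N38568 F164596) (tt N93222 D196240) (tt N30110 (iv5 D106806)) (tt N38192 F164597) (tt N56728 (iv7 F164657)))
theorem Q56698 : ∀ i, i < 56698 → P i := stepQ 56697 Q56697 (allL N56697 (tt N60880 (iv1 F326882)) (tt N56711 (iv0 F164636)) (tt N56730 (iv2 F164669)) (tt N38569 F164599) (tt N68836 (iv4 F211676)) (tt N39149 F164601) (tt N30110 (iv6 D106807)) (tt N40561 F164600))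
theorem Q56699 : ∀ i, i < 56699 → P i := stepQ 56698 Q56698 (allL N56698 (tt N93223 D196241) (tt N92104 F400026) (tt N93224 D196242) (tt N30111 (iv3 D106808)) (tt N61669 (iv4 F179206)) (tt N67217 (iv5 F206938)) (tt N93225 D196243) (tt N36731 F164602))
theorem Q56700 : ∀ i, i < 56700 → P i := stepQ 56699 Q56699 (allL N56699 (tt N59152 (iv1 F172217)) (tt N36180 (iv0 F164605)) (tt N36768 F164603) (tt N93225 (iv3 F400031)) (tt N30112 F164604) (tt N93226 D196244) (tt N30111 (iv6 D106809)) (tt N59149 (iv7 F172210)))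
theorem Q56701 : ∀ i, i < 56701 → P i := stepQ 56700 Q56700 (allL N56700 (tt N39016 (iv1 F164609)) (tt N39015 (iv0 F164610)) (tt N39017 F164606) (tt N60369 (iv3 F176302)) (tt N67201 (iv4 F206909)) (tt N35602 F164607) (tt N39014 F164608) (tt N30113 (iv7 D106810)))
theorem Q56702 : ∀ i, i < 56702 → P i := stepQ 56701 Q56701 (allL N56701 (tt N70818 F218486) (tt N30114 (iv0 D106811)) (tt N66016 F343569) (tt N37174 (iv3 F208363)) (tt N93227 D196245) (tt N32391 F343570) (tt N93228 D196246) (tt N37201 F208387))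
theorem Q56703 : ∀ i, i < 56703 → P i := stepQ 56702 Q56702 (allL N56702 (tt N30114 (iv1 D106812)) (tt N70818 F218488) (tt N37201 F218489) (tt N93229 D196247) (tt N93230 D196248) (tt N32394 F343567) (tt N93231 D196249) (tt N66016 F343568))
theorem Q56704 : ∀ i, i < 56704 → P i := stepQ 56703 Q56703 (allL N56703 (tt N66016 (iv1 F343602)) (tt N37201 (iv0 F164615)) (tt N30114 (iv2 D106813)) (tt N39020 F164612) (tt N38947 F164613) (tt N60024 F343605) (tt N30126 F164614) (tt N70818 (iv7 F218485)))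
theorem Q56705 : ∀ i, i < 56705 → P i := stepQ 56704 Q56704 (allL N56704 (tt N92115 (iv1 F395815)) (tt N92114 (iv0 F395808)) (tt N60024 (iv2 F343607)) (tt N30115 F164616) (tt N60022 (iv4 F343610)) (tt N30114 (iv5 D106814)) (tt N57958 (iv6 F343614)) (tt N60469 F343612))
theorem Q56706 : ∀ i, i < 56706 → P i := stepQ 56705 Q56705 (allL N56705 (tt N37201 (iv1 F164619)) (tt N66016 F343604) (tt N70818 (iv2 F218483)) (tt N30116 F164617) (tt N37036 F164618) (tt N60469 (iv5 F343611)) (tt N68760 F362874) (tt N30114 (iv7 D106815)))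
theorem Q56707 : ∀ i, i < 56707 → P i := stepQ 56706 Q56706 (allL N56706 (tt N36699 F164622) (tt N36697 F164623) (tt N36754 F164620) (tt N60469 (iv3 F343613)) (tt N30115 (iv4 D106816)) (tt N30116 F164621) (tt N60468 (iv6 F358304)) (tt N30115 F164624))
theorem Q56708 : ∀ i, i < 56708 → P i := stepQ 56707 Q56707 (allL N56707 (tt N93232 D196250) (tt N93233 D196251) (tt N39022 F164625) (tt N57958 F343615) (tt N60468 F358303) (tt N30129 F164626) (tt N30115 (iv6 D106817)) (tt N65611 (iv7 F343668)))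
theorem Q56709 : ∀ i, i < 56709 → P i := stepQ 56708 Q56708 (allL N56708 (tt N36875 (iv1 F164630)) (tt N32556 F329383) (tt N36790 F164627) (tt N68760 (iv3 F362875)) (tt N30117 F164628) (tt N68757 F362878) (tt N30116 (iv6 D106818)) (tt N30130 F164629))
theorem Q56710 : ∀ i, i < 56710 → P i := stepQ 56709 Q56709 (allL N56709 (tt N77936 F245360) (tt N30285 (iv0 F164880)) (tt N56677 F165488) (tt N61693 (iv3 F179273)) (tt N93234 D196252) (tt N30118 (iv5 D106822)) (tt N58141 (iv6 F168929)) (tt N30348 (iv7 F165487)))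
theorem Q56711 : ∀ i, i < 56711 → P i := stepQ 56710 Q56710 (allL N56710 (tt N56374 F164820) (tt N56375 F164822) (tt N56678 (iv2 F165504)) (tt N71081 (iv3 F219413)) (tt N32553 F329449) (tt N56798 (iv5 F164818)) (tt N30119 (iv6 D106825)) (tt N57021 F165500))
theorem Q56712 : ∀ i, i < 56712 → P i := stepQ 56711 Q56711 (allL N56711 (tt N56697 F164636) (tt N57023 (iv0 F165237)) (tt N56679 (iv2 F168401)) (tt N69886 (iv3 F216293)) (tt N65712 (iv4 F332794)) (tt N37253 F164635) (tt N30121 (iv6 D106829)) (tt N69439 (iv7 F214401)))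
theorem Q56713 : ∀ i, i < 56713 → P i := stepQ 56712 Q56712 (allL N56712 (tt N30125 (iv1 F164641)) (tt N30124 (iv0 D106833)) (tt N30128 (iv2 F164638)) (tt N56680 F164639) (tt N69078 (iv4 F212745)) (tt N56538 (iv5 F325496)) (tt N56539 F365930) (tt N30126 F164640))
theorem Q56714 : ∀ i, i < 56714 → P i := stepQ 56713 Q56713 (allL N56713 (tt N30128 F213172) (tt N30126 F213173) (tt N30124 (iv2 D106834)) (tt N69251 (iv3 F213558)) (tt N92277 (iv4 F396558)) (tt N93235 D196253) (tt N92187 F396155) (tt N30125 (iv7 F164642)))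
theorem Q56715 : ∀ i, i < 56715 → P i := stepQ 56714 Q56714 (allL N56714 (tt N93236 D196254) (tt N93237 D196255) (tt N92277 (iv2 F396557)) (tt N67895 F208217) (tt N30124 (iv4 D106835)) (tt N93238 D196256) (tt N93239 D196257) (tt N69273 (iv7 F213629)))
theorem Q56716 : ∀ i, i < 56716 → P i := stepQ 56715 Q56715 (allL N56715 (tt N68830 (iv1 F370129)) (tt N68712 (iv0 F370128)) (tt N93235 (iv2 F400068)) (tt N69233 (iv3 F213504)) (tt N86678 F399076) (tt N30124 (iv5 D106836)) (tt N68817 (iv6 F365929)) (tt N69282 (iv7 F213649)))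
theorem Q56717 : ∀ i, i < 56717 → P i := stepQ 56716 Q56716 (allL N56716 (tt N93240 D196258) (tt N68720 (iv0 F364239)) (tt N92187 (iv2 F396152)) (tt N69234 (iv3 F213507)) (tt N93239 (iv4 F400080)) (tt N32566 F365928) (tt N30124 (iv6 D106837)) (tt N92184 (iv7 F396142)))
theorem Q56718 : ∀ i, i < 56718 → P i := stepQ 56717 Q56717 (allL N56717 (tt N69250 (iv1 F213560)) (tt N68696 F213566) (tt N69254 (iv2 F213563)) (tt N30125 (iv3 D106839)) (tt N48634 F337806) (tt N50679 F359025) (tt N44634 F337807) (tt N69251 F213559))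
theorem Q56719 : ∀ i, i < 56719 → P i := stepQ 56718 Q56718 (allL N56718 (tt N93237 (iv1 F400077)) (tt N93236 F400075) (tt N69273 (iv2 F213627)) (tt N67656 (iv3 F207584)) (tt N30125 (iv4 D106840)) (tt N93241 D196259) (tt N93242 D196260) (tt N92277 (iv7 F396559)))
theorem Q56720 : ∀ i, i < 56720 → P i := stepQ 56719 Q56719 (allL N56719 (tt N68712 F373565) (tt N68830 F370130) (tt N69282 (iv2 F213647)) (tt N50679 (iv3 F359024)) (tt N86679 (iv4 F395356)) (tt N30125 (iv5 D106841)) (tt N50678 F359022) (tt N93235 (iv7 F400071)))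
theorem Q56721 : ∀ i, i < 56721 → P i := stepQ 56720 Q56720 (allL N56720 (tt N65710 (iv1 F359015)) (tt N93243 D196261) (tt N69283 (iv2 F213650)) (tt N44634 F359001) (tt N93242 (iv4 F400087)) (tt N48632 F359002) (tt N30125 (iv6 D106842)) (tt N48803 F359003))
theorem Q56722 : ∀ i, i < 56722 → P i := stepQ 56721 Q56721 (allL N56721 (tt N57280 (iv1 F165954)) (tt N57279 F165950) (tt N30127 F164645) (tt N56689 F164646) (tt N56606 F362908) (tt N30126 (iv5 D106844)) (tt N60023 (iv6 F343609)) (tt N56538 (iv7 F325497)))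
theorem Q56723 : ∀ i, i < 56723 → P i := stepQ 56722 Q56722 (allL N56722 (tt N56538 (iv1 F325493)) (tt N30127 (iv0 D106845)) (tt N57280 F358296) (tt N93244 D196262) (tt N56615 F364643) (tt N68624 F358298) (tt N93245 D196263) (tt N57279 F358294))
theorem Q56724 : ∀ i, i < 56724 → P i := stepQ 56723 Q56723 (allL N56723 (tt N30127 (iv1 D106846)) (tt N56538 (iv0 F325492)) (tt N57279 (iv2 F358292)) (tt N93246 D196264) (tt N56614 F364644) (tt N68625 F358291) (tt N93247 D196265) (tt N57280 (iv7 F358295)))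
theorem Q56725 : ∀ i, i < 56725 → P i := stepQ 56724 Q56724 (allL N56724 (tt N65979 F343616) (tt N32340 F343617) (tt N60023 F343618) (tt N30129 F164647) (tt N56602 F343619) (tt N57958 F343620) (tt N30127 (iv6 D106848)) (tt N56546 F343621))
theorem Q56726 : ∀ i, i < 56726 → P i := stepQ 56725 Q56725 (allL N56725 (tt N56693 (iv1 F164651)) (tt N30129 (iv0 D106850)) (tt N56691 (iv2 F365955)) (tt N93248 D196266) (tt N56673 F365956) (tt N93249 D196267) (tt N86460 (iv6 F376286)) (tt N56692 F365957))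
theorem Q56727 : ∀ i, i < 56727 → P i := stepQ 56726 Q56726 (allL N56726 (tt N30129 (iv1 D106851)) (tt N56693 F164649) (tt N56692 (iv2 F365952)) (tt N87591 (iv3 F379829)) (tt N56674 F365951) (tt N56228 (iv5 F348402)) (tt N93006 (iv6 F399101)) (tt N56691 (iv7 F365953)))
theorem Q56728 : ∀ i, i < 56728 → P i := stepQ 56727 Q56727 (allL N56727 (tt N56692 (iv1 F164652)) (tt N56691 F164653) (tt N56693 F164650) (tt N56546 (iv3 F343622)) (tt N57285 (iv4 F165963)) (tt N65611 F343665) (tt N56544 (iv6 F319143)) (tt N30129 (iv7 D106852)))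
theorem Q56729 : ∀ i, i < 56729 → P i := stepQ 56728 Q56728 (allL N56728 (tt N60473 F176487) (tt N56582 (iv0 F164658)) (tt N56695 F164655) (tt N38832 F164656) (tt N93250 D196268) (tt N30131 (iv5 D106854)) (tt N56825 (iv6 F164879)) (tt N56696 F164657))
theorem Q56730 : ∀ i, i < 56730 → P i := stepQ 56729 Q56729 (allL N56729 (tt N56582 (iv1 F164668)) (tt N60473 (iv0 F176486)) (tt N56696 F164660) (tt N70574 (iv3 F217863)) (tt N93251 D196269) (tt N30132 (iv5 D106855)) (tt N56573 F164662) (tt N56695 F164661))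
theorem Q56731 : ∀ i, i < 56731 → P i := stepQ 56730 Q56730 (allL N56730 (tt N69439 F214405) (tt N56679 F164670) (tt N56697 F164669) (tt N61956 (iv3 F179751)) (tt N67497 (iv4 F207319)) (tt N60323 F176205) (tt N30132 (iv6 D106856)) (tt N57023 (iv7 F165236)))
theorem Q56732 : ∀ i, i < 56732 → P i := stepQ 56731 Q56731 (allL N56731 (tt N93252 D196270) (tt N87066 (iv0 F378256)) (tt N93253 D196271) (tt N30133 (iv3 D106857)) (tt N59691 (iv4 F173532)) (tt N30992 F164671) (tt N93254 D196272) (tt N40303 F164672))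
theorem Q56733 : ∀ i, i < 56733 → P i := stepQ 56732 Q56732 (allL N56732 (tt N30858 (iv1 F168438)) (tt N30860 (iv0 F168436)) (tt N32399 F164673) (tt N93254 (iv3 F400146)) (tt N30134 F164674) (tt N93255 D196273) (tt N30133 (iv6 D106858)) (tt N59763 (iv7 F173935)))
theorem Q56734 : ∀ i, i < 56734 → P i := stepQ 56733 Q56733 (allL N56733 (tt N32402 (iv1 F164681)) (tt N30134 (iv0 D106859)) (tt N32400 F170673) (tt N58455 (iv3 F169361)) (tt N57876 (iv4 F170696)) (tt N36729 F164675) (tt N58981 (iv6 F171658)) (tt N32401 (iv7 F170667)))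
theorem Q56735 : ∀ i, i < 56735 → P i := stepQ 56734 Q56734 (allL N56734 (tt N32401 (iv1 F164682)) (tt N32400 F164683) (tt N32402 F164679) (tt N92116 (iv3 F395817)) (tt N59763 (iv4 F173936)) (tt N58956 (iv5 F171564)) (tt N40306 F164680) (tt N30134 (iv7 D106861)))
theorem Q56736 : ∀ i, i < 56736 → P i := stepQ 56735 Q56735 (allL N56735 (tt N40309 (iv1 F164684)) (tt N30136 (iv0 D106862)) (tt N40308 F224840) (tt N93256 D196274) (tt N53974 (iv4 F357501)) (tt N73434 F224839) (tt N93257 D196275) (tt N40307 F224841))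
theorem Q56737 : ∀ i, i < 56737 → P i := stepQ 56736 Q56736 (allL N56736 (tt N30136 (iv1 D106863)) (tt N40309 F164689) (tt N40307 F224843) (tt N93258 D196276) (tt N53975 F357507) (tt N73435 F224847) (tt N93259 D196277) (tt N40308 F224844))
theorem Q56738 : ∀ i, i < 56738 → P i := stepQ 56737 Q56737 (allL N56737 (tt N40308 (iv1 F164690)) (tt N40307 F164688) (tt N30136 (iv2 D106864)) (tt N33226 F164685) (tt N40059 F164686) (tt N93260 D196278) (tt N51046 F331774) (tt N40309 F164687))
theorem Q56739 : ∀ i, i < 56739 → P i := stepQ 56738 Q56738 (allL N56738 (tt N93261 D196279) (tt N53817 F350413) (tt N93260 (iv2 F400167)) (tt N30137 F164691) (tt N54070 F364780) (tt N30136 (iv5 D106865)) (tt N58341 (iv6 F351226)) (tt N40310 F164692))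
theorem Q56740 : ∀ i, i < 56740 → P i := stepQ 56739 Q56739 (allL N56739 (tt N30138 (iv1 D106868)) (tt N33234 F164697) (tt N33232 (iv2 F164699)) (tt N93262 D196280) (tt N57867 (iv4 F167974)) (tt N72302 (iv5 F221908)) (tt N74010 (iv6 F226577)) (tt N33231 F164698))
theorem Q56741 : ∀ i, i < 56741 → P i := stepQ 56740 Q56740 (allL N56740 (tt N89033 (iv1 F384893)) (tt N89036 (iv0 F384907)) (tt N33233 F164700) (tt N50840 (iv3 F362358)) (tt N85609 (iv4 F373194)) (tt N30138 (iv5 D106869)) (tt N58342 (iv6 F351227)) (tt N51085 F362357))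
theorem Q56742 : ∀ i, i < 56742 → P i := stepQ 56741 Q56741 (allL N56741 (tt N40667 (iv1 F164706)) (tt N30140 (iv0 D106871)) (tt N40666 F219094) (tt N70988 (iv3 F219089)) (tt N93263 D196281) (tt N93261 (iv5 F400179)) (tt N93264 D196282) (tt N40665 F219092))
theorem Q56743 : ∀ i, i < 56743 → P i := stepQ 56742 Q56742 (allL N56742 (tt N30140 (iv1 D106872)) (tt N40667 F164711) (tt N40665 (iv2 F219093)) (tt N93265 D196283) (tt N93266 D196284) (tt N53817 F350393) (tt N57742 (iv6 F364387)) (tt N40666 (iv7 F219095)))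
theorem Q56744 : ∀ i, i < 56744 → P i := stepQ 56743 Q56743 (allL N56743 (tt N40666 (iv1 F164712)) (tt N40665 F164710) (tt N30140 (iv2 D106873)) (tt N33298 F164707) (tt N40513 F164708) (tt N93267 D196285) (tt N91445 F393153) (tt N40667 F164709))
theorem Q56745 : ∀ i, i < 56745 → P i := stepQ 56744 Q56744 (allL N56744 (tt N72862 (iv1 F350419)) (tt N72866 F350421) (tt N93267 (iv2 F400204)) (tt N30141 F164713) (tt N93268 D196286) (tt N30140 (iv5 D106874)) (tt N93269 D196287) (tt N40668 F164714))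
theorem Q56746 : ∀ i, i < 56746 → P i := stepQ 56745 Q56745 (allL N56745 (tt N53648 F350423) (tt N91447 F393158) (tt N91445 F393151) (tt N30142 F164715) (tt N40515 F164716) (tt N93270 D196288) (tt N30140 (iv6 D106875)) (tt N91444 F393146))
theorem Q56747 : ∀ i, i < 56747 → P i := stepQ 56746 Q56746 (allL N56746 (tt N56920 F351318) (tt N85654 F373408) (tt N33301 F164717) (tt N93269 (iv3 F400217)) (tt N30975 F164718) (tt N93271 D196289) (tt N30141 (iv6 D106876)) (tt N85655 (iv7 F373416)))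
theorem Q56748 : ∀ i, i < 56748 → P i := stepQ 56747 Q56747 (allL N56747 (tt N33305 F164720) (tt N30142 (iv0 D106877)) (tt N33302 F172150) (tt N93272 D196290) (tt N56005 F164719) (tt N93273 D196291) (tt N39968 F171593) (tt N33303 (iv7 F172149)))
theorem Q56749 : ∀ i, i < 56749 → P i := stepQ 56748 Q56748 (allL N56748 (tt N30142 (iv1 D106878)) (tt N33305 F164722) (tt N33303 (iv2 F172151)) (tt N93274 D196292) (tt N66375 F204066) (tt N93275 D196293) (tt N64616 (iv6 F362634)) (tt N33302 F172152))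
theorem Q56750 : ∀ i, i < 56750 → P i := stepQ 56749 Q56749 (allL N56749 (tt N57007 (iv1 F331822)) (tt N57004 (iv0 F331817)) (tt N33304 F164723) (tt N93270 (iv3 F400221)) (tt N62046 (iv4 F364945)) (tt N30142 (iv5 D106879)) (tt N93271 (iv6 F400235)) (tt N57005 (iv7 F364940)))
theorem Q56751 : ∀ i, i < 56751 → P i := stepQ 56750 Q56750 (allL N56750 (tt N33303 (iv1 F164727)) (tt N33302 F164728) (tt N33305 F164724) (tt N91444 (iv3 F393143)) (tt N30145 F164725) (tt N57005 F364939) (tt N40674 F164726) (tt N30142 (iv7 D106880)))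
theorem Q56752 : ∀ i, i < 56752 → P i := stepQ 56751 Q56751 (allL N56751 (tt N70123 (iv1 F216748)) (tt N30148 (iv0 F164732)) (tt N33306 F164729) (tt N93276 D196294) (tt N30143 (iv4 D106881)) (tt N93277 D196295) (tt N39973 F164730) (tt N33309 F164731))
theorem Q56753 : ∀ i, i < 56753 → P i := stepQ 56752 Q56752 (allL N56752 (tt N38522 F164737) (tt N70168 (iv0 F216879)) (tt N33307 F164733) (tt N39609 F164734) (tt N93278 D196296) (tt N30143 (iv5 D106882)) (tt N40522 F164735) (tt N33310 F164736))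
theorem Q56754 : ∀ i, i < 56754 → P i := stepQ 56753 Q56753 (allL N56753 (tt N30148 F164741) (tt N70123 F216747) (tt N33309 F164739) (tt N93279 D196297) (tt N30144 (iv4 D106883)) (tt N93280 D196298) (tt N64612 (iv6 F344434)) (tt N33306 F164740))
theorem Q56755 : ∀ i, i < 56755 → P i := stepQ 56754 Q56754 (allL N56754 (tt N38775 F164746) (tt N33467 F164747) (tt N33311 F164742) (tt N30285 F164743) (tt N64612 F344440) (tt N38135 F164744) (tt N30144 (iv6 D106884)) (tt N39972 F164745))
theorem Q56756 : ∀ i, i < 56756 → P i := stepQ 56755 Q56755 (allL N56755 (tt N70126 (iv1 F216753)) (tt N30146 (iv0 D106885)) (tt N70125 F397105) (tt N93281 D196299) (tt N93282 D196300) (tt N93283 D196301) (tt N93284 D196302) (tt N70124 F397103))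
theorem Q56757 : ∀ i, i < 56757 → P i := stepQ 56756 Q56756 (allL N56756 (tt N30146 (iv1 D106886)) (tt N70126 F216755) (tt N70124 (iv2 F397102)) (tt N93285 D196303) (tt N92470 (iv4 F397100)) (tt N93286 D196304) (tt N57752 F397101) (tt N70125 (iv7 F397104)))
theorem Q56758 : ∀ i, i < 56758 → P i := stepQ 56757 Q56757 (allL N56757 (tt N70125 (iv1 F216754)) (tt N70124 F216749) (tt N30146 (iv2 D106887)) (tt N39706 F164748) (tt N92299 (iv4 F396625)) (tt N93287 D196305) (tt N93288 D196306) (tt N70126 (iv7 F216752)))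
theorem Q56759 : ∀ i, i < 56759 → P i := stepQ 56758 Q56758 (allL N56758 (tt N93289 D196307) (tt N93290 D196308) (tt N93287 (iv2 F400288)) (tt N30147 F164749) (tt N93291 D196309) (tt N30146 (iv5 D106888)) (tt N93292 D196310) (tt N70127 (iv7 F216757)))
theorem Q56760 : ∀ i, i < 56760 → P i := stepQ 56759 Q56759 (allL N56759 (tt N93293 D196311) (tt N93294 D196312) (tt N93288 (iv2 F400290)) (tt N30148 F164750) (tt N92301 (iv4 F396632)) (tt N93295 D196313) (tt N30146 (iv6 D106889)) (tt N93296 D196314))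
theorem Q56761 : ∀ i, i < 56761 → P i := stepQ 56760 Q56760 (allL N56760 (tt N93297 D196315) (tt N93298 D196316) (tt N70121 (iv2 F216742)) (tt N93292 (iv3 F400294)) (tt N30947 F164751) (tt N93299 D196317) (tt N30147 (iv6 D106890)) (tt N93300 D196318))
theorem Q56762 : ∀ i, i < 56762 → P i := stepQ 56761 Q56761 (allL N56761 (tt N69842 (iv1 F216244)) (tt N73067 (iv0 F223765)) (tt N70122 (iv2 F216744)) (tt N93295 (iv3 F400297)) (tt N93301 D196319) (tt N30148 (iv5 D106891)) (tt N93299 (iv6 F400306)) (tt N93302 D196320))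
theorem Q56763 : ∀ i, i < 56763 → P i := stepQ 56762 Q56762 (allL N56762 (tt N33309 (iv1 F164752)) (tt N33306 F164753) (tt N70123 (iv2 F216745)) (tt N93296 (iv3 F400298)) (tt N67123 (iv4 F206702)) (tt N93302 (iv5 F400313)) (tt N40717 (iv6 F166086)) (tt N30148 (iv7 D106892)))
theorem Q56764 : ∀ i, i < 56764 → P i := stepQ 56763 Q56763 (allL N56763 (tt N39706 (iv1 F164755)) (tt N30149 (iv0 D106893)) (tt N39710 F164763) (tt N33317 F164754) (tt N71834 (iv4 F220709)) (tt N93303 D196321) (tt N57755 (iv6 F351889)) (tt N39709 (iv7 F164756)))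
theorem Q56765 : ∀ i, i < 56765 → P i := stepQ 56764 Q56764 (allL N56764 (tt N30149 (iv1 D106894)) (tt N39706 F164760) (tt N39709 (iv2 F164761)) (tt N93304 D196322) (tt N70955 (iv4 F218893)) (tt N93305 D196323) (tt N90252 (iv6 F389119)) (tt N39710 (iv7 F164762)))
theorem Q56766 : ∀ i, i < 56766 → P i := stepQ 56765 Q56765 (allL N56765 (tt N73130 (iv1 F223867)) (tt N93306 D196324) (tt N91759 (iv2 F394324)) (tt N30150 F164765) (tt N59428 (iv4 F172883)) (tt N30149 (iv5 D106896)) (tt N93307 D196325) (tt N39711 F164766))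
theorem Q56767 : ∀ i, i < 56767 → P i := stepQ 56766 Q56766 (allL N56766 (tt N93308 D196326) (tt N93309 D196327) (tt N70129 (iv2 F216760)) (tt N93307 (iv3 F400338)) (tt N30923 F164769) (tt N93310 D196328) (tt N30150 (iv6 D106898)) (tt N93311 D196329))
theorem Q56768 : ∀ i, i < 56768 → P i := stepQ 56767 Q56767 (allL N56767 (tt N93312 D196330) (tt N93313 D196331) (tt N70130 (iv2 F216762)) (tt N51890 F365372) (tt N93314 D196332) (tt N30151 (iv5 D106901)) (tt N93310 (iv6 F400342)) (tt N51889 (iv7 F365370)))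
theorem Q56769 : ∀ i, i < 56769 → P i := stepQ 56768 Q56768 (allL N56768 (tt N30153 (iv1 F164774)) (tt N30152 (iv0 D106903)) (tt N30156 (iv2 F164770)) (tt N40295 F164771) (tt N30323 F164772) (tt N85208 (iv5 F371895)) (tt N93315 D196333) (tt N30154 F164773))
theorem Q56770 : ∀ i, i < 56770 → P i := stepQ 56769 Q56769 (allL N56769 (tt N30156 F181250) (tt N30154 F181251) (tt N30152 (iv2 D106904)) (tt N93316 D196334) (tt N31514 F181252) (tt N72932 F228366) (tt N93317 D196335) (tt N30153 (iv7 F164775)))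
theorem Q56771 : ∀ i, i < 56771 → P i := stepQ 56770 Q56770 (allL N56770 (tt N93304 F400327) (tt N40729 (iv0 F164777)) (tt N67137 (iv2 F206768)) (tt N30152 (iv3 D106905)) (tt N41080 F164776) (tt N78379 (iv5 F331517)) (tt N59141 F340042) (tt N67140 F206763))
theorem Q56772 : ∀ i, i < 56772 → P i := stepQ 56771 Q56771 (allL N56771 (tt N62447 F181498) (tt N73731 F225612) (tt N31514 F181253) (tt N93318 D196336) (tt N30152 (iv4 D106906)) (tt N93319 D196337) (tt N93320 D196338) (tt N73730 (iv7 F225601)))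
theorem Q56773 : ∀ i, i < 56773 → P i := stepQ 56772 Q56772 (allL N56772 (tt N72929 (iv1 F223623)) (tt N62172 F223624) (tt N72932 (iv2 F228367)) (tt N78379 (iv3 F363656)) (tt N93321 D196339) (tt N30152 (iv5 D106907)) (tt N93322 D196340) (tt N72931 F228370))
theorem Q56774 : ∀ i, i < 56774 → P i := stepQ 56773 Q56773 (allL N56773 (tt N93323 D196341) (tt N93279 (iv0 F400275)) (tt N93317 (iv2 F400369)) (tt N59141 (iv3 F340045)) (tt N93320 (iv4 F400388)) (tt N59140 F340046) (tt N30152 (iv6 D106908)) (tt N93324 D196342))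
theorem Q56775 : ∀ i, i < 56775 → P i := stepQ 56774 Q56774 (allL N56774 (tt N30154 F181254) (tt N30156 F181255) (tt N30153 F164778) (tt N67140 (iv3 F206761)) (tt N73730 F225602) (tt N72931 (iv5 F228371)) (tt N93325 D196343) (tt N30152 (iv7 D106909)))
theorem Q56776 : ∀ i, i < 56776 → P i := stepQ 56775 Q56775 (allL N56775 (tt N93326 D196344) (tt N93281 F400414) (tt N93327 D196345) (tt N30153 (iv3 D106910)) (tt N93328 D196346) (tt N93329 D196347) (tt N93330 D196348) (tt N93316 (iv7 F400365)))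
theorem Q56777 : ∀ i, i < 56777 → P i := stepQ 56776 Q56776 (allL N56776 (tt N73731 (iv1 F225611)) (tt N62447 (iv0 F181495)) (tt N73730 (iv2 F225604)) (tt N31518 F181247) (tt N30153 (iv4 D106911)) (tt N93331 D196349) (tt N93332 D196350) (tt N31514 F181248))
theorem Q56778 : ∀ i, i < 56778 → P i := stepQ 56777 Q56777 (allL N56777 (tt N62172 (iv1 F180534)) (tt N72929 F228372) (tt N72931 F228369) (tt N93329 (iv3 F400427)) (tt N85365 (iv4 F372357)) (tt N30153 (iv5 D106912)) (tt N85364 (iv6 F372352)) (tt N72932 (iv7 F228368)))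
theorem Q56779 : ∀ i, i < 56779 → P i := stepQ 56778 Q56778 (allL N56778 (tt N40718 F400434) (tt N93333 D196351) (tt N93325 (iv2 F400406)) (tt N93330 (iv3 F400430)) (tt N93332 (iv4 F400443)) (tt N93334 D196352) (tt N30153 (iv6 D106913)) (tt N93335 D196353))
theorem Q56780 : ∀ i, i < 56780 → P i := stepQ 56779 Q56779 (allL N56779 (tt N85208 (iv1 F371897)) (tt N30155 (iv0 D106917)) (tt N85206 F371884) (tt N66785 (iv3 F363663)) (tt N93336 D196354) (tt N40343 F225650) (tt N93337 D196355) (tt N85207 (iv7 F371888)))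
theorem Q56781 : ∀ i, i < 56781 → P i := stepQ 56780 Q56780 (allL N56780 (tt N30155 (iv1 D106918)) (tt N85208 F371896) (tt N85207 F371890) (tt N89835 (iv3 F387686)) (tt N68319 (iv4 F336038)) (tt N40344 F223615) (tt N93338 D196356) (tt N85206 F371885))
theorem Q56782 : ∀ i, i < 56782 → P i := stepQ 56781 Q56781 (allL N56781 (tt N85207 (iv1 F371887)) (tt N85206 F371886) (tt N85208 (iv2 F371892)) (tt N30161 F164785) (tt N84822 (iv4 F370740)) (tt N30156 F164786) (tt N85227 (iv6 F371960)) (tt N30155 (iv7 D106921)))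
theorem Q56783 : ∀ i, i < 56783 → P i := stepQ 56782 Q56782 (allL N56782 (tt N93339 D196357) (tt N93340 D196358) (tt N93315 (iv2 F400361)) (tt N30162 F164787) (tt N30339 F164788) (tt N93341 D196359) (tt N30156 (iv6 D106922)) (tt N57772 (iv7 F167717)))
theorem Q56784 : ∀ i, i < 56784 → P i := stepQ 56783 Q56783 (allL N56783 (tt N93283 F400285) (tt N93286 (iv0 F405339)) (tt N93342 D196361) (tt N30157 (iv3 D106923)) (tt N93343 D196362) (tt N30826 F164789) (tt N93344 D196363) (tt N70143 (iv7 F216779)))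
theorem Q56785 : ∀ i, i < 56785 → P i := stepQ 56784 Q56784 (allL N56784 (tt N93345 D196364) (tt N70203 (iv0 F361296)) (tt N70142 (iv2 F216776)) (tt N93344 (iv3 F400476)) (tt N30895 F164790) (tt N93346 D196365) (tt N30157 (iv6 D106924)) (tt N93347 D196366))
theorem Q56786 : ∀ i, i < 56786 → P i := stepQ 56785 Q56785 (allL N56785 (tt N93303 F400319) (tt N93305 (iv0 F400333)) (tt N93348 D196367) (tt N30158 (iv3 D106925)) (tt N59436 (iv4 F354461)) (tt N30883 F164791) (tt N93349 D196368) (tt N70141 (iv7 F216775)))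
theorem Q56787 : ∀ i, i < 56787 → P i := stepQ 56786 Q56786 (allL N56786 (tt N93350 D196369) (tt N78441 (iv0 F363357)) (tt N70144 (iv2 F216780)) (tt N93349 (iv3 F400491)) (tt N30853 F164792) (tt N93351 D196370) (tt N30158 (iv6 D106926)) (tt N93352 D196371))
theorem Q56788 : ∀ i, i < 56788 → P i := stepQ 56787 Q56787 (allL N56787 (tt N93353 D196372) (tt N93354 D196373) (tt N93355 D196374) (tt N30159 (iv3 D106927)) (tt N84819 (iv4 F370731)) (tt N30810 F164793) (tt N65476 (iv6 F356665)) (tt N30809 F164794))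
theorem Q56789 : ∀ i, i < 56789 → P i := stepQ 56788 Q56788 (allL N56788 (tt N55317 F345201) (tt N82516 F345205) (tt N31001 F164795) (tt N65476 (iv3 F345194)) (tt N30160 F164796) (tt N65475 F362343) (tt N30159 (iv6 D106928)) (tt N82515 (iv7 F345418)))
theorem Q56790 : ∀ i, i < 56790 → P i := stepQ 56789 Q56789 (allL N56789 (tt N70147 (iv1 F216789)) (tt N30160 (iv0 D106929)) (tt N70145 (iv2 F351286)) (tt N54066 F360791) (tt N80569 F343156) (tt N58708 F343157) (tt N58709 (iv6 F343109)) (tt N70146 (iv7 F351289)))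
theorem Q56791 : ∀ i, i < 56791 → P i := stepQ 56790 Q56790 (allL N56790 (tt N30160 (iv1 D106930)) (tt N70147 F216788) (tt N70146 F351290) (tt N93356 D196375) (tt N93357 D196376) (tt N93358 D196377) (tt N93357 (iv6 F402315)) (tt N70145 F351288))
theorem Q56792 : ∀ i, i < 56792 → P i := stepQ 56791 Q56791 (allL N56791 (tt N30895 F364229) (tt N93359 D196379) (tt N30997 F164797) (tt N85227 (iv3 F371958)) (tt N30813 F164798) (tt N93360 D196380) (tt N30161 (iv6 D106932)) (tt N85222 (iv7 F371953)))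
theorem Q56793 : ∀ i, i < 56793 → P i := stepQ 56792 Q56792 (allL N56792 (tt N30773 (iv1 F164799)) (tt N30162 (iv0 D106933)) (tt N40297 (iv2 F202584)) (tt N74726 (iv3 F351854)) (tt N41075 (iv4 F168111)) (tt N93361 D196381) (tt N82011 (iv6 F344447)) (tt N40298 F202583))
theorem Q56794 : ∀ i, i < 56794 → P i := stepQ 56793 Q56793 (allL N56793 (tt N30162 (iv1 D106934)) (tt N30773 F164800) (tt N40298 (iv2 F202581)) (tt N93362 D196382) (tt N41076 (iv4 F168142)) (tt N93363 D196383) (tt N93364 D196384) (tt N40297 (iv7 F202579)))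
theorem Q56795 : ∀ i, i < 56795 → P i := stepQ 56794 Q56794 (allL N56794 (tt N93365 D196385) (tt N93366 D196386) (tt N40299 F164801) (tt N93341 (iv3 F400467)) (tt N93367 D196387) (tt N30162 (iv5 D106935)) (tt N93360 (iv6 F400521)) (tt N57783 (iv7 F167724)))
theorem Q56796 : ∀ i, i < 56796 → P i := stepQ 56795 Q56795 (allL N56795 (tt N38716 (iv1 F168121)) (tt N33294 (iv0 F168122)) (tt N33465 F164802) (tt N93368 D196388) (tt N30163 (iv4 D106936)) (tt N93369 D196389) (tt N48265 F362633) (tt N40300 F164803))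
theorem Q56797 : ∀ i, i < 56797 → P i := stepQ 56796 Q56796 (allL N56796 (tt N41070 F164809) (tt N40143 (iv0 F164811)) (tt N33466 F164806) (tt N40055 (iv3 F168215)) (tt N93370 D196390) (tt N30163 (iv5 D106937)) (tt N40153 F164810) (tt N40301 F164808))
theorem Q56798 : ∀ i, i < 56798 → P i := stepQ 56797 Q56797 (allL N56797 (tt N33311 (iv1 F164817)) (tt N39972 (iv0 F164816)) (tt N33467 F164812) (tt N40056 (iv3 F168216)) (tt N48265 F344460) (tt N38673 F164815) (tt N30163 (iv6 D106938)) (tt N38775 F164814))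
theorem Q56799 : ∀ i, i < 56799 → P i := stepQ 56798 Q56798 (allL N56798 (tt N30258 (iv1 F164821)) (tt N30164 (iv0 D106939)) (tt N57166 (iv2 F165681)) (tt N70294 (iv3 F217140)) (tt N67309 (iv4 F207056)) (tt N56710 F164818) (tt N56395 F164819) (tt N60025 (iv7 F175336)))
theorem Q56800 : ∀ i, i < 56800 → P i := stepQ 56799 Q56799 (allL N56799 (tt N30164 (iv1 D106940)) (tt N30258 F164823) (tt N60025 (iv2 F175334)) (tt N37416 F165687) (tt N67310 (iv4 F207058)) (tt N60938 (iv5 F342861)) (tt N30218 F165688) (tt N57166 F165689))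
theorem Q56801 : ∀ i, i < 56801 → P i := stepQ 56800 Q56800 (allL N56800 (tt N93371 D196391) (tt N93372 D196392) (tt N93373 D196393) (tt N30165 (iv3 D106941)) (tt N39865 F164824) (tt N93374 D196394) (tt N57242 (iv6 F165882)) (tt N41199 F164825))
theorem Q56802 : ∀ i, i < 56802 → P i := stepQ 56801 Q56801 (allL N56801 (tt N35558 F164828) (tt N35555 F164829) (tt N41204 F164826) (tt N93374 (iv3 F400569)) (tt N56853 (iv4 F164944)) (tt N30165 (iv5 D106942)) (tt N93375 D196395) (tt N41200 F164827))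
theorem Q56803 : ∀ i, i < 56803 → P i := stepQ 56802 Q56802 (allL N56802 (tt N77887 (iv1 F245241)) (tt N30166 (iv0 D106943)) (tt N58351 F332221) (tt N93376 D196396) (tt N93377 D196397) (tt N31775 F332222) (tt N93378 D196398) (tt N58354 F332223))
theorem Q56804 : ∀ i, i < 56804 → P i := stepQ 56803 Q56803 (allL N56803 (tt N30166 (iv1 D106944)) (tt N77887 F245243) (tt N58354 F332217) (tt N93379 D196399) (tt N93380 D196400) (tt N31774 F332218) (tt N60034 F363570) (tt N58351 F332219))
theorem Q56805 : ∀ i, i < 56805 → P i := stepQ 56804 Q56804 (allL N56804 (tt N58351 (iv1 F337404)) (tt N58354 (iv0 F337407)) (tt N30166 (iv2 D106945)) (tt N82413 (iv3 F337406)) (tt N77811 (iv4 F245034)) (tt N59454 F337405) (tt N93381 D196401) (tt N77887 (iv7 F245240)))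
theorem Q56806 : ∀ i, i < 56806 → P i := stepQ 56805 Q56805 (allL N56805 (tt N93382 D196402) (tt N73080 F364140) (tt N59454 (iv2 F337402)) (tt N30167 F164830) (tt N58359 F337399) (tt N30166 (iv5 D106946)) (tt N59329 (iv6 F363738)) (tt N65494 (iv7 F201868)))
theorem Q56807 : ∀ i, i < 56807 → P i := stepQ 56806 Q56806 (allL N56806 (tt N91478 F393301) (tt N93383 D196403) (tt N93381 (iv2 F400591)) (tt N30168 F164831) (tt N39696 F164832) (tt N93384 D196404) (tt N30166 (iv6 D106947)) (tt N93385 D196405))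
theorem Q56808 : ∀ i, i < 56808 → P i := stepQ 56807 Q56807 (allL N56807 (tt N82410 F337385) (tt N82409 F337386) (tt N44660 F337387) (tt N59329 F337388) (tt N65495 (iv4 F201870)) (tt N93386 D196406) (tt N30167 (iv6 D106948)) (tt N59453 F337389))
theorem Q56809 : ∀ i, i < 56809 → P i := stepQ 56808 Q56808 (allL N56808 (tt N74547 (iv1 F228341)) (tt N30168 (iv0 D106949)) (tt N44454 (iv2 F164836)) (tt N90285 (iv3 F389232)) (tt N31454 F164837) (tt N57059 (iv5 F165311)) (tt N30226 F164838) (tt N44456 F164839))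
theorem Q56810 : ∀ i, i < 56810 → P i := stepQ 56809 Q56809 (allL N56809 (tt N30168 (iv1 D106950)) (tt N74547 F228340) (tt N44456 (iv2 F164834)) (tt N93387 D196407) (tt N31455 F164833) (tt N57058 (iv5 F165310)) (tt N93388 D196408) (tt N44454 (iv7 F164835)))
theorem Q56811 : ∀ i, i < 56811 → P i := stepQ 56810 Q56810 (allL N56810 (tt N92903 (iv1 F398716)) (tt N92905 (iv0 F398721)) (tt N73032 (iv2 F360113)) (tt N93384 (iv3 F400599)) (tt N93389 D196409) (tt N30168 (iv5 D106951)) (tt N93386 (iv6 F400606)) (tt N93390 D196410))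
theorem Q56812 : ∀ i, i < 56812 → P i := stepQ 56811 Q56811 (allL N56811 (tt N44456 (iv1 F164842)) (tt N44454 F164843) (tt N74547 (iv2 F228337)) (tt N93385 (iv3 F400602)) (tt N30171 F164841) (tt N93390 (iv5 F400622)) (tt N57189 F165757) (tt N30168 (iv7 D106952)))
theorem Q56813 : ∀ i, i < 56813 → P i := stepQ 56812 Q56812 (allL N56812 (tt N56397 F164847) (tt N56395 (iv0 F164849)) (tt N57164 F165676) (tt N57740 (iv3 F167670)) (tt N78241 (iv4 F247340)) (tt N30233 F164845) (tt N30170 (iv6 D106954)) (tt N30233 F164846))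
theorem Q56814 : ∀ i, i < 56814 → P i := stepQ 56813 Q56813 (allL N56813 (tt N93391 D196411) (tt N92464 (iv0 F397093)) (tt N57620 (iv2 F167233)) (tt N30172 (iv3 D106955)) (tt N30174 F164852) (tt N77863 (iv5 F245164)) (tt N74289 (iv6 F227237)) (tt N44188 F164853))
theorem Q56815 : ∀ i, i < 56815 → P i := stepQ 56814 Q56814 (allL N56814 (tt N30573 F164857) (tt N30630 F164858) (tt N30627 F164854) (tt N77863 (iv3 F245163)) (tt N44159 F164855) (tt N30172 (iv5 D106956)) (tt N93392 D196412) (tt N30626 F164856))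
theorem Q56816 : ∀ i, i < 56816 → P i := stepQ 56815 Q56815 (allL N56815 (tt N40086 (iv1 F164864)) (tt N30173 (iv0 D106957)) (tt N40087 (iv2 F164860)) (tt N32166 F164859) (tt N57559 (iv4 F167110)) (tt N39248 (iv5 F164863)) (tt N58394 (iv6 F169273)) (tt N30241 F164861))
theorem Q56817 : ∀ i, i < 56817 → P i := stepQ 56816 Q56816 (allL N56816 (tt N30241 (iv1 F164868)) (tt N40087 F164869) (tt N40086 F164865) (tt N30179 F164866) (tt N74266 (iv4 F227199)) (tt N69811 (iv5 F216195)) (tt N44191 F164867) (tt N30173 (iv7 D106958)))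
theorem Q56818 : ∀ i, i < 56818 → P i := stepQ 56817 Q56817 (allL N56817 (tt N82413 F345392) (tt N30174 (iv0 D106959)) (tt N92868 (iv2 F398586)) (tt N44461 F164870) (tt N93393 D196413) (tt N58322 (iv5 F345393)) (tt N73041 F345395) (tt N92867 F398580))
theorem Q56819 : ∀ i, i < 56819 → P i := stepQ 56818 Q56818 (allL N56818 (tt N30174 (iv1 D106960)) (tt N82413 (iv0 F358804)) (tt N92867 (iv2 F398581)) (tt N93394 D196414) (tt N93395 D196415) (tt N58321 (iv5 F358803)) (tt N93396 D196416) (tt N92868 (iv7 F398583)))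
theorem Q56820 : ∀ i, i < 56820 → P i := stepQ 56819 Q56819 (allL N56819 (tt N92868 (iv1 F398582)) (tt N92867 F398579) (tt N30174 (iv2 D106961)) (tt N77887 (iv3 F245238)) (tt N57620 F167235) (tt N45629 F358806) (tt N93397 D196417) (tt N82413 (iv7 F358805)))
theorem Q56821 : ∀ i, i < 56821 → P i := stepQ 56820 Q56820 (allL N56820 (tt N64160 F337375) (tt N64162 F337376) (tt N45629 F337377) (tt N30175 F164871) (tt N45627 F337378) (tt N30174 (iv5 D106962)) (tt N34465 F337379) (tt N44662 (iv7 F337380)))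
theorem Q56822 : ∀ i, i < 56822 → P i := stepQ 56821 Q56821 (allL N56821 (tt N93398 D196418) (tt N65916 (iv0 F364147)) (tt N93397 (iv2 F400634)) (tt N30176 F164872) (tt N74289 (iv4 F227236)) (tt N93399 D196419) (tt N30174 (iv6 D106963)) (tt N74545 (iv7 F228335)))
theorem Q56823 : ∀ i, i < 56823 → P i := stepQ 56822 Q56822 (allL N56822 (tt N79825 F337390) (tt N93400 D196420) (tt N65495 (iv2 F201869)) (tt N34465 F337391) (tt N44660 F337392) (tt N93401 D196421) (tt N30175 (iv6 D106964)) (tt N64954 F337393))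
theorem Q56824 : ∀ i, i < 56824 → P i := stepQ 56823 Q56823 (allL N56823 (tt N93402 D196422) (tt N93403 D196423) (tt N74544 (iv2 F228334)) (tt N93399 (iv3 F400638)) (tt N93404 D196424) (tt N30176 (iv5 D106966)) (tt N93401 (iv6 F400644)) (tt N74546 (iv7 F228336)))
theorem Q56825 : ∀ i, i < 56825 → P i := stepQ 56824 Q56824 (allL N56824 (tt N41264 F164877) (tt N35550 F164876) (tt N41479 F164873) (tt N93405 D196425) (tt N30177 (iv4 D106967)) (tt N93406 D196426) (tt N41485 F164874) (tt N30221 F164875))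
theorem Q56826 : ∀ i, i < 56826 → P i := stepQ 56825 Q56825 (allL N56825 (tt N56421 (iv1 F164881)) (tt N30178 (iv0 D106968)) (tt N68299 F209496) (tt N38135 (iv3 F164882)) (tt N67245 (iv4 F211348)) (tt N30285 F164878) (tt N56728 F164879) (tt N68300 (iv7 F209499)))
theorem Q56827 : ∀ i, i < 56827 → P i := stepQ 56826 Q56826 (allL N56826 (tt N30178 (iv1 D106969)) (tt N56421 F164883) (tt N68300 F209503) (tt N68166 F211346) (tt N67246 (iv4 F206975)) (tt N77936 (iv5 F245357)) (tt N38193 (iv6 F176559)) (tt N68299 F209497))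
theorem Q56828 : ∀ i, i < 56828 → P i := stepQ 56827 Q56827 (allL N56827 (tt N68940 (iv1 F211971)) (tt N68942 (iv0 F211981)) (tt N36745 F164884) (tt N56167 (iv3 F362921)) (tt N30178 (iv4 D106970)) (tt N56166 F362918) (tt N30180 F164885) (tt N68669 (iv7 F211330)))
theorem Q56829 : ∀ i, i < 56829 → P i := stepQ 56828 Q56828 (allL N56828 (tt N31004 F330474) (tt N30181 (iv0 D106972)) (tt N59667 F363571) (tt N93407 D196427) (tt N93408 D196428) (tt N93382 (iv5 F400593)) (tt N79170 (iv6 F345413)) (tt N59668 (iv7 F363568)))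
theorem Q56830 : ∀ i, i < 56830 → P i := stepQ 56829 Q56829 (allL N56829 (tt N30181 (iv1 D106973)) (tt N31004 F330472) (tt N59668 (iv2 F363567)) (tt N82201 (iv3 F360001)) (tt N77974 (iv4 F245449)) (tt N73080 F330473) (tt N30273 F351319) (tt N59667 F363572))
theorem Q56831 : ∀ i, i < 56831 → P i := stepQ 56830 Q56830 (allL N56830 (tt N64806 F365204) (tt N93409 D196429) (tt N59662 (iv2 F365203)) (tt N30183 F164890) (tt N77818 (iv4 F245057)) (tt N59046 F365202) (tt N30181 (iv6 D106976)) (tt N93410 D196430))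
theorem Q56832 : ∀ i, i < 56832 → P i := stepQ 56831 Q56831 (allL N56831 (tt N60513 (iv1 F176532)) (tt N30183 (iv0 D106978)) (tt N57413 F166501) (tt N93411 D196431) (tt N31460 F166502) (tt N93412 D196432) (tt N30301 F166503) (tt N57416 (iv7 F166508)))
theorem Q56833 : ∀ i, i < 56833 → P i := stepQ 56832 Q56832 (allL N56832 (tt N30183 (iv1 D106979)) (tt N60513 (iv0 F176533)) (tt N57416 (iv2 F166507)) (tt N93413 D196433) (tt N31461 F164891) (tt N93414 D196434) (tt N74646 (iv6 F228461)) (tt N57413 (iv7 F166495)))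
theorem Q56834 : ∀ i, i < 56834 → P i := stepQ 56833 Q56833 (allL N56833 (tt N41470 F164892) (tt N93415 D196435) (tt N65474 (iv2 F201826)) (tt N59046 (iv3 F365201)) (tt N93416 D196436) (tt N30183 (iv5 D106980)) (tt N59045 F365200) (tt N93417 D196437))
theorem Q56835 : ∀ i, i < 56835 → P i := stepQ 56834 Q56834 (allL N56834 (tt N57416 (iv1 F166510)) (tt N57413 (iv0 F166496)) (tt N60513 (iv2 F176529)) (tt N93410 (iv3 F400661)) (tt N30186 F164893) (tt N93417 (iv5 F400671)) (tt N65477 (iv6 F201846)) (tt N30183 (iv7 D106981)))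
theorem Q56836 : ∀ i, i < 56836 → P i := stepQ 56835 Q56835 (allL N56835 (tt N39290 (iv1 F165264)) (tt N30732 (iv0 F165261)) (tt N39288 F164894) (tt N30184 (iv3 D106982)) (tt N75403 F344155) (tt N79774 F363265) (tt N30307 F164895) (tt N39289 (iv7 F164896)))
theorem Q56837 : ∀ i, i < 56837 → P i := stepQ 56836 Q56836 (allL N56836 (tt N59075 (iv1 F171991)) (tt N30194 F171954) (tt N59072 F171977) (tt N93418 D196438) (tt N30184 (iv4 D106983)) (tt N93419 D196439) (tt N30308 F164899) (tt N59073 (iv7 F171982)))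
theorem Q56838 : ∀ i, i < 56838 → P i := stepQ 56837 Q56837 (allL N56837 (tt N32344 (iv1 F164901)) (tt N59875 (iv0 F174361)) (tt N78145 (iv2 F246272)) (tt N79774 (iv3 F363266)) (tt N93420 D196440) (tt N30184 (iv5 D106984)) (tt N60292 (iv6 F176147)) (tt N32396 F164900))
theorem Q56839 : ∀ i, i < 56839 → P i := stepQ 56838 Q56838 (allL N56838 (tt N30194 F164902) (tt N59075 F171990) (tt N59073 F171984) (tt N86105 (iv3 F375141)) (tt N30185 (iv4 D106985)) (tt N86102 F375140) (tt N89986 (iv6 F388201)) (tt N59072 F171979))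
theorem Q56840 : ∀ i, i < 56840 → P i := stepQ 56839 Q56839 (allL N56839 (tt N58141 F168932) (tt N30352 (iv0 F164906)) (tt N60042 (iv2 F175364)) (tt N40415 F164903) (tt N89986 (iv4 F388203)) (tt N30260 F164904) (tt N30185 (iv6 D106986)) (tt N30306 F164905))
theorem Q56841 : ∀ i, i < 56841 → P i := stepQ 56840 Q56840 (allL N56840 (tt N58729 (iv1 F330468)) (tt N30187 (iv0 D106987)) (tt N65472 F214173) (tt N44403 F164907) (tt N93421 D196441) (tt N64160 F337373) (tt N30296 F323815) (tt N65471 F214171))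
theorem Q56842 : ∀ i, i < 56842 → P i := stepQ 56841 Q56841 (allL N56841 (tt N30187 (iv1 D106988)) (tt N58729 (iv0 F330467)) (tt N65471 (iv2 F214172)) (tt N93422 D196442) (tt N93423 D196443) (tt N64162 (iv5 F344466)) (tt N93424 D196444) (tt N65472 (iv7 F214174)))
theorem Q56843 : ∀ i, i < 56843 → P i := stepQ 56842 Q56842 (allL N56842 (tt N65472 (iv1 F201818)) (tt N65471 F201813) (tt N30187 (iv2 D106989)) (tt N31004 (iv3 F330466)) (tt N71379 (iv4 F220001)) (tt N30991 F330465) (tt N93425 D196445) (tt N58729 (iv7 F330471)))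
theorem Q56844 : ∀ i, i < 56844 → P i := stepQ 56843 Q56843 (allL N56843 (tt N58728 F330459) (tt N58727 F330460) (tt N30991 F330461) (tt N30188 F164908) (tt N31192 F330462) (tt N30187 (iv5 D106990)) (tt N30978 F330463) (tt N58714 F330464))
theorem Q56845 : ∀ i, i < 56845 → P i := stepQ 56844 Q56844 (allL N56844 (tt N67081 F366454) (tt N93426 D196446) (tt N93425 (iv2 F400696)) (tt N30189 F164909) (tt N71373 (iv4 F219988)) (tt N93427 D196447) (tt N30187 (iv6 D106991)) (tt N93428 D196448))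
theorem Q56846 : ∀ i, i < 56846 → P i := stepQ 56845 Q56845 (allL N56845 (tt N30807 F330487) (tt N30806 F330488) (tt N30810 F330489) (tt N30978 F330490) (tt N58712 (iv4 F330492)) (tt N93355 (iv5 F400504)) (tt N30188 (iv6 D106992)) (tt N30808 F330491))
theorem Q56847 : ∀ i, i < 56847 → P i := stepQ 56846 Q56846 (allL N56846 (tt N56925 (iv1 F165069)) (tt N56923 (iv0 F165067)) (tt N65476 (iv2 F201841)) (tt N93427 (iv3 F400702)) (tt N74522 (iv4 F335541)) (tt N30189 (iv5 D106994)) (tt N93355 (iv6 F400505)) (tt N85215 (iv7 F371917)))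
theorem Q56848 : ∀ i, i < 56848 → P i := stepQ 56847 Q56847 (allL N56847 (tt N65470 (iv1 F201810)) (tt N65468 (iv0 F201800)) (tt N65477 (iv2 F201844)) (tt N93428 (iv3 F400709)) (tt N30192 F164910) (tt N85215 (iv5 F371918)) (tt N60513 (iv6 F176530)) (tt N30189 (iv7 D106995)))
theorem Q56849 : ∀ i, i < 56849 → P i := stepQ 56848 Q56848 (allL N56848 (tt N41197 F164912) (tt N30197 F164935) (tt N41194 F164913) (tt N93429 D196449) (tt N30190 (iv4 D106996)) (tt N59107 (iv5 F172035)) (tt N93430 D196450) (tt N41195 F164911))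
theorem Q56850 : ∀ i, i < 56850 → P i := stepQ 56849 Q56849 (allL N56849 (tt N30348 F164917) (tt N56677 (iv0 F165328)) (tt N77936 (iv2 F245354)) (tt N39972 F164915) (tt N93430 (iv4 F400720)) (tt N68300 F209500) (tt N30190 (iv6 D106997)) (tt N30285 F164916))
theorem Q56851 : ∀ i, i < 56851 → P i := stepQ 56850 Q56850 (allL N56850 (tt N30733 F164924) (tt N58403 F169303) (tt N39610 F164918) (tt N30191 (iv3 D106998)) (tt N67109 F346505) (tt N39384 (iv5 F164920)) (tt N30280 F164919) (tt N58402 (iv7 F169297)))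
theorem Q56852 : ∀ i, i < 56852 → P i := stepQ 56851 Q56851 (allL N56851 (tt N30197 F164933) (tt N41197 F164934) (tt N41195 F164930) (tt N67110 (iv3 F346504)) (tt N30191 (iv4 D106999)) (tt N59108 (iv5 F172041)) (tt N30281 F164931) (tt N41194 F164932))
theorem Q56853 : ∀ i, i < 56853 → P i := stepQ 56852 Q56852 (allL N56852 (tt N30196 F164938) (tt N30193 (iv0 D107000)) (tt N41206 (iv2 F164939)) (tt N93431 D196451) (tt N36783 F164937) (tt N30639 F164936) (tt N93432 D196452) (tt N41205 (iv7 F164940)))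
theorem Q56854 : ∀ i, i < 56854 → P i := stepQ 56853 Q56853 (allL N56853 (tt N30193 (iv1 D107001)) (tt N30196 F164941) (tt N41205 (iv2 F164945)) (tt N93433 D196453) (tt N56801 F164944) (tt N30640 F164943) (tt N93434 D196454) (tt N41206 F164942))
theorem Q56855 : ∀ i, i < 56855 → P i := stepQ 56854 Q56854 (allL N56854 (tt N93435 D196455) (tt N93436 D196456) (tt N59071 (iv2 F171974)) (tt N59353 (iv3 F348767)) (tt N56860 (iv4 F164952)) (tt N93437 D196457) (tt N30193 (iv6 D107002)) (tt N59501 (iv7 F348798)))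
theorem Q56856 : ∀ i, i < 56856 → P i := stepQ 56855 Q56855 (allL N56855 (tt N56903 (iv1 F165035)) (tt N74591 F228402) (tt N59074 (iv2 F171985)) (tt N78187 (iv3 F246745)) (tt N93438 D196458) (tt N30194 (iv5 D107004)) (tt N93437 (iv6 F400743)) (tt N74589 F228400))
theorem Q56857 : ∀ i, i < 56857 → P i := stepQ 56856 Q56856 (allL N56856 (tt N59073 (iv1 F171981)) (tt N59072 F171980) (tt N59075 (iv2 F171987)) (tt N63199 (iv3 F317569)) (tt N30497 F164946) (tt N74589 (iv5 F228399)) (tt N41197 F164947) (tt N30194 (iv7 D107005)))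
theorem Q56858 : ∀ i, i < 56858 → P i := stepQ 56857 Q56857 (allL N56857 (tt N59068 (iv1 F171968)) (tt N30195 (iv0 D107006)) (tt N59067 (iv2 F366906)) (tt N93439 D196459) (tt N55285 (iv4 F357666)) (tt N93440 D196460) (tt N30316 F366087) (tt N59066 F366910))
theorem Q56859 : ∀ i, i < 56859 → P i := stepQ 56858 Q56858 (allL N56858 (tt N30195 (iv1 D107007)) (tt N59068 F171970) (tt N59066 F366909) (tt N93441 D196461) (tt N55286 F393363) (tt N93442 D196462) (tt N93443 D196463) (tt N59067 (iv7 F366908)))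
theorem Q56860 : ∀ i, i < 56860 → P i := stepQ 56859 Q56859 (allL N56859 (tt N93444 D196464) (tt N93445 D196465) (tt N91588 (iv2 F393708)) (tt N30196 F164949) (tt N60582 F343553) (tt N30195 (iv5 D107009)) (tt N60580 (iv6 F361216)) (tt N59069 (iv7 F171972)))
theorem Q56861 : ∀ i, i < 56861 → P i := stepQ 56860 Q56860 (allL N56860 (tt N59383 (iv1 F361214)) (tt N59378 F361197) (tt N41207 F164951) (tt N60580 F361198) (tt N56854 F164952) (tt N93446 D196466) (tt N30196 (iv6 D107011)) (tt N93447 D196467))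
theorem Q56862 : ∀ i, i < 56862 → P i := stepQ 56861 Q56861 (allL N56861 (tt N56934 (iv1 F165077)) (tt N56931 (iv0 F165072)) (tt N41196 F164953) (tt N49006 F345168) (tt N66808 F339946) (tt N30197 (iv5 D107012)) (tt N93446 (iv6 F400763)) (tt N49005 F345169))
theorem Q56863 : ∀ i, i < 56863 → P i := stepQ 56862 Q56862 (allL N56862 (tt N30199 (iv1 F164960)) (tt N30198 (iv0 D107014)) (tt N30202 (iv2 F164958)) (tt N92869 (iv3 F398588)) (tt N57762 (iv4 F167703)) (tt N80775 F337620) (tt N93448 D196468) (tt N30200 F164959))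
theorem Q56864 : ∀ i, i < 56864 → P i := stepQ 56863 Q56863 (allL N56863 (tt N30202 F358681) (tt N30200 F358682) (tt N30198 (iv2 D107015)) (tt N59495 (iv3 F358695)) (tt N81984 F358683) (tt N59494 F358684) (tt N81983 F358685) (tt N30199 (iv7 F164961)))
theorem Q56865 : ∀ i, i < 56865 → P i := stepQ 56864 Q56864 (allL N56864 (tt N93441 F400752) (tt N93449 D196469) (tt N93450 D196470) (tt N30198 (iv3 D107016)) (tt N71160 F219571) (tt N93451 D196471) (tt N93452 D196472) (tt N93453 D196473))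
theorem Q56866 : ∀ i, i < 56866 → P i := stepQ 56865 Q56865 (allL N56865 (tt N89771 (iv1 F387505)) (tt N65262 (iv0 F316129)) (tt N81984 F358689) (tt N93454 D196474) (tt N30198 (iv4 D107017)) (tt N89105 (iv5 F385173)) (tt N81980 (iv6 F358688)) (tt N89769 (iv7 F387492)))
theorem Q56867 : ∀ i, i < 56867 → P i := stepQ 56866 Q56866 (allL N56866 (tt N93455 D196475) (tt N93433 (iv0 F400731)) (tt N59494 (iv2 F358705)) (tt N93451 (iv3 F400774)) (tt N79395 F337617) (tt N30198 (iv5 D107018)) (tt N59493 F358707) (tt N81217 F358708))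
theorem Q56868 : ∀ i, i < 56868 → P i := stepQ 56867 Q56867 (allL N56867 (tt N93456 D196476) (tt N86105 (iv0 F400785)) (tt N81983 (iv2 F358686)) (tt N93452 (iv3 F400775)) (tt N81980 F358687) (tt N93457 D196477) (tt N30198 (iv6 D107019)) (tt N93458 D196478))
theorem Q56869 : ∀ i, i < 56869 → P i := stepQ 56868 Q56868 (allL N56868 (tt N30200 F358709) (tt N30202 F358710) (tt N30199 F164962) (tt N93453 (iv3 F400776)) (tt N89769 F387495) (tt N81217 F358711) (tt N85105 F371644) (tt N30198 (iv7 D107020)))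
theorem Q56870 : ∀ i, i < 56870 → P i := stepQ 56869 Q56869 (allL N56869 (tt N77937 (iv1 F358704)) (tt N77938 F358691) (tt N72891 F358692) (tt N30199 (iv3 D107021)) (tt N93459 D196479) (tt N30914 F358693) (tt N93460 D196480) (tt N59495 F358694))
theorem Q56871 : ∀ i, i < 56871 → P i := stepQ 56870 Q56870 (allL N56870 (tt N65262 (iv1 F358690)) (tt N89771 F387504) (tt N89769 F387494) (tt N78133 (iv3 F246209)) (tt N30199 (iv4 D107022)) (tt N89108 (iv5 F385186)) (tt N77486 (iv6 F361662)) (tt N81984 (iv7 F349768)))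
theorem Q56872 : ∀ i, i < 56872 → P i := stepQ 56871 Q56871 (allL N56871 (tt N93433 F400732) (tt N93455 F400787) (tt N81217 F358676) (tt N30914 F358677) (tt N58850 F358678) (tt N30199 (iv5 D107023)) (tt N30913 F358679) (tt N59494 F358680))
theorem Q56873 : ∀ i, i < 56873 → P i := stepQ 56872 Q56872 (allL N56872 (tt N93429 F400718) (tt N93461 D196481) (tt N85105 (iv2 F371642)) (tt N93460 (iv3 F400791)) (tt N77486 F361660) (tt N32766 F361661) (tt N30199 (iv6 D107024)) (tt N85111 (iv7 F371669)))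
theorem Q56874 : ∀ i, i < 56874 → P i := stepQ 56873 Q56873 (allL N56873 (tt N78470 (iv1 F337622)) (tt N80972 (iv0 F358706)) (tt N30201 F164965) (tt N92880 (iv3 F398620)) (tt N80277 F333006) (tt N30200 (iv5 D107027)) (tt N93462 D196482) (tt N80775 (iv7 F337619)))
theorem Q56875 : ∀ i, i < 56875 → P i := stepQ 56874 Q56874 (allL N56874 (tt N80775 (iv1 F358666)) (tt N30201 (iv0 D107028)) (tt N78470 F342029) (tt N93463 D196483) (tt N48323 F342030) (tt N78227 F358644) (tt N48322 F342031) (tt N80972 F358675))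
theorem Q56876 : ∀ i, i < 56876 → P i := stepQ 56875 Q56875 (allL N56875 (tt N30201 (iv1 D107029)) (tt N80775 F337618) (tt N80972 (iv2 F342038)) (tt N93464 D196484) (tt N78471 (iv4 F337614)) (tt N78228 F342035) (tt N93465 D196485) (tt N78470 F337616))
theorem Q56877 : ∀ i, i < 56877 → P i := stepQ 56876 Q56876 (allL N56876 (tt N93466 D196486) (tt N59417 (iv0 F362031)) (tt N93462 (iv2 F400797)) (tt N30205 F164966) (tt N80973 F362029) (tt N30338 F164967) (tt N30201 (iv6 D107031)) (tt N81000 (iv7 F362028)))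
theorem Q56878 : ∀ i, i < 56878 → P i := stepQ 56877 Q56877 (allL N56877 (tt N93467 D196487) (tt N93468 D196488) (tt N93448 (iv2 F400770)) (tt N30207 F164970) (tt N57772 (iv4 F167716)) (tt N80999 (iv5 F346360)) (tt N30202 (iv6 D107033)) (tt N30339 F164971))
theorem Q56879 : ∀ i, i < 56879 → P i := stepQ 56878 Q56878 (allL N56878 (tt N93440 F400751) (tt N93442 (iv0 F400753)) (tt N67456 (iv2 F207273)) (tt N30203 (iv3 D107034)) (tt N67479 (iv4 F207298)) (tt N35549 F164972) (tt N93469 D196489) (tt N59059 (iv7 F171938)))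
theorem Q56880 : ∀ i, i < 56880 → P i := stepQ 56879 Q56879 (allL N56879 (tt N93470 D196490) (tt N93471 D196491) (tt N57651 (iv2 F167318)) (tt N93469 (iv3 F400819)) (tt N44448 F164973) (tt N93472 D196492) (tt N30203 (iv6 D107035)) (tt N93473 D196493))
theorem Q56881 : ∀ i, i < 56881 → P i := stepQ 56880 Q56880 (allL N56880 (tt N93474 D196494) (tt N93475 D196495) (tt N93476 D196496) (tt N30204 (iv3 D107036)) (tt N64165 (iv4 F338241)) (tt N31467 F164974) (tt N81780 (iv6 F339270)) (tt N31466 F164975))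
theorem Q56882 : ∀ i, i < 56882 → P i := stepQ 56881 Q56881 (allL N56881 (tt N93477 D196497) (tt N93478 D196498) (tt N57160 (iv2 F165454)) (tt N81780 (iv3 F362030)) (tt N30205 F164976) (tt N93479 D196499) (tt N30204 (iv6 D107037)) (tt N93480 D196500))
theorem Q56883 : ∀ i, i < 56883 → P i := stepQ 56882 Q56882 (allL N56882 (tt N56885 (iv1 F164982)) (tt N30205 (iv0 D107038)) (tt N57158 (iv2 F204576)) (tt N93481 D196501) (tt N93482 D196502) (tt N59210 (iv5 F172335)) (tt N93483 D196503) (tt N57159 F204579))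
theorem Q56884 : ∀ i, i < 56884 → P i := stepQ 56883 Q56883 (allL N56883 (tt N30205 (iv1 D107039)) (tt N56885 F164981) (tt N57159 F204578) (tt N93484 D196504) (tt N93485 D196505) (tt N59211 (iv5 F172338)) (tt N93486 D196506) (tt N57158 (iv7 F204577)))
theorem Q56885 : ∀ i, i < 56885 → P i := stepQ 56884 Q56884 (allL N56884 (tt N57159 (iv1 F165453)) (tt N57158 F165452) (tt N56885 (iv2 F164979)) (tt N81000 F362027) (tt N93480 (iv4 F400866)) (tt N30342 F164977) (tt N80997 (iv6 F346367)) (tt N30205 (iv7 D107040)))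
theorem Q56886 : ∀ i, i < 56886 → P i := stepQ 56885 Q56885 (allL N56885 (tt N56883 (iv1 F164981)) (tt N56882 F164982) (tt N56884 F164979) (tt N80999 (iv3 F346359)) (tt N93479 (iv4 F400861)) (tt N30207 (iv5 D107042)) (tt N80996 F346361) (tt N30345 F164980))
theorem Q56887 : ∀ i, i < 56887 → P i := stepQ 56886 Q56886 (allL N56886 (tt N93487 D196507) (tt N93488 D196508) (tt N93489 D196509) (tt N30208 (iv3 D107043)) (tt N39116 F164983) (tt N62046 (iv5 F179878)) (tt N77911 (iv6 F245278)) (tt N33067 F164984))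
theorem Q56888 : ∀ i, i < 56888 → P i := stepQ 56887 Q56887 (allL N56887 (tt N93490 D196510) (tt N93491 D196511) (tt N93492 D196512) (tt N30209 (iv3 D107044)) (tt N33220 F164985) (tt N61979 (iv5 F179772)) (tt N93493 D196513) (tt N33079 F164986))
theorem Q56889 : ∀ i, i < 56889 → P i := stepQ 56888 Q56888 (allL N56888 (tt N40169 (iv1 F179586)) (tt N40172 (iv0 F169650)) (tt N33078 F164987) (tt N93493 (iv3 F400918)) (tt N57962 (iv4 F168650)) (tt N93494 D196514) (tt N30209 (iv6 D107045)) (tt N77904 (iv7 F245260)))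
theorem Q56890 : ∀ i, i < 56890 → P i := stepQ 56889 Q56889 (allL N56889 (tt N33105 (iv1 F164988)) (tt N30210 (iv0 D107046)) (tt N33104 F180677) (tt N61987 (iv3 F330600)) (tt N93495 D196515) (tt N61986 (iv5 F365191)) (tt N93496 D196516) (tt N33103 F180678))
theorem Q56891 : ∀ i, i < 56891 → P i := stepQ 56890 Q56890 (allL N56890 (tt N30210 (iv1 D107047)) (tt N33105 (iv0 F164990)) (tt N33103 F180675) (tt N72778 (iv3 F223190)) (tt N41486 (iv4 F164989)) (tt N62007 F182525) (tt N77895 (iv6 F366111)) (tt N33104 F180676))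
theorem Q56892 : ∀ i, i < 56892 → P i := stepQ 56891 Q56891 (allL N56891 (tt N33104 (iv1 F164995)) (tt N33103 F164994) (tt N30210 (iv2 D107048)) (tt N33084 F164991) (tt N30224 F164992) (tt N93497 D196517) (tt N93498 D196518) (tt N33105 F164993))
theorem Q56893 : ∀ i, i < 56893 → P i := stepQ 56892 Q56892 (allL N56892 (tt N93499 D196519) (tt N93500 D196520) (tt N93497 (iv2 F400933)) (tt N30211 F164996) (tt N93501 D196521) (tt N30210 (iv5 D107049)) (tt N93502 D196522) (tt N33106 F164997))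
theorem Q56894 : ∀ i, i < 56894 → P i := stepQ 56893 Q56893 (allL N56893 (tt N93503 D196523) (tt N93504 D196524) (tt N93498 (iv2 F400938)) (tt N30212 F164998) (tt N30225 F164999) (tt N93505 D196525) (tt N30210 (iv6 D107050)) (tt N93506 D196526))
theorem Q56895 : ∀ i, i < 56895 → P i := stepQ 56894 Q56894 (allL N56894 (tt N31282 (iv1 F165003)) (tt N30211 (iv0 D107051)) (tt N33087 (iv2 F165002)) (tt N93507 D196527) (tt N30431 F165001) (tt N30266 F165000) (tt N93508 D196528) (tt N33088 F165004))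
theorem Q56896 : ∀ i, i < 56896 → P i := stepQ 56895 Q56895 (allL N56895 (tt N93509 D196529) (tt N93510 D196530) (tt N33089 F165005) (tt N93502 (iv3 F400958)) (tt N60061 (iv4 F175433)) (tt N93511 D196531) (tt N30211 (iv6 D107052)) (tt N93512 D196532))
theorem Q56897 : ∀ i, i < 56897 → P i := stepQ 56896 Q56896 (allL N56896 (tt N33093 (iv1 F165009)) (tt N30212 (iv0 D107053)) (tt N33090 (iv2 F165006)) (tt N93513 D196533) (tt N57972 (iv4 F168668)) (tt N71555 (iv5 F220177)) (tt N39694 (iv6 F167027)) (tt N33091 (iv7 F165007)))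
theorem Q56898 : ∀ i, i < 56898 → P i := stepQ 56897 Q56897 (allL N56897 (tt N77949 (iv1 F245402)) (tt N77952 (iv0 F245410)) (tt N33092 F165011) (tt N93505 (iv3 F400966)) (tt N93514 D196534) (tt N30212 (iv5 D107054)) (tt N93511 (iv6 F400981)) (tt N93515 D196535))
theorem Q56899 : ∀ i, i < 56899 → P i := stepQ 56898 Q56898 (allL N56898 (tt N33091 (iv1 F165015)) (tt N33090 F165016) (tt N33093 F165012) (tt N93506 (iv3 F400968)) (tt N30213 F165013) (tt N93515 (iv5 F400997)) (tt N33112 F165014) (tt N30212 (iv7 D107055)))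
theorem Q56900 : ∀ i, i < 56900 → P i := stepQ 56899 Q56899 (allL N56899 (tt N41475 (iv1 F165023)) (tt N41474 F165021) (tt N30215 (iv2 D107058)) (tt N41482 F165018) (tt N68346 (iv4 F346547)) (tt N41482 F165019) (tt N93516 D196536) (tt N41476 F165020))
theorem Q56901 : ∀ i, i < 56901 → P i := stepQ 56900 Q56900 (allL N56900 (tt N93517 D196537) (tt N93518 D196538) (tt N93516 (iv2 F401000)) (tt N30216 F165024) (tt N71351 (iv4 F219920)) (tt N93519 D196539) (tt N30215 (iv6 D107059)) (tt N93520 D196540))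
theorem Q56902 : ∀ i, i < 56902 → P i := stepQ 56901 Q56901 (allL N56901 (tt N41485 (iv1 F165032)) (tt N30216 (iv0 D107060)) (tt N41229 (iv2 F165029)) (tt N93521 D196541) (tt N30355 F165030) (tt N93522 D196542) (tt N74533 (iv6 F228307)) (tt N41472 F165031))
theorem Q56903 : ∀ i, i < 56903 → P i := stepQ 56902 Q56902 (allL N56902 (tt N30216 (iv1 D107061)) (tt N41485 F165025) (tt N41472 (iv2 F165027)) (tt N93523 D196543) (tt N30356 F165026) (tt N93524 D196544) (tt N69060 (iv6 F212656)) (tt N41229 (iv7 F165028)))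
theorem Q56904 : ∀ i, i < 56904 → P i := stepQ 56903 Q56903 (allL N56903 (tt N93525 D196545) (tt N56855 F165035) (tt N41484 F165033) (tt N93519 (iv3 F401008)) (tt N93526 D196546) (tt N30216 (iv5 D107062)) (tt N41484 F165034) (tt N93527 D196547))
theorem Q56905 : ∀ i, i < 56905 → P i := stepQ 56904 Q56904 (allL N56904 (tt N41472 (iv1 F165039)) (tt N41229 F165040) (tt N41485 F165036) (tt N93520 (iv3 F401011)) (tt N30219 F165037) (tt N93527 (iv5 F401038)) (tt N41479 F165038) (tt N30216 (iv7 D107063)))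
theorem Q56906 : ∀ i, i < 56906 → P i := stepQ 56905 Q56905 (allL N56905 (tt N58394 (iv1 F169275)) (tt N30242 F168330) (tt N40168 (iv2 F165615)) (tt N30217 (iv3 D107065)) (tt N60112 (iv4 F175589)) (tt N79599 (iv5 F332172)) (tt N57168 F165698) (tt N58393 F169267))
theorem Q56907 : ∀ i, i < 56907 → P i := stepQ 56906 Q56906 (allL N56906 (tt N78145 F246277) (tt N32396 (iv0 F165043)) (tt N59875 (iv2 F174357)) (tt N79599 F364886) (tt N65683 (iv4 F202232)) (tt N30217 (iv5 D107067)) (tt N30912 F165042) (tt N32344 F165511))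
theorem Q56908 : ∀ i, i < 56908 → P i := stepQ 56907 Q56907 (allL N56907 (tt N41482 (iv1 F165045)) (tt N30220 (iv0 D107071)) (tt N41481 F359116) (tt N71423 (iv3 F220041)) (tt N93528 D196548) (tt N30335 F220042) (tt N93529 D196549) (tt N41480 F359117))
theorem Q56909 : ∀ i, i < 56909 → P i := stepQ 56908 Q56908 (allL N56908 (tt N30220 (iv1 D107072)) (tt N41482 F165051) (tt N41480 F359120) (tt N93530 D196550) (tt N93531 D196551) (tt N30336 F223614) (tt N89984 F388195) (tt N41481 F359121))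
theorem Q56910 : ∀ i, i < 56910 → P i := stepQ 56909 Q56909 (allL N56909 (tt N41481 (iv1 F165052)) (tt N41480 F165050) (tt N30220 (iv2 D107073)) (tt N41476 F165046) (tt N40345 F165047) (tt N41476 F165048) (tt N93532 D196552) (tt N41482 F165049))
theorem Q56911 : ∀ i, i < 56911 → P i := stepQ 56910 Q56910 (allL N56910 (tt N93533 D196553) (tt N93534 D196554) (tt N93532 (iv2 F401061)) (tt N30221 F165053) (tt N40347 F165054) (tt N93535 D196555) (tt N30220 (iv6 D107074)) (tt N93405 (iv7 F400649)))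
theorem Q56912 : ∀ i, i < 56912 → P i := stepQ 56911 Q56911 (allL N56911 (tt N30221 (iv1 D107075)) (tt N41479 F165055) (tt N41264 (iv2 F165058)) (tt N93536 D196556) (tt N30361 F165057) (tt N93537 D196557) (tt N59064 (iv6 F171957)) (tt N35550 F165056))
theorem Q56913 : ∀ i, i < 56913 → P i := stepQ 56912 Q56912 (allL N56912 (tt N93538 D196558) (tt N93539 D196559) (tt N41478 F165059) (tt N93535 (iv3 F401067)) (tt N93540 D196560) (tt N30221 (iv5 D107076)) (tt N41478 F165060) (tt N93406 (iv7 F400651)))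
theorem Q56914 : ∀ i, i < 56914 → P i := stepQ 56913 Q56913 (allL N56913 (tt N93541 D196561) (tt N93542 D196562) (tt N60030 (iv2 F182544)) (tt N93543 D196563) (tt N30222 (iv4 D107079)) (tt N93544 D196564) (tt N93545 D196565) (tt N60027 F182543))
theorem Q56915 : ∀ i, i < 56915 → P i := stepQ 56914 Q56914 (allL N56914 (tt N93546 D196566) (tt N74561 (iv0 F400248)) (tt N60031 F182552) (tt N74689 (iv3 F228571)) (tt N93545 (iv4 F401092)) (tt N93547 D196567) (tt N30222 (iv6 D107081)) (tt N93548 D196568))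
theorem Q56916 : ∀ i, i < 56916 → P i := stepQ 56915 Q56915 (allL N56915 (tt N74668 F228514) (tt N59166 F227076) (tt N74670 (iv2 F228522)) (tt N30223 (iv3 D107083)) (tt N80802 F343453) (tt N65914 (iv5 F202852)) (tt N80801 (iv6 F343460)) (tt N60029 (iv7 F182532)))
theorem Q56917 : ∀ i, i < 56917 → P i := stepQ 56916 Q56916 (allL N56916 (tt N93542 (iv1 F401090)) (tt N93541 F401089) (tt N60027 (iv2 F182534)) (tt N93549 D196569) (tt N30223 (iv4 D107084)) (tt N93550 D196570) (tt N93551 D196571) (tt N60030 (iv7 F182533)))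
theorem Q56918 : ∀ i, i < 56918 → P i := stepQ 56917 Q56917 (allL N56917 (tt N74543 F362963) (tt N93552 D196572) (tt N60028 (iv2 F182535)) (tt N80801 F362961) (tt N93551 (iv4 F401111)) (tt N93553 D196573) (tt N30223 (iv6 D107086)) (tt N81111 (iv7 F362962)))
theorem Q56919 : ∀ i, i < 56919 → P i := stepQ 56918 Q56918 (allL N56918 (tt N91488 F393342) (tt N91489 F393347) (tt N30225 F165063) (tt N65917 (iv3 F202859)) (tt N93498 (iv4 F400940)) (tt N62348 (iv5 F351297)) (tt N30224 (iv6 D107087)) (tt N77117 F365889))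
theorem Q56920 : ∀ i, i < 56920 → P i := stepQ 56919 Q56919 (allL N56919 (tt N30225 (iv1 D107089)) (tt N77117 F365891) (tt N91489 (iv2 F393344)) (tt N77113 (iv3 F353008)) (tt N93554 D196574) (tt N48400 (iv5 F345410)) (tt N35271 F345409) (tt N91488 F393341))
theorem Q56921 : ∀ i, i < 56921 → P i := stepQ 56920 Q56920 (allL N56920 (tt N50652 F345140) (tt N56746 (iv0 F351318)) (tt N62348 F351296) (tt N30228 F165064) (tt N50355 (iv4 F335538)) (tt N30225 (iv5 D107090)) (tt N57051 (iv6 F165301)) (tt N62349 (iv7 F351294)))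
theorem Q56922 : ∀ i, i < 56922 → P i := stepQ 56921 Q56921 (allL N56921 (tt N91489 (iv1 F393348)) (tt N91488 F393343) (tt N77117 (iv2 F365888)) (tt N30229 F165065) (tt N93506 (iv4 F400969)) (tt N62349 (iv5 F351293)) (tt N60036 (iv6 F175346)) (tt N30225 (iv7 D107091)))
theorem Q56923 : ∀ i, i < 56923 → P i := stepQ 56922 Q56922 (allL N56922 (tt N77111 F362004) (tt N59187 (iv0 F366147)) (tt N77110 (iv2 F385263)) (tt N30226 (iv3 D107092)) (tt N39478 F165066) (tt N93555 D196575) (tt N90285 (iv6 F389233)) (tt N57204 (iv7 F165783)))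
theorem Q56924 : ∀ i, i < 56924 → P i := stepQ 56923 Q56923 (allL N56923 (tt N56846 F165067) (tt N50373 F339923) (tt N57202 (iv2 F165780)) (tt N93555 (iv3 F401114)) (tt N32710 F339924) (tt N30226 (iv5 D107093)) (tt N32709 F339925) (tt N57205 (iv7 F165785)))
theorem Q56925 : ∀ i, i < 56925 → P i := stepQ 56924 Q56924 (allL N56924 (tt N74535 F357574) (tt N89064 (iv0 F385029)) (tt N89070 F385038) (tt N30227 (iv3 D107094)) (tt N40135 F165068) (tt N93556 D196576) (tt N71687 (iv6 F364416)) (tt N57201 (iv7 F165779)))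
theorem Q56926 : ∀ i, i < 56926 → P i := stepQ 56925 Q56925 (allL N56925 (tt N50373 F350546) (tt N56846 F165069) (tt N57205 (iv2 F165784)) (tt N93556 (iv3 F401120)) (tt N51059 F339956) (tt N30227 (iv5 D107095)) (tt N93557 D196577) (tt N57202 (iv7 F165781)))
theorem Q56927 : ∀ i, i < 56927 → P i := stepQ 56926 Q56926 (allL N56926 (tt N57165 (iv1 F165680)) (tt N57173 F247365) (tt N57206 (iv2 F165786)) (tt N71687 (iv3 F364415)) (tt N31478 F165070) (tt N93558 D196578) (tt N30227 (iv6 D107096)) (tt N93388 (iv7 F400614)))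
theorem Q56928 : ∀ i, i < 56928 → P i := stepQ 56927 Q56927 (allL N56927 (tt N65923 (iv1 F202875)) (tt N30228 (iv0 D107097)) (tt N65921 F202864) (tt N93559 D196579) (tt N51062 F339935) (tt N65468 (iv5 F201798)) (tt N93560 D196580) (tt N65922 (iv7 F202868)))
theorem Q56929 : ∀ i, i < 56929 → P i := stepQ 56928 Q56928 (allL N56928 (tt N30228 (iv1 D107098)) (tt N65923 F202874) (tt N65922 F202870) (tt N93561 D196581) (tt N51061 (iv4 F335543)) (tt N65470 F201811) (tt N61177 (iv6 F339930)) (tt N65921 F202865))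
theorem Q56930 : ∀ i, i < 56930 → P i := stepQ 56929 Q56929 (allL N56929 (tt N65922 (iv1 F202867)) (tt N65921 F202866) (tt N65923 (iv2 F202872)) (tt N62349 F351292) (tt N50111 (iv4 F335540)) (tt N30229 F165071) (tt N93562 D196582) (tt N30228 (iv7 D107100)))
theorem Q56931 : ∀ i, i < 56931 → P i := stepQ 56930 Q56930 (allL N56930 (tt N90051 F388421) (tt N57126 (iv0 F363880)) (tt N90150 (iv2 F388698)) (tt N30230 (iv3 D107101)) (tt N71367 (iv4 F219973)) (tt N53796 F363665) (tt N78239 (iv6 F247339)) (tt N59104 (iv7 F172029)))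
theorem Q56932 : ∀ i, i < 56932 → P i := stepQ 56931 Q56931 (allL N56931 (tt N56861 F165072) (tt N74217 F227015) (tt N59103 (iv2 F172026)) (tt N53796 (iv3 F339961)) (tt N41441 F339959) (tt N30230 (iv5 D107102)) (tt N36407 F339960) (tt N59105 (iv7 F172031)))
theorem Q56933 : ∀ i, i < 56933 → P i := stepQ 56932 Q56932 (allL N56932 (tt N60314 F176172) (tt N39854 (iv0 F168368)) (tt N65924 (iv2 F202876)) (tt N61826 (iv3 F179565)) (tt N74048 (iv4 F226710)) (tt N37277 F165075) (tt N30231 (iv6 D107103)) (tt N37277 F165076))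
theorem Q56934 : ∀ i, i < 56934 → P i := stepQ 56933 Q56933 (allL N56933 (tt N93529 (iv1 F401050)) (tt N93563 D196583) (tt N93564 D196584) (tt N30232 (iv3 D107104)) (tt N72608 (iv4 F222735)) (tt N61298 (iv5 F349170)) (tt N93565 D196585) (tt N59102 (iv7 F172025)))
theorem Q56935 : ∀ i, i < 56935 → P i := stepQ 56934 Q56934 (allL N56934 (tt N74217 (iv1 F227016)) (tt N56861 F165077) (tt N59105 (iv2 F172030)) (tt N61298 F349171) (tt N50342 F345182) (tt N30232 (iv5 D107105)) (tt N93566 D196586) (tt N59103 (iv7 F172027)))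
theorem Q56936 : ∀ i, i < 56936 → P i := stepQ 56935 Q56935 (allL N56935 (tt N66575 (iv1 F204575)) (tt N74533 (iv0 F228310)) (tt N59106 (iv2 F172033)) (tt N93565 (iv3 F401154)) (tt N30233 F165078) (tt N93567 D196587) (tt N30232 (iv6 D107106)) (tt N78241 (iv7 F247341)))
theorem Q56937 : ∀ i, i < 56937 → P i := stepQ 56936 Q56936 (allL N56936 (tt N60315 F176175) (tt N60543 (iv0 F176558)) (tt N60294 (iv2 F176156)) (tt N71372 (iv3 F219984)) (tt N91594 (iv4 F393731)) (tt N38193 F165081) (tt N30234 (iv6 D107108)) (tt N93090 (iv7 F399438)))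
theorem Q56938 : ∀ i, i < 56938 → P i := stepQ 56937 Q56937 (allL N56937 (tt N50346 (iv1 F331303)) (tt N30236 (iv0 D107110)) (tt N55059 (iv2 F331319)) (tt N93568 D196588) (tt N31479 F165792) (tt N51798 (iv5 F350537)) (tt N93569 D196589) (tt N55060 (iv7 F331326)))
theorem Q56939 : ∀ i, i < 56939 → P i := stepQ 56938 Q56938 (allL N56938 (tt N30236 (iv1 D107111)) (tt N50346 (iv0 F331302)) (tt N55060 (iv2 F331323)) (tt N86090 (iv3 F375088)) (tt N31480 F165085) (tt N84654 (iv5 F370057)) (tt N56006 (iv6 F165086)) (tt N55059 (iv7 F331321)))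
theorem Q56940 : ∀ i, i < 56940 → P i := stepQ 56939 Q56939 (allL N56939 (tt N55086 (iv1 F352882)) (tt N55085 F352883) (tt N54930 F352867) (tt N30236 (iv3 D107112)) (tt N39314 F165087) (tt N51705 F352881) (tt N30238 F165088) (tt N55083 (iv7 F352880)))
theorem Q56941 : ∀ i, i < 56941 → P i := stepQ 56940 Q56940 (allL N56940 (tt N55060 (iv1 F331322)) (tt N55059 (iv0 F331318)) (tt N50346 (iv2 F331304)) (tt N55083 (iv3 F352879)) (tt N30237 F165093) (tt N50343 F350543) (tt N60141 (iv6 F175779)) (tt N30236 (iv7 D107114)))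
theorem Q56942 : ∀ i, i < 56942 → P i := stepQ 56941 Q56941 (allL N56941 (tt N60138 (iv1 F175774)) (tt N30238 (iv0 D107115)) (tt N60137 F352941) (tt N91493 F393360) (tt N89306 (iv4 F386009)) (tt N68151 F352892) (tt N39658 F352891) (tt N60136 (iv7 F352951)))
theorem Q56943 : ∀ i, i < 56943 → P i := stepQ 56942 Q56942 (allL N56942 (tt N30238 (iv1 D107116)) (tt N60138 F175776) (tt N60136 (iv2 F352953)) (tt N93570 D196590) (tt N91102 (iv4 F391930)) (tt N68152 (iv5 F352960)) (tt N54358 F361826) (tt N60137 F352952))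
theorem Q56944 : ∀ i, i < 56944 → P i := stepQ 56943 Q56943 (allL N56943 (tt N60137 (iv1 F175775)) (tt N60136 F175772) (tt N30238 (iv2 D107117)) (tt N54932 (iv3 F331336)) (tt N39312 F165094) (tt N68389 (iv5 F210043)) (tt N54930 F352868) (tt N60138 (iv7 F175773)))
theorem Q56945 : ∀ i, i < 56945 → P i := stepQ 56944 Q56944 (allL N56944 (tt N30249 (iv1 F165100)) (tt N30240 (iv0 D107120)) (tt N30246 (iv2 F165097)) (tt N31676 F165098) (tt N92296 (iv4 F396613)) (tt N59340 (iv5 F172670)) (tt N70296 (iv6 F217150)) (tt N30247 F165099))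
theorem Q56946 : ∀ i, i < 56946 → P i := stepQ 56945 Q56945 (allL N56945 (tt N30247 (iv1 F165104)) (tt N30246 F165105) (tt N30249 F165101) (tt N33041 F165102) (tt N62698 (iv4 F183136)) (tt N58061 (iv5 F168803)) (tt N33066 F165103) (tt N30240 (iv7 D107121)))
theorem Q56947 : ∀ i, i < 56947 → P i := stepQ 56946 Q56946 (allL N56946 (tt N30242 (iv1 D107123)) (tt N58394 F169274) (tt N58393 F169266) (tt N33071 (iv3 F168332)) (tt N60113 (iv4 F175590)) (tt N59926 (iv5 F174619)) (tt N70295 (iv6 F217135)) (tt N40168 F168331))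
theorem Q56948 : ∀ i, i < 56948 → P i := stepQ 56947 Q56947 (allL N56947 (tt N58393 (iv1 F169263)) (tt N40168 F169270) (tt N58394 (iv2 F169271)) (tt N30905 F165106) (tt N92350 (iv4 F396795)) (tt N30880 F165107) (tt N40087 F165108) (tt N30242 (iv7 D107124)))
theorem Q56949 : ∀ i, i < 56949 → P i := stepQ 56948 Q56948 (allL N56948 (tt N58397 (iv1 F169281)) (tt N30243 (iv0 D107125)) (tt N58396 (iv2 F180743)) (tt N93571 D196591) (tt N93572 D196592) (tt N92461 F401187) (tt N93573 D196593) (tt N58395 F180744))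
theorem Q56950 : ∀ i, i < 56950 → P i := stepQ 56949 Q56949 (allL N56949 (tt N30243 (iv1 D107126)) (tt N58397 F169282) (tt N58395 F180742) (tt N93574 D196594) (tt N59096 (iv4 F172016)) (tt N92462 (iv5 F397072)) (tt N93575 D196595) (tt N58396 (iv7 F180731)))
theorem Q56951 : ∀ i, i < 56951 → P i := stepQ 56950 Q56950 (allL N56950 (tt N58396 (iv1 F169278)) (tt N58395 F169276) (tt N30243 (iv2 D107127)) (tt N74271 (iv3 F227207)) (tt N30252 F165109) (tt N93576 D196596) (tt N73042 (iv6 F364955)) (tt N58397 (iv7 F169280)))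
theorem Q56952 : ∀ i, i < 56952 → P i := stepQ 56951 Q56951 (allL N56951 (tt N55961 F360522) (tt N93577 D196597) (tt N93576 (iv2 F401191)) (tt N30244 F165110) (tt N93578 D196598) (tt N30243 (iv5 D107128)) (tt N93579 D196599) (tt N55983 F165111))
theorem Q56953 : ∀ i, i < 56953 → P i := stepQ 56952 Q56952 (allL N56952 (tt N93580 D196600) (tt N93581 D196601) (tt N73042 F364956) (tt N30245 F165112) (tt N30253 F165113) (tt N58262 F364958) (tt N30243 (iv6 D107129)) (tt N73043 (iv7 F331813)))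
theorem Q56954 : ∀ i, i < 56954 → P i := stepQ 56953 Q56953 (allL N56953 (tt N93582 D196602) (tt N92438 (iv0 F414459)) (tt N55986 F165114) (tt N93579 (iv3 F401202)) (tt N58381 (iv4 F169223)) (tt N93583 D196604) (tt N30244 (iv6 D107130)) (tt N93584 D196605))
theorem Q56955 : ∀ i, i < 56955 → P i := stepQ 56954 Q56954 (allL N56954 (tt N93585 D196606) (tt N93586 D196607) (tt N74273 (iv2 F227215)) (tt N58262 (iv3 F364959)) (tt N93587 D196608) (tt N30245 (iv5 D107131)) (tt N93583 (iv6 F401208)) (tt N74721 (iv7 F228665)))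
theorem Q56956 : ∀ i, i < 56956 → P i := stepQ 56955 Q56955 (allL N56955 (tt N70295 (iv1 F217132)) (tt N70294 F217144) (tt N70296 (iv2 F217147)) (tt N38178 F165115) (tt N39736 F347230) (tt N38932 F165116) (tt N30246 (iv6 D107132)) (tt N38173 F165117))
theorem Q56957 : ∀ i, i < 56957 → P i := stepQ 56956 Q56956 (allL N56956 (tt N58061 (iv1 F168807)) (tt N30248 (iv0 D107133)) (tt N57983 (iv2 F173804)) (tt N39526 F173806) (tt N60079 (iv4 F175489)) (tt N77918 (iv5 F245305)) (tt N92113 (iv6 F395800)) (tt N58060 (iv7 F173805)))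
theorem Q56958 : ∀ i, i < 56958 → P i := stepQ 56957 Q56957 (allL N56957 (tt N30248 (iv1 D107134)) (tt N58061 F168806) (tt N58060 F173800) (tt N31831 F173801) (tt N60080 (iv4 F175495)) (tt N93588 D196609) (tt N40416 F173802) (tt N57983 F173803))
theorem Q56959 : ∀ i, i < 56959 → P i := stepQ 56958 Q56958 (allL N56958 (tt N58060 (iv1 F168797)) (tt N57983 (iv0 F169190)) (tt N58061 (iv2 F168801)) (tt N30263 F165118) (tt N58797 (iv4 F170766)) (tt N30249 F165119) (tt N31671 F165120) (tt N30248 (iv7 D107135)))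
theorem Q56960 : ∀ i, i < 56960 → P i := stepQ 56959 Q56959 (allL N56959 (tt N93589 D196610) (tt N93590 D196611) (tt N65915 (iv2 F202854)) (tt N62585 (iv3 F182592)) (tt N30250 (iv4 D107137)) (tt N93591 D196612) (tt N93592 D196613) (tt N65912 (iv7 F202848)))
theorem Q56961 : ∀ i, i < 56961 → P i := stepQ 56960 Q56960 (allL N56960 (tt N93397 F400636) (tt N74545 (iv0 F340815)) (tt N65916 (iv2 F202857)) (tt N62587 (iv3 F182598)) (tt N93592 (iv4 F401226)) (tt N93593 D196614) (tt N30250 (iv6 D107139)) (tt N93398 (iv7 F425495)))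
theorem Q56962 : ∀ i, i < 56962 → P i := stepQ 56961 Q56961 (allL N56961 (tt N74669 (iv1 F228516)) (tt N74534 F228316) (tt N62578 (iv2 F182480)) (tt N30251 (iv3 D107141)) (tt N72987 (iv4 F223697)) (tt N60029 (iv5 F180740)) (tt N93594 D196616) (tt N65914 (iv7 F202853)))
theorem Q56963 : ∀ i, i < 56963 → P i := stepQ 56962 Q56962 (allL N56962 (tt N93590 (iv1 F401224)) (tt N93589 F401223) (tt N65912 (iv2 F202846)) (tt N92288 (iv3 F396586)) (tt N30251 (iv4 D107142)) (tt N93595 D196617) (tt N93596 D196618) (tt N65915 (iv7 F202855)))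
theorem Q56964 : ∀ i, i < 56964 → P i := stepQ 56963 Q56963 (allL N56963 (tt N74559 F360135) (tt N93597 D196619) (tt N65913 (iv2 F202849)) (tt N93594 (iv3 F401227)) (tt N93596 (iv4 F401228)) (tt N93598 D196620) (tt N30251 (iv6 D107144)) (tt N93599 D196621))
theorem Q56965 : ∀ i, i < 56965 → P i := stepQ 56964 Q56964 (allL N56964 (tt N72207 F331801) (tt N30253 (iv0 D107146)) (tt N73040 F331802) (tt N73182 (iv3 F342414)) (tt N93600 D196622) (tt N41069 F331803) (tt N93601 D196623) (tt N73041 F331804))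
theorem Q56966 : ∀ i, i < 56966 → P i := stepQ 56965 Q56965 (allL N56965 (tt N30253 (iv1 D107147)) (tt N72207 F363742) (tt N73041 F363740) (tt N93602 D196624) (tt N93603 D196625) (tt N58180 (iv5 F363739)) (tt N92868 F398585) (tt N73040 F363741))
theorem Q56967 : ∀ i, i < 56967 → P i := stepQ 56966 Q56966 (allL N56966 (tt N60040 (iv1 F175354)) (tt N30254 (iv0 D107150)) (tt N60037 F228468) (tt N93604 D196626) (tt N74626 F228464) (tt N74646 (iv5 F228463)) (tt N91276 (iv6 F392502)) (tt N60038 F228466))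
theorem Q56968 : ∀ i, i < 56968 → P i := stepQ 56967 Q56967 (allL N56967 (tt N30254 (iv1 D107151)) (tt N60040 F175353) (tt N60038 (iv2 F228467)) (tt N93605 D196627) (tt N74627 (iv4 F228443)) (tt N74649 (iv5 F228475)) (tt N62189 (iv6 F340481)) (tt N60037 (iv7 F228469)))
theorem Q56969 : ∀ i, i < 56969 → P i := stepQ 56968 Q56968 (allL N56968 (tt N89935 F388047) (tt N93606 D196628) (tt N60039 (iv2 F175349)) (tt N33537 F331785) (tt N30254 (iv4 D107152)) (tt N93607 D196629) (tt N57015 (iv6 F165223)) (tt N65934 F331786))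
theorem Q56970 : ∀ i, i < 56970 → P i := stepQ 56969 Q56969 (allL N56969 (tt N89981 (iv1 F388181)) (tt N89984 (iv0 F388193)) (tt N90554 (iv2 F390075)) (tt N30256 (iv3 D107154)) (tt N40409 F165127) (tt N89214 F385632) (tt N93608 D196630) (tt N41498 F165128))
theorem Q56971 : ∀ i, i < 56971 → P i := stepQ 56970 Q56970 (allL N56970 (tt N93609 D196631) (tt N93610 D196632) (tt N41496 F165129) (tt N89214 F385631) (tt N93611 D196633) (tt N30256 (iv5 D107155)) (tt N93612 D196634) (tt N41499 F165130))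
theorem Q56972 : ∀ i, i < 56972 → P i := stepQ 56971 Q56971 (allL N56971 (tt N69060 F212659) (tt N74228 (iv0 F227045)) (tt N41497 F165131) (tt N93608 (iv3 F401245)) (tt N30258 F165132) (tt N57079 F165356) (tt N30256 (iv6 D107156)) (tt N57645 (iv7 F167302)))
theorem Q56973 : ∀ i, i < 56973 → P i := stepQ 56972 Q56972 (allL N56972 (tt N35672 F165137) (tt N35670 F165136) (tt N35704 F165133) (tt N93613 D196635) (tt N30257 (iv4 D107157)) (tt N93614 D196636) (tt N35712 F165134) (tt N30910 F165135))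
theorem Q56974 : ∀ i, i < 56974 → P i := stepQ 56973 Q56973 (allL N56973 (tt N57112 F343468) (tt N90543 (iv0 F390030)) (tt N93615 D196637) (tt N30259 (iv3 D107158)) (tt N47313 F331954) (tt N93616 D196638) (tt N57643 (iv6 F167296)) (tt N41495 F165138))
theorem Q56975 : ∀ i, i < 56975 → P i := stepQ 56974 Q56974 (allL N56974 (tt N93610 (iv1 F401251)) (tt N93609 F401248) (tt N41499 F165139) (tt N93616 (iv3 F401287)) (tt N93617 D196639) (tt N30259 (iv5 D107159)) (tt N93618 D196640) (tt N41496 F165140))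
theorem Q56976 : ∀ i, i < 56976 → P i := stepQ 56975 Q56975 (allL N56975 (tt N41520 F165142) (tt N30399 F165150) (tt N41516 F165143) (tt N93619 D196641) (tt N30260 (iv4 D107160)) (tt N92074 (iv5 F395631)) (tt N92115 (iv6 F395811)) (tt N41517 F165141))
theorem Q56977 : ∀ i, i < 56977 → P i := stepQ 56976 Q56976 (allL N56976 (tt N30399 F165148) (tt N41520 F165149) (tt N41517 F165146) (tt N82533 (iv3 F357894)) (tt N30261 (iv4 D107162)) (tt N82532 (iv5 F332893)) (tt N65562 F202033) (tt N41516 F165147))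
theorem Q56978 : ∀ i, i < 56978 → P i := stepQ 56977 Q56977 (allL N56977 (tt N35598 F165158) (tt N39528 (iv0 F165157)) (tt N39527 F165154) (tt N58060 (iv3 F168799)) (tt N65562 (iv4 F202031)) (tt N39667 F165151) (tt N30261 (iv6 D107163)) (tt N39526 F165152))
theorem Q56979 : ∀ i, i < 56979 → P i := stepQ 56978 Q56978 (allL N56978 (tt N81734 F357892) (tt N93620 D196642) (tt N93621 D196643) (tt N30262 (iv3 D107165)) (tt N58795 (iv4 F170764)) (tt N81759 (iv5 F357893)) (tt N30264 F165159) (tt N80730 F354770))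
theorem Q56980 : ∀ i, i < 56980 → P i := stepQ 56979 Q56979 (allL N56979 (tt N65686 F202239) (tt N65521 (iv0 F201944)) (tt N60044 (iv2 F175371)) (tt N81759 F357905) (tt N93622 D196644) (tt N30262 (iv5 D107166)) (tt N67296 (iv6 F364834)) (tt N65684 (iv7 F202236)))
theorem Q56981 : ∀ i, i < 56981 → P i := stepQ 56980 Q56980 (allL N56980 (tt N57248 (iv1 F165893)) (tt N57245 (iv0 F165887)) (tt N60045 (iv2 F175373)) (tt N80730 (iv3 F354769)) (tt N30263 F165160) (tt N65684 (iv5 F202237)) (tt N35649 F165161) (tt N30262 (iv7 D107167)))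
theorem Q56982 : ∀ i, i < 56982 → P i := stepQ 56981 Q56981 (allL N56981 (tt N60441 (iv1 F176429)) (tt N30264 (iv0 D107168)) (tt N60440 F176431) (tt N55597 (iv3 F322534)) (tt N65167 (iv4 F344706)) (tt N55746 (iv5 F350006)) (tt N65131 F344707) (tt N55594 (iv7 F324565)))
theorem Q56983 : ∀ i, i < 56983 → P i := stepQ 56982 Q56982 (allL N56982 (tt N30264 (iv1 D107169)) (tt N60441 F176434) (tt N55594 (iv2 F324564)) (tt N93623 D196645) (tt N65423 (iv4 F355864)) (tt N55747 F345753) (tt N55593 F345241) (tt N60440 F176432))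
theorem Q56984 : ∀ i, i < 56984 → P i := stepQ 56983 Q56983 (allL N56983 (tt N60440 (iv1 F176430)) (tt N55594 (iv0 F324562)) (tt N30264 (iv2 D107170)) (tt N60048 (iv3 F175377)) (tt N58793 (iv4 F170761)) (tt N67174 F345757) (tt N93621 (iv6 F401307)) (tt N60441 (iv7 F176428)))
theorem Q56985 : ∀ i, i < 56985 → P i := stepQ 56984 Q56984 (allL N56984 (tt N32368 F355861) (tt N32373 F355862) (tt N67174 (iv2 F345756)) (tt N30265 F165162) (tt N74409 (iv4 F227809)) (tt N30264 (iv5 D107171)) (tt N67172 F345755) (tt N60051 (iv7 F175388)))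
theorem Q56986 : ∀ i, i < 56986 → P i := stepQ 56985 Q56985 (allL N56985 (tt N33431 F165166) (tt N93624 D196646) (tt N93625 D196647) (tt N30266 (iv3 D107173)) (tt N33293 F165164) (tt N93507 (iv5 F400973)) (tt N93626 D196648) (tt N33124 F165165))
theorem Q56987 : ∀ i, i < 56987 → P i := stepQ 56986 Q56986 (allL N56986 (tt N33207 (iv1 F168116)) (tt N33210 F168115) (tt N33123 F165167) (tt N93626 (iv3 F401328)) (tt N31246 F165168) (tt N93627 D196649) (tt N30266 (iv6 D107174)) (tt N39506 F165169))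
theorem Q56988 : ∀ i, i < 56988 → P i := stepQ 56987 Q56987 (allL N56987 (tt N33145 (iv1 F165170)) (tt N30267 (iv0 D107175)) (tt N33144 (iv2 F165340)) (tt N93628 D196650) (tt N93629 D196651) (tt N93499 (iv5 F400943)) (tt N93630 D196652) (tt N33143 F165341))
theorem Q56989 : ∀ i, i < 56989 → P i := stepQ 56988 Q56988 (allL N56988 (tt N30267 (iv1 D107176)) (tt N33145 (iv0 F165173)) (tt N33143 F165339) (tt N33416 F165172) (tt N40863 (iv4 F165171)) (tt N93500 (iv5 F400950)) (tt N77817 (iv6 F351547)) (tt N33144 (iv7 F165338)))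
theorem Q56990 : ∀ i, i < 56990 → P i := stepQ 56989 Q56989 (allL N56989 (tt N33144 (iv1 F165178)) (tt N33143 F165177) (tt N30267 (iv2 D107177)) (tt N33127 F165174) (tt N30274 F165175) (tt N93631 D196653) (tt N93632 D196654) (tt N33145 F165176))
theorem Q56991 : ∀ i, i < 56991 → P i := stepQ 56990 Q56990 (allL N56990 (tt N61917 (iv1 F180738)) (tt N61920 (iv0 F180741)) (tt N93631 (iv2 F401357)) (tt N30268 F165179) (tt N93633 D196655) (tt N30267 (iv5 D107178)) (tt N93624 F401322) (tt N33146 F165180))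
theorem Q56992 : ∀ i, i < 56992 → P i := stepQ 56991 Q56991 (allL N56991 (tt N93301 (iv1 F400311)) (tt N93634 D196656) (tt N93632 (iv2 F401363)) (tt N30269 F165181) (tt N30275 F165182) (tt N39191 F330554) (tt N30267 (iv6 D107179)) (tt N93635 D196657))
theorem Q56993 : ∀ i, i < 56993 → P i := stepQ 56992 Q56992 (allL N56992 (tt N66382 F326818) (tt N66385 F326819) (tt N33132 F165183) (tt N93624 F401317) (tt N65867 (iv4 F202678)) (tt N93636 D196658) (tt N30268 (iv6 D107180)) (tt N93637 D196659))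
theorem Q56994 : ∀ i, i < 56994 → P i := stepQ 56993 Q56993 (allL N56993 (tt N33136 (iv1 F165190)) (tt N30269 (iv0 D107181)) (tt N33133 (iv2 F165198)) (tt N61917 (iv3 F330598)) (tt N62044 (iv4 F179866)) (tt N61915 F330597) (tt N39499 (iv6 F172055)) (tt N33134 (iv7 F165200)))
theorem Q56995 : ∀ i, i < 56995 → P i := stepQ 56994 Q56994 (allL N56994 (tt N30269 (iv1 D107182)) (tt N33136 F165184) (tt N33134 F165199) (tt N93638 D196660) (tt N56008 (iv4 F165185)) (tt N93639 D196661) (tt N93640 D196662) (tt N33133 F165197))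
theorem Q56996 : ∀ i, i < 56996 → P i := stepQ 56995 Q56995 (allL N56995 (tt N93628 F401340) (tt N73347 F330548) (tt N33135 F165186) (tt N39191 F330549) (tt N73235 F330550) (tt N30269 (iv5 D107183)) (tt N93636 (iv6 F401379)) (tt N93641 D196663))
theorem Q56997 : ∀ i, i < 56997 → P i := stepQ 56996 Q56996 (allL N56996 (tt N33134 (iv1 F165191)) (tt N33133 F165192) (tt N33136 F165187) (tt N93635 (iv3 F401373)) (tt N30271 F165188) (tt N93641 (iv5 F401403)) (tt N33152 F165189) (tt N30269 (iv7 D107184)))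
theorem Q56998 : ∀ i, i < 56998 → P i := stepQ 56997 Q56997 (allL N56997 (tt N33049 F165203) (tt N33164 F165204) (tt N33139 F165201) (tt N90942 (iv3 F391319)) (tt N30270 (iv4 D107185)) (tt N72639 (iv5 F330566)) (tt N83389 (iv6 F359549)) (tt N33137 F165202))
theorem Q56999 : ∀ i, i < 56999 → P i := stepQ 56998 Q56998 (allL N56998 (tt N61693 F179277) (tt N33209 (iv0 F165210)) (tt N33141 F165206) (tt N39163 F165207) (tt N83389 (iv4 F359547)) (tt N38113 F165208) (tt N30270 (iv6 D107186)) (tt N39496 F165209))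
theorem Q57000 : ∀ i, i < 57000 → P i := stepQ 56999 Q56999 (allL N56999 (tt N31519 (iv1 F172273)) (tt N93318 (iv0 F400377)) (tt N40846 (iv2 F172109)) (tt N30272 (iv3 D107188)) (tt N57088 F165368) (tt N33375 F172108) (tt N93642 D196664) (tt N40855 (iv7 F172114)))
theorem Q57001 : ∀ i, i < 57001 → P i := stepQ 57000 Q57000 (allL N57000 (tt N57119 F165407) (tt N93643 D196665) (tt N92896 (iv2 F398691)) (tt N93644 D196666) (tt N30272 (iv4 D107189)) (tt N93645 D196667) (tt N93646 D196668) (tt N92894 (iv7 F398684)))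
theorem Q57002 : ∀ i, i < 57002 → P i := stepQ 57001 Q57001 (allL N57001 (tt N65050 F345405) (tt N59204 (iv0 F351082)) (tt N79172 F345402) (tt N93642 (iv3 F401407)) (tt N93646 (iv4 F401421)) (tt N79145 (iv5 F345403)) (tt N30272 (iv6 D107191)) (tt N79170 F345404))
theorem Q57003 : ∀ i, i < 57003 → P i := stepQ 57002 Q57002 (allL N57002 (tt N73726 F225606) (tt N59192 F225608) (tt N93647 D196669) (tt N30273 (iv3 D107193)) (tt N82203 (iv4 F351324)) (tt N57046 F172119) (tt N82201 F360000) (tt N92895 (iv7 F398688)))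
theorem Q57004 : ∀ i, i < 57004 → P i := stepQ 57003 Q57003 (allL N57003 (tt N93643 (iv1 F401408)) (tt N57119 (iv0 F225607)) (tt N92894 (iv2 F398683)) (tt N33165 (iv3 F165213)) (tt N30273 (iv4 D107194)) (tt N93648 D196670) (tt N77974 F351320) (tt N92896 (iv7 F398692)))
theorem Q57005 : ∀ i, i < 57005 → P i := stepQ 57004 Q57004 (allL N57004 (tt N56749 F331817) (tt N62359 F331818) (tt N30275 F165214) (tt N92885 (iv3 F398648)) (tt N93632 (iv4 F401365)) (tt N40401 F331819) (tt N30274 (iv6 D107197)) (tt N62357 F331820))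
theorem Q57006 : ∀ i, i < 57006 → P i := stepQ 57005 Q57005 (allL N57005 (tt N30275 (iv1 D107199)) (tt N62357 F364937) (tt N62359 (iv2 F364938)) (tt N81253 (iv3 F364944)) (tt N61830 F364941) (tt N56750 (iv5 F364939)) (tt N81251 F364949) (tt N56749 F364940))
theorem Q57007 : ∀ i, i < 57007 → P i := stepQ 57006 Q57006 (allL N57006 (tt N69558 F331790) (tt N72633 F331791) (tt N40401 F331792) (tt N30278 F165215) (tt N58081 F331793) (tt N30275 (iv5 D107200)) (tt N40313 F331794) (tt N39902 F331795))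
theorem Q57008 : ∀ i, i < 57008 → P i := stepQ 57007 Q57007 (allL N57007 (tt N62359 F331821) (tt N56749 F331822) (tt N62357 F331823) (tt N30279 F165217) (tt N93635 (iv4 F401374)) (tt N39902 F331824) (tt N92901 (iv6 F398706)) (tt N30275 (iv7 D107201)))
theorem Q57009 : ∀ i, i < 57009 → P i := stepQ 57008 Q57008 (allL N57008 (tt N93649 D196671) (tt N59196 (iv0 F362569)) (tt N93650 D196672) (tt N30276 (iv3 D107202)) (tt N39645 F165218) (tt N93651 D196673) (tt N74212 (iv6 F227008)) (tt N66511 (iv7 F204329)))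
theorem Q57010 : ∀ i, i < 57010 → P i := stepQ 57009 Q57009 (allL N57009 (tt N93652 D196674) (tt N62354 (iv0 F353086)) (tt N66510 (iv2 F204321)) (tt N93651 (iv3 F401435)) (tt N93653 D196675) (tt N30276 (iv5 D107203)) (tt N62337 (iv6 F339933)) (tt N66512 (iv7 F204331)))
theorem Q57011 : ∀ i, i < 57011 → P i := stepQ 57010 Q57010 (allL N57010 (tt N31517 F386818) (tt N93654 D196676) (tt N93655 D196677) (tt N30277 (iv3 D107204)) (tt N40555 F165219) (tt N93656 D196678) (tt N93657 D196679) (tt N66509 (iv7 F204320)))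
theorem Q57012 : ∀ i, i < 57012 → P i := stepQ 57011 Q57011 (allL N57011 (tt N62354 (iv1 F353087)) (tt N93652 F401439) (tt N66512 (iv2 F204330)) (tt N93656 (iv3 F401459)) (tt N39234 F347203) (tt N30277 (iv5 D107205)) (tt N73529 (iv6 F382003)) (tt N66510 (iv7 F204322)))
theorem Q57013 : ∀ i, i < 57013 → P i := stepQ 57012 Q57012 (allL N57012 (tt N93234 (iv1 F400066)) (tt N59203 (iv0 F245361)) (tt N66513 (iv2 F204332)) (tt N93657 (iv3 F401463)) (tt N31502 F165220) (tt N93402 (iv5 F400645)) (tt N30277 (iv6 D107206)) (tt N74211 (iv7 F227005)))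
theorem Q57014 : ∀ i, i < 57014 → P i := stepQ 57013 Q57013 (allL N57013 (tt N92892 (iv1 F398675)) (tt N30278 (iv0 D107207)) (tt N74227 (iv2 F227038)) (tt N93658 D196680) (tt N93659 D196681) (tt N36781 F165221) (tt N93660 D196682) (tt N92890 (iv7 F398660)))
theorem Q57015 : ∀ i, i < 57015 → P i := stepQ 57014 Q57014 (allL N57014 (tt N30278 (iv1 D107208)) (tt N92892 F398674) (tt N92890 F398663) (tt N93661 D196683) (tt N59789 (iv4 F359480)) (tt N41508 (iv5 F165222)) (tt N93662 D196684) (tt N74227 (iv7 F227039)))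
theorem Q57016 : ∀ i, i < 57016 → P i := stepQ 57015 Q57015 (allL N57015 (tt N93663 D196685) (tt N93664 D196686) (tt N92891 (iv2 F398666)) (tt N62669 F331829) (tt N30278 (iv4 D107209)) (tt N55665 (iv5 F342871)) (tt N56968 F165223) (tt N68088 (iv7 F331828)))
theorem Q57017 : ∀ i, i < 57017 → P i := stepQ 57016 Q57016 (allL N57016 (tt N92890 (iv1 F398659)) (tt N74227 (iv0 F227040)) (tt N92892 (iv2 F398670)) (tt N39902 F331825) (tt N68088 F331826) (tt N30279 F165224) (tt N39900 F331827) (tt N30278 (iv7 D107210)))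
theorem Q57018 : ∀ i, i < 57018 → P i := stepQ 57017 Q57017 (allL N57017 (tt N36101 (iv1 F179212)) (tt N36004 (iv0 F165227)) (tt N36099 F165225) (tt N67112 (iv3 F346499)) (tt N30280 (iv4 D107211)) (tt N58063 (iv5 F344746)) (tt N67109 F346512) (tt N36100 F165226))
theorem Q57019 : ∀ i, i < 57019 → P i := stepQ 57018 Q57018 (allL N57018 (tt N60885 (iv1 F326872)) (tt N70581 (iv0 F217897)) (tt N39609 F165228) (tt N30282 F165229) (tt N93665 D196687) (tt N30280 (iv5 D107212)) (tt N92884 (iv6 F398643)) (tt N39611 F165230))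
theorem Q57020 : ∀ i, i < 57020 → P i := stepQ 57019 Q57019 (allL N57019 (tt N92913 (iv1 F401986)) (tt N57137 (iv0 F401976)) (tt N92912 F400230) (tt N30281 (iv3 D107213)) (tt N67112 (iv4 F346500)) (tt N89596 (iv5 F400228)) (tt N67110 F346503) (tt N59142 (iv7 F172188)))
theorem Q57021 : ∀ i, i < 57021 → P i := stepQ 57020 Q57020 (allL N57020 (tt N93666 D196690) (tt N93667 D196691) (tt N59141 (iv2 F172186)) (tt N89596 F400229) (tt N67138 (iv4 F340043)) (tt N30281 (iv5 D107214)) (tt N67137 F340041) (tt N59143 (iv7 F172190)))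
theorem Q57022 : ∀ i, i < 57022 → P i := stepQ 57021 Q57021 (allL N57021 (tt N30284 (iv1 F165231)) (tt N30282 (iv0 D107215)) (tt N60938 (iv2 F342859)) (tt N70346 (iv3 F217251)) (tt N55672 (iv4 F329140)) (tt N60025 (iv5 F175335)) (tt N32343 (iv6 F165232)) (tt N56710 (iv7 F165500)))
theorem Q57023 : ∀ i, i < 57023 → P i := stepQ 57022 Q57022 (allL N57022 (tt N65992 (iv1 F360386)) (tt N68730 F211456) (tt N92893 (iv2 F398676)) (tt N93668 D196692) (tt N30282 (iv4 D107217)) (tt N65980 (iv5 F342895)) (tt N93669 D196693) (tt N68833 F211670))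
theorem Q57024 : ∀ i, i < 57024 → P i := stepQ 57023 Q57023 (allL N57023 (tt N56711 F165237) (tt N60880 (iv0 F326881)) (tt N40561 F165234) (tt N92884 (iv3 F398642)) (tt N93669 (iv4 F401503)) (tt N39148 F165235) (tt N30282 (iv6 D107218)) (tt N56730 F165236))
theorem Q57025 : ∀ i, i < 57025 → P i := stepQ 57024 Q57024 (allL N57024 (tt N30328 F360689) (tt N93670 D196694) (tt N93671 D196695) (tt N30283 (iv3 D107219)) (tt N93279 (iv4 F400273)) (tt N93324 (iv5 F400405)) (tt N93672 D196696) (tt N59140 (iv7 F172185)))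
theorem Q57026 : ∀ i, i < 57026 → P i := stepQ 57025 Q57025 (allL N57025 (tt N93667 (iv1 F401496)) (tt N93666 F401494) (tt N59143 (iv2 F172189)) (tt N93324 (iv3 F400404)) (tt N93673 D196697) (tt N30283 (iv5 D107220)) (tt N93674 D196698) (tt N59141 (iv7 F172187)))
theorem Q57027 : ∀ i, i < 57027 → P i := stepQ 57026 Q57026 (allL N57026 (tt N67840 (iv1 F208146)) (tt N57149 F211349) (tt N59144 (iv2 F172191)) (tt N93672 (iv3 F401516)) (tt N30285 F165239) (tt N93675 D196699) (tt N30283 (iv6 D107221)) (tt N93430 (iv7 F400721)))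
theorem Q57028 : ∀ i, i < 57028 → P i := stepQ 57027 Q57027 (allL N57027 (tt N68730 F211455) (tt N65992 (iv0 F350307)) (tt N68833 (iv2 F211668)) (tt N65968 F355992) (tt N30284 (iv4 D107222)) (tt N65967 (iv5 F355991)) (tt N36872 F165240) (tt N92893 (iv7 F398679)))
theorem Q57029 : ∀ i, i < 57029 → P i := stepQ 57028 Q57028 (allL N57028 (tt N36180 F165242) (tt N59152 F172216) (tt N59149 F172212) (tt N46549 F328081) (tt N30286 (iv4 D107224)) (tt N60454 F360823) (tt N46546 F328082) (tt N36768 F165241))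
theorem Q57030 : ∀ i, i < 57030 → P i := stepQ 57029 Q57029 (allL N57029 (tt N30287 (iv1 D107225)) (tt N36775 F165243) (tt N36776 (iv2 F165246)) (tt N60633 F355851) (tt N31503 F165245) (tt N66584 F328812) (tt N36758 (iv6 F165247)) (tt N36700 F165244))
theorem Q57031 : ∀ i, i < 57031 → P i := stepQ 57030 Q57030 (allL N57030 (tt N93676 D196700) (tt N93677 D196701) (tt N93678 D196702) (tt N30287 (iv3 D107226)) (tt N68181 (iv4 F209227)) (tt N55668 (iv5 F342868)) (tt N56399 F165248) (tt N93679 D196703))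
theorem Q57032 : ∀ i, i < 57032 → P i := stepQ 57031 Q57031 (allL N57031 (tt N36776 (iv1 F165251)) (tt N36700 F165252) (tt N36775 F165249) (tt N93679 (iv3 F401535)) (tt N30288 F165250) (tt N55663 (iv5 F342870)) (tt N68623 (iv6 F211234)) (tt N30287 (iv7 D107228)))
theorem Q57033 : ∀ i, i < 57033 → P i := stepQ 57032 Q57032 (allL N57032 (tt N30295 F165257) (tt N30289 (iv0 D107229)) (tt N30293 (iv2 F165254)) (tt N33339 (iv3 F165255)) (tt N92304 (iv4 F396641)) (tt N39164 F165253) (tt N93588 (iv6 F401218)) (tt N30294 (iv7 F165256)))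
theorem Q57034 : ∀ i, i < 57034 → P i := stepQ 57033 Q57033 (allL N57033 (tt N30289 (iv1 D107230)) (tt N30295 F165258) (tt N30294 (iv2 F165265)) (tt N30309 (iv3 F165266)) (tt N92305 (iv4 F396650)) (tt N30307 F165260) (tt N59277 (iv6 F172457)) (tt N30293 F165259))
theorem Q57035 : ∀ i, i < 57035 → P i := stepQ 57034 Q57034 (allL N57034 (tt N30294 (iv1 F165272)) (tt N30293 F165273) (tt N30295 F165267) (tt N33046 F165268) (tt N55972 F165269) (tt N39258 F165270) (tt N33121 F165271) (tt N30289 (iv7 D107231)))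
theorem Q57036 : ∀ i, i < 57036 → P i := stepQ 57035 Q57035 (allL N57035 (tt N55959 (iv1 F165274)) (tt N30290 (iv0 D107232)) (tt N55958 (iv2 F172167)) (tt N55963 (iv3 F347206)) (tt N92914 (iv4 F398747)) (tt N55961 F347204) (tt N71377 (iv6 F397084)) (tt N55957 (iv7 F172169)))
theorem Q57037 : ∀ i, i < 57037 → P i := stepQ 57036 Q57036 (allL N57036 (tt N30290 (iv1 D107233)) (tt N55959 F165279) (tt N55957 F172168) (tt N55989 (iv3 F396694)) (tt N59130 (iv4 F172165)) (tt N93577 (iv5 F401198)) (tt N93680 D196704) (tt N55958 F172166))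
theorem Q57038 : ∀ i, i < 57038 → P i := stepQ 57037 Q57037 (allL N57037 (tt N55958 (iv1 F165280)) (tt N55957 F165278) (tt N30290 (iv2 D107234)) (tt N55967 F165275) (tt N30298 F165276) (tt N93681 D196705) (tt N93682 D196706) (tt N55959 F165277))
theorem Q57039 : ∀ i, i < 57039 → P i := stepQ 57038 Q57038 (allL N57038 (tt N93683 D196707) (tt N93684 D196708) (tt N93681 (iv2 F401545)) (tt N30291 F165281) (tt N93685 D196709) (tt N30290 (iv5 D107235)) (tt N93686 D196710) (tt N55960 F165282))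
theorem Q57040 : ∀ i, i < 57040 → P i := stepQ 57039 Q57039 (allL N57039 (tt N93687 D196711) (tt N93688 D196712) (tt N93682 (iv2 F401551)) (tt N30292 F165283) (tt N30299 F165284) (tt N93689 D196713) (tt N30290 (iv6 D107236)) (tt N93690 D196714))
theorem Q57041 : ∀ i, i < 57041 → P i := stepQ 57040 Q57040 (allL N57040 (tt N93691 D196715) (tt N93692 D196716) (tt N55970 F165285) (tt N93686 (iv3 F401565)) (tt N58559 (iv4 F169682)) (tt N93693 D196717) (tt N30291 (iv6 D107237)) (tt N93694 D196718))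
theorem Q57042 : ∀ i, i < 57042 → P i := stepQ 57041 Q57041 (allL N57041 (tt N55972 (iv1 F165291)) (tt N30292 (iv0 D107238)) (tt N55953 (iv2 F166106)) (tt N93695 D196719) (tt N55867 (iv4 F166066)) (tt N93696 D196720) (tt N93697 D196721) (tt N55955 (iv7 F166100)))
theorem Q57043 : ∀ i, i < 57043 → P i := stepQ 57042 Q57042 (allL N57042 (tt N93698 D196722) (tt N78253 (iv0 F247404)) (tt N55971 F165292) (tt N93689 (iv3 F401570)) (tt N80796 F344890) (tt N30292 (iv5 D107239)) (tt N93693 (iv6 F401584)) (tt N80795 (iv7 F362458)))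
theorem Q57044 : ∀ i, i < 57044 → P i := stepQ 57043 Q57043 (allL N57043 (tt N55955 (iv1 F166098)) (tt N55953 (iv0 F166104)) (tt N55972 F165293) (tt N93690 (iv3 F401571)) (tt N30295 F165294) (tt N80795 (iv5 F331740)) (tt N55964 F165295) (tt N30292 (iv7 D107240)))
theorem Q57045 : ∀ i, i < 57045 → P i := stepQ 57044 Q57044 (allL N57044 (tt N78050 F245607) (tt N93699 D196723) (tt N93588 (iv2 F401216)) (tt N39667 F165298) (tt N92446 (iv4 F397019)) (tt N58060 F168798) (tt N30293 (iv6 D107242)) (tt N77918 (iv7 F245303)))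
theorem Q57046 : ∀ i, i < 57046 → P i := stepQ 57045 Q57045 (allL N57045 (tt N93700 D196724) (tt N93701 D196725) (tt N92430 (iv2 F396991)) (tt N62450 (iv3 F181512)) (tt N30296 (iv4 D107244)) (tt N93702 D196726) (tt N93421 (iv6 F400682)) (tt N73738 (iv7 F225641)))
theorem Q57047 : ∀ i, i < 57047 → P i := stepQ 57046 Q57046 (allL N57046 (tt N73730 (iv1 F225605)) (tt N31514 F181497) (tt N62447 (iv2 F181492)) (tt N30297 (iv3 D107247)) (tt N57105 (iv4 F165389)) (tt N57002 (iv5 F172119)) (tt N93703 D196727) (tt N73731 (iv7 F225610)))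
theorem Q57048 : ∀ i, i < 57048 → P i := stepQ 57047 Q57047 (allL N57047 (tt N93701 (iv1 F401613)) (tt N93700 F401611) (tt N73738 F225642) (tt N92298 (iv3 F396620)) (tt N30297 (iv4 D107248)) (tt N93704 D196728) (tt N93705 D196729) (tt N92430 (iv7 F396993)))
theorem Q57049 : ∀ i, i < 57049 → P i := stepQ 57048 Q57048 (allL N57048 (tt N58179 F331099) (tt N58181 F331100) (tt N73744 (iv2 F225658)) (tt N93703 (iv3 F401617)) (tt N93705 (iv4 F401619)) (tt N40419 F331101) (tt N30297 (iv6 D107250)) (tt N93424 (iv7 F400693)))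
theorem Q57050 : ∀ i, i < 57050 → P i := stepQ 57049 Q57049 (allL N57049 (tt N72878 F342494) (tt N73037 (iv0 F342496)) (tt N30299 F165299) (tt N92897 (iv3 F398697)) (tt N93682 (iv4 F401553)) (tt N58257 (iv5 F331096)) (tt N30298 (iv6 D107251)) (tt N73035 (iv7 F363140)))
theorem Q57051 : ∀ i, i < 57051 → P i := stepQ 57050 Q57050 (allL N57050 (tt N30299 (iv1 D107253)) (tt N73035 F363141) (tt N73037 (iv2 F363142)) (tt N93706 D196730) (tt N93707 D196731) (tt N72879 F363143) (tt N93708 D196732) (tt N72878 F363138))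
theorem Q57052 : ∀ i, i < 57052 → P i := stepQ 57051 Q57051 (allL N57051 (tt N57921 F331114) (tt N58259 F331116) (tt N58257 F331097) (tt N30302 F165300) (tt N85182 (iv4 F371834)) (tt N30299 (iv5 D107254)) (tt N56920 F165301) (tt N58256 F351239))
theorem Q57053 : ∀ i, i < 57053 → P i := stepQ 57052 Q57052 (allL N57052 (tt N73037 (iv1 F342497)) (tt N72878 (iv0 F351240)) (tt N73035 F363139) (tt N30303 F165302) (tt N93690 (iv4 F401572)) (tt N58256 (iv5 F351237)) (tt N92889 (iv6 F398658)) (tt N30299 (iv7 D107255)))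
theorem Q57054 : ∀ i, i < 57054 → P i := stepQ 57053 Q57053 (allL N57053 (tt N93709 D196733) (tt N31522 F393619) (tt N93710 D196734) (tt N30300 (iv3 D107257)) (tt N93711 D196735) (tt N93712 D196736) (tt N93713 D196737) (tt N92904 (iv7 F398718)))
theorem Q57055 : ∀ i, i < 57055 → P i := stepQ 57054 Q57054 (allL N57054 (tt N93390 (iv1 F400624)) (tt N73032 (iv0 F360114)) (tt N92903 (iv2 F398712)) (tt N93712 (iv3 F401639)) (tt N61188 (iv4 F339929)) (tt N30300 (iv5 D107258)) (tt N61187 F339928) (tt N92905 (iv7 F398720)))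
theorem Q57056 : ∀ i, i < 57056 → P i := stepQ 57055 Q57055 (allL N57055 (tt N59206 F172328) (tt N73047 (iv0 F342473)) (tt N74649 (iv2 F228473)) (tt N93713 (iv3 F401640)) (tt N31510 F165305) (tt N60038 F175348) (tt N30300 (iv6 D107259)) (tt N74646 (iv7 F228462)))
theorem Q57057 : ∀ i, i < 57057 → P i := stepQ 57056 Q57056 (allL N57056 (tt N59194 (iv1 F371286)) (tt N93714 D196738) (tt N93715 D196739) (tt N30301 (iv3 D107261)) (tt N39684 F165308) (tt N93716 D196740) (tt N93411 (iv6 F400663)) (tt N92902 (iv7 F398708)))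
theorem Q57058 : ∀ i, i < 57058 → P i := stepQ 57057 Q57057 (allL N57057 (tt N73032 (iv1 F360115)) (tt N93390 F400623) (tt N92905 (iv2 F398719)) (tt N93716 (iv3 F401652)) (tt N93717 D196741) (tt N30301 (iv5 D107262)) (tt N93718 D196742) (tt N92903 (iv7 F398714)))
theorem Q57059 : ∀ i, i < 57059 → P i := stepQ 57058 Q57058 (allL N57058 (tt N92906 (iv1 F398728)) (tt N30302 (iv0 D107264)) (tt N78247 (iv2 F247358)) (tt N93719 D196743) (tt N66797 F350591) (tt N56809 F165310) (tt N57933 (iv6 F356736)) (tt N66795 (iv7 F339919)))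
theorem Q57060 : ∀ i, i < 57060 → P i := stepQ 57059 Q57059 (allL N57059 (tt N30302 (iv1 D107265)) (tt N92906 F398727) (tt N66795 F339920) (tt N93720 D196744) (tt N32701 F339921) (tt N56808 F165311) (tt N32700 F339922) (tt N78247 (iv7 F247359)))
theorem Q57061 : ∀ i, i < 57061 → P i := stepQ 57060 Q57060 (allL N57060 (tt N66795 (iv1 F339917)) (tt N78247 (iv0 F247360)) (tt N92906 (iv2 F398722)) (tt N58256 F351238) (tt N61233 F352666) (tt N30303 F165313) (tt N93721 D196745) (tt N30302 (iv7 D107267)))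
theorem Q57062 : ∀ i, i < 57062 → P i := stepQ 57061 Q57061 (allL N57061 (tt N90290 F389241) (tt N30333 F388220) (tt N93722 D196746) (tt N30304 (iv3 D107268)) (tt N40718 F165314) (tt N93723 D196747) (tt N89990 F388221) (tt N59156 (iv7 F172230)))
theorem Q57063 : ∀ i, i < 57063 → P i := stepQ 57062 Q57062 (allL N57062 (tt N78243 (iv1 F247346)) (tt N59063 (iv0 F171952)) (tt N59154 (iv2 F172219)) (tt N93723 (iv3 F401672)) (tt N78386 F339970) (tt N30304 (iv5 D107269)) (tt N66786 (iv6 F339968)) (tt N59157 (iv7 F172232)))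
theorem Q57064 : ∀ i, i < 57064 → P i := stepQ 57063 Q57063 (allL N57063 (tt N57151 F165440) (tt N65689 (iv0 F202241)) (tt N59155 (iv2 F172222)) (tt N89990 (iv3 F388214)) (tt N30306 F165315) (tt N41501 F165316) (tt N30304 (iv6 D107270)) (tt N89986 (iv7 F388202)))
theorem Q57065 : ∀ i, i < 57065 → P i := stepQ 57064 Q57064 (allL N57064 (tt N36198 F165320) (tt N36188 F165319) (tt N36195 F165317) (tt N54780 F362229) (tt N30305 (iv4 D107271)) (tt N93724 D196748) (tt N93725 D196749) (tt N36196 F165318))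
theorem Q57066 : ∀ i, i < 57066 → P i := stepQ 57065 Q57065 (allL N57065 (tt N39855 (iv1 F168340)) (tt N55641 (iv0 F165325)) (tt N39667 F165321) (tt N33353 F165322) (tt N93725 (iv4 F401683)) (tt N39527 F165323) (tt N30305 (iv6 D107272)) (tt N60293 (iv7 F176152)))
theorem Q57067 : ∀ i, i < 57067 → P i := stepQ 57066 Q57066 (allL N57066 (tt N30306 (iv1 D107273)) (tt N60042 (iv0 F175367)) (tt N58141 (iv2 F168928)) (tt N93699 (iv3 F401608)) (tt N73047 F342468) (tt N55609 (iv5 F165326)) (tt N56677 (iv6 F165327)) (tt N30352 (iv7 F165466)))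
theorem Q57068 : ∀ i, i < 57068 → P i := stepQ 57067 Q57067 (allL N57067 (tt N36008 (iv1 F166205)) (tt N36123 (iv0 F166204)) (tt N36121 (iv2 F166476)) (tt N81192 F331854) (tt N30307 (iv4 D107274)) (tt N63619 F348185) (tt N75403 F344156) (tt N36120 F166136))
theorem Q57069 : ∀ i, i < 57069 → P i := stepQ 57068 Q57068 (allL N57068 (tt N57134 (iv1 F401924)) (tt N92920 (iv0 F401925)) (tt N92919 (iv2 F401952)) (tt N30308 (iv3 D107275)) (tt N81192 (iv4 F364906)) (tt N93726 D196753) (tt N93418 (iv6 F400674)) (tt N59153 (iv7 F172218)))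
theorem Q57070 : ∀ i, i < 57070 → P i := stepQ 57069 Q57069 (allL N57069 (tt N59063 (iv1 F171953)) (tt N78243 F247345) (tt N59157 (iv2 F172231)) (tt N93726 (iv3 F401690)) (tt N93727 D196754) (tt N30308 (iv5 D107276)) (tt N93728 D196755) (tt N59154 (iv7 F172220)))
theorem Q57071 : ∀ i, i < 57071 → P i := stepQ 57070 Q57070 (allL N57070 (tt N36188 (iv1 F165333)) (tt N36198 F165332) (tt N36196 F165330) (tt N71047 F382053) (tt N30309 (iv4 D107277)) (tt N93729 D196756) (tt N57658 (iv6 F175749)) (tt N36195 F165331))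
theorem Q57072 : ∀ i, i < 57072 → P i := stepQ 57071 Q57071 (allL N57071 (tt N30330 (iv1 F165402)) (tt N93730 D196757) (tt N93629 (iv2 F401342)) (tt N30310 (iv3 D107278)) (tt N33144 F165337) (tt N57082 (iv5 F172096)) (tt N81719 (iv6 F351536)) (tt N40863 F165336))
theorem Q57073 : ∀ i, i < 57073 → P i := stepQ 57072 Q57072 (allL N57072 (tt N59031 F171804) (tt N57132 (iv0 F220521)) (tt N92907 (iv2 F398734)) (tt N30311 (iv3 D107281)) (tt N62427 (iv4 F181238)) (tt N57084 (iv5 F172103)) (tt N78184 (iv6 F361558)) (tt N40864 F165345))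
theorem Q57074 : ∀ i, i < 57074 → P i := stepQ 57073 Q57073 (allL N57073 (tt N67077 (iv1 F321265)) (tt N91748 F394291) (tt N30313 F165349) (tt N59135 (iv3 F172180)) (tt N33378 F165350) (tt N93731 D196758) (tt N30312 (iv6 D107284)) (tt N75353 (iv7 F350029)))
theorem Q57075 : ∀ i, i < 57075 → P i := stepQ 57074 Q57074 (allL N57074 (tt N75353 (iv1 F350031)) (tt N30313 (iv0 D107285)) (tt N67077 F350033) (tt N70122 F350035) (tt N66734 (iv4 F350032)) (tt N39712 F350036) (tt N63196 F350034) (tt N91748 (iv7 F394289)))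
theorem Q57076 : ∀ i, i < 57076 → P i := stepQ 57075 Q57075 (allL N57075 (tt N30313 (iv1 D107286)) (tt N75353 (iv0 F350027)) (tt N91748 (iv2 F394287)) (tt N93732 D196759) (tt N67080 (iv4 F320821)) (tt N88019 (iv5 F381491)) (tt N87979 (iv6 F381358)) (tt N67077 F360636))
theorem Q57077 : ∀ i, i < 57077 → P i := stepQ 57076 Q57076 (allL N57076 (tt N93733 D196760) (tt N90277 (iv0 F389195)) (tt N93731 (iv2 F401708)) (tt N30314 F165351) (tt N78340 (iv4 F368238)) (tt N30313 (iv5 D107287)) (tt N57230 (iv6 F165849)) (tt N93734 D196761))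
theorem Q57078 : ∀ i, i < 57078 → P i := stepQ 57077 Q57077 (allL N57077 (tt N91748 F394290) (tt N67077 (iv0 F321264)) (tt N75353 F350030) (tt N30315 F165352) (tt N33383 F165353) (tt N93734 (iv5 F401712)) (tt N40869 F165354) (tt N30313 (iv7 D107288)))
theorem Q57079 : ∀ i, i < 57079 → P i := stepQ 57078 Q57078 (allL N57078 (tt N59148 (iv1 F172206)) (tt N30314 (iv0 D107289)) (tt N59145 F172194) (tt N93735 D196762) (tt N93663 (iv4 F401483)) (tt N44441 F165355) (tt N93736 D196763) (tt N59146 (iv7 F172198)))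
theorem Q57080 : ∀ i, i < 57080 → P i := stepQ 57079 Q57079 (allL N57079 (tt N30314 (iv1 D107290)) (tt N59148 F172205) (tt N59146 (iv2 F172200)) (tt N93737 D196764) (tt N93664 (iv4 F401486)) (tt N56971 (iv5 F165356)) (tt N90279 F401273) (tt N59145 F172195))
theorem Q57081 : ∀ i, i < 57081 → P i := stepQ 57080 Q57080 (allL N57080 (tt N58419 F349523) (tt N90598 (iv0 F390206)) (tt N59147 (iv2 F172201)) (tt N81616 F342890) (tt N30314 (iv4 D107291)) (tt N59766 (iv5 F342888)) (tt N57233 (iv6 F165853)) (tt N71054 F342891))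
theorem Q57082 : ∀ i, i < 57082 → P i := stepQ 57081 Q57081 (allL N57081 (tt N59146 (iv1 F172197)) (tt N59145 (iv0 F172196)) (tt N59148 (iv2 F172203)) (tt N93734 (iv3 F401711)) (tt N71054 (iv4 F342886)) (tt N30315 F165357) (tt N93738 D196765) (tt N30314 (iv7 D107292)))
theorem Q57083 : ∀ i, i < 57083 → P i := stepQ 57082 Q57082 (allL N57082 (tt N57135 (iv1 F397061)) (tt N92915 F398753) (tt N92914 F398748) (tt N30316 (iv3 D107294)) (tt N55958 F165359) (tt N57071 F172096) (tt N93439 (iv6 F400744)) (tt N59130 (iv7 F172164)))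
theorem Q57084 : ∀ i, i < 57084 → P i := stepQ 57083 Q57083 (allL N57083 (tt N93739 D196766) (tt N67139 (iv0 F206759)) (tt N59134 (iv2 F172175)) (tt N93740 D196767) (tt N30316 (iv4 D107295)) (tt N87162 (iv5 F378588)) (tt N55285 F366088) (tt N59131 (iv7 F172171)))
theorem Q57085 : ∀ i, i < 57085 → P i := stepQ 57084 Q57084 (allL N57084 (tt N71754 (iv1 F220493)) (tt N30325 F220494) (tt N71930 (iv2 F221026)) (tt N30317 (iv3 D107299)) (tt N54789 (iv4 F361822)) (tt N57072 F172103) (tt N93741 D196768) (tt N59133 (iv7 F172174)))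
theorem Q57086 : ∀ i, i < 57086 → P i := stepQ 57085 Q57085 (allL N57085 (tt N67139 (iv1 F206760)) (tt N93739 F401724) (tt N59131 (iv2 F172170)) (tt N54790 (iv3 F361817)) (tt N30317 (iv4 D107300)) (tt N87161 (iv5 F378582)) (tt N90524 (iv6 F389954)) (tt N59134 (iv7 F172176)))
theorem Q57087 : ∀ i, i < 57087 → P i := stepQ 57086 Q57086 (allL N57086 (tt N57147 F389956) (tt N93742 D196769) (tt N59132 (iv2 F172172)) (tt N93741 (iv3 F401734)) (tt N90524 F389955) (tt N93743 D196770) (tt N30317 (iv6 D107302)) (tt N93443 (iv7 F400756)))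
theorem Q57088 : ∀ i, i < 57088 → P i := stepQ 57087 Q57087 (allL N57087 (tt N40782 (iv1 F165366)) (tt N30319 (iv0 D107305)) (tt N59118 (iv2 F172116)) (tt N66447 F204182) (tt N59179 (iv4 F172269)) (tt N52055 (iv5 F306964)) (tt N59115 F359497) (tt N59117 (iv7 F172118)))
theorem Q57089 : ∀ i, i < 57089 → P i := stepQ 57088 Q57088 (allL N57088 (tt N30319 (iv1 D107306)) (tt N40782 F165367) (tt N59117 F172117) (tt N93744 D196771) (tt N56999 (iv4 F165368)) (tt N52054 (iv5 F306960)) (tt N93745 D196772) (tt N59118 F172115))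
theorem Q57090 : ∀ i, i < 57090 → P i := stepQ 57089 Q57089 (allL N57089 (tt N77084 (iv1 F356935)) (tt N30320 (iv0 D107309)) (tt N90671 (iv2 F390466)) (tt N93351 (iv3 F400495)) (tt N87797 F380546) (tt N93349 F400492) (tt N93746 D196773) (tt N91553 (iv7 F393616)))
theorem Q57091 : ∀ i, i < 57091 → P i := stepQ 57090 Q57090 (allL N57090 (tt N30320 (iv1 D107310)) (tt N77084 F356927) (tt N91553 F393618) (tt N54686 F356928) (tt N54688 (iv4 F356929)) (tt N93747 D196774) (tt N91597 (iv6 F393745)) (tt N90671 (iv7 F390468)))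
theorem Q57092 : ∀ i, i < 57092 → P i := stepQ 57091 Q57091 (allL N57091 (tt N58158 (iv1 F402321)) (tt N93748 D196776) (tt N77109 F345162) (tt N30321 F165372) (tt N93749 D196777) (tt N30320 (iv5 D107311)) (tt N57198 (iv6 F165771)) (tt N91562 (iv7 F393665)))
theorem Q57093 : ∀ i, i < 57093 → P i := stepQ 57092 Q57092 (allL N57092 (tt N59161 (iv1 F172247)) (tt N30321 (iv0 D107313)) (tt N59158 F172235) (tt N93750 D196778) (tt N61234 (iv4 F346744)) (tt N44450 F165374) (tt N76239 (iv6 F339966)) (tt N59159 (iv7 F172239)))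
theorem Q57094 : ∀ i, i < 57094 → P i := stepQ 57093 Q57093 (allL N57093 (tt N30321 (iv1 D107314)) (tt N59161 F172246) (tt N59159 F172241) (tt N85152 (iv3 F371756)) (tt N36411 F339962) (tt N44449 F165375) (tt N36410 F339963) (tt N59158 F172236))
theorem Q57095 : ∀ i, i < 57095 → P i := stepQ 57094 Q57094 (allL N57094 (tt N61197 F339908) (tt N36400 F339909) (tt N59160 (iv2 F172242)) (tt N50846 F339910) (tt N30321 (iv4 D107315)) (tt N93751 D196779) (tt N50844 F339911) (tt N61196 F350589))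
theorem Q57096 : ∀ i, i < 57096 → P i := stepQ 57095 Q57095 (allL N57095 (tt N59159 (iv1 F172238)) (tt N59158 F172237) (tt N59161 (iv2 F172244)) (tt N91562 (iv3 F393663)) (tt N61196 (iv4 F350588)) (tt N30322 F165376) (tt N93752 D196780) (tt N30321 (iv7 D107316)))
theorem Q57097 : ∀ i, i < 57097 → P i := stepQ 57096 Q57096 (allL N57096 (tt N93468 (iv1 F400813)) (tt N93467 F400809) (tt N30339 F165377) (tt N57131 (iv3 F165422)) (tt N93315 (iv4 F400363)) (tt N93753 D196781) (tt N30323 (iv6 D107317)) (tt N93448 (iv7 F400771)))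
theorem Q57098 : ∀ i, i < 57098 → P i := stepQ 57097 Q57097 (allL N57097 (tt N93629 (iv1 F401346)) (tt N40863 F336120) (tt N93730 (iv2 F401707)) (tt N30324 (iv3 D107320)) (tt N93754 D196782) (tt N73066 (iv5 F386486)) (tt N73067 F386492) (tt N30330 F165380))
theorem Q57099 : ∀ i, i < 57099 → P i := stepQ 57098 Q57098 (allL N57098 (tt N40686 F336122) (tt N85236 (iv0 F371989)) (tt N30326 F165381) (tt N40677 F336123) (tt N30324 (iv4 D107321)) (tt N93755 D196783) (tt N93756 D196784) (tt N30331 F165382))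
theorem Q57100 : ∀ i, i < 57100 → P i := stepQ 57099 Q57099 (allL N57099 (tt N59140 F386491) (tt N93671 F401515) (tt N30328 F165385) (tt N73067 (iv3 F386490)) (tt N93756 (iv4 F401792)) (tt N73062 F386488) (tt N30324 (iv6 D107323)) (tt N93670 (iv7 F401507)))
theorem Q57101 : ∀ i, i < 57101 → P i := stepQ 57100 Q57100 (allL N57100 (tt N30325 (iv1 D107325)) (tt N71754 F220498) (tt N59133 (iv2 F220499)) (tt N92914 (iv3 F398746)) (tt N70978 F220500) (tt N73759 (iv5 F225704)) (tt N93449 (iv6 F453647)) (tt N71930 (iv7 F221027)))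
theorem Q57102 : ∀ i, i < 57102 → P i := stepQ 57101 Q57101 (allL N57101 (tt N71930 F336150) (tt N59133 F336149) (tt N30325 (iv2 D107326)) (tt N93730 F401705) (tt N58897 (iv4 F336138)) (tt N74598 F336148) (tt N93757 D196786) (tt N71754 F220497))
theorem Q57103 : ∀ i, i < 57103 → P i := stepQ 57102 Q57102 (allL N57102 (tt N57194 F220059) (tt N74599 (iv0 F228411)) (tt N74598 (iv2 F362372)) (tt N30327 F165386) (tt N40107 F180529) (tt N30325 (iv5 D107327)) (tt N93758 D196787) (tt N74568 F362366))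
theorem Q57104 : ∀ i, i < 57104 → P i := stepQ 57103 Q57103 (allL N57103 (tt N93759 D196788) (tt N93760 D196789) (tt N93757 (iv2 F401793)) (tt N30328 F165387) (tt N71757 (iv4 F220512)) (tt N93761 D196790) (tt N30325 (iv6 D107328)) (tt N90292 (iv7 F389250)))
theorem Q57105 : ∀ i, i < 57105 → P i := stepQ 57104 Q57104 (allL N57104 (tt N59133 F336127) (tt N71930 F336128) (tt N71754 (iv2 F220492)) (tt N30329 F165388) (tt N58898 (iv4 F336133)) (tt N74568 F336129) (tt N90213 (iv6 F388923)) (tt N30325 (iv7 D107329)))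
theorem Q57106 : ∀ i, i < 57106 → P i := stepQ 57105 Q57105 (allL N57105 (tt N30331 (iv1 F165394)) (tt N30326 (iv0 D107330)) (tt N40686 (iv2 F165406)) (tt N93762 D196791) (tt N57046 F165389) (tt N85237 (iv5 F371996)) (tt N93763 D196792) (tt N85236 (iv7 F371992)))
theorem Q57107 : ∀ i, i < 57107 → P i := stepQ 57106 Q57106 (allL N57106 (tt N30326 (iv1 D107331)) (tt N30331 F165390) (tt N85236 (iv2 F371986)) (tt N33297 (iv3 F165404)) (tt N40845 F165403) (tt N84832 (iv5 F370788)) (tt N65262 F366265) (tt N40686 F165405))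
theorem Q57108 : ∀ i, i < 57108 → P i := stepQ 57107 Q57107 (allL N57107 (tt N70988 F219090) (tt N70987 F219091) (tt N71890 (iv2 F349718)) (tt N30326 (iv3 D107332)) (tt N71756 (iv4 F220508)) (tt N93764 D196793) (tt N75357 (iv6 F357296)) (tt N71889 F345465))
theorem Q57109 : ∀ i, i < 57109 → P i := stepQ 57108 Q57108 (allL N57108 (tt N93765 D196794) (tt N72988 (iv0 F387843)) (tt N93755 (iv2 F401783)) (tt N93764 (iv3 F401815)) (tt N93766 D196795) (tt N30326 (iv5 D107333)) (tt N93767 D196796) (tt N93768 D196797))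
theorem Q57110 : ∀ i, i < 57110 → P i := stepQ 57109 Q57109 (allL N57109 (tt N93769 D196798) (tt N93770 D196799) (tt N93756 (iv2 F401790)) (tt N75357 F357297) (tt N30328 F165391) (tt N75356 (iv5 F357300)) (tt N30326 (iv6 D107334)) (tt N90305 (iv7 F389291)))
theorem Q57111 : ∀ i, i < 57111 → P i := stepQ 57110 Q57110 (allL N57110 (tt N85236 (iv1 F371991)) (tt N40686 F336130) (tt N30331 F165392) (tt N71889 F336131) (tt N30329 F165393) (tt N93768 (iv5 F401835)) (tt N90214 (iv6 F388929)) (tt N30326 (iv7 D107335)))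
theorem Q57112 : ∀ i, i < 57112 → P i := stepQ 57111 Q57111 (allL N57111 (tt N80802 F343461) (tt N81118 F343463) (tt N74571 (iv2 F343465)) (tt N93771 D196800) (tt N30327 (iv4 D107338)) (tt N93772 D196801) (tt N81077 (iv6 F343462)) (tt N74569 F343464))
theorem Q57113 : ∀ i, i < 57113 → P i := stepQ 57112 Q57112 (allL N57112 (tt N74612 (iv1 F362959)) (tt N56973 (iv0 F343468)) (tt N73061 (iv2 F386482)) (tt N93758 (iv3 F401795)) (tt N81077 F343467) (tt N73060 (iv5 F386494)) (tt N30327 (iv6 D107339)) (tt N74611 (iv7 F385599)))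
theorem Q57114 : ∀ i, i < 57114 → P i := stepQ 57113 Q57113 (allL N57113 (tt N93670 F401511) (tt N30328 (iv0 D107341)) (tt N59140 (iv2 F360692)) (tt N92912 (iv3 F400231)) (tt N93323 (iv4 F400403)) (tt N93317 F400373) (tt N93461 F400795) (tt N93671 (iv7 F401513)))
theorem Q57115 : ∀ i, i < 57115 → P i := stepQ 57114 Q57114 (allL N57114 (tt N93773 D196802) (tt N93737 F401718) (tt N73062 (iv2 F386489)) (tt N93761 (iv3 F401807)) (tt N93774 D196803) (tt N30328 (iv5 D107343)) (tt N73060 F386493) (tt N93775 D196804))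
theorem Q57116 : ∀ i, i < 57116 → P i := stepQ 57115 Q57115 (allL N57115 (tt N93671 (iv1 F401514)) (tt N59140 (iv0 F389251)) (tt N93670 F401512) (tt N90292 (iv3 F389248)) (tt N90305 (iv4 F389290)) (tt N93775 (iv5 F401853)) (tt N90290 F389244) (tt N30328 (iv7 D107344)))
theorem Q57117 : ∀ i, i < 57117 → P i := stepQ 57116 Q57116 (allL N57116 (tt N93722 (iv1 F401670)) (tt N59156 (iv0 F388933)) (tt N30333 F165399) (tt N90213 F388926) (tt N90214 (iv4 F388927)) (tt N89849 (iv5 F388931)) (tt N30329 (iv6 D107345)) (tt N90290 (iv7 F389240)))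
theorem Q57118 : ∀ i, i < 57118 → P i := stepQ 57117 Q57117 (allL N57117 (tt N93730 (iv1 F401703)) (tt N30330 (iv0 D107346)) (tt N40863 (iv2 F165401)) (tt N92907 F398733) (tt N33143 F165400) (tt N92456 (iv5 F397059)) (tt N77937 (iv6 F351552)) (tt N93629 (iv7 F401344)))
theorem Q57119 : ∀ i, i < 57119 → P i := stepQ 57118 Q57118 (allL N57118 (tt N40863 F220502) (tt N93629 (iv0 F401349)) (tt N30330 (iv2 D107347)) (tt N71754 F220496) (tt N61803 (iv4 F220501)) (tt N93776 D196805) (tt N93777 D196806) (tt N93730 (iv7 F401704)))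
theorem Q57120 : ∀ i, i < 57120 → P i := stepQ 57119 Q57119 (allL N57119 (tt N57003 F225607) (tt N57000 (iv0 F165407)) (tt N61803 F220503) (tt N93778 D196807) (tt N30330 (iv4 D107348)) (tt N93779 D196808) (tt N93780 D196809) (tt N93754 (iv7 F401780)))
theorem Q57121 : ∀ i, i < 57121 → P i := stepQ 57120 Q57120 (allL N57120 (tt N93781 D196810) (tt N57221 F397065) (tt N93776 (iv2 F401856)) (tt N30332 F165408) (tt N93589 (iv4 F401222)) (tt N30330 (iv5 D107349)) (tt N93782 D196811) (tt N73066 (iv7 F386487)))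
theorem Q57122 : ∀ i, i < 57122 → P i := stepQ 57121 Q57121 (allL N57121 (tt N93783 D196812) (tt N93784 D196813) (tt N93777 (iv2 F401860)) (tt N30333 F165409) (tt N93780 (iv4 F401865)) (tt N93785 D196814) (tt N30330 (iv6 D107350)) (tt N93786 D196815))
theorem Q57123 : ∀ i, i < 57123 → P i := stepQ 57122 Q57122 (allL N57122 (tt N40679 (iv1 F165411)) (tt N33293 (iv0 F165410)) (tt N40678 F349726) (tt N30331 (iv3 D107351)) (tt N93778 (iv4 F401863)) (tt N72963 (iv5 F349729)) (tt N90316 (iv6 F389328)) (tt N40677 F349727))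
theorem Q57124 : ∀ i, i < 57124 → P i := stepQ 57123 Q57123 (allL N57123 (tt N72988 (iv1 F401789)) (tt N93765 F401836) (tt N93768 (iv2 F401833)) (tt N72963 F349730) (tt N93787 D196816) (tt N30331 (iv5 D107352)) (tt N87273 F388942) (tt N93755 (iv7 F401785)))
theorem Q57125 : ∀ i, i < 57125 → P i := stepQ 57124 Q57124 (allL N57124 (tt N90303 (iv1 F389287)) (tt N90302 F389278) (tt N90214 F388941) (tt N90316 (iv3 F389327)) (tt N30333 F165412) (tt N87264 (iv5 F388940)) (tt N30331 (iv6 D107353)) (tt N90304 (iv7 F389286)))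
theorem Q57126 : ∀ i, i < 57126 → P i := stepQ 57125 Q57125 (allL N57125 (tt N81118 (iv1 F343466)) (tt N80802 (iv0 F343452)) (tt N74569 F336135) (tt N71331 (iv3 F219841)) (tt N30332 (iv4 D107354)) (tt N71340 F336045) (tt N55047 (iv6 F365293)) (tt N74571 (iv7 F336111)))
theorem Q57127 : ∀ i, i < 57127 → P i := stepQ 57126 Q57126 (allL N57126 (tt N56930 F363880) (tt N93788 D196817) (tt N74570 F364304) (tt N93782 (iv3 F401870)) (tt N55047 (iv4 F365291)) (tt N93789 D196818) (tt N30332 (iv6 D107355)) (tt N93790 D196819))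
theorem Q57128 : ∀ i, i < 57128 → P i := stepQ 57127 Q57127 (allL N57127 (tt N30333 (iv1 D107357)) (tt N90290 F389245) (tt N59156 (iv2 F389246)) (tt N92919 (iv3 F401953)) (tt N93333 (iv4 F400450)) (tt N93791 D196820) (tt N93456 (iv6 F410697)) (tt N93722 (iv7 F401669)))
theorem Q57129 : ∀ i, i < 57129 → P i := stepQ 57128 Q57128 (allL N57128 (tt N93750 (iv1 F401764)) (tt N53789 F388935) (tt N89849 F388936) (tt N93785 (iv3 F401876)) (tt N55329 F388937) (tt N30333 (iv5 D107358)) (tt N93789 (iv6 F401892)) (tt N89852 F388938))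
theorem Q57130 : ∀ i, i < 57130 → P i := stepQ 57129 Q57129 (allL N57129 (tt N59156 (iv1 F388934)) (tt N93722 F401671) (tt N90290 F389242) (tt N93786 (iv3 F401878)) (tt N90304 (iv4 F389284)) (tt N89852 (iv5 F388939)) (tt N93670 F401510) (tt N30333 (iv7 D107359)))
theorem Q57131 : ∀ i, i < 57131 → P i := stepQ 57130 Q57130 (allL N57130 (tt N56353 (iv1 F165418)) (tt N56352 F165419) (tt N30337 F165416) (tt N66380 (iv3 F204069)) (tt N30334 (iv4 D107370)) (tt N67957 F336074) (tt N93792 D196822) (tt N56354 F165417))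
theorem Q57132 : ∀ i, i < 57132 → P i := stepQ 57131 Q57131 (allL N57131 (tt N93793 D196823) (tt N93794 D196824) (tt N30338 F165421) (tt N57096 F165422) (tt N93792 (iv4 F401900)) (tt N93462 (iv5 F400798)) (tt N30334 (iv6 D107371)) (tt N93795 D196825))
theorem Q57133 : ∀ i, i < 57133 → P i := stepQ 57132 Q57132 (allL N57132 (tt N57072 F220521) (tt N73759 F225706) (tt N73758 F359132) (tt N30335 (iv3 D107373)) (tt N31440 F165424) (tt N71423 (iv5 F220040)) (tt N93796 D196826) (tt N56388 F359122))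
theorem Q57134 : ∀ i, i < 57134 → P i := stepQ 57133 Q57133 (allL N57133 (tt N82203 F354333) (tt N93797 D196827) (tt N56392 F359125) (tt N93798 D196828) (tt N30335 (iv4 D107374)) (tt N93799 D196829) (tt N93800 D196830) (tt N56389 F359123))
theorem Q57135 : ∀ i, i < 57135 → P i := stepQ 57134 Q57134 (allL N57134 (tt N93801 D196831) (tt N57068 F401924) (tt N56393 (iv2 F359158)) (tt N93796 (iv3 F401922)) (tt N93800 (iv4 F401944)) (tt N93802 D196832) (tt N30335 (iv6 D107376)) (tt N93803 D196833))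
theorem Q57136 : ∀ i, i < 57136 → P i := stepQ 57135 Q57135 (allL N57135 (tt N92456 F397060) (tt N57082 F397061) (tt N93804 D196834) (tt N30336 (iv3 D107378)) (tt N93700 (iv4 F401609)) (tt N93530 (iv5 F401052)) (tt N93805 D196835) (tt N56391 (iv7 F359157)))
theorem Q57137 : ∀ i, i < 57137 → P i := stepQ 57136 Q57136 (allL N57136 (tt N93797 (iv1 F401926)) (tt N82203 F354334) (tt N56389 (iv2 F359124)) (tt N36014 (iv3 F165426)) (tt N30336 (iv4 D107379)) (tt N73421 (iv5 F359105)) (tt N93806 D196836) (tt N56392 (iv7 F359113)))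
theorem Q57138 : ∀ i, i < 57138 → P i := stepQ 57137 Q57137 (allL N57137 (tt N57019 F401976) (tt N93807 D196837) (tt N56390 F359156) (tt N93805 (iv3 F401970)) (tt N93806 (iv4 F401973)) (tt N89985 (iv5 F388198)) (tt N30336 (iv6 D107381)) (tt N93808 D196838))
theorem Q57139 : ∀ i, i < 57139 → P i := stepQ 57138 Q57138 (allL N57138 (tt N30337 (iv1 D107382)) (tt N56354 F165427) (tt N56352 (iv2 F165429)) (tt N66554 (iv3 F204414)) (tt N58902 (iv4 F171416)) (tt N68247 (iv5 F336037)) (tt N60642 F342149) (tt N56353 F165428))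
theorem Q57140 : ∀ i, i < 57140 → P i := stepQ 57139 Q57139 (allL N57139 (tt N62398 F336046) (tt N73414 F361998) (tt N67957 (iv2 F336075)) (tt N39386 F165430) (tt N83666 F336033) (tt N30337 (iv5 D107383)) (tt N67939 (iv6 F336031)) (tt N56355 F165431))
theorem Q57141 : ∀ i, i < 57141 → P i := stepQ 57140 Q57140 (allL N57140 (tt N47327 F336027) (tt N93809 D196839) (tt N93792 (iv2 F401899)) (tt N39387 F165432) (tt N30338 F165433) (tt N35282 F336028) (tt N30337 (iv6 D107384)) (tt N93810 D196840))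
theorem Q57142 : ∀ i, i < 57142 → P i := stepQ 57141 Q57141 (allL N57141 (tt N93795 (iv1 F401921)) (tt N30338 (iv0 D107385)) (tt N93793 F401998) (tt N93811 D196841) (tt N47228 F401999) (tt N65077 F402000) (tt N47227 F402001) (tt N93794 F402002))
theorem Q57143 : ∀ i, i < 57143 → P i := stepQ 57142 Q57142 (allL N57142 (tt N30338 (iv1 D107386)) (tt N93795 F401920) (tt N93794 (iv2 F402003)) (tt N93812 D196842) (tt N93813 D196843) (tt N65072 F402005) (tt N93814 D196844) (tt N93793 (iv7 F402004)))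
theorem Q57144 : ∀ i, i < 57144 → P i := stepQ 57143 Q57143 (allL N57143 (tt N93794 (iv1 F401911)) (tt N93793 F401919) (tt N93795 (iv2 F401915)) (tt N30342 F165434) (tt N93810 (iv4 F402008)) (tt N81000 F346357) (tt N56366 F165435) (tt N30338 (iv7 D107387)))
theorem Q57145 : ∀ i, i < 57145 → P i := stepQ 57144 Q57144 (allL N57144 (tt N93448 (iv1 F400773)) (tt N30339 (iv0 D107388)) (tt N93468 F400815) (tt N90245 F389085) (tt N90253 (iv4 F389122)) (tt N93815 D196845) (tt N93816 D196846) (tt N93467 F400812))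
theorem Q57146 : ∀ i, i < 57146 → P i := stepQ 57145 Q57145 (allL N57145 (tt N30339 (iv1 D107389)) (tt N93448 (iv0 F400772)) (tt N93467 (iv2 F400811)) (tt N81956 (iv3 F394593)) (tt N93817 D196847) (tt N81954 F394591) (tt N89988 (iv6 F390081)) (tt N93468 (iv7 F400814)))
theorem Q57147 : ∀ i, i < 57147 → P i := stepQ 57146 Q57146 (allL N57146 (tt N93818 D196848) (tt N65043 (iv0 F402112)) (tt N93753 (iv2 F401775)) (tt N30345 F165436) (tt N93819 D196850) (tt N30339 (iv5 D107390)) (tt N56365 F165437) (tt N80999 F346358))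
theorem Q57148 : ∀ i, i < 57148 → P i := stepQ 57147 Q57147 (allL N57147 (tt N93820 D196851) (tt N57086 (iv0 F389956)) (tt N93821 D196852) (tt N30340 (iv3 D107391)) (tt N74034 (iv4 F226654)) (tt N93822 D196853) (tt N93823 D196854) (tt N57155 (iv7 F165447)))
theorem Q57149 : ∀ i, i < 57149 → P i := stepQ 57148 Q57148 (allL N57148 (tt N93567 (iv1 F401167)) (tt N93824 D196855) (tt N57153 (iv2 F165443)) (tt N93822 (iv3 F402043)) (tt N93825 D196856) (tt N30340 (iv5 D107392)) (tt N93826 D196857) (tt N57156 (iv7 F165449)))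
theorem Q57150 : ∀ i, i < 57150 → P i := stepQ 57149 Q57149 (allL N57149 (tt N57026 (iv1 F211349)) (tt N74214 F227010) (tt N57154 (iv2 F165445)) (tt N93823 (iv3 F402045)) (tt N31533 F165438) (tt N93539 (iv5 F401082)) (tt N30340 (iv6 D107393)) (tt N68727 (iv7 F211447)))
theorem Q57151 : ∀ i, i < 57151 → P i := stepQ 57150 Q57150 (allL N57150 (tt N93824 (iv1 F402048)) (tt N93567 (iv0 F401166)) (tt N57156 (iv2 F165448)) (tt N73987 (iv3 F226470)) (tt N93827 D196858) (tt N30341 (iv5 D107394)) (tt N93828 D196859) (tt N57153 (iv7 F165444)))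
theorem Q57152 : ∀ i, i < 57152 → P i := stepQ 57151 Q57151 (allL N57151 (tt N74625 (iv1 F228438)) (tt N57063 (iv0 F165440)) (tt N57157 (iv2 F165450)) (tt N73988 (iv3 F226471)) (tt N31535 F165439) (tt N93609 (iv5 F401247)) (tt N30341 (iv6 D107395)) (tt N66040 (iv7 F203159)))
theorem Q57153 : ∀ i, i < 57153 → P i := stepQ 57152 Q57152 (allL N57152 (tt N78183 F318310) (tt N40865 F324275) (tt N81718 F318312) (tt N30343 (iv3 D107396)) (tt N33458 F165441) (tt N93829 D196860) (tt N93830 D196861) (tt N41050 F165442))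
theorem Q57154 : ∀ i, i < 57154 → P i := stepQ 57153 Q57153 (allL N57153 (tt N93831 D196862) (tt N93832 D196863) (tt N57148 F165443) (tt N93829 (iv3 F402052)) (tt N93833 D196864) (tt N30343 (iv5 D107397)) (tt N93834 D196865) (tt N57150 F165444))
theorem Q57155 : ∀ i, i < 57155 → P i := stepQ 57154 Q57154 (allL N57154 (tt N59144 (iv1 F211449)) (tt N93430 (iv0 F400722)) (tt N57149 F165445) (tt N93830 (iv3 F402057)) (tt N36238 F165446) (tt N74577 F228385) (tt N30343 (iv6 D107398)) (tt N67840 (iv7 F208145)))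
theorem Q57156 : ∀ i, i < 57156 → P i := stepQ 57155 Q57155 (allL N57155 (tt N59132 F401543) (tt N93443 F401544) (tt N93742 (iv2 F401741)) (tt N30344 (iv3 D107399)) (tt N93835 D196866) (tt N58160 F402072) (tt N93836 D196867) (tt N57147 F165447))
theorem Q57157 : ∀ i, i < 57157 → P i := stepQ 57156 Q57156 (allL N57156 (tt N93832 (iv1 F402065)) (tt N93831 F402062) (tt N57150 F165448) (tt N58160 (iv3 F402071)) (tt N93837 D196868) (tt N30344 (iv5 D107400)) (tt N93838 D196869) (tt N57148 F165449))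
theorem Q57158 : ∀ i, i < 57158 → P i := stepQ 57157 Q57157 (allL N57157 (tt N89986 (iv1 F388204)) (tt N59155 F172229) (tt N57151 F165450) (tt N93836 (iv3 F402089)) (tt N41454 F165451) (tt N74615 (iv5 F228430)) (tt N30344 (iv6 D107401)) (tt N65689 (iv7 F202240)))
theorem Q57159 : ∀ i, i < 57159 → P i := stepQ 57158 Q57158 (allL N57158 (tt N56884 (iv1 F165452)) (tt N30345 (iv0 D107402)) (tt N56882 F204576) (tt N93839 D196870) (tt N80994 (iv4 F362033)) (tt N66575 (iv5 F204574)) (tt N93840 D196871) (tt N56883 F204577))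
theorem Q57160 : ∀ i, i < 57160 → P i := stepQ 57159 Q57159 (allL N57159 (tt N30345 (iv1 D107403)) (tt N56884 F165453) (tt N56883 (iv2 F204578)) (tt N93841 D196872) (tt N80995 (iv4 F364763)) (tt N74533 (iv5 F228309)) (tt N93842 D196873) (tt N56882 (iv7 F204579)))
theorem Q57161 : ∀ i, i < 57161 → P i := stepQ 57160 Q57160 (allL N57160 (tt N93843 D196874) (tt N57979 (iv0 F356739)) (tt N56881 F165454) (tt N93844 D196875) (tt N30345 (iv4 D107404)) (tt N93480 (iv5 F400867)) (tt N35568 F165455) (tt N93479 (iv7 F400862)))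
theorem Q57162 : ∀ i, i < 57162 → P i := stepQ 57161 Q57161 (allL N57161 (tt N79170 (iv1 F351090)) (tt N79172 F351091) (tt N65050 (iv2 F351089)) (tt N30346 (iv3 D107411)) (tt N78054 (iv4 F245614)) (tt N58300 F351079) (tt N93845 D196876) (tt N59204 (iv7 F172323)))
theorem Q57163 : ∀ i, i < 57163 → P i := stepQ 57162 Q57162 (allL N57162 (tt N93846 D196877) (tt N57934 F400617) (tt N58178 (iv2 F351076)) (tt N58300 (iv3 F351072)) (tt N64581 (iv4 F351073)) (tt N30346 (iv5 D107412)) (tt N79132 F351071) (tt N59205 (iv7 F172325)))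
theorem Q57164 : ∀ i, i < 57164 → P i := stepQ 57163 Q57163 (allL N57163 (tt N66513 F211334) (tt N74211 F227006) (tt N59203 (iv2 F172321)) (tt N93845 (iv3 F402119)) (tt N30348 F165674) (tt N93847 D196878) (tt N30346 (iv6 D107413)) (tt N93234 (iv7 F400064)))
theorem Q57165 : ∀ i, i < 57165 → P i := stepQ 57164 Q57164 (allL N57164 (tt N30351 (iv1 F165677)) (tt N30347 (iv0 D107414)) (tt N56812 (iv2 F165676)) (tt N71100 (iv3 F219445)) (tt N93848 D196879) (tt N35815 F165675) (tt N56359 (iv6 F165679)) (tt N35815 F165678))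
theorem Q57166 : ∀ i, i < 57166 → P i := stepQ 57165 Q57165 (allL N57165 (tt N78248 F247366) (tt N56926 F165680) (tt N92921 (iv2 F398763)) (tt N65055 F353083) (tt N30347 (iv4 D107415)) (tt N59207 (iv5 F172329)) (tt N74225 (iv6 F227029)) (tt N92922 (iv7 F398770)))
theorem Q57167 : ∀ i, i < 57167 → P i := stepQ 57166 Q57166 (allL N57166 (tt N32047 F165685) (tt N36769 (iv0 F165686)) (tt N56798 F165681) (tt N39033 F165682) (tt N74225 (iv4 F227028)) (tt N56678 F165683) (tt N30347 (iv6 D107416)) (tt N56799 (iv7 F165689)))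
theorem Q57168 : ∀ i, i < 57168 → P i := stepQ 57167 Q57167 (allL N57167 (tt N55875 (iv1 F165695)) (tt N30631 (iv0 F165694)) (tt N55994 F165692) (tt N93849 D196880) (tt N30349 (iv4 D107419)) (tt N74709 F351846) (tt N93850 D196881) (tt N55993 F165693))
theorem Q57169 : ∀ i, i < 57169 → P i := stepQ 57168 Q57168 (allL N57168 (tt N61826 F209165) (tt N72179 (iv0 F221537)) (tt N72614 (iv2 F222755)) (tt N30351 F165697) (tt N93851 D196882) (tt N30349 (iv5 D107420)) (tt N56905 (iv6 F165698)) (tt N72613 F222750))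
theorem Q57170 : ∀ i, i < 57170 → P i := stepQ 57169 Q57169 (allL N57169 (tt N77918 F245306) (tt N93588 (iv0 F401220)) (tt N78050 (iv2 F245602)) (tt N30352 F165699) (tt N93850 (iv4 F402139)) (tt N45771 F327225) (tt N30349 (iv6 D107421)) (tt N93699 (iv7 F401604)))
theorem Q57171 : ∀ i, i < 57171 → P i := stepQ 57170 Q57170 (allL N57170 (tt N73744 F342481) (tt N93424 (iv0 F400694)) (tt N58181 (iv2 F351093)) (tt N30350 (iv3 D107422)) (tt N93849 (iv4 F402135)) (tt N57902 F342480) (tt N72880 (iv6 F342477)) (tt N58179 (iv7 F351099)))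
theorem Q57172 : ∀ i, i < 57172 → P i := stepQ 57171 Q57171 (allL N57171 (tt N57934 F400616) (tt N93846 F402123) (tt N59205 (iv2 F172324)) (tt N57902 (iv3 F351081)) (tt N93852 D196883) (tt N30350 (iv5 D107423)) (tt N93853 D196884) (tt N58178 (iv7 F351078)))
theorem Q57173 : ∀ i, i < 57173 → P i := stepQ 57172 Q57172 (allL N57172 (tt N74646 (iv1 F228465)) (tt N74649 (iv0 F228476)) (tt N59206 (iv2 F172326)) (tt N72880 F342476) (tt N30352 F165700) (tt N93854 D196885) (tt N30350 (iv6 D107424)) (tt N73047 (iv7 F342471)))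
theorem Q57174 : ∀ i, i < 57174 → P i := stepQ 57173 Q57173 (allL N57173 (tt N56926 (iv1 F247365)) (tt N78248 (iv0 F247364)) (tt N92922 (iv2 F398768)) (tt N58260 (iv3 F360134)) (tt N30351 (iv4 D107425)) (tt N59208 F172332) (tt N41468 (iv6 F165716)) (tt N92921 (iv7 F398765)))
theorem Q57175 : ∀ i, i < 57175 → P i := stepQ 57174 Q57174 (allL N57174 (tt N41457 (iv1 F165702)) (tt N30353 (iv0 D107426)) (tt N41456 F220815) (tt N72927 (iv3 F223619)) (tt N93855 D196886) (tt N31358 F220816) (tt N93856 D196887) (tt N41455 F220817))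
theorem Q57176 : ∀ i, i < 57176 → P i := stepQ 57175 Q57175 (allL N57175 (tt N30353 (iv1 D107427)) (tt N41457 F165707) (tt N41455 F220818) (tt N55259 (iv3 F363555)) (tt N93857 D196888) (tt N31359 F220819) (tt N55258 F363578) (tt N41456 F220820))
theorem Q57177 : ∀ i, i < 57177 → P i := stepQ 57176 Q57176 (allL N57176 (tt N41456 (iv1 F165708)) (tt N41455 F165706) (tt N30353 (iv2 D107428)) (tt N41466 F165703) (tt N62270 (iv4 F180523)) (tt N41466 F165704) (tt N93858 D196889) (tt N41457 F165705))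
theorem Q57178 : ∀ i, i < 57178 → P i := stepQ 57177 Q57177 (allL N57177 (tt N93859 D196890) (tt N93860 D196891) (tt N93858 (iv2 F402184)) (tt N30354 F165709) (tt N62271 (iv4 F180536)) (tt N93861 D196892) (tt N30353 (iv6 D107429)) (tt N93862 D196893))
theorem Q57179 : ∀ i, i < 57179 → P i := stepQ 57178 Q57178 (allL N57178 (tt N41471 (iv1 F165713)) (tt N30354 (iv0 D107430)) (tt N41468 (iv2 F165714)) (tt N93863 D196894) (tt N32036 F165710) (tt N93864 D196895) (tt N92922 (iv6 F398769)) (tt N41469 (iv7 F165712)))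
theorem Q57180 : ∀ i, i < 57180 → P i := stepQ 57179 Q57179 (allL N57179 (tt N30354 (iv1 D107431)) (tt N41471 F165717) (tt N41469 (iv2 F165720)) (tt N93865 D196896) (tt N32037 F165719) (tt N93866 D196897) (tt N74226 F227037) (tt N41468 F165718))
theorem Q57181 : ∀ i, i < 57181 → P i := stepQ 57180 Q57180 (allL N57180 (tt N93417 (iv1 F400673)) (tt N65474 (iv0 F201827)) (tt N41470 F165721) (tt N93861 (iv3 F402186)) (tt N93867 D196898) (tt N30354 (iv5 D107432)) (tt N41470 F165722) (tt N93415 (iv7 F400667)))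
theorem Q57182 : ∀ i, i < 57182 → P i := stepQ 57181 Q57181 (allL N57181 (tt N41469 (iv1 F165726)) (tt N41468 F165727) (tt N41471 F165723) (tt N93862 (iv3 F402188)) (tt N30357 F165724) (tt N93415 (iv5 F400668)) (tt N41462 F165725) (tt N30354 (iv7 D107433)))
theorem Q57183 : ∀ i, i < 57183 → P i := stepQ 57182 Q57182 (allL N57182 (tt N59076 F171995) (tt N35741 (iv0 F165737)) (tt N35673 F165734) (tt N41114 (iv3 F168143)) (tt N93868 D196899) (tt N30355 (iv5 D107435)) (tt N35581 F165735) (tt N41473 F165736))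
theorem Q57184 : ∀ i, i < 57184 → P i := stepQ 57183 Q57183 (allL N57183 (tt N30358 (iv1 D107436)) (tt N70214 F216991) (tt N70215 (iv2 F216994)) (tt N41233 (iv3 F165739)) (tt N39435 F165740) (tt N67286 (iv5 F207020)) (tt N57518 (iv6 F166996)) (tt N35543 F165738))
theorem Q57185 : ∀ i, i < 57185 → P i := stepQ 57184 Q57184 (allL N57184 (tt N70215 (iv1 F216999)) (tt N35543 (iv0 F165744)) (tt N70214 F216988) (tt N30362 F165741) (tt N54530 (iv4 F329003)) (tt N56507 F165742) (tt N41465 F165743) (tt N30358 (iv7 D107437)))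
theorem Q57186 : ∀ i, i < 57186 → P i := stepQ 57185 Q57185 (allL N57185 (tt N41466 (iv1 F165745)) (tt N30359 (iv0 D107438)) (tt N31521 F180608) (tt N93331 (iv3 F400436)) (tt N93869 D196900) (tt N31518 F180609) (tt N93870 D196901) (tt N31516 F180610))
theorem Q57187 : ∀ i, i < 57187 → P i := stepQ 57186 Q57186 (allL N57186 (tt N30359 (iv1 D107439)) (tt N41466 F165750) (tt N31516 F180604) (tt N41529 F180605) (tt N93871 D196902) (tt N31513 F180606) (tt N93872 D196903) (tt N31521 F180607))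
theorem Q57188 : ∀ i, i < 57188 → P i := stepQ 57187 Q57187 (allL N57187 (tt N31521 F172282) (tt N31516 F172283) (tt N30359 (iv2 D107440)) (tt N41457 F165746) (tt N70901 (iv4 F218706)) (tt N41457 F165747) (tt N93873 D196904) (tt N41466 F165748))
theorem Q57189 : ∀ i, i < 57189 → P i := stepQ 57188 Q57188 (allL N57188 (tt N93874 D196905) (tt N93875 D196906) (tt N93873 (iv2 F402238)) (tt N30360 F165752) (tt N70902 (iv4 F218712)) (tt N93876 D196907) (tt N30359 (iv6 D107441)) (tt N93877 D196908))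
theorem Q57190 : ∀ i, i < 57190 → P i := stepQ 57189 Q57189 (allL N57189 (tt N30360 (iv1 D107442)) (tt N41462 F165753) (tt N41460 (iv2 F165756)) (tt N93878 D196909) (tt N32034 F165755) (tt N93879 D196910) (tt N56811 (iv6 F165757)) (tt N41459 F165754))
theorem Q57191 : ∀ i, i < 57191 → P i := stepQ 57190 Q57190 (allL N57190 (tt N93880 D196911) (tt N93847 (iv0 F402127)) (tt N41461 F165758) (tt N93876 (iv3 F402242)) (tt N93881 D196912) (tt N30360 (iv5 D107443)) (tt N41461 F165759) (tt N93882 D196913))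
theorem Q57192 : ∀ i, i < 57192 → P i := stepQ 57191 Q57191 (allL N57191 (tt N41460 (iv1 F165763)) (tt N41459 F165764) (tt N41462 F165760) (tt N93877 (iv3 F402244)) (tt N30362 F165761) (tt N93882 (iv5 F402263)) (tt N41471 F165762) (tt N30360 (iv7 D107444)))
theorem Q57193 : ∀ i, i < 57193 → P i := stepQ 57192 Q57192 (allL N57192 (tt N93530 F401054) (tt N93883 D196914) (tt N93495 (iv2 F400927)) (tt N30363 (iv3 D107446)) (tt N33104 F165766) (tt N59096 F180732) (tt N93884 D196915) (tt N41486 (iv7 F180674)))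
theorem Q57194 : ∀ i, i < 57194 → P i := stepQ 57193 Q57193 (allL N57193 (tt N93885 D196916) (tt N93523 F401024) (tt N41490 (iv2 F180680)) (tt N93884 (iv3 F402272)) (tt N55193 (iv4 F336842)) (tt N93886 D196917) (tt N30363 (iv6 D107449)) (tt N81708 (iv7 F357272)))
theorem Q57195 : ∀ i, i < 57195 → P i := stepQ 57194 Q57194 (allL N57194 (tt N72548 F222655) (tt N57102 (iv0 F220059)) (tt N93887 D196918) (tt N30364 (iv3 D107451)) (tt N62296 (iv4 F180621)) (tt N59099 (iv5 F180717)) (tt N93888 D196919) (tt N41489 F180682))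
theorem Q57196 : ∀ i, i < 57196 → P i := stepQ 57195 Q57195 (allL N57195 (tt N57650 F364876) (tt N93889 D196920) (tt N41488 F180681) (tt N93888 (iv3 F402287)) (tt N62293 (iv4 F180615)) (tt N93890 D196921) (tt N30364 (iv6 D107453)) (tt N93891 D196922))
theorem Q57197 : ∀ i, i < 57197 → P i := stepQ 57196 Q57196 (allL N57196 (tt N43403 F322055) (tt N30366 (iv0 D107455)) (tt N36481 F322056) (tt N93892 D196923) (tt N36353 F322057) (tt N93893 D196924) (tt N78232 (iv6 F361912)) (tt N36622 F322058))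
theorem Q57198 : ∀ i, i < 57198 → P i := stepQ 57197 Q57197 (allL N57197 (tt N30366 (iv1 D107456)) (tt N43403 F322059) (tt N36622 F322060) (tt N89067 (iv3 F385031)) (tt N36354 (iv4 F322626)) (tt N93894 D196925) (tt N80357 (iv6 F330109)) (tt N36481 F322061))
theorem Q57199 : ∀ i, i < 57199 → P i := stepQ 57198 Q57198 (allL N57198 (tt N67070 F322062) (tt N67076 F322063) (tt N43583 F322064) (tt N30367 F165770) (tt N77464 F322065) (tt N30366 (iv5 D107457)) (tt N57091 F165771) (tt N43404 F322066))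
theorem Q57200 : ∀ i, i < 57200 → P i := stepQ 57199 Q57199 (allL N57199 (tt N59110 (iv1 F172047)) (tt N30367 (iv0 D107459)) (tt N59107 F172036) (tt N93895 D196926) (tt N50348 (iv4 F335542)) (tt N41194 F165775) (tt N93896 D196927) (tt N59108 (iv7 F172040)))
theorem Q57201 : ∀ i, i < 57201 → P i := stepQ 57200 Q57200 (allL N57200 (tt N30367 (iv1 D107460)) (tt N59110 F172046) (tt N59108 F172042) (tt N93322 (iv3 F400394)) (tt N50349 (iv4 F335544)) (tt N41195 F165776) (tt N78379 F340039) (tt N59107 F172037))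
theorem Q57202 : ∀ i, i < 57202 → P i := stepQ 57201 Q57201 (allL N57201 (tt N53239 F359363) (tt N55258 (iv0 F366905)) (tt N90049 (iv2 F388413)) (tt N30370 (iv3 D107463)) (tt N72454 (iv4 F222526)) (tt N83139 F362355) (tt N78244 (iv6 F247347)) (tt N56924 F165779))
theorem Q57203 : ∀ i, i < 57203 → P i := stepQ 57202 Q57202 (allL N57202 (tt N65476 (iv1 F201843)) (tt N85215 (iv0 F371919)) (tt N56923 F165780) (tt N83139 (iv3 F362354)) (tt N36405 F339926) (tt N30370 (iv5 D107464)) (tt N32781 F339927) (tt N56925 F165781))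
theorem Q57204 : ∀ i, i < 57204 → P i := stepQ 57203 Q57203 (allL N57203 (tt N72122 F221375) (tt N72127 (iv0 F221395)) (tt N71517 (iv2 F220137)) (tt N30373 F165782) (tt N54369 (iv4 F327134)) (tt N78245 (iv5 F247354)) (tt N30371 (iv6 D107465)) (tt N78245 (iv7 F247355)))
theorem Q57205 : ∀ i, i < 57205 → P i := stepQ 57204 Q57204 (allL N57204 (tt N93870 F402223) (tt N43584 F359408) (tt N93897 D196928) (tt N30372 (iv3 D107466)) (tt N70918 (iv4 F218760)) (tt N93898 D196929) (tt N93899 D196930) (tt N56922 F165783))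
theorem Q57206 : ∀ i, i < 57206 → P i := stepQ 57205 Q57205 (allL N57205 (tt N85215 (iv1 F371920)) (tt N65476 (iv0 F201842)) (tt N56925 F165784) (tt N93898 (iv3 F402333)) (tt N61217 F345199) (tt N30372 (iv5 D107467)) (tt N93900 D196931) (tt N56923 F165785))
theorem Q57207 : ∀ i, i < 57207 → P i := stepQ 57206 Q57206 (allL N57206 (tt N92921 (iv1 F398767)) (tt N92922 (iv0 F398772)) (tt N56926 F165786) (tt N93899 (iv3 F402338)) (tt N30373 F165787) (tt N93846 (iv5 F402121)) (tt N30372 (iv6 D107468)) (tt N78248 (iv7 F247363)))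
theorem Q57208 : ∀ i, i < 57208 → P i := stepQ 57207 Q57207 (allL N57207 (tt N41088 F165794) (tt N37957 F168145) (tt N59112 (iv2 F172056)) (tt N70224 (iv3 F217032)) (tt N91413 (iv4 F393027)) (tt N37665 F165793) (tt N30374 (iv6 D107471)) (tt N59129 (iv7 F172160)))
theorem Q57209 : ∀ i, i < 57209 → P i := stepQ 57208 Q57208 (allL N57208 (tt N36033 F165800) (tt N60210 F175914) (tt N60209 (iv2 F175908)) (tt N30375 (iv3 D107472)) (tt N44242 F165797) (tt N41192 F165795) (tt N36086 F165796) (tt N59111 (iv7 F172048)))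
theorem Q57210 : ∀ i, i < 57210 → P i := stepQ 57209 Q57209 (allL N57209 (tt N93901 D196932) (tt N93902 D196933) (tt N57657 (iv2 F167330)) (tt N83592 F361219) (tt N30380 F165811) (tt N93903 D196934) (tt N30379 (iv6 D107478)) (tt N83589 (iv7 F361220)))
theorem Q57211 : ∀ i, i < 57211 → P i := stepQ 57210 Q57210 (allL N57210 (tt N60256 (iv1 F176056)) (tt N30380 (iv0 D107479)) (tt N60254 (iv2 F176054)) (tt N93904 D196935) (tt N69596 (iv4 F409408)) (tt N87586 (iv5 F379816)) (tt N93905 D196937) (tt N60255 F176055))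
theorem Q57212 : ∀ i, i < 57212 → P i := stepQ 57211 Q57211 (allL N57211 (tt N30380 (iv1 D107480)) (tt N60256 F176052) (tt N60255 (iv2 F176048)) (tt N83748 (iv3 F364666)) (tt N69597 F364663) (tt N56668 (iv5 F165812)) (tt N92200 F396216) (tt N60254 (iv7 F176053)))
theorem Q57213 : ∀ i, i < 57213 → P i := stepQ 57212 Q57212 (allL N57212 (tt N60255 (iv1 F176046)) (tt N60254 F176051) (tt N60256 (iv2 F176049)) (tt N86668 (iv3 F376731)) (tt N83589 F361221) (tt N86668 (iv5 F376733)) (tt N51570 (iv6 F178350)) (tt N30380 (iv7 D107481)))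
theorem Q57214 : ∀ i, i < 57214 → P i := stepQ 57213 Q57213 (allL N57213 (tt N41091 (iv1 F165813)) (tt N30381 (iv0 D107482)) (tt N41090 (iv2 F182547)) (tt N71364 F219956) (tt N41531 F166902) (tt N93906 D196938) (tt N93907 D196939) (tt N41089 F182549))
theorem Q57215 : ∀ i, i < 57215 → P i := stepQ 57214 Q57214 (allL N57214 (tt N30381 (iv1 D107483)) (tt N41091 (iv0 F165815)) (tt N41089 F182546) (tt N93908 D196940) (tt N41543 (iv4 F166898)) (tt N93909 D196941) (tt N93910 D196942) (tt N41090 (iv7 F182545)))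
theorem Q57216 : ∀ i, i < 57216 → P i := stepQ 57215 Q57215 (allL N57215 (tt N41090 (iv1 F165820)) (tt N41089 F165819) (tt N30381 (iv2 D107484)) (tt N33529 F165816) (tt N30387 F165817) (tt N52056 (iv5 F306976)) (tt N55255 F359492) (tt N41091 F165818))
theorem Q57217 : ∀ i, i < 57217 → P i := stepQ 57216 Q57216 (allL N57216 (tt N55253 (iv1 F359500)) (tt N55252 F359496) (tt N55255 F359490) (tt N30382 F165821) (tt N30388 F165822) (tt N91859 (iv5 F394742)) (tt N30381 (iv6 D107485)) (tt N55136 (iv7 F359495)))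
theorem Q57218 : ∀ i, i < 57218 → P i := stepQ 57217 Q57217 (allL N57217 (tt N33536 (iv1 F165835)) (tt N30382 (iv0 D107486)) (tt N33534 (iv2 F165826)) (tt N93911 D196943) (tt N32327 F165823) (tt N93912 D196944) (tt N68074 (iv6 F209119)) (tt N32326 F165825))
theorem Q57219 : ∀ i, i < 57219 → P i := stepQ 57218 Q57218 (allL N57218 (tt N79256 (iv1 F350488)) (tt N77802 (iv0 F350485)) (tt N33535 F165836) (tt N91859 (iv3 F394740)) (tt N93913 D196945) (tt N30382 (iv5 D107487)) (tt N47645 F346855) (tt N91856 (iv7 F394721)))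
theorem Q57220 : ∀ i, i < 57220 → P i := stepQ 57219 Q57219 (allL N57219 (tt N32326 (iv1 F165840)) (tt N33534 F165841) (tt N33536 F165837) (tt N55136 F359498) (tt N30384 F165838) (tt N91856 (iv5 F394720)) (tt N41096 F165839) (tt N30382 (iv7 D107488)))
theorem Q57221 : ∀ i, i < 57221 → P i := stepQ 57220 Q57220 (allL N57220 (tt N58989 (iv1 F171696)) (tt N30872 F171689) (tt N58988 F171687) (tt N30383 (iv3 D107489)) (tt N61769 (iv4 F179456)) (tt N56214 F165842) (tt N68655 (iv6 F211299)) (tt N33539 F165843))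
theorem Q57222 : ∀ i, i < 57222 → P i := stepQ 57221 Q57221 (allL N57221 (tt N57120 (iv1 F397065)) (tt N93914 D196946) (tt N93572 (iv2 F401188)) (tt N30385 (iv3 D107491)) (tt N58396 F169277) (tt N41486 (iv5 F166891)) (tt N93915 D196947) (tt N59096 (iv7 F180728)))
theorem Q57223 : ∀ i, i < 57223 → P i := stepQ 57222 Q57222 (allL N57222 (tt N85626 F373268) (tt N87630 F379944) (tt N59100 F180726) (tt N93916 D196948) (tt N30385 (iv4 D107492)) (tt N93917 D196949) (tt N93918 D196950) (tt N59097 (iv7 F180729)))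
theorem Q57224 : ∀ i, i < 57224 → P i := stepQ 57223 Q57223 (allL N57223 (tt N93919 D196951) (tt N93536 (iv0 F407856)) (tt N59101 F180727) (tt N93915 (iv3 F402424)) (tt N93918 (iv4 F402432)) (tt N93920 D196953) (tt N30385 (iv6 D107494)) (tt N93921 D196954))
theorem Q57225 : ∀ i, i < 57225 → P i := stepQ 57224 Q57224 (allL N57224 (tt N71419 F228376) (tt N71423 (iv0 F336151)) (tt N93922 D196955) (tt N30386 (iv3 D107496)) (tt N93923 D196956) (tt N41489 F166901) (tt N93924 D196957) (tt N59099 F180724))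
theorem Q57226 : ∀ i, i < 57226 → P i := stepQ 57225 Q57225 (allL N57225 (tt N87630 (iv1 F379945)) (tt N85626 F373269) (tt N59097 F180730) (tt N70887 (iv3 F218664)) (tt N30386 (iv4 D107497)) (tt N93925 D196958) (tt N93926 D196959) (tt N59100 F180725))
theorem Q57227 : ∀ i, i < 57227 → P i := stepQ 57226 Q57226 (allL N57226 (tt N93521 (iv1 F406836)) (tt N93927 D196961) (tt N59098 (iv2 F180745)) (tt N93924 (iv3 F402444)) (tt N93926 (iv4 F402451)) (tt N93928 D196962) (tt N30386 (iv6 D107499)) (tt N93929 D196963))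
theorem Q57228 : ∀ i, i < 57228 → P i := stepQ 57227 Q57227 (allL N57227 (tt N93930 D196964) (tt N93931 D196965) (tt N30388 F165846) (tt N41491 F165847) (tt N55255 (iv4 F359488)) (tt N93932 D196966) (tt N30387 (iv6 D107500)) (tt N55251 F359487))
theorem Q57229 : ∀ i, i < 57229 → P i := stepQ 57228 Q57228 (allL N57228 (tt N55251 (iv1 F359501)) (tt N30388 (iv0 D107501)) (tt N93930 (iv2 F402478)) (tt N93933 D196968) (tt N93934 D196969) (tt N93935 D196970) (tt N93936 D196971) (tt N93931 (iv7 F402476)))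
theorem Q57230 : ∀ i, i < 57230 → P i := stepQ 57229 Q57229 (allL N57229 (tt N30388 (iv1 D107502)) (tt N55251 F359489) (tt N93931 F402477) (tt N93937 D196972) (tt N93938 D196973) (tt N93939 D196974) (tt N59057 F400760) (tt N93930 (iv7 F402479)))
theorem Q57231 : ∀ i, i < 57231 → P i := stepQ 57230 Q57230 (allL N57230 (tt N93940 D196975) (tt N93941 D196976) (tt N93932 (iv2 F402462)) (tt N30389 F165848) (tt N71646 F360844) (tt N30388 (iv5 D107503)) (tt N57076 F165849) (tt N93942 D196977))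
theorem Q57232 : ∀ i, i < 57232 → P i := stepQ 57231 Q57231 (allL N57231 (tt N93931 (iv1 F402460)) (tt N93930 F402459) (tt N55251 F359485) (tt N30390 F165850) (tt N55136 F359499) (tt N93942 (iv5 F402506)) (tt N55135 (iv6 F302688)) (tt N30388 (iv7 D107504)))
theorem Q57233 : ∀ i, i < 57233 → P i := stepQ 57232 Q57232 (allL N57232 (tt N30389 (iv1 D107506)) (tt N41503 F165851) (tt N41501 F172225) (tt N93943 D196978) (tt N93606 (iv4 F401241)) (tt N59155 (iv5 F172224)) (tt N93944 D196979) (tt N41500 (iv7 F172226)))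
theorem Q57234 : ∀ i, i < 57234 → P i := stepQ 57233 Q57233 (allL N57233 (tt N93945 D196980) (tt N93946 D196981) (tt N41502 F165852) (tt N71647 (iv3 F360843)) (tt N30389 (iv4 D107507)) (tt N93947 D196982) (tt N57080 F165853) (tt N93948 D196983))
theorem Q57235 : ∀ i, i < 57235 → P i := stepQ 57234 Q57234 (allL N57234 (tt N41501 (iv1 F165857)) (tt N41500 F165858) (tt N41503 F165854) (tt N93942 (iv3 F402504)) (tt N93948 (iv4 F402547)) (tt N30390 F165855) (tt N93949 D196984) (tt N30389 (iv7 D107508)))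
theorem Q57236 : ∀ i, i < 57236 → P i := stepQ 57235 Q57235 (allL N57235 (tt N36073 (iv1 F165861)) (tt N30391 (iv0 D107509)) (tt N36074 (iv2 F165860)) (tt N30888 (iv3 F165863)) (tt N39573 F165859) (tt N65623 (iv5 F202144)) (tt N36034 (iv6 F165864)) (tt N30882 F165862))
theorem Q57237 : ∀ i, i < 57237 → P i := stepQ 57236 Q57236 (allL N57236 (tt N65926 F202889) (tt N35758 (iv0 F202620)) (tt N71669 (iv2 F220356)) (tt N30393 F165865) (tt N58603 (iv4 F169739)) (tt N30391 (iv5 D107510)) (tt N35681 (iv6 F165867)) (tt N35577 F165866))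
theorem Q57238 : ∀ i, i < 57238 → P i := stepQ 57237 Q57237 (allL N57237 (tt N93950 D196985) (tt N69031 F219460) (tt N71670 (iv2 F220363)) (tt N30394 F165868) (tt N46102 (iv4 F328182)) (tt N36766 F165870) (tt N30391 (iv6 D107511)) (tt N36765 F165869))
theorem Q57239 : ∀ i, i < 57239 → P i := stepQ 57238 Q57238 (allL N57238 (tt N93951 D196986) (tt N93872 (iv0 F402237)) (tt N93952 D196987) (tt N30392 (iv3 D107512)) (tt N70942 (iv4 F218846)) (tt N93953 D196988) (tt N93954 D196989) (tt N41509 F165871))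
theorem Q57240 : ∀ i, i < 57240 → P i := stepQ 57239 Q57239 (allL N57239 (tt N93854 (iv1 F402159)) (tt N93955 D196990) (tt N41507 F165872) (tt N93953 (iv3 F402575)) (tt N93956 D196991) (tt N30392 (iv5 D107513)) (tt N73470 F339995) (tt N41510 F165873))
theorem Q57241 : ∀ i, i < 57241 → P i := stepQ 57240 Q57240 (allL N57240 (tt N74226 (iv1 F227033)) (tt N74225 F227030) (tt N41508 F165874) (tt N93954 (iv3 F402577)) (tt N30394 F165875) (tt N92890 (iv5 F398661)) (tt N30392 (iv6 D107514)) (tt N36781 F165876))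

end Cfsg.Agent.Helper17.ONTC
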